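import Mathlib
import Cfsg.Statements.S0932
import Cfsg.Agent.Helper5.IndFun

set_option autoImplicit false
open Cfsg

namespace Cfsg.Agent.S0932

open Cfsg.Agent.Helper5

theorem result {G : Type*} [Group G] [Fintype G] (H : Subgroup G) (ξ : H → ℂ) (hξ : Cfsg.IsCharacter H ξ) (g : G) : Cfsg.inducedCentralChar H ξ g = Cfsg.centralChar (Cfsg.indFun H ξ) g := by
  classical
  have : Fintype H := Fintype.ofFinite H
  unfold Cfsg.inducedCentralChar Cfsg.centralChar
  rw [indFun_eq_class_sum H ξ g, indFun_apply_one]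
  set S := ∑ h : H, if IsConj g (h : G) then ξ h else 0 with hS
  have hL : ∑ᶠ h ∈ {h : H | IsConj g (h : G)}, ξ h / ξ 1 = S / ξ 1 := by
    rw [finsum_mem_eq_finite_toFinset_sum _ (Set.toFinite _), hS, Finset.sum_div]
    simp only [ite_div, zero_div]
    rw [← Finset.sum_filter]
    apply Finset.sum_congr
    · ext h; simp
    · intro h _; rfl
  rw [hL]
  set C := Subgroup.centralizer ({g} : Set G) with hC
  have hH0 : (Nat.card H : ℂ) ≠ 0 := by exact_mod_cast Nat.card_pos.ne'
  have hidx0 : (H.index : ℂ) ≠ 0 := by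
    exact_mod_cast (Subgroup.index_ne_zero_of_finite (H := H))
  have hcard : (C.index : ℂ) * (Nat.card C : ℂ) = (Nat.card H : ℂ) * (H.index : ℂ) := by
    have h1 := C.index_mul_card
    have h2 := H.card_mul_index
    exact_mod_cast h1.trans h2.symm
  have : (C.index : ℂ) * ((Nat.card H : ℂ)⁻¹ * ((Nat.card C : ℂ) * S)) = (H.index : ℂ) * S := by
    calc (C.index : ℂ) * ((Nat.card H : ℂ)⁻¹ * ((Nat.card C : ℂ) * S))
        = (Nat.card H : ℂ)⁻¹ * ((C.index : ℂ) * (Nat.card C : ℂ)) * S := by ring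
      _ = (Nat.card H : ℂ)⁻¹ * ((Nat.card H : ℂ) * (H.index : ℂ)) * S := by rw [hcard]
      _ = (H.index : ℂ) * S := by rw [← mul_assoc, inv_mul_cancel₀ hH0, one_mul]
  rw [this, mul_div_mul_left _ _ hidx0]

end Cfsg.Agent.S0932
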