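import Mathlib
import Cfsg.Statements.S0933
import Cfsg.Agent.Helper5.BlockBasic
import Cfsg.Agent.S0932

set_option autoImplicit false
open Cfsg

namespace Cfsg.Agent.S0933

open Cfsg.Agent.Helper5.CC Cfsg.Agent.Helper5.Loc Cfsg.Agent.Helper24

section aux

variable {G : Type*} [Group G]

/-- The indicator on `H` of the `G`-class of `g`. -/
noncomputable def fusionIndicator (H : Subgroup G) (g : G) : H → ℂ :=
  fun h => classIndicator g (h : G)

theorem isClassFunction_fusionIndicator (H : Subgroup G) (g : G) :
    IsClassFunction H (fusionIndicator H g) := by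
  intro h x
  simp only [fusionIndicator, Subgroup.coe_mul, Subgroup.coe_inv]
  exact isClassFunction_classIndicator g (h : G) (x : G)

theorem inducedCentralChar_eq_act (H : Subgroup G) [Fintype H] (ξ : IrrCharacter H) (g : G) :
    inducedCentralChar H (ξ : H → ℂ) g = act (fusionIndicator H g) ξ := by
  classical
  rw [inducedCentralChar, act, finsum_mem_eq_sum_ite, Finset.sum_div]
  refine Finset.sum_congr rfl fun h _ => ?_
  by_cases hc : IsConj g (h : G)
  · rw [if_pos (by exact hc), fusionIndicator, classIndicator_of_isConj hc, one_mul]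
  · rw [if_neg (by exact hc), fusionIndicator, classIndicator_of_not_isConj hc, zero_mul, zero_div]

end aux

/-- Let H be a subgroup of the finite group G and ξ an irreducible character of H such that the induced function ξ^G is an irreducible character of G. Then, relative to any maximal ideal M of the algebraic integers containing the prime p, the block of ξ induces the block of ξ^G. -/
theorem result {G : Type*} [Group G] [Fintype G] (p : ℕ) [Fact p.Prime] (M : Ideal Cfsg.AlgInt) (hM : Cfsg.IsPModular p M) (H : Subgroup G) (ξ : Cfsg.IrrCharacter H) (hind : Cfsg.IsIrrCharacter G (Cfsg.indFun H (ξ : H → ℂ))) : Cfsg.IsInducedBlock M H (Cfsg.blockOf M (ξ : H → ℂ)) (Cfsg.blockOf M (Cfsg.indFun H (ξ : H → ℂ))) := by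
  classical
  have : Fintype H := Fintype.ofFinite H
  have hMp := isPrime_of_isPModular hM
  refine ⟨isPBlock_blockOf ξ, ⟨⟨indFun H (ξ : H → ℂ), hind⟩, rfl⟩, ?_⟩
  intro ξ' hξ' χ' hχ' g
  have h1 : MemLocalIdeal M (inducedCentralChar H (ξ' : H → ℂ) g -
      inducedCentralChar H (ξ : H → ℂ) g) := by
    rw [inducedCentralChar_eq_act, inducedCentralChar_eq_act]
    apply act_sub_act_memLocalIdeal hMp (isClassFunction_fusionIndicator H g) _
      (sameBlock_symm hξ')
    intro t
    exact memLocalRing_classIndicator hMp g _
  have h2 : MemLocalIdeal M (inducedCentralChar H (ξ : H → ℂ) g - centralChar (χ' : G → ℂ) g) := by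
    rw [Cfsg.Agent.S0932.result H (ξ : H → ℂ) (IsIrrCharacter.isCharacter ξ.2) g]
    exact hχ' g
  have := li_add hMp h1 h2
  rwa [sub_add_sub_cancel] at this

end Cfsg.Agent.S0933
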