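import Cfsg.Statements.S1489
import Cfsg.Agent.Helper8.IndTrans
import Cfsg.Agent.Helper8.Brauer
import Cfsg.Agent.Helper8.CharComp
import Cfsg.Agent.Helper8.Inner
import Cfsg.Agent.Helper8.PosDef
import Cfsg.Agent.Helper24.Expansion
import Cfsg.Agent.Helper24.Induced
import Cfsg.Agent.Helper5.IndFun

set_option autoImplicit false
open Cfsg

namespace Cfsg.Agent.S1489

open Cfsg.Agent.Helper24

/-- The induced function of an irreducible character is nonzero, hence of nonzero norm. -/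
theorem norm_ind_irr_ne_zero {G : Type*} [Group G] [Fintype G] (T : Subgroup G) (ξ : T → ℂ)
    (hξ : Cfsg.IsIrrCharacter T ξ) :
    Cfsg.classInner (Cfsg.indFun T ξ) (Cfsg.indFun T ξ) ≠ 0 := by
  intro h
  have h0 := Cfsg.Agent.Helper8.eq_zero_of_classInner_self_eq_zero h
  have h1 : Cfsg.indFun T ξ 1 = 0 := by rw [h0]; rfl
  rw [Cfsg.Agent.Helper5.indFun_apply_one] at h1
  obtain ⟨d, hd, hd1⟩ := Cfsg.Agent.Helper8.irr_degree_pos hξ
  rw [hd1] at h1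
  have hi : (T.index : ℂ) ≠ 0 := Nat.cast_ne_zero.mpr (Subgroup.index_ne_zero_of_finite)
  have hd0 : (d : ℂ) ≠ 0 := Nat.cast_ne_zero.mpr hd.ne'
  exact (mul_ne_zero hi hd0) h1

/-- Let H be a normal subgroup of the finite group G, θ an irreducible character of H, and T the inertia group of θ (the elements g with θ(g h g⁻¹) = θ(h) for all h ∈ H). If ψ and ψ' are irreducible characters of T having nonzero inner product with the function induced from θ to T, then the function induced from ψ to G is an irreducible character of G, and it equals the one induced from ψ' only if ψ = ψ'. -/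
theorem result {G : Type*} [Group G] [Fintype G] (H T : Subgroup G) [hN : H.Normal] [Fintype T] (θ : H → ℂ) (hθ : Cfsg.IsIrrCharacter H θ) (hT : ∀ g : G, g ∈ T ↔ ∀ h : H, θ ⟨g * h * g⁻¹, hN.conj_mem h h.2 g⟩ = θ h) (hHT : H ≤ T) (ψ ψ' : T → ℂ) (hψ : Cfsg.IsIrrCharacter T ψ) (hψ' : Cfsg.IsIrrCharacter T ψ') (hc : Cfsg.classInner (Cfsg.indFun (H.subgroupOf T) (fun x => θ ⟨(x : T), Subgroup.mem_subgroupOf.mp x.2⟩)) ψ ≠ 0) (hc' : Cfsg.classInner (Cfsg.indFun (H.subgroupOf T) (fun x => θ ⟨(x : T), Subgroup.mem_subgroupOf.mp x.2⟩)) ψ' ≠ 0) : Cfsg.IsIrrCharacter G (Cfsg.indFun T ψ) ∧ (Cfsg.indFun T ψ = Cfsg.indFun T ψ' → ψ = ψ') := by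
  classical
  have hKn : (H.subgroupOf T).Normal := inferInstance
  have hθTirr : Cfsg.IsIrrCharacter (H.subgroupOf T)
      (fun x => θ ⟨(x : T), Subgroup.mem_subgroupOf.mp x.2⟩) :=
    Cfsg.Agent.Helper8.isIrrCharacter_comp_surjective
      (Subgroup.subgroupOfEquivOfLe hHT).toMonoidHom (Subgroup.subgroupOfEquivOfLe hHT).surjective hθ
  have hΦchar : Cfsg.IsCharacter T (Cfsg.indFun (H.subgroupOf T)
      (fun x => θ ⟨(x : T), Subgroup.mem_subgroupOf.mp x.2⟩)) :=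
    isCharacter_indFun _ (IsIrrCharacter.isCharacter hθTirr)
  have htrans : Cfsg.indFun T (Cfsg.indFun (H.subgroupOf T)
      (fun x => θ ⟨(x : T), Subgroup.mem_subgroupOf.mp x.2⟩)) = Cfsg.indFun H θ :=
    Cfsg.Agent.Helper8.indFun_trans H T hHT θ
  generalize hΦ : Cfsg.indFun (H.subgroupOf T)
      (fun x => θ ⟨(x : T), Subgroup.mem_subgroupOf.mp x.2⟩) = Φ at hc hc' hΦchar htrans
  -- norms
  have e1 : (Nat.card (H.subgroupOf T) : ℂ) * Cfsg.classInner Φ Φ = (Nat.card T : ℂ) := by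
    rw [← hΦ, Cfsg.Agent.Helper8.card_mul_classInner_indFun_self (H.subgroupOf T) _ hθTirr]
    congr 1
    apply Nat.card_congr
    refine Equiv.subtypeUnivEquiv ?_
    intro t k
    have := ((hT (t : G)).mp t.2) ⟨((k : T) : G), Subgroup.mem_subgroupOf.mp k.2⟩
    exact this
  have e2 : (Nat.card H : ℂ) * Cfsg.classInner (Cfsg.indFun H θ) (Cfsg.indFun H θ)
      = (Nat.card T : ℂ) := by
    rw [Cfsg.Agent.Helper8.card_mul_classInner_indFun_self H θ hθ]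
    congr 1
    apply Nat.card_congr
    exact Equiv.subtypeEquivRight (fun g => (hT g).symm)
  have hH0 : (Nat.card H : ℂ) ≠ 0 := Nat.cast_ne_zero.mpr Nat.card_pos.ne'
  have e3 : Cfsg.classInner (Cfsg.indFun T Φ) (Cfsg.indFun T Φ) = Cfsg.classInner Φ Φ := by
    rw [Cfsg.Agent.Helper8.card_subgroupOf_of_le hHT] at e1
    rw [htrans]
    exact mul_left_cancel₀ hH0 (e2.trans e1.symm)
  -- expansion
  have fT : Fintype (IrrCharacter T) := Fintype.ofFinite _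
  have fG : Fintype (IrrCharacter G) := Fintype.ofFinite _
  obtain ⟨n, hn⟩ := IsCharacter.exists_nat_coeff hΦchar
  have hm : ∀ ξ η : IrrCharacter T, ∃ m : ℕ,
      Cfsg.classInner (Cfsg.indFun T (ξ : T → ℂ)) (Cfsg.indFun T (η : T → ℂ)) = m :=
    fun ξ η => IsCharacter.classInner_nat
      (isCharacter_indFun T (IsIrrCharacter.isCharacter ξ.2))
      (isCharacter_indFun T (IsIrrCharacter.isCharacter η.2))
  choose m hm using hm
  have hmpos : ∀ ξ : IrrCharacter T, 1 ≤ m ξ ξ := by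
    intro ξ
    have := norm_ind_irr_ne_zero T (ξ : T → ℂ) ξ.2
    rw [hm] at this
    have : m ξ ξ ≠ 0 := by exact_mod_cast this
    omega
  have hInd : Cfsg.indFun T Φ = ∑ ξ : IrrCharacter T, (n ξ : ℂ) • Cfsg.indFun T (ξ : T → ℂ) := by
    rw [hn, Cfsg.Agent.Helper8.indFun_sum]
    apply Finset.sum_congr rfl
    intro ξ _
    rw [Cfsg.Agent.Helper8.indFun_smul]
  have hnormΦ : Cfsg.classInner Φ Φ = ((∑ ξ : IrrCharacter T, n ξ * n ξ : ℕ) : ℂ) := by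
    rw [hn, classInner_sum_sum]
    push_cast
    apply Finset.sum_congr rfl
    intro ξ _
    rw [Complex.conj_natCast]
  have hnormInd : Cfsg.classInner (Cfsg.indFun T Φ) (Cfsg.indFun T Φ)
      = ((∑ ξ : IrrCharacter T, ∑ η : IrrCharacter T, n ξ * n η * m ξ η : ℕ) : ℂ) := by
    rw [hInd, classInner_sum_left]
    push_cast
    apply Finset.sum_congr rfl
    intro ξ _
    rw [classInner_smul_left, Cfsg.Agent.Helper8.classInner_sum_right, Finset.mul_sum]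
    apply Finset.sum_congr rfl
    intro η _
    rw [Cfsg.Agent.Helper8.classInner_smul_right, hm, Complex.conj_natCast]
    ring
  have hkey : ∑ ξ : IrrCharacter T, ∑ η : IrrCharacter T, n ξ * n η * m ξ η
      = ∑ ξ : IrrCharacter T, n ξ * n ξ := by
    have := e3
    rw [hnormΦ, hnormInd] at this
    exact_mod_cast this
  have hle : ∀ ξ ∈ (Finset.univ : Finset (IrrCharacter T)),
      n ξ * n ξ ≤ ∑ η : IrrCharacter T, n ξ * n η * m ξ η := by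
    intro ξ _
    calc n ξ * n ξ ≤ n ξ * n ξ * m ξ ξ := Nat.le_mul_of_pos_right _ (hmpos ξ)
      _ ≤ ∑ η : IrrCharacter T, n ξ * n η * m ξ η :=
        Finset.single_le_sum (f := fun η => n ξ * n η * m ξ η) (fun _ _ => Nat.zero_le _)
          (Finset.mem_univ ξ)
  have hrow : ∀ ξ : IrrCharacter T, ∑ η : IrrCharacter T, n ξ * n η * m ξ η = n ξ * n ξ := by
    intro ξ
    exact ((Finset.sum_eq_sum_iff_of_le hle).mp hkey.symm ξ (Finset.mem_univ ξ)).symm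
  -- the coefficient of ψ
  have hnψ : n ⟨ψ, hψ⟩ ≠ 0 := by
    intro h0
    apply hc
    rw [hn]
    have := classInner_sum_irr (fun ξ => (n ξ : ℂ)) ⟨ψ, hψ⟩
    rw [this, h0]; simp
  have hnψ' : n ⟨ψ', hψ'⟩ ≠ 0 := by
    intro h0
    apply hc'
    rw [hn]
    have := classInner_sum_irr (fun ξ => (n ξ : ℂ)) ⟨ψ', hψ'⟩
    rw [this, h0]; simp
  have hmψ : m ⟨ψ, hψ⟩ ⟨ψ, hψ⟩ = 1 := by
    have h1 := hrow ⟨ψ, hψ⟩
    have h2 : n ⟨ψ, hψ⟩ * n ⟨ψ, hψ⟩ * m ⟨ψ, hψ⟩ ⟨ψ, hψ⟩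
        ≤ ∑ η : IrrCharacter T, n ⟨ψ, hψ⟩ * n η * m ⟨ψ, hψ⟩ η :=
      Finset.single_le_sum (f := fun η => n ⟨ψ, hψ⟩ * n η * m ⟨ψ, hψ⟩ η) (fun _ _ => Nat.zero_le _)
        (Finset.mem_univ _)
    rw [h1] at h2
    have h3 : 0 < n ⟨ψ, hψ⟩ * n ⟨ψ, hψ⟩ := Nat.mul_pos (Nat.pos_of_ne_zero hnψ) (Nat.pos_of_ne_zero hnψ)
    have h4 : m ⟨ψ, hψ⟩ ⟨ψ, hψ⟩ ≤ 1 := by
      by_contra hcon
      push Not at hcon
      have : n ⟨ψ, hψ⟩ * n ⟨ψ, hψ⟩ * 2 ≤ n ⟨ψ, hψ⟩ * n ⟨ψ, hψ⟩ * m ⟨ψ, hψ⟩ ⟨ψ, hψ⟩ :=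
        Nat.mul_le_mul_left _ hcon
      omega
    have := hmpos ⟨ψ, hψ⟩
    omega
  refine ⟨?_, ?_⟩
  · rw [isIrrCharacter_iff_classInner_self]
    refine ⟨isCharacter_indFun T (IsIrrCharacter.isCharacter hψ), ?_⟩
    have := hm ⟨ψ, hψ⟩ ⟨ψ, hψ⟩
    rw [hmψ] at this
    simpa using this
  · intro heq
    by_contra hne
    have hne' : (⟨ψ, hψ⟩ : IrrCharacter T) ≠ ⟨ψ', hψ'⟩ := by
      intro h
      exact hne (congrArg Subtype.val h)
    have h1 := hrow ⟨ψ, hψ⟩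
    have h2 : n ⟨ψ, hψ⟩ * n ⟨ψ, hψ⟩ * m ⟨ψ, hψ⟩ ⟨ψ, hψ⟩ + n ⟨ψ, hψ⟩ * n ⟨ψ', hψ'⟩ * m ⟨ψ, hψ⟩ ⟨ψ', hψ'⟩
        ≤ ∑ η : IrrCharacter T, n ⟨ψ, hψ⟩ * n η * m ⟨ψ, hψ⟩ η := by
      have hsub : ({⟨ψ, hψ⟩, ⟨ψ', hψ'⟩} : Finset (IrrCharacter T)) ⊆ Finset.univ := Finset.subset_univ _
      have := Finset.sum_le_sum_of_subset (f := fun η => n ⟨ψ, hψ⟩ * n η * m ⟨ψ, hψ⟩ η) hsub
      rw [Finset.sum_pair hne'] at this
      exact this
    rw [h1, hmψ] at h2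
    have hmψψ' : m ⟨ψ, hψ⟩ ⟨ψ', hψ'⟩ = 1 := by
      have h5 := hm ⟨ψ, hψ⟩ ⟨ψ', hψ'⟩
      have h6 := hm ⟨ψ, hψ⟩ ⟨ψ, hψ⟩
      simp only at h5 h6
      rw [← heq, h6, hmψ] at h5
      exact_mod_cast h5.symm
    rw [hmψψ'] at h2
    have : 0 < n ⟨ψ, hψ⟩ * n ⟨ψ', hψ'⟩ := Nat.mul_pos (Nat.pos_of_ne_zero hnψ) (Nat.pos_of_ne_zero hnψ')
    omega

end Cfsg.Agent.S1489
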