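import Mathlib
import Cfsg.Statements.S0065

set_option autoImplicit false
open Pointwise
open Cfsg

namespace Cfsg.Agent.S0065

theorem inf_center_ne_bot {G : Type*} [Group G] [Group.IsNilpotent G]
    (N : Subgroup G) [N.Normal] (hN : N ≠ ⊥) : N ⊓ Subgroup.center G ≠ ⊥ := by
  classical
  have hex : ∃ n, N ⊓ Subgroup.upperCentralSeries G n ≠ ⊥ := by
    obtain ⟨n, hn⟩ := Group.IsNilpotent.nilpotent G
    exact ⟨n, by rw [hn, inf_top_eq]; exact hN⟩
  have hmin : ∀ m, m < Nat.find hex → ¬ (N ⊓ Subgroup.upperCentralSeries G m ≠ ⊥) :=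
    fun m hm => Nat.find_min hex hm
  have hspec := Nat.find_spec hex
  set n := Nat.find hex with hn
  cases hn' : n with
  | zero =>
    rw [hn'] at hspec
    simp at hspec
  | succ m =>
    rw [hn'] at hspec
    have hm : N ⊓ Subgroup.upperCentralSeries G m = ⊥ := by
      by_contra h
      exact hmin m (by omega) h
    obtain ⟨x, hx1⟩ := (Subgroup.ne_bot_iff_exists_ne_one).mp hspec
    have hx1' : (x : G) ≠ 1 := fun h => hx1 (Subtype.ext h)
    obtain ⟨hxN, hxZ⟩ := Subgroup.mem_inf.mp x.2
    rw [Subgroup.mem_upperCentralSeries_succ_iff] at hxZ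
    intro hbot
    have hxc : (x : G) ∈ Subgroup.center G := by
      rw [Subgroup.mem_center_iff]
      intro y
      have h1 : (x : G) * y * (x : G)⁻¹ * y⁻¹ ∈ N ⊓ Subgroup.upperCentralSeries G m := by
        refine Subgroup.mem_inf.mpr ⟨?_, hxZ y⟩
        have : y * (x : G)⁻¹ * y⁻¹ ∈ N := ‹N.Normal›.conj_mem _ (N.inv_mem hxN) y
        have := N.mul_mem hxN this
        simpa [mul_assoc] using this
      rw [hm, Subgroup.mem_bot] at h1
      have : (x : G) * y = y * x := by
        have := congrArg (fun z => z * y * x) h1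
        simpa [mul_assoc] using this
      exact this.symm
    have : (x : G) ∈ N ⊓ Subgroup.center G := Subgroup.mem_inf.mpr ⟨hxN, hxc⟩
    rw [hbot, Subgroup.mem_bot] at this
    exact hx1' this

/-- A nontrivial normal subgroup of a nilpotent group intersects the centre nontrivially. -/
theorem result {G : Type*} [Group G] [Finite G] [Group.IsNilpotent G]
    (N : Subgroup G) [N.Normal] (hN : N ≠ ⊥) : N ⊓ Subgroup.center G ≠ ⊥ := by
  exact inf_center_ne_bot N hN

end Cfsg.Agent.S0065
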