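import Mathlib
import Cfsg.Statements.S0015
import Cfsg.Agent.S0065

set_option autoImplicit false
open Pointwise
open Cfsg

namespace Cfsg.Agent.S0015

/-- In a finite nilpotent group, an abelian normal subgroup that is maximal among abelian normal subgroups equals its own centralizer. -/
theorem result {G : Type*} [Group G] [Finite G] [Group.IsNilpotent G]
    (N : Subgroup G) [N.Normal] [IsMulCommutative N]
    (hmax : ∀ M : Subgroup G, M.Normal → IsMulCommutative M → N ≤ M → M = N) :
    Subgroup.centralizer (N : Set G) = N := by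
  have hNC : N ≤ Subgroup.centralizer (N : Set G) := by
    intro x hx
    rw [Subgroup.mem_centralizer_iff]
    intro y hy
    have := mul_comm' (⟨y, hy⟩ : N) ⟨x, hx⟩
    exact congrArg Subtype.val this
  by_contra hne
  have hlt : N < Subgroup.centralizer (N : Set G) := lt_of_le_of_ne hNC (Ne.symm hne)
  obtain ⟨x, hxC, hxN⟩ := SetLike.exists_of_lt hlt
  -- image of the centralizer in the quotient
  set π := QuotientGroup.mk' N with hπ
  have hπs : Function.Surjective π := QuotientGroup.mk'_surjective N
  haveI : ((Subgroup.centralizer (N : Set G)).map π).Normal :=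
    Subgroup.Normal.map inferInstance π hπs
  have hne' : (Subgroup.centralizer (N : Set G)).map π ≠ ⊥ := by
    intro h
    have : π x ∈ (Subgroup.centralizer (N : Set G)).map π := Subgroup.mem_map_of_mem π hxC
    rw [h, Subgroup.mem_bot] at this
    exact hxN ((QuotientGroup.eq_one_iff x).mp this)
  have h2 := Cfsg.Agent.S0065.inf_center_ne_bot _ hne'
  obtain ⟨z, hz1⟩ := (Subgroup.ne_bot_iff_exists_ne_one).mp h2
  have hz1' : (z : G ⧸ N) ≠ 1 := fun h => hz1 (Subtype.ext h)
  obtain ⟨hzC, hzZ⟩ := Subgroup.mem_inf.mp z.2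
  obtain ⟨y, hyC, hyz⟩ := hzC
  have hyN : y ∉ N := by
    intro h
    apply hz1'
    rw [← hyz]
    exact (QuotientGroup.eq_one_iff y).mpr h
  -- M = preimage of zpowers (π y)
  set M := (Subgroup.zpowers (π y)).comap π with hM
  have hMn : M.Normal := by
    have : (Subgroup.zpowers (π y)).Normal := by
      constructor
      intro a ha g
      have hcomm : ∀ g : G ⧸ N, g * π y = π y * g := by
        rw [hyz]; exact fun g => (Subgroup.mem_center_iff.mp hzZ g)
      obtain ⟨k, rfl⟩ := ha
      have : g * (π y) ^ k * g⁻¹ = (π y) ^ k := by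
        have h3 : Commute g (π y) := hcomm g
        have := (h3.zpow_right k).eq
        rw [this]; group
      rw [this]; exact ⟨k, rfl⟩
    exact Subgroup.Normal.comap this π
  have hNM : N ≤ M := by
    intro n hn
    rw [hM, Subgroup.mem_comap]
    have : π n = 1 := (QuotientGroup.eq_one_iff n).mpr hn
    rw [this]; exact Subgroup.one_mem _
  have hyM : y ∈ M := by
    rw [hM, Subgroup.mem_comap]; exact Subgroup.mem_zpowers _
  have hdecomp : ∀ m ∈ M, ∃ k : ℤ, ∃ n ∈ N, m = y ^ k * n := by
    intro m hm
    rw [hM, Subgroup.mem_comap] at hm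
    obtain ⟨k, hk⟩ := hm
    refine ⟨k, (y ^ k)⁻¹ * m, ?_, by group⟩
    have : π ((y ^ k)⁻¹ * m) = 1 := by
      rw [map_mul, map_inv, map_zpow]
      simp only at hk
      rw [← hk]; group
    exact (QuotientGroup.eq_one_iff _).mp this
  have hMc : IsMulCommutative M := by
    refine ⟨⟨?_⟩⟩
    rintro ⟨a, ha⟩ ⟨b, hb⟩
    apply Subtype.ext
    show a * b = b * a
    obtain ⟨k, n, hn, rfl⟩ := hdecomp a ha
    obtain ⟨l, n', hn', rfl⟩ := hdecomp b hb
    have hyc : ∀ n ∈ N, Commute y n := fun n hn => ((Subgroup.mem_centralizer_iff.mp hyC) n hn).symm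
    have hnn : Commute n n' := by
      have := mul_comm' (⟨n, hn⟩ : N) ⟨n', hn'⟩
      exact congrArg Subtype.val this
    have h1 : Commute (y ^ k) n' := (hyc n' hn').zpow_left k
    have h2 : Commute (y ^ l) n := (hyc n hn).zpow_left l
    have h3 : Commute (y ^ k) (y ^ l) := (Commute.refl y).zpow_zpow k l
    calc y ^ k * n * (y ^ l * n') = y ^ k * (n * y ^ l) * n' := by group
      _ = y ^ k * (y ^ l * n) * n' := by rw [h2.eq]
      _ = (y ^ k * y ^ l) * (n * n') := by group
      _ = (y ^ l * y ^ k) * (n' * n) := by rw [h3.eq, hnn.eq]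
      _ = y ^ l * (y ^ k * n') * n := by group
      _ = y ^ l * (n' * y ^ k) * n := by rw [h1.eq]
      _ = y ^ l * n' * (y ^ k * n) := by group
  have := hmax M hMn hMc hNM
  rw [this] at hyM
  exact hyN hyM

end Cfsg.Agent.S0015
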