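import Mathlib
import Cfsg.Statements.S1182
import Cfsg.Agent.Helper6.Isolated

set_option autoImplicit false
open Cfsg

namespace Cfsg.Agent.S1182

open Cfsg.Agent.Helper6

/-- Let z be an isolated involution of the finite group G and H a subgroup normalized by z. If x, y ∈ H both commute with z and y = h x h⁻¹ for some h ∈ H, then y = c x c⁻¹ for some c ∈ H commuting with z. -/
theorem result {G : Type*} [Group G] [Finite G] (z : G) (hz : Cfsg.IsIsolatedInvolution z) (H : Subgroup G) (hzH : z ∈ Subgroup.normalizer (H : Set G)) (x y : G) (hx : x ∈ H) (hy : y ∈ H) (hxz : Commute x z) (hyz : Commute y z) (h : G) (hh : h ∈ H) (hconj : h * x * h⁻¹ = y) : ∃ c ∈ H, Commute c z ∧ c * x * c⁻¹ = y := by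
  have hzz := isolated_mul_self hz
  have hzi := inv_eq_self_of_mul_self hzz
  obtain ⟨n, hn⟩ := isolated_exists_pow_conj hz h⁻¹
  rw [inv_inv] at hn
  obtain ⟨z', hz'⟩ : ∃ z', z' = h⁻¹ * z * h := ⟨_, rfl⟩
  rw [← hz'] at hn
  obtain ⟨r, hr⟩ : ∃ r, r = z' * z := ⟨_, rfl⟩
  rw [← hr] at hn
  have hrH : r ∈ H := by
    have h1 : z * h * z⁻¹ ∈ H := (Subgroup.mem_normalizer_iff.1 hzH h).1 hh
    have : r = h⁻¹ * (z * h * z⁻¹) := by rw [hr, hz', hzi]; group
    rw [this]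
    exact H.mul_mem (H.inv_mem hh) h1
  have hz'x : Commute z' x := by
    show z' * x = x * z'
    have h1 : z * y = y * z := hyz.eq.symm
    rw [← hconj] at h1
    have : z' * x = h⁻¹ * (z * (h * x * h⁻¹)) * h := by rw [hz']; group
    rw [this, h1, hz']; group
  have hrx : Commute r x := by
    rw [hr]; exact hz'x.mul_left hxz.symm
  have hmx : Commute (r ^ n)⁻¹ x := (hrx.pow_left n).inv_left
  refine ⟨h * (r ^ n)⁻¹, H.mul_mem hh (H.inv_mem (H.pow_mem hrH n)), ?_, ?_⟩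
  · show h * (r ^ n)⁻¹ * z = z * (h * (r ^ n)⁻¹)
    have h1 : h * (r ^ n)⁻¹ * z = h * ((r ^ n)⁻¹ * z * r ^ n) * (r ^ n)⁻¹ := by group
    rw [h1, hn, hz']; group
  · have h1 : h * (r ^ n)⁻¹ * x * (h * (r ^ n)⁻¹)⁻¹ = h * ((r ^ n)⁻¹ * x) * (r ^ n) * h⁻¹ := by group
    rw [h1, hmx.eq, ← hconj]; group

end Cfsg.Agent.S1182
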