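import Cfsg.Statements.S2014
import Cfsg.Agent.Helper10.PResidual
import Cfsg.Agent.Helper10.SubTransfer

set_option autoImplicit false
open Cfsg

namespace Cfsg.Agent.S2014

/-- Let P be a Sylow p-subgroup of a finite group G and A, C ≤ P subgroups conjugate in G, with C extremal: N_P(C) is a Sylow p-subgroup of N_G(C). Then there is g with gAg⁻¹ = C and g N_P(A) g⁻¹ ≤ N_P(C); moreover, given any h with hAh⁻¹ = C, g can be chosen so that h g⁻¹ lies in O^p(N_G(C)), the subgroup of N_G(C) generated by its elements of order prime to p. -/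
theorem result {G : Type*} [Group G] [Finite G] (p : ℕ) [Fact p.Prime] (P : Sylow p G) (A C : Subgroup G) (hA : A ≤ P) (hC : C ≤ P) (hext : ¬ p ∣ ((P : Subgroup G) ⊓ Subgroup.normalizer ((C : Subgroup G) : Set G)).relIndex (Subgroup.normalizer ((C : Subgroup G) : Set G))) (h : G) (hh : A.map (MulAut.conj h).toMonoidHom = C) : ∃ g : G, A.map (MulAut.conj g).toMonoidHom = C ∧ ((P : Subgroup G) ⊓ Subgroup.normalizer ((A : Subgroup G) : Set G)).map (MulAut.conj g).toMonoidHom ≤ (P : Subgroup G) ⊓ Subgroup.normalizer ((C : Subgroup G) : Set G) ∧ h * g⁻¹ ∈ (Cfsg.pResidual p ↥(Subgroup.normalizer ((C : Subgroup G) : Set G))).map (Subgroup.normalizer ((C : Subgroup G) : Set G)).subtype := by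
  classical
  set N := Subgroup.normalizer ((C : Subgroup G) : Set G) with hN
  -- Sylow subgroup of N
  have hRp : IsPGroup p ↥(((P : Subgroup G) ⊓ N).subgroupOf N) :=
    (P.2.to_le inf_le_left).comap_subtype
  have hRi : ¬ p ∣ (((P : Subgroup G) ⊓ N).subgroupOf N).index := hext
  let R : Sylow p ↥N := hRp.toSylow hRi
  have hRcoe : (R : Subgroup ↥N) = ((P : Subgroup G) ⊓ N).subgroupOf N := rfl
  -- the p-subgroup X = (N_P(A))^h of N
  set X := ((P : Subgroup G) ⊓ Subgroup.normalizer ((A : Subgroup G) : Set G)).map (MulAut.conj h).toMonoidHom with hX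
  have hXN : X ≤ N := by
    rintro _ ⟨y, hy, rfl⟩
    have hyA : y ∈ Subgroup.normalizer ((A : Subgroup G) : Set G) := hy.2
    show (MulAut.conj h) y ∈ Subgroup.normalizer ((C : Subgroup G) : Set G)
    apply Cfsg.Agent.Helper10.mem_normalizer_of_map_conj_eq
    rw [← hh, Subgroup.map_map]
    have h1 := Cfsg.Agent.Helper10.map_conj_eq_of_mem_normalizer hyA
    conv_rhs => rw [← h1]
    rw [Subgroup.map_map]
    congr 1
    ext z
    simp [MulAut.conj_apply, mul_assoc]
  have hXp : IsPGroup p ↥(X.subgroupOf N) := by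
    have : IsPGroup p ↥X := (P.2.to_le inf_le_left).map _
    exact this.comap_subtype
  obtain ⟨u, hu, huX⟩ := Cfsg.Agent.Helper10.exists_pResidual_conj_le_sylow R (X.subgroupOf N) hXp
  have huN : (u : G) ∈ Subgroup.normalizer ((C : Subgroup G) : Set G) := u.2
  refine ⟨(u : G) * h, ?_, ?_, ?_⟩
  · have h1 := Cfsg.Agent.Helper10.map_conj_eq_of_mem_normalizer huN
    conv_rhs => rw [← h1, ← hh]
    rw [Subgroup.map_map]
    congr 1
    ext z
    simp [MulAut.conj_apply, mul_assoc]
  · rintro _ ⟨y, hy, rfl⟩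
    have hyX : (MulAut.conj h) y ∈ X := ⟨y, hy, rfl⟩
    have h1 := huX ⟨(MulAut.conj h) y, hXN hyX⟩ (by rw [Subgroup.mem_subgroupOf]; exact hyX)
    rw [hRcoe, Subgroup.mem_subgroupOf] at h1
    have e : (MulAut.conj ((u : G) * h)).toMonoidHom y = ((u * ⟨(MulAut.conj h) y, hXN hyX⟩ * u⁻¹ : ↥N) : G) := by
      simp [MulAut.conj_apply, mul_assoc]
    rw [e]
    exact h1
  · refine ⟨u⁻¹, Subgroup.inv_mem _ hu, ?_⟩
    simp

end Cfsg.Agent.S2014
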