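import Cfsg.Statements.S0041
import Mathlib
import Cfsg.Agent.S0058
import Cfsg.Agent.Helper5.ConjAct

set_option autoImplicit false
open Cfsg

namespace Cfsg.Agent.S0041

section
variable {G : Type*} [Group G] [Finite G] {A V : Subgroup G}

/-- coprimality from fixed-point-freeness -/
theorem coprime_of_fpf (hAV : A ≤ Subgroup.normalizer (V : Set G))
    (hfpf : ∀ a ∈ A, a ≠ 1 → V ⊓ Subgroup.centralizer {a} = ⊥) :
    (Nat.card A).Coprime (Nat.card V) := by
  apply Nat.coprime_of_dvd
  intro q hq hqA hqV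
  have : Fact q.Prime := ⟨hq⟩
  obtain ⟨y, hy⟩ := exists_prime_orderOf_dvd_card' q hqA
  have hy' : orderOf (y : G) = q := by rw [Subgroup.orderOf_coe]; exact hy
  have hy1 : (y : G) ≠ 1 := by
    intro h
    rw [h, orderOf_one] at hy'
    exact hq.ne_one hy'.symm
  have hmod := Cfsg.Agent.Helper5.card_modEq_one_of_fixedPointFree V q (y : G) hy' (hAV y.2)
    (fun k hk hcomm => by
      have hmem : k ∈ V ⊓ Subgroup.centralizer {(y : G)} := by
        refine Subgroup.mem_inf.mpr ⟨hk, ?_⟩
        rw [Subgroup.mem_centralizer_singleton_iff]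
        exact hcomm.symm
      rw [hfpf y y.2 hy1] at hmem
      exact hmem)
  have h0 : Nat.card V ≡ 0 [MOD q] := (Nat.modEq_zero_iff_dvd).mpr hqV
  have h1 : 0 ≡ 1 [MOD q] := h0.symm.trans hmod
  have h2 : q ∣ 1 := (Nat.modEq_zero_iff_dvd).mp h1.symm
  exact hq.one_lt.ne' (Nat.dvd_one.mp h2)

/-- the abelian case, from generation by centralizers (S0058) -/
theorem cyclic_of_comm [IsMulCommutative A] (hV : V ≠ ⊥)
    (hAV : A ≤ Subgroup.normalizer (V : Set G))
    (hfpf : ∀ a ∈ A, a ≠ 1 → V ⊓ Subgroup.centralizer {a} = ⊥) : IsCyclic A := by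
  by_contra hnc
  have hcop := coprime_of_fpf hAV hfpf
  have hgen := Cfsg.Agent.S0058.result A V hnc hAV hcop
  apply hV
  rw [← hgen]
  simp only [iSup_eq_bot]
  intro a ha
  exact hfpf a ha.1 ha.2

end

section partition

open scoped Classical in
/-- product over a group partitioned by subgroups of prime order -/
theorem prod_partition {α M : Type*} [Group α] [Fintype α] [CommGroup M]
    (𝒮 : Finset (Subgroup α)) (h0 : ∀ S ∈ 𝒮, (Nat.card S).Prime)
    (h1 : ∀ a : α, a ≠ 1 → ∃ S ∈ 𝒮, a ∈ S) (f : α → M) :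
    ∏ a, f a = f 1 * ∏ S ∈ 𝒮, ((∏ a ∈ Finset.univ.filter (· ∈ S), f a) / f 1) := by
  -- distinct members intersect trivially
  have h2 : ∀ S ∈ 𝒮, ∀ S' ∈ 𝒮, ∀ a : α, a ≠ 1 → a ∈ S → a ∈ S' → S = S' := by
    intro S hS S' hS' a ha haS haS'
    have key : ∀ T ∈ 𝒮, Subgroup.zpowers a ≤ T → Subgroup.zpowers a = T := by
      intro T hT hle
      apply Subgroup.eq_of_le_of_card_ge hle
      have hd := Subgroup.card_dvd_of_le hle
      rcases (Nat.dvd_prime (h0 T hT)).mp hd with h | h
      · exfalso
        rw [Nat.card_zpowers, orderOf_eq_one_iff] at h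
        exact ha h
      · exact h.ge
    rw [← key S hS ((Subgroup.zpowers_le).mpr haS), ← key S' hS' ((Subgroup.zpowers_le).mpr haS')]
  -- the map σ
  have hex : ∀ a : α, ∃ S, a ≠ 1 → S ∈ 𝒮 ∧ a ∈ S := by
    intro a
    by_cases ha : a = 1
    · exact ⟨⊥, fun h => absurd ha h⟩
    · obtain ⟨S, hS, haS⟩ := h1 a ha
      exact ⟨S, fun _ => ⟨hS, haS⟩⟩
  choose σ hσ using hex
  rw [← Finset.mul_prod_erase Finset.univ f (Finset.mem_univ (1 : α))]
  congr 1
  have hmaps : ∀ a ∈ (Finset.univ : Finset α).erase 1, σ a ∈ 𝒮 := by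
    intro a ha
    exact (hσ a (Finset.ne_of_mem_erase ha)).1
  rw [← Finset.prod_fiberwise_of_maps_to hmaps f]
  apply Finset.prod_congr rfl
  intro S hS
  have h1S : (1 : α) ∈ Finset.univ.filter (· ∈ S) := by simp [S.one_mem]
  rw [← Finset.prod_erase_eq_div h1S]
  apply Finset.prod_congr _ (fun _ _ => rfl)
  ext a
  simp only [Finset.mem_filter, Finset.mem_erase, Finset.mem_univ, and_true, true_and]
  constructor
  · rintro ⟨ha, rfl⟩
    exact ⟨ha, (hσ a ha).2⟩
  · rintro ⟨ha, haS⟩
    exact ⟨ha, h2 _ (hσ a ha).1 S hS a ha (hσ a ha).2 haS⟩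

end partition

section norm

open scoped IsMulCommutative

variable {G : Type*} [Group G] {A V : Subgroup G} [IsMulCommutative V]

/-- conjugation by an element of `A` as an endomorphism of `V` -/
def cj (hAV : A ≤ Subgroup.normalizer (V : Set G)) (a : A) : V →* V where
  toFun v := ⟨a * v * (a : G)⁻¹, (Subgroup.mem_normalizer_iff.mp (hAV a.2) v).mp v.2⟩
  map_one' := by ext; simp
  map_mul' := by intro v w; ext; simp [mul_assoc]

theorem cj_coe (hAV : A ≤ Subgroup.normalizer (V : Set G)) (a : A) (v : V) :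
    ((cj hAV a v : V) : G) = a * v * (a : G)⁻¹ := rfl

theorem cj_mul (hAV : A ≤ Subgroup.normalizer (V : Set G)) (a b : A) (v : V) :
    cj hAV (a * b) v = cj hAV a (cj hAV b v) := by
  ext
  simp only [cj_coe, Subgroup.coe_mul, mul_inv_rev]
  group

theorem cj_one (hAV : A ≤ Subgroup.normalizer (V : Set G)) (v : V) : cj hAV 1 v = v := by
  ext
  simp [cj_coe]

/-- the norm over a nontrivial subgroup is trivial -/
theorem norm_eq_one (hAV : A ≤ Subgroup.normalizer (V : Set G))
    (hfpf : ∀ a ∈ A, a ≠ 1 → V ⊓ Subgroup.centralizer {a} = ⊥)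
    (B : Subgroup A) [Fintype B] (hB : B ≠ ⊥) (v : V) : ∏ b : B, cj hAV (b : A) v = 1 := by
  obtain ⟨b₀, hb₀⟩ := (Subgroup.ne_bot_iff_exists_ne_one).mp hB
  set N := ∏ b : B, cj hAV (b : A) v with hN
  have hfix : cj hAV (b₀ : A) N = N := by
    rw [hN, map_prod]
    rw [← Fintype.prod_equiv (Equiv.mulLeft b₀) (fun b => cj hAV (b₀ : A) (cj hAV (b : A) v))
      (fun b => cj hAV (b : A) v)]
    intro b
    rw [← cj_mul]
    rfl
  have hb₀G : ((b₀ : A) : G) ≠ 1 := by
    intro h
    apply hb₀
    exact Subtype.ext (Subtype.ext h)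
  have hmem : (N : G) ∈ V ⊓ Subgroup.centralizer {((b₀ : A) : G)} := by
    refine Subgroup.mem_inf.mpr ⟨N.2, ?_⟩
    rw [Subgroup.mem_centralizer_singleton_iff]
    have := congrArg Subtype.val hfix
    rw [cj_coe] at this
    calc (N : G) * ((b₀ : A) : G) = (((b₀ : A) : G) * N * ((b₀ : A) : G)⁻¹) * ((b₀ : A) : G) := by
          rw [this]
      _ = ((b₀ : A) : G) * N := by group
  rw [hfpf _ (b₀ : A).2 hb₀G] at hmem
  exact Subtype.ext hmem

end norm

section pq

open scoped IsMulCommutative

variable {G : Type*} [Group G] [Finite G] {A V : Subgroup G} [IsMulCommutative V]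

theorem pq_case (hV : V ≠ ⊥) (hAV : A ≤ Subgroup.normalizer (V : Set G))
    (hfpf : ∀ a ∈ A, a ≠ 1 → V ⊓ Subgroup.centralizer {a} = ⊥)
    (p q : ℕ) (hp : p.Prime) (hq : q.Prime) (hlt : q < p) (hcard : Nat.card A = p * q) :
    IsCyclic A := by
  classical
  by_contra hnc
  have : Fact p.Prime := ⟨hp⟩
  have : Fact q.Prime := ⟨hq⟩
  have : Fintype A := Fintype.ofFinite A
  have hpq : p ≠ q := hlt.ne'
  -- orders of elements
  have hord : ∀ a : A, a ≠ 1 → orderOf a = p ∨ orderOf a = q := by
    intro a ha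
    have hd : orderOf a ∣ p * q := by rw [← hcard]; exact orderOf_dvd_natCard a
    obtain ⟨d₁, d₂, h1, h2, h3⟩ := Nat.dvd_mul.mp hd
    rcases hp.eq_one_or_self_of_dvd d₁ h1 with rfl | rfl <;>
      rcases hq.eq_one_or_self_of_dvd d₂ h2 with rfl | rfl
    · exfalso; rw [one_mul] at h3; exact ha (orderOf_eq_one_iff.mp h3.symm)
    · right; rw [← h3, one_mul]
    · left; rw [← h3, mul_one]
    · exfalso; exact hnc (isCyclic_of_orderOf_eq_card a (by rw [← h3, hcard]))
  -- factorizations
  have hfp : (Nat.card A).factorization p = 1 := by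
    rw [hcard, Nat.factorization_mul hp.ne_zero hq.ne_zero, Finsupp.add_apply,
      hp.factorization_self, hq.factorization, Finsupp.single_eq_of_ne hpq, add_zero]
  have hfq : (Nat.card A).factorization q = 1 := by
    rw [hcard, Nat.factorization_mul hp.ne_zero hq.ne_zero, Finsupp.add_apply,
      hq.factorization_self, hp.factorization, Finsupp.single_eq_of_ne hpq.symm, zero_add]
  have hPcard : ∀ P : Sylow p A, Nat.card (P : Subgroup A) = p := by
    intro P; rw [Sylow.card_eq_multiplicity, hfp, pow_one]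
  have hQcard : ∀ Q : Sylow q A, Nat.card (Q : Subgroup A) = q := by
    intro Q; rw [Sylow.card_eq_multiplicity, hfq, pow_one]
  let P : Sylow p A := default
  -- unique Sylow p
  have hnp : Nat.card (Sylow p A) = 1 := by
    have h1 := card_sylow_modEq_one p A
    have h2 := Sylow.card_dvd_index P
    have hidx : (P : Subgroup A).index = q := by
      have := (P : Subgroup A).card_mul_index
      rw [hPcard, hcard] at this
      exact Nat.eq_of_mul_eq_mul_left hp.pos this
    rw [hidx] at h2
    rcases (Nat.dvd_prime hq).mp h2 with h | h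
    · exact h
    · exfalso
      rw [h] at h1
      have h3 : q % p = 1 % p := h1
      rw [Nat.mod_eq_of_lt hlt, Nat.mod_eq_of_lt hp.one_lt] at h3
      exact hq.ne_one h3
  have hsub : Subsingleton (Sylow p A) := (Nat.card_eq_one_iff_unique.mp hnp).1
  have : Fintype (Sylow q A) := Fintype.ofFinite _
  let 𝒮 : Finset (Subgroup A) :=
    insert (P : Subgroup A) (Finset.univ.image (fun Q : Sylow q A => (Q : Subgroup A)))
  have h0 : ∀ S ∈ 𝒮, (Nat.card S).Prime := by
    intro S hS
    rw [Finset.mem_insert, Finset.mem_image] at hS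
    rcases hS with rfl | ⟨Q, -, rfl⟩
    · rw [hPcard]; exact hp
    · rw [hQcard]; exact hq
  have h1 : ∀ a : A, a ≠ 1 → ∃ S ∈ 𝒮, a ∈ S := by
    intro a ha
    rcases hord a ha with h | h
    · refine ⟨P, Finset.mem_insert_self _ _, ?_⟩
      have hc : Nat.card (Subgroup.zpowers a) = p ^ (Nat.card A).factorization p := by
        rw [Nat.card_zpowers, h, hfp, pow_one]
      have e : Sylow.ofCard (Subgroup.zpowers a) hc = P := Subsingleton.elim _ _
      rw [← e, Sylow.coe_ofCard]
      exact Subgroup.mem_zpowers a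
    · have hc : Nat.card (Subgroup.zpowers a) = q ^ (Nat.card A).factorization q := by
        rw [Nat.card_zpowers, h, hfq, pow_one]
      refine ⟨Sylow.ofCard (Subgroup.zpowers a) hc, ?_, ?_⟩
      · apply Finset.mem_insert_of_mem
        exact Finset.mem_image_of_mem _ (Finset.mem_univ _)
      · rw [Sylow.coe_ofCard]
        exact Subgroup.mem_zpowers a
  -- the norm identity
  have hnorm : ∀ v : V, v ^ 𝒮.card = v := by
    intro v
    have hid := prod_partition 𝒮 h0 h1 (fun a => cj hAV a v)
    have hA1 : ∏ a : A, cj hAV a v = 1 := by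
      have htop : (⊤ : Subgroup A) ≠ ⊥ := by
        intro h
        have h2 : Nat.card (⊤ : Subgroup A) = 1 := by rw [h]; exact Subgroup.card_bot
        rw [Subgroup.card_top, hcard] at h2
        have := hp.one_lt
        have := hq.one_lt
        nlinarith
      have := norm_eq_one hAV hfpf (⊤ : Subgroup A) htop v
      rw [← this]
      exact (Fintype.prod_equiv Subgroup.topEquiv.toEquiv _ _ (fun b => rfl)).symm
    have hS1 : ∀ S ∈ 𝒮, ∏ a ∈ Finset.univ.filter (· ∈ S), cj hAV a v = 1 := by
      intro S hS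
      have hSbot : S ≠ ⊥ := by
        intro h
        have := h0 S hS
        rw [h, Subgroup.card_bot] at this
        exact Nat.not_prime_one this
      rw [Finset.prod_subtype (Finset.univ.filter (· ∈ S)) (p := (· ∈ S)) (by simp)]
      exact norm_eq_one hAV hfpf S hSbot v
    rw [hA1, cj_one, Finset.prod_congr rfl (fun S hS => by rw [hS1 S hS]), Finset.prod_const] at hid
    -- hid : 1 = v * (1 / v) ^ card
    rw [one_div, inv_pow] at hid
    exact (mul_inv_eq_one.mp hid.symm).symm
  -- |𝒮| = 1 + n_q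
  have hcardS : 𝒮.card = Nat.card (Sylow q A) + 1 := by
    have hnotin : (P : Subgroup A) ∉ Finset.univ.image (fun Q : Sylow q A => (Q : Subgroup A)) := by
      intro h
      obtain ⟨Q, -, hQ⟩ := Finset.mem_image.mp h
      have := hQcard Q
      rw [hQ, hPcard] at this
      exact hpq this
    rw [Finset.card_insert_of_notMem hnotin, Finset.card_image_of_injective _
      (fun Q Q' h => Sylow.ext h), Finset.card_univ, Nat.card_eq_fintype_card]
  -- v ^ p = 1
  have hexp : ∀ v : V, v ^ p = 1 := by
    intro v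
    have h2 := hnorm v
    rw [hcardS, pow_succ] at h2
    have h3 : v ^ Nat.card (Sylow q A) = 1 := by
      have : v ^ Nat.card (Sylow q A) * v = 1 * v := by rw [h2, one_mul]
      exact mul_right_cancel this
    let Q : Sylow q A := default
    have hd := Sylow.card_dvd_index Q
    have hidx : (Q : Subgroup A).index = p := by
      have := (Q : Subgroup A).card_mul_index
      rw [hQcard, hcard, mul_comm] at this
      exact Nat.eq_of_mul_eq_mul_right hq.pos this
    rw [hidx] at hd
    obtain ⟨c, hc⟩ := hd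
    rw [hc, pow_mul, h3, one_pow]
  -- contradiction
  have hcop := coprime_of_fpf hAV hfpf
  have hVp : IsPGroup p V := fun v => ⟨1, by rw [pow_one]; exact hexp v⟩
  rcases hVp.card_eq_or_dvd with h | h
  · exact hV (Subgroup.card_eq_one.mp h)
  · have hpA : p ∣ Nat.card A := ⟨q, hcard⟩
    have := Nat.dvd_gcd hpA h
    rw [hcop.gcd_eq_one] at this
    exact hp.one_lt.ne' (Nat.dvd_one.mp this)

end pq

/-- A group acting on a nontrivial abelian group so that no nonidentity element has a nonidentity fixed point is cyclic, provided it is abelian or its order is a product of two (possibly equal) primes. -/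
theorem result {G : Type*} [Group G] [Finite G] (A V : Subgroup G) [IsMulCommutative V]
    (hV : V ≠ ⊥) (hAV : A ≤ Subgroup.normalizer (V : Set G)) (hfpf : ∀ a ∈ A, a ≠ 1 → V ⊓ Subgroup.centralizer {a} = ⊥)
    (hA : IsMulCommutative A ∨ ∃ p q : ℕ, p.Prime ∧ q.Prime ∧ Nat.card A = p * q) : IsCyclic A := by
  rcases hA with hA | ⟨p, q, hp, hq, hcard⟩
  · exact cyclic_of_comm hV hAV hfpf
  · rcases lt_trichotomy p q with h | h | h
    · exact pq_case hV hAV hfpf q p hq hp h (by rw [hcard, mul_comm])
    · subst h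
      have : Fact p.Prime := ⟨hp⟩
      have hA : IsMulCommutative A :=
        IsPGroup.isMulCommutative_of_card_eq_prime_sq (by rw [hcard, sq])
      exact cyclic_of_comm hV hAV hfpf
    · exact pq_case hV hAV hfpf p q hp hq h hcard

end Cfsg.Agent.S0041
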