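import Cfsg.Statements.S0589

set_option autoImplicit false
open Pointwise
open Cfsg

namespace Cfsg.Agent.S0589

/-- Burnside counting for an action in which nonidentity elements have at most one fixed point. -/
theorem burnside_dvd {L X : Type*} [Group L] [Finite L] [MulAction L X] [Finite X]
    (h : ∀ x : L, x ≠ 1 → ∀ a b : X, x • a = a → x • b = b → a = b) :
    Nat.card L ∣ Nat.card X + Nat.card {x : L // x ≠ 1 ∧ ∃ a : X, x • a = a} := by
  classical
  have := Fintype.ofFinite L
  have := Fintype.ofFinite X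
  have key := MulAction.sum_card_fixedBy_eq_card_orbits_mul_card_group L X
  have h1 : ∀ g : L, Fintype.card (MulAction.fixedBy X g) =
      (if g = 1 then Nat.card X else 0) + (if g ≠ 1 ∧ ∃ a : X, g • a = a then 1 else 0) := by
    intro g
    by_cases hg : g = 1
    · subst hg
      simp only [if_true, ne_eq, not_true_eq_false, false_and, if_false, add_zero]
      rw [Nat.card_eq_fintype_card]
      apply Fintype.card_congr
      refine ⟨fun a => a.1, fun a => ⟨a, by simp [MulAction.mem_fixedBy]⟩, fun a => rfl, fun a => rfl⟩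
    · simp only [hg, if_false, zero_add, ne_eq, not_false_eq_true, true_and]
      by_cases hex : ∃ a : X, g • a = a
      · rw [if_pos hex]
        obtain ⟨a, ha⟩ := hex
        rw [Fintype.card_eq_one_iff]
        refine ⟨⟨a, ha⟩, fun b => Subtype.ext (h g hg _ _ b.2 ha)⟩
      · rw [if_neg hex]
        rw [Fintype.card_eq_zero_iff]
        exact ⟨fun b => hex ⟨b.1, b.2⟩⟩
  rw [Nat.card_eq_fintype_card (α := L)]
  refine ⟨Fintype.card (Quotient (MulAction.orbitRel L X)), ?_⟩
  rw [mul_comm, ← key]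
  simp_rw [h1]
  rw [Finset.sum_add_distrib, Finset.sum_ite_eq' Finset.univ (1 : L)]
  simp only [Finset.mem_univ, if_true]
  congr 1
  rw [Finset.sum_boole, Nat.card_eq_fintype_card, Fintype.card_subtype]
  simp

/-- In `G ⧸ H` with `H` a Frobenius complement, a nonidentity element fixes at most one point. -/
theorem fixed_unique {G : Type*} [Group G] (H : Subgroup G)
    (hH : ∀ g : G, g ∉ H → H ⊓ (MulAut.conj g • H) = ⊥) (x : G) (hx : x ≠ 1) (a b : G ⧸ H)
    (ha : x • a = a) (hb : x • b = b) : a = b := by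
  induction a using QuotientGroup.induction_on with
  | H g₁ =>
  induction b using QuotientGroup.induction_on with
  | H g₂ =>
  rw [MulAction.Quotient.smul_mk, QuotientGroup.eq] at ha hb
  rw [QuotientGroup.eq]
  by_contra hg
  have h1 := hH _ hg
  have h2 : g₁⁻¹ * x⁻¹ * g₁ ∈ H ⊓ (MulAut.conj (g₁⁻¹ * g₂) • H) := by
    refine Subgroup.mem_inf.mpr ⟨by simpa [mul_assoc] using ha, ?_⟩
    rw [Subgroup.mem_pointwise_smul_iff_inv_smul_mem]
    simp only [MulAut.smul_def, MulAut.inv_apply, MulAut.conj_symm_apply]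
    have : (g₁⁻¹ * g₂)⁻¹ * (g₁⁻¹ * x⁻¹ * g₁) * (g₁⁻¹ * g₂) = (x * g₂)⁻¹ * g₂ := by group
    rw [this]
    exact hb
  rw [h1, Subgroup.mem_bot] at h2
  apply hx
  have : x⁻¹ = 1 := by
    have h3 : x⁻¹ = g₁ * (g₁⁻¹ * x⁻¹ * g₁) * g₁⁻¹ := by group
    rw [h3, h2]; group
  simpa using this

theorem card_ne_add_one {α : Type*} [Finite α] (a : α) :
    Nat.card {x : α // x ≠ a} + 1 = Nat.card α := by
  classical
  have := Fintype.ofFinite α
  have : Nonempty α := ⟨a⟩
  rw [Nat.card_eq_fintype_card, Nat.card_eq_fintype_card, Fintype.card_subtype,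
    Finset.filter_ne', Finset.card_erase_of_mem (Finset.mem_univ a), Finset.card_univ]
  exact Nat.sub_add_cancel Fintype.card_pos

/-- The points of `G ⧸ H` with nontrivial stabilizer in `L`. -/
def fixedPts {G : Type*} [Group G] (H L : Subgroup G) : SubMulAction L (G ⧸ H) where
  carrier := {ω | ∃ x : L, x ≠ 1 ∧ x • ω = ω}
  smul_mem' := by
    rintro y ω ⟨x, hx, hxω⟩
    refine ⟨y * x * y⁻¹, ?_, ?_⟩
    · intro h
      apply hx
      have : x = y⁻¹ * (y * x * y⁻¹) * y := by group
      rw [this, h]; group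
    · rw [mul_smul, mul_smul, inv_smul_smul, hxω]

/-- Let H be a Frobenius complement in a finite group G and L a subgroup of G whose order divides the order of H. Then L is contained in some conjugate of H. -/
theorem result {G : Type*} [Group G] [Finite G] (H : Subgroup G) (hH : Cfsg.IsFrobeniusComplement H) (L : Subgroup G) (hL : Nat.card L ∣ Nat.card H) : ∃ x : G, L ≤ MulAut.conj x • H := by
  obtain ⟨hHbot, hHtop, hH⟩ := hH
  have hfix := fixed_unique H hH
  have hn : 0 < Nat.card (G ⧸ H) := Nat.card_pos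
  have hl : 0 < Nat.card L := Nat.card_pos
  have hh : 0 < Nat.card H := Nat.card_pos
  -- Stage 0
  have h0 := burnside_dvd (L := H) (X := G ⧸ H) (by
    intro x hx a b ha hb
    exact hfix (x : G) (by simpa using hx) a b ha hb)
  have hF0 : Nat.card {x : H // x ≠ 1 ∧ ∃ a : G ⧸ H, x • a = a} + 1 = Nat.card H := by
    have : ∀ x : H, (x ≠ 1 ∧ ∃ a : G ⧸ H, x • a = a) ↔ x ≠ 1 := by
      intro x
      refine ⟨fun h => h.1, fun h => ⟨h, ((1 : G) : G ⧸ H), ?_⟩⟩
      change (x : G) • ((1 : G) : G ⧸ H) = _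
      rw [MulAction.Quotient.smul_mk, QuotientGroup.eq]
      simp
    simp_rw [this]
    exact card_ne_add_one 1
  have h0' : Nat.card H ∣ Nat.card (G ⧸ H) - 1 := by
    have := Nat.dvd_sub h0 (dvd_refl (Nat.card H))
    have e : Nat.card (G ⧸ H) + Nat.card {x : H // x ≠ 1 ∧ ∃ a : G ⧸ H, x • a = a} - Nat.card H
        = Nat.card (G ⧸ H) - 1 := by omega
    rwa [e] at this
  -- Stage 1
  have h1 := burnside_dvd (L := L) (X := G ⧸ H) (by
    intro x hx a b ha hb
    exact hfix (x : G) (by simpa using hx) a b ha hb)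
  have hLne := card_ne_add_one (1 : L)
  set ι : {x : L // x ≠ 1 ∧ ∃ a : G ⧸ H, x • a = a} → {x : L // x ≠ 1} :=
    fun x => ⟨x.1, x.2.1⟩ with hι
  have hιinj : Function.Injective ι := by
    intro x y hxy
    apply Subtype.ext
    exact congrArg (fun z : {x : L // x ≠ 1} => z.1) hxy
  have hFle : Nat.card {x : L // x ≠ 1 ∧ ∃ a : G ⧸ H, x • a = a} ≤ Nat.card {x : L // x ≠ 1} :=
    Nat.card_le_card_of_injective ι hιinj
  have h1' : Nat.card L ∣ Nat.card {x : L // x ≠ 1 ∧ ∃ a : G ⧸ H, x • a = a} + 1 := by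
    have := Nat.dvd_sub h1 (hL.trans h0')
    have e : Nat.card (G ⧸ H) + Nat.card {x : L // x ≠ 1 ∧ ∃ a : G ⧸ H, x • a = a} -
        (Nat.card (G ⧸ H) - 1) = Nat.card {x : L // x ≠ 1 ∧ ∃ a : G ⧸ H, x • a = a} + 1 := by
      omega
    rwa [e] at this
  have hFeq : Nat.card {x : L // x ≠ 1 ∧ ∃ a : G ⧸ H, x • a = a} = Nat.card {x : L // x ≠ 1} := by
    have := Nat.le_of_dvd (Nat.succ_pos _) h1'
    omega
  have hιbij : Function.Bijective ι :=
    (Nat.bijective_iff_injective_and_card ι).mpr ⟨hιinj, hFeq⟩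
  have hall : ∀ x : L, x ≠ 1 → ∃ a : G ⧸ H, x • a = a := by
    intro x hx
    obtain ⟨y, hy⟩ := hιbij.2 ⟨x, hx⟩
    have : y.1 = x := congrArg (fun z : {x : L // x ≠ 1} => z.1) hy
    rw [← this]
    exact y.2.2
  -- Stage 2
  by_cases hl1 : Nat.card L = 1
  · have : L = ⊥ := Subgroup.card_eq_one.mp hl1
    exact ⟨1, by rw [this]; exact bot_le⟩
  have h2 := burnside_dvd (L := L) (X := fixedPts H L) (by
    intro x hx a b ha hb
    apply Subtype.ext
    apply hfix (x : G) (by simpa using hx) a.1 b.1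
    · exact congrArg Subtype.val ha
    · exact congrArg Subtype.val hb)
  have hF2 : Nat.card {x : L // x ≠ 1 ∧ ∃ a : fixedPts H L, x • a = a} =
      Nat.card {x : L // x ≠ 1} := by
    have : ∀ x : L, (x ≠ 1 ∧ ∃ a : fixedPts H L, x • a = a) ↔ x ≠ 1 := by
      intro x
      refine ⟨fun h => h.1, fun h => ⟨h, ?_⟩⟩
      obtain ⟨a, ha⟩ := hall x h
      exact ⟨⟨a, x, h, ha⟩, Subtype.ext ha⟩
    simp_rw [this]
  have hΩ'le : Nat.card (fixedPts H L) ≤ Nat.card {x : L // x ≠ 1} := by
    choose f hf using (fun a : fixedPts H L => a.2)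
    apply Nat.card_le_card_of_injective (fun a => (⟨f a, (hf a).1⟩ : {x : L // x ≠ 1}))
    intro a b hab
    have hfab : f a = f b := congrArg Subtype.val hab
    apply Subtype.ext
    apply hfix (f a : G) (by simpa using (hf a).1) a.1 b.1 (hf a).2
    rw [hfab]; exact (hf b).2
  have hΩ'1 : Nat.card (fixedPts H L) = 1 := by
    obtain ⟨c, hc⟩ := h2
    rw [hF2] at hc
    have hl2 : 2 ≤ Nat.card L := by omega
    have hc1 : c = 1 := by
      rcases c with _ | _ | c
      · omega
      · rfl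
      · exfalso; nlinarith
    subst hc1; omega
  obtain ⟨hsub, ⟨ω⟩⟩ := Nat.card_eq_one_iff_unique.mp hΩ'1
  obtain ⟨g, hg⟩ := QuotientGroup.mk_surjective ω.1
  refine ⟨g, fun y hy => ?_⟩
  have h3 : (⟨y, hy⟩ : L) • ω = ω := Subsingleton.elim _ _
  have h4 : y • (g : G ⧸ H) = g := by
    have := congrArg Subtype.val h3
    rw [SubMulAction.val_smul, ← hg] at this
    exact this
  rw [MulAction.Quotient.smul_mk, QuotientGroup.eq] at h4
  rw [Subgroup.mem_pointwise_smul_iff_inv_smul_mem]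
  simp only [MulAut.smul_def, MulAut.inv_apply, MulAut.conj_symm_apply]
  have h5 := H.inv_mem h4
  have e : ((y • g)⁻¹ * g)⁻¹ = g⁻¹ * y * g := by simp [smul_eq_mul, mul_assoc]
  rwa [e] at h5

end Cfsg.Agent.S0589
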