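import Cfsg.Statements.S0132
import Mathlib
import Cfsg.Agent.Helper9.NilpotentHall
import Cfsg.Agent.Helper9.NPCSub
import Cfsg.Agent.Helper9.SylowFusion

set_option autoImplicit false
open Cfsg

namespace Cfsg.Agent.S0132
open scoped Pointwise commutatorElement

/-- A minimal non-p-nilpotent finite group is a minimal non-nilpotent group with a normal Sylow p-subgroup. -/
theorem result {G : Type*} [Group G] [Finite G] {p : ℕ} [Fact p.Prime] (h1 : ¬ Cfsg.HasNormalPComplement p G) (h2 : ∀ H : Subgroup G, H ≠ ⊤ → Cfsg.HasNormalPComplement p H) : (∀ H : Subgroup G, H ≠ ⊤ → Group.IsNilpotent H) ∧ ¬ Group.IsNilpotent G ∧ ∀ P : Sylow p G, (P : Subgroup G).Normal := by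
  classical
  have hpp : p.Prime := Fact.out
  obtain ⟨P⟩ : Nonempty (Sylow p G) := inferInstance
  -- nilpotent groups are p-nilpotent
  have hnil_npc : ∀ (X : Type _) [Group X] [Finite X], Group.IsNilpotent X →
      Cfsg.HasNormalPComplement p X := by
    intro X _ _ hX
    obtain ⟨S⟩ : Nonempty (Sylow p X) := inferInstance
    have hfc : Cfsg.Agent.Helper9.FrobeniusCond p (S : Subgroup X) := by
      intro D hDS w hw hcop
      apply Cfsg.Agent.Helper9.mem_centralizer_of_nilpotent_of_coprime D w hw
      obtain ⟨k, hk⟩ := IsPGroup.iff_card.mp (S.2.to_le hDS)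
      rw [hk]
      exact Nat.Coprime.pow_right k hcop
    have hfus : Cfsg.Agent.Helper9.ControlsFusion (S : Subgroup X) := fun x hx g hy =>
      Cfsg.Agent.Helper9.controls_fusion_of_frobeniusCond S hfc x hx g hy
    obtain ⟨N, hN, hc⟩ :=
      Cfsg.Agent.Helper9.exists_normal_complement_of_controlsFusion _ X p S rfl hfus
    exact ⟨S, N, hN, hc⟩
  have hnotnil : ¬ Group.IsNilpotent G := fun h => h1 (hnil_npc G h)
  -- Frobenius condition fails
  have hnfc : ¬ Cfsg.Agent.Helper9.FrobeniusCond p (P : Subgroup G) := by
    intro hfc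
    have hfus : Cfsg.Agent.Helper9.ControlsFusion (P : Subgroup G) := fun x hx g hy =>
      Cfsg.Agent.Helper9.controls_fusion_of_frobeniusCond P hfc x hx g hy
    obtain ⟨N, hN, hc⟩ :=
      Cfsg.Agent.Helper9.exists_normal_complement_of_controlsFusion _ G p P rfl hfus
    exact h1 ⟨P, N, hN, hc⟩
  unfold Cfsg.Agent.Helper9.FrobeniusCond at hnfc
  simp only [not_forall] at hnfc
  obtain ⟨D, hDP, g, hgN, hgcop, hgC⟩ := hnfc
  have hDp : IsPGroup p D := P.2.to_le hDP
  -- M = D ⊔ ⟨g⟩ is not p-nilpotent, hence M = ⊤
  set M : Subgroup G := D ⊔ Subgroup.zpowers g with hM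
  have hDM : D ≤ M := le_sup_left
  have hgM : g ∈ M := (le_sup_right : Subgroup.zpowers g ≤ M) (Subgroup.mem_zpowers g)
  have hMN : M ≤ Subgroup.normalizer (D : Set G) :=
    sup_le Subgroup.le_normalizer (by rw [Subgroup.zpowers_le]; exact hgN)
  have hMtop : M = ⊤ := by
    by_contra hne
    have hnpc := h2 M hne
    have hDn : (D.subgroupOf M).Normal := (Subgroup.normal_subgroupOf_iff_le_normalizer hDM).mpr hMN
    have hDp' : IsPGroup p (D.subgroupOf M) := hDp.comap_subtype
    apply hgC
    rw [Subgroup.mem_centralizer_iff]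
    intro x hx
    have hx' : x ∈ D := hx
    have hcop' : Nat.Coprime (orderOf (⟨g, hgM⟩ : M)) p := by rwa [Subgroup.orderOf_mk]
    have := Cfsg.Agent.Helper9.commute_of_hasNormalPComplement hnpc (D.subgroupOf M) hDp'
      ⟨g, hgM⟩ hcop' ⟨x, hDM hx'⟩ (Subgroup.mem_subgroupOf.mpr hx')
    have h3 := congrArg Subtype.val this
    simpa using h3.symm
  have hDnormal : D.Normal := by
    rw [← Subgroup.normalizer_eq_top_iff]
    rw [eq_top_iff, ← hMtop]
    exact hMN
  -- D = P
  have hDeqP : D = (P : Subgroup G) := by
    have hidx : ¬ p ∣ D.index := by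
      -- index of D divides the order of g
      have h3 : D.index ∣ orderOf g := by
        have h4 : (D ⊔ Subgroup.zpowers g).index = 1 := by
          rw [← hM, hMtop]; exact Subgroup.index_top
        have h5 : D.relIndex (D ⊔ Subgroup.zpowers g) = D.relIndex (Subgroup.zpowers g) :=
          Subgroup.relIndex_sup_left (Subgroup.zpowers g) D
        have h6 : D.relIndex (D ⊔ Subgroup.zpowers g) = D.index := by
          rw [← hM, hMtop]; exact Subgroup.relIndex_top_right D
        rw [h6] at h5
        rw [h5]
        have h7 : D.relIndex (Subgroup.zpowers g) ∣ Nat.card (Subgroup.zpowers g) :=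
          Subgroup.relIndex_dvd_card D (Subgroup.zpowers g)
        rwa [Nat.card_zpowers] at h7
      intro hp
      have := Nat.Coprime.eq_one_of_dvd hgcop.symm (hp.trans h3)
      exact hpp.one_lt.ne' this
    have := (hDp.toSylow hidx).is_maximal' P.2 hDP
    exact this.symm
  have hPnormal : (P : Subgroup G).Normal := hDeqP ▸ hDnormal
  -- G' ≤ P
  have hGP : commutator G ≤ (P : Subgroup G) := by
    have := hPnormal
    apply Cfsg.Agent.Helper9.commutator_le_of_sup_eq_top_of_comm (Subgroup.zpowers g)
    · intro a ha b hb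
      obtain ⟨i, rfl⟩ := ha
      obtain ⟨j, rfl⟩ := hb
      rw [← zpow_add, ← zpow_add, add_comm]
    · rw [sup_comm, ← hDeqP, ← hM, hMtop]
  refine ⟨?_, hnotnil, ?_⟩
  · -- proper subgroups are nilpotent
    intro H hH
    have hnpc := h2 H hH
    obtain ⟨S, K, hKn, hKc⟩ := hnpc
    have := hKn
    have hKeq : K = Cfsg.pResidual p H := Cfsg.Agent.Helper9.normal_complement_eq_pResidual S K hKc
    -- K is abelian
    have hKcomm : ∀ a ∈ K, ∀ b ∈ K, a * b = b * a := by
      intro a ha b hb
      have h3 : ⁅a, b⁆ ∈ K := Subgroup.commutator_mem_commutator ha hb |>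
        (Subgroup.commutator_le_left K K ·) |> fun h => by
          have : ⁅K, K⁆ ≤ K := by
            rw [Subgroup.commutator_le]
            intro x hx y hy
            rw [commutatorElement_def]
            exact K.mul_mem (K.mul_mem (K.mul_mem hx hy) (K.inv_mem hx)) (K.inv_mem hy)
          exact this (Subgroup.commutator_mem_commutator ha hb)
      have h4 : ((⁅a, b⁆ : H) : G) ∈ (P : Subgroup G) := by
        apply hGP
        have : ((⁅a, b⁆ : H) : G) = ⁅(a : G), (b : G)⁆ := by
          simp [commutatorElement_def]
        rw [this, commutator_def]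
        exact Subgroup.commutator_mem_commutator (Subgroup.mem_top _) (Subgroup.mem_top _)
      obtain ⟨k, hk⟩ := P.2 ⟨_, h4⟩
      have hk' : (⁅a, b⁆ : H) ^ p ^ k = 1 := by
        have := congrArg (fun z : (P : Subgroup G) => (z : G)) hk
        apply Subtype.ext
        simpa using this
      have h5 := Cfsg.Agent.Helper9.eq_one_of_mem_complement_of_pow S K hKc h3 hk'
      exact commutatorElement_eq_one_iff_mul_comm.mp h5
    -- all Sylow subgroups of H are normal
    have hall : ∀ (q : ℕ) (_hq : Fact q.Prime) (Q : Sylow q H), (Q : Subgroup H).Normal := by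
      intro q hq Q
      by_cases hqp : q = p
      · subst hqp
        -- Q = P ∩ H
        have hPH : ((P : Subgroup G).subgroupOf H).Normal := by
          have := hPnormal
          infer_instance
        have hPHp : IsPGroup q ((P : Subgroup G).subgroupOf H) := P.2.comap_subtype
        have hle : (Q : Subgroup H) ≤ (P : Subgroup G).subgroupOf H := by
          intro x hx
          rw [Subgroup.mem_subgroupOf]
          -- the subgroup generated by x is a p-group, lies in a conjugate of P = P
          have hQm : IsPGroup q ((Q : Subgroup H).map H.subtype) := Q.2.map _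
          obtain ⟨h, hh⟩ := Cfsg.Agent.Helper9.exists_le_conj_sylow P _ hQm
          have hPh : (P : Subgroup G).map (MulAut.conj h).toMonoidHom = (P : Subgroup G) := by
            rw [Cfsg.Agent.Helper9.map_conj_eq_iff_mem_normalizer,
              Subgroup.normalizer_eq_top_iff.mpr hPnormal]
            trivial
          rw [hPh] at hh
          exact hh ⟨x, hx, rfl⟩
        have := Q.is_maximal' hPHp hle
        rw [← this]; exact hPH
      · -- q ≠ p : Q ≤ K, K abelian
        have hQK : (Q : Subgroup H) ≤ K := by
          intro x hx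
          rw [hKeq]
          apply Cfsg.Agent.Helper9.mem_pResidual_of_coprime
          obtain ⟨k, hk⟩ := Q.2 ⟨x, hx⟩
          have hk' : x ^ q ^ k = 1 := by
            have := congrArg (fun z : (Q : Subgroup H) => (z : H)) hk
            simpa using this
          have h3 : orderOf x ∣ q ^ k := orderOf_dvd_of_pow_eq_one hk'
          have hcop : Nat.Coprime (q ^ k) p :=
            Nat.Coprime.pow_left k ((Nat.coprime_primes hq.out hpp).mpr hqp)
          exact Nat.Coprime.coprime_dvd_left h3 hcop
        constructor
        intro n hn h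
        -- the conjugate h • Q also lies in K
        have hQ'K : ((h • Q : Sylow q H) : Subgroup H) ≤ K := by
          rw [Cfsg.Agent.Helper9.sylow_smul_coe_eq_map]
          rintro _ ⟨x, hx, rfl⟩
          exact hKn.conj_mem x (hQK hx) h
        obtain ⟨k, hk, hkQ⟩ := Cfsg.Agent.Helper9.exists_mem_conj_sylow_of_le Q (h • Q) K hQK hQ'K
        have hfix : (Q : Subgroup H).map (MulAut.conj k).toMonoidHom = (Q : Subgroup H) := by
          ext x
          rw [Cfsg.Agent.Helper9.mem_map_conj_iff]
          constructor
          · intro hx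
            have hxK : k⁻¹ * x * k ∈ K := hQK hx
            have hxK' : x ∈ K := by
              have : x = k * (k⁻¹ * x * k) * k⁻¹ := by group
              rw [this]
              exact K.mul_mem (K.mul_mem hk hxK) (K.inv_mem hk)
            have : k⁻¹ * x * k = x := by
              rw [mul_assoc, hKcomm x hxK' k hk, ← mul_assoc, inv_mul_cancel, one_mul]
            rwa [this] at hx
          · intro hx
            have hxK' : x ∈ K := hQK hx
            have : k⁻¹ * x * k = x := by
              rw [mul_assoc, hKcomm x hxK' k hk, ← mul_assoc, inv_mul_cancel, one_mul]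
            rwa [this]
        rw [hfix] at hkQ
        have : h * n * h⁻¹ ∈ ((h • Q : Sylow q H) : Subgroup H) := by
          rw [Cfsg.Agent.Helper9.sylow_smul_coe_eq_map]
          exact ⟨n, hn, rfl⟩
        rwa [← hkQ] at this
    exact (Group.isNilpotent_of_finite_tfae (G := H)).out 3 0 |>.mp hall
  · intro P'
    obtain ⟨h, rfl⟩ := MulAction.exists_smul_eq G P P'
    rw [Sylow.smul_eq_of_normal]
    exact hPnormal

end Cfsg.Agent.S0132
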