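import Cfsg.Statements.S0071
import Mathlib
import Cfsg.Agent.Helper9.Frobenius

set_option autoImplicit false
open Cfsg

namespace Cfsg.Agent.S0071

/-- The Frobenius normal p-complement Theorem states that a Sylow p-subgroup has a normal complement exactly when, for each of its subgroups Q, every element of the normalizer of Q of order prime to p centralizes Q. -/
theorem result {G : Type*} [Group G] [Finite G] {p : ℕ} [Fact p.Prime] (P : Sylow p G) : (∃ N : Subgroup G, N.Normal ∧ N.IsComplement' (P : Subgroup G)) ↔ ∀ Q : Subgroup G, Q ≤ (P : Subgroup G) → ∀ g ∈ Subgroup.normalizer (Q : Set G), Nat.Coprime (orderOf g) p → g ∈ Subgroup.centralizer (Q : Set G) := by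
  classical
  constructor
  · rintro ⟨N, hN, hc⟩ Q hQP g hg hcop
    have hNeq : N = Cfsg.pResidual p G := Cfsg.Agent.Helper9.normal_complement_eq_pResidual P N hc
    have hgN : g ∈ N := by
      rw [hNeq]; exact Cfsg.Agent.Helper9.mem_pResidual_of_coprime p hcop
    have hdisj : N ⊓ (P : Subgroup G) = ⊥ := hc.disjoint.eq_bot
    rw [Subgroup.mem_centralizer_iff]
    intro x hx
    have hx' : x ∈ Q := hx
    have h1 : g * x * g⁻¹ ∈ Q := (Subgroup.mem_normalizer_iff.mp hg x).mp hx'
    have h2 : g * x * g⁻¹ * x⁻¹ ∈ (P : Subgroup G) := hQP (mul_mem h1 (inv_mem hx'))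
    have h3 : g * x * g⁻¹ * x⁻¹ ∈ N := by
      have : x * g⁻¹ * x⁻¹ ∈ N := hN.conj_mem g⁻¹ (inv_mem hgN) x
      have e : g * x * g⁻¹ * x⁻¹ = g * (x * g⁻¹ * x⁻¹) := by group
      rw [e]
      exact mul_mem hgN this
    have h4 : g * x * g⁻¹ * x⁻¹ ∈ N ⊓ (P : Subgroup G) := ⟨h3, h2⟩
    rw [hdisj, Subgroup.mem_bot] at h4
    have e : g * x = (g * x * g⁻¹ * x⁻¹) * (x * g) := by group
    rw [e, h4, one_mul]
  · intro h
    have hfc : Cfsg.Agent.Helper9.FrobeniusCond p (P : Subgroup G) := h
    have hfus : Cfsg.Agent.Helper9.ControlsFusion (P : Subgroup G) := fun x hx g hy =>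
      Cfsg.Agent.Helper9.controls_fusion_of_frobeniusCond P hfc x hx g hy
    exact Cfsg.Agent.Helper9.exists_normal_complement_of_controlsFusion _ G p P rfl hfus

end Cfsg.Agent.S0071
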