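import Cfsg.Statements.S1492
import Cfsg.Agent.Helper8.SchurCommute
import Cfsg.Agent.Helper8.CharVal
import Cfsg.Agent.Helper8.Ind
import Cfsg.Agent.Helper8.IndTrans
import Cfsg.Agent.Helper24.Restrict
import Cfsg.Agent.Helper24.Induced
import Cfsg.Agent.Helper5.IndFun

set_option autoImplicit false
open Cfsg

namespace Cfsg.Agent.S1492

open Cfsg.Agent.Helper8
open Cfsg.Agent.Helper24 (irrDeg irrDeg_spec irrDeg_pos irrDeg_le_of_constituent isCharacter_indFun
  classInner_sum_irr norm_char_eq_iff char_eq_finrank_iff)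

/-- Let ψ be an irreducible character of the finite group G and B ≤ D ≤ C subgroups with B normal in C, every commutator of an element of D with an element of C lying in B (so D/B is central in C/B), and ψ constant equal to ψ 1 on B. Then ψ(1) ^ 2 * |C| * |D| ≤ |G| ^ 2. -/
theorem result {G : Type*} [Group G] [Finite G] (ψ : G → ℂ) (hψ : Cfsg.IsIrrCharacter G ψ) (B C D : Subgroup G) (hBD : B ≤ D) (hDC : D ≤ C) (hBn : ∀ c ∈ C, ∀ b ∈ B, c * b * c⁻¹ ∈ B) (hcent : ∀ d ∈ D, ∀ c ∈ C, d * c * d⁻¹ * c⁻¹ ∈ B) (hker : ∀ b ∈ B, ψ b = ψ 1) : ‖ψ 1‖ ^ 2 * (Nat.card C : ℝ) * (Nat.card D : ℝ) ≤ (Nat.card G : ℝ) ^ 2 := by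
  classical
  have fG : Fintype G := Fintype.ofFinite G
  have fC : Fintype C := Fintype.ofFinite C
  have fIG : Fintype (Cfsg.IrrCharacter G) := Fintype.ofFinite _
  have fIC : Fintype (Cfsg.IrrCharacter C) := Fintype.ofFinite _
  have hψchar : Cfsg.IsCharacter G ψ := Cfsg.Agent.Helper24.IsIrrCharacter.isCharacter hψ
  have hψcf : Cfsg.IsClassFunction G ψ := Cfsg.Agent.Helper24.IsCharacter.isClassFunction hψchar
  let ψ' : Cfsg.IrrCharacter G := ⟨ψ, hψ⟩
  have hm : ψ 1 = (irrDeg ψ' : ℂ) := irrDeg_spec ψ'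
  have hmpos : 0 < irrDeg ψ' := irrDeg_pos ψ'
  -- the restriction to C
  have hres : Cfsg.IsCharacter C (fun c : C => ψ c) := isCharacter_restrict C hψchar
  have hres0 : (fun c : C => ψ c) ≠ 0 := by
    intro h
    have h1 := congrFun h 1
    simp only [OneMemClass.coe_one, Pi.zero_apply] at h1
    rw [hm] at h1
    exact hmpos.ne' (by exact_mod_cast h1)
  obtain ⟨χ, hχ⟩ := Cfsg.Agent.Helper24.IsCharacter.exists_irr_constituent hres hres0
  obtain ⟨nn, hnn⟩ := Cfsg.Agent.Helper24.IsCharacter.exists_nat_coeff hres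
  have hcoef : ∀ ξ : Cfsg.IrrCharacter C, Cfsg.classInner (fun c : C => ψ c) (ξ : C → ℂ) = nn ξ := by
    intro ξ
    rw [hnn]
    exact classInner_sum_irr _ ξ
  have hnχ : nn χ ≠ 0 := by
    intro h
    apply hχ
    rw [hcoef, h]; simp
  -- step 2: degree bound
  have hdeg : irrDeg ψ' ≤ C.index * irrDeg χ := by
    have hind : Cfsg.IsCharacter G (Cfsg.indFun C (χ : C → ℂ)) :=
      isCharacter_indFun C (Cfsg.Agent.Helper24.IsIrrCharacter.isCharacter χ.2)
    apply irrDeg_le_of_constituent hind ψ'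
    · rw [frobenius_reciprocity C (χ : C → ℂ) ψ hψcf, classInner_conj_symm (fun c : C => ψ c) χ,
        hcoef, Complex.conj_natCast]
      exact Nat.cast_ne_zero.mpr hnχ
    · rw [Cfsg.Agent.Helper5.indFun_apply_one, irrDeg_spec χ]
      push_cast
      ring
  -- step 3: B is in the kernel of χ
  have hχB : ∀ b : C, (b : G) ∈ B → (χ : C → ℂ) b = (χ : C → ℂ) 1 := by
    intro b hb
    have h1 : ∑ ξ : Cfsg.IrrCharacter C, (nn ξ : ℝ) * (((ξ : C → ℂ) 1).re - ((ξ : C → ℂ) b).re) = 0 := by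
      have e1 := congrFun hnn b
      have e2 := congrFun hnn 1
      simp only [Finset.sum_apply, Pi.smul_apply, smul_eq_mul, OneMemClass.coe_one] at e1 e2
      have e3 : ψ b = ψ 1 := hker b hb
      have e4 : (∑ ξ : Cfsg.IrrCharacter C, (nn ξ : ℂ) * (ξ : C → ℂ) 1).re
          = (∑ ξ : Cfsg.IrrCharacter C, (nn ξ : ℂ) * (ξ : C → ℂ) b).re := by
        rw [← e1, ← e2, e3]
      rw [Complex.re_sum, Complex.re_sum] at e4
      have e5 : ∀ (ξ : Cfsg.IrrCharacter C) (y : C), ((nn ξ : ℂ) * (ξ : C → ℂ) y).re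
          = (nn ξ : ℝ) * ((ξ : C → ℂ) y).re := by
        intro ξ y
        rw [Complex.mul_re]
        simp
      simp only [e5] at e4
      simp only [mul_sub, Finset.sum_sub_distrib]
      linarith
    have h2 := (Finset.sum_eq_zero_iff_of_nonneg (fun ξ _ => by
      apply mul_nonneg (Nat.cast_nonneg _)
      have := char_re_le (Cfsg.Agent.Helper24.IsIrrCharacter.isCharacter ξ.2) b
      linarith)).mp h1 χ (Finset.mem_univ χ)
    have h3 : ((χ : C → ℂ) 1).re - ((χ : C → ℂ) b).re = 0 := by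
      rcases mul_eq_zero.mp h2 with h | h
      · exact absurd (by exact_mod_cast h) hnχ
      · exact h
    exact char_eq_of_re_eq (Cfsg.Agent.Helper24.IsIrrCharacter.isCharacter χ.2) b (by linarith)
  -- step 4: D acts by scalars
  obtain ⟨n, ρ, hρ, hρχ⟩ := χ.2
  have hn : irrDeg χ = n := by
    have h1 := irrDeg_spec χ
    rw [← hρχ, Representation.char_one] at h1
    simp only [Module.finrank_fintype_fun_eq_card, Fintype.card_fin] at h1
    exact_mod_cast h1.symm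
  have hfr : Module.finrank ℂ (Fin n → ℂ) = n := by simp
  have hρB : ∀ b : C, (b : G) ∈ B → ρ b = LinearMap.id := by
    intro b hb
    rw [← char_eq_finrank_iff, hρχ, hχB b hb, ← hρχ, Representation.char_one]
  have hρD : ∀ d : C, (d : G) ∈ D → ‖(χ : C → ℂ) d‖ = (n : ℝ) := by
    intro d hd
    have hcomm : ∀ c : C, ρ d ∘ₗ ρ c = ρ c ∘ₗ ρ d := by
      intro c
      have h1 : ρ (d * c * d⁻¹ * c⁻¹) = LinearMap.id := hρB _ (hcent d hd c c.2)
      have h2 : ρ (d * c) = ρ (d * c * d⁻¹ * c⁻¹) * ρ (c * d) := by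
        rw [← map_mul]
        congr 1
        group
      rw [h1] at h2
      have h3 : ρ d * ρ c = ρ c * ρ d := by
        rw [← map_mul, ← map_mul, h2]
        rfl
      exact h3
    have := hρ
    obtain ⟨ω, hω⟩ := exists_scalar_of_commute ρ (ρ d) hcomm
    have h4 := (norm_char_eq_iff ρ d).mpr ⟨ω, hω⟩
    rw [hρχ, hfr] at h4
    exact h4
  -- step 5: the norm of χ
  have hnorm : ∑ c : C, ‖(χ : C → ℂ) c‖ ^ 2 = (Nat.card C : ℝ) := by
    have h1 := Cfsg.Agent.Helper24.classInner_irr_self χ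
    unfold Cfsg.classInner at h1
    have hC0 : (Nat.card C : ℂ) ≠ 0 := Nat.cast_ne_zero.mpr Nat.card_pos.ne'
    have h2 : ∑ c : C, (χ : C → ℂ) c * (starRingEnd ℂ) ((χ : C → ℂ) c) = (Nat.card C : ℂ) := by
      field_simp at h1
      exact h1
    have h3 : ∀ c : C, (χ : C → ℂ) c * (starRingEnd ℂ) ((χ : C → ℂ) c)
        = ((‖(χ : C → ℂ) c‖ ^ 2 : ℝ) : ℂ) := by
      intro c
      rw [Complex.mul_conj, Complex.normSq_eq_norm_sq]
    simp only [h3] at h2
    have h4 : ((∑ c : C, ‖(χ : C → ℂ) c‖ ^ 2 : ℝ) : ℂ) = ((Nat.card C : ℝ) : ℂ) := by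
      push_cast
      push_cast at h2
      exact h2
    exact_mod_cast h4
  have hD : (Nat.card D : ℝ) * (n : ℝ) ^ 2 ≤ (Nat.card C : ℝ) := by
    rw [← hnorm]
    have h1 : ∑ c ∈ Finset.univ.filter (fun c : C => (c : G) ∈ D), ‖(χ : C → ℂ) c‖ ^ 2
        ≤ ∑ c : C, ‖(χ : C → ℂ) c‖ ^ 2 :=
      Finset.sum_le_sum_of_subset_of_nonneg (Finset.subset_univ _) (fun c _ _ => sq_nonneg _)
    have h2 : ∑ c ∈ Finset.univ.filter (fun c : C => (c : G) ∈ D), ‖(χ : C → ℂ) c‖ ^ 2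
        = ((Finset.univ.filter (fun c : C => (c : G) ∈ D)).card : ℝ) * (n : ℝ) ^ 2 := by
      rw [Finset.sum_congr rfl (fun c hc => by rw [hρD c (Finset.mem_filter.mp hc).2]),
        Finset.sum_const, nsmul_eq_mul]
    have h3 : (Finset.univ.filter (fun c : C => (c : G) ∈ D)).card = Nat.card D := by
      rw [← card_subgroupOf_of_le hDC, Nat.card_eq_fintype_card, Fintype.card_subtype]
      rfl
    rw [h2, h3] at h1
    exact h1
  -- step 6: arithmetic
  have hnormψ : ‖ψ 1‖ = (irrDeg ψ' : ℝ) := by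
    rw [hm, Complex.norm_natCast]
  have hidx : (C.index : ℝ) * (Nat.card C : ℝ) = (Nat.card G : ℝ) := by
    rw [← Nat.cast_mul, Subgroup.index_mul_card]
  have hdeg' : (irrDeg ψ' : ℝ) ≤ (C.index : ℝ) * (n : ℝ) := by
    rw [← hn]
    exact_mod_cast hdeg
  rw [hnormψ, ← hidx]
  have hC0 : (0 : ℝ) ≤ (Nat.card C : ℝ) := Nat.cast_nonneg _
  have hD0 : (0 : ℝ) ≤ (Nat.card D : ℝ) := Nat.cast_nonneg _
  have hm0 : (0 : ℝ) ≤ (irrDeg ψ' : ℝ) := Nat.cast_nonneg _
  have hj0 : (0 : ℝ) ≤ (C.index : ℝ) := Nat.cast_nonneg _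
  have hn0 : (0 : ℝ) ≤ (n : ℝ) := Nat.cast_nonneg _
  have hsq : (irrDeg ψ' : ℝ) ^ 2 ≤ ((C.index : ℝ) * (n : ℝ)) ^ 2 :=
    pow_le_pow_left₀ hm0 hdeg' 2
  calc (irrDeg ψ' : ℝ) ^ 2 * (Nat.card C : ℝ) * (Nat.card D : ℝ)
      ≤ ((C.index : ℝ) * (n : ℝ)) ^ 2 * (Nat.card C : ℝ) * (Nat.card D : ℝ) := by
        apply mul_le_mul_of_nonneg_right _ hD0
        exact mul_le_mul_of_nonneg_right hsq hC0
    _ = (C.index : ℝ) ^ 2 * (Nat.card C : ℝ) * ((Nat.card D : ℝ) * (n : ℝ) ^ 2) := by ring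
    _ ≤ (C.index : ℝ) ^ 2 * (Nat.card C : ℝ) * (Nat.card C : ℝ) := by
        apply mul_le_mul_of_nonneg_left hD
        exact mul_nonneg (sq_nonneg _) hC0
    _ = ((C.index : ℝ) * (Nat.card C : ℝ)) ^ 2 := by ring

end Cfsg.Agent.S1492
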