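import Cfsg.Statements.S0072
import Mathlib
import Cfsg.Agent.Helper9.Frobenius
import Cfsg.Agent.Helper9.NPCSub

set_option autoImplicit false
open Cfsg

namespace Cfsg.Agent.S0072

/-- A finite group has a normal p-complement if and only if every p-local subgroup (normalizer of a nontrivial p-subgroup) has one. -/
theorem result {G : Type*} [Group G] [Finite G] (p : ℕ) [Fact p.Prime] : Cfsg.HasNormalPComplement p G ↔ ∀ Q : Subgroup G, IsPGroup p Q → Q ≠ ⊥ → Cfsg.HasNormalPComplement p (Subgroup.normalizer (Q : Set G)) := by
  classical
  constructor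
  · intro h Q _ _
    exact Cfsg.Agent.Helper9.hasNormalPComplement_subgroup h _
  · intro h
    obtain ⟨P⟩ : Nonempty (Sylow p G) := inferInstance
    have hfc : Cfsg.Agent.Helper9.FrobeniusCond p (P : Subgroup G) := by
      intro D hDP g hg hcop
      by_cases hD : D = ⊥
      · subst hD
        rw [Subgroup.mem_centralizer_iff]
        intro x hx
        have : x = 1 := hx
        rw [this, mul_one, one_mul]
      · have hDp : IsPGroup p D := P.2.to_le hDP
        have hnpc := h D hDp hD
        have hDn : (D.subgroupOf (Subgroup.normalizer (D : Set G))).Normal :=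
          Subgroup.normal_in_normalizer
        have hDp' : IsPGroup p (D.subgroupOf (Subgroup.normalizer (D : Set G))) :=
          hDp.comap_subtype
        rw [Subgroup.mem_centralizer_iff]
        intro x hx
        have hx' : x ∈ D := hx
        have hcop' : Nat.Coprime (orderOf (⟨g, hg⟩ : Subgroup.normalizer (D : Set G))) p := by
          rwa [Subgroup.orderOf_mk]
        have := Cfsg.Agent.Helper9.commute_of_hasNormalPComplement hnpc
          (D.subgroupOf (Subgroup.normalizer (D : Set G))) hDp' ⟨g, hg⟩ hcop'
          ⟨x, Subgroup.le_normalizer hx'⟩ (Subgroup.mem_subgroupOf.mpr hx')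
        have h2 := congrArg Subtype.val this
        simpa using h2.symm
    have hfus : Cfsg.Agent.Helper9.ControlsFusion (P : Subgroup G) := fun x hx g hy =>
      Cfsg.Agent.Helper9.controls_fusion_of_frobeniusCond P hfc x hx g hy
    obtain ⟨N, hN, hc⟩ :=
      Cfsg.Agent.Helper9.exists_normal_complement_of_controlsFusion _ G p P rfl hfus
    exact ⟨P, N, hN, hc⟩

end Cfsg.Agent.S0072
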