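import Cfsg.Statements.S0042
import Cfsg.Agent.Lead.Fpf5
import Cfsg.Agent.S0035
import Cfsg.Agent.Helper1.FrobeniusCompl

set_option autoImplicit false
open Cfsg

namespace Cfsg.Agent.S0042

/-- In a finite Frobenius group, the Frobenius kernel is (the carrier of) a normal subgroup which is nilpotent. -/
theorem result {G : Type*} [Group G] [Finite G] (H : Subgroup G) (hH : Cfsg.IsFrobeniusComplement H) :
    ∃ N : Subgroup G, (N : Set G) = Cfsg.frobeniusKernel H ∧ N.Normal ∧ Group.IsNilpotent N := by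
  obtain ⟨N, hNk, hNn, hNc⟩ := Cfsg.Agent.S0035.result H hH
  refine ⟨N, hNk, hNn, ?_⟩
  haveI := hNn
  -- an element of prime order in `H`
  have hH1 : Nat.card H ≠ 1 := fun h => hH.1 (Subgroup.card_eq_one.mp h)
  obtain ⟨r, hr, hrH⟩ := Nat.exists_prime_and_dvd hH1
  haveI : Fact r.Prime := ⟨hr⟩
  obtain ⟨h, hh⟩ := exists_prime_orderOf_dvd_card' r hrH
  have hh1 : (h : G) ≠ 1 := by
    intro h0
    have h1 : h = 1 := Subtype.ext h0
    rw [h1, orderOf_one] at hh
    exact hr.one_lt.ne hh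
  have hhr : (h : G) ^ r = 1 := by
    have h1 : h ^ r = 1 := by rw [← hh]; exact pow_orderOf_eq_one h
    have := congrArg Subtype.val h1
    simpa using this
  set φ : N ≃* N := MulAut.conjNormal (h : G) with hφ
  have hfpf : ∀ n : N, φ n = n → n = 1 := by
    intro n hn
    have h1 : (h : G) * n * (h : G)⁻¹ = n := by
      have := congrArg Subtype.val hn
      rwa [hφ, MulAut.conjNormal_apply] at this
    have h2 : (n : G) ∈ N ⊓ Subgroup.centralizer {(h : G)} := by
      refine Subgroup.mem_inf.mpr ⟨n.2, ?_⟩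
      rw [Subgroup.mem_centralizer_singleton_iff]
      calc (n : G) * h = ((h : G) * n * (h : G)⁻¹) * h := by rw [h1]
        _ = h * n := by group
    rw [Cfsg.Agent.Helper1.frob_fpf hH hNk (h : G) h.2 hh1, Subgroup.mem_bot] at h2
    exact Subtype.ext h2
  have hpow : ∀ n : N, φ^[r] n = n := by
    intro n
    rw [← Cfsg.Agent.Lead.Fpf.mulAut_pow_apply, hφ, ← map_pow, hhr, map_one]
    rfl
  exact Cfsg.Agent.Lead.Fpf.nilpotent_of_fpfAut hr _ N φ rfl ⟨hfpf, hpow⟩

end Cfsg.Agent.S0042
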