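import Cfsg.Statements.S0575
import Mathlib

set_option autoImplicit false
open Cfsg
open scoped Pointwise

namespace Cfsg.Agent.S0575

/-- If H is a normal subgroup of a finite group G, then the Frattini subgroup of H, viewed in G, lies in the Frattini subgroup of G. -/
theorem result {G : Type*} [Group G] [Finite G] (H : Subgroup G) [H.Normal] : (frattini ↥H).map H.subtype ≤ frattini G := by
  set F := (frattini ↥H).map H.subtype with hF
  have hFH : F ≤ H := by
    rintro _ ⟨x, _, rfl⟩
    exact x.2
  have hFn : F.Normal := ConjAct.normal_of_characteristic_of_normal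
  unfold frattini Order.radical
  apply le_iInf₂
  intro M hM
  by_contra hFM
  -- M ⊔ F = ⊤
  have hsup : M ⊔ F = ⊤ := by
    have hlt : M < M ⊔ F := by
      apply lt_of_le_of_ne le_sup_left
      intro h
      apply hFM
      rw [h]; exact le_sup_right
    exact hM.2 _ hlt
  -- H ≤ M
  have key : (M.subgroupOf H) ⊔ frattini ↥H = ⊤ := by
    rw [eq_top_iff]
    intro h _
    have hh : (h : G) ∈ M ⊔ F := by rw [hsup]; trivial
    have hset : ((M ⊔ F : Subgroup G) : Set G) = (M : Set G) * (F : Set G) := Subgroup.mul_normal M F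
    have hh' : (h : G) ∈ (M : Set G) * (F : Set G) := by rw [← hset]; exact hh
    obtain ⟨m, hm, f, hf, hmf⟩ := hh'
    obtain ⟨f', hf', rfl⟩ := hf
    have hmH : m ∈ H := by
      have : m = (h : G) * ((f' : G))⁻¹ := by
        rw [← hmf]; simp
      rw [this]
      exact H.mul_mem h.2 (H.inv_mem f'.2)
    have : h = ⟨m, hmH⟩ * f' := by
      apply Subtype.ext
      simpa using hmf.symm
    rw [this]
    apply Subgroup.mul_mem_sup
    · rw [Subgroup.mem_subgroupOf]; exact hm
    · exact hf'
  have hK := frattini_nongenerating key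
  have hHM : H ≤ M := by
    intro x hx
    have : (⟨x, hx⟩ : H) ∈ M.subgroupOf H := by rw [hK]; trivial
    rwa [Subgroup.mem_subgroupOf] at this
  exact hFM (hFH.trans hHM)

end Cfsg.Agent.S0575
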