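import Cfsg.Statements.S0585
import Mathlib

set_option autoImplicit false
open Cfsg

namespace Cfsg.Agent.S0585

theorem result {G : Type*} [Group G] [Finite G] (hΦ : frattini G = ⊥) (A : Subgroup G) [A.Normal] [IsMulCommutative A] : ∃ H : Subgroup G, Subgroup.IsComplement' A H := by
  have hAc : ∀ x ∈ A, ∀ y ∈ A, x * y = y * x := fun x hx y hy => by
    have := mul_comm' (⟨x, hx⟩ : A) ⟨y, hy⟩
    exact congrArg Subtype.val this
  -- minimal H with A ⊔ H = ⊤
  let S : Set (Subgroup G) := {H | A ⊔ H = ⊤}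
  have hSne : S.Nonempty := ⟨⊤, by simp [S]⟩
  obtain ⟨H, hH⟩ := (Set.toFinite S).exists_minimal hSne
  have hHS : A ⊔ H = ⊤ := hH.1
  have hmin : ∀ K : Subgroup G, A ⊔ K = ⊤ → K ≤ H → H ≤ K := fun K hK hKH => hH.2 hK hKH
  set D : Subgroup G := A ⊓ H with hD
  -- D is normal in G
  have hDn : D.Normal := by
    rw [← Subgroup.normalizer_eq_top_iff, eq_top_iff, ← hHS]
    refine sup_le (fun a ha => ?_) (fun h hh => ?_)
    · rw [Subgroup.mem_normalizer_iff]
      intro d
      constructor
      · intro hd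
        have : a * d * a⁻¹ = d := by rw [hAc a ha d hd.1]; group
        rw [this]; exact hd
      · intro hd
        have hdA : d ∈ A := by
          have := (inferInstance : A.Normal).conj_mem _ hd.1 a⁻¹
          simpa [mul_assoc] using this
        have : a * d * a⁻¹ = d := by rw [hAc a ha d hdA]; group
        rwa [this] at hd
    · rw [Subgroup.mem_normalizer_iff]
      intro d
      constructor
      · intro hd
        exact ⟨(inferInstance : A.Normal).conj_mem _ hd.1 h, H.mul_mem (H.mul_mem hh hd.2) (H.inv_mem hh)⟩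
      · intro hd
        have e : d = h⁻¹ * (h * d * h⁻¹) * (h⁻¹)⁻¹ := by group
        rw [e]
        exact ⟨(inferInstance : A.Normal).conj_mem _ hd.1 h⁻¹,
          H.mul_mem (H.mul_mem (H.inv_mem hh) hd.2) (H.inv_mem (H.inv_mem hh))⟩
  have hDbot : D = ⊥ := by
    by_contra hne
    -- a maximal subgroup not containing D
    have : ¬ D ≤ frattini G := by rw [hΦ, le_bot_iff]; exact hne
    unfold frattini Order.radical at this
    rw [le_iInf₂_iff] at this
    push Not at this
    obtain ⟨M, hM, hDM⟩ := this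
    have hsup : D ⊔ M = ⊤ := by
      rcases eq_or_lt_of_le (le_sup_right : M ≤ D ⊔ M) with h | h
      · exfalso; apply hDM; rw [h]; exact le_sup_left
      · exact hM.2 _ h
    -- H ≤ D ⊔ (H ⊓ M)
    have hHle : H ≤ D ⊔ (H ⊓ M) := by
      intro h hh
      have hx : h ∈ D ⊔ M := by rw [hsup]; trivial
      rw [Subgroup.mem_sup_of_normal_left] at hx
      obtain ⟨d, hd, m, hm, hdm⟩ := hx
      have hmH : m ∈ H := by
        have : m = d⁻¹ * h := by rw [← hdm]; group
        rw [this]
        exact H.mul_mem (H.inv_mem hd.2) hh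
      rw [← hdm]
      exact Subgroup.mul_mem_sup hd ⟨hmH, hm⟩
    have h1 : A ⊔ (H ⊓ M) = ⊤ := by
      rw [eq_top_iff, ← hHS]
      refine sup_le le_sup_left (hHle.trans ?_)
      exact sup_le (le_sup_of_le_left inf_le_left) le_sup_right
    have h2 : H ≤ H ⊓ M := hmin _ h1 inf_le_left
    exact hDM ((inf_le_right : D ≤ H).trans (h2.trans inf_le_right))
  refine ⟨H, ?_⟩
  apply Subgroup.isComplement'_of_disjoint_and_mul_eq_univ
  · rw [disjoint_iff]; exact hDbot
  · rw [← Subgroup.normal_mul, hHS, Subgroup.coe_top]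

end Cfsg.Agent.S0585
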