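import Cfsg.Statements.S0586
import Mathlib
import Cfsg.Agent.Helper7.Fitting
import Cfsg.Agent.S0575
import Cfsg.Agent.S0585

set_option autoImplicit false
open Cfsg

namespace Cfsg.Agent.S0586

open Subgroup
open scoped commutatorElement

open scoped IsMulCommutative in
theorem isNilpotent_of_isMulCommutative {G : Type*} [Group G] (N : Subgroup G)
    [IsMulCommutative N] : Group.IsNilpotent N := inferInstance

theorem isSimpleGroup_quotient_of_isCoatom {F : Type*} [Group F] (M : Subgroup F) [M.Normal]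
    (hM : IsCoatom M) : IsSimpleGroup (F ⧸ M) := by
  have : Nontrivial (F ⧸ M) := by
    rw [QuotientGroup.nontrivial_iff]
    exact hM.1
  refine ⟨fun H _ => ?_⟩
  have hle : M ≤ H.comap (QuotientGroup.mk' M) := by
    conv_lhs => rw [← QuotientGroup.ker_mk' M]
    exact MonoidHom.ker_le_comap _ _
  rcases eq_or_lt_of_le hle with h | h
  · left
    rw [← Subgroup.map_comap_eq_self_of_surjective (QuotientGroup.mk'_surjective M) H, ← h]
    simp
  · right
    have := hM.2 _ h
    rw [← Subgroup.map_comap_eq_self_of_surjective (QuotientGroup.mk'_surjective M) H, this]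
    rw [← MonoidHom.range_eq_map, MonoidHom.range_eq_top]
    exact QuotientGroup.mk'_surjective M

/-- A finite nilpotent group with trivial Frattini subgroup is commutative. -/
theorem comm_of_nilpotent_frattini_bot {F : Type*} [Group F] [Finite F] [Group.IsNilpotent F]
    (h : frattini F = ⊥) : ∀ a b : F, a * b = b * a := by
  have hc : commutator F ≤ frattini F := by
    unfold frattini Order.radical
    rw [le_iInf₂_iff]
    intro M hM
    have htfae : Group.IsNilpotent F ↔ ∀ H : Subgroup F, IsCoatom H → H.Normal :=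
      (Group.isNilpotent_of_finite_tfae (G := F)).out 0 2
    have hMn : M.Normal := htfae.mp ‹Group.IsNilpotent F› M hM
    have := isSimpleGroup_quotient_of_isCoatom M hM
    rw [← Subgroup.Normal.quotient_commutative_iff_commutator_le]
    infer_instance
  rw [h, le_bot_iff] at hc
  intro a b
  have : ⁅a, b⁆ ∈ commutator F := Subgroup.commutator_mem_commutator (mem_top a) (mem_top b)
  rw [hc, mem_bot, commutatorElement_eq_one_iff_mul_comm] at this
  exact this

/-- A nontrivial normal subgroup of a finite group contains a minimal normal subgroup. -/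
theorem exists_minimal_normal_le {G : Type*} [Group G] [Finite G] (D : Subgroup G) [D.Normal]
    (hD : D ≠ ⊥) : ∃ N : Subgroup G, N.Normal ∧ N ≠ ⊥ ∧ N ≤ D ∧
      ∀ K : Subgroup G, K.Normal → K ≤ N → K = ⊥ ∨ K = N := by
  let S : Set (Subgroup G) := {N | N.Normal ∧ N ≠ ⊥ ∧ N ≤ D}
  have hSne : S.Nonempty := ⟨D, inferInstance, hD, le_refl _⟩
  obtain ⟨N, hN⟩ := (Set.toFinite S).exists_minimal hSne
  refine ⟨N, hN.1.1, hN.1.2.1, hN.1.2.2, fun K hKn hKN => ?_⟩
  by_cases hK : K = ⊥
  · left; exact hK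
  · right
    exact le_antisymm hKN (hN.2 ⟨hKn, hK, hKN.trans hN.1.2.2⟩ hKN)

/-- If the Frattini subgroup of a finite group G is trivial, then the Fitting subgroup of G equals the join of all abelian minimal normal subgroups of G. -/
theorem result {G : Type*} [Group G] [Finite G] (hΦ : frattini G = ⊥) : Cfsg.fittingSubgroup G = sSup {N : Subgroup G | N.Normal ∧ N ≠ ⊥ ∧ IsMulCommutative N ∧ ∀ K : Subgroup G, K.Normal → K ≤ N → K = ⊥ ∨ K = N} := by
  set F := Cfsg.fittingSubgroup G with hF
  have hFn : F.Normal := Helper7.fittingSubgroup_normal G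
  have hFnil : Group.IsNilpotent F := Helper7.fittingSubgroup_isNilpotent
  have hΦF : frattini F = ⊥ := by
    have := S0575.result F
    rw [hΦ, le_bot_iff] at this
    exact (Subgroup.map_eq_bot_iff_of_injective _ F.subtype_injective).mp this
  have hFc : ∀ x ∈ F, ∀ y ∈ F, x * y = y * x := by
    intro x hx y hy
    have := comm_of_nilpotent_frattini_bot hΦF ⟨x, hx⟩ ⟨y, hy⟩
    exact congrArg Subtype.val this
  set S : Subgroup G := sSup {N : Subgroup G | N.Normal ∧ N ≠ ⊥ ∧ IsMulCommutative N ∧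
    ∀ K : Subgroup G, K.Normal → K ≤ N → K = ⊥ ∨ K = N} with hS
  have hSF : S ≤ F := by
    apply sSup_le
    rintro N ⟨hNn, -, hNc, -⟩
    exact Helper7.le_fittingSubgroup hNn (isNilpotent_of_isMulCommutative N)
  have hSn : S.Normal := Subgroup.sSup_normal _ (fun _ h => h.1)
  have hSc : IsMulCommutative S :=
    ⟨⟨fun a b => Subtype.ext (hFc a (hSF a.2) b (hSF b.2))⟩⟩
  obtain ⟨K, hK⟩ := S0585.result hΦ S
  have hSK : S ⊓ K = ⊥ := hK.disjoint.eq_bot
  have hSKtop : S ⊔ K = ⊤ := hK.sup_eq_top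
  set D : Subgroup G := F ⊓ K with hD
  have hDn : D.Normal := by
    constructor
    intro x hx g
    have hg : g ∈ S ⊔ K := hSKtop ▸ mem_top g
    obtain ⟨s, hs, k, hk, rfl⟩ := mem_sup_of_normal_left.mp hg
    have hx' : k * x * k⁻¹ ∈ D :=
      Subgroup.mem_inf.mpr ⟨hFn.conj_mem x (Subgroup.mem_inf.mp hx).1 k,
        K.mul_mem (K.mul_mem hk (Subgroup.mem_inf.mp hx).2) (K.inv_mem hk)⟩
    have e : s * k * x * (s * k)⁻¹ = k * x * k⁻¹ := by
      have h1 : s * (k * x * k⁻¹) = (k * x * k⁻¹) * s :=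
        hFc s (hSF hs) _ (Subgroup.mem_inf.mp hx').1
      calc s * k * x * (s * k)⁻¹ = s * (k * x * k⁻¹) * s⁻¹ := by group
        _ = k * x * k⁻¹ := by rw [h1, mul_inv_cancel_right]
    rw [e]
    exact hx'
  apply le_antisymm _ hSF
  by_contra hne
  have hDne : D ≠ ⊥ := by
    intro hDbot
    apply hne
    intro x hx
    have hg : x ∈ S ⊔ K := hSKtop ▸ mem_top x
    obtain ⟨s, hs, k, hk, rfl⟩ := mem_sup_of_normal_left.mp hg
    have hkF : k ∈ F := by
      have : k = s⁻¹ * (s * k) := by group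
      rw [this]
      exact F.mul_mem (F.inv_mem (hSF hs)) hx
    have hkD : k ∈ D := Subgroup.mem_inf.mpr ⟨hkF, hk⟩
    rw [hDbot, mem_bot] at hkD
    rw [hkD, mul_one]
    exact hs
  obtain ⟨N, hNn, hNne, hND, hNmin⟩ := exists_minimal_normal_le D hDne
  have hNc : IsMulCommutative N :=
    ⟨⟨fun a b => Subtype.ext (hFc a (Subgroup.mem_inf.mp (hND a.2)).1 b
      (Subgroup.mem_inf.mp (hND b.2)).1)⟩⟩
  have hNS : N ≤ S := le_sSup ⟨hNn, hNne, hNc, hNmin⟩
  have hNK : N ≤ K := hND.trans inf_le_right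
  apply hNne
  rw [eq_bot_iff, ← hSK]
  exact le_inf hNS hNK

end Cfsg.Agent.S0586
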