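import Cfsg.Statements.S0044
import Mathlib
import Cfsg.Agent.Helper7.FStar

set_option autoImplicit false
open Cfsg

namespace Cfsg.Agent.S0044

/-- In a finite solvable group, the centraliser of the Fitting subgroup is contained in the Fitting subgroup. -/
theorem result {G : Type*} [Group G] [Finite G] [Group.IsSolvable G] :
    Subgroup.centralizer (Cfsg.fittingSubgroup G : Set G) ≤ Cfsg.fittingSubgroup G := by
  have h1 : (Cfsg.fittingSubgroup G).Characteristic :=
    Cfsg.Agent.Helper7.fittingSubgroup_characteristic G
  have h2 : (Cfsg.fittingSubgroup G).Normal := inferInstance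
  have h3 : (Subgroup.centralizer (Cfsg.fittingSubgroup G : Set G)).Normal := inferInstance
  exact Cfsg.Agent.Helper7.solvable_subnormal_le_fitting_of_le_centralizer
    (Subgroup.Normal.isSubnormal inferInstance) inferInstance le_rfl

end Cfsg.Agent.S0044
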