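import Mathlib
import Cfsg.Statements.S4207

set_option autoImplicit false
open Cfsg

namespace Cfsg.Agent.S4207

theorem exists_gen {P : Type*} [Group P] [Finite P] {p : ℕ} (hp : p.Prime) :
    ∀ (j : ℕ) (M : Subgroup P), M.index = p ^ j →
      ∃ S : Finset P, S.card ≤ j ∧ M ⊔ Subgroup.closure (S : Set P) = ⊤ := by
  classical
  intro j
  induction j using Nat.strong_induction_on with
  | _ j ih =>
    intro M hM
    by_cases hMtop : M = ⊤
    · exact ⟨∅, Nat.zero_le _, by rw [hMtop, top_sup_eq]⟩
    · obtain ⟨x, -, hx⟩ := SetLike.exists_of_lt (lt_top_iff_ne_top.mpr hMtop)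
      set M' := M ⊔ Subgroup.zpowers x with hM'
      have hlt : M < M' := by
        apply lt_of_le_of_ne le_sup_left
        intro h
        apply hx
        rw [h]
        exact Subgroup.mem_sup_right (Subgroup.mem_zpowers x)
      have hdvd : M'.index ∣ M.index := Subgroup.index_dvd_of_le le_sup_left
      rw [hM] at hdvd
      obtain ⟨j', hj'le, hj'⟩ := (Nat.dvd_prime_pow hp).mp hdvd
      have hlt' : M'.index < M.index := Subgroup.index_strictAnti hlt
      rw [hM, hj'] at hlt'
      have hj'lt : j' < j := (Nat.pow_lt_pow_iff_right hp.one_lt).mp hlt'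
      obtain ⟨S', hS'card, hS'⟩ := ih j' hj'lt M' hj'
      refine ⟨insert x S', ?_, ?_⟩
      · calc (insert x S').card ≤ S'.card + 1 := Finset.card_insert_le x S'
          _ ≤ j' + 1 := Nat.add_le_add_right hS'card 1
          _ ≤ j := hj'lt
      · rw [Finset.coe_insert, Set.insert_eq, Subgroup.closure_union, ← Subgroup.zpowers_eq_closure,
          ← sup_assoc]
        exact hS'

theorem card_dvd_of_free {A Ω : Type*} [Group A] [MulAction A Ω] [Finite A] [Finite Ω]
    (h : ∀ b : Ω, MulAction.stabilizer A b = ⊥) : Nat.card A ∣ Nat.card Ω := by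
  have e := MulAction.selfEquivOrbitsQuotientProd h
  rw [Nat.card_congr e, Nat.card_prod]
  exact dvd_mul_left _ _

/-- For a group of order p^n with Frattini quotient of order p^r, the automorphisms acting trivially on the Frattini quotient form a group of order dividing p^(r(n-r)). -/
theorem result {P : Type*} [Group P] [Finite P] {p n r : ℕ} [Fact p.Prime] (hP : Nat.card P = p ^ n) (hr : (frattini P).index = p ^ r) (A : Subgroup (MulAut P)) (hA : ∀ α ∈ A, ∀ x : P, α x * x⁻¹ ∈ frattini P) : Nat.card A ∣ p ^ (r * (n - r)) := by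
  classical
  have hp : p.Prime := Fact.out
  set Φ := frattini P with hΦ
  -- generating set
  obtain ⟨S, hScard, hS⟩ := exists_gen hp r Φ hr
  -- card of Φ
  have hcard : Nat.card Φ * p ^ r = p ^ n := by rw [← hr, ← hP]; exact Φ.card_mul_index
  have hrn : r ≤ n := by
    have : p ^ r ∣ p ^ n := Dvd.intro_left _ hcard
    exact (Nat.pow_dvd_pow_iff_le_right hp.one_lt).mp this
  have hΦcard : Nat.card Φ = p ^ (n - r) := by
    have h1 : p ^ n = p ^ (n - r) * p ^ r := by rw [← pow_add, Nat.sub_add_cancel hrn]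
    rw [h1] at hcard
    exact Nat.eq_of_mul_eq_mul_right (pow_pos hp.pos r) hcard
  -- the set Ω
  let Ω := {t : S → P // ∀ s : S, t s * (s : P)⁻¹ ∈ Φ}
  let e : Ω ≃ (S → Φ) :=
    { toFun := fun t s => ⟨t.1 s * (s : P)⁻¹, t.2 s⟩
      invFun := fun u => ⟨fun s => (u s : P) * (s : P), fun s => by
        rw [mul_inv_cancel_right]; exact (u s).2⟩
      left_inv := fun t => by
        apply Subtype.ext; funext s; simp
      right_inv := fun u => by
        funext s; apply Subtype.ext; simp }
  have hΩcard : Nat.card Ω = p ^ ((n - r) * S.card) := by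
    rw [Nat.card_congr e, Nat.card_fun, hΦcard, Nat.card_eq_fintype_card, Fintype.card_coe, ← pow_mul]
  -- the action
  letI act : MulAction A Ω :=
    { smul := fun α t => ⟨fun s => (α : MulAut P) (t.1 s), fun s => by
        have h1 := hA α.1 α.2 (t.1 s)
        have h2 := t.2 s
        have : (α : MulAut P) (t.1 s) * (s : P)⁻¹ =
            ((α : MulAut P) (t.1 s) * (t.1 s)⁻¹) * (t.1 s * (s : P)⁻¹) := by group
        rw [this]
        exact Φ.mul_mem h1 h2⟩
      one_smul := fun t => by
        apply Subtype.ext; funext s; rfl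
      mul_smul := fun α β t => by
        apply Subtype.ext; funext s; rfl }
  have hsmul : ∀ (α : A) (t : Ω) (s : S), (α • t).1 s = (α : MulAut P) (t.1 s) := fun _ _ _ => rfl
  have hfree : ∀ t : Ω, MulAction.stabilizer A t = ⊥ := by
    intro t
    rw [Subgroup.eq_bot_iff_forall]
    intro α hα
    rw [MulAction.mem_stabilizer_iff] at hα
    -- closure of range t is ⊤
    set T := Subgroup.closure (Set.range t.1) with hT
    have h1 : Subgroup.closure (S : Set P) ≤ T ⊔ Φ := by
      rw [Subgroup.closure_le]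
      intro s hs
      have hs' : s ∈ S := hs
      have h2 : t.1 ⟨s, hs'⟩ * s⁻¹ ∈ Φ := t.2 ⟨s, hs'⟩
      have h3 : t.1 ⟨s, hs'⟩ ∈ T := Subgroup.subset_closure ⟨⟨s, hs'⟩, rfl⟩
      have : s = (t.1 ⟨s, hs'⟩ * s⁻¹)⁻¹ * t.1 ⟨s, hs'⟩ := by group
      rw [SetLike.mem_coe, this]
      exact Subgroup.mul_mem _ (Subgroup.mem_sup_right (Φ.inv_mem h2)) (Subgroup.mem_sup_left h3)
    have h4 : T ⊔ Φ = ⊤ := by
      rw [eq_top_iff, ← hS]
      exact sup_le le_sup_right h1
    have hTtop : T = ⊤ := frattini_nongenerating h4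
    have h5 : (α : MulAut P).toMonoidHom = MonoidHom.id P := by
      apply MonoidHom.eq_of_eqOn_dense hTtop
      rintro _ ⟨s, rfl⟩
      have := congrArg (fun u : Ω => u.1 s) hα
      simp only [hsmul] at this
      exact this
    apply Subtype.ext
    apply MulEquiv.ext
    intro x
    have := congrArg (fun f : P →* P => f x) h5
    exact this
  have hdvd : Nat.card A ∣ Nat.card Ω := card_dvd_of_free hfree
  rw [hΩcard] at hdvd
  refine dvd_trans hdvd (pow_dvd_pow p ?_)
  rw [mul_comm r]
  exact Nat.mul_le_mul_left _ hScard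

end Cfsg.Agent.S4207
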