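import Cfsg.Statements.S0093
import Mathlib
import Cfsg.Agent.Helper9.Class3
import Cfsg.Agent.Helper9.AbelianSylow
import Cfsg.Agent.Helper14.Frattini
import Cfsg.Agent.Helper10.PGroupBasic

set_option autoImplicit false
open Cfsg

namespace Cfsg.Agent.S0093
open scoped Pointwise commutatorElement

/-- The subgroup `C` with `C/M = Ω₁(Z(P/M)) ∩ C_P(M)/M`. -/
def critC {P : Type*} [Group P] (p : ℕ) (M : Subgroup P) [M.Normal]
    (hab : M ≤ Subgroup.centralizer (M : Set P)) : Subgroup P where
  carrier := {x | x ∈ Subgroup.centralizer (M : Set P) ∧ (∀ g : P, ⁅x, g⁆ ∈ M) ∧ x ^ p ∈ M}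
  one_mem' := by
    refine ⟨one_mem _, fun g => ?_, ?_⟩
    · rw [commutatorElement_one_left]; exact one_mem _
    · rw [one_pow]; exact one_mem _
  mul_mem' := by
    rintro x y ⟨hx1, hx2, hx3⟩ ⟨hy1, hy2, hy3⟩
    refine ⟨mul_mem hx1 hy1, fun g => ?_, ?_⟩
    · have : ⁅x * y, g⁆ = x * ⁅y, g⁆ * x⁻¹ * ⁅x, g⁆ := by
        simp only [commutatorElement_def]; group
      rw [this]
      exact mul_mem (Subgroup.Normal.conj_mem inferInstance _ (hy2 g) x) (hx2 g)
    · have hc : Cfsg.Agent.Helper9.cm y x ∈ M := by
        have : Cfsg.Agent.Helper9.cm y x = x⁻¹ * ⁅x, y⁻¹⁆ * x⁻¹⁻¹ := by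
          simp only [Cfsg.Agent.Helper9.cm, commutatorElement_def]; group
        rw [this]
        exact Subgroup.Normal.conj_mem inferInstance _ (hx2 _) _
      have h1 := Cfsg.Agent.Helper9.mul_cm x y
      have h2 : Cfsg.Agent.Helper9.cm y x * y = y * Cfsg.Agent.Helper9.cm y x * 1 := by
        rw [mul_one]; exact hy1 _ hc
      have h3 : Cfsg.Agent.Helper9.cm y x * x = x * Cfsg.Agent.Helper9.cm y x * 1 := by
        rw [mul_one]; exact hx1 _ hc
      have := Cfsg.Agent.Helper9.collect3 x y _ 1 1 h1 h2 h3 (fun g => by simp) (fun g => by simp) p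
      rw [this]
      simp only [one_pow, mul_one]
      exact mul_mem (mul_mem hx3 hy3) (pow_mem hc _)
  inv_mem' := by
    rintro x ⟨hx1, hx2, hx3⟩
    refine ⟨inv_mem hx1, fun g => ?_, ?_⟩
    · have : ⁅x⁻¹, g⁆ = x⁻¹ * (⁅x, g⁆)⁻¹ * x⁻¹⁻¹ := by
        simp only [commutatorElement_def]; group
      rw [this]
      exact Subgroup.Normal.conj_mem inferInstance _ (inv_mem (hx2 g)) _
    · rw [inv_pow]; exact inv_mem hx3

theorem mem_critC {P : Type*} [Group P] (p : ℕ) (M : Subgroup P) [M.Normal]
    (hab : M ≤ Subgroup.centralizer (M : Set P)) (x : P) :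
    x ∈ critC p M hab ↔
      x ∈ Subgroup.centralizer (M : Set P) ∧ (∀ g : P, ⁅x, g⁆ ∈ M) ∧ x ^ p ∈ M := Iff.rfl

/-- Every finite p-group has a critical subgroup: a characteristic subgroup H whose Frattini subgroup and whose commutator with the whole group lie in the centre of H, and whose centralizer is contained in H. -/
theorem result {P : Type*} [Group P] [Finite P] {p : ℕ} [Fact p.Prime] (hP : IsPGroup p P) : ∃ H : Subgroup P, H.Characteristic ∧ (frattini H).map H.subtype ≤ Subgroup.centralizer (H : Set P) ∧ ⁅H, (⊤ : Subgroup P)⁆ ≤ H ⊓ Subgroup.centralizer (H : Set P) ∧ Subgroup.centralizer (H : Set P) ≤ H := by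
  classical
  obtain ⟨M, -, hMmax⟩ := Finite.exists_le_maximal
    (p := fun M : Subgroup P => M.Characteristic ∧ M ≤ Subgroup.centralizer (M : Set P))
    (a := ⊥) ⟨inferInstance, bot_le⟩
  have hMchar : M.Characteristic := hMmax.prop.1
  have hMab : M ≤ Subgroup.centralizer (M : Set P) := hMmax.prop.2
  have hMn : M.Normal := inferInstance
  by_cases hcase : Subgroup.centralizer (M : Set P) ≤ M
  · refine ⟨M, hMchar, ?_, ?_, hcase⟩
    · rintro _ ⟨x, -, rfl⟩
      exact hMab x.2
    · exact le_inf (Subgroup.commutator_le_left M ⊤) ((Subgroup.commutator_le_left M ⊤).trans hMab)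
  · -- the nontrivial case
    set C := critC p M hMab with hC
    have hMC : M ≤ C := by
      intro m hm
      rw [hC, mem_critC]
      refine ⟨hMab hm, fun g => ?_, pow_mem hm _⟩
      have : ⁅m, g⁆ = m * (g * m⁻¹ * g⁻¹) := by simp only [commutatorElement_def]; group
      rw [this]
      exact mul_mem hm (hMn.conj_mem _ (inv_mem hm) g)
    have hCcent : C ≤ Subgroup.centralizer (M : Set P) := fun x hx => hx.1
    have hMcC : M ≤ Subgroup.centralizer (C : Set P) := by
      intro m hm c hc
      exact (hCcent hc m hm).symm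
    have hCchar : C.Characteristic := by
      rw [Subgroup.characteristic_iff_map_le]
      intro φ
      rintro _ ⟨x, hx, rfl⟩
      have hx' : x ∈ critC p M hMab := hx
      rw [mem_critC] at hx'
      obtain ⟨hx1, hx2, hx3⟩ := hx'
      have hfix : ∀ m, m ∈ M → φ m ∈ M := by
        intro m hm
        have := (Subgroup.characteristic_iff_map_le.mp hMchar) φ
        exact this ⟨m, hm, rfl⟩
      have hfix' : ∀ m, m ∈ M → φ.symm m ∈ M := by
        intro m hm
        have := (Subgroup.characteristic_iff_map_le.mp hMchar) φ.symm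
        exact this ⟨m, hm, rfl⟩
      show φ x ∈ critC p M hMab
      rw [mem_critC]
      refine ⟨?_, fun g => ?_, ?_⟩
      · intro m hm
        have h := hx1 (φ.symm m) (hfix' m hm)
        have := congrArg φ h
        simpa using this
      · have : ⁅φ x, g⁆ = φ ⁅x, φ.symm g⁆ := by
          simp [commutatorElement_def]
        rw [this]
        exact hfix _ (hx2 _)
      · have : (φ x) ^ p = φ (x ^ p) := by simp
        rw [this]
        exact hfix _ hx3
    have hCn : C.Normal := inferInstance
    -- the centre of C is M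
    have hZ : C ⊓ Subgroup.centralizer (C : Set P) ≤ M := by
      have hprop : (C ⊓ Subgroup.centralizer (C : Set P)).Characteristic ∧
          C ⊓ Subgroup.centralizer (C : Set P) ≤
            Subgroup.centralizer ((C ⊓ Subgroup.centralizer (C : Set P) : Subgroup P) : Set P) := by
        refine ⟨inferInstance, ?_⟩
        intro a ha b hb
        have ha' : a ∈ Subgroup.centralizer (C : Set P) := ha.2
        have hb' : b ∈ C := hb.1
        exact ha' b hb'
      exact hMmax.le_of_ge hprop (le_inf hMC hMcC)
    refine ⟨C, hCchar, ?_, ?_, ?_⟩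
    · -- Frattini
      have hfr : frattini C ≤ M.subgroupOf C := by
        apply Cfsg.Agent.Helper14.frattini_le_of_elemAb p
        · intro a b
          rw [Subgroup.mem_subgroupOf]
          have ha : (a : P) ∈ critC p M hMab := a.2
          have := ha.2.1 (b : P)
          simpa [commutatorElement_def] using this
        · intro a
          rw [Subgroup.mem_subgroupOf]
          have ha : (a : P) ∈ critC p M hMab := a.2
          simpa using ha.2.2
      rintro _ ⟨x, hx, rfl⟩
      have := hfr hx
      rw [Subgroup.mem_subgroupOf] at this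
      exact hMcC this
    · have h1 : ⁅C, (⊤ : Subgroup P)⁆ ≤ M := by
        rw [Subgroup.commutator_le]
        intro a ha b _
        have ha' : a ∈ critC p M hMab := ha
        exact ha'.2.1 b
      exact h1.trans (le_inf hMC hMcC)
    · -- centralizer of C inside C
      by_contra hne
      set Q := Subgroup.centralizer (C : Set P) with hQ
      have hQn : Q.Normal := inferInstance
      have hQM : ¬ Q ≤ M := fun h => hne (h.trans hMC)
      set π := QuotientGroup.mk' M with hπ
      have hπs : Function.Surjective π := QuotientGroup.mk'_surjective M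
      have hQbar_n : (Q.map π).Normal := Subgroup.Normal.map hQn π hπs
      have hQbar_ne : Q.map π ≠ ⊥ := by
        intro h
        apply hQM
        intro q hq
        have : π q ∈ Q.map π := ⟨q, hq, rfl⟩
        rw [h, Subgroup.mem_bot] at this
        exact (QuotientGroup.eq_one_iff q).mp this
      have hPbar : IsPGroup p (P ⧸ M) := hP.to_quotient M
      set W := Q.map π ⊓ Subgroup.center (P ⧸ M) with hW
      have hWne : W ≠ ⊥ := by
        obtain ⟨z, hz, hz1, hzc⟩ :=
          Cfsg.Agent.Helper10.exists_ne_one_mem_inf_center hPbar (Q.map π) hQbar_ne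
        intro h
        have : z ∈ W := ⟨hz, hzc⟩
        rw [h, Subgroup.mem_bot] at this
        exact hz1 this
      obtain ⟨w, hw, hwo⟩ := Cfsg.Agent.Helper9.exists_orderOf_eq_prime_of_ne_bot W
        (hPbar.to_subgroup W) hWne
      obtain ⟨k, hk, rfl⟩ := hw.1
      have hwc : π k ∈ Subgroup.center (P ⧸ M) := hw.2
      have hkM : k ∉ M := by
        intro h
        have : π k = 1 := (QuotientGroup.eq_one_iff k).mpr h
        rw [this, orderOf_one] at hwo
        exact (Fact.out : p.Prime).one_lt.ne hwo
      have hkC : k ∈ C := by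
        rw [hC, mem_critC]
        refine ⟨?_, fun g => ?_, ?_⟩
        · exact Subgroup.centralizer_le hMC hk
        · have : π ⁅k, g⁆ = 1 := by
            rw [map_commutatorElement]
            rw [commutatorElement_eq_one_iff_commute]
            exact ((Subgroup.mem_center_iff.mp hwc) (π g)).symm
          exact (QuotientGroup.eq_one_iff _).mp this
        · have : π (k ^ p) = 1 := by
            rw [map_pow, ← hwo, pow_orderOf_eq_one]
          exact (QuotientGroup.eq_one_iff _).mp this
      exact hkM (hZ ⟨hkC, hk⟩)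

end Cfsg.Agent.S0093
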