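import Cfsg.Statements.S0121
import Mathlib

set_option autoImplicit false
open Cfsg

namespace Cfsg.Agent.S0121

/-- A p'-automorphism of a p-group acting trivially on a critical subgroup is trivial. -/
theorem result {G : Type*} [Group G] [Finite G] {p : ℕ} [Fact p.Prime] (hG : IsPGroup p G) (H : Subgroup G) (hH : H.Characteristic) (h1 : (frattini H).map H.subtype ≤ Subgroup.centralizer (H : Set G)) (h2 : ⁅H, (⊤ : Subgroup G)⁆ ≤ H ⊓ Subgroup.centralizer (H : Set G)) (h3 : Subgroup.centralizer (H : Set G) ≤ H) (a : MulAut G) (ha : Nat.Coprime (orderOf a) p) (h : ∀ x ∈ H, a x = x) : a = 1 := by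
  classical
  have hHn : H.Normal := inferInstance
  apply MulEquiv.ext
  intro g
  rw [MulAut.one_apply]
  set z := g⁻¹ * a g with hz
  -- z centralizes H
  have hzC : z ∈ Subgroup.centralizer (H : Set G) := by
    rw [Subgroup.mem_centralizer_iff]
    intro x hx
    have hx' : x ∈ H := hx
    have h4 : g * x * g⁻¹ ∈ H := hHn.conj_mem x hx' g
    have h5 := h (g * x * g⁻¹) h4
    rw [map_mul, map_mul, h x hx', map_inv] at h5
    -- a g * x * (a g)⁻¹ = g * x * g⁻¹
    calc x * z = g⁻¹ * (g * x * g⁻¹) * a g := by rw [hz]; group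
      _ = g⁻¹ * (a g * x * (a g)⁻¹) * a g := by rw [h5]
      _ = z * x := by rw [hz]; group
  have hzH : z ∈ H := h3 hzC
  have haz : a z = z := h z hzH
  have hag : a g = g * z := by rw [hz]; group
  -- a^k g = g * z^k
  have hpow : ∀ k : ℕ, (a ^ k) g = g * z ^ k := by
    intro k
    induction k with
    | zero => simp
    | succ k ih =>
      rw [pow_succ', MulAut.mul_apply, ih, map_mul, map_pow, haz, hag, mul_assoc, ← pow_succ']
  have h6 := hpow (orderOf a)
  rw [pow_orderOf_eq_one, MulAut.one_apply] at h6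
  have h7 : z ^ orderOf a = 1 := by
    have := mul_left_cancel (a := g) (b := z ^ orderOf a) (c := 1) (by rw [mul_one]; exact h6.symm)
    exact this
  obtain ⟨k, hk⟩ := hG z
  have h8 : orderOf z ∣ orderOf a := orderOf_dvd_of_pow_eq_one h7
  have h9 : orderOf z ∣ p ^ k := orderOf_dvd_of_pow_eq_one hk
  have h10 : orderOf z = 1 := Nat.eq_one_of_dvd_coprimes (Nat.Coprime.pow_right k ha) h8 h9
  rw [orderOf_eq_one_iff] at h10
  rw [hag, h10, mul_one]

end Cfsg.Agent.S0121
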