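import Mathlib
import Cfsg.Statements.S0128
import Cfsg.Agent.S0124
import Cfsg.Agent.S0129
import Cfsg.Agent.S0063
import Cfsg.Agent.Helper1.PGroup
import Cfsg.Agent.Helper19.Cores

set_option autoImplicit false
open Cfsg

namespace Cfsg.Agent.S0128

open Subgroup

universe u

/-- the rank hypothesis -/
def RankTwo (p : ℕ) (R : Type*) [Group R] : Prop :=
  ∀ E : Subgroup R, Cfsg.IsElementaryAbelian p E → Nat.card E ≤ p ^ 2

theorem RankTwo.subgroup {p : ℕ} {R : Type*} [Group R] (h : RankTwo p R) (M : Subgroup R) :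
    RankTwo p ↥M := by
  intro E hE
  have h1 : Cfsg.IsElementaryAbelian p (E.map M.subtype) := by
    obtain ⟨hc, he⟩ := hE
    refine ⟨inferInstance, ?_⟩
    rintro _ ⟨a, ha, rfl⟩
    have := he a ha
    rw [← map_pow, this, map_one]
  have h2 := h _ h1
  rwa [Subgroup.card_map_of_injective M.subtype_injective] at h2

/-- A group of exponent `p` and rank at most two has order at most `p ^ 3`. -/
theorem card_le_of_exponent {p : ℕ} [Fact p.Prime] {N : Type*} [Group N] [Finite N]
    (hexp : ∀ g : N, g ^ p = 1) (hrk : RankTwo p N) : Nat.card N ≤ p ^ 3 := by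
  have hp : p.Prime := Fact.out
  have hN : IsPGroup p N := fun g => ⟨1, by rw [pow_one]; exact hexp g⟩
  -- a normal abelian subgroup of largest order
  obtain ⟨A, ⟨hAn, hAc⟩, hAmax⟩ := Set.Finite.exists_maximalFor (fun B : Subgroup N => Nat.card B)
    {B : Subgroup N | B.Normal ∧ IsMulCommutative B} (Set.toFinite _)
    ⟨⊥, inferInstance, inferInstance⟩
  obtain ⟨a, ha⟩ := (hN.to_subgroup A).exists_card_eq
  have hmax : ∀ B : Subgroup N, B.Normal → IsMulCommutative B → A ≤ B → B = A := by
    intro B hBn hBc hAB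
    have h1 : Nat.card B ≤ Nat.card A := hAmax ⟨hBn, hBc⟩ (Subgroup.card_le_of_le hAB)
    exact (Subgroup.eq_of_le_of_card_ge hAB h1).symm
  have h1 := Cfsg.Agent.S0129.result hN A hAc hmax a ha
  have hA2 : Nat.card A ≤ p ^ 2 := hrk A ⟨hAc, fun g _ => hexp g⟩
  rw [ha] at hA2
  have ha2 : a ≤ 2 := (Nat.pow_le_pow_iff_right hp.one_lt).mp hA2
  refine h1.trans (Nat.pow_le_pow_right hp.pos ?_)
  interval_cases a <;> simp

theorem main {p : ℕ} [Fact p.Prime] (hp : 3 < p) : ∀ (n : ℕ) (R : Type u) [Group R] [Finite R],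
    Nat.card R = n → IsPGroup p R → RankTwo p R →
    ∀ x y : R, x ^ p = 1 → y ^ p = 1 → (x * y) ^ p = 1 := by
  have hpp : p.Prime := Fact.out
  intro n
  induction n using Nat.strong_induction_on with
  | _ n ih =>
  intro R _ _ hn hR hrk x y hx hy
  by_cases hcomm : x * y = y * x
  · rw [(show Commute x y from hcomm).mul_pow, hx, hy, one_mul]
  set K : Subgroup R := closure {x, y} with hK
  have hxK : x ∈ K := subset_closure (by simp)
  have hyK : y ∈ K := subset_closure (by simp)
  by_cases hKtop : K = ⊤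
  swap
  · -- pass to the proper subgroup `K`
    have hcard : Nat.card K < n := by
      rw [← hn]
      have h1 : Nat.card K ≤ Nat.card R := Subgroup.card_le_card_group K
      refine lt_of_le_of_ne h1 (fun h => hKtop ?_)
      exact K.eq_top_of_card_eq h
    have := ih (Nat.card K) hcard ↥K rfl (hR.to_subgroup K) (hrk.subgroup K) ⟨x, hxK⟩ ⟨y, hyK⟩
      (Subtype.ext (by simpa using hx)) (Subtype.ext (by simpa using hy))
    have h2 := congrArg Subtype.val this
    simpa using h2
  -- now `R = ⟨x, y⟩`; `⟨x⟩` is proper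
  have hxtop : zpowers x ≠ ⊤ := by
    intro h
    apply hcomm
    have hy' : y ∈ zpowers x := by rw [h]; exact mem_top y
    obtain ⟨k, rfl⟩ := mem_zpowers_iff.mp hy'
    exact (Commute.self_zpow x k)  |>.eq
  obtain ⟨M, hM, hxM⟩ := (eq_top_or_exists_le_coatom (zpowers x)).resolve_left hxtop
  haveI hMn : M.Normal := Cfsg.Agent.Helper1.IsPGroup.coatom_normal hR hM
  have hMcard : Nat.card M < n := by
    rw [← hn]
    have h1 : Nat.card M ≤ Nat.card R := Subgroup.card_le_card_group M
    refine lt_of_le_of_ne h1 (fun h => hM.1 ?_)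
    exact M.eq_top_of_card_eq h
  -- `Ω₁(M)` as a subgroup
  let N : Subgroup R :=
    { carrier := {g | g ∈ M ∧ g ^ p = 1}
      one_mem' := ⟨one_mem _, one_pow _⟩
      mul_mem' := by
        rintro a b ⟨haM, ha⟩ ⟨hbM, hb⟩
        refine ⟨mul_mem haM hbM, ?_⟩
        have := ih (Nat.card M) hMcard ↥M rfl (hR.to_subgroup M) (hrk.subgroup M) ⟨a, haM⟩ ⟨b, hbM⟩
          (Subtype.ext (by simpa using ha)) (Subtype.ext (by simpa using hb))
        have h2 := congrArg Subtype.val this
        simpa using h2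
      inv_mem' := by
        rintro a ⟨haM, ha⟩
        exact ⟨inv_mem haM, by rw [inv_pow, ha, inv_one]⟩ }
  have hNmem : ∀ g : R, g ∈ N ↔ g ∈ M ∧ g ^ p = 1 := fun _ => Iff.rfl
  haveI hNn : N.Normal := by
    constructor
    intro g hg r
    rw [hNmem] at hg ⊢
    refine ⟨hMn.conj_mem g hg.1 r, ?_⟩
    rw [conj_pow, hg.2]; group
  have hxN : x ∈ N := ⟨hxM (mem_zpowers x), hx⟩
  -- `|N| ≤ p ^ 3`
  have hNcard : Nat.card N ≤ p ^ 3 := by
    apply card_le_of_exponent _ (hrk.subgroup N)
    intro g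
    apply Subtype.ext
    have := g.2.2
    simpa using this
  -- `R = N ⟨y⟩`
  have htop : zpowers y ⊔ N = ⊤ := by
    rw [eq_top_iff, ← hKtop, hK, closure_le]
    intro z hz
    rcases hz with rfl | hz
    · exact (le_sup_right : N ≤ zpowers y ⊔ N) hxN
    · rw [Set.mem_singleton_iff] at hz
      rw [hz]
      exact (le_sup_left : zpowers y ≤ zpowers y ⊔ N) (mem_zpowers y)
  have hycard : Nat.card (zpowers y) ≤ p := by
    rw [Nat.card_zpowers]
    exact Nat.le_of_dvd hpp.pos (orderOf_dvd_of_pow_eq_one hy)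
  have hRcard : Nat.card R ≤ p ^ 4 := by
    have h1 := Cfsg.Agent.Helper19.card_sup_dvd_mul (zpowers y) N
    rw [htop, Subgroup.card_top] at h1
    have h2 := Nat.le_of_dvd (Nat.mul_pos Nat.card_pos Nat.card_pos) h1
    calc Nat.card R ≤ Nat.card (zpowers y) * Nat.card N := h2
      _ ≤ p * p ^ 3 := Nat.mul_le_mul hycard hNcard
      _ = p ^ 4 := by ring
  obtain ⟨m, hm⟩ := hR.exists_card_eq
  have hm4 : m ≤ 4 := by
    rw [hm] at hRcard
    exact (Nat.pow_le_pow_iff_right hpp.one_lt).mp hRcard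
  have hm2 : 1 < m := by
    by_contra hm1
    apply hcomm
    have h1 : m = 0 ∨ m = 1 := by omega
    haveI : IsCyclic R := by
      rcases h1 with rfl | rfl
      · rw [pow_zero] at hm
        haveI : Subsingleton R := (Nat.card_eq_one_iff_unique.mp hm).1
        infer_instance
      · rw [pow_one] at hm
        exact isCyclic_of_prime_card hm
    obtain ⟨g, hg⟩ := IsCyclic.exists_generator (α := R)
    obtain ⟨i, rfl⟩ := mem_zpowers_iff.mp (hg x)
    obtain ⟨j, rfl⟩ := mem_zpowers_iff.mp (hg y)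
    rw [← zpow_add, ← zpow_add, add_comm]
  haveI : Group.IsNilpotent R := hR.isNilpotent
  have hclass : Group.nilpotencyClass R ≤ 3 := by
    have := Cfsg.Agent.S0063.result p m hm hm2
    omega
  have hlcs : (⊤ : Subgroup R).lowerCentralSeries 3 = ⊥ :=
    Subgroup.lowerCentralSeries_eq_bot_iff_nilpotencyClass_le.mpr hclass
  have hcl : ⁅⁅commutator R, (⊤ : Subgroup R)⁆, (⊤ : Subgroup R)⁆ = ⊥ := by
    rw [← hlcs, ← top_lowerCentralSeries_one]
    rfl
  apply Cfsg.Agent.S0124.result hp hR hcl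
  exact mul_mem (subset_closure hx) (subset_closure hy)

/-- For p > 3, in a p-group of p-rank at most 2 the elements of order dividing p generate a subgroup of exponent dividing p. -/
theorem result {R : Type*} [Group R] [Finite R] {p : ℕ} [Fact p.Prime] (hp : 3 < p) (hR : IsPGroup p R) (hrk : ∀ E : Subgroup R, Cfsg.IsElementaryAbelian p E → Nat.card E ≤ p ^ 2) (g : R) (hg : g ∈ Subgroup.closure {x : R | x ^ p = 1}) : g ^ p = 1 := by
  induction hg using Subgroup.closure_induction with
  | mem x hx => exact hx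
  | one => exact one_pow _
  | mul x y _ _ hx hy => exact main hp _ R rfl hR hrk x y hx hy
  | inv x _ hx => rw [inv_pow, hx, inv_one]

end Cfsg.Agent.S0128
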