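import Cfsg.Statements.S3977
import Mathlib

set_option autoImplicit false
open Cfsg

namespace Cfsg.Agent.S3977

section formula
variable {G : Type*} [Group G]

theorem pow_mul_swap (x u e : G) (hux : u * x = e * x * u) (heu : Commute e u) (k : ℕ) :
    u ^ k * x = e ^ k * x * u ^ k := by
  induction k with
  | zero => simp
  | succ k ih =>
    have h1 : u * e ^ k = e ^ k * u := ((heu.pow_left k).eq).symm
    calc u ^ (k+1) * x = u * (u ^ k * x) := by rw [pow_succ', mul_assoc]
      _ = u * (e ^ k * x * u ^ k) := by rw [ih]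
      _ = (u * e ^ k) * x * u ^ k := by simp only [mul_assoc]
      _ = e ^ k * (u * x) * u ^ k := by rw [h1]; simp only [mul_assoc]
      _ = e ^ k * (e * x * u) * u ^ k := by rw [hux]
      _ = e ^ (k+1) * x * u ^ (k+1) := by rw [pow_succ, pow_succ']; simp only [mul_assoc]

theorem tri_succ' (n : ℕ) : (n + 1) * (n + 1 - 1) / 2 = n * (n - 1) / 2 + n := by
  have h1 : (n + 1) * (n + 1 - 1) = n * (n - 1) + n * 2 := by
    cases n with
    | zero => simp
    | succ k => simp; ring
  rw [h1, Nat.add_mul_div_right _ _ (by norm_num : 0 < 2)]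

theorem mul_pow_formula (x u e : G) (hux : u * x = e * x * u) (hex : Commute e x)
    (heu : Commute e u) (n : ℕ) :
    (x * u) ^ n = e ^ (n * (n - 1) / 2) * x ^ n * u ^ n := by
  induction n with
  | zero => simp
  | succ n ih =>
    have h1 := pow_mul_swap x u e hux heu n
    have h2 : x ^ n * e ^ n = e ^ n * x ^ n := ((hex.pow_pow n n).eq).symm
    calc (x * u) ^ (n+1) = (x * u) ^ n * (x * u) := pow_succ _ _
      _ = e ^ (n * (n - 1) / 2) * x ^ n * u ^ n * (x * u) := by rw [ih]
      _ = e ^ (n * (n - 1) / 2) * x ^ n * (u ^ n * x) * u := by simp only [mul_assoc]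
      _ = e ^ (n * (n - 1) / 2) * x ^ n * (e ^ n * x * u ^ n) * u := by rw [h1]
      _ = e ^ (n * (n - 1) / 2) * (x ^ n * e ^ n) * x * u ^ n * u := by simp only [mul_assoc]
      _ = e ^ (n * (n - 1) / 2) * (e ^ n * x ^ n) * x * u ^ n * u := by rw [h2]
      _ = (e ^ (n * (n - 1) / 2) * e ^ n) * (x ^ n * x) * (u ^ n * u) := by simp only [mul_assoc]
      _ = e ^ ((n+1) * (n + 1 - 1) / 2) * x ^ (n+1) * u ^ (n+1) := by
          rw [← pow_add, ← pow_succ, ← pow_succ, tri_succ']

theorem comm_pow_eq_one (x u e : G) (hux : u * x = e * x * u) (hex : Commute e x) (n : ℕ)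
    (hc : Commute (x ^ n) u) : e ^ n = 1 := by
  have h1 : u * x * u⁻¹ = e * x := by rw [hux]; simp
  have h2 : u * x ^ n * u⁻¹ = e ^ n * x ^ n := by
    rw [← conj_pow, h1, hex.mul_pow]
  have h3 : u * x ^ n * u⁻¹ = x ^ n := by
    rw [← hc.eq]; simp
  rw [h3] at h2
  exact (mul_eq_right.mp h2.symm)

end formula

universe u

theorem exists_two_max {G : Type u} [Group G] [Finite G] (p m : ℕ) (hp : p.Prime)
    (hG : Nat.card G = p ^ m) (hm : 1 ≤ m) (hnc : ¬ IsCyclic G) :
    ∃ K₁ K₂ : Subgroup G, Nat.card K₁ = p ^ (m - 1) ∧ Nat.card K₂ = p ^ (m - 1) ∧ K₁ ≠ K₂ := by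
  haveI : Fact p.Prime := ⟨hp⟩
  by_contra hcon
  push Not at hcon
  apply hnc
  have hdvd : p ^ (m - 1) ∣ Nat.card G := hG ▸ pow_dvd_pow p (Nat.sub_le m 1)
  obtain ⟨M, hM⟩ := Sylow.exists_subgroup_card_pow_prime p hdvd
  have hMne : M ≠ ⊤ := by
    intro h
    rw [h, Subgroup.card_top, hG] at hM
    have := Nat.pow_right_injective hp.two_le hM
    omega
  obtain ⟨x, hx⟩ : ∃ x, x ∉ M := by
    by_contra h
    push Not at h
    exact hMne (eq_top_iff.mpr fun g _ => h g)
  rw [isCyclic_iff_exists_zpowers_eq_top]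
  refine ⟨x, ?_⟩
  obtain ⟨k, hkm, hk⟩ := (Nat.dvd_prime_pow hp).1
    (hG ▸ Subgroup.card_subgroup_dvd_card (Subgroup.zpowers x))
  by_cases hkm' : k ≤ m - 1
  · obtain ⟨K, hK, hle⟩ := Sylow.exists_subgroup_card_pow_prime_le p hdvd (Subgroup.zpowers x) hk hkm'
    have := hcon K M hK hM
    exact absurd (this ▸ hle (Subgroup.mem_zpowers x)) hx
  · have : k = m := by omega
    apply Subgroup.eq_top_of_card_eq
    rw [hk, this, hG]

theorem main (p s : ℕ) (hp : p.Prime) (hs : 1 ≤ s) (h2 : p ≠ 2 ∨ 2 ≤ s) :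
    ∀ (m : ℕ) (G : Type u) [Group G] [Finite G], Nat.card G = p ^ m → s < m →
      (∀ H K : Subgroup G, Nat.card H = p ^ s → Nat.card K = p ^ s → H = K) → IsCyclic G := by
  intro m
  induction m using Nat.strong_induction_on with
  | _ m ih =>
  intro G _ _ hG hsm huniq
  haveI : Fact p.Prime := ⟨hp⟩
  by_contra hnc
  obtain ⟨K₁, K₂, hK₁, hK₂, hne⟩ := exists_two_max p m hp hG (by omega) hnc
  -- m - 1 > s
  have hsm1 : s < m - 1 := by
    rcases Nat.lt_or_ge s (m - 1) with h | h
    · exact h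
    · exfalso
      have : m - 1 = s := by omega
      rw [this] at hK₁ hK₂
      exact hne (huniq K₁ K₂ hK₁ hK₂)
  -- both are cyclic by induction
  have hcyc : ∀ K : Subgroup G, Nat.card K = p ^ (m - 1) → IsCyclic K := by
    intro K hK
    refine ih (m - 1) (by omega) K hK hsm1 ?_
    intro H L hH hL
    have h1 : Nat.card (H.map K.subtype) = p ^ s := by
      rw [Subgroup.card_map_of_injective K.subtype_injective]; exact hH
    have h2 : Nat.card (L.map K.subtype) = p ^ s := by
      rw [Subgroup.card_map_of_injective K.subtype_injective]; exact hL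
    exact Subgroup.map_injective K.subtype_injective (huniq _ _ h1 h2)
  obtain ⟨x, hx⟩ := (Subgroup.isCyclic_iff_exists_zpowers_eq_top K₁).1 (hcyc K₁ hK₁)
  obtain ⟨y, hy⟩ := (Subgroup.isCyclic_iff_exists_zpowers_eq_top K₂).1 (hcyc K₂ hK₂)
  have hox : orderOf x = p ^ (m - 1) := by rw [← Nat.card_zpowers, hx, hK₁]
  have hoy : orderOf y = p ^ (m - 1) := by rw [← Nat.card_zpowers, hy, hK₂]
  -- normality
  have hidx : ∀ K : Subgroup G, Nat.card K = p ^ (m - 1) → K.index = p := by
    intro K hK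
    have h := K.card_mul_index
    rw [hK, hG] at h
    have h3 : p ^ (m - 1) * p = p ^ m := by rw [← pow_succ]; congr 1; omega
    exact Nat.eq_of_mul_eq_mul_left (pow_pos hp.pos _) (h.trans h3.symm)
  have hnorm : ∀ K : Subgroup G, Nat.card K = p ^ (m - 1) → K.Normal := by
    intro K hK
    apply Subgroup.normal_of_index_eq_minFac_card
    rw [hidx K hK, hG, Nat.pow_minFac (by omega), hp.minFac_eq]
  haveI hn1 := hnorm K₁ hK₁
  haveI hn2 := hnorm K₂ hK₂
  have hxK₁ : x ∈ K₁ := hx ▸ Subgroup.mem_zpowers x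
  have hyK₂ : y ∈ K₂ := hy ▸ Subgroup.mem_zpowers y
  -- x^p ∈ K₂
  have hxp : x ^ p ∈ K₂ := by
    have := Subgroup.pow_index_mem K₂ x
    rwa [hidx K₂ hK₂] at this
  -- x^p = y^a
  obtain ⟨a, ha⟩ : ∃ a : ℕ, y ^ a = x ^ p := by
    rw [← hy] at hxp
    have := (mem_powers_iff_mem_zpowers).2 hxp
    exact Submonoid.mem_powers_iff _ _ |>.1 this
  -- p ∣ a
  have hpa : p ∣ a := by
    by_contra hpa
    have hcop : Nat.Coprime (orderOf y) a := by
      rw [hoy]
      exact Nat.Coprime.pow_left _ ((Nat.Prime.coprime_iff_not_dvd hp).2 hpa)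
    have h1 : orderOf (y ^ a) = p ^ (m - 1) := by rw [hcop.orderOf_pow, hoy]
    have h2 : orderOf (x ^ p) = p ^ (m - 2) := by
      rw [orderOf_pow' x hp.ne_zero, hox]
      have : p ^ (m - 1) = p ^ (m - 2) * p := by rw [← pow_succ]; congr 1; omega
      rw [this, Nat.gcd_eq_right (dvd_mul_left p _), Nat.mul_div_cancel _ hp.pos]
    rw [ha, h2] at h1
    have := Nat.pow_right_injective hp.two_le h1
    omega
  obtain ⟨k, rfl⟩ := hpa
  set t := y ^ k with ht
  have htK₂ : t ∈ K₂ := K₂.pow_mem hyK₂ k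
  have hxt : x ^ p = t ^ p := by rw [← ha, ht, ← pow_mul, mul_comm]
  set u := t⁻¹ with hu
  have huK₂ : u ∈ K₂ := K₂.inv_mem htK₂
  set e := u * x * u⁻¹ * x⁻¹ with he
  have heK₁ : e ∈ K₁ := K₁.mul_mem (hn1.conj_mem x hxK₁ u) (K₁.inv_mem hxK₁)
  have heK₂ : e ∈ K₂ := by
    have : e = u * (x * u⁻¹ * x⁻¹) := by rw [he]; simp only [mul_assoc]
    rw [this]
    exact K₂.mul_mem huK₂ (hn2.conj_mem _ (K₂.inv_mem huK₂) x)
  have hux : u * x = e * x * u := by rw [he]; simp
  have hex : Commute e x := by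
    rw [← hx] at heK₁
    obtain ⟨j, hj⟩ := Subgroup.mem_zpowers_iff.1 heK₁
    rw [← hj]
    exact (Commute.refl x).zpow_left j
  have heu : Commute e u := by
    rw [← hy] at heK₂ huK₂
    obtain ⟨j, hj⟩ := Subgroup.mem_zpowers_iff.1 heK₂
    obtain ⟨i, hi⟩ := Subgroup.mem_zpowers_iff.1 huK₂
    rw [← hj, ← hi]
    exact (Commute.refl y).zpow_zpow j i
  have hep : e ^ p = 1 := by
    apply comm_pow_eq_one x u e hux hex p
    rw [hxt, hu]
    exact ((Commute.refl t).pow_left p).inv_right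
  have hxup : x ^ p * u ^ p = 1 := by
    rw [hxt, hu, inv_pow, mul_inv_cancel]
  -- order of x*u
  obtain ⟨i, his, hi⟩ : ∃ i, i ≤ s ∧ orderOf (x * u) = p ^ i := by
    rcases Nat.Prime.eq_two_or_odd' hp with rfl | hodd
    · have hs2 : 2 ≤ s := by
        rcases h2 with h | h
        · exact absurd rfl h
        · exact h
      have h4 : (x * u) ^ 4 = 1 := by
        have h := mul_pow_formula x u e hux hex heu 2
        norm_num at h
        rw [mul_assoc, hxup, mul_one] at h
        have : (x * u) ^ 4 = ((x * u) ^ 2) ^ 2 := by rw [← pow_mul]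
        rw [this, h, hep]
      have hd : orderOf (x * u) ∣ 2 ^ 2 := by
        apply orderOf_dvd_of_pow_eq_one
        simpa using h4
      obtain ⟨i, hi2, hi⟩ := (Nat.dvd_prime_pow Nat.prime_two).1 hd
      exact ⟨i, by omega, hi⟩
    · have hpp : (x * u) ^ p = 1 := by
        have h := mul_pow_formula x u e hux hex heu p
        obtain ⟨c, hc⟩ := hodd
        have h5 : p * (p - 1) / 2 = p * c := by
          have : p - 1 = 2 * c := by omega
          rw [this, ← mul_assoc, mul_comm p 2, mul_assoc, Nat.mul_div_cancel_left _ (by norm_num)]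
        rw [h5, pow_mul, hep, one_pow, one_mul, hxup] at h
        exact h
      have hd : orderOf (x * u) ∣ p ^ 1 := by
        apply orderOf_dvd_of_pow_eq_one
        simpa using hpp
      obtain ⟨i, hi2, hi⟩ := (Nat.dvd_prime_pow hp).1 hd
      exact ⟨i, by omega, hi⟩
  -- x * u ∈ K₂
  have hdvd : p ^ s ∣ Nat.card G := hG ▸ pow_dvd_pow p (by omega)
  obtain ⟨L, hL, hLle⟩ := Sylow.exists_subgroup_card_pow_prime_le p hdvd (Subgroup.zpowers (x * u))
    (by rw [Nat.card_zpowers, hi]) his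
  obtain ⟨L', hL'⟩ := Sylow.exists_subgroup_card_pow_prime (G := K₂) p
    (show p ^ s ∣ Nat.card K₂ from hK₂ ▸ pow_dvd_pow p (by omega))
  have hL'' : Nat.card (L'.map K₂.subtype) = p ^ s := by
    rw [Subgroup.card_map_of_injective K₂.subtype_injective]; exact hL'
  have hLL : L = L'.map K₂.subtype := huniq _ _ hL hL''
  have hxuK₂ : x * u ∈ K₂ := by
    have h1 : x * u ∈ L := hLle (Subgroup.mem_zpowers _)
    rw [hLL] at h1
    exact (Subgroup.map_subtype_le L') h1
  have hxK₂ : x ∈ K₂ := by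
    have := K₂.mul_mem hxuK₂ (K₂.inv_mem huK₂)
    simpa using this
  apply hne
  apply Subgroup.eq_of_le_of_card_ge
  · rw [← hx, Subgroup.zpowers_le]; exact hxK₂
  · rw [hK₁, hK₂]

/-- Let `p` be a prime and `G` a group of order `p ^ m` which has exactly one subgroup of order `p ^ s`, where `1 ≤ s < m`, and where `s ≥ 2` if `p = 2`. Then `G` is cyclic. (For `p = 2` and `s = 1` the generalized quaternion groups also occur; that case is the classical criterion for a unique involution.) -/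
theorem result {G : Type*} [Group G] [Finite G] (p m s : ℕ) (hp : p.Prime) (hG : Nat.card G = p ^ m) (hs : 1 ≤ s) (hsm : s < m) (h2 : p ≠ 2 ∨ 2 ≤ s) (huniq : ∀ H K : Subgroup G, Nat.card H = p ^ s → Nat.card K = p ^ s → H = K) : IsCyclic G := by
  exact main p s hp hs h2 m G hG hsm huniq

end Cfsg.Agent.S3977
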