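import Mathlib
import Cfsg.Statements.S0640
import Cfsg.Agent.Helper19.AutCount
import Cfsg.Agent.Helper19.Class2
import Cfsg.Agent.Helper1.PGroup
import Cfsg.Agent.Helper23.PGroup
import Cfsg.Agent.S0093
import Cfsg.Agent.S0121
import Cfsg.Agent.S0128

set_option autoImplicit false
open Cfsg

namespace Cfsg.Agent.S0640

open Subgroup Cfsg.Agent.Helper19.AutCount
open scoped commutatorElement

/-- For odd p, a prime q ≠ p dividing the order of the automorphism group of a p-group of rank at most 2 divides p² - 1 and is less than p. -/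
theorem result {R : Type*} [Group R] [Finite R] {p : ℕ} [Fact p.Prime] (hp : p ≠ 2) (hR : IsPGroup p R) (hrk : Cfsg.PRankLE p 2 R) (q : ℕ) (hq : q.Prime) (hqp : q ≠ p) (hdvd : q ∣ Nat.card (MulAut R)) : q ∣ p ^ 2 - 1 ∧ q < p := by
  have hpp : p.Prime := Fact.out
  haveI : Fact q.Prime := ⟨hq⟩
  have hp2 : 2 < p := lt_of_le_of_ne hpp.two_le (Ne.symm hp)
  -- the divisibility
  have hmain : q ∣ p ^ 2 - 1 := by
    obtain ⟨α, hα⟩ := exists_prime_orderOf_dvd_card' q hdvd
    have hαq : α ^ q = 1 := by rw [← hα]; exact pow_orderOf_eq_one α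
    have hα1 : α ≠ 1 := by
      intro h
      rw [h, orderOf_one] at hα
      exact hq.one_lt.ne hα
    have hqcop : Nat.Coprime q p := (Nat.coprime_primes hq hpp).mpr hqp
    obtain ⟨H, hHchar, h1, h2, h3⟩ := Cfsg.Agent.S0093.result hR
    have hcop : Nat.Coprime (orderOf α) p := by rw [hα]; exact hqcop
    have hnotH : ¬ ∀ x ∈ H, α x = x := fun h =>
      hα1 (Cfsg.Agent.S0121.result hR H hHchar h1 h2 h3 α hcop h)
    have hHinv : ∀ (β : MulAut R) (x : R), x ∈ H → β x ∈ H := by
      intro β x hx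
      have h4 := Subgroup.characteristic_iff_map_eq.mp hHchar β
      rw [← h4]
      exact ⟨x, hx, rfl⟩
    have hHp : IsPGroup p ↥H := hR.to_subgroup H
    -- elements of `Φ(H)` centralize `H`
    have hcomm_mem : ∀ x ∈ H, ∀ y ∈ H, ⁅y, x⁆ ∈ centralizer (H : Set R) := by
      intro x hx y hy
      apply h1
      refine ⟨⁅(⟨y, hy⟩ : ↥H), ⟨x, hx⟩⁆, ?_, rfl⟩
      exact Cfsg.Agent.Helper1.IsPGroup.commutator_le_frattini hHp
        (commutator_mem_commutator (mem_top _) (mem_top _))
    have hpow_mem : ∀ y ∈ H, y ^ p ∈ centralizer (H : Set R) := by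
      intro y hy
      apply h1
      exact ⟨(⟨y, hy⟩ : ↥H) ^ p, Cfsg.Agent.Helper1.IsPGroup.pow_mem_frattini hHp _, rfl⟩
    have hpowH : ∀ x ∈ H, ∀ y ∈ H, (x * y) ^ p = x ^ p * y ^ p := by
      intro x hx y hy
      have hc := hcomm_mem x hx y hy
      have hcx : Commute ⁅y, x⁆ x := (mem_centralizer_iff.mp hc x hx).symm
      have hcy : Commute ⁅y, x⁆ y := (mem_centralizer_iff.mp hc y hy).symm
      have h5 := Cfsg.Agent.Helper19.mul_pow_of_commute_comm x y hcx hcy p
      have h6 : ⁅y, x⁆ ^ p = 1 := by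
        rw [← Cfsg.Agent.Helper19.commutator_pow_left_of_commute_comm x y hcy p,
          commutatorElement_eq_one_iff_commute]
        exact (mem_centralizer_iff.mp (hpow_mem y hy) x hx).symm
      obtain ⟨m, hm⟩ : p ∣ p.choose 2 := hpp.dvd_choose_self (by norm_num) hp2
      rw [h5, hm, pow_mul, h6, one_pow, mul_one]
    -- `E = Ω₁(H)`
    let E : Subgroup R :=
      { carrier := {x | x ∈ H ∧ x ^ p = 1}
        one_mem' := ⟨H.one_mem, one_pow p⟩
        mul_mem' := fun {a b} ha hb =>
          ⟨H.mul_mem ha.1 hb.1, by rw [hpowH _ ha.1 _ hb.1, ha.2, hb.2, one_mul]⟩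
        inv_mem' := fun {a} ha => ⟨H.inv_mem ha.1, by rw [inv_pow, ha.2, inv_one]⟩ }
    have hEmem : ∀ x, x ∈ E ↔ x ∈ H ∧ x ^ p = 1 := fun x => Iff.rfl
    have hEinv : ∀ (β : MulAut R) (x : R), x ∈ E → β x ∈ E := fun β x hx =>
      ⟨hHinv β x hx.1, by rw [← map_pow, hx.2, map_one]⟩
    have hnotE : ¬ ∀ x ∈ E, α x = x := by
      intro h
      apply hnotH
      exact fixes_of_fixes_omega α q hαq hqcop H hHp (hHinv α) hpowH
        (fun x hx hxp => h x ⟨hx, hxp⟩)
    have hEp : IsPGroup p ↥E := hR.to_subgroup E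
    have hrk' : Cfsg.Agent.S0128.RankTwo p R := fun A hA => hrk A hA.1 hA.2
    have hE3 : Nat.card E ≤ p ^ 3 := by
      apply Cfsg.Agent.S0128.card_le_of_exponent (p := p)
      · intro g
        apply Subtype.ext
        have := g.2.2
        simpa using this
      · exact hrk'.subgroup E
    have hneE : E ⊓ fixedSub α ≠ E := by
      intro h
      apply hnotE
      intro x hx
      have : x ∈ E ⊓ fixedSub α := by rw [h]; exact hx
      exact this.2
    by_cases hcase : Nat.card E ≤ p ^ 2 * Nat.card ↥(E ⊓ fixedSub α)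
    · exact dvd_sq_sub_one hqp α hαq E hEp (hEinv α) hneE hcase
    · push Not at hcase
      -- the fixed points on `E` are trivial
      have hF1 : E ⊓ fixedSub α = ⊥ := by
        have hFp : IsPGroup p ↥(E ⊓ fixedSub α) := hEp.to_le inf_le_left
        obtain ⟨b, hb⟩ := hFp.exists_card_eq
        have hb0 : b = 0 := by
          by_contra hb0
          have h7 : p ≤ p ^ b := by
            calc p = p ^ 1 := (pow_one p).symm
              _ ≤ p ^ b := Nat.pow_le_pow_right hpp.pos (Nat.one_le_iff_ne_zero.mpr hb0)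
          have h8 : p ^ 3 ≤ p ^ 2 * Nat.card ↥(E ⊓ fixedSub α) := by
            rw [hb]
            calc p ^ 3 = p ^ 2 * p := by ring
              _ ≤ p ^ 2 * p ^ b := Nat.mul_le_mul_left _ h7
          omega
        rw [hb0, pow_zero] at hb
        exact Subgroup.card_eq_one.mp hb
      -- the centre of `E`
      let Z : Subgroup R := E ⊓ centralizer (E : Set R)
      have hEne : E ≠ ⊥ := by
        intro h
        apply hneE
        rw [h]; exact bot_inf_eq _
      have hZne : Z ≠ ⊥ := by
        have hEtop : (⊤ : Subgroup ↥E) ≠ ⊥ := by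
          intro h
          apply hEne
          rw [eq_bot_iff]
          intro x hx
          have : (⟨x, hx⟩ : ↥E) ∈ (⊥ : Subgroup ↥E) := by rw [← h]; exact mem_top _
          rw [mem_bot] at this
          rw [mem_bot]
          exact congrArg Subtype.val this
        obtain ⟨b, -, hb2, hb3⟩ :=
          Cfsg.Agent.Helper23.exists_mem_inf_center_ne_one hEp (⊤ : Subgroup ↥E) hEtop
        intro h
        apply hb3
        have hbZ : (b : R) ∈ Z := by
          refine ⟨b.2, ?_⟩
          change (b : R) ∈ centralizer (E : Set R)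
          rw [mem_centralizer_iff]
          intro y hy
          have := mem_center_iff.mp hb2 ⟨y, hy⟩
          exact congrArg Subtype.val this
        rw [h, mem_bot] at hbZ
        exact Subtype.ext hbZ
      have hZinv : ∀ x ∈ Z, α x ∈ Z := by
        intro x hx
        refine ⟨hEinv α x hx.1, ?_⟩
        change α x ∈ centralizer (E : Set R)
        rw [mem_centralizer_iff]
        intro y hy
        have hy' : α⁻¹ y ∈ E := hEinv α⁻¹ y hy
        have h9 := mem_centralizer_iff.mp hx.2 (α⁻¹ y) hy'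
        have h10 := congrArg α h9
        rw [map_mul, map_mul, MulAut.apply_inv_self] at h10
        exact h10
      have hZF : Z ⊓ fixedSub α = ⊥ := by
        rw [eq_bot_iff, ← hF1]
        exact inf_le_inf_right _ inf_le_left
      have hZcomm : IsMulCommutative ↥Z := by
        refine ⟨⟨fun a b => ?_⟩⟩
        apply Subtype.ext
        have := mem_centralizer_iff.mp a.2.2 b.1 b.2.1
        exact this.symm
      have hZ2 : Nat.card Z ≤ p ^ 2 := hrk Z hZcomm (fun a ha => ha.1.2)
      have hZp : IsPGroup p ↥Z := hR.to_subgroup Z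
      have hneZ : Z ⊓ fixedSub α ≠ Z := by rw [hZF]; exact fun h => hZne h.symm
      apply dvd_sq_sub_one hqp α hαq Z hZp hZinv hneZ
      rw [hZF, Subgroup.card_bot, mul_one]
      exact hZ2
  refine ⟨hmain, ?_⟩
  -- `q < p`
  obtain ⟨m, rfl⟩ : ∃ m, p = m + 1 := ⟨p - 1, by have := hpp.pos; omega⟩
  have h1 : (m + 1) ^ 2 - 1 = m * (m + 2) := by
    have : (m + 1) ^ 2 = m * (m + 2) + 1 := by ring
    rw [this, Nat.add_sub_cancel]
  rw [h1] at hmain
  rcases (Nat.Prime.dvd_mul hq).mp hmain with h | h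
  · have : q ≤ m := Nat.le_of_dvd (by omega) h
    omega
  · have hle : q ≤ m + 2 := Nat.le_of_dvd (by omega) h
    by_contra hlt
    push Not at hlt
    have hq2 : q = m + 2 := by omega
    -- `m + 2` is even and bigger than 2
    have hodd : Odd (m + 1) := hpp.odd_of_ne_two hp
    have heven : Even (m + 2) := by
      obtain ⟨k, hk⟩ := hodd
      exact ⟨k + 1, by omega⟩
    have := (Nat.Prime.even_iff hq).mp (hq2 ▸ heven)
    omega

end Cfsg.Agent.S0640
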