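import Mathlib
import Cfsg.Statements.S1450
import Cfsg.Agent.Helper19.RankTwoAut
import Cfsg.Agent.Helper19.Cores
import Cfsg.Agent.Helper23.PLengthOne
import Cfsg.Agent.Helper20.SubnCountB
import Cfsg.Agent.Helper7.RankSylow
import Cfsg.Agent.Helper14.PCore
import Cfsg.Agent.Helper29.Schmidt2
import Cfsg.Agent.S0640

set_option autoImplicit false
open Cfsg

namespace Cfsg.Agent.S1450

open Subgroup

/-- The `p`-rank bound passes to the quotient by a normal `p'`-subgroup. -/
theorem pRankLE_quotient {G : Type*} [Group G] [Finite G] (p k : ℕ) [Fact p.Prime]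
    (N : Subgroup G) [N.Normal] (hN : (Nat.card N).Coprime p) (h : Cfsg.PRankLE p k G) :
    Cfsg.PRankLE p k (G ⧸ N) := by
  intro B hBc hBp
  have hBpg : IsPGroup p ↥B := fun b => ⟨1, by
    rw [pow_one]; apply Subtype.ext; rw [Subgroup.coe_pow]; exact hBp b b.2⟩
  obtain ⟨P, hPp, -, hPB⟩ := Cfsg.Agent.Helper20.exists_sylow_lift N hN ⊥
    (IsPGroup.of_bot) B hBpg (by rw [Subgroup.map_bot]; exact bot_le)
  have hinj := Cfsg.Agent.Helper20.injOn_mk_of_pgroup N hN P hPp
  have hPc : IsMulCommutative ↥P := by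
    refine ⟨⟨fun a b => ?_⟩⟩
    apply Subtype.ext
    apply hinj (P.mul_mem a.2 b.2) (P.mul_mem b.2 a.2)
    have ha : QuotientGroup.mk' N (a : G) ∈ B := by rw [← hPB]; exact ⟨a, a.2, rfl⟩
    have hb : QuotientGroup.mk' N (b : G) ∈ B := by rw [← hPB]; exact ⟨b, b.2, rfl⟩
    have := hBc.is_comm.comm (⟨_, ha⟩ : ↥B) ⟨_, hb⟩
    have h2 := congrArg Subtype.val this
    simpa using h2
  have hPe : ∀ a ∈ P, a ^ p = 1 := by
    intro a ha
    apply hinj (P.pow_mem ha p) P.one_mem
    have haB : QuotientGroup.mk' N a ∈ B := by rw [← hPB]; exact ⟨a, ha, rfl⟩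
    rw [map_pow, hBp _ haB, map_one]
  have h1 := h P hPc hPe
  rw [← Cfsg.Agent.Helper20.card_map_mk_of_pgroup N hN P hPp, hPB] at h1
  exact h1

/-- A normal subgroup of order prime to `p` and `p`-power index is a normal `p`-complement. -/
theorem hasNormalPComplement_of_coprime_of_index {G : Type*} [Group G] [Finite G] (p : ℕ)
    [hp : Fact p.Prime] (N : Subgroup G) [hNn : N.Normal] (hN : (Nat.card N).Coprime p)
    (n : ℕ) (hidx : N.index = p ^ n) : Cfsg.HasNormalPComplement p G := by
  have hpp : p.Prime := hp.out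
  obtain ⟨P⟩ : Nonempty (Sylow p G) := inferInstance
  refine ⟨P, N, hNn, ?_⟩
  have hcard : Nat.card G = Nat.card N * p ^ n := by
    rw [← hidx]; exact (Subgroup.card_mul_index N).symm
  have hndvd : ¬ p ∣ Nat.card N := fun hd =>
    hpp.one_lt.ne' (Nat.eq_one_of_dvd_coprimes hN hd (dvd_refl p))
  have hfac : (Nat.card G).factorization p = n := by
    rw [hcard, Nat.factorization_mul Nat.card_pos.ne' (pow_pos hpp.pos n).ne',
      Finsupp.add_apply, Nat.factorization_eq_zero_of_not_dvd hndvd,
      Nat.Prime.factorization_pow hpp, Finsupp.single_eq_same, zero_add]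
  have hP : Nat.card (P : Subgroup G) = p ^ n := by
    rw [Sylow.card_eq_multiplicity, hfac]
  apply Subgroup.isComplement'_of_coprime
  · rw [hP, hcard]
  · rw [hP]; exact Nat.Coprime.pow_right n hN

/-- Let G be a solvable group of odd order, p a prime dividing its order with G having no elementary abelian subgroup of order p ^ 3. Then every prime dividing the index of O_{p'}(G) is at most p; if p = 3 or p is the smallest prime divisor of #G then G has a normal p-complement; the derived subgroup G' has a normal p-complement; every subgroup of G' of order coprime to p lies in O_{p'}(G'); and G/O_{p',p}(G) is abelian of order coprime to p. -/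
theorem result {G : Type*} [Group G] [Finite G] [Group.IsSolvable G] (hodd : Odd (Nat.card G)) (p : ℕ) [Fact p.Prime] (hpG : p ∣ Nat.card G) (hr : Cfsg.PRankLE p 2 G) :
    (∀ q : ℕ, q.Prime → q ∣ (Cfsg.pPrimeCore p G).index → q ≤ p) ∧
      ((p = 3 ∨ ∀ q : ℕ, q.Prime → q ∣ Nat.card G → p ≤ q) → Cfsg.HasNormalPComplement p G) ∧
      Cfsg.HasNormalPComplement p ↥(commutator G) ∧
      (∀ L : Subgroup ↥(commutator G), (Nat.card L).Coprime p → L ≤ Cfsg.pPrimeCore p ↥(commutator G)) ∧
      commutator G ≤ Cfsg.pPrimePCore p G ∧ ((Cfsg.pPrimePCore p G).index).Coprime p := by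
  classical
  have hpp : p.Prime := Fact.out
  have hp2 : p ≠ 2 := by
    rintro rfl
    exact (Nat.not_even_iff_odd.mpr hodd) (even_iff_two_dvd.mpr hpG)
  set N : Subgroup G := Cfsg.pPrimeCore p G with hNdef
  have hNcop : (Nat.card N).Coprime p := Cfsg.Agent.Helper19.pPrimeCore_coprime (G := G) p
  set Rb : Subgroup (G ⧸ N) := Cfsg.pCore p (G ⧸ N) with hRbdef
  have hRbp : IsPGroup p ↥Rb := Cfsg.Agent.Helper14.pCore_isPGroup p
  have hrkQ : Cfsg.PRankLE p 2 (G ⧸ N) := pRankLE_quotient p 2 N hNcop hr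
  have hrkR : Cfsg.PRankLE p 2 ↥Rb :=
    Cfsg.Agent.Helper7.PRankLE.of_injective Rb.subtype Rb.subtype_injective hrkQ
  have hcent : Subgroup.centralizer (Rb : Set (G ⧸ N)) ≤ Rb :=
    Cfsg.Agent.Helper23.centralizer_pCore_quotient_le p G
  let ρ : G ⧸ N →* MulAut ↥Rb := MulAut.conjNormal
  have hoddQ : Odd (Nat.card (G ⧸ N)) := by
    have h1 : Nat.card (G ⧸ N) ∣ Nat.card G := by
      rw [← Subgroup.index_eq_card]; exact Subgroup.index_dvd_card _
    exact Odd.of_dvd_nat hodd h1
  have key := Cfsg.Agent.Helper19.RankTwoAut.commutator_pow_eq_one p hp2 hRbp hrkR hoddQ ρ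
  have hker : ∀ y : G ⧸ N, ρ y = 1 → y ∈ Rb := by
    intro y hy
    apply hcent
    rw [Subgroup.mem_centralizer_iff]
    intro r hr'
    have h1 := congrArg (fun f : MulAut ↥Rb => ((f ⟨r, hr'⟩ : ↥Rb) : G ⧸ N)) hy
    have h2 : y * r * y⁻¹ = r := h1
    calc r * y = (y * r * y⁻¹) * y := by rw [h2]
      _ = y * r := by group
  have hcommP : IsPGroup p ↥(commutator (G ⧸ N)) := by
    rintro ⟨x, hx⟩
    obtain ⟨k, hk⟩ := key x hx
    rw [← map_pow] at hk
    obtain ⟨j, hj⟩ := hRbp ⟨_, hker _ hk⟩
    refine ⟨k + j, ?_⟩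
    apply Subtype.ext
    have h2 := congrArg Subtype.val hj
    simp only [Subgroup.coe_pow, Subgroup.coe_one] at h2 ⊢
    rw [pow_add, pow_mul]
    exact h2
  have hcommle : commutator (G ⧸ N) ≤ Rb :=
    Cfsg.Agent.Helper14.le_pCore p inferInstance hcommP
  -- primes dividing the order of the quotient
  have hprimes : ∀ q : ℕ, q.Prime → q ∣ Nat.card (G ⧸ N) → q = p ∨ q < p := by
    intro q hq hdvd
    by_cases hqp : q = p
    · exact Or.inl hqp
    · right
      haveI : Fact q.Prime := ⟨hq⟩
      obtain ⟨x, hx⟩ := exists_prime_orderOf_dvd_card' q hdvd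
      have hρx : ρ x ≠ 1 := by
        intro h
        obtain ⟨j, hj⟩ := hRbp ⟨x, hker x h⟩
        have h2 := congrArg Subtype.val hj
        simp only [Subgroup.coe_pow, Subgroup.coe_one] at h2
        have h3 : q ∣ p ^ j := by rw [← hx]; exact orderOf_dvd_of_pow_eq_one h2
        exact hqp ((Nat.prime_dvd_prime_iff_eq hq hpp).mp (hq.dvd_of_dvd_pow h3))
      have hord : orderOf (ρ x) = q := by
        have h1 : orderOf (ρ x) ∣ q := by
          rw [← hx]; exact orderOf_map_dvd ρ x
        rcases (Nat.dvd_prime hq).mp h1 with h | h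
        · exact absurd (orderOf_eq_one_iff.mp h) hρx
        · exact h
      have hdvd2 : q ∣ Nat.card (MulAut ↥Rb) := by
        rw [← hord]; exact orderOf_dvd_natCard _
      exact (Cfsg.Agent.S0640.result hp2 hRbp hrkR q hq hqp hdvd2).2
  -- the normal `p`-complement of the derived subgroup
  set D : Subgroup G := commutator G with hDdef
  set M : Subgroup ↥D := N.subgroupOf D with hMdef
  have hMn : M.Normal := inferInstance
  have hMcop : (Nat.card M).Coprime p := by
    have h1 : Nat.card M ∣ Nat.card N := by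
      let f : ↥M →* ↥N := (D.subtype.comp M.subtype).codRestrict N (fun m =>
        Subgroup.mem_subgroupOf.mp m.2)
      apply Subgroup.card_dvd_of_injective f
      intro a b hab
      have h2 := congrArg Subtype.val hab
      exact Subtype.ext (Subtype.ext h2)
    exact Nat.Coprime.coprime_dvd_left h1 hNcop
  have hDmem : ∀ d : ↥D, (QuotientGroup.mk' N (d : G)) ∈ commutator (G ⧸ N) := by
    intro d
    have h1 : (commutator G).map (QuotientGroup.mk' N) ≤ commutator (G ⧸ N) := by
      rw [_root_.commutator_def, _root_.commutator_def, Subgroup.map_commutator]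
      exact Subgroup.commutator_mono le_top le_top
    exact h1 ⟨d, d.2, rfl⟩
  have hDMp : IsPGroup p (↥D ⧸ M) := by
    intro x
    induction x using QuotientGroup.induction_on with
    | H d =>
      obtain ⟨k, hk⟩ := hcommP ⟨_, hDmem d⟩
      refine ⟨k, ?_⟩
      rw [← QuotientGroup.mk_pow, QuotientGroup.eq_one_iff]
      have h2 := congrArg Subtype.val hk
      simp only [Subgroup.coe_pow, Subgroup.coe_one] at h2
      rw [← map_pow] at h2
      have h3 : ((d : G) ^ p ^ k) ∈ N := (QuotientGroup.eq_one_iff _).mp h2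
      rw [hMdef, Subgroup.mem_subgroupOf, Subgroup.coe_pow]
      exact h3
  refine ⟨?_, ?_, ?_, ?_, ?_, ?_⟩
  · intro q hq hdvd
    rw [Subgroup.index_eq_card] at hdvd
    rcases hprimes q hq hdvd with h | h
    · exact h.le
    · exact h.le
  · intro hcase
    have hall : ∀ {q : ℕ}, q.Prime → q ∣ Nat.card (G ⧸ N) → q = p := by
      intro q hq hdvd
      rcases hprimes q hq hdvd with h | h
      · exact h
      · exfalso
        have hdvdG : q ∣ Nat.card G := by
          refine hdvd.trans ?_
          rw [← Subgroup.index_eq_card]; exact Subgroup.index_dvd_card _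
        rcases hcase with h3 | hmin
        · have hq2 : q = 2 := by
            have := hq.two_le
            omega
          rw [hq2] at hdvdG
          exact (Nat.not_even_iff_odd.mpr hodd) (even_iff_two_dvd.mpr hdvdG)
        · have := hmin q hq hdvdG
          omega
    have hpow := Nat.eq_prime_pow_of_unique_prime_dvd Nat.card_pos.ne' hall
    rw [← Subgroup.index_eq_card] at hpow
    exact hasNormalPComplement_of_coprime_of_index p N hNcop _ hpow
  · obtain ⟨j, hj⟩ := IsPGroup.iff_card.mp hDMp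
    rw [← Subgroup.index_eq_card] at hj
    exact hasNormalPComplement_of_coprime_of_index p M hMcop j hj
  · intro L hL
    have hML : M ≤ Cfsg.pPrimeCore p ↥D := le_sSup ⟨hMn, hMcop⟩
    refine le_trans ?_ hML
    intro l hl
    obtain ⟨k, hk⟩ := hDMp (QuotientGroup.mk l)
    have h1 : (QuotientGroup.mk l : ↥D ⧸ M) ^ Nat.card L = 1 := by
      rw [← QuotientGroup.mk_pow]
      have h2 : (⟨l, hl⟩ : ↥L) ^ Nat.card L = 1 := pow_card_eq_one'
      have h3 := congrArg Subtype.val h2
      simp only [Subgroup.coe_pow, Subgroup.coe_one] at h3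
      rw [h3, QuotientGroup.mk_one]
    have h4 : (QuotientGroup.mk l : ↥D ⧸ M) ^ Nat.gcd (p ^ k) (Nat.card L) = 1 :=
      pow_gcd_eq_one.mpr ⟨hk, h1⟩
    have h5 : Nat.gcd (p ^ k) (Nat.card L) = 1 := (Nat.Coprime.pow_right k hL).symm
    rw [h5, pow_one] at h4
    exact (QuotientGroup.eq_one_iff _).mp h4
  · intro g hg
    show g ∈ (Cfsg.pCore p (G ⧸ N)).comap (QuotientGroup.mk' N)
    rw [Subgroup.mem_comap]
    exact hcommle (hDmem ⟨g, hg⟩)
  · have hidx : (Cfsg.pPrimePCore p G).index = Rb.index := by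
      show ((Cfsg.pCore p (G ⧸ N)).comap (QuotientGroup.mk' N)).index = Rb.index
      exact Subgroup.index_comap_of_surjective _ (QuotientGroup.mk'_surjective N)
    rw [hidx]
    obtain ⟨S⟩ : Nonempty (Sylow p (G ⧸ N)) := inferInstance
    have hRS : Rb ≤ (S : Subgroup (G ⧸ N)) := Cfsg.Agent.Helper14.pCore_le_sylow p S
    have hSn : (S : Subgroup (G ⧸ N)).Normal :=
      Cfsg.Agent.Helper29.normal_of_commutator_le (hcommle.trans hRS)
    have hSR : (S : Subgroup (G ⧸ N)) ≤ Rb := Cfsg.Agent.Helper14.le_pCore p hSn S.2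
    have hEq : Rb = (S : Subgroup (G ⧸ N)) := le_antisymm hRS hSR
    rw [hEq]
    exact ((Nat.Prime.coprime_iff_not_dvd hpp).mpr S.not_dvd_index).symm

end Cfsg.Agent.S1450
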