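import Mathlib
import Cfsg.Statements.S3736
import Cfsg.Agent.Helper19.Basic
import Cfsg.Agent.Helper19.Sylow
import Cfsg.Agent.Helper19.Class2
import Cfsg.Agent.Helper19.CoprimeQuot
import Cfsg.Agent.Lead.Coprime3
import Cfsg.Agent.Lead.CoprimeAbelian
import Cfsg.Agent.Lead.CoprimeFrattini
import Cfsg.Agent.Helper1.PGroup
import Cfsg.Agent.Helper14.Frattini

set_option autoImplicit false
open Cfsg

namespace Cfsg.Agent.S3736

open Subgroup Cfsg.Agent.Lead Cfsg.Agent.Helper19
open scoped commutatorElement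

/-- A subgroup normalizing `H` and `K` normalizes `[H,K]`. -/
lemma le_normalizer_commutator {X : Type*} [Group X] {B H K : Subgroup X}
    (hH : B ≤ normalizer (H : Set X)) (hK : B ≤ normalizer (K : Set X)) :
    B ≤ normalizer ((⁅H, K⁆ : Subgroup X) : Set X) := by
  intro b hb
  rw [mem_normalizer_iff_map_conj, Subgroup.map_commutator,
    mem_normalizer_iff_map_conj.mp (hH hb), mem_normalizer_iff_map_conj.mp (hK hb)]

/-- Membership in the image of the centre of a subgroup. -/
lemma mem_map_center_iff {X : Type*} [Group X] (P : Subgroup X) (x : X) :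
    x ∈ (center ↥P).map P.subtype ↔ x ∈ P ∧ ∀ y ∈ P, y * x = x * y := by
  constructor
  · rintro ⟨z, hz, rfl⟩
    refine ⟨z.2, fun y hy => ?_⟩
    have := (mem_center_iff.mp hz) ⟨y, hy⟩
    exact congrArg Subtype.val this
  · rintro ⟨hx, h⟩
    refine ⟨⟨x, hx⟩, ?_, rfl⟩
    change (⟨x, hx⟩ : P) ∈ center ↥P
    rw [Subgroup.mem_center_iff]
    intro y
    exact Subtype.ext (h y y.2)

/-- The Hall–Higman reduction for a minimal non-trivial action. Let B, A and P be subgroups of a finite group with P a p-group, B normalizing P, and A a normal subgroup of B of order prime to p. Suppose A does not centralize P but centralizes every proper B-invariant subgroup of P. Then [P, A] = P; P is elementary abelian or special; B acts irreducibly on P/Φ(P), that is, the only B-invariant subgroups of P containing Φ(P) are Φ(P) and P; and if p is odd then every element of P has order dividing p. -/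
theorem result {X : Type*} [Group X] [Finite X] {p : ℕ} [Fact p.Prime] (B A P : Subgroup X) (hP : IsPGroup p P) (hBP : B ≤ Subgroup.normalizer (P : Set X)) (hAB : A ≤ B) (hAn : B ≤ Subgroup.normalizer (A : Set X)) (hAp : (Nat.card A).Coprime p) (hnt : ⁅P, A⁆ ≠ ⊥) (hmin : ∀ U : Subgroup X, U < P → B ≤ Subgroup.normalizer (U : Set X) → ⁅U, A⁆ = ⊥) : ⁅P, A⁆ = P ∧ (Cfsg.IsElementaryAbelian p P ∨ Cfsg.IsSpecial p ↥P) ∧ (∀ U : Subgroup X, (frattini ↥P).map P.subtype ≤ U → U ≤ P → B ≤ Subgroup.normalizer (U : Set X) → U = (frattini ↥P).map P.subtype ∨ U = P) ∧ (p ≠ 2 → ∀ x ∈ P, x ^ p = 1) := by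
  classical
  have hp : p.Prime := Fact.out
  have hAP : A ≤ normalizer (P : Set X) := hAB.trans hBP
  have hcop : (Nat.card A).Coprime (Nat.card P) := by
    obtain ⟨n, hn⟩ := IsPGroup.iff_card.mp hP
    rw [hn]; exact Nat.Coprime.pow_right n hAp
  have hsolv : Group.IsSolvable P := by
    have : Group.IsNilpotent P := hP.isNilpotent
    infer_instance
  have hcc := coprime_commutator_commutator A P hAP hcop (Or.inr hsolv)
  have hPA_le : ⁅P, A⁆ ≤ P := commutator_le_of_le_normalizer hAP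
  -- (1)
  have h1 : ⁅P, A⁆ = P := by
    by_contra hne
    have hlt : ⁅P, A⁆ < P := lt_of_le_of_ne hPA_le hne
    have hBn : B ≤ normalizer ((⁅P, A⁆ : Subgroup X) : Set X) := le_normalizer_commutator hBP hAn
    have := hmin _ hlt hBn
    rw [hcc] at this
    exact hnt this
  -- no proper `K` centralized by `A` contains all `[x,a]`
  have hK2 : ∀ K : Subgroup X, ⁅K, A⁆ = ⊥ → (∀ x ∈ P, ∀ a ∈ A, ⁅x, a⁆ ∈ K) → False := by
    intro K hK hx
    have h2 : ⁅P, A⁆ ≤ K := by rw [commutator_le]; exact hx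
    have h3 : ⁅⁅P, A⁆, A⁆ ≤ ⁅K, A⁆ := commutator_mono h2 le_rfl
    rw [hcc, hK] at h3
    exact hnt (le_bot_iff.mp h3)
  -- Frattini facts
  set Φ : Subgroup X := (frattini ↥P).map P.subtype with hΦ
  have hΦP : Φ ≤ P := map_subtype_le _
  have hNΦ : normalizer (P : Set X) ≤ normalizer (Φ : Set X) :=
    normalizer_le_normalizer_map_of_characteristic P (frattini ↥P)
  have hBΦ : B ≤ normalizer (Φ : Set X) := hBP.trans hNΦ
  have hPnΦ : P ≤ normalizer (Φ : Set X) := le_normalizer.trans hNΦ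
  have hcommΦ : ∀ x ∈ P, ∀ y ∈ P, ⁅x, y⁆ ∈ Φ := by
    intro x hx y hy
    have h : ⁅(⟨x, hx⟩ : P), ⟨y, hy⟩⁆ ∈ frattini ↥P := by
      apply Helper1.IsPGroup.commutator_le_frattini hP
      rw [_root_.commutator_def]
      exact commutator_mem_commutator (mem_top _) (mem_top _)
    exact ⟨_, h, rfl⟩
  have hpowΦ : ∀ x ∈ P, x ^ p ∈ Φ := by
    intro x hx
    exact ⟨_, Helper1.IsPGroup.pow_mem_frattini hP ⟨x, hx⟩, rfl⟩
  have hΦmin : ∀ K : Subgroup X, (∀ x ∈ P, ∀ y ∈ P, ⁅x, y⁆ ∈ K) → (∀ x ∈ P, x ^ p ∈ K) →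
      Φ ≤ K := by
    intro K hc hpw
    have := Helper14.frattini_le_of_elemAb p (K.subgroupOf P)
      (fun a b => by rw [mem_subgroupOf]; exact hc a a.2 b b.2)
      (fun a => by rw [mem_subgroupOf]; exact hpw a a.2)
    rintro _ ⟨y, hy, rfl⟩
    exact mem_subgroupOf.mp (this hy)
  -- (3)
  have h3 : ∀ U : Subgroup X, Φ ≤ U → U ≤ P → B ≤ normalizer (U : Set X) → U = Φ ∨ U = P := by
    intro U hΦU hUP hBU
    by_cases hUeq : U = P
    · exact Or.inr hUeq
    · left
      have hUA := hmin U (lt_of_le_of_ne hUP hUeq) hBU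
      refine le_antisymm ?_ hΦU
      exact le_of_commutator_le_of_abelian_section A P Φ U hPnΦ (hAB.trans hBΦ) hAP hcommΦ hcop
        (by rw [h1]; exact le_sup_left) hUP (by rw [hUA]; exact bot_le)
  by_cases hab : ∀ x ∈ P, ∀ y ∈ P, x * y = y * x
  · -- abelian case
    have hcomm : IsMulCommutative P := ⟨⟨fun a b => Subtype.ext (hab a a.2 b b.2)⟩⟩
    have hexp : ∀ x ∈ P, x ^ p = 1 := by
      let Ω : Subgroup X :=
        { carrier := {x | x ∈ P ∧ x ^ p = 1}
          one_mem' := ⟨P.one_mem, one_pow _⟩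
          mul_mem' := by
            rintro x y ⟨hx, hxp⟩ ⟨hy, hyp⟩
            refine ⟨P.mul_mem hx hy, ?_⟩
            have hc : Commute x y := hab x hx y hy
            rw [hc.mul_pow, hxp, hyp, one_mul]
          inv_mem' := by
            rintro x ⟨hx, hxp⟩
            exact ⟨P.inv_mem hx, by rw [inv_pow, hxp, inv_one]⟩ }
      have hΩP : Ω ≤ P := fun x hx => hx.1
      by_contra hne
      have hΩlt : Ω < P := by
        refine lt_of_le_of_ne hΩP (fun h => hne ?_)
        intro x hx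
        have : x ∈ Ω := h ▸ hx
        exact this.2
      have hBΩ : B ≤ normalizer (Ω : Set X) := by
        intro b hb
        apply mem_normalizer_of_forall
        rintro x ⟨hx, hxp⟩
        exact ⟨(mem_normalizer_iff.mp (hBP hb) x).mp hx, by rw [conj_pow, hxp]; group⟩
      have hΩA := hmin Ω hΩlt hBΩ
      have hAC := coprime_abelian_centralizes_of_prime_order A P hAP hcop (fun v hv hvp a ha => by
        have hvp' : v ^ p = 1 := by
          obtain ⟨k, hk⟩ := (IsPGroup.iff_orderOf.mp hP) ⟨v, hv⟩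
          rw [Subgroup.orderOf_mk] at hk
          have hdvd : orderOf v ∣ p := by
            have h1 : orderOf v ∣ p ^ k := hk ▸ dvd_rfl
            exact (Nat.Prime.dvd_of_dvd_pow hvp h1)
          exact orderOf_dvd_iff_pow_eq_one.mp hdvd
        have hvΩ : v ∈ Ω := ⟨hv, hvp'⟩
        have : ⁅v, a⁆ ∈ ⁅Ω, A⁆ := commutator_mem_commutator hvΩ ha
        rw [hΩA, mem_bot, commutatorElement_eq_one_iff_mul_comm] at this
        exact this.symm)
      apply hnt
      rw [commutator_comm, commutator_eq_bot_iff_le_centralizer]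
      exact hAC
    exact ⟨h1, Or.inl ⟨hcomm, hexp⟩, h3, fun _ => hexp⟩
  · -- nonabelian case
    set Z : Subgroup X := (center ↥P).map P.subtype with hZ
    have hmemZ : ∀ x, x ∈ Z ↔ x ∈ P ∧ ∀ y ∈ P, y * x = x * y := mem_map_center_iff P
    have hZP : Z ≤ P := map_subtype_le _
    have hBZ : B ≤ normalizer (Z : Set X) :=
      hBP.trans (normalizer_le_normalizer_map_of_characteristic P (center ↥P))
    have hZne : Z ≠ P := by
      intro h
      apply hab
      intro x hx y hy
      have hyZ : y ∈ Z := h ▸ hy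
      exact ((hmemZ y).mp hyZ).2 x hx
    have hΦne : Φ ≠ P := by
      intro h
      have htop : frattini ↥P = ⊤ := by
        rw [eq_top_iff]
        intro x _
        have : (x : X) ∈ Φ := by rw [h]; exact x.2
        obtain ⟨y, hy, hyx⟩ := this
        have : y = x := Subtype.ext hyx
        exact this ▸ hy
      have hbot : (⊥ : Subgroup ↥P) = ⊤ := frattini_nongenerating (by rw [htop, bot_sup_eq])
      apply hab
      intro x hx y hy
      have hx1 : (⟨x, hx⟩ : P) ∈ (⊥ : Subgroup ↥P) := by rw [hbot]; exact mem_top _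
      rw [mem_bot] at hx1
      have : x = 1 := congrArg Subtype.val hx1
      rw [this, one_mul, mul_one]
    have hΦA : ⁅Φ, A⁆ = ⊥ := hmin Φ (lt_of_le_of_ne hΦP hΦne) hBΦ
    have hPΦ : ⁅P, Φ⁆ = ⊥ := by
      have e1 : ⁅⁅A, Φ⁆, P⁆ = ⊥ := by rw [commutator_comm A Φ, hΦA, commutator_bot_left]
      have e2 : ⁅⁅Φ, P⁆, A⁆ = ⊥ := by
        have : ⁅Φ, P⁆ ≤ Φ := commutator_le_of_le_normalizer hPnΦ
        exact le_bot_iff.mp ((commutator_mono this le_rfl).trans hΦA.le)
      have e3 := commutator_commutator_eq_bot_of_rotate e1 e2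
      rwa [h1] at e3
    have hΦZ : Φ ≤ Z := by
      intro x hx
      rw [hmemZ]
      refine ⟨hΦP hx, fun y hy => ?_⟩
      have : ⁅y, x⁆ ∈ ⁅P, Φ⁆ := commutator_mem_commutator hy hx
      rw [hPΦ, mem_bot] at this
      exact commutatorElement_eq_one_iff_mul_comm.mp this
    have hZΦ : Z = Φ := (h3 Z hΦZ hZP hBZ).resolve_right hZne
    set D : Subgroup X := ⁅P, P⁆ with hD
    have hDΦ : D ≤ Φ := by rw [hD, commutator_le]; exact hcommΦ
    have hBD : B ≤ normalizer (D : Set X) := le_normalizer_commutator hBP hBP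
    have hcent : ∀ x ∈ P, ∀ y ∈ P, ∀ z ∈ P, Commute ⁅y, x⁆ z := by
      intro x hx y hy z hz
      have : ⁅y, x⁆ ∈ Z := hZΦ ▸ hcommΦ y hy x hx
      exact (((hmemZ _).mp this).2 z hz).symm
    have hpow : ∀ x ∈ P, ∀ y ∈ P, ∀ n : ℕ,
        (x * y) ^ n = x ^ n * y ^ n * ⁅y, x⁆ ^ (n.choose 2) := fun x hx y hy n =>
      mul_pow_of_commute_comm x y (hcent x hx y hy x hx) (hcent x hx y hy y hy) n
    have hAΦ : ∀ z ∈ Φ, ∀ a ∈ A, a * z * a⁻¹ = z := by
      intro z hz a ha
      have : ⁅z, a⁆ ∈ ⁅Φ, A⁆ := commutator_mem_commutator hz ha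
      rw [hΦA, mem_bot, commutatorElement_eq_one_iff_mul_comm] at this
      rw [← this, mul_inv_cancel_right]
    have hconjP : ∀ x ∈ P, ∀ a ∈ A, a * x⁻¹ * a⁻¹ ∈ P := fun x hx a ha =>
      (mem_normalizer_iff.mp (hAP ha) x⁻¹).mp (P.inv_mem hx)
    have hkey : ∀ x ∈ P, ∀ a ∈ A, ⁅x, a⁆ ^ p = ⁅a * x⁻¹ * a⁻¹, x⁆ ^ (p.choose 2) := by
      intro x hx a ha
      have hy := hconjP x hx a ha
      have e : ⁅x, a⁆ = x * (a * x⁻¹ * a⁻¹) := by rw [commutatorElement_def]; group
      rw [e, hpow x hx _ hy p, conj_pow, inv_pow, hAΦ _ (Φ.inv_mem (hpowΦ x hx)) a ha,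
        mul_inv_cancel, one_mul]
    -- `x^p ∈ D` for all `x ∈ P`
    have hpowD : ∀ x ∈ P, x ^ p ∈ D := by
      let K : Subgroup X :=
        { carrier := {x | x ∈ P ∧ x ^ p ∈ D}
          one_mem' := ⟨P.one_mem, by rw [one_pow]; exact D.one_mem⟩
          mul_mem' := by
            rintro x y ⟨hx, hxp⟩ ⟨hy, hyp⟩
            refine ⟨P.mul_mem hx hy, ?_⟩
            rw [hpow x hx y hy p]
            exact D.mul_mem (D.mul_mem hxp hyp) (D.pow_mem (commutator_mem_commutator hy hx) _)
          inv_mem' := by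
            rintro x ⟨hx, hxp⟩
            exact ⟨P.inv_mem hx, by rw [inv_pow]; exact D.inv_mem hxp⟩ }
      have hKP : K ≤ P := fun x hx => hx.1
      by_contra hne
      have hKlt : K < P := by
        refine lt_of_le_of_ne hKP (fun h => hne ?_)
        intro x hx
        have : x ∈ K := h ▸ hx
        exact this.2
      have hBK : B ≤ normalizer (K : Set X) := by
        intro b hb
        apply mem_normalizer_of_forall
        rintro x ⟨hx, hxp⟩
        refine ⟨(mem_normalizer_iff.mp (hBP hb) x).mp hx, ?_⟩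
        rw [conj_pow]
        exact (mem_normalizer_iff.mp (hBD hb) _).mp hxp
      have hKA := hmin K hKlt hBK
      refine hK2 K hKA (fun x hx a ha => ⟨hPA_le (commutator_mem_commutator hx ha), ?_⟩)
      rw [hkey x hx a ha]
      exact D.pow_mem (commutator_mem_commutator (hconjP x hx a ha) hx) _
    have hDeq : D = Φ :=
      le_antisymm hDΦ (hΦmin D (fun x hx y hy => commutator_mem_commutator hx hy) hpowD)
    have hspecial : Cfsg.IsSpecial p ↥P := by
      refine ⟨hP, ?_, ?_⟩
      · apply Subgroup.map_injective P.subtype_injective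
        exact hZΦ.symm
      · apply Subgroup.map_injective P.subtype_injective
        rw [Subgroup.map_subtype_commutator]
        exact hDeq.trans hZΦ.symm
    refine ⟨h1, Or.inr hspecial, h3, fun hp2 => ?_⟩
    -- (4)
    have hcpow : ∀ x ∈ P, ∀ y ∈ P, ⁅y, x⁆ ^ p = 1 := by
      intro x hx y hy
      rw [← commutator_pow_left_of_commute_comm x y (hcent x hx y hy y hy) p]
      have : y ^ p ∈ Z := hZΦ ▸ hpowΦ y hy
      rw [commutatorElement_eq_one_iff_mul_comm]
      exact ((hmemZ _).mp this).2 x hx |>.symm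
    have hdvd : p ∣ p.choose 2 := by
      apply hp.dvd_choose_self (by norm_num)
      have := hp.two_le
      omega
    have hchoose : ∀ x ∈ P, ∀ y ∈ P, ⁅y, x⁆ ^ (p.choose 2) = 1 := by
      intro x hx y hy
      obtain ⟨m, hm⟩ := hdvd
      rw [hm, pow_mul, hcpow x hx y hy, one_pow]
    have hsub : ⁅P, A⁆ ≤ (⊤ : Subgroup X) := le_top
    have hall : ∀ z ∈ ⁅P, A⁆, z ∈ P ∧ z ^ p = 1 := by
      intro z hz
      rw [Subgroup.commutator_def] at hz
      induction hz using Subgroup.closure_induction with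
      | mem w hw =>
        obtain ⟨x, hx, a, ha, rfl⟩ := hw
        refine ⟨hPA_le (commutator_mem_commutator hx ha), ?_⟩
        rw [hkey x hx a ha]
        exact hchoose x hx _ (hconjP x hx a ha)
      | one => exact ⟨P.one_mem, one_pow _⟩
      | mul x y _ _ ihx ihy =>
        refine ⟨P.mul_mem ihx.1 ihy.1, ?_⟩
        rw [hpow x ihx.1 y ihy.1 p, ihx.2, ihy.2, hchoose x ihx.1 y ihy.1]
        simp
      | inv x _ ih => exact ⟨P.inv_mem ih.1, by rw [inv_pow, ih.2, inv_one]⟩
    intro x hx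
    exact (hall x (by rw [h1]; exact hx)).2

end Cfsg.Agent.S3736
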