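import Mathlib
import Cfsg.Statements.S0064

set_option autoImplicit false
open Pointwise
open Cfsg

namespace Cfsg.Agent.S0064

theorem isSubnormal_of_normalizerCondition {G : Type*} [Group G] [Finite G]
    (hnc : NormalizerCondition G) (H : Subgroup G) : H.IsSubnormal := by
  induction H using WellFoundedGT.induction with
  | ind H ih =>
    by_cases hH : H = ⊤
    · rw [hH]; exact Subgroup.IsSubnormal.top
    · have hlt : H < Subgroup.normalizer (H : Set G) := hnc H (lt_top_iff_ne_top.mpr hH)
      exact Subgroup.IsSubnormal.step H _ hlt.le (ih _ hlt) Subgroup.normal_in_normalizer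

/-- A finite group is nilpotent exactly when each of its subgroups is subnormal. -/
theorem result {G : Type*} [Group G] [Finite G] :
    Group.IsNilpotent G ↔ ∀ H : Subgroup G, H.IsSubnormal := by
  constructor
  · intro h H
    exact isSubnormal_of_normalizerCondition (Group.normalizerCondition_of_isNilpotent) H
  · intro h
    apply (Group.isNilpotent_of_finite_tfae (G := G)).out 2 0 |>.mp
    intro M hM
    obtain ⟨K, hKn, hMK, hK⟩ := (h M).exists_normal_and_le_and_lt_top_of_ne hM.1
    have : M = K := by
      by_contra hne
      exact hK.ne (hM.2 K (lt_of_le_of_ne hMK hne))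
    rw [this]; exact hKn

end Cfsg.Agent.S0064
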