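import Mathlib
import Cfsg.Statements.S3785
import Cfsg.Agent.Helper19.Basic
import Cfsg.Agent.Helper19.OmegaOne
import Cfsg.Agent.Helper7.Fitting
import Cfsg.Agent.S0044
import Cfsg.Agent.S0064

set_option autoImplicit false
open Cfsg

namespace Cfsg.Agent.S3785

open Subgroup Cfsg.Agent.Helper7 Cfsg.Agent.Helper19
open Cfsg.Agent.Helper14 (pCore_isPGroup)
open scoped commutatorElement

/-- The centralizer of a conjugation-invariant set is normal. -/
lemma centralizer_normal_of_conj_invariant {G : Type*} [Group G] (T : Set G)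
    (hT : ∀ w ∈ T, ∀ t : G, t * w * t⁻¹ ∈ T) : (centralizer T).Normal := by
  constructor
  intro x hx t
  rw [mem_centralizer_iff]
  intro w hw
  have h1 := mem_centralizer_iff.mp hx (t⁻¹ * w * t⁻¹⁻¹) (hT w hw t⁻¹)
  calc w * (t * x * t⁻¹) = t * ((t⁻¹ * w * t⁻¹⁻¹) * x) * t⁻¹ := by group
    _ = t * (x * (t⁻¹ * w * t⁻¹⁻¹)) * t⁻¹ := by rw [h1]
    _ = t * x * t⁻¹ * w := by group

/-- Elements of `r`-power order of the Fitting subgroup lie in `O_r(G)`. -/
lemma mem_pCore_of_mem_fitting {G : Type*} [Group G] [Finite G] {r : ℕ} [Fact r.Prime] {w : G}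
    (hw : w ∈ fittingSubgroup G) {j : ℕ} (hwr : orderOf w = r ^ j) : w ∈ pCore r G := by
  have hnil : Group.IsNilpotent (fittingSubgroup G) := fittingSubgroup_isNilpotent
  have hsub : (zpowers (⟨w, hw⟩ : fittingSubgroup G)).IsSubnormal :=
    (Cfsg.Agent.S0064.result.mp hnil) _
  have hsubG := hsub.trans' (fittingSubgroup_normal G).isSubnormal
  have hmap : (zpowers (⟨w, hw⟩ : fittingSubgroup G)).map (fittingSubgroup G).subtype =
      zpowers w := by
    rw [MonoidHom.map_zpowers]; rfl
  rw [hmap] at hsubG
  have hp : IsPGroup r (zpowers w) := IsPGroup.of_card (n := j) (by rw [Nat.card_zpowers, hwr])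
  exact subnormal_pGroup_le_pCore hsubG hp (mem_zpowers w)

/-- Let G be a finite solvable group whose Fitting subgroup F(G) has odd order. If an element g of G commutes with every element of prime order of F(G), then g ∈ F(G). -/
theorem result {G : Type*} [Group G] [Finite G] (hG : Group.IsSolvable G) (hodd : Odd (Nat.card (Cfsg.fittingSubgroup G))) (g : G) (hg : ∀ x ∈ Cfsg.fittingSubgroup G, (orderOf x).Prime → g * x = x * g) : g ∈ Cfsg.fittingSubgroup G := by
  classical
  set F := Cfsg.fittingSubgroup G with hF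
  have hFn : F.Normal := fittingSubgroup_normal G
  let T0 : Set G := {w | w ∈ F ∧ (orderOf w).Prime}
  have hT0 : ∀ w ∈ T0, ∀ t : G, t * w * t⁻¹ ∈ T0 := by
    rintro w ⟨hw, hwp⟩ t
    exact ⟨hFn.conj_mem w hw t, by rw [orderOf_conj']; exact hwp⟩
  let C : Subgroup G := centralizer T0
  have hgC : g ∈ C := by
    rw [mem_centralizer_iff]
    rintro w ⟨hw, hwp⟩
    exact (hg w hw hwp).symm
  -- Step 0: `p'`-elements of `C` centralize `O_p(G)`
  have step0 : ∀ (p : ℕ) [Fact p.Prime], ∀ x ∈ C, (orderOf x).Coprime p →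
      ∀ w ∈ pCore p G, x * w = w * x := by
    intro p _ x hx hxp w hw
    have hPF : pCore p G ≤ F := pCore_le_fittingSubgroup p
    by_cases hp2 : p = 2
    · subst hp2
      have hcard : Nat.card (pCore 2 G) ∣ Nat.card F := card_dvd_of_le hPF
      obtain ⟨n, hn⟩ := IsPGroup.iff_card.mp (pCore_isPGroup (G := G) 2)
      have hn0 : n = 0 := by
        by_contra h0
        have h2 : 2 ∣ Nat.card F := (dvd_pow_self 2 h0).trans (hn ▸ hcard)
        exact (Nat.not_even_iff_odd.mpr hodd) (even_iff_two_dvd.mpr h2)
      rw [hn0, pow_zero] at hn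
      have hbot : pCore 2 G = ⊥ := (Subgroup.card_eq_one).mp hn
      rw [hbot, mem_bot] at hw
      rw [hw]; simp
    · have hA : (Nat.card (zpowers x)).Coprime p := by rw [Nat.card_zpowers]; exact hxp
      have h := commutator_eq_bot_of_centralizes_omega_one hp2 (pCore p G) (zpowers x)
        (pCore_isPGroup p) (by rw [normalizer_eq_top]; exact le_top) hA (by
          intro v hv hvp a ha
          by_cases hv1 : v = 1
          · rw [hv1]; simp
          · have hvord : orderOf v = p := orderOf_eq_prime hvp hv1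
            have hxv : v * x = x * v :=
              mem_centralizer_iff.mp hx v ⟨hPF hv, by rw [hvord]; exact Fact.out⟩
            obtain ⟨k, rfl⟩ := mem_zpowers_iff.mp ha
            have hc : Commute x v := hxv.symm
            exact (hc.zpow_left k).eq)
      have : ⁅w, x⁆ ∈ ⁅pCore p G, zpowers x⁆ := commutator_mem_commutator hw (mem_zpowers x)
      rw [h, mem_bot, commutatorElement_eq_one_iff_mul_comm] at this
      exact this.symm
  -- Step 1: prime-power-order elements of `C` lie in `F`
  have step1 : ∀ (q : ℕ) [Fact q.Prime], ∀ y ∈ C, (∃ k, orderOf y = q ^ k) → y ∈ F := by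
    intro q hqf y hyC hyq
    have hq : q.Prime := hqf.out
    obtain ⟨k0, hk0⟩ := hyq
    let Tq : Set G := T0 ∪ {w | ∃ p : ℕ, p.Prime ∧ p ≠ q ∧ w ∈ pCore p G}
    have hTq : ∀ w ∈ Tq, ∀ t : G, t * w * t⁻¹ ∈ Tq := by
      rintro w (hw | ⟨p, hp, hpq, hw⟩) t
      · exact Or.inl (hT0 w hw t)
      · exact Or.inr ⟨p, hp, hpq, (Cfsg.pCore_normal p G).conj_mem w hw t⟩
    let K : Subgroup G := centralizer Tq
    have hKn : K.Normal := centralizer_normal_of_conj_invariant Tq hTq
    have hKC : K ≤ C := centralizer_le Set.subset_union_left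
    have hyK : y ∈ K := by
      rw [mem_centralizer_iff]
      rintro w (hw | ⟨p, hp, hpq, hw⟩)
      · exact mem_centralizer_iff.mp hyC w hw
      · have : Fact p.Prime := ⟨hp⟩
        refine (step0 p y hyC ?_ w hw).symm
        rw [hk0]
        exact Nat.Coprime.pow_left _ ((Nat.coprime_primes hq hp).mpr (Ne.symm hpq))
    -- `q'`-elements of `K` are central in `K`
    have h1a : ∀ z ∈ K, (orderOf z).Coprime q → ∀ k ∈ K, k * z = z * k := by
      intro z hz hzq k hk
      have hzC : z ∈ C := hKC hz
      have hzF : z ∈ centralizer (F : Set G) := by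
        have hle : pCoreSup G ≤ centralizer {z} := by
          rw [pCoreSup_le_iff]
          intro p hp w hw
          have : Fact p.Prime := ⟨hp⟩
          rw [mem_centralizer_iff]
          intro h hh
          rw [Set.mem_singleton_iff.mp hh]
          by_cases hpq : p = q
          · subst hpq; exact step0 p z hzC hzq w hw
          · exact (mem_centralizer_iff.mp hz w (Or.inr ⟨p, hp, hpq, hw⟩)).symm
        rw [mem_centralizer_iff]
        intro w hw
        have hw' : w ∈ pCoreSup G := by rw [← fittingSubgroup_eq_pCoreSup]; exact hw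
        exact (mem_centralizer_iff.mp (hle hw') z rfl).symm
      have hzF' : z ∈ F := by
        have := hG
        exact Cfsg.Agent.S0044.result hzF
      have hzk : z ∈ centralizer ({k} : Set G) := by
        apply mem_of_forall_primePow_mem (centralizer {k}) _ z rfl
        rintro w hw ⟨r, j, hr, hwr⟩
        rw [mem_centralizer_iff]
        intro h hh
        rw [Set.mem_singleton_iff.mp hh]
        by_cases hj : j = 0
        · subst hj
          rw [pow_zero, orderOf_eq_one_iff] at hwr
          rw [hwr]; simp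
        · have hrq : r ≠ q := by
            rintro rfl
            have h1 : r ∣ orderOf w := by rw [hwr]; exact dvd_pow_self r hj
            have h2 : orderOf w ∣ orderOf z := orderOf_dvd_of_mem_zpowers hw
            exact hr.one_lt.ne' (Nat.Coprime.eq_one_of_dvd hzq.symm (h1.trans h2))
          have hwF : w ∈ F := (zpowers_le.mpr hzF') hw
          have : Fact r.Prime := ⟨hr⟩
          have hwr' : w ∈ pCore r G := mem_pCore_of_mem_fitting hwF hwr
          exact (mem_centralizer_iff.mp hk w (Or.inr ⟨r, hr, hrq, hwr'⟩)).symm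
      exact mem_centralizer_iff.mp hzk k rfl
    have hKnil : Group.IsNilpotent K := by
      have hPG : IsPGroup q (↥K ⧸ center ↥K) := by
        intro gbar
        obtain ⟨k, rfl⟩ := QuotientGroup.mk_surjective gbar
        obtain ⟨n, m, hm, hnm⟩ :=
          Nat.exists_eq_pow_mul_and_not_dvd (orderOf_pos (k : G)).ne' q hq.ne_one
        refine ⟨n, ?_⟩
        rw [← QuotientGroup.mk_pow, QuotientGroup.eq_one_iff, Subgroup.mem_center_iff]
        intro k'
        apply Subtype.ext
        rw [coe_mul, coe_mul, coe_pow]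
        apply h1a _ (K.pow_mem k.2 _) ?_ _ k'.2
        have hpow : ((k : G) ^ q ^ n) ^ m = 1 := by
          rw [← pow_mul, ← hnm, pow_orderOf_eq_one]
        exact Nat.Coprime.coprime_dvd_left (orderOf_dvd_of_pow_eq_one hpow)
          ((Nat.Prime.coprime_iff_not_dvd hq).mpr hm).symm
      have hnilQ : Group.IsNilpotent (↥K ⧸ center ↥K) := hPG.isNilpotent
      exact Subgroup.isNilpotent_of_ker_le_center (QuotientGroup.mk' (center ↥K))
        (by rw [QuotientGroup.ker_mk'])
    exact (le_fittingSubgroup hKn hKnil) hyK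
  -- Step 2
  apply mem_of_forall_primePow_mem F _ g rfl
  rintro w hw ⟨q, k, hq, hwq⟩
  have : Fact q.Prime := ⟨hq⟩
  exact step1 q w ((zpowers_le.mpr hgC) hw) ⟨k, hwq⟩

end Cfsg.Agent.S3785
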