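import Mathlib
import Cfsg.Statements.S1451
import Cfsg.Agent.Helper19.RankTwoAut
import Cfsg.Agent.Helper19.FitCrit
import Cfsg.Agent.Helper7.RankSylow
import Cfsg.Agent.Helper14.PCore
import Cfsg.Agent.Helper29.Schmidt2
import Cfsg.Agent.Helper1.HallAux
import Cfsg.Agent.Lead.Hall2
import Cfsg.Agent.Lead.PiHall
import Cfsg.Agent.Lead.CoprimeFrattini
import Cfsg.Agent.S0640

set_option autoImplicit false
open Cfsg

namespace Cfsg.Agent.S1451

open Subgroup Cfsg.Agent.Helper7 Cfsg.Agent.Helper19 Cfsg.Agent.S3785

/-- In a group of odd order `O_2(G) = 1`. -/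
theorem pCore_two_eq_bot {G : Type*} [Group G] [Finite G] (hodd : Odd (Nat.card G)) :
    pCore 2 G = ⊥ := by
  haveI : Fact (Nat.Prime 2) := ⟨Nat.prime_two⟩
  obtain ⟨n, hn⟩ := IsPGroup.iff_card.mp (Cfsg.Agent.Helper14.pCore_isPGroup (G := G) 2)
  have hn0 : n = 0 := by
    by_contra h0
    have h2 : 2 ∣ Nat.card G :=
      (dvd_pow_self 2 h0).trans (hn ▸ card_subgroup_dvd_card (pCore 2 G))
    exact (Nat.not_even_iff_odd.mpr hodd) (even_iff_two_dvd.mpr h2)
  rw [hn0, pow_zero] at hn
  exact (Subgroup.card_eq_one).mp hn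

/-- An automorphism of `r`-power order of a `q`-group of rank at most two, `r > q`, is trivial. -/
theorem aut_eq_one_of_lt {R : Type*} [Group R] [Finite R] {q : ℕ} [Fact q.Prime] (hq2 : q ≠ 2)
    (hR : IsPGroup q R) (hrk : Cfsg.PRankLE q 2 R) (r : ℕ) (hr : r.Prime) (hqr : q < r)
    (α : MulAut R) (j : ℕ) (hα : α ^ r ^ j = 1) : α = 1 := by
  by_contra hne
  have h1 : orderOf α ∣ r ^ j := orderOf_dvd_of_pow_eq_one hα
  obtain ⟨i, -, hi⟩ := (Nat.dvd_prime_pow hr).mp h1
  have hi0 : i ≠ 0 := by
    rintro rfl
    rw [pow_zero, orderOf_eq_one_iff] at hi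
    exact hne hi
  have h2 : r ∣ Nat.card (MulAut R) :=
    (dvd_pow_self r hi0).trans (hi ▸ orderOf_dvd_natCard α)
  have h3 := (Cfsg.Agent.S0640.result hq2 hR hrk r hr (by omega) h2).2
  omega

/-- A normal subgroup of order prime to its index is characteristic. -/
theorem characteristic_of_normal_of_coprime {G : Type*} [Group G] [Finite G] (N : Subgroup G)
    (hN : N.Normal) (hcop : (Nat.card N).Coprime N.index) : N.Characteristic := by
  rw [characteristic_iff_map_le]
  intro φ x hx
  obtain ⟨y, hy, rfl⟩ := hx
  -- the image of `φ y` in `G ⧸ N` has order dividing both `|N|` and the index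
  have h1 : (QuotientGroup.mk' N (φ y)) ^ Nat.card N = 1 := by
    rw [← map_pow, ← map_pow]
    have h2 : (⟨y, hy⟩ : ↥N) ^ Nat.card N = 1 := pow_card_eq_one'
    have h3 := congrArg Subtype.val h2
    simp only [Subgroup.coe_pow, Subgroup.coe_one] at h3
    rw [h3, map_one, map_one]
  have h4 : (QuotientGroup.mk' N (φ y)) ^ N.index = 1 := by
    rw [Subgroup.index_eq_card]; exact pow_card_eq_one'
  have h5 := pow_gcd_eq_one.mpr ⟨h1, h4⟩
  rw [Nat.Coprime.gcd_eq_one hcop, pow_one] at h5
  exact (QuotientGroup.eq_one_iff _).mp h5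

/-- Let G be a solvable group of odd order such that G, or its Fitting subgroup, has no elementary abelian subgroup of order q ^ 3 for any prime q. Then G' is nilpotent; for every Sylow subgroup S of G, every characteristic subgroup T of S with T ≤ [S, S] is normal in G; and for every prime p, G has a characteristic subgroup that is a Hall subgroup for the set of primes greater than p. -/
theorem result {G : Type*} [Group G] [Finite G] [Group.IsSolvable G] (hodd : Odd (Nat.card G)) (hr : Cfsg.RankLE 2 G ∨ Cfsg.RankLE 2 (Cfsg.fittingSubgroup G)) :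
    Group.IsNilpotent ↥(commutator G) ∧
      (∀ (q : ℕ) [Fact q.Prime] (S : Sylow q G) (T : Subgroup ↥(S : Subgroup G)), T.Characteristic → T.map (S : Subgroup G).subtype ≤ ⁅(S : Subgroup G), (S : Subgroup G)⁆ →
        (T.map (S : Subgroup G).subtype).Normal) ∧
      ∀ p : ℕ, ∃ N : Subgroup G, N.Characteristic ∧ Cfsg.IsPiHall {q | q.Prime ∧ p < q} N := by
  classical
  have hsolv : Group.IsSolvable G := inferInstance
  set F := Cfsg.fittingSubgroup G with hF
  set D : Subgroup G := commutator G with hD
  have hDn : D.Normal := inferInstance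
  -- ranks of the `p`-cores
  have hrkQ : ∀ (q : ℕ) [Fact q.Prime], Cfsg.PRankLE q 2 ↥(pCore q G) := by
    intro q hq
    rcases hr with h | h
    · exact PRankLE.of_injective (pCore q G).subtype (pCore q G).subtype_injective (h q hq.out)
    · have hle : pCore q G ≤ F := pCore_le_fittingSubgroup q
      exact PRankLE.of_injective (Subgroup.inclusion hle) (Subgroup.inclusion_injective hle)
        (h q hq.out)
  have hQp : ∀ (q : ℕ) [Fact q.Prime], IsPGroup q ↥(pCore q G) :=
    fun q _ => Cfsg.Agent.Helper14.pCore_isPGroup q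
  -- conjugation by `x` is trivial on `O_q(G)` when it induces the trivial automorphism
  have hconj : ∀ (q : ℕ) [Fact q.Prime] (x : G),
      (MulAut.conjNormal x : MulAut ↥(pCore q G)) = 1 → ∀ w ∈ pCore q G, x * w = w * x := by
    intro q _ x hx w hw
    have h1 := congrArg (fun f : MulAut ↥(pCore q G) => ((f ⟨w, hw⟩ : ↥(pCore q G)) : G)) hx
    have h2 : x * w * x⁻¹ = w := h1
    calc x * w = (x * w * x⁻¹) * x := by group
      _ = w * x := by rw [h2]
  -- `q'`-elements of `G'` centralize `O_q(G)`
  have K1 : ∀ (q : ℕ) [Fact q.Prime], ∀ x ∈ D, (orderOf x).Coprime q →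
      ∀ w ∈ pCore q G, x * w = w * x := by
    intro q hq x hx hxq w hw
    by_cases hq2 : q = 2
    · subst hq2
      rw [pCore_two_eq_bot hodd, mem_bot] at hw
      rw [hw]; simp
    · apply hconj q x _ w hw
      let ρ : G →* MulAut ↥(pCore q G) := MulAut.conjNormal
      obtain ⟨k, hk⟩ := Cfsg.Agent.Helper19.RankTwoAut.commutator_pow_eq_one q hq2 (hQp q)
        (hrkQ q) hodd ρ x hx
      have h2 : ρ x ^ orderOf x = 1 := by rw [← map_pow, pow_orderOf_eq_one, map_one]
      have h3 := pow_gcd_eq_one.mpr ⟨hk, h2⟩
      have h4 : Nat.gcd (q ^ k) (orderOf x) = 1 := (Nat.Coprime.pow_right k hxq).symm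
      rw [h4, pow_one] at h3
      exact h3
  -- (a) `G' ≤ F(G)`
  have hDF : D ≤ F :=
    Cfsg.Agent.Helper19.FitCrit.le_fitting_of_coprime_centralizes hsolv D hDn K1
  have hFnil : Group.IsNilpotent ↥F := fittingSubgroup_isNilpotent
  have hDnil : Group.IsNilpotent ↥D :=
    Subgroup.isNilpotent_of_ker_le_center (Subgroup.inclusion hDF) (by
      rw [(MonoidHom.ker_eq_bot_iff _).mpr (Subgroup.inclusion_injective hDF)]
      exact bot_le)
  -- prime power order elements of `D` lie in the cores
  have hDcore : ∀ (q : ℕ) [Fact q.Prime], ∀ d ∈ D, ∀ k : ℕ, orderOf d = q ^ k → d ∈ pCore q G :=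
    fun q _ d hd k hk => mem_pCore_of_mem_fitting (hDF hd) hk
  refine ⟨hDnil, ?_, ?_⟩
  · -- (b)
    intro q hq S T hTc hTS
    set T' : Subgroup G := T.map (S : Subgroup G).subtype with hT'
    have hNS : normalizer ((S : Subgroup G) : Set G) ≤ normalizer (T' : Set G) :=
      Cfsg.Agent.Lead.normalizer_le_normalizer_map_of_characteristic (S : Subgroup G) T
    have hT'core : T' ≤ pCore q G := by
      intro t ht
      have htD : t ∈ D := by
        have h1 := hTS ht
        have h2 : ⁅(S : Subgroup G), (S : Subgroup G)⁆ ≤ D := by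
          rw [hD, _root_.commutator_def]
          exact Subgroup.commutator_mono le_top le_top
        exact h2 h1
      have htS : t ∈ (S : Subgroup G) := by
        obtain ⟨s, -, rfl⟩ := ht
        exact s.2
      obtain ⟨k, hk⟩ := (IsPGroup.iff_orderOf.mp S.2) ⟨t, htS⟩
      rw [Subgroup.orderOf_mk] at hk
      exact hDcore q t htD k hk
    have hDN : D ≤ normalizer (T' : Set G) := by
      intro d hd
      apply mem_of_forall_primePow_mem (normalizer (T' : Set G)) _ d rfl
      rintro w hw ⟨r, j, hr, hwr⟩
      haveI : Fact r.Prime := ⟨hr⟩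
      have hwD : w ∈ D := (zpowers_le.mpr hd) hw
      by_cases hrq : r = q
      · subst hrq
        have h1 : w ∈ pCore r G := hDcore r w hwD j hwr
        exact hNS (le_normalizer (Cfsg.Agent.Helper14.pCore_le_sylow r S h1))
      · -- `w` centralizes `T'`
        have hcen : ∀ t ∈ T', w * t = t * w := by
          intro t ht
          apply K1 q w hwD _ t (hT'core ht)
          rw [hwr]
          exact Nat.Coprime.pow_left _ ((Nat.coprime_primes hr hq.out).mpr hrq)
        apply Subgroup.centralizer_le_normalizer
        rw [mem_centralizer_iff]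
        intro t ht
        exact (hcen t ht).symm
    set L : Subgroup G := (S : Subgroup G) ⊔ D with hL
    haveI hLn : L.Normal := Cfsg.Agent.Helper29.normal_of_commutator_le (le_sup_right)
    have hLsolv : Group.IsSolvable ↥L := inferInstance
    have hSL : (S : Subgroup G) ≤ L := le_sup_left
    have hcop : (Nat.card (S : Subgroup G)).Coprime ((S : Subgroup G).relIndex L) := by
      obtain ⟨n, hn⟩ := IsPGroup.iff_card.mp S.2
      rw [hn]
      apply Nat.Coprime.pow_left
      rw [Nat.Prime.coprime_iff_not_dvd hq.out]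
      intro hdvd
      apply S.not_dvd_index
      rw [← Subgroup.relIndex_mul_index hSL]
      exact dvd_mul_of_dvd_left hdvd _
    have hfrat := Cfsg.Agent.Lead.hall_frattini L hLsolv (S : Subgroup G) hSL hcop
    have htop : normalizer (T' : Set G) = ⊤ := by
      rw [eq_top_iff, ← hfrat]
      exact sup_le (sup_le (le_normalizer.trans hNS) hDN) hNS
    exact normalizer_eq_top_iff.mp htop
  · -- (c)
    intro p
    set π : Set ℕ := {q | q.Prime ∧ p < q} with hπ
    have htopsolv : Group.IsSolvable ↥(⊤ : Subgroup G) := inferInstance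
    obtain ⟨H, hH⟩ := Cfsg.Agent.Lead.exists_isPiHallOf π (G := (⊤ : Subgroup G)) htopsolv
    obtain ⟨-, hHpi, hHidx⟩ := hH
    rw [Subgroup.relIndex_top_right] at hHidx
    -- `H` centralizes `O_q(G)` for `q ≤ p`
    have hHcen : ∀ (q : ℕ) [Fact q.Prime], q ≤ p → ∀ h ∈ H, ∀ w ∈ pCore q G, h * w = w * h := by
      intro q hq hqp h hh w hw
      by_cases hq2 : q = 2
      · subst hq2
        rw [pCore_two_eq_bot hodd, mem_bot] at hw
        rw [hw]; simp
      · have hmem : h ∈ centralizer ((pCore q G : Subgroup G) : Set G) := by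
          apply mem_of_forall_primePow_mem (centralizer ((pCore q G : Subgroup G) : Set G)) _ h rfl
          rintro v hv ⟨r, j, hr, hvr⟩
          rw [mem_centralizer_iff]
          intro u hu
          by_cases hj : j = 0
          · subst hj
            rw [pow_zero, orderOf_eq_one_iff] at hvr
            rw [hvr]; simp
          · have hvH : v ∈ H := (zpowers_le.mpr hh) hv
            have hrH : r ∣ Nat.card H := by
              have h1 : orderOf v ∣ Nat.card H := by
                have := orderOf_dvd_natCard (⟨v, hvH⟩ : ↥H)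
                rwa [Subgroup.orderOf_mk] at this
              exact (dvd_pow_self r hj).trans (hvr ▸ h1)
            have hrπ : r ∈ π := hHpi r hr hrH
            have hqr : q < r := lt_of_le_of_lt hqp hrπ.2
            have hα : (MulAut.conjNormal v : MulAut ↥(pCore q G)) ^ r ^ j = 1 := by
              rw [← map_pow, ← hvr, pow_orderOf_eq_one, map_one]
            have h1 := aut_eq_one_of_lt hq2 (hQp q) (hrkQ q) r hr hqr _ j hα
            exact (hconj q v h1 u hu).symm
        exact (mem_centralizer_iff.mp hmem w hw).symm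
    -- `D` normalizes `H`
    have hDN : D ≤ normalizer (H : Set G) := by
      intro d hd
      apply mem_of_forall_primePow_mem (normalizer (H : Set G)) _ d rfl
      rintro w hw ⟨r, j, hr, hwr⟩
      haveI : Fact r.Prime := ⟨hr⟩
      have hwD : w ∈ D := (zpowers_le.mpr hd) hw
      have hwcore : w ∈ pCore r G := hDcore r w hwD j hwr
      by_cases hrp : p < r
      · have hle : pCore r G ≤ H :=
          Cfsg.Agent.Helper1.normal_pgroup_le_of_index (pCore r G) (hQp r) H
            (hHidx r hr ⟨hr, hrp⟩)
        exact le_normalizer (hle hwcore)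
      · push Not at hrp
        have hcen : ∀ h ∈ H, w * h = h * w := fun h hh => (hHcen r hrp h hh w hwcore).symm
        apply Subgroup.centralizer_le_normalizer
        rw [mem_centralizer_iff]
        intro t ht
        exact (hcen t ht).symm
    set L : Subgroup G := H ⊔ D with hL
    haveI hLn : L.Normal := Cfsg.Agent.Helper29.normal_of_commutator_le (le_sup_right)
    have hLsolv : Group.IsSolvable ↥L := inferInstance
    have hHL : H ≤ L := le_sup_left
    have hcopidx : (Nat.card H).Coprime H.index := by
      apply Nat.coprime_of_dvd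
      intro k hk hk1 hk2
      exact hHidx k hk (hHpi k hk hk1) hk2
    have hcop : (Nat.card H).Coprime (H.relIndex L) := by
      apply Nat.Coprime.coprime_dvd_right _ hcopidx
      rw [← Subgroup.relIndex_mul_index hHL]
      exact dvd_mul_right _ _
    have hfrat := Cfsg.Agent.Lead.hall_frattini L hLsolv H hHL hcop
    have htop : normalizer (H : Set G) = ⊤ := by
      rw [eq_top_iff, ← hfrat]
      exact sup_le (sup_le le_normalizer hDN) le_rfl
    have hHn : H.Normal := normalizer_eq_top_iff.mp htop
    exact ⟨H, characteristic_of_normal_of_coprime H hHn hcopidx, hHpi, hHidx⟩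

end Cfsg.Agent.S1451
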