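import Cfsg.Statements.S0519
import Mathlib
import Cfsg.Agent.Helper1.NormalAbelianCyclic
import Cfsg.Agent.Helper1.Metacyclic
import Cfsg.Agent.Helper9.NormalElemAb
import Cfsg.Agent.Helper23.PGroup
import Cfsg.Agent.Helper2.QuaternionLift
import Cfsg.Agent.Helper11.DihedralLift

set_option autoImplicit false
open Cfsg

namespace Cfsg.Agent.S0519

/-- Let P be a finite p-group in which every abelian normal subgroup is cyclic, but which has a non-cyclic abelian
subgroup. Then p = 2 and P is generalized quaternion, dihedral of order at least 16, or quasi-dihedral. -/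
theorem result {P : Type*} [Group P] [Finite P] (p : ℕ) [Fact p.Prime]
    (hP : IsPGroup p P) (hn : ∀ A : Subgroup P, A.Normal → IsMulCommutative A → IsCyclic A)
    (hm : ∃ B : Subgroup P, IsMulCommutative B ∧ ¬ IsCyclic B) :
    p = 2 ∧ ((∃ n : ℕ, Nonempty (P ≃* QuaternionGroup n)) ∨ (∃ n : ℕ, 8 ≤ n ∧ Nonempty (P ≃* DihedralGroup n)) ∨
      Cfsg.IsQuasiDihedral P) := by
  open Cfsg.Agent.Helper1.CyclicMax2 Cfsg.Agent.Helper1.NAC in
  have hpp : p.Prime := Fact.out
  -- `P` is not cyclic
  have hnc : ¬ IsCyclic P := by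
    obtain ⟨B, -, hBn⟩ := hm
    intro h
    exact hBn inferInstance
  -- `p = 2`
  have hp2 : p = 2 := by
    by_contra hne
    obtain ⟨A, hAn, hAe, hAc⟩ := Cfsg.Agent.Helper9.exists_normal_elemAb_sq hne hP hnc
    have hcyc := hn A hAn hAe.1
    have hle : Nat.card A ≤ p :=
      Cfsg.Agent.Helper1.Metacyclic.card_le_of_isCyclic_of_pow hcyc hpp.pos
        (fun q => Subtype.ext (by simpa using hAe.2 q.1 q.2))
    rw [hAc] at hle
    have : p < p ^ 2 := by
      calc p = p ^ 1 := (pow_one p).symm
        _ < p ^ 2 := Nat.pow_lt_pow_right hpp.one_lt (by norm_num)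
    omega
  subst hp2
  refine ⟨rfl, ?_⟩
  obtain ⟨A, hAn, hAc, hCA⟩ := Cfsg.Agent.Helper23.exists_normal_abelian_centralizer_le hP
  have hAcyc := hn A hAn hAc
  obtain ⟨a, ha⟩ := (Subgroup.isCyclic_iff_exists_zpowers_eq_top A).mp hAcyc
  have hAn' : (Subgroup.zpowers a).Normal := ha ▸ hAn
  have hcent : ∀ g : P, g * a = a * g → g ∈ Subgroup.zpowers a := by
    intro g hg
    rw [ha]
    apply hCA
    rw [Subgroup.mem_centralizer_iff]
    intro c hc
    rw [SetLike.mem_coe, ← ha] at hc
    obtain ⟨t, rfl⟩ := Subgroup.mem_zpowers_iff.mp hc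
    exact ((show Commute g a from hg).zpow_right t).eq.symm
  obtain ⟨k, hk⟩ := IsPGroup.iff_card.mp (hP.to_subgroup A)
  have hord : orderOf a = 2 ^ k := by rw [← Nat.card_zpowers, ha, hk]
  have hAtop : A ≠ ⊤ := by
    intro h
    apply hnc
    have e : A ≃* P := h ▸ Subgroup.topEquiv
    exact isCyclic_of_surjective e e.surjective
  obtain ⟨x, hxA⟩ : ∃ x : P, x ∉ A := by
    by_contra hcon
    exact hAtop (eq_top_iff.mpr fun x _ => by_contra fun hx => hcon ⟨x, hx⟩)
  have hxa : x ∉ Subgroup.zpowers a := by rwa [ha]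
  have hnormg : ∀ g : P, g * a * g⁻¹ ∈ Subgroup.zpowers a := fun g =>
    hAn'.conj_mem a (Subgroup.mem_zpowers a) g
  have hncg : ∀ g : P, g ∉ Subgroup.zpowers a → g * a * g⁻¹ ≠ a := by
    intro g hg h
    apply hg
    apply hcent
    calc g * a = (g * a * g⁻¹) * g := by group
      _ = a * g := by rw [h]
  -- `|A| ≥ 4`
  have hk2 : 2 ≤ k := by
    by_contra hk2
    have hk01 : k = 0 ∨ k = 1 := by omega
    obtain ⟨v, hv⟩ := Subgroup.mem_zpowers_iff.mp (hnormg x)
    rcases hk01 with rfl | rfl
    · rw [pow_zero, orderOf_eq_one_iff] at hord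
      apply hncg x hxa
      rw [hord]; group
    · have haa : a * a = 1 := by rw [← pow_two, ← pow_one 2, ← hord, pow_orderOf_eq_one]
      have ha1 : a ≠ 1 := by
        intro h
        rw [h, orderOf_one] at hord
        norm_num at hord
      rcases zpow_of_mul_self_eq_one haa v with h | h
      · rw [h] at hv
        apply ha1
        calc a = x⁻¹ * (x * a * x⁻¹) * x := by group
          _ = 1 := by rw [← hv]; group
      · rw [h] at hv
        exact hncg x hxa hv.symm
  obtain ⟨m, rfl⟩ : ∃ m, k = m + 1 := ⟨k - 1, by omega⟩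
  have hm1 : 1 ≤ m := by omega
  set z : P := a ^ 2 ^ m with hz
  have hz1 : z ≠ 1 := by
    intro h
    have h1 : orderOf a ∣ 2 ^ m := orderOf_dvd_of_pow_eq_one h
    rw [hord] at h1
    have := Nat.le_of_dvd (by positivity) h1
    exact absurd this (not_le.mpr (Nat.pow_lt_pow_right (by norm_num) (Nat.lt_succ_self m)))
  -- exponents of outside elements are `≡ 3 mod 4`
  have hthree : ∀ g : P, g ∉ Subgroup.zpowers a → ∀ u : ℤ, g * a * g⁻¹ = a ^ u →
      u ≡ 3 [ZMOD 4] := by
    intro g hg u hu
    have h1 := not_modEq_one_four hn a m hord hAn' hcent hP hm1 g hg u hu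
    have hodd : Odd u := by
      by_contra heven
      rw [Int.not_odd_iff_even] at heven
      obtain ⟨t, ht⟩ := heven
      apply hz1
      have h2 : g * z * g⁻¹ = 1 := by
        rw [hz, ← conj_pow, hu, ht, ← zpow_natCast, ← zpow_mul]
        have : (t + t) * ((2 ^ m : ℕ) : ℤ) = ((2 ^ (m + 1) : ℕ) : ℤ) * t := by
          push_cast; rw [pow_succ]; ring
        rw [this, zpow_mul, zpow_natCast, ← hord, pow_orderOf_eq_one, one_zpow]
      calc z = g⁻¹ * (g * z * g⁻¹) * g := by group
        _ = 1 := by rw [h2]; group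
    obtain ⟨t, ht⟩ := hodd
    unfold Int.ModEq at h1 ⊢
    omega
  -- index two
  have hidx : (Subgroup.zpowers a).index = 2 := by
    rw [Subgroup.index_eq_two_iff_exists_notMem_and]
    refine ⟨x, hxa, fun g => ?_⟩
    by_cases hg : g ∈ Subgroup.zpowers a
    · exact Or.inr hg
    · left
      by_contra hgx
      obtain ⟨u, hu⟩ := Subgroup.mem_zpowers_iff.mp (hnormg x)
      obtain ⟨v, hv⟩ := Subgroup.mem_zpowers_iff.mp (hnormg g)
      have hu3 := hthree x hxa u hu.symm
      have hv3 := hthree g hg v hv.symm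
      have h1 : (g * x) * a * (g * x)⁻¹ = a ^ (v * u) := by
        calc (g * x) * a * (g * x)⁻¹ = g * (x * a * x⁻¹) * g⁻¹ := by group
          _ = g * a ^ u * g⁻¹ := by rw [hu]
          _ = a ^ (v * u) := conj_zpow_of_conj g a v u hv.symm
      have h2 := hthree (g * x) hgx (v * u) h1
      have h3 : v * u ≡ 3 * 3 [ZMOD 4] := hv3.mul hu3
      have h4 : ¬ ((3 : ℤ) * 3 ≡ 3 [ZMOD 4]) := by decide
      exact h4 (h3.symm.trans h2)
  have hcard : Nat.card P = 2 ^ (m + 2) := by
    have := Subgroup.card_mul_index (Subgroup.zpowers a)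
    rw [hidx, Nat.card_zpowers, hord] at this
    rw [← this]; ring
  have hx2 : x ^ 2 ∈ Subgroup.zpowers a := Subgroup.sq_mem_of_index_two hidx x
  obtain ⟨j, hc⟩ := structure_of_sq_mem a x m hm1 hord hx2 (hnormg x) (hncg x hxa)
  set b : P := x * a ^ j with hb
  have hbA : b ∉ Subgroup.zpowers a := by
    intro h
    apply hxa
    have : x = b * (a ^ j)⁻¹ := by rw [hb]; group
    rw [this]
    exact (Subgroup.zpowers a).mul_mem h
      ((Subgroup.zpowers a).inv_mem ((Subgroup.zpowers a).zpow_mem (Subgroup.mem_zpowers a) j))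
  have hbconj : b * a * b⁻¹ = x * a * x⁻¹ := conj_mul_zpow x a j
  have hb1 : b ≠ 1 := fun h => hbA (h ▸ one_mem _)
  rcases hc with ⟨hb2, h⟩ | ⟨hb2, h⟩ | ⟨hm2, hb2, h⟩ | ⟨hm2, hb2, h⟩
  · -- dihedral
    have hbb : b * b = 1 := by rw [← pow_two]; exact hb2
    have hbinv : b⁻¹ = b := inv_eq_of_mul_eq_one_right hbb
    by_cases hm2 : 2 ≤ m
    · right; left
      refine ⟨2 ^ (m + 1), ?_, ?_⟩
      · calc 8 = 2 ^ 3 := by norm_num
          _ ≤ 2 ^ (m + 1) := Nat.pow_le_pow_right (by norm_num) (by omega)
      · apply Cfsg.Agent.Helper11.nonempty_mulEquiv_dihedralGroup (2 ^ (m + 1))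
          (by rw [hcard, pow_succ]; ring) a b hord hbb _ hbA
        rw [← h, ← hbconj, hbinv]
    · -- `D₈` has a normal four-group
      exfalso
      have hm1' : m = 1 := by omega
      subst hm1'
      have hz' : z = a ^ 2 := by rw [hz]; norm_num
      have hzz : z * z = 1 := by
        rw [hz', ← pow_add]
        have : a ^ (2 + 2) = a ^ orderOf a := by rw [hord]; norm_num
        rw [this, pow_orderOf_eq_one]
      have hbz : b * z = z * b := by
        have h1 : b * z * b⁻¹ = z := by
          rw [hz', ← conj_pow, hbconj, h, inv_pow]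
          apply inv_eq_of_mul_eq_one_right
          rw [← hz']; exact hzz
        calc b * z = (b * z * b⁻¹) * b := by group
          _ = z * b := by rw [h1]
      set W : Subgroup P := Subgroup.centralizer {b} with hW
      have hbW : b ∈ W := by
        rw [hW, Subgroup.mem_centralizer_iff]
        intro y hy
        rw [Set.mem_singleton_iff] at hy
        rw [hy]
      have hzW : z ∈ W := by
        rw [hW, Subgroup.mem_centralizer_iff]
        intro y hy
        rw [Set.mem_singleton_iff] at hy
        rw [hy]; exact hbz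
      have haW : a ∉ W := by
        intro haW
        rw [hW, Subgroup.mem_centralizer_iff] at haW
        have h1 := haW b rfl
        apply hncg b hbA
        calc b * a * b⁻¹ = a * b * b⁻¹ := by rw [h1]
          _ = a := by group
      have hzb : z ≠ b := by
        intro hzb
        apply hbA
        rw [← hzb, hz']
        exact (Subgroup.zpowers a).pow_mem (Subgroup.mem_zpowers a) 2
      -- `|W| = 4`
      have hWdvd : Nat.card W ∣ 8 := by
        have := Subgroup.card_subgroup_dvd_card W
        rw [hcard] at this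
        exact this
      have hW8 : Nat.card W ≠ 8 := by
        intro h8
        apply haW
        have : W = ⊤ := (Subgroup.card_eq_iff_eq_top W).mp (by rw [h8, hcard]; norm_num)
        rw [this]; trivial
      have hzo : orderOf z = 2 := orderOf_eq_prime (by rw [pow_two, hzz]) hz1
      have h2dvd : 2 ∣ Nat.card W := by
        have := Subgroup.card_dvd_of_le (Subgroup.zpowers_le.mpr hzW)
        rwa [Nat.card_zpowers, hzo] at this
      have hW2 : Nat.card W ≠ 2 := by
        intro h2
        have hle : Subgroup.zpowers z ≤ W := Subgroup.zpowers_le.mpr hzW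
        have : Subgroup.zpowers z = W :=
          Subgroup.eq_of_le_of_card_ge hle (by rw [Nat.card_zpowers, hzo, h2])
        have hbz' : b ∈ Subgroup.zpowers z := this ▸ hbW
        obtain ⟨t, ht⟩ := Subgroup.mem_zpowers_iff.mp hbz'
        rcases zpow_of_mul_self_eq_one hzz t with h' | h'
        · exact hb1 (by rw [← ht, h'])
        · exact hzb (by rw [← ht, h'])
      have hW4 : Nat.card W = 4 := by
        have hmem : Nat.card W ∈ Nat.divisors 8 := Nat.mem_divisors.mpr ⟨hWdvd, by norm_num⟩
        have hdiv : Nat.divisors 8 = {1, 2, 4, 8} := by decide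
        rw [hdiv] at hmem
        simp only [Finset.mem_insert, Finset.mem_singleton] at hmem
        rcases hmem with h' | h' | h' | h'
        · rw [h'] at h2dvd; omega
        · exact absurd h' hW2
        · exact h'
        · exact absurd h' hW8
      have hWidx : W.index = 2 := by
        have := Subgroup.card_mul_index W
        rw [hW4, hcard] at this
        omega
      have hWn : W.Normal := Subgroup.normal_of_index_eq_two hWidx
      have hWc : IsMulCommutative W :=
        IsPGroup.isMulCommutative_of_card_eq_prime_sq (p := 2) (by rw [hW4]; norm_num)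
      exact false_of_two_involutions W (hn W hWn hWc) hzW hbW hzz hbb hz1 hb1 hzb
  · -- quaternion
    left
    refine ⟨2 ^ m, ?_⟩
    have : NeZero (2 ^ m) := ⟨by positivity⟩
    apply Cfsg.Agent.Helper2.QLift.nonempty_mulEquiv_quaternionGroup (2 ^ m)
      (by rw [hcard, pow_succ, pow_succ]; ring) a b (by rw [hord, pow_succ]; ring) _ _ hbA
    · rw [← pow_two]; exact hb2
    · rw [hbconj, h]
  · -- modular: impossible
    exfalso
    have h1 : x * a * x⁻¹ = a ^ (((1 + 2 ^ m : ℕ)) : ℤ) := by rw [zpow_natCast]; exact h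
    have h2 := hthree x hxa _ h1
    have h3 : (((1 + 2 ^ m : ℕ)) : ℤ) ≡ 1 [ZMOD 4] := by
      obtain ⟨m', rfl⟩ : ∃ m', m = m' + 2 := ⟨m - 2, by omega⟩
      push_cast
      apply Int.modEq_iff_dvd.mpr
      refine ⟨-(2 ^ m'), ?_⟩
      rw [pow_add]; ring
    have h4 : ¬ ((1 : ℤ) ≡ 3 [ZMOD 4]) := by decide
    exact h4 (h3.symm.trans h2)
  · -- quasi-dihedral
    right; right
    refine ⟨m + 1, by omega, hcard, a, b, hord, ?_, ?_⟩
    · exact orderOf_eq_prime hb2 hb1
    · rw [hbconj, h]; rfl

end Cfsg.Agent.S0519
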