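import Cfsg.Statements.S0067
import Mathlib
import Cfsg.Agent.Helper1.Wielandt
import Cfsg.Agent.Helper7.Fitting

set_option autoImplicit false
open Pointwise
open Cfsg

namespace Cfsg.Agent.S0067

/-- every subgroup of a finite nilpotent group is subnormal -/
theorem isSubnormal_of_isNilpotent {G : Type*} [Group G] [Finite G] [Group.IsNilpotent G] :
    ∀ (n : ℕ) (H : Subgroup G), Nat.card G - Nat.card H = n → H.IsSubnormal := by
  intro n
  induction n using Nat.strong_induction_on with
  | _ n ih =>
  intro H hn
  by_cases htop : H = ⊤
  · rw [htop]; exact Subgroup.IsSubnormal.top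
  · have hnc := Group.normalizerCondition_of_isNilpotent (G := G)
    have hlt := hnc H (lt_top_iff_ne_top.mpr htop)
    have h1 := Cfsg.Agent.Helper1.card_lt_of_lt' hlt
    have h2 : Nat.card (Subgroup.normalizer (H : Set G)) ≤ Nat.card G :=
      Subgroup.card_le_card_group _
    have hN := ih (Nat.card G - Nat.card (Subgroup.normalizer (H : Set G))) (by omega) _ rfl
    exact Subgroup.IsSubnormal.step H _ Subgroup.le_normalizer hN
      (Subgroup.normal_subgroupOf_of_le_normalizer le_rfl)

/-- If the join of a subgroup A with each of its conjugates is nilpotent, then A is subnormal in the finite group and contained in the Fitting subgroup. -/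
theorem result {G : Type*} [Group G] [Finite G] (A : Subgroup G)
    (h : ∀ g : G, Group.IsNilpotent (A ⊔ MulAut.conj g • A : Subgroup G)) : A.IsSubnormal ∧ A ≤ Cfsg.fittingSubgroup G := by
  have hsub : A.IsSubnormal := by
    apply Cfsg.Agent.Helper1.wielandt_criterion A
    intro g
    have := h g
    exact isSubnormal_of_isNilpotent _ _ rfl
  refine ⟨hsub, ?_⟩
  have hnil : Group.IsNilpotent A := by
    have h1 := h 1
    have e : A ⊔ MulAut.conj (1 : G) • A = A := by simp
    rw [e] at h1
    exact h1
  exact Cfsg.Agent.Helper7.subnormal_nilpotent_le_fittingSubgroup hsub hnil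

end Cfsg.Agent.S0067
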