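import Cfsg.Statements.S1396
import Cfsg.Agent.Lead.TT9

set_option autoImplicit false
open Cfsg

namespace Cfsg.Agent.S1396

/-- Let G be a minimal simple group of odd order, p a prime dividing the order of G and A an abelian p-subgroup. Suppose either (1) A consists exactly of the elements x of C_G(A) with x^p = 1, and every proper subgroup of G has p-length at most one, or (2) A is normal and self-centralizing in some Sylow p-subgroup of G and has rank at least 2. Then A satisfies the transitivity hypothesis. -/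
theorem result {G : Type*} [Group G] [Finite G] (hG : Cfsg.IsMinSimpleOddOrder G)
    (p : ℕ) [Fact p.Prime] (hp : p ∣ Nat.card G) (A : Subgroup G) (hAp : IsPGroup p A) (hAc : IsMulCommutative A)
    (h : (∀ x ∈ Subgroup.centralizer (A : Set G), x ^ p = 1 ↔ x ∈ A) ∧ (∀ H : Subgroup G, H ≠ ⊤ → Cfsg.PLengthLE p 1 H) ∨
      ∃ P : Sylow p G, Cfsg.IsSCN (P : Subgroup G) A ∧ ¬ Cfsg.PRankLE p 1 A) :
    Cfsg.TransitivityHypothesis A := by
  have hpp : p.Prime := Fact.out
  have hp2 : p ≠ 2 := by
    rintro rfl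
    exact (Nat.not_even_iff_odd.mpr hG.1) (even_iff_two_dvd.mpr hp)
  have hAtop : A ≠ ⊤ := by
    rintro rfl
    apply hG.2.2.1
    refine ⟨⟨fun a b => ?_⟩⟩
    have := hAc.is_comm.comm (⟨a, Subgroup.mem_top a⟩ : (⊤ : Subgroup G)) ⟨b, Subgroup.mem_top b⟩
    exact congrArg Subtype.val this
  rcases h with ⟨h1, _⟩ | ⟨P, hscn, hrank⟩
  · have hAbot : A ≠ ⊥ := by
      rintro rfl
      obtain ⟨g, hg⟩ := exists_prime_orderOf_dvd_card' (G := G) p hp
      have hgC : g ∈ Subgroup.centralizer (((⊥ : Subgroup G) : Subgroup G) : Set G) := by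
        rw [Subgroup.mem_centralizer_iff]
        intro x hx
        have hx1 : x = 1 := Subgroup.mem_bot.mp hx
        rw [hx1, one_mul, mul_one]
      have hgp : g ^ p = 1 := by rw [← hg]; exact pow_orderOf_eq_one g
      have := (h1 g hgC).mp hgp
      rw [Subgroup.mem_bot] at this
      rw [this, orderOf_one] at hg
      exact hpp.one_lt.ne hg
    refine Cfsg.Agent.Lead.TT.transitivityHypothesis_of_omega hp2 hG.2.2.2 A hAp hAbot hAtop ?_
    intro x hxC hxo
    exact (h1 x hxC).mp (by rw [← hxo]; exact pow_orderOf_eq_one x)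
  · have hAbot : A ≠ ⊥ := by
      rintro rfl
      apply hrank
      intro B _ _
      have h2 : Nat.card B ≤ Nat.card (⊥ : Subgroup G) := Subgroup.card_le_card_group B
      rw [Subgroup.card_bot] at h2
      have := hpp.one_lt
      rw [pow_one]
      omega
    have hAab : ∀ a ∈ A, ∀ b ∈ A, a * b = b * a := by
      intro a ha b hb
      have := hAc.is_comm.comm (⟨a, ha⟩ : A) ⟨b, hb⟩
      exact congrArg Subtype.val this
    refine Cfsg.Agent.Lead.TT.transitivityHypothesis_of_omega hp2 hG.2.2.2 A hAp hAbot hAtop ?_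
    intro x hxC hxo
    apply Cfsg.Agent.Lead.TT.mem_of_mem_centralizer_of_scn P A hAab hscn.2.1 hscn.2.2 x hxC
    apply IsPGroup.of_card (n := 1)
    rw [Nat.card_zpowers, hxo, pow_one]

end Cfsg.Agent.S1396
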