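import Cfsg.Statements.S1457
import Cfsg.Agent.Helper26.QuadStable2
import Cfsg.Agent.Helper26.PStableQuot
import Cfsg.Agent.Helper7.Signalizer2

set_option autoImplicit false
open Cfsg
open scoped commutatorElement

namespace Cfsg.Agent.S1457

/-- Let G be a solvable group of odd order, p a prime, S a Sylow p-subgroup of G and A an abelian subgroup of S normal in S. Then A ≤ O_{p',p}(G). -/
theorem result {G : Type*} [Group G] [Finite G] [Group.IsSolvable G] (hodd : Odd (Nat.card G)) (p : ℕ) [Fact p.Prime] (S : Sylow p G) (A : Subgroup G) (hA : A ≤ (S : Subgroup G)) (hAc : IsMulCommutative A)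
    (hAn : (S : Subgroup G) ≤ Subgroup.normalizer (A : Set G)) :
    A ≤ Cfsg.pPrimePCore p G := by
  classical
  by_cases hp2 : p = 2
  · -- odd order: the Sylow 2-subgroup is trivial
    subst hp2
    intro a ha
    have haS : a ∈ (S : Subgroup G) := hA ha
    have h1 : Nat.card (S : Subgroup G) = 1 := by
      obtain ⟨n, hn⟩ := (IsPGroup.iff_card.mp S.isPGroup')
      have hdvd : Nat.card (S : Subgroup G) ∣ Nat.card G := Subgroup.card_subgroup_dvd_card _
      rcases Nat.eq_zero_or_pos n with h0 | h0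
      · rw [hn, h0, pow_zero]
      · exfalso
        have h2 : 2 ∣ Nat.card G := (dvd_pow_self 2 h0.ne').trans (hn ▸ hdvd)
        exact (Nat.not_even_iff_odd.mpr hodd) (even_iff_two_dvd.mpr h2)
    have hS : (S : Subgroup G) = ⊥ := Subgroup.card_eq_one.mp h1
    rw [hS, Subgroup.mem_bot] at haS
    rw [haS]
    exact one_mem _
  · set K := Cfsg.pPrimeCore p G with hK
    set π := QuotientGroup.mk' K with hπ
    set B := Cfsg.pCore p (G ⧸ K) with hB
    have hπs : Function.Surjective π := QuotientGroup.mk'_surjective K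
    have hc : Cfsg.IsPConstrained p G :=
      Cfsg.Agent.Helper7.isPConstrained_iff.mpr (Cfsg.Agent.Helper7.pLayer_eq_bot_of_isSolvable p)
    have hcent : Subgroup.centralizer (B : Set (G ⧸ K)) ≤ B :=
      Cfsg.Agent.Helper26.centralizer_pCore_quotient_le_of_isPConstrained hc
    have h2 : Cfsg.Agent.Helper26.Ab2 (G ⧸ K) :=
      (Cfsg.Agent.Helper26.ab2_of_odd hodd).of_surjective π hπs
    have hBp : IsPGroup p B := Cfsg.Agent.Helper14.pCore_isPGroup p
    have hBS : B ≤ ((S.mapSurjective hπs : Sylow p (G ⧸ K)) : Subgroup (G ⧸ K)) :=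
      Cfsg.Agent.Helper14.pCore_le_sylow p _
    intro a ha
    show π a ∈ B
    have hq : ∀ x ∈ B, ⁅⁅x, π a⁆, π a⁆ ∈ (frattini ↥B).map B.subtype := by
      intro x hx
      have hx' := hBS hx
      rw [Sylow.coe_mapSurjective, Subgroup.mem_map] at hx'
      obtain ⟨s, hs, rfl⟩ := hx'
      have h3 : ⁅s, a⁆ ∈ A := by
        have hsn := hAn hs
        rw [Subgroup.mem_normalizer_iff] at hsn
        rw [commutatorElement_def]
        have : s * a * s⁻¹ ∈ A := (hsn a).mp ha
        exact A.mul_mem this (A.inv_mem ha)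
      have h4 : ⁅⁅s, a⁆, a⁆ = 1 := by
        rw [commutatorElement_eq_one_iff_mul_comm]
        have := hAc.is_comm.comm (⟨_, h3⟩ : A) ⟨a, ha⟩
        exact congrArg Subtype.val this
      have h5 : ⁅⁅π s, π a⁆, π a⁆ = 1 := by
        rw [← map_commutatorElement, ← map_commutatorElement, h4, map_one]
      rw [h5]
      exact one_mem _
    obtain ⟨D, hDn, hD1, hD2, hD3⟩ :=
      Cfsg.Agent.Helper26.exists_normal_of_quad_frat' hp2 B hBp h2 (π a) hq
    have hDp : IsPGroup p D := by
      rintro ⟨d, hd⟩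
      obtain ⟨k, hk⟩ := hD2 d hd
      obtain ⟨m, hm⟩ := hBp ⟨d ^ p ^ k, hcent hk⟩
      refine ⟨k + m, ?_⟩
      apply Subtype.ext
      have := congrArg Subtype.val hm
      simp only [SubgroupClass.coe_pow, Subgroup.coe_one] at this ⊢
      rw [pow_add, pow_mul]
      exact this
    exact Cfsg.Agent.Helper14.le_pCore p hDn hDp hD3

end Cfsg.Agent.S1457
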