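import Cfsg.Statements.S1452
import Mathlib
import Cfsg.Agent.Helper1.SCNAbove
import Cfsg.Agent.Helper9.NormalPSq
import Cfsg.Agent.Helper26.Thompson

set_option autoImplicit false
open Cfsg

namespace Cfsg.Agent.S1452

/-- Let p be an odd prime and R a finite p-group containing an elementary abelian subgroup of order p ^ 3. If E is a normal elementary abelian subgroup of R of order p ^ 2, then E ≤ A for some normal subgroup A of R with C_R(A) = A that contains an elementary abelian subgroup of order p ^ 3. -/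
theorem result {R : Type*} [Group R] [Finite R] (p : ℕ) [Fact p.Prime] (hp : p ≠ 2) (hR : IsPGroup p R) (hr : ¬ Cfsg.PRankLE p 2 R)
    (E : Subgroup R) [E.Normal] (hE : Cfsg.IsElementaryAbelian p E) (hE2 : Nat.card E = p ^ 2) :
    ∃ A : Subgroup R, E ≤ A ∧ A.Normal ∧ Subgroup.centralizer (A : Set R) = A ∧ ¬ Cfsg.PRankLE p 2 A := by
  classical
  have hpp : p.Prime := Fact.out
  -- a normal elementary abelian subgroup of order `p ^ 3`
  have hB : ∃ B : Subgroup R, B.Normal ∧ Cfsg.IsElementaryAbelian p B ∧ Nat.card B = p ^ 3 := by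
    by_contra hcon
    apply hr
    intro A hA hAe
    refine Cfsg.Agent.Helper9.card_le_sq_of_no_normal_rank_three hp hR ?_ A hA hAe
    intro A' hA'n hA'c hA'e hcard
    exact hcon ⟨A', hA'n, ⟨hA'c, hA'e⟩, hcard⟩
  obtain ⟨B, hBn, hBe, hBcard⟩ := hB
  obtain ⟨Z0, φ, hZ0, hker⟩ := Cfsg.Agent.Helper9.exists_hom_ker_le_centralizer hR E hE2
  set D : Subgroup R := B ⊓ φ.ker with hD
  have hDn : D.Normal := by rw [hD]; infer_instance
  -- `|D| ≥ p ^ 2`
  have hDcard : p ^ 2 ≤ Nat.card D := by
    set ψ : ↥B →* ↥Z0 := φ.comp B.subtype with hψ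
    have h1 : Nat.card ψ.ker * ψ.ker.index = Nat.card ↥B := Subgroup.card_mul_index ψ.ker
    have h2 : ψ.ker.index = Nat.card ψ.range := Subgroup.index_ker ψ
    have h3 : Nat.card ψ.range ∣ p := by
      rw [← hZ0]; exact Subgroup.card_subgroup_dvd_card ψ.range
    have h4 : Nat.card ψ.ker = Nat.card D := by
      have : D = ψ.ker.map B.subtype := by
        ext x
        constructor
        · intro hx
          obtain ⟨hxB, hxk⟩ := Subgroup.mem_inf.1 hx
          rw [MonoidHom.mem_ker] at hxk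
          refine ⟨⟨x, hxB⟩, ?_, rfl⟩
          rw [SetLike.mem_coe, MonoidHom.mem_ker]
          exact hxk
        · rintro ⟨y, hy, rfl⟩
          refine Subgroup.mem_inf.2 ⟨y.2, ?_⟩
          rw [SetLike.mem_coe, MonoidHom.mem_ker] at hy
          rw [MonoidHom.mem_ker]
          exact hy
      rw [this, Subgroup.card_map_of_injective B.subtype_injective]
    rw [h2, h4, hBcard] at h1
    rcases (Nat.dvd_prime hpp).1 h3 with h5 | h5
    · rw [h5, mul_one] at h1
      rw [h1]
      exact Nat.pow_le_pow_right hpp.pos (by norm_num)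
    · rw [h5] at h1
      have : Nat.card D = p ^ 2 := by
        have hpos : 0 < p := hpp.pos
        have e : p ^ 3 = p ^ 2 * p := by ring
        rw [e] at h1
        exact Nat.eq_of_mul_eq_mul_right hpos h1
      rw [this]
  have hDcomm : ∀ a ∈ E, ∀ d ∈ D, a * d = d * a := by
    intro a ha d hd
    have hdc := hker (Subgroup.mem_inf.1 hd).2
    rw [Subgroup.mem_centralizer_iff] at hdc
    exact hdc a ha
  -- the subgroup `E₁`
  have hE₁ : ∃ E₁ : Subgroup R, E ≤ E₁ ∧ E₁.Normal ∧ Cfsg.IsElementaryAbelian p E₁ ∧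
      p ^ 2 < Nat.card E₁ := by
    by_cases hDE : D ≤ E
    · have hDEeq : D = E := Subgroup.eq_of_le_of_card_ge hDE (by rw [hE2]; exact hDcard)
      refine ⟨B, ?_, hBn, hBe, ?_⟩
      · rw [← hDEeq]; exact inf_le_left
      · rw [hBcard]
        exact Nat.pow_lt_pow_right hpp.one_lt (by norm_num)
    · refine ⟨E ⊔ D, le_sup_left, inferInstance, ?_, ?_⟩
      · exact Cfsg.Agent.Helper26.isElementaryAbelian_sup hE
          (Cfsg.Agent.Helper26.isElementaryAbelian_of_le hBe inf_le_left) hDcomm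
      · by_contra hle
        push Not at hle
        have : E = E ⊔ D := Subgroup.eq_of_le_of_card_ge le_sup_left (by rw [hE2]; exact hle)
        apply hDE
        rw [this]
        exact le_sup_right
  obtain ⟨E₁, hEE₁, hE₁n, hE₁e, hE₁card⟩ := hE₁
  obtain ⟨A, hE₁A, hAn, hAc, hCA⟩ :=
    Cfsg.Agent.Helper1.SCN.exists_normal_abelian_ge_centralizer_le hR E₁ hE₁n hE₁e.1
  refine ⟨A, hEE₁.trans hE₁A, hAn, ?_, ?_⟩
  · apply le_antisymm hCA
    intro a ha
    rw [Subgroup.mem_centralizer_iff]
    intro b hb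
    exact congrArg Subtype.val (hAc.is_comm.comm (⟨b, hb⟩ : A) ⟨a, ha⟩)
  · intro hrank
    have h1 := Cfsg.Agent.Helper26.isElementaryAbelian_subgroupOf A hE₁e
    have h2 := hrank (E₁.subgroupOf A) h1.1 h1.2
    have h3 : Nat.card (E₁.subgroupOf A) = Nat.card E₁ :=
      Nat.card_congr (Subgroup.subgroupOfEquivOfLe hE₁A).toEquiv
    rw [h3] at h2
    exact absurd h2 (not_le.2 hE₁card)

end Cfsg.Agent.S1452
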