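import Mathlib
import Cfsg.Statements.S1455
import Cfsg.Agent.S1450
import Cfsg.Agent.Helper19.NarrowAut
import Cfsg.Agent.Helper19.Cores
import Cfsg.Agent.Helper23.PLengthOne
import Cfsg.Agent.Helper23.PSeries
import Cfsg.Agent.Helper20.SubnCountB
import Cfsg.Agent.Helper14.PCore
import Cfsg.Agent.Helper29.Schmidt2

set_option autoImplicit false
open Cfsg

namespace Cfsg.Agent.S1455

open Subgroup

/-- The `p`-rank of a group is that of its Sylow `p`-subgroups. -/
theorem pRankLE_of_sylow {G : Type*} [Group G] [Finite G] {p k : ℕ} [Fact p.Prime] (S : Sylow p G)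
    (h : Cfsg.PRankLE p k ↥(S : Subgroup G)) : Cfsg.PRankLE p k G := by
  intro A hAc hAe
  have hApg : IsPGroup p ↥A := fun a => ⟨1, by
    rw [pow_one]; apply Subtype.ext; rw [Subgroup.coe_pow]; exact hAe a a.2⟩
  obtain ⟨Q, hAQ⟩ := hApg.exists_le_sylow
  obtain ⟨g, hg⟩ := MulAction.exists_smul_eq G Q S
  have hmem : ∀ a ∈ A, g * a * g⁻¹ ∈ (S : Subgroup G) := by
    intro a ha
    rw [← hg, Sylow.coe_subgroup_smul, Subgroup.mem_pointwise_smul_iff_inv_smul_mem]
    have h1 : (MulAut.conj g)⁻¹ • (g * a * g⁻¹) = a := by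
      rw [MulAut.smul_def, MulAut.inv_apply, MulAut.conj_symm_apply]; group
    rw [h1]
    exact hAQ ha
  let f : ↥A →* ↥(S : Subgroup G) :=
    { toFun := fun a => ⟨g * a * g⁻¹, hmem a a.2⟩
      map_one' := by apply Subtype.ext; simp
      map_mul' := by intro a b; apply Subtype.ext; simp }
  have hf : Function.Injective f := by
    intro a b hab
    have h1 : g * (a : G) * g⁻¹ = g * (b : G) * g⁻¹ := congrArg Subtype.val hab
    apply Subtype.ext
    have h2 : (a : G) = g⁻¹ * (g * (a : G) * g⁻¹) * g := by group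
    rw [h2, h1]; group
  have h1 := h f.range
    ⟨⟨by
      rintro ⟨_, a, rfl⟩ ⟨_, b, rfl⟩
      apply Subtype.ext
      show f a * f b = f b * f a
      rw [← map_mul, ← map_mul]
      congr 1
      exact hAc.is_comm.comm a b⟩⟩
    (by
      rintro _ ⟨a, rfl⟩
      rw [← map_pow]
      have : a ^ p = 1 := by apply Subtype.ext; rw [Subgroup.coe_pow]; exact hAe a a.2
      rw [this, map_one])
  have h2 : Nat.card f.range = Nat.card A :=
    (Nat.card_congr (MonoidHom.ofInjective hf).toEquiv).symm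
  rw [h2] at h1
  exact h1

/-- Let G be a solvable group of odd order, p a prime dividing its order, and S a Sylow p-subgroup of G that is narrow; if S has an elementary abelian subgroup of order p ^ 3 assume also G = O_{p',p,p'}(G). Then every prime dividing the index of O_{p'}(G) is at most p; if p = 3 or p is the smallest prime divisor of #G then G has a normal p-complement; G' has a normal p-complement; every subgroup of G' of order coprime to p lies in O_{p'}(G'); and G' ≤ O_{p',p}(G) with the index of O_{p',p}(G) coprime to p. -/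
theorem result {G : Type*} [Group G] [Finite G] [Group.IsSolvable G] (hodd : Odd (Nat.card G)) (p : ℕ) [Fact p.Prime] (hpG : p ∣ Nat.card G) (S : Sylow p G) (hS : Cfsg.IsNarrow p ↥(S : Subgroup G))
    (hpl : ¬ Cfsg.PRankLE p 2 ↥(S : Subgroup G) → Cfsg.PLengthLE p 1 G) :
    (∀ q : ℕ, q.Prime → q ∣ (Cfsg.pPrimeCore p G).index → q ≤ p) ∧
      ((p = 3 ∨ ∀ q : ℕ, q.Prime → q ∣ Nat.card G → p ≤ q) → Cfsg.HasNormalPComplement p G) ∧
      Cfsg.HasNormalPComplement p ↥(commutator G) ∧
      (∀ L : Subgroup ↥(commutator G), (Nat.card L).Coprime p → L ≤ Cfsg.pPrimeCore p ↥(commutator G)) ∧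
      commutator G ≤ Cfsg.pPrimePCore p G ∧ ((Cfsg.pPrimePCore p G).index).Coprime p := by
  classical
  by_cases hrk : Cfsg.PRankLE p 2 ↥(S : Subgroup G)
  · exact Cfsg.Agent.S1450.result hodd p hpG (pRankLE_of_sylow S hrk)
  have hpl1 := hpl hrk
  have hpp : p.Prime := Fact.out
  have hp2 : p ≠ 2 := by
    rintro rfl
    exact (Nat.not_even_iff_odd.mpr hodd) (even_iff_two_dvd.mpr hpG)
  set N : Subgroup G := Cfsg.pPrimeCore p G with hNdef
  have hNcop : (Nat.card N).Coprime p := Cfsg.Agent.Helper19.pPrimeCore_coprime (G := G) p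
  set Rb : Subgroup (G ⧸ N) := Cfsg.pCore p (G ⧸ N) with hRbdef
  have hRbp : IsPGroup p ↥Rb := Cfsg.Agent.Helper14.pCore_isPGroup p
  have hcent : Subgroup.centralizer (Rb : Set (G ⧸ N)) ≤ Rb :=
    Cfsg.Agent.Helper23.centralizer_pCore_quotient_le p G
  -- the image of `S` is `Rb`
  have hRbidx : (Rb.index).Coprime p := Cfsg.Agent.Helper23.pCore_quotient_index_coprime p G hpl1
  have hSle : (S : Subgroup G).map (QuotientGroup.mk' N) ≤ Rb :=
    Cfsg.Agent.Helper23.le_of_isPGroup_of_index_coprime Rb hRbidx _ (S.2.map _)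
  have hScard : Nat.card ((S : Subgroup G).map (QuotientGroup.mk' N)) = Nat.card (S : Subgroup G) :=
    Cfsg.Agent.Helper20.card_map_mk_of_pgroup N hNcop S S.2
  have hSeq : (S : Subgroup G).map (QuotientGroup.mk' N) = Rb := by
    apply Subgroup.eq_of_le_of_card_ge hSle
    rw [hScard]
    obtain ⟨k, hk⟩ := IsPGroup.iff_card.mp hRbp
    rw [hk, Sylow.card_eq_multiplicity]
    apply Nat.pow_le_pow_right hpp.pos
    have h1 : p ^ k ∣ Nat.card G := by
      rw [← hk]
      have h2 : Nat.card Rb ∣ Nat.card (G ⧸ N) := Subgroup.card_subgroup_dvd_card Rb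
      have h3 : Nat.card (G ⧸ N) ∣ Nat.card G := by
        rw [← Subgroup.index_eq_card]; exact Subgroup.index_dvd_card _
      exact h2.trans h3
    exact (hpp.pow_dvd_iff_le_factorization Nat.card_pos.ne').mp h1
  let φ : ↥(S : Subgroup G) →* G ⧸ N := (QuotientGroup.mk' N).comp (S : Subgroup G).subtype
  have hφinj : Function.Injective φ := by
    intro a b hab
    apply Subtype.ext
    exact Cfsg.Agent.Helper20.injOn_mk_of_pgroup N hNcop S S.2 a.2 b.2 hab
  have hφrange : φ.range = Rb := by
    rw [← hSeq]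
    ext y
    constructor
    · rintro ⟨s, rfl⟩
      exact ⟨s, s.2, rfl⟩
    · rintro ⟨s, hs, rfl⟩
      exact ⟨⟨s, hs⟩, rfl⟩
  have hφnorm : φ.range.Normal := by rw [hφrange]; infer_instance
  -- `commPow` is a `p`-group
  have hCPp : IsPGroup p ↥(Cfsg.Agent.Helper19.NarrowAut.commPow p (G ⧸ N)) := by
    rintro ⟨y, hy⟩
    obtain ⟨a, ha⟩ := Cfsg.Agent.Helper19.NarrowAut.exists_pow_centralizes_of_isNarrow hp2 S.2 hS hrk
      φ hφinj hφnorm y hy
    have h1 : y ^ p ^ a ∈ Subgroup.centralizer (Rb : Set (G ⧸ N)) := by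
      rw [Subgroup.mem_centralizer_iff]
      intro r hr
      have hr' : r ∈ φ.range := by rw [hφrange]; exact hr
      obtain ⟨s, rfl⟩ := hr'
      exact ha s
    obtain ⟨j, hj⟩ := hRbp ⟨_, hcent h1⟩
    refine ⟨a + j, ?_⟩
    apply Subtype.ext
    have h2 := congrArg Subtype.val hj
    simp only [Subgroup.coe_pow, Subgroup.coe_one] at h2 ⊢
    rw [pow_add, pow_mul]
    exact h2
  have hCPle : Cfsg.Agent.Helper19.NarrowAut.commPow p (G ⧸ N) ≤ Rb :=
    Cfsg.Agent.Helper14.le_pCore p inferInstance hCPp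
  have hcommle : commutator (G ⧸ N) ≤ Rb := by
    refine le_trans ?_ hCPle
    rw [_root_.commutator_def, Subgroup.commutator_le]
    intro x _ y _
    exact Subgroup.subset_closure (Or.inl ⟨x, y, rfl⟩)
  have hcommP : IsPGroup p ↥(commutator (G ⧸ N)) := hRbp.to_le hcommle
  -- primes dividing the order of the quotient
  have hprimes : ∀ q : ℕ, q.Prime → q ∣ Nat.card (G ⧸ N) → q = p ∨ q < p := by
    intro q hq hdvd
    by_cases hqp : q = p
    · exact Or.inl hqp
    · right
      haveI : Fact q.Prime := ⟨hq⟩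
      obtain ⟨x, hx⟩ := exists_prime_orderOf_dvd_card' q hdvd
      have h1 : x ^ (p - 1) ∈ Rb :=
        hCPle (Subgroup.subset_closure (Or.inr ⟨x, rfl⟩))
      obtain ⟨j, hj⟩ := hRbp ⟨_, h1⟩
      have h2 : (x ^ (p - 1)) ^ p ^ j = 1 := by simpa using congrArg Subtype.val hj
      have h3 : (x ^ (p - 1)) ^ q = 1 := by
        rw [← pow_mul, mul_comm, pow_mul, ← hx, pow_orderOf_eq_one, one_pow]
      have h4 := pow_gcd_eq_one.mpr ⟨h2, h3⟩
      have h5 : Nat.gcd (p ^ j) q = 1 := by
        apply Nat.Coprime.pow_left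
        exact (Nat.coprime_primes hpp hq).mpr (Ne.symm hqp)
      rw [h5, pow_one] at h4
      have h6 : q ∣ p - 1 := by rw [← hx]; exact orderOf_dvd_of_pow_eq_one h4
      have h7 : 0 < p - 1 := by have := hpp.two_le; omega
      have := Nat.le_of_dvd h7 h6
      omega
  -- the normal `p`-complement of the derived subgroup
  set D : Subgroup G := commutator G with hDdef
  set M : Subgroup ↥D := N.subgroupOf D with hMdef
  have hMn : M.Normal := inferInstance
  have hMcop : (Nat.card M).Coprime p := by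
    have h1 : Nat.card M ∣ Nat.card N := by
      let f : ↥M →* ↥N := (D.subtype.comp M.subtype).codRestrict N (fun m =>
        Subgroup.mem_subgroupOf.mp m.2)
      apply Subgroup.card_dvd_of_injective f
      intro a b hab
      have h2 := congrArg Subtype.val hab
      exact Subtype.ext (Subtype.ext h2)
    exact Nat.Coprime.coprime_dvd_left h1 hNcop
  have hDmem : ∀ d : ↥D, (QuotientGroup.mk' N (d : G)) ∈ commutator (G ⧸ N) := by
    intro d
    have h1 : (commutator G).map (QuotientGroup.mk' N) ≤ commutator (G ⧸ N) := by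
      rw [_root_.commutator_def, _root_.commutator_def, Subgroup.map_commutator]
      exact Subgroup.commutator_mono le_top le_top
    exact h1 ⟨d, d.2, rfl⟩
  have hDMp : IsPGroup p (↥D ⧸ M) := by
    intro x
    induction x using QuotientGroup.induction_on with
    | H d =>
      obtain ⟨k, hk⟩ := hcommP ⟨_, hDmem d⟩
      refine ⟨k, ?_⟩
      rw [← QuotientGroup.mk_pow, QuotientGroup.eq_one_iff]
      have h2 := congrArg Subtype.val hk
      simp only [Subgroup.coe_pow, Subgroup.coe_one] at h2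
      rw [← map_pow] at h2
      have h3 : ((d : G) ^ p ^ k) ∈ N := (QuotientGroup.eq_one_iff _).mp h2
      rw [hMdef, Subgroup.mem_subgroupOf, Subgroup.coe_pow]
      exact h3
  refine ⟨?_, ?_, ?_, ?_, ?_, ?_⟩
  · intro q hq hdvd
    rw [Subgroup.index_eq_card] at hdvd
    rcases hprimes q hq hdvd with h | h
    · exact h.le
    · exact h.le
  · intro hcase
    have hall : ∀ {q : ℕ}, q.Prime → q ∣ Nat.card (G ⧸ N) → q = p := by
      intro q hq hdvd
      rcases hprimes q hq hdvd with h | h
      · exact h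
      · exfalso
        have hdvdG : q ∣ Nat.card G := by
          refine hdvd.trans ?_
          rw [← Subgroup.index_eq_card]; exact Subgroup.index_dvd_card _
        rcases hcase with h3 | hmin
        · have hq2 : q = 2 := by
            have := hq.two_le
            omega
          rw [hq2] at hdvdG
          exact (Nat.not_even_iff_odd.mpr hodd) (even_iff_two_dvd.mpr hdvdG)
        · have := hmin q hq hdvdG
          omega
    have hpow := Nat.eq_prime_pow_of_unique_prime_dvd Nat.card_pos.ne' hall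
    rw [← Subgroup.index_eq_card] at hpow
    exact Cfsg.Agent.S1450.hasNormalPComplement_of_coprime_of_index p N hNcop _ hpow
  · obtain ⟨j, hj⟩ := IsPGroup.iff_card.mp hDMp
    rw [← Subgroup.index_eq_card] at hj
    exact Cfsg.Agent.S1450.hasNormalPComplement_of_coprime_of_index p M hMcop j hj
  · intro L hL
    have hML : M ≤ Cfsg.pPrimeCore p ↥D := le_sSup ⟨hMn, hMcop⟩
    refine le_trans ?_ hML
    intro l hl
    obtain ⟨k, hk⟩ := hDMp (QuotientGroup.mk l)
    have h1 : (QuotientGroup.mk l : ↥D ⧸ M) ^ Nat.card L = 1 := by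
      rw [← QuotientGroup.mk_pow]
      have h2 : (⟨l, hl⟩ : ↥L) ^ Nat.card L = 1 := pow_card_eq_one'
      have h3 := congrArg Subtype.val h2
      simp only [Subgroup.coe_pow, Subgroup.coe_one] at h3
      rw [h3, QuotientGroup.mk_one]
    have h4 : (QuotientGroup.mk l : ↥D ⧸ M) ^ Nat.gcd (p ^ k) (Nat.card L) = 1 :=
      pow_gcd_eq_one.mpr ⟨hk, h1⟩
    have h5 : Nat.gcd (p ^ k) (Nat.card L) = 1 := (Nat.Coprime.pow_right k hL).symm
    rw [h5, pow_one] at h4
    exact (QuotientGroup.eq_one_iff _).mp h4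
  · intro g hg
    show g ∈ (Cfsg.pCore p (G ⧸ N)).comap (QuotientGroup.mk' N)
    rw [Subgroup.mem_comap]
    exact hcommle (hDmem ⟨g, hg⟩)
  · have hidx : (Cfsg.pPrimePCore p G).index = Rb.index := by
      show ((Cfsg.pCore p (G ⧸ N)).comap (QuotientGroup.mk' N)).index = Rb.index
      exact Subgroup.index_comap_of_surjective _ (QuotientGroup.mk'_surjective N)
    rw [hidx]
    obtain ⟨S⟩ : Nonempty (Sylow p (G ⧸ N)) := inferInstance
    have hRS : Rb ≤ (S : Subgroup (G ⧸ N)) := Cfsg.Agent.Helper14.pCore_le_sylow p S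
    have hSn : (S : Subgroup (G ⧸ N)).Normal :=
      Cfsg.Agent.Helper29.normal_of_commutator_le (hcommle.trans hRS)
    have hSR : (S : Subgroup (G ⧸ N)) ≤ Rb := Cfsg.Agent.Helper14.le_pCore p hSn S.2
    have hEq : Rb = (S : Subgroup (G ⧸ N)) := le_antisymm hRS hSR
    rw [hEq]
    exact ((Nat.Prime.coprime_iff_not_dvd hpp).mpr S.not_dvd_index).symm


end Cfsg.Agent.S1455
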