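import Cfsg.Statements.S1458
import Cfsg.Agent.Helper26.ZJe
import Cfsg.Agent.Helper7.Signalizer2

set_option autoImplicit false
open Cfsg

namespace Cfsg.Agent.S1458

/-- Let G be a solvable group of odd order, p a prime and S a Sylow p-subgroup of G. Then the subgroup generated by the centre of the Thompson subgroup of S and O_{p'}(G) is normal in G. -/
theorem result {G : Type*} [Group G] [Finite G] [Group.IsSolvable G] (hodd : Odd (Nat.card G)) (p : ℕ) [Fact p.Prime] (S : Sylow p G) :
    (Cfsg.centerThompsonOf p (S : Subgroup G) ⊔ Cfsg.pPrimeCore p G).Normal := by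
  classical
  by_cases hp2 : p = 2
  · subst hp2
    have h1 : Nat.card (S : Subgroup G) = 1 := by
      obtain ⟨n, hn⟩ := (IsPGroup.iff_card.mp S.isPGroup')
      have hdvd : Nat.card (S : Subgroup G) ∣ Nat.card G := Subgroup.card_subgroup_dvd_card _
      rcases Nat.eq_zero_or_pos n with h0 | h0
      · rw [hn, h0, pow_zero]
      · exfalso
        have h2 : 2 ∣ Nat.card G := (dvd_pow_self 2 h0.ne').trans (hn ▸ hdvd)
        exact (Nat.not_even_iff_odd.mpr hodd) (even_iff_two_dvd.mpr h2)
    have hS : (S : Subgroup G) = ⊥ := Subgroup.card_eq_one.mp h1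
    have hle : Cfsg.centerThompsonOf 2 (S : Subgroup G) ≤ (S : Subgroup G) :=
      inf_le_left.trans ((Cfsg.Agent.Lead.TNC.jFunctor 2).le _)
    rw [hS, le_bot_iff] at hle
    rw [hS, hle, bot_sup_eq]
    exact Cfsg.pPrimeCore_normal 2 G
  · have hc : Cfsg.IsPConstrained p G :=
      Cfsg.Agent.Helper7.isPConstrained_iff.mpr (Cfsg.Agent.Helper7.pLayer_eq_bot_of_isSolvable p)
    exact Cfsg.Agent.Helper26.centerThompsonOf_sup_pPrimeCore_normal hp2
      (Cfsg.Agent.Helper26.ab2_of_odd hodd) hc S

end Cfsg.Agent.S1458
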