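import Cfsg.Statements.S1398
import Cfsg.Agent.Lead.BG9c
import Cfsg.Agent.Lead.GenCent
import Cfsg.Agent.Helper14.PReduced

set_option autoImplicit false
open Cfsg

namespace Cfsg.Agent.S1398

/-- Let G be a minimal simple group of odd order, M a maximal subgroup, p a prime, and B a noncyclic elementary abelian p-subgroup of M. If C_G(b) ≤ M for every non-identity b ∈ B, or if every subgroup of G of order coprime to p normalized by B is contained in M, then M is the only maximal subgroup of G containing B. -/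
theorem result {G : Type*} [Group G] [Finite G] (hG : Cfsg.IsMinSimpleOddOrder G)
    (M : Subgroup G) (hM : IsCoatom M) (p : ℕ) [Fact p.Prime] (B : Subgroup G) (hBM : B ≤ M)
    (hBe : Cfsg.IsElementaryAbelian p B) (hBnc : ¬ IsCyclic B)
    (h : (∀ b ∈ B, b ≠ 1 → Subgroup.centralizer ({b} : Set G) ≤ M) ∨
      ∀ Y ∈ Cfsg.invSubgroups ⊤ B (Cfsg.primesNotDvd p), Y ≤ M) :
    Cfsg.InUniqueMaximal B := by
  have hBp : IsPGroup p B := Cfsg.Agent.Helper14.isPGroup_of_isElementaryAbelian hBe
  have hBne : B ≠ ⊥ := by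
    rintro rfl
    exact hBnc inferInstance
  haveI : IsMulCommutative B := hBe.1
  have hp : p.Prime := Fact.out
  obtain ⟨k, hk⟩ := IsPGroup.iff_card.mp hBp
  have hinv : ∀ Y : Subgroup G, (Nat.card Y).Coprime p →
      B ≤ Subgroup.normalizer (Y : Set G) → Y ≤ M := by
    intro Y hY hBY
    rcases h with h | h
    · have hcop : (Nat.card B).Coprime (Nat.card Y) := by
        rw [hk]
        exact Nat.Coprime.pow_left k hY.symm
      have hgen := Cfsg.Agent.Lead.generated_by_centralizers B Y hBnc hBY hcop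
      rw [← hgen]
      apply iSup₂_le
      intro a ha
      exact inf_le_right.trans (h a ha.1 ha.2)
    · exact h Y ⟨le_top, (Cfsg.Agent.Lead.TT.forall_prime_mem_primesNotDvd_iff p _).mpr hY, hBY⟩
  have hctx : Cfsg.Agent.Lead.BG9.Ctx M B p := ⟨hG, hM, hBM, hBp, hBne, hinv⟩
  exact ⟨M, ⟨hM, hBM⟩, fun L hL => hctx.unique L hL.1 hL.2⟩

end Cfsg.Agent.S1398
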