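import Cfsg.Statements.S0010
import Mathlib

set_option autoImplicit false
open Pointwise
open Cfsg

namespace Cfsg.Agent.S0010

theorem result {G : Type*} [Group G] [Finite G] (p : ℕ) [Fact p.Prime] :
    Cfsg.pCore p G = ⨅ P : Sylow p G, (P : Subgroup G) := by
  apply le_antisymm
  · apply sSup_le
    rintro N ⟨hN, hpN⟩
    apply le_iInf
    intro P
    obtain ⟨Q, hQ⟩ := hpN.exists_le_sylow
    obtain ⟨g, rfl⟩ := MulAction.exists_smul_eq G Q P
    intro x hx
    rw [Sylow.coe_subgroup_smul, Subgroup.mem_pointwise_smul_iff_inv_smul_mem]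
    apply hQ
    have := hN.conj_mem x hx g⁻¹
    simpa [MulAut.smul_def] using this
  · apply le_sSup
    refine ⟨?_, ?_⟩
    · constructor
      intro n hn g
      rw [Subgroup.mem_iInf] at hn ⊢
      intro P
      have := hn (g⁻¹ • P)
      rw [Sylow.coe_subgroup_smul, Subgroup.mem_pointwise_smul_iff_inv_smul_mem] at this
      simpa [MulAut.smul_def] using this
    · obtain ⟨P⟩ : Nonempty (Sylow p G) := inferInstance
      exact P.2.to_le (iInf_le _ P)

end Cfsg.Agent.S0010
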