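import Cfsg.Statements.S1459
import Cfsg.Agent.Lead.CoprimeAbelian
import Cfsg.Agent.Lead.Carter0
import Cfsg.Agent.Helper9.PResidual

set_option autoImplicit false
open Cfsg

namespace Cfsg.Agent.S1459

open scoped commutatorElement

open Subgroup in
theorem comm_normal {G : Type*} [Group G] (H K : Subgroup G) (hHK : H ⊔ K = ⊤) : (⁅H, K⁆).Normal := by
  have hle : ⁅H, K⁆ ≤ H ⊔ K := by rw [hHK]; exact le_top
  have h := (Subgroup.normal_subgroupOf_iff_le_normalizer hle).mp inferInstance
  rw [hHK] at h
  exact Subgroup.normalizer_eq_top_iff.mp (top_le_iff.mp h)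

open Subgroup in
theorem step1 {G : Type*} [Group G] [Finite G] (H K : Subgroup G) [H.Normal]
    (hcop : (Nat.card H).Coprime H.index)
    (hc : Subgroup.IsComplement' H K) (hHG : H ≤ commutator G) (M : Subgroup G) [M.Normal]
    (h1 : ⁅H, K⁆ ≤ M) (h2 : ⁅H, H⁆ ≤ M) : H ≤ M := by
  set φ := QuotientGroup.mk' M with hφ
  have hsurj : Function.Surjective φ := QuotientGroup.mk'_surjective M
  set Hb := H.map φ with hHb
  set Kb := K.map φ with hKb
  have hsup : Hb ⊔ Kb = ⊤ := by
    rw [hHb, hKb, ← Subgroup.map_sup, hc.sup_eq_top, Subgroup.map_top_of_surjective φ hsurj]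
  have hMbot : M.map φ = ⊥ := QuotientGroup.map_mk'_self M
  have hHK : Hb ≤ centralizer (Kb : Set (G ⧸ M)) := by
    rw [← commutator_eq_bot_iff_le_centralizer, hHb, hKb, ← map_commutator, eq_bot_iff, ← hMbot]
    exact Subgroup.map_mono h1
  have hHH : Hb ≤ centralizer (Hb : Set (G ⧸ M)) := by
    rw [← commutator_eq_bot_iff_le_centralizer, hHb, ← map_commutator, eq_bot_iff, ← hMbot]
    exact Subgroup.map_mono h2
  have hcomm : ∀ a ∈ Hb, ∀ b ∈ Hb, a * b = b * a := by
    intro a ha b hb
    exact (mem_centralizer_iff.mp (hHH hb) a ha)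
  haveI : Kb.Normal := by
    rw [← normalizer_eq_top_iff, eq_top_iff, ← hsup]
    exact sup_le (hHK.trans (centralizer_le_normalizer _)) le_normalizer
  have hcQ : commutator (G ⧸ M) ≤ Kb :=
    Cfsg.Agent.Helper9.commutator_le_of_sup_eq_top_of_comm Hb Kb hcomm hsup
  have hHbc : Hb ≤ commutator (G ⧸ M) := by
    calc Hb ≤ (commutator G).map φ := Subgroup.map_mono hHG
      _ ≤ commutator (G ⧸ M) := by
        rw [commutator_def, commutator_def, map_commutator]
        exact commutator_mono le_top le_top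
  have hcard : (Nat.card Hb).Coprime (Nat.card Kb) := by
    have hK : Nat.card K = H.index := (hc.symm.index_eq_card).symm
    have a1 : Nat.card Hb ∣ Nat.card H := Subgroup.card_map_dvd _ φ
    have a2 : Nat.card Kb ∣ H.index := by rw [← hK]; exact Subgroup.card_map_dvd _ φ
    exact Nat.Coprime.coprime_dvd_left a1 (Nat.Coprime.coprime_dvd_right a2 hcop)
  have hinf : Hb ⊓ Kb = ⊥ := (Subgroup.disjoint_of_coprime_natCard hcard).eq_bot
  have hbot : Hb = ⊥ := by
    rw [eq_bot_iff, ← hinf]
    exact le_inf le_rfl (hHbc.trans hcQ)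
  have := (Subgroup.map_eq_bot_iff _).mp hbot
  rwa [QuotientGroup.ker_mk'] at this

open Subgroup in
theorem partA1 {G : Type*} [Group G] [Finite G] [Group.IsSolvable G] (H K : Subgroup G) [H.Normal]
    (hcop : (Nat.card H).Coprime H.index)
    (hc : Subgroup.IsComplement' H K) (hHG : H ≤ commutator G) : H = ⁅H, K⁆ := by
  haveI : (⁅H, K⁆).Normal := comm_normal H K hc.sup_eq_top
  have hs1 : H ≤ ⁅H, K⁆ ⊔ ⁅H, H⁆ :=
    step1 H K hcop hc hHG (⁅H, K⁆ ⊔ ⁅H, H⁆) le_sup_left le_sup_right
  refine le_antisymm ?_ (commutator_le_left H K)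
  set N := ⁅H, K⁆ with hN
  set φ := QuotientGroup.mk' N with hφ
  have hNbot : N.map φ = ⊥ := QuotientGroup.map_mk'_self N
  have hle : H.map φ ≤ ⁅H.map φ, H.map φ⁆ := by
    calc H.map φ ≤ (N ⊔ ⁅H, H⁆).map φ := Subgroup.map_mono hs1
      _ = ⁅H.map φ, H.map φ⁆ := by rw [Subgroup.map_sup, hNbot, bot_sup_eq, map_commutator]
  have hbot : H.map φ = ⊥ := by
    by_contra hne
    exact absurd hle (not_le_of_gt (Group.IsSolvable.commutator_lt_of_ne_bot hne))
  have := (Subgroup.map_eq_bot_iff _).mp hbot
  rwa [QuotientGroup.ker_mk'] at this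

open Subgroup in
theorem partA2 {G : Type*} [Group G] [Finite G] (H K : Subgroup G) [H.Normal]
    (hcop : (Nat.card H).Coprime H.index)
    (hc : Subgroup.IsComplement' H K) (hHK : H = ⁅H, K⁆) :
    H ⊓ Subgroup.centralizer (K : Set G) ≤ ⁅H, H⁆ := by
  set D := ⁅H, H⁆ with hD
  set φ := QuotientGroup.mk' D with hφ
  have hsurj : Function.Surjective φ := QuotientGroup.mk'_surjective D
  set Hb := H.map φ with hHb
  set Kb := K.map φ with hKb
  have hDbot : D.map φ = ⊥ := QuotientGroup.map_mk'_self D
  have hHH : Hb ≤ centralizer (Hb : Set (G ⧸ D)) := by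
    rw [← commutator_eq_bot_iff_le_centralizer, hHb, ← map_commutator, eq_bot_iff, ← hDbot]
  haveI : IsMulCommutative Hb :=
    ⟨⟨fun a b => Subtype.ext (mem_centralizer_iff.mp (hHH b.2) a a.2)⟩⟩
  haveI : Hb.Normal := Subgroup.Normal.map inferInstance φ hsurj
  have hAV : Kb ≤ normalizer (Hb : Set (G ⧸ D)) := by
    rw [normalizer_eq_top]; exact le_top
  have hcard : (Nat.card Kb).Coprime (Nat.card Hb) := by
    have hK : Nat.card K = H.index := (hc.symm.index_eq_card).symm
    have a1 : Nat.card Hb ∣ Nat.card H := Subgroup.card_map_dvd _ φ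
    have a2 : Nat.card Kb ∣ H.index := by rw [← hK]; exact Subgroup.card_map_dvd _ φ
    exact (Nat.Coprime.coprime_dvd_left a1 (Nat.Coprime.coprime_dvd_right a2 hcop)).symm
  have hinf := Cfsg.Agent.Lead.coprime_abelian_inf Kb Hb hAV hcard
  have hcomm : ⁅Hb, Kb⁆ = Hb := by
    rw [hHb, hKb, ← map_commutator, ← hHK]
  rw [hcomm] at hinf
  intro x hx
  have hx1 : φ x ∈ Hb := Subgroup.mem_map_of_mem φ hx.1
  have hx2 : φ x ∈ centralizer (Kb : Set (G ⧸ D)) := by
    rw [mem_centralizer_iff]
    rintro _ ⟨k, hk, rfl⟩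
    have := mem_centralizer_iff.mp hx.2 k hk
    rw [← map_mul, ← map_mul, this]
  have hmem : φ x ∈ (Hb ⊓ centralizer (Kb : Set (G ⧸ D))) ⊓ Hb := ⟨⟨hx1, hx2⟩, hx1⟩
  rw [hinf, mem_bot] at hmem
  have : x ∈ φ.ker := hmem
  rwa [QuotientGroup.ker_mk'] at this

open Subgroup in
/-- If `G / G'` is cyclic then `[G', G] = G'`. -/
theorem gamma_stable {G : Type*} [Group G] (hcyc : IsCyclic (G ⧸ commutator G)) :
    commutator G ≤ ⁅commutator G, (⊤ : Subgroup G)⁆ := by
  set N := commutator G with hN
  set L := ⁅N, (⊤ : Subgroup G)⁆ with hL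
  have hLN : L ≤ N := commutator_le_left N ⊤
  let f : G ⧸ L →* G ⧸ N := QuotientGroup.map L N (MonoidHom.id G) hLN
  have hker : f.ker ≤ center (G ⧸ L) := by
    intro z hz
    obtain ⟨g, rfl⟩ := QuotientGroup.mk_surjective z
    have hgN : g ∈ N := by
      have : ((MonoidHom.id G g : G) : G ⧸ N) = 1 := hz
      exact (QuotientGroup.eq_one_iff _).mp this
    rw [mem_center_iff]
    intro w
    obtain ⟨g', rfl⟩ := QuotientGroup.mk_surjective w
    rw [← QuotientGroup.mk_mul, ← QuotientGroup.mk_mul, QuotientGroup.eq]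
    have h1 : ⁅g, g'⁆ ∈ L := commutator_mem_commutator hgN (mem_top g')
    have h2 : (g' * g)⁻¹ * (g * g') = g⁻¹ * ⁅g, g'⁻¹⁆⁻¹ * g := by
      simp only [commutatorElement_def]; group
    have h3 : ⁅g, g'⁻¹⁆ ∈ L := commutator_mem_commutator hgN (mem_top _)
    rw [h2]
    have := (inferInstance : L.Normal).conj_mem _ (L.inv_mem h3) g⁻¹
    simpa using this
  have hcomm := commutative_of_cyclic_center_quotient f hker
  rw [hN, _root_.commutator_def, commutator_le]
  intro g₁ _ g₂ _
  rw [← QuotientGroup.eq_one_iff, commutatorElement_def, QuotientGroup.mk_mul, QuotientGroup.mk_mul,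
    QuotientGroup.mk_mul, QuotientGroup.mk_inv, QuotientGroup.mk_inv, hcomm (g₁ : G ⧸ L) g₂]
  group

open Subgroup in
theorem commutator_le_of_nilpotent_quotient {G : Type*} [Group G]
    (hcyc : IsCyclic (G ⧸ commutator G)) (M : Subgroup G) [M.Normal]
    [hnil : Group.IsNilpotent (G ⧸ M)] : commutator G ≤ M := by
  have hstab := gamma_stable hcyc
  have hall : ∀ k : ℕ, commutator G ≤ (⊤ : Subgroup G).lowerCentralSeries (k + 1) := by
    intro k
    induction k with
    | zero => exact le_of_eq (_root_.commutator_def G)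
    | succ k ih =>
      calc commutator G ≤ ⁅commutator G, (⊤ : Subgroup G)⁆ := hstab
        _ ≤ ⁅(⊤ : Subgroup G).lowerCentralSeries (k + 1), (⊤ : Subgroup G)⁆ := commutator_mono ih le_rfl
  obtain ⟨n, hn⟩ := Subgroup.nilpotent_iff_lowerCentralSeries.mp hnil
  have h1 : ((⊤ : Subgroup G).lowerCentralSeries (n + 1)).map (QuotientGroup.mk' M) ≤ ⊥ := by
    rw [← hn]
    calc ((⊤ : Subgroup G).lowerCentralSeries (n + 1)).map (QuotientGroup.mk' M)
        ≤ (⊤ : Subgroup (G ⧸ M)).lowerCentralSeries (n + 1) := by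
          rw [map_lowerCentralSeries]
          exact lowerCentralSeries_mono _ le_top
      _ ≤ (⊤ : Subgroup (G ⧸ M)).lowerCentralSeries n := Subgroup.lowerCentralSeries_antitone _ (Nat.le_succ n)
  have h2 : (commutator G).map (QuotientGroup.mk' M) ≤ ⊥ := (Subgroup.map_mono (hall n)).trans h1
  have := (Subgroup.map_eq_bot_iff _).mp (le_bot_iff.mp h2)
  rwa [QuotientGroup.ker_mk'] at this

open Subgroup in
theorem not_dvd_of_pResidual_eq_top {N : Type*} [Group N] [Finite N] [Group.IsNilpotent N]
    {q : ℕ} [Fact q.Prime] (h : Cfsg.pResidual q N = ⊤) : ¬ q ∣ Nat.card N := by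
  obtain ⟨Q⟩ : Nonempty (Sylow q N) := inferInstance
  haveI : (Q : Subgroup N).Normal := inferInstance
  have hcop : (Nat.card (Q : Subgroup N)).Coprime (Q : Subgroup N).index := Q.card_coprime_index
  obtain ⟨K, hK⟩ := Subgroup.exists_right_complement'_of_coprime hcop
  have hKidx : K.index = Nat.card (Q : Subgroup N) := hK.index_eq_card
  have hKcard : Nat.card K = (Q : Subgroup N).index := (hK.symm.index_eq_card).symm
  haveI : K.Normal := Cfsg.Agent.Lead.normal_of_coprime_of_isNilpotent K (by
    rw [hKidx, hKcard]; exact hcop.symm)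
  have hPG : IsPGroup q (N ⧸ K) := by
    obtain ⟨a, ha⟩ := IsPGroup.iff_card.mp Q.isPGroup'
    apply IsPGroup.of_card (n := a)
    rw [← Subgroup.index_eq_card, hKidx, ha]
  have hle := Cfsg.Agent.Helper9.pResidual_le_of_isPGroup_quotient K hPG
  rw [h, top_le_iff] at hle
  have hQ1 : Nat.card (Q : Subgroup N) = 1 := by rw [← hKidx, hle, Subgroup.index_top]
  have hidx : (Q : Subgroup N).index = Nat.card N := by
    have := (Q : Subgroup N).card_mul_index
    rw [hQ1, one_mul] at this
    exact this
  rw [← hidx]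
  exact Q.not_dvd_index

/-- Let G be a finite solvable group. (a) If H is a normal subgroup of order coprime to its index, K is a complement to H, and H ≤ G', then H = [H, K] and H ∩ C_G(K) ≤ [H, H]. (b) If G' is nilpotent and has prime index in G, then the order of G' is coprime to its index and G' = [G, K] (the subgroup generated by commutators of elements of G with elements of K) for every complement K of G'. -/
theorem result {G : Type*} [Group G] [Finite G] [Group.IsSolvable G] :
    (∀ (H K : Subgroup G), H.Normal → (Nat.card H).Coprime H.index → Subgroup.IsComplement' H K → H ≤ commutator G →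
        H = ⁅H, K⁆ ∧ H ⊓ Subgroup.centralizer (K : Set G) ≤ ⁅H, H⁆) ∧
      (Group.IsNilpotent ↥(commutator G) → (commutator G).index.Prime →
        (Nat.card ↥(commutator G)).Coprime (commutator G).index ∧
        ∀ K : Subgroup G, Subgroup.IsComplement' (commutator G) K → commutator G = ⁅(⊤ : Subgroup G), K⁆) := by
  refine ⟨?_, ?_⟩
  · intro H K hHn hcop hc hHG
    haveI := hHn
    have h1 := partA1 H K hcop hc hHG
    exact ⟨h1, partA2 H K hcop hc h1⟩
  · intro hnil hidx
    have hcop : (Nat.card ↥(commutator G)).Coprime (commutator G).index := by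
      set N := commutator G with hN
      set r := N.index with hr
      haveI : Fact r.Prime := ⟨hidx⟩
      have hcyc : IsCyclic (G ⧸ N) := by
        apply isCyclic_of_prime_card (p := r)
        rw [← Subgroup.index_eq_card]
      set R := Cfsg.pResidual r ↥N with hR
      set M := R.map N.subtype with hM
      haveI : M.Normal := by rw [hM]; infer_instance
      have hMN : M ≤ N := Subgroup.map_subtype_le R
      have hPG : IsPGroup r (G ⧸ M) := by
        obtain ⟨a, ha⟩ := IsPGroup.iff_card.mp
          (Cfsg.Agent.Helper9.isPGroup_quotient_pResidual (G := ↥N) r)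
        apply IsPGroup.of_card (n := a + 1)
        rw [← Subgroup.index_eq_card, ← Subgroup.relIndex_mul_index hMN, ← hr]
        have : M.relIndex N = R.index := by
          rw [Subgroup.relIndex, hM]
          congr 1
          exact Subgroup.comap_map_eq_self_of_injective N.subtype_injective R
        rw [this, Subgroup.index_eq_card, ha, pow_succ]
      haveI : Group.IsNilpotent (G ⧸ M) := hPG.isNilpotent
      have hNM : N ≤ M := commutator_le_of_nilpotent_quotient hcyc M
      have hRtop : R = ⊤ := by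
        rw [eq_top_iff]
        intro x _
        obtain ⟨y, hy, hyx⟩ := hNM x.2
        have : y = x := Subtype.ext hyx
        rwa [this] at hy
      have := not_dvd_of_pResidual_eq_top (N := ↥N) (q := r) hRtop
      exact ((Nat.Prime.coprime_iff_not_dvd hidx).mpr this).symm
    refine ⟨hcop, fun K hK => ?_⟩
    have h1 := partA1 (commutator G) K hcop hK le_rfl
    refine le_antisymm ?_ ?_
    · calc commutator G ≤ ⁅commutator G, K⁆ := h1.le
        _ ≤ ⁅(⊤ : Subgroup G), K⁆ := Subgroup.commutator_mono le_top le_rfl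
    · rw [_root_.commutator_def]; exact Subgroup.commutator_mono le_rfl le_top

end Cfsg.Agent.S1459
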