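import Cfsg.Statements.S1460
import Mathlib
import Cfsg.Agent.Lead.Coprime

set_option autoImplicit false
open Cfsg

namespace Cfsg.Agent.S1460

open scoped Pointwise


/-- Let G be a finite solvable group, K a normal subgroup and U a subgroup with G = KU, and H ≤ U a subgroup whose order is coprime to that of K. Then H ∩ G' = H ∩ U'; N_G(H) is generated by K ∩ C_G(H) and U ∩ N_G(H); and if gHg⁻¹ ≤ U for some g ∈ G then g = u c with u ∈ U and c ∈ K ∩ C_G(H). -/
theorem result {G : Type*} [Group G] [Finite G] [Group.IsSolvable G] (K U H : Subgroup G) [K.Normal] (hKU : K ⊔ U = ⊤) (hH : H ≤ U) (hcop : (Nat.card H).Coprime (Nat.card K)) :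
    H ⊓ commutator G = H ⊓ ⁅U, U⁆ ∧
      Subgroup.normalizer (H : Set G) = (K ⊓ Subgroup.centralizer (H : Set G)) ⊔ (U ⊓ Subgroup.normalizer (H : Set G)) ∧
      ∀ g : G, H.map (MulAut.conj g).toMonoidHom ≤ U → ∃ u ∈ U, ∃ c ∈ K ⊓ Subgroup.centralizer (H : Set G), g = u * c := by
  have hKH : K ⊓ H = ⊥ := (Subgroup.disjoint_of_coprime_natCard hcop.symm).eq_bot
  -- part 3 as a standalone fact
  have h3 : ∀ g : G, H.map (MulAut.conj g).toMonoidHom ≤ U →
      ∃ u ∈ U, ∃ c ∈ K ⊓ Subgroup.centralizer (H : Set G), g = u * c := by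
    intro g hg
    have hgtop : g ∈ ((U ⊔ K : Subgroup G) : Set G) := by
      rw [sup_comm, hKU]; trivial
    rw [Subgroup.mul_normal U K] at hgtop
    obtain ⟨u, hu, k, hk, hguk⟩ := hgtop
    have hguk' : u * k = g := hguk
    -- k H k⁻¹ ≤ U
    have hkH : ∀ h ∈ H, k * h * k⁻¹ ∈ U := by
      intro h hh
      have h1 : g * h * g⁻¹ ∈ U := hg ⟨h, hh, by simp [MulAut.conj_apply]⟩
      have h2 : k * h * k⁻¹ = u⁻¹ * (g * h * g⁻¹) * u := by rw [← hguk']; group
      rw [h2]
      exact U.mul_mem (U.mul_mem (U.inv_mem hu) h1) hu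
    set B : Subgroup G := MulAut.conj k • H with hB
    have hBcard : Nat.card B = Nat.card H := Cfsg.Agent.Lead.card_conj_smul k H
    have hHnorm : H ≤ Subgroup.normalizer ((K ⊓ U : Subgroup G) : Set G) := by
      intro h hh
      rw [Subgroup.mem_normalizer_iff]
      intro x
      have hhU : h ∈ U := hH hh
      constructor
      · rintro ⟨hxK, hxU⟩
        exact ⟨(inferInstance : K.Normal).conj_mem x hxK h,
          U.mul_mem (U.mul_mem hhU hxU) (U.inv_mem hhU)⟩
      · rintro ⟨hxK, hxU⟩
        have e : x = h⁻¹ * (h * x * h⁻¹) * h⁻¹⁻¹ := by group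
        refine ⟨?_, ?_⟩
        · rw [e]; exact (inferInstance : K.Normal).conj_mem _ hxK h⁻¹
        · rw [e]; exact U.mul_mem (U.mul_mem (U.inv_mem hhU) hxU) (U.inv_mem (U.inv_mem hhU))
    have hBle : B ≤ (K ⊓ U) ⊔ H := by
      intro x hx
      rw [hB, Cfsg.Agent.Lead.mem_conj_smul_iff] at hx
      -- x = k (k⁻¹ x k) k⁻¹
      set h := k⁻¹ * x * k with hh
      have hx' : x = (k * h * k⁻¹ * h⁻¹) * h := by rw [hh]; group
      rw [hx']
      refine Subgroup.mul_mem _ (Subgroup.mem_sup_left ⟨?_, ?_⟩) (Subgroup.mem_sup_right hx)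
      · have : k * h * k⁻¹ * h⁻¹ = k * (h * k⁻¹ * h⁻¹) := by group
        rw [this]
        exact K.mul_mem hk ((inferInstance : K.Normal).conj_mem _ (K.inv_mem hk) h)
      · exact U.mul_mem (hkH h hx) (U.inv_mem (hH hx))
    have hcop' : (Nat.card H).Coprime (Nat.card (K ⊓ U : Subgroup G)) :=
      Nat.Coprime.coprime_dvd_right (Subgroup.card_dvd_of_le inf_le_left) hcop
    have hsolv : Group.IsSolvable H ∨ Group.IsSolvable (K ⊓ U : Subgroup G) :=
      Or.inl inferInstance
    obtain ⟨v, hv, hvB⟩ := Cfsg.Agent.Lead.sz_conj_rel hHnorm hcop' hsolv hBle hBcard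
    refine ⟨u * v, U.mul_mem hu hv.2, v⁻¹ * k, ⟨K.mul_mem (K.inv_mem hv.1) hk, ?_⟩, ?_⟩
    · show v⁻¹ * k ∈ Subgroup.centralizer (H : Set G)
      rw [Subgroup.mem_centralizer_iff]
      intro h hh
      have hh' : h ∈ H := hh
      -- (v⁻¹ k) h (v⁻¹ k)⁻¹ ∈ H
      have h1 : k * h * k⁻¹ ∈ B := by
        rw [hB, Cfsg.Agent.Lead.mem_conj_smul_iff]
        have : k⁻¹ * (k * h * k⁻¹) * k = h := by group
        rw [this]; exact hh'
      rw [← hvB, Cfsg.Agent.Lead.mem_conj_smul_iff] at h1
      set c := v⁻¹ * k with hc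
      have hcK : c ∈ K := K.mul_mem (K.inv_mem hv.1) hk
      have h2 : c * h * c⁻¹ ∈ H := by
        have : c * h * c⁻¹ = v⁻¹ * (k * h * k⁻¹) * v := by rw [hc]; group
        rw [this]; exact h1
      have h3 : c * h * c⁻¹ * h⁻¹ ∈ K ⊓ H := by
        refine ⟨?_, H.mul_mem h2 (H.inv_mem hh')⟩
        have : c * h * c⁻¹ * h⁻¹ = c * (h * c⁻¹ * h⁻¹) := by group
        rw [this]
        exact K.mul_mem hcK ((inferInstance : K.Normal).conj_mem _ (K.inv_mem hcK) h)
      rw [hKH, Subgroup.mem_bot] at h3
      -- c h c⁻¹ h⁻¹ = 1 → h * c = c * h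
      have h4 : c * h = h * c := by
        have := congrArg (fun t => t * h * c) h3
        beta_reduce at this
        rw [one_mul] at this
        rw [← this]; group
      exact h4.symm
    · rw [← hguk']; group
  refine ⟨?_, ?_, h3⟩
  · -- H ⊓ G' = H ⊓ U'
    apply le_antisymm
    · rintro x ⟨hxH, hxG⟩
      refine ⟨hxH, ?_⟩
      -- G' ≤ U' ⊔ K
      have hle : commutator G ≤ ⁅U, U⁆ ⊔ K := by
        have hπ : Function.Surjective (QuotientGroup.mk' K) := QuotientGroup.mk'_surjective K
        have hUtop : U.map (QuotientGroup.mk' K) = ⊤ := by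
          rw [eq_top_iff]
          rintro y -
          obtain ⟨g, rfl⟩ := hπ y
          have hgtop : g ∈ ((U ⊔ K : Subgroup G) : Set G) := by
            rw [sup_comm, hKU]; trivial
          rw [Subgroup.mul_normal U K] at hgtop
          obtain ⟨u, hu, k, hk, hguk⟩ := hgtop
          have hguk' : u * k = g := hguk
          refine ⟨u, hu, ?_⟩
          rw [← hguk', map_mul]
          have : (QuotientGroup.mk' K) k = 1 := by
            rw [QuotientGroup.mk'_apply, QuotientGroup.eq_one_iff]; exact hk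
          rw [this, mul_one]
        have h1 : (commutator G).map (QuotientGroup.mk' K) = (⁅U, U⁆).map (QuotientGroup.mk' K) := by
          rw [commutator_def, Subgroup.map_commutator, Subgroup.map_commutator, hUtop,
            ← MonoidHom.range_eq_map, MonoidHom.range_eq_top.mpr hπ]
        have h2 : commutator G ≤ ((commutator G).map (QuotientGroup.mk' K)).comap (QuotientGroup.mk' K) :=
          Subgroup.le_comap_map _ _
        rw [h1, Subgroup.comap_map_eq, QuotientGroup.ker_mk'] at h2
        exact h2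
      have hx1 : x ∈ ((⁅U, U⁆ ⊔ K : Subgroup G) : Set G) := hle hxG
      rw [Subgroup.mul_normal] at hx1
      obtain ⟨d, hd, k, hk, hdk⟩ := hx1
      have hdk' : d * k = x := hdk
      have hdU : d ∈ U := Subgroup.commutator_le_self U hd
      have hxU : x ∈ U := hH hxH
      have hkU : k ∈ U := by
        have : k = d⁻¹ * x := by rw [← hdk']; group
        rw [this]; exact U.mul_mem (U.inv_mem hdU) hxU
      -- abelianization of U
      let φ : U →* Abelianization U := Abelianization.of
      have hφd : φ ⟨d, hdU⟩ = 1 := by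
        have : (⟨d, hdU⟩ : U) ∈ commutator U := by
          have hd' : d ∈ (commutator U).map U.subtype := by
            rw [Subgroup.map_subtype_commutator]; exact hd
          obtain ⟨y, hy, hyd⟩ := hd'
          have : y = ⟨d, hdU⟩ := Subtype.ext hyd
          rw [← this]; exact hy
        rw [← Abelianization.ker_of] at this
        exact this
      have hφx : φ ⟨x, hxU⟩ = φ ⟨k, hkU⟩ := by
        have : (⟨x, hxU⟩ : U) = ⟨d, hdU⟩ * ⟨k, hkU⟩ := Subtype.ext hdk'.symm
        rw [this, map_mul, hφd, one_mul]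
      have hx_pow : (φ ⟨x, hxU⟩) ^ (Nat.card H) = 1 := by
        rw [← map_pow]
        have : (⟨x, hxU⟩ : U) ^ (Nat.card H) = 1 := by
          apply Subtype.ext
          rw [Subgroup.coe_pow, Subgroup.coe_one]
          exact orderOf_dvd_iff_pow_eq_one.mp (Subgroup.orderOf_dvd_natCard H hxH)
        rw [this, map_one]
      have hk_pow : (φ ⟨x, hxU⟩) ^ (Nat.card K) = 1 := by
        rw [hφx, ← map_pow]
        have : (⟨k, hkU⟩ : U) ^ (Nat.card K) = 1 := by
          apply Subtype.ext
          rw [Subgroup.coe_pow, Subgroup.coe_one]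
          exact orderOf_dvd_iff_pow_eq_one.mp (Subgroup.orderOf_dvd_natCard K hk)
        rw [this, map_one]
      have hone : φ ⟨x, hxU⟩ = 1 := by
        have := pow_gcd_eq_one.mpr ⟨hx_pow, hk_pow⟩
        rw [hcop, pow_one] at this
        exact this
      have hxc : (⟨x, hxU⟩ : U) ∈ commutator U := by
        rw [← Abelianization.ker_of]; exact hone
      rw [← Subgroup.map_subtype_commutator]
      exact ⟨⟨x, hxU⟩, hxc, rfl⟩
    · refine inf_le_inf_left _ ?_
      rw [commutator_def]
      exact Subgroup.commutator_mono le_top le_top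
  · apply le_antisymm
    · intro g hg
      have hgH : H.map (MulAut.conj g).toMonoidHom ≤ U := by
        rintro y ⟨h, hh, rfl⟩
        have := (Subgroup.mem_normalizer_iff.mp hg h).mp hh
        exact hH this
      obtain ⟨u, hu, c, hc, rfl⟩ := h3 g hgH
      have hcN : c ∈ Subgroup.normalizer (H : Set G) := Subgroup.centralizer_le_normalizer _ hc.2
      have huN : u ∈ Subgroup.normalizer (H : Set G) := by
        have := Subgroup.mul_mem _ hg (Subgroup.inv_mem _ hcN)
        rwa [mul_inv_cancel_right] at this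
      exact Subgroup.mul_mem _ (Subgroup.mem_sup_right ⟨hu, huN⟩) (Subgroup.mem_sup_left hc)
    · exact sup_le (inf_le_right.trans (Subgroup.centralizer_le_normalizer _)) inf_le_right

end Cfsg.Agent.S1460
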