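import Cfsg.Statements.S1461
import Mathlib
import Cfsg.Agent.Helper23.PSeries
import Cfsg.Agent.Lead.Coprime
import Cfsg.Agent.S1460

set_option autoImplicit false
open Cfsg

namespace Cfsg.Agent.S1461

open scoped Pointwise


/-- Let G be a finite solvable group, p a prime with G = O_{p',p,p'}(G), and S a Sylow p-subgroup. Then: if S ≤ G' then S ≤ [N_G(S), N_G(S)]; if Y ⊆ S and xYx⁻¹ ⊆ S then x = g c for some g ∈ N_G(S) and c centralizing Y; and for every p-subgroup Q there is x ∈ C_G(Q ∩ S) with xQx⁻¹ ≤ S. -/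
theorem result {G : Type*} [Group G] [Finite G] [Group.IsSolvable G] (p : ℕ) [Fact p.Prime] (hpl : Cfsg.PLengthLE p 1 G) (S : Sylow p G) :
    ((S : Subgroup G) ≤ commutator G → (S : Subgroup G) ≤ ⁅Subgroup.normalizer ((S : Subgroup G) : Set G), Subgroup.normalizer ((S : Subgroup G) : Set G)⁆) ∧
      (∀ (Y : Set G) (x : G), Y ⊆ (S : Subgroup G) → (fun y => x * y * x⁻¹) '' Y ⊆ (S : Subgroup G) →
        ∃ g ∈ Subgroup.normalizer ((S : Subgroup G) : Set G), ∃ c ∈ Subgroup.centralizer Y, g * c = x) ∧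
      ∀ Q : Subgroup G, IsPGroup p Q → ∃ x ∈ Subgroup.centralizer ((Q ⊓ (S : Subgroup G) : Subgroup G) : Set G), Q.map (MulAut.conj x).toMonoidHom ≤ (S : Subgroup G) := by
  obtain ⟨K, hKn, hKcop, hKN, hQle⟩ :=
    Cfsg.Agent.Helper23.exists_normal_pPrime_of_pLengthLE_one p G hpl S
  set N := Subgroup.normalizer ((S : Subgroup G) : Set G) with hN
  have hSN : (S : Subgroup G) ≤ N := Subgroup.le_normalizer
  -- coprimality for p-subgroups
  have hcopQ : ∀ Q : Subgroup G, IsPGroup p Q → (Nat.card Q).Coprime (Nat.card K) := by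
    intro Q hQ
    obtain ⟨n, hn⟩ := (IsPGroup.iff_card).mp hQ
    rw [hn]
    exact Nat.Coprime.pow_left n hKcop.symm
  refine ⟨?_, ?_, ?_⟩
  · intro hSG
    have h1 := (Cfsg.Agent.S1460.result K N (S : Subgroup G) hKN hSN (hcopQ _ S.isPGroup')).1
    have h2 : (S : Subgroup G) ≤ (S : Subgroup G) ⊓ commutator G := le_inf le_rfl hSG
    rw [h1] at h2
    exact h2.trans inf_le_right
  · intro Y x hY hxY
    set H := Subgroup.closure Y with hH
    have hHS : H ≤ (S : Subgroup G) := (Subgroup.closure_le _).mpr hY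
    have hHp : IsPGroup p H := S.isPGroup'.to_le hHS
    have h3 := (Cfsg.Agent.S1460.result K N H hKN (hHS.trans hSN) (hcopQ _ hHp)).2.2
    have hmap : H.map (MulAut.conj x).toMonoidHom ≤ N := by
      rw [hH, MonoidHom.map_closure, Subgroup.closure_le]
      rintro _ ⟨y, hy, rfl⟩
      apply hSN
      apply hxY
      exact ⟨y, hy, by simp [MulAut.conj_apply]⟩
    obtain ⟨u, hu, c, hc, hx⟩ := h3 x hmap
    refine ⟨u, hu, c, ?_, hx.symm⟩
    exact Subgroup.centralizer_le Subgroup.subset_closure hc.2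
  · intro Q hQ
    have hQKS : Q ≤ K ⊔ (S : Subgroup G) := hQle Q hQ
    set S₁ : Subgroup G := (K ⊔ Q) ⊓ (S : Subgroup G) with hS₁
    have hS₁p : IsPGroup p S₁ := S.isPGroup'.to_le inf_le_right
    have hKQ : K ⊓ Q = ⊥ := (Subgroup.disjoint_of_coprime_natCard (hcopQ Q hQ).symm).eq_bot
    have hKS₁ : K ⊓ S₁ = ⊥ := (Subgroup.disjoint_of_coprime_natCard (hcopQ S₁ hS₁p).symm).eq_bot
    have hsupeq : K ⊔ Q = K ⊔ S₁ := by
      apply le_antisymm
      · refine sup_le le_sup_left ?_
        intro y hy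
        have hy' : y ∈ ((K ⊔ (S : Subgroup G) : Subgroup G) : Set G) := hQKS hy
        rw [Subgroup.normal_mul] at hy'
        obtain ⟨k, hk, s, hs, hks⟩ := hy'
        have hks' : k * s = y := hks
        have hsS₁ : s ∈ S₁ := by
          refine ⟨?_, hs⟩
          have : s = k⁻¹ * y := by rw [← hks']; group
          rw [this]
          exact Subgroup.mul_mem _ (Subgroup.mem_sup_left (K.inv_mem hk)) (Subgroup.mem_sup_right hy)
        rw [← hks']
        exact Subgroup.mul_mem _ (Subgroup.mem_sup_left hk) (Subgroup.mem_sup_right hsS₁)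
      · exact sup_le le_sup_left inf_le_left
    have hcard : Nat.card S₁ = Nat.card Q := by
      have e1 := Cfsg.Agent.Helper17.card_sup_mul_card_inf_of_normal K Q
      have e2 := Cfsg.Agent.Helper17.card_sup_mul_card_inf_of_normal K S₁
      rw [hKQ, Subgroup.card_bot, mul_one] at e1
      rw [hKS₁, Subgroup.card_bot, mul_one, ← hsupeq, e1] at e2
      exact (Nat.eq_of_mul_eq_mul_left Nat.card_pos e2).symm
    have hQnorm : Q ≤ Subgroup.normalizer (K : Set G) := by
      rw [Subgroup.normalizer_eq_top]; exact le_top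
    obtain ⟨k, hk, hkQ⟩ := Cfsg.Agent.Lead.sz_conj_rel hQnorm (hcopQ Q hQ)
      (Or.inl inferInstance) (inf_le_left : S₁ ≤ K ⊔ Q) hcard
    have hkQ' : MulAut.conj k • Q = S₁ := hkQ
    set H := Q ⊓ (S : Subgroup G) with hH
    have hHS : H ≤ (S : Subgroup G) := inf_le_right
    have hHp : IsPGroup p H := S.isPGroup'.to_le hHS
    have h3 := (Cfsg.Agent.S1460.result K N H hKN (hHS.trans hSN) (hcopQ _ hHp)).2.2
    have hmap : H.map (MulAut.conj k).toMonoidHom ≤ N := by
      rintro _ ⟨y, hy, rfl⟩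
      apply hSN
      have : (MulAut.conj k).toMonoidHom y ∈ MulAut.conj k • Q := by
        rw [Cfsg.Agent.Lead.mem_conj_smul_iff]
        have : k⁻¹ * (MulAut.conj k).toMonoidHom y * k = y := by
          simp only [MulEquiv.coe_toMonoidHom, MulAut.conj_apply]; group
        rw [this]; exact hy.1
      rw [hkQ'] at this
      exact this.2
    obtain ⟨u, hu, c, hc, hkuc⟩ := h3 k hmap
    refine ⟨c, hc.2, ?_⟩
    rintro _ ⟨y, hy, rfl⟩
    -- c y c⁻¹ = u⁻¹ (k y k⁻¹) u
    have h1 : k * y * k⁻¹ ∈ S₁ := by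
      rw [← hkQ', Cfsg.Agent.Lead.mem_conj_smul_iff]
      have : k⁻¹ * (k * y * k⁻¹) * k = y := by group
      rw [this]; exact hy
    have h2 : (MulAut.conj c).toMonoidHom y = u⁻¹ * (k * y * k⁻¹) * u⁻¹⁻¹ := by
      have : c = u⁻¹ * k := by rw [hkuc]; group
      simp only [MulEquiv.coe_toMonoidHom, MulAut.conj_apply]
      rw [this]; group
    rw [h2]
    have hu' : u⁻¹ ∈ N := N.inv_mem hu
    exact (Subgroup.mem_normalizer_iff.mp hu' _).mp h1.2

end Cfsg.Agent.S1461
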