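import Cfsg.Statements.S0086
import Mathlib

set_option autoImplicit false
open Cfsg

namespace Cfsg.Agent.S0086

/-- A normal complement to a Sylow p-subgroup is exactly the set of elements of order prime to p. -/
theorem result {G : Type*} [Group G] [Finite G] {p : ℕ} [Fact p.Prime] (P : Sylow p G) (N : Subgroup G) [N.Normal] (hN : N.IsComplement' (P : Subgroup G)) (x : G) : x ∈ N ↔ Nat.Coprime (orderOf x) p := by
  have hp : p.Prime := Fact.out
  have hcardN : Nat.card N = (P : Subgroup G).index := hN.index_eq_card.symm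
  have hNcop : Nat.Coprime (Nat.card N) p := by
    rw [hcardN, Nat.coprime_comm, Nat.Prime.coprime_iff_not_dvd hp]
    exact P.not_dvd_index
  have hindN : N.index = Nat.card (P : Subgroup G) := hN.symm.index_eq_card
  constructor
  · intro hx
    have h1 : orderOf x ∣ Nat.card N := by
      have := orderOf_dvd_natCard (⟨x, hx⟩ : N)
      rwa [Subgroup.orderOf_mk] at this
    exact Nat.Coprime.coprime_dvd_left h1 hNcop
  · intro hx
    obtain ⟨k, hk⟩ := P.2.exists_card_eq
    have h1 : ((x : G ⧸ N)) ^ (orderOf x) = 1 := by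
      rw [← QuotientGroup.mk_pow, pow_orderOf_eq_one]; rfl
    have h2 : ((x : G ⧸ N)) ^ (p ^ k) = 1 := by
      have : Nat.card (G ⧸ N) = p ^ k := by
        rw [← Subgroup.index_eq_card, hindN]; exact hk
      rw [← this]
      exact pow_card_eq_one'
    have h3 : orderOf (x : G ⧸ N) ∣ Nat.gcd (orderOf x) (p ^ k) :=
      Nat.dvd_gcd (orderOf_dvd_of_pow_eq_one h1) (orderOf_dvd_of_pow_eq_one h2)
    have h4 : Nat.gcd (orderOf x) (p ^ k) = 1 := Nat.Coprime.pow_right k hx
    rw [h4, Nat.dvd_one, orderOf_eq_one_iff] at h3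
    exact (QuotientGroup.eq_one_iff x).mp h3

end Cfsg.Agent.S0086
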