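import Mathlib
import Cfsg.Statements.S1453
import Cfsg.Agent.Helper19.Class2
import Cfsg.Agent.Helper26.Thompson
import Cfsg.Agent.Helper9.NormalElemAb
import Cfsg.Agent.S0065

set_option autoImplicit false
open Cfsg

namespace Cfsg.Agent.S1453

open Subgroup Cfsg.Agent.Helper26
open scoped commutatorElement

/-- A normal subgroup of prime order of a finite `p`-group is central. -/
theorem le_center_of_normal_of_card_prime {G : Type*} [Group G] [Finite G] {p : ℕ}
    [hp : Fact p.Prime] (hG : IsPGroup p G) (N : Subgroup G) [N.Normal] (hN : Nat.card N = p) :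
    N ≤ center G := by
  haveI : Group.IsNilpotent G := hG.isNilpotent
  have hne : N ≠ ⊥ := by
    intro h
    rw [h, card_bot] at hN
    exact hp.out.one_lt.ne hN
  have h1 := Cfsg.Agent.S0065.inf_center_ne_bot N hne
  have h2 : Nat.card ↥(N ⊓ center G) ∣ p := hN ▸ card_dvd_of_le inf_le_left
  rcases (Nat.dvd_prime hp.out).mp h2 with h | h
  · exact absurd (card_eq_one.mp h) h1
  · have : N ⊓ center G = N := eq_of_le_of_card_ge inf_le_left (by rw [h, hN])
    rw [← this]; exact inf_le_right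

/-- In a nilpotent group `[U, G] ≠ U` for `U ≠ 1`. -/
theorem commutator_top_ne_self {G : Type*} [Group G] [hG : Group.IsNilpotent G] (U : Subgroup G)
    (hU : U ≠ ⊥) : ⁅U, (⊤ : Subgroup G)⁆ ≠ U := by
  intro h
  obtain ⟨n, hn⟩ := Subgroup.nilpotent_iff_lowerCentralSeries.mp hG
  have key : ∀ k, U ≤ Subgroup.lowerCentralSeries (⊤ : Subgroup G) k := by
    intro k
    induction k with
    | zero => rw [Subgroup.lowerCentralSeries_zero]; exact le_top
    | succ k ih =>
      rw [Subgroup.lowerCentralSeries_succ, ← h]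
      exact commutator_mono ih le_rfl
  apply hU
  rw [eq_bot_iff, ← hn]
  exact key n

/-- A normal subgroup of order `p²` of a finite `p`-group lies in the second centre. -/
theorem le_upperCentralSeries_two {G : Type*} [Group G] [Finite G] {p : ℕ} [hp : Fact p.Prime]
    (hG : IsPGroup p G) (U : Subgroup G) [hUn : U.Normal] (hU : Nat.card U = p ^ 2) :
    U ≤ Subgroup.upperCentralSeries G 2 := by
  haveI : Group.IsNilpotent G := hG.isNilpotent
  have hpp : p.Prime := hp.out
  have hUne : U ≠ ⊥ := by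
    intro h
    rw [h, card_bot] at hU
    have : 1 < p ^ 2 := Nat.one_lt_pow (by norm_num) hpp.one_lt
    omega
  set C : Subgroup G := ⁅U, (⊤ : Subgroup G)⁆ with hC
  have hCU : C ≤ U := commutator_le_left U ⊤
  have hCne : C ≠ U := commutator_top_ne_self U hUne
  have hCn : C.Normal := inferInstance
  have hCcen : C ≤ center G := by
    have hdvd : Nat.card C ∣ p ^ 2 := hU ▸ card_dvd_of_le hCU
    obtain ⟨i, hi, hci⟩ := (Nat.dvd_prime_pow hpp).mp hdvd
    have hi2 : i ≠ 2 := by
      rintro rfl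
      exact hCne (eq_of_le_of_card_ge hCU (by rw [hci, hU]))
    interval_cases i
    · rw [pow_zero] at hci
      rw [card_eq_one.mp hci]; exact bot_le
    · rw [pow_one] at hci
      exact le_center_of_normal_of_card_prime hG C hci
    · exact absurd rfl hi2
  intro u hu
  rw [show (2 : ℕ) = 1 + 1 from rfl, Subgroup.mem_upperCentralSeries_succ_iff]
  intro y
  rw [Subgroup.upperCentralSeries_one]
  exact hCcen (commutator_mem_commutator hu (mem_top y))

/-- If `Z ≤ H`, `|Z| = p`, `|H| = p²` and `x ∈ H ∖ Z` then `H = Z ⊔ ⟨x⟩`. -/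
theorem sup_zpowers_eq {G : Type*} [Group G] [Finite G] {p : ℕ} [hp : Fact p.Prime]
    (Z H : Subgroup G) (hZH : Z ≤ H) (hZ : Nat.card Z = p) (hH : Nat.card H = p ^ 2) (x : G)
    (hxH : x ∈ H) (hxZ : x ∉ Z) : Z ⊔ zpowers x = H := by
  have hpp : p.Prime := hp.out
  have hle : Z ⊔ zpowers x ≤ H := sup_le hZH (zpowers_le.mpr hxH)
  apply eq_of_le_of_card_ge hle
  have hdvd : Nat.card ↥(Z ⊔ zpowers x) ∣ p ^ 2 := hH ▸ card_dvd_of_le hle
  obtain ⟨i, hi, hci⟩ := (Nat.dvd_prime_pow hpp).mp hdvd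
  have hZle : Z ≤ Z ⊔ zpowers x := le_sup_left
  have hne : Nat.card ↥(Z ⊔ zpowers x) ≠ p := by
    intro h
    have : Z = Z ⊔ zpowers x := eq_of_le_of_card_ge hZle (by rw [h, hZ])
    apply hxZ
    rw [this]
    exact (le_sup_right : zpowers x ≤ Z ⊔ zpowers x) (mem_zpowers x)
  have hpd : p ∣ Nat.card ↥(Z ⊔ zpowers x) := hZ ▸ card_dvd_of_le hZle
  interval_cases i
  · rw [pow_zero] at hci
    rw [hci] at hpd
    exact absurd (Nat.le_of_dvd one_pos hpd) (not_le.mpr hpp.one_lt)
  · rw [pow_one] at hci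
    exact absurd hci hne
  · rw [hH, hci]

/-- A homomorphism to a group of order `p` has kernel of index at most `p`. -/
theorem card_le_mul_card_ker {H K : Type*} [Group H] [Group K] [Finite H] [Finite K] {p : ℕ}
    (hK : Nat.card K = p) (f : H →* K) : Nat.card H ≤ p * Nat.card f.ker := by
  have h1 := Subgroup.card_eq_card_quotient_mul_card_subgroup f.ker
  have h2 : Nat.card (H ⧸ f.ker) ≤ p := by
    rw [Nat.card_congr (QuotientGroup.quotientKerEquivRange f).toEquiv, ← hK]
    exact Nat.card_le_card_of_injective _ Subtype.val_injective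
  rw [h1]
  exact Nat.mul_le_mul_right _ h2

/-- Let p be an odd prime and R a finite p-group with an elementary abelian subgroup of order p ^ 3 and an elementary abelian subgroup E of order p ^ 2 contained in no larger elementary abelian subgroup. Let Z₂ be the second centre of R, W the subgroup generated by the elements of Z₂ of order dividing p, and T = C_R(W). Then E is not contained in T; the elements of order dividing p of the centre of R generate a group of order p; W is elementary abelian of order p ^ 2; and T is characteristic in R of index p. -/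
theorem result {R : Type*} [Group R] [Finite R] (p : ℕ) [Fact p.Prime] (hp : p ≠ 2) (hR : IsPGroup p R) (hr : ¬ Cfsg.PRankLE p 2 R)
    (E : Subgroup R) (hE : Cfsg.IsElementaryAbelian p E) (hE2 : Nat.card E = p ^ 2)
    (hEmax : ∀ B : Subgroup R, Cfsg.IsElementaryAbelian p B → E ≤ B → B = E) :
    ¬ E ≤ Subgroup.centralizer ((Subgroup.closure {x : R | x ∈ Subgroup.upperCentralSeries R 2 ∧ x ^ p = 1} : Subgroup R) : Set R) ∧
      Nat.card ↥(Subgroup.closure {x : R | x ∈ Subgroup.center R ∧ x ^ p = 1}) = p ∧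
      (Cfsg.IsElementaryAbelian p (Subgroup.closure {x : R | x ∈ Subgroup.upperCentralSeries R 2 ∧ x ^ p = 1}) ∧
        Nat.card ↥(Subgroup.closure {x : R | x ∈ Subgroup.upperCentralSeries R 2 ∧ x ^ p = 1}) = p ^ 2) ∧
      (Subgroup.centralizer ((Subgroup.closure {x : R | x ∈ Subgroup.upperCentralSeries R 2 ∧ x ^ p = 1} : Subgroup R) : Set R)).Characteristic ∧
      (Subgroup.centralizer ((Subgroup.closure {x : R | x ∈ Subgroup.upperCentralSeries R 2 ∧ x ^ p = 1} : Subgroup R) : Set R)).index = p := by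
  classical
  have hpp : p.Prime := Fact.out
  have hp3 : 2 < p := lt_of_le_of_ne hpp.two_le (Ne.symm hp)
  obtain ⟨m, hm⟩ : p ∣ p.choose 2 := hpp.dvd_choose_self (by norm_num) hp3
  have hEab := (isElementaryAbelian_iff.mp hE).1
  have hEexp := (isElementaryAbelian_iff.mp hE).2
  -- commutators with elements of the second centre are central
  have hZ2 : ∀ x ∈ Subgroup.upperCentralSeries R 2, ∀ r : R, ⁅x, r⁆ ∈ center R := by
    intro x hx r
    rw [show (2 : ℕ) = 1 + 1 from rfl, Subgroup.mem_upperCentralSeries_succ_iff] at hx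
    have := hx r
    rwa [Subgroup.upperCentralSeries_one] at this
  have hcen : ∀ {c : R}, c ∈ center R → ∀ g : R, Commute c g := fun hc g =>
    (mem_center_iff.mp hc g).symm
  -- bilinearity
  have hbilR : ∀ x ∈ Subgroup.upperCentralSeries R 2, ∀ r s : R, ⁅x, r * s⁆ = ⁅x, r⁆ * ⁅x, s⁆ := by
    intro x hx r s
    have h1 : ⁅x, r * s⁆ = ⁅x, r⁆ * (r * ⁅x, s⁆ * r⁻¹) := by
      simp only [commutatorElement_def]; group
    rw [h1, ((hcen (hZ2 x hx s) r).symm).eq, mul_assoc, mul_inv_cancel, mul_one]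
  have hbilL : ∀ x ∈ Subgroup.upperCentralSeries R 2, ∀ y ∈ Subgroup.upperCentralSeries R 2,
      ∀ r : R, ⁅x * y, r⁆ = ⁅x, r⁆ * ⁅y, r⁆ := by
    intro x hx y hy r
    have h1 : ⁅x * y, r⁆ = (x * ⁅y, r⁆ * x⁻¹) * ⁅x, r⁆ := by
      simp only [commutatorElement_def]; group
    have h2 : x * ⁅y, r⁆ * x⁻¹ = ⁅y, r⁆ := by
      rw [((hcen (hZ2 y hy r) x).symm).eq, mul_assoc, mul_inv_cancel, mul_one]
    rw [h1, h2]
    exact ((hcen (hZ2 y hy r) _)).eq
  have hcpow : ∀ x ∈ Subgroup.upperCentralSeries R 2, ∀ r : R, x ^ p = 1 → ⁅x, r⁆ ^ p = 1 := by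
    intro x hx r hxp
    rw [← Cfsg.Agent.Helper19.commutator_pow_left_of_commute_comm r x (hcen (hZ2 x hx r) x) p,
      hxp, commutatorElement_one_left]
  -- the subgroups `W'` and `Z'`
  let W' : Subgroup R :=
    { carrier := {x | x ∈ Subgroup.upperCentralSeries R 2 ∧ x ^ p = 1}
      one_mem' := ⟨one_mem _, one_pow p⟩
      mul_mem' := by
        rintro a b ⟨ha, hap⟩ ⟨hb, hbp⟩
        refine ⟨mul_mem ha hb, ?_⟩
        have hc := hZ2 b hb a
        rw [Cfsg.Agent.Helper19.mul_pow_of_commute_comm a b (hcen hc a) (hcen hc b) p, hap, hbp,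
          hm, pow_mul, hcpow b hb a hbp, one_pow, one_mul, one_mul]
      inv_mem' := by
        rintro a ⟨ha, hap⟩
        exact ⟨inv_mem ha, by rw [inv_pow, hap, inv_one]⟩ }
  let Z' : Subgroup R :=
    { carrier := {x | x ∈ center R ∧ x ^ p = 1}
      one_mem' := ⟨one_mem _, one_pow p⟩
      mul_mem' := by
        rintro a b ⟨ha, hap⟩ ⟨hb, hbp⟩
        refine ⟨mul_mem ha hb, ?_⟩
        rw [(hcen ha b).mul_pow, hap, hbp, one_mul]
      inv_mem' := by
        rintro a ⟨ha, hap⟩
        exact ⟨inv_mem ha, by rw [inv_pow, hap, inv_one]⟩ }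
  have hWcl : Subgroup.closure {x : R | x ∈ Subgroup.upperCentralSeries R 2 ∧ x ^ p = 1} = W' :=
    Subgroup.closure_eq W'
  have hZcl : Subgroup.closure {x : R | x ∈ Subgroup.center R ∧ x ^ p = 1} = Z' :=
    Subgroup.closure_eq Z'
  rw [hWcl, hZcl]
  have hW'mem : ∀ x, x ∈ W' ↔ x ∈ Subgroup.upperCentralSeries R 2 ∧ x ^ p = 1 := fun x => Iff.rfl
  have hZ'mem : ∀ x, x ∈ Z' ↔ x ∈ center R ∧ x ^ p = 1 := fun x => Iff.rfl
  have hZ'W' : Z' ≤ W' := by
    intro x hx
    refine ⟨?_, hx.2⟩
    have h1 : center R ≤ Subgroup.upperCentralSeries R 2 := by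
      rw [← Subgroup.upperCentralSeries_one]
      exact Subgroup.upperCentralSeries_mono R (by norm_num)
    exact h1 hx.1
  -- maximality of `E`
  have hmaxmem : ∀ x : R, x ^ p = 1 → (∀ e ∈ E, x * e = e * x) → x ∈ E := by
    intro x hxp hxc
    have h1 : IsElementaryAbelian p (E ⊔ zpowers x) := by
      apply isElementaryAbelian_sup hE (isElementaryAbelian_zpowers_of_orderOf_eq hxp)
      rintro a ha _ ⟨i, rfl⟩
      have hc : Commute a x := (hxc a ha).symm
      exact (hc.zpow_right i).eq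
    have h2 := hEmax _ h1 le_sup_left
    rw [← h2]
    exact (le_sup_right : zpowers x ≤ E ⊔ zpowers x) (mem_zpowers x)
  have hZ'E : Z' ≤ E := fun z hz => hmaxmem z hz.2 (fun e _ => (hcen hz.1 e).eq)
  -- an elementary abelian subgroup of order bigger than `p²`
  unfold Cfsg.PRankLE at hr
  push Not at hr
  obtain ⟨B, hBc, hBe, hBcard⟩ := hr
  have hBab : ∀ a ∈ B, ∀ b ∈ B, a * b = b * a := by
    intro a ha b hb
    have := hBc.is_comm.comm (⟨a, ha⟩ : ↥B) ⟨b, hb⟩
    exact congrArg Subtype.val this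
  have hBEA : IsElementaryAbelian p B := isElementaryAbelian_iff.mpr ⟨hBab, hBe⟩
  -- `|Z'| = p`
  haveI hnt : Nontrivial R := by
    by_contra h
    rw [not_nontrivial_iff_subsingleton] at h
    have : Nat.card E = 1 := Nat.card_unique
    rw [hE2] at this
    have : 1 < p ^ 2 := Nat.one_lt_pow (by norm_num) hpp.one_lt
    omega
  have hZ'ne : Z' ≠ ⊥ := by
    haveI := hR.center_nontrivial
    have hcp : IsPGroup p ↥(center R) := hR.to_subgroup _
    obtain ⟨k, hk⟩ := IsPGroup.iff_card.mp hcp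
    have hk0 : k ≠ 0 := by
      rintro rfl
      rw [pow_zero] at hk
      have := (Subgroup.card_eq_one.mp hk)
      exact (Subgroup.nontrivial_iff_ne_bot _).mp ‹_› this
    obtain ⟨g, hg⟩ := exists_prime_orderOf_dvd_card' (G := ↥(center R)) p
      (hk ▸ dvd_pow_self p hk0)
    intro h
    have hgZ : (g : R) ∈ Z' := ⟨g.2, by
      have := pow_orderOf_eq_one g
      rw [hg] at this
      have h2 := congrArg Subtype.val this
      simpa using h2⟩
    rw [h, mem_bot] at hgZ
    have : g = 1 := Subtype.ext hgZ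
    rw [this, orderOf_one] at hg
    exact hpp.one_lt.ne hg
  have hZ'card : Nat.card Z' = p := by
    have hdvd : Nat.card Z' ∣ p ^ 2 := hE2 ▸ card_dvd_of_le hZ'E
    obtain ⟨i, hi, hci⟩ := (Nat.dvd_prime_pow hpp).mp hdvd
    interval_cases i
    · rw [pow_zero] at hci
      exact absurd (Subgroup.card_eq_one.mp hci) hZ'ne
    · rw [pow_one] at hci; exact hci
    · exfalso
      have hZE : Z' = E := eq_of_le_of_card_ge hZ'E (by rw [hci, hE2])
      have h1 : IsElementaryAbelian p (E ⊔ B) := by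
        apply isElementaryAbelian_sup hE hBEA
        intro a ha b _
        have haZ : a ∈ Z' := by rw [hZE]; exact ha
        exact (hcen haZ.1 b).eq
      have h2 := hEmax _ h1 le_sup_left
      have h3 : B ≤ E := by rw [← h2]; exact le_sup_right
      have h4 := Subgroup.card_le_of_le h3
      omega
  -- an element of `E` outside `Z'`
  obtain ⟨e₀, he₀E, he₀Z⟩ : ∃ e₀ ∈ E, e₀ ∉ Z' := by
    by_contra hcon
    push Not at hcon
    have hle : E ≤ Z' := hcon
    have h4 := Subgroup.card_le_of_le hle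
    rw [hE2, hZ'card] at h4
    have : p < p ^ 2 := by
      calc p = p ^ 1 := (pow_one p).symm
        _ < p ^ 2 := Nat.pow_lt_pow_right hpp.one_lt (by norm_num)
    omega
  have hEsup : Z' ⊔ zpowers e₀ = E := sup_zpowers_eq Z' E hZ'E hZ'card hE2 e₀ he₀E he₀Z
  have hcommE : ∀ x : R, x * e₀ = e₀ * x → ∀ e ∈ E, x * e = e * x := by
    intro x hx e he
    have hle : E ≤ centralizer ({x} : Set R) := by
      rw [← hEsup]
      apply sup_le
      · intro z hz
        rw [mem_centralizer_iff]
        intro y hy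
        rw [Set.mem_singleton_iff.mp hy]
        exact ((hcen hz.1 x).eq).symm
      · rw [zpowers_le, mem_centralizer_iff]
        intro y hy
        rw [Set.mem_singleton_iff.mp hy]
        exact hx
    have := mem_centralizer_iff.mp (hle he) x rfl
    exact this
  -- `E ≤ W'` is impossible
  have hEW : ¬ E ≤ W' := by
    intro hEW
    have he₀2 : e₀ ∈ Subgroup.upperCentralSeries R 2 := (hEW he₀E).1
    have he₀p : e₀ ^ p = 1 := hEexp e₀ he₀E
    let ψ : R →* ↥Z' := MonoidHom.mk' (fun r => ⟨⁅e₀, r⁆, hZ2 e₀ he₀2 r, hcpow e₀ he₀2 r he₀p⟩)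
      (fun r s => Subtype.ext (hbilR e₀ he₀2 r s))
    let ψB : ↥B →* ↥Z' := ψ.comp B.subtype
    have h1 := card_le_mul_card_ker hZ'card ψB
    set B₁ : Subgroup R := ψB.ker.map B.subtype with hB₁
    have hB₁card : Nat.card B₁ = Nat.card ψB.ker :=
      Subgroup.card_map_of_injective B.subtype_injective
    have hB₁B : B₁ ≤ B := by
      rintro _ ⟨b, -, rfl⟩
      exact b.2
    have hB₁E : B₁ ≤ E := by
      rintro _ ⟨b, hb, rfl⟩
      have h2 : ⁅e₀, (b : R)⁆ = 1 := by
        have := MonoidHom.mem_ker.mp hb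
        exact congrArg Subtype.val this
      rw [commutatorElement_eq_one_iff_mul_comm] at h2
      exact hmaxmem _ (hBe _ b.2) (hcommE _ h2.symm)
    have hdvd : Nat.card B₁ ∣ p ^ 2 := hE2 ▸ card_dvd_of_le hB₁E
    obtain ⟨i, hi, hci⟩ := (Nat.dvd_prime_pow hpp).mp hdvd
    have hi2 : i = 2 := by
      by_contra hne
      have hi1 : i ≤ 1 := by omega
      have h3 : Nat.card B₁ ≤ p := by
        rw [hci]
        calc p ^ i ≤ p ^ 1 := Nat.pow_le_pow_right hpp.pos hi1
          _ = p := pow_one p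
      rw [← hB₁card] at h1
      have h4 : Nat.card B ≤ p * p := le_trans h1 (Nat.mul_le_mul_left _ h3)
      have : p * p = p ^ 2 := by ring
      omega
    subst hi2
    have hB₁eq : B₁ = E := eq_of_le_of_card_ge hB₁E (by rw [hci, hE2])
    have hEB : E ≤ B := hB₁eq ▸ hB₁B
    have h5 := hEmax B hBEA hEB
    rw [h5, hE2] at hBcard
    exact lt_irrefl _ hBcard
  -- `R` is not cyclic
  have hnc : ¬ IsCyclic R := by
    intro hcyc
    obtain ⟨g, hg⟩ := IsCyclic.exists_generator (α := ↥B)
    have h1 : orderOf g = Nat.card B := orderOf_eq_card_of_forall_mem_zpowers hg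
    have h2 : g ^ p = 1 := Subtype.ext (by rw [Subgroup.coe_pow]; exact hBe _ g.2)
    have h3 : orderOf g ≤ p := orderOf_le_of_pow_eq_one hpp.pos h2
    have : p < p ^ 2 := by
      calc p = p ^ 1 := (pow_one p).symm
        _ < p ^ 2 := Nat.pow_lt_pow_right hpp.one_lt (by norm_num)
    omega
  obtain ⟨U, hUn, hUe, hUcard⟩ := Cfsg.Agent.Helper9.exists_normal_elemAb_sq hp hR hnc
  have hUW : U ≤ W' := by
    intro u hu
    exact ⟨le_upperCentralSeries_two hR U hUcard hu, hUe.2 u hu⟩
  -- `|W'| ≤ p²`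
  have hW'card_le : Nat.card W' ≤ p ^ 2 := by
    let δ : ↥W' →* ↥Z' := MonoidHom.mk'
      (fun w => ⟨⁅(w : R), e₀⁆, hZ2 _ w.2.1 e₀, hcpow _ w.2.1 e₀ w.2.2⟩)
      (fun w₁ w₂ => Subtype.ext (hbilL _ w₁.2.1 _ w₂.2.1 e₀))
    have h1 := card_le_mul_card_ker hZ'card δ
    set K₁ : Subgroup R := δ.ker.map W'.subtype with hK₁
    have hK₁card : Nat.card K₁ = Nat.card δ.ker :=
      Subgroup.card_map_of_injective W'.subtype_injective
    have hK₁W : K₁ ≤ W' := by
      rintro _ ⟨w, -, rfl⟩
      exact w.2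
    have hK₁E : K₁ ≤ E := by
      rintro _ ⟨w, hw, rfl⟩
      have h2 : ⁅(w : R), e₀⁆ = 1 := by
        have := MonoidHom.mem_ker.mp hw
        exact congrArg Subtype.val this
      rw [commutatorElement_eq_one_iff_mul_comm] at h2
      exact hmaxmem _ w.2.2 (hcommE _ h2)
    have hdvd : Nat.card K₁ ∣ p ^ 2 := hE2 ▸ card_dvd_of_le hK₁E
    obtain ⟨i, hi, hci⟩ := (Nat.dvd_prime_pow hpp).mp hdvd
    have hi2 : i ≠ 2 := by
      rintro rfl
      have hK₁eq : K₁ = E := eq_of_le_of_card_ge hK₁E (by rw [hci, hE2])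
      exact hEW (hK₁eq ▸ hK₁W)
    have hi1 : i ≤ 1 := by omega
    have h3 : Nat.card K₁ ≤ p := by
      rw [hci]
      calc p ^ i ≤ p ^ 1 := Nat.pow_le_pow_right hpp.pos hi1
        _ = p := pow_one p
    rw [← hK₁card] at h1
    calc Nat.card W' ≤ p * Nat.card K₁ := h1
      _ ≤ p * p := Nat.mul_le_mul_left _ h3
      _ = p ^ 2 := by ring
  have hUeq : U = W' := eq_of_le_of_card_ge hUW (by rw [hUcard]; exact hW'card_le)
  have hW'card : Nat.card W' = p ^ 2 := by rw [← hUeq]; exact hUcard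
  have hW'EA : Cfsg.IsElementaryAbelian p W' := by rw [← hUeq]; exact hUe
  -- `E ≰ C(W')`
  have hEnot : ¬ E ≤ centralizer (W' : Set R) := by
    intro hle
    have hWE : W' ≤ E := by
      intro w hw
      apply hmaxmem w hw.2
      intro e he
      exact mem_centralizer_iff.mp (hle he) w hw
    have hWeq : W' = E := eq_of_le_of_card_ge hWE (by rw [hW'card, hE2])
    exact hEW (hWeq ▸ le_rfl)
  -- an element of `W'` outside `Z'`
  obtain ⟨w₀, hw₀W, hw₀Z⟩ : ∃ w₀ ∈ W', w₀ ∉ Z' := by
    by_contra hcon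
    push Not at hcon
    have hle : W' ≤ Z' := hcon
    have h4 := Subgroup.card_le_of_le hle
    rw [hW'card, hZ'card] at h4
    have : p < p ^ 2 := by
      calc p = p ^ 1 := (pow_one p).symm
        _ < p ^ 2 := Nat.pow_lt_pow_right hpp.one_lt (by norm_num)
    omega
  have hWsup : Z' ⊔ zpowers w₀ = W' := sup_zpowers_eq Z' W' hZ'W' hZ'card hW'card w₀ hw₀W hw₀Z
  let χ : R →* ↥Z' := MonoidHom.mk'
    (fun r => ⟨⁅w₀, r⁆, hZ2 w₀ hw₀W.1 r, hcpow w₀ hw₀W.1 r hw₀W.2⟩)
    (fun r s => Subtype.ext (hbilR w₀ hw₀W.1 r s))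
  have hker : χ.ker = centralizer (W' : Set R) := by
    ext r
    rw [MonoidHom.mem_ker]
    constructor
    · intro h
      have h2 : ⁅w₀, r⁆ = 1 := congrArg Subtype.val h
      rw [commutatorElement_eq_one_iff_mul_comm] at h2
      have hle : W' ≤ centralizer ({r} : Set R) := by
        rw [← hWsup]
        apply sup_le
        · intro z hz
          rw [mem_centralizer_iff]
          intro y hy
          rw [Set.mem_singleton_iff.mp hy]
          exact ((hcen hz.1 r).eq).symm
        · rw [zpowers_le, mem_centralizer_iff]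
          intro y hy
          rw [Set.mem_singleton_iff.mp hy]
          exact h2.symm
      rw [mem_centralizer_iff]
      intro w hw
      exact (mem_centralizer_iff.mp (hle hw) r rfl).symm
    · intro h
      apply Subtype.ext
      show ⁅w₀, r⁆ = 1
      rw [commutatorElement_eq_one_iff_mul_comm]
      exact mem_centralizer_iff.mp h w₀ hw₀W
  have hW'char : W'.Characteristic := by
    rw [characteristic_iff_map_le]
    intro φ x hx
    obtain ⟨y, hy, rfl⟩ := hx
    refine ⟨?_, ?_⟩
    · have h1 := Subgroup.characteristic_iff_map_eq.mp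
        (inferInstance : (Subgroup.upperCentralSeries R 2).Characteristic) φ
      rw [← h1]
      exact ⟨y, hy.1, rfl⟩
    · show (φ y) ^ p = 1
      rw [← map_pow, hy.2, map_one]
  refine ⟨hEnot, hZ'card, ⟨hW'EA, hW'card⟩, inferInstance, ?_⟩
  rw [← hker, Subgroup.index_ker]
  have hdvd : Nat.card χ.range ∣ p := hZ'card ▸ card_subgroup_dvd_card χ.range
  rcases (Nat.dvd_prime hpp).mp hdvd with h | h
  · exfalso
    have h1 : χ.ker.index = 1 := by rw [Subgroup.index_ker]; exact h
    rw [Subgroup.index_eq_one, hker] at h1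
    exact hEnot (h1 ▸ le_top)
  · exact h

end Cfsg.Agent.S1453
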