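import Cfsg.Statements.S1477
import Mathlib
import Cfsg.Agent.Helper23.NilpotentElts
import Cfsg.Agent.Helper23.PGroup
import Cfsg.Agent.Helper3.SysNorm
import Cfsg.Agent.Helper9.PGroup

set_option autoImplicit false
open Cfsg

namespace Cfsg.Agent.S1477

open Subgroup

section

variable {G : Type*} [Group G]

/-- the centralizer of a nontrivial central element of a maximal nilpotent subgroup `H` is `H` -/
theorem centralizer_eq (hCN : Cfsg.IsCNGroup G) (H : Subgroup G)
    (hmax : ∀ L : Subgroup G, Group.IsNilpotent L → H ≤ L → L = H) (t : G) (ht1 : t ≠ 1)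
    (hc : ∀ h ∈ H, h * t = t * h) : centralizer ({t} : Set G) = H := by
  apply hmax _ (hCN t ht1)
  intro h hh
  rw [mem_centralizer_iff]
  intro y hy
  rw [Set.mem_singleton_iff] at hy
  subst hy
  exact (hc h hh).symm

variable [Finite G]

/-- a central element of order `p` in a nilpotent subgroup -/
theorem exists_central (H : Subgroup G) (hH : Group.IsNilpotent H) (p : ℕ) [Fact p.Prime]
    (hp : p ∣ Nat.card H) : ∃ t ∈ H, orderOf t = p ∧ ∀ h ∈ H, h * t = t * h := by
  obtain ⟨t, ht, hto⟩ := Cfsg.Agent.Helper23.exists_mem_center_orderOf_eq (K := H) hp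
  refine ⟨t, t.2, by rw [← hto, Subgroup.orderOf_coe], fun h hh => ?_⟩
  have := (mem_center_iff.mp ht) ⟨h, hh⟩
  exact congrArg Subtype.val this

/-- in a nilpotent subgroup a `p`-element commutes with a `p'`-element -/
theorem commute_in (C : Subgroup G) (hC : Group.IsNilpotent C) (p : ℕ) [Fact p.Prime] (a b : G)
    (ha : a ∈ C) (hb : b ∈ C) (k : ℕ) (hak : orderOf a = p ^ k) (hbp : (orderOf b).Coprime p) :
    a * b = b * a := by
  have h1 : IsPGroup p (zpowers (⟨a, ha⟩ : C)) :=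
    IsPGroup.of_card (n := k) (by rw [Nat.card_zpowers, ← hak, Subgroup.orderOf_mk])
  have h2 : (orderOf (⟨b, hb⟩ : C)).Coprime p := by rw [Subgroup.orderOf_mk]; exact hbp
  have := (Cfsg.Agent.Helper23.commute_of_isNilpotent_of_coprime (⟨a, ha⟩ : C) ⟨b, hb⟩ h1 h2).eq
  exact congrArg Subtype.val this

theorem exists_other_prime {n p : ℕ} (hn : n ≠ 0) (h : ¬ ∃ k, n = p ^ k) :
    ∃ q : ℕ, q.Prime ∧ q ∣ n ∧ q ≠ p := by
  by_contra hcon
  push Not at hcon
  exact h ⟨_, Nat.eq_prime_pow_of_unique_prime_dvd hn (fun {q} hq1 hq2 => hcon q hq1 hq2)⟩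

theorem part1 (hCN : Cfsg.IsCNGroup G) (H : Subgroup G) (hH : Group.IsNilpotent H)
    (hmax : ∀ L : Subgroup G, Group.IsNilpotent L → H ≤ L → L = H) :
    (Nat.card H).Coprime H.index := by
  by_contra hcon
  obtain ⟨p, hp, hpH, hpI⟩ := Nat.Prime.not_coprime_iff_dvd.mp hcon
  have : Fact p.Prime := ⟨hp⟩
  by_cases hHp : IsPGroup p H
  · obtain ⟨S, hS⟩ := hHp.exists_le_sylow
    have : (S : Subgroup G) = H := hmax _ S.isPGroup'.isNilpotent hS
    rw [← this] at hpI
    exact S.not_dvd_index hpI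
  · have hne : ¬ ∃ k, Nat.card H = p ^ k := fun h => hHp (IsPGroup.iff_card.mpr h)
    obtain ⟨q, hq, hqH, hqp⟩ := exists_other_prime Nat.card_pos.ne' hne
    have : Fact q.Prime := ⟨hq⟩
    obtain ⟨t, htH, hto, htc⟩ := exists_central H hH q hqH
    have ht1 : t ≠ 1 := by
      intro h
      rw [h, orderOf_one] at hto
      exact hq.one_lt.ne hto
    have hCt := centralizer_eq hCN H hmax t ht1 htc
    obtain ⟨SH⟩ : Nonempty (Sylow p H) := inferInstance
    set P := (SH : Subgroup H).map H.subtype with hP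
    have hPp : IsPGroup p P := SH.isPGroup'.map _
    have hPH : P ≤ H := map_subtype_le _
    obtain ⟨S, hS⟩ := hPp.exists_le_sylow
    have hPne : P ≠ S := by
      intro h
      have h1 : H.index ∣ P.index := index_dvd_of_le hPH
      rw [h] at h1
      exact S.not_dvd_index (hpI.trans h1)
    have hlt : P < S := lt_of_le_of_ne hS hPne
    obtain ⟨y, hyS, hyP, hyN⟩ :=
      Cfsg.Agent.Helper9.exists_normalizing_not_mem p S P S.isPGroup' hlt
    rw [Cfsg.Agent.Helper9.map_conj_eq_iff_mem_normalizer] at hyN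
    -- a nontrivial element of P centralized by y
    set P₁ := P ⊔ zpowers y with hP₁
    have hP₁S : P₁ ≤ S := sup_le hS (zpowers_le.mpr hyS)
    have hP₁p : IsPGroup p P₁ := S.isPGroup'.to_le hP₁S
    have hP₁N : P₁ ≤ normalizer (P : Set G) := sup_le le_normalizer (zpowers_le.mpr hyN)
    have hNn : (P.subgroupOf P₁).Normal := normal_subgroupOf_of_le_normalizer hP₁N
    have hPbot : P ≠ ⊥ := by
      intro h
      have h1 : (SH : Subgroup H) ≠ ⊥ := SH.ne_bot_of_dvd_card hpH
      apply h1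
      rw [eq_bot_iff]
      intro u hu
      have : (u : G) ∈ P := ⟨u, hu, rfl⟩
      rw [h, mem_bot] at this
      rw [mem_bot]
      exact Subtype.ext this
    have hNne : P.subgroupOf P₁ ≠ ⊥ := by
      intro h
      rw [subgroupOf_eq_bot, disjoint_iff, inf_eq_left.mpr (le_sup_left : P ≤ P₁)] at h
      exact hPbot h
    obtain ⟨b, hbN, hbc, hb1⟩ :=
      Cfsg.Agent.Helper23.exists_mem_inf_center_ne_one hP₁p (P.subgroupOf P₁) hNne
    have hzP : (b : G) ∈ P := hbN
    have hz1 : (b : G) ≠ 1 := fun h => hb1 (Subtype.ext h)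
    have hzy : y * (b : G) = (b : G) * y := by
      have := (mem_center_iff.mp hbc) ⟨y, mem_sup_right (mem_zpowers y)⟩
      exact congrArg Subtype.val this
    have hzH : (b : G) ∈ H := hPH hzP
    have hC : Group.IsNilpotent (centralizer ({(b : G)} : Set G)) := hCN _ hz1
    have hyC : y ∈ centralizer ({(b : G)} : Set G) := by
      rw [mem_centralizer_iff]
      intro w hw
      rw [Set.mem_singleton_iff] at hw
      subst hw
      exact hzy.symm
    have htC : t ∈ centralizer ({(b : G)} : Set G) := by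
      rw [mem_centralizer_iff]
      intro w hw
      rw [Set.mem_singleton_iff] at hw
      subst hw
      exact htc _ hzH
    obtain ⟨k, hk⟩ := (IsPGroup.iff_orderOf.mp S.isPGroup') ⟨y, hyS⟩
    rw [Subgroup.orderOf_mk] at hk
    have htp : (orderOf t).Coprime p := by
      rw [hto]; exact (Nat.coprime_primes hq hp).mpr hqp
    have hyt : y * t = t * y := commute_in _ hC p y t hyC htC k hk htp
    have hyH : y ∈ H := by
      rw [← hCt, mem_centralizer_iff]
      intro w hw
      rw [Set.mem_singleton_iff] at hw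
      subst hw
      exact hyt.symm
    -- y ∈ P
    have hSHle : (SH : Subgroup H) ≤ ((S : Subgroup G) ⊓ H).subgroupOf H := by
      intro u hu
      rw [mem_subgroupOf]
      exact ⟨hS ⟨u, hu, rfl⟩, u.2⟩
    have hSHp : IsPGroup p (((S : Subgroup G) ⊓ H).subgroupOf H) :=
      (S.isPGroup'.to_le inf_le_left).comap_subtype
    have heq := SH.is_maximal' hSHp hSHle
    have hySH : (⟨y, hyH⟩ : H) ∈ (SH : Subgroup H) := by
      rw [← heq, mem_subgroupOf]
      exact ⟨hyS, hyH⟩
    exact hyP ⟨⟨y, hyH⟩, hySH, rfl⟩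


theorem part3 (hCN : Cfsg.IsCNGroup G) (H : Subgroup G) (hH : Group.IsNilpotent H)
    (hmax : ∀ L : Subgroup G, Group.IsNilpotent L → H ≤ L → L = H)
    (hcop : (Nat.card H).Coprime H.index)
    (hTI : ∀ g : G, H.map (MulAut.conj g).toMonoidHom ≠ H →
      H ⊓ H.map (MulAut.conj g).toMonoidHom = ⊥) (x : G) (hx : x ∈ H) (hx1 : x ≠ 1) :
    centralizer ({x} : Set G) ≤ H := by
  intro c hc
  have hcx : x * c = c * x := (mem_centralizer_iff.mp hc) x rfl
  have hcN : H.map (MulAut.conj c).toMonoidHom = H := by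
    by_contra hne
    have h1 := hTI c hne
    have hx' : x ∈ H ⊓ H.map (MulAut.conj c).toMonoidHom := by
      refine ⟨hx, x, hx, ?_⟩
      show c * x * c⁻¹ = x
      rw [← hcx]; group
    rw [h1, mem_bot] at hx'
    exact hx1 hx'
  rw [Cfsg.Agent.Helper9.map_conj_eq_iff_mem_normalizer] at hcN
  have hcard1 : Nat.card H ≠ 1 := by
    intro h
    have := (Subgroup.card_eq_one.mp h)
    rw [this, mem_bot] at hx
    exact hx1 hx
  obtain ⟨p, hp, hpH⟩ := Nat.exists_prime_and_dvd hcard1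
  have : Fact p.Prime := ⟨hp⟩
  obtain ⟨z, hzH, hzo, hzc⟩ := exists_central H hH p hpH
  have hz1 : z ≠ 1 := by
    intro h
    rw [h, orderOf_one] at hzo
    exact hp.one_lt.ne hzo
  have hCz := centralizer_eq hCN H hmax z hz1 hzc
  obtain ⟨c₁, c₂, hcc, hc₁, hc₂, ⟨k, hk⟩, hc₂p⟩ := Cfsg.Agent.Helper18.exists_pPart_decomp p c
  have hzC : z ∈ centralizer ({x} : Set G) := by
    rw [mem_centralizer_iff]
    intro w hw
    rw [Set.mem_singleton_iff] at hw
    subst hw
    exact hzc _ hx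
  have hc₂C : c₂ ∈ centralizer ({x} : Set G) := (zpowers_le.mpr hc) hc₂
  have hzc₂ : z * c₂ = c₂ * z :=
    commute_in _ (hCN x hx1) p z c₂ hzC hc₂C 1 (by rw [hzo, pow_one]) hc₂p
  have hc₂H : c₂ ∈ H := by
    rw [← hCz, mem_centralizer_iff]
    intro w hw
    rw [Set.mem_singleton_iff] at hw
    subst hw
    exact hzc₂
  have hc₁N : c₁ ∈ normalizer (H : Set G) := (zpowers_le.mpr hcN) hc₁
  have hpI : (p).Coprime H.index := Nat.Coprime.coprime_dvd_left hpH hcop
  have hc₁H : c₁ ∈ H := by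
    apply Cfsg.Agent.Helper3.mem_of_mem_normalizer_of_coprime_index H c₁ hc₁N
    rw [hk]
    exact Nat.Coprime.pow_left k hpI
  rw [hcc]
  exact H.mul_mem hc₁H hc₂H


theorem isPGroup_zpowers_of_pow_eq_one {K : Type*} [Group K] {q : ℕ} (a : K) (j : ℕ)
    (h : a ^ (q ^ j) = 1) : IsPGroup q (zpowers a) := by
  rintro ⟨_, i, rfl⟩
  refine ⟨j, Subtype.ext ?_⟩
  show (a ^ i) ^ (q ^ j) = 1
  rw [← zpow_natCast, ← zpow_mul, mul_comm, zpow_mul, zpow_natCast, h, one_zpow]

omit [Finite G] in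
theorem conj_comm {g a b : G} (h : a * b = b * a) :
    g * a * g⁻¹ * (g * b * g⁻¹) = g * b * g⁻¹ * (g * a * g⁻¹) := by
  calc g * a * g⁻¹ * (g * b * g⁻¹) = g * (a * b) * g⁻¹ := by group
    _ = g * (b * a) * g⁻¹ := by rw [h]
    _ = g * b * g⁻¹ * (g * a * g⁻¹) := by group

theorem part2 (hCN : Cfsg.IsCNGroup G) (H : Subgroup G) (hH : Group.IsNilpotent H)
    (hmax : ∀ L : Subgroup G, Group.IsNilpotent L → H ≤ L → L = H)
    (hcop : (Nat.card H).Coprime H.index) (hnpp : ¬ IsPrimePow (Nat.card H))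
    (h1 : Nat.card H ≠ 1) (g : G) (hg : H.map (MulAut.conj g).toMonoidHom ≠ H) :
    H ⊓ H.map (MulAut.conj g).toMonoidHom = ⊥ := by
  by_contra hne
  rw [← Ne, Subgroup.ne_bot_iff_exists_ne_one] at hne
  obtain ⟨⟨x, hxH, hxg⟩, hx1⟩ := hne
  have hx1' : x ≠ 1 := fun h => hx1 (Subtype.ext h)
  have hox : orderOf x ≠ 1 := fun h => hx1' (orderOf_eq_one_iff.mp h)
  obtain ⟨p, hp, hpx⟩ := Nat.exists_prime_and_dvd hox
  have : Fact p.Prime := ⟨hp⟩
  have hx'o : orderOf (x ^ (orderOf x / p)) = p :=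
    orderOf_pow_orderOf_div (orderOf_pos x).ne' hpx
  have hx'H : x ^ (orderOf x / p) ∈ H := H.pow_mem hxH _
  have hx'g : x ^ (orderOf x / p) ∈ H.map (MulAut.conj g).toMonoidHom := (H.map _).pow_mem hxg _
  generalize x ^ (orderOf x / p) = x' at hx'o hx'H hx'g
  have hx'1 : x' ≠ 1 := by
    intro h
    rw [h, orderOf_one] at hx'o
    exact hp.one_lt.ne hx'o
  -- another prime
  have hne' : ¬ ∃ k, Nat.card H = p ^ k := by
    rintro ⟨k, hk⟩
    apply hnpp
    rcases k with _ | k
    · rw [pow_zero] at hk; exact absurd hk h1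
    · rw [hk]; exact hp.isPrimePow.pow (Nat.succ_ne_zero k)
  obtain ⟨q, hq, hqH, hqp⟩ := exists_other_prime Nat.card_pos.ne' hne'
  have : Fact q.Prime := ⟨hq⟩
  obtain ⟨SQ⟩ : Nonempty (Sylow q H) := inferInstance
  set Q := (SQ : Subgroup H).map H.subtype with hQ
  have hQq : IsPGroup q Q := SQ.isPGroup'.map _
  have hQH : Q ≤ H := map_subtype_le _
  have hQcent : ∀ w ∈ H, orderOf w = p → ∀ u ∈ Q, w * u = u * w := by
    intro w hw hwo u hu
    obtain ⟨j, hj⟩ := (IsPGroup.iff_orderOf.mp hQq) ⟨u, hu⟩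
    rw [Subgroup.orderOf_mk] at hj
    have hup : (orderOf u).Coprime p := by
      rw [hj]; exact Nat.Coprime.pow_left j ((Nat.coprime_primes hq hp).mpr hqp)
    exact commute_in H hH p w u hw (hQH hu) 1 (by rw [hwo, pow_one]) hup
  have hCn : Group.IsNilpotent (centralizer ({x'} : Set G)) := hCN x' hx'1
  have hQC : Q ≤ centralizer ({x'} : Set G) := by
    intro u hu
    rw [mem_centralizer_iff]
    intro w hw
    rw [Set.mem_singleton_iff] at hw
    subst hw
    exact hQcent w hx'H hx'o u hu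
  have hQgC : Q.map (MulAut.conj g).toMonoidHom ≤ centralizer ({x'} : Set G) := by
    rintro _ ⟨u, hu, rfl⟩
    obtain ⟨w, hw, hwx⟩ := hx'g
    have hwo : orderOf w = p := by
      rw [← hx'o, ← hwx]
      exact (orderOf_injective _ (MulAut.conj g).injective w).symm
    have hwu := hQcent w hw hwo u hu
    rw [mem_centralizer_iff]
    intro v hv
    rw [Set.mem_singleton_iff] at hv
    subst hv
    rw [← hwx]
    exact conj_comm hwu
  -- the Sylow q-subgroup of the centralizer
  obtain ⟨R⟩ : Nonempty (Sylow q (centralizer ({x'} : Set G))) := inferInstance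
  set RG := (R : Subgroup (centralizer ({x'} : Set G))).map (centralizer ({x'} : Set G)).subtype
    with hRG
  have hRGq : IsPGroup q RG := R.isPGroup'.map _
  have hall : ∀ T : Subgroup G, IsPGroup q T → T ≤ centralizer ({x'} : Set G) → T ≤ RG := by
    intro T hT hTC u hu
    obtain ⟨j, hj⟩ := hT ⟨u, hu⟩
    have hj' : u ^ (q ^ j) = 1 := by
      have := congrArg Subtype.val hj
      simpa using this
    have hpg : IsPGroup q (zpowers (⟨u, hTC hu⟩ : centralizer ({x'} : Set G))) :=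
      isPGroup_zpowers_of_pow_eq_one _ j (Subtype.ext (by simpa using hj'))
    exact ⟨⟨u, hTC hu⟩, Cfsg.Agent.Helper23.mem_sylow_of_isNilpotent R _ hpg, rfl⟩
  have hQRG : Q ≤ RG := hall Q hQq hQC
  have hQgRG : Q.map (MulAut.conj g).toMonoidHom ≤ RG := hall _ (hQq.map _) hQgC
  have hQidx : ¬ q ∣ Q.index := by
    rw [hQ, index_map_subtype]
    intro h
    rcases (Nat.Prime.dvd_mul hq).mp h with h | h
    · exact SQ.not_dvd_index h
    · exact Nat.Prime.not_coprime_iff_dvd.mpr ⟨q, hq, hqH, h⟩ hcop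
  have hRGQ : RG = Q := (hQq.toSylow hQidx).is_maximal' hRGq hQRG
  have hQgQ : Q.map (MulAut.conj g).toMonoidHom = Q := by
    apply Subgroup.eq_of_le_of_card_ge (hRGQ ▸ hQgRG)
    rw [Subgroup.card_map_of_injective (f := (MulAut.conj g).toMonoidHom) (MulAut.conj g).injective]
  -- a central element of order q
  obtain ⟨t, htH, hto, htc⟩ := exists_central H hH q hqH
  have ht1 : t ≠ 1 := by
    intro h
    rw [h, orderOf_one] at hto
    exact hq.one_lt.ne hto
  have htQ : t ∈ Q := by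
    have hpg : IsPGroup q (zpowers (⟨t, htH⟩ : H)) :=
      IsPGroup.of_card (n := 1) (by rw [Nat.card_zpowers, Subgroup.orderOf_mk, hto, pow_one])
    exact ⟨⟨t, htH⟩, Cfsg.Agent.Helper23.mem_sylow_of_isNilpotent SQ _ hpg, rfl⟩
  have ht'Q : g * t * g⁻¹ ∈ Q := by
    rw [← hQgQ]; exact ⟨t, htQ, rfl⟩
  have ht'1 : g * t * g⁻¹ ≠ 1 := by
    intro h
    apply ht1
    have e : t = g⁻¹ * (g * t * g⁻¹) * g := by group
    rw [e, h]; group
  have ht'c : ∀ u ∈ Q, u * (g * t * g⁻¹) = g * t * g⁻¹ * u := by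
    intro u hu
    rw [← hQgQ] at hu
    obtain ⟨u₀, hu₀, rfl⟩ := hu
    exact conj_comm (htc u₀ (hQH hu₀))
  have ht'SQ : (⟨g * t * g⁻¹, hQH ht'Q⟩ : H) ∈ SQ := by
    have hcopy := ht'Q
    obtain ⟨v, hv, hveq⟩ := hcopy
    have : v = ⟨g * t * g⁻¹, hQH ht'Q⟩ := Subtype.ext hveq
    rw [← this]; exact hv
  have hcenter : (⟨g * t * g⁻¹, hQH ht'Q⟩ : H) ∈ center H :=
    Cfsg.Agent.Helper23.mem_center_of_mem_center_sylow SQ _ ht'SQ (by
      intro u hu
      apply Subtype.ext
      exact ht'c (u : G) ⟨u, hu, rfl⟩)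
  have ht'H : ∀ h ∈ H, h * (g * t * g⁻¹) = g * t * g⁻¹ * h := by
    intro h hh
    have := (mem_center_iff.mp hcenter) ⟨h, hh⟩
    exact congrArg Subtype.val this
  have hCt' := centralizer_eq hCN H hmax (g * t * g⁻¹) ht'1 ht'H
  apply hg
  apply Subgroup.eq_of_le_of_card_ge
  · rintro _ ⟨h, hh, rfl⟩
    rw [← hCt', mem_centralizer_iff]
    intro w hw
    rw [Set.mem_singleton_iff] at hw
    subst hw
    exact conj_comm (htc h hh).symm
  · rw [Subgroup.card_map_of_injective (f := (MulAut.conj g).toMonoidHom) (MulAut.conj g).injective]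

end


/-- Let G be a finite group in which every non-identity element has nilpotent centralizer, and H a nilpotent subgroup not properly contained in any nilpotent subgroup. Then the order of H is coprime to its index; if the order of H is not a prime power then H ∩ gHg⁻¹ = 1 whenever gHg⁻¹ ≠ H; and if H ∩ gHg⁻¹ = 1 whenever gHg⁻¹ ≠ H, then C_G(x) ≤ H for every non-identity x ∈ H. -/
theorem result {G : Type*} [Group G] [Finite G] (hCN : Cfsg.IsCNGroup G) (H : Subgroup G) (hH : Group.IsNilpotent H)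
    (hmax : ∀ L : Subgroup G, Group.IsNilpotent L → H ≤ L → L = H) :
    (Nat.card H).Coprime H.index ∧
      (¬ IsPrimePow (Nat.card H) → Nat.card H ≠ 1 → ∀ g : G, H.map (MulAut.conj g).toMonoidHom ≠ H → H ⊓ H.map (MulAut.conj g).toMonoidHom = ⊥) ∧
      ((∀ g : G, H.map (MulAut.conj g).toMonoidHom ≠ H → H ⊓ H.map (MulAut.conj g).toMonoidHom = ⊥) → ∀ x ∈ H, x ≠ 1 → Subgroup.centralizer ({x} : Set G) ≤ H) := by
  have h1 := part1 hCN H hH hmax
  refine ⟨h1, ?_, ?_⟩
  · intro hnpp hc1 g hg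
    exact part2 hCN H hH hmax h1 hnpp hc1 g hg
  · intro hTI x hx hx1
    exact part3 hCN H hH hmax h1 hTI x hx hx1

end Cfsg.Agent.S1477
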