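import Mathlib
import Cfsg.Statements.S1123
import Cfsg.Agent.Helper17.RankOne
-- import your own Cfsg.Agent.* helpers here

set_option autoImplicit false
set_option linter.unusedSimpArgs false
open Cfsg

namespace Cfsg.Agent.S1123

/-- In the rank-one set-up (`G` finite and doubly transitive on `Ω`, `t` an involution moving `a`, `Q` normal in `G_a` with `G_a = Q D`, `Q ⊓ D = 1` for the two-point stabiliser `D = G_a ⊓ G_{t • a}`, `|Q|` even, `|D|` odd), there is a unique pair `(s, r)` with `s` an involution of `G_a`, `r ∈ Q` and `t s t = r⁻¹ t r`. -/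
theorem result {G Ω : Type*} [Group G] [Finite G] [MulAction G Ω] {a : Ω} {t : G} {Q : Subgroup G}
    (hS : Cfsg.IsRankOneSetup G Ω a t Q) :
    ∃! p : G × G, p.1 ∈ Cfsg.involutionsIn (MulAction.stabilizer G a : Set G) ∧ p.2 ∈ Q ∧
      t * p.1 * t = p.2⁻¹ * t * p.2 := by
  have ht : t⁻¹ = t := Cfsg.Agent.Helper17.ro_t_inv hS
  have htt : ∀ z : G, t * (t * z) = z := Cfsg.Agent.Helper17.ro_tt_mul hS
  have htt1 : t * t = 1 := hS.mul_self
  have hta := Cfsg.Agent.Helper17.ro_ta_ne hS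
  obtain ⟨c, hc, -⟩ := Cfsg.Agent.Helper17.ro_invol_fix hS hS.ne_one hS.mul_self
  have hca : c ≠ a := by
    intro h
    apply hta
    rw [← h]; exact hc
  obtain ⟨⟨r, hr⟩, hrc, hruniq⟩ := Cfsg.Agent.Helper17.ro_Q_regular hS hta hca
  have hrc' : r • t • a = c := hrc
  have hrc'' : r⁻¹ • c = t • a := by rw [inv_smul_eq_iff, hrc']
  refine ⟨(t * (r⁻¹ * t * r) * t, r), ⟨⟨?_, ?_, ?_⟩, hr, ?_⟩, ?_⟩
  · show t * (r⁻¹ * t * r) * t ∈ MulAction.stabilizer G a
    rw [MulAction.mem_stabilizer_iff]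
    simp only [mul_smul]
    rw [hrc', hc, hrc'', Cfsg.Agent.Helper17.ro_tt_smul hS]
  · intro (h : t * (r⁻¹ * t * r) * t = 1)
    apply hS.ne_one
    have : t = r * (t * (t * (r⁻¹ * t * r) * t) * t) * r⁻¹ := by
      simp only [mul_assoc, htt, htt1, mul_one, one_mul, mul_inv_cancel_left, inv_mul_cancel_left, mul_inv_cancel, inv_mul_cancel]
    rw [this, h]
    simp only [mul_assoc, htt, htt1, mul_one, one_mul, mul_inv_cancel_left, inv_mul_cancel_left, mul_inv_cancel, inv_mul_cancel]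
  · show t * (r⁻¹ * t * r) * t * (t * (r⁻¹ * t * r) * t) = 1
    simp only [mul_assoc, htt, htt1, mul_one, one_mul, mul_inv_cancel_left, inv_mul_cancel_left, mul_inv_cancel, inv_mul_cancel]
  · show t * (t * (r⁻¹ * t * r) * t) * t = r⁻¹ * t * r
    simp only [mul_assoc, htt, htt1, mul_one, one_mul, mul_inv_cancel_left, inv_mul_cancel_left, mul_inv_cancel, inv_mul_cancel]
  · rintro ⟨s', r'⟩ ⟨⟨hs'a, hs'1, hs'2⟩, hr', he⟩
    have hs'a' : s' • a = a := MulAction.mem_stabilizer_iff.mp hs'a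
    have he' : t * s' * t = r'⁻¹ * t * r' := he
    have hs'eq : s' = t * (r'⁻¹ * t * r') * t := by
      rw [← he']; simp only [mul_assoc, htt, htt1, mul_one]
    have h1 : (t * s' * t) • t • a = t • a := by
      simp only [mul_smul]
      rw [Cfsg.Agent.Helper17.ro_tt_smul hS, hs'a']
    have hn1 : t * s' * t ≠ 1 := by
      intro h
      apply hs'1
      have : s' = t * (t * s' * t) * t := by simp only [mul_assoc, htt, htt1, mul_one]
      rw [this, h]; simp only [mul_assoc, htt, htt1, mul_one]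
    have hn2 : t * s' * t * (t * s' * t) = 1 := by
      have : t * s' * t * (t * s' * t) = t * (s' * s') * t := by
        simp only [mul_assoc, htt, htt1, mul_one]
      rw [this, hs'2]; simp only [mul_assoc, htt, htt1, mul_one]
    have h2 : (t * s' * t) • r'⁻¹ • c = r'⁻¹ • c := by
      rw [he']
      simp only [mul_smul]
      rw [smul_inv_smul, hc]
    have h3 : r'⁻¹ • c = t • a := Cfsg.Agent.Helper17.ro_invol_fix_eq hS hn1 hn2 h2 h1
    have h4 : r' • t • a = c := by rw [← h3, smul_inv_smul]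
    have h5 : (⟨r', hr'⟩ : Q) = ⟨r, hr⟩ := hruniq ⟨r', hr'⟩ h4
    have h6 : r' = r := congrArg Subtype.val h5
    subst h6
    rw [hs'eq]

end Cfsg.Agent.S1123
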