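import Cfsg.Statements.S2330
import Cfsg.Agent.Helper12.Mat2
import Cfsg.Agent.Helper12.ConjCount

set_option autoImplicit false
open Cfsg

namespace Cfsg.Agent.S2330

open Cfsg.Agent.Helper12

variable {F : Type*} [Field F]

theorem det_ne_zero (g : Matrix.GeneralLinearGroup (Fin 2) F) :
    (g : Matrix (Fin 2) (Fin 2) F).det ≠ 0 := by
  have := g.isUnit.map Matrix.detMonoidHom
  simpa using this.ne_zero

theorem entry_ne_zero_of_scalar (g : Matrix.GeneralLinearGroup (Fin 2) F)
    (h : IsScalar2 (g : Matrix (Fin 2) (Fin 2) F)) : (g : Matrix (Fin 2) (Fin 2) F) 0 0 ≠ 0 := by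
  intro h0
  apply det_ne_zero g
  rw [Matrix.det_fin_two, h.1, h0]
  simp

open Classical in
/-- The complete conjugacy invariant on `GL₂`. -/
noncomputable def inv2 (g : Matrix.GeneralLinearGroup (Fin 2) F) : Fˣ ⊕ (F × Fˣ) :=
  if h : IsScalar2 (g : Matrix (Fin 2) (Fin 2) F) then
    Sum.inl (Units.mk0 ((g : Matrix (Fin 2) (Fin 2) F) 0 0) (entry_ne_zero_of_scalar g h))
  else Sum.inr ((g : Matrix (Fin 2) (Fin 2) F).trace, Matrix.GeneralLinearGroup.det g)

theorem eq_of_scalar_conj (a b c : Matrix.GeneralLinearGroup (Fin 2) F) (hc : c * a * c⁻¹ = b)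
    (ha : IsScalar2 (a : Matrix (Fin 2) (Fin 2) F)) : a = b := by
  obtain ⟨x, hx⟩ := (isScalar2_iff _).1 ha
  rw [← hc]
  apply Units.ext
  simp only [Units.val_mul]
  rw [hx]
  simp

theorem inv2_eq_iff (a b : Matrix.GeneralLinearGroup (Fin 2) F) : inv2 a = inv2 b ↔ IsConj a b := by
  constructor
  · intro h
    unfold inv2 at h
    by_cases ha : IsScalar2 (a : Matrix (Fin 2) (Fin 2) F)
    · by_cases hb : IsScalar2 (b : Matrix (Fin 2) (Fin 2) F)
      · rw [dif_pos ha, dif_pos hb] at h
        have h0 : (a : Matrix (Fin 2) (Fin 2) F) 0 0 = (b : Matrix (Fin 2) (Fin 2) F) 0 0 := by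
          have := Sum.inl.inj h
          exact congrArg Units.val this
        have : a = b := by
          apply Units.ext
          ext i j
          fin_cases i <;> fin_cases j <;> simp [ha.1, ha.2.1, hb.1, hb.2.1, h0]
          rw [← ha.2.2, ← hb.2.2, h0]
        rw [this]
      · rw [dif_pos ha, dif_neg hb] at h
        exact absurd h (by simp)
    · by_cases hb : IsScalar2 (b : Matrix (Fin 2) (Fin 2) F)
      · rw [dif_neg ha, dif_pos hb] at h
        exact absurd h (by simp)
      · rw [dif_neg ha, dif_neg hb] at h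
        have h' := Sum.inr.inj h
        have ht : (a : Matrix (Fin 2) (Fin 2) F).trace = (b : Matrix (Fin 2) (Fin 2) F).trace :=
          congrArg Prod.fst h'
        have hd : (a : Matrix (Fin 2) (Fin 2) F).det = (b : Matrix (Fin 2) (Fin 2) F).det := by
          have := congrArg Prod.snd h'
          have h2 := congrArg Units.val this
          simpa using h2
        exact isConj_of_trace_det_eq a b ha hb ht hd
  · intro h
    obtain ⟨c, hc⟩ := isConj_iff.1 h
    by_cases ha : IsScalar2 (a : Matrix (Fin 2) (Fin 2) F)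
    · rw [eq_of_scalar_conj a b c hc ha]
    · have hb : ¬ IsScalar2 (b : Matrix (Fin 2) (Fin 2) F) := by
        intro hb
        have hc' : c⁻¹ * b * c⁻¹⁻¹ = a := by rw [← hc]; group
        have := eq_of_scalar_conj b a c⁻¹ hc' hb
        exact ha (this ▸ hb)
      unfold inv2
      rw [dif_neg ha, dif_neg hb]
      congr 2
      · rw [← hc]
        simp only [Units.val_mul]
        rw [Matrix.coe_units_inv]
        have := Matrix.trace_units_conj c (a : Matrix (Fin 2) (Fin 2) F)
        rw [Matrix.coe_units_inv] at this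
        exact this.symm
      · rw [← hc, map_mul, map_mul, map_inv]
        rw [mul_comm, ← mul_assoc, inv_mul_cancel, one_mul]

theorem inv2_surjective : Function.Surjective (inv2 (F := F)) := by
  rintro (x | ⟨t, d⟩)
  · have hdet : ((x : F) • (1 : Matrix (Fin 2) (Fin 2) F)).det ≠ 0 := by
      simp
    refine ⟨Matrix.GeneralLinearGroup.mkOfDetNeZero _ hdet, ?_⟩
    have hs : IsScalar2 ((Matrix.GeneralLinearGroup.mkOfDetNeZero _ hdet :
        Matrix.GeneralLinearGroup (Fin 2) F) : Matrix (Fin 2) (Fin 2) F) := by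
      rw [isScalar2_iff]
      exact ⟨x, rfl⟩
    unfold inv2
    rw [dif_pos hs]
    congr 1
    apply Units.ext
    simp [Matrix.GeneralLinearGroup.mkOfDetNeZero]
  · have hdet : (comp2 t (d : F)).det ≠ 0 := by
      rw [comp2_det]; exact d.ne_zero
    refine ⟨Matrix.GeneralLinearGroup.mkOfDetNeZero _ hdet, ?_⟩
    have hs : ¬ IsScalar2 ((Matrix.GeneralLinearGroup.mkOfDetNeZero _ hdet :
        Matrix.GeneralLinearGroup (Fin 2) F) : Matrix (Fin 2) (Fin 2) F) := by
      rintro ⟨-, h2, -⟩
      simp [Matrix.GeneralLinearGroup.mkOfDetNeZero, comp2] at h2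
    unfold inv2
    rw [dif_neg hs]
    congr 2
    · exact comp2_trace t d
    · apply Units.ext
      simp [Matrix.GeneralLinearGroup.mkOfDetNeZero, comp2_det]

theorem result {F : Type*} [Field F] [Fintype F] :
    Nat.card (ConjClasses (Matrix.GeneralLinearGroup (Fin 2) F)) = Fintype.card F ^ 2 - 1 := by
  classical
  rw [card_conjClasses_eq inv2 inv2_eq_iff inv2_surjective]
  rw [Nat.card_eq_fintype_card, Fintype.card_sum, Fintype.card_prod, Fintype.card_units]
  have h1 : 1 ≤ Fintype.card F := Fintype.card_pos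
  have : Fintype.card F ^ 2 = (Fintype.card F - 1) + Fintype.card F * (Fintype.card F - 1) + 1 := by
    obtain ⟨k, hk⟩ : ∃ k, Fintype.card F = k + 1 := ⟨Fintype.card F - 1, by omega⟩
    rw [hk]
    simp only [Nat.add_sub_cancel]
    ring
  omega

end Cfsg.Agent.S2330
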