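import Cfsg.Statements.S2301
import Cfsg.Agent.Helper12.SL2Unip
import Cfsg.Agent.Helper12.Mat2Comm
import Cfsg.Agent.Helper12.SL2Mackey
import Cfsg.Agent.Helper24.Classes

set_option autoImplicit false
open Cfsg

namespace Cfsg.Agent.S2301

open Cfsg.Agent.Helper12

variable {F : Type*} [Field F]

/-- An element of order `p` of `SL₂` is a non-scalar element of trace two. -/
theorem unip_of_orderOf (p : ℕ) [Fact p.Prime] [CharP F p]
    (g : Matrix.SpecialLinearGroup (Fin 2) F) (hg : orderOf g = p) :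
    ¬ IsScalar2 (g : Matrix (Fin 2) (Fin 2) F) ∧ (g : Matrix (Fin 2) (Fin 2) F).trace = 2 := by
  have h1 : orderOf (Matrix.SpecialLinearGroup.toGL g) = p := by
    rw [orderOf_injective _ Matrix.SpecialLinearGroup.toGL_injective, hg]
  obtain ⟨h2, h3⟩ := sub_one_sq_eq_zero_of_orderOf_eq p _ h1
  obtain ⟨h4, h5, -⟩ := unipotent2_trace_det _ h2 h3
  exact ⟨h4, h5⟩

/-- Powers of an upper unitriangular matrix. -/
theorem utri_pow (b : F) (n : ℕ) : (utri 1 b) ^ n = utri 1 ((n : F) * b) := by
  induction n with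
  | zero =>
    ext i j
    fin_cases i <;> fin_cases j <;> simp [utri]
  | succ n ih =>
    rw [pow_succ, ih]
    ext i j
    fin_cases i <;> fin_cases j <;> simp [utri, Matrix.mul_apply, Fin.sum_univ_two] <;> ring

/-- The upper unitriangular element of `SL₂`. -/
def uSL (b : F) : Matrix.SpecialLinearGroup (Fin 2) F :=
  ⟨utri 1 b, by simp [utri, Matrix.det_fin_two_of]⟩

theorem uSL_coe (b : F) : (uSL b : Matrix (Fin 2) (Fin 2) F) = utri 1 b := rfl

theorem orderOf_uSL (p : ℕ) [Fact p.Prime] [CharP F p] (b : F) (hb : b ≠ 0) :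
    orderOf (uSL b) = p := by
  apply orderOf_eq_prime
  · apply Subtype.ext
    rw [Matrix.SpecialLinearGroup.coe_pow, uSL_coe, utri_pow, CharP.cast_eq_zero, zero_mul]
    ext i j
    fin_cases i <;> fin_cases j <;> simp [utri]
  · intro h
    have h1 := congrArg (fun z : Matrix.SpecialLinearGroup (Fin 2) F =>
      (z : Matrix (Fin 2) (Fin 2) F) 0 1) h
    simp [uSL_coe, utri] at h1
    exact hb h1

/-- Conjugacy criterion for non-scalar elements of trace two. -/
theorem isConj_iff_sqRep [Fintype F] (h2 : (2 : F) ≠ 0) (g h : Matrix.SpecialLinearGroup (Fin 2) F)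
    (hg : ¬ IsScalar2 (g : Matrix (Fin 2) (Fin 2) F)) (hgt : (g : Matrix (Fin 2) (Fin 2) F).trace = 2)
    (hh : ¬ IsScalar2 (h : Matrix (Fin 2) (Fin 2) F)) (hht : (h : Matrix (Fin 2) (Fin 2) F).trace = 2) :
    IsConj g h ↔ (sqRep (g : Matrix (Fin 2) (Fin 2) F) ↔ sqRep (h : Matrix (Fin 2) (Fin 2) F)) := by
  constructor
  · intro hc
    obtain ⟨c, hc⟩ := isConj_iff.1 hc
    rw [← hc, sqRep_conj]
  · intro hs
    apply sl2_isConj_of_sqRep_iff h2 g h hg hh (by rw [hgt, hht]) _ hs
    rw [hgt]; norm_num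

theorem isSquare_mul_iff [Fintype F] (h2 : ringChar F ≠ 2) (x y : F) (hx : x ≠ 0) (hy : y ≠ 0) :
    ((IsSquare x ↔ IsSquare y) ↔ IsSquare (x * y)) := by
  classical
  rw [← quadraticChar_one_iff_isSquare hx, ← quadraticChar_one_iff_isSquare hy,
    ← quadraticChar_one_iff_isSquare (mul_ne_zero hx hy), map_mul]
  rcases quadraticChar_dichotomy hx with h | h <;> rcases quadraticChar_dichotomy hy with h' | h' <;>
    rw [h, h'] <;> norm_num

theorem card_sl2 [Fintype F] [DecidableEq F] :
    Nat.card (Matrix.SpecialLinearGroup (Fin 2) F) =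
      (Fintype.card F + 1) * ((Fintype.card F - 1) * Fintype.card F) := by
  rw [← Nat.card_eq_of_bijective _ (bruhatMap_bijective (F := F)), Nat.card_sum, Nat.card_prod,
    card_borelSL, Nat.card_eq_fintype_card]
  ring

/-- The centralizer of a non-scalar element of trace two has order `2q`. -/
theorem card_centralizer_unip [Fintype F] [DecidableEq F] (h2 : (2 : F) ≠ 0)
    (g : Matrix.SpecialLinearGroup (Fin 2) F)
    (hg : ¬ IsScalar2 (g : Matrix (Fin 2) (Fin 2) F)) (hgt : (g : Matrix (Fin 2) (Fin 2) F).trace = 2) :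
    Nat.card (Subgroup.centralizer ({g} : Set (Matrix.SpecialLinearGroup (Fin 2) F))) =
      2 * Fintype.card F := by
  set A : Matrix (Fin 2) (Fin 2) F := (g : Matrix (Fin 2) (Fin 2) F) with hA
  have hAdet : A.det = 1 := g.2
  have hdet : ∀ x y : F, (x • (1 : Matrix (Fin 2) (Fin 2) F) + y • A).det = (x + y) ^ 2 := by
    intro x y
    have h1 : (x • (1 : Matrix (Fin 2) (Fin 2) F) + y • A).det =
        x ^ 2 + A.trace * x * y + A.det * y ^ 2 := by
      simp [Matrix.det_fin_two, Matrix.trace_fin_two]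
      ring
    rw [h1, hgt, hAdet]; ring
  have hmem : ∀ z : Matrix.SpecialLinearGroup (Fin 2) F,
      z ∈ Subgroup.centralizer ({g} : Set (Matrix.SpecialLinearGroup (Fin 2) F)) ↔
        A * (z : Matrix (Fin 2) (Fin 2) F) = (z : Matrix (Fin 2) (Fin 2) F) * A := by
    intro z
    rw [Subgroup.mem_centralizer_iff]
    simp only [Set.mem_singleton_iff, forall_eq]
    constructor
    · intro h
      have := congrArg (fun u : Matrix.SpecialLinearGroup (Fin 2) F =>
        (u : Matrix (Fin 2) (Fin 2) F)) h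
      simpa using this
    · intro h
      apply Subtype.ext
      simpa using h
  -- the parametrisation by a sign and an element of F
  let m : Bool × F → Matrix.SpecialLinearGroup (Fin 2) F :=
    fun p => ⟨((bif p.1 then (1 : F) else -1) - p.2) • (1 : Matrix (Fin 2) (Fin 2) F) + p.2 • A, by
      rw [hdet]
      cases p.1 <;> simp⟩
  have hmcoe : ∀ p : Bool × F, (m p : Matrix (Fin 2) (Fin 2) F) =
      ((bif p.1 then (1 : F) else -1) - p.2) • (1 : Matrix (Fin 2) (Fin 2) F) + p.2 • A :=
    fun _ => rfl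
  let f : Bool × F → Subgroup.centralizer ({g} : Set (Matrix.SpecialLinearGroup (Fin 2) F)) :=
    fun p => ⟨m p, by
      rw [hmem, hmcoe]
      rw [mul_add, add_mul]
      simp⟩
  have hlin : ∀ x y x' y' : F, x • (1 : Matrix (Fin 2) (Fin 2) F) + y • A =
      x' • (1 : Matrix (Fin 2) (Fin 2) F) + y' • A → x = x' ∧ y = y' := by
    intro x y x' y' h
    have hy : y = y' := by
      by_contra hne
      apply hg
      rw [isScalar2_iff]
      refine ⟨(x' - x) / (y - y'), ?_⟩
      have h1 : (y - y') • A = (x' - x) • (1 : Matrix (Fin 2) (Fin 2) F) := by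
        rw [sub_smul, sub_smul]
        have := h
        rw [← sub_eq_zero] at this ⊢
        rw [← this]; abel
      have hne' : y - y' ≠ 0 := sub_ne_zero.2 hne
      have := congrArg (fun M => (y - y')⁻¹ • M) h1
      simp only [smul_smul, inv_mul_cancel₀ hne', one_smul] at this
      rw [this, div_eq_inv_mul]
    subst hy
    have hx : x • (1 : Matrix (Fin 2) (Fin 2) F) = x' • (1 : Matrix (Fin 2) (Fin 2) F) :=
      add_right_cancel h
    have := congrFun (congrFun hx 0) 0
    simp at this
    exact ⟨this, rfl⟩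
  have hbij : Function.Bijective f := by
    constructor
    · rintro ⟨ε, y⟩ ⟨ε', y'⟩ h
      have h1 := congrArg (fun z : Subgroup.centralizer
        ({g} : Set (Matrix.SpecialLinearGroup (Fin 2) F)) =>
        ((z : Matrix.SpecialLinearGroup (Fin 2) F) : Matrix (Fin 2) (Fin 2) F)) h
      simp only [f, hmcoe] at h1
      obtain ⟨hx, hy⟩ := hlin _ _ _ _ h1
      subst hy
      have hε : (bif ε then (1 : F) else -1) = (bif ε' then (1 : F) else -1) := by
        linear_combination hx
      have : ε = ε' := by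
        cases ε <;> cases ε' <;> simp at hε ⊢
        · apply h2; linear_combination -hε
        · apply h2; linear_combination hε
      rw [this]
    · rintro ⟨z, hz⟩
      rw [hmem] at hz
      obtain ⟨x, y, hxy⟩ := exists_eq_add_smul_of_comm A _ hg hz
      have hzdet : (z : Matrix (Fin 2) (Fin 2) F).det = 1 := z.2
      rw [hxy, hdet] at hzdet
      have hsq : (x + y - 1) * (x + y + 1) = 0 := by linear_combination hzdet
      rcases mul_eq_zero.1 hsq with h | h
      · refine ⟨(true, y), ?_⟩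
        apply Subtype.ext
        apply Subtype.ext
        show (m (true, y) : Matrix (Fin 2) (Fin 2) F) = _
        rw [hmcoe, hxy]
        simp only [cond_true]
        congr 2
        linear_combination -h
      · refine ⟨(false, y), ?_⟩
        apply Subtype.ext
        apply Subtype.ext
        show (m (false, y) : Matrix (Fin 2) (Fin 2) F) = _
        rw [hmcoe, hxy]
        simp only [cond_false]
        congr 2
        linear_combination -h
  rw [← Nat.card_eq_of_bijective f hbij, Nat.card_prod, Nat.card_eq_fintype_card,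
    Nat.card_eq_fintype_card, Fintype.card_bool]

/-- Over a finite field with q elements of odd characteristic p, the elements of order p of SL₂ (the non-identity unipotent elements) fall into exactly two conjugacy classes, each of size (q² − 1)/2; two upper unitriangular matrices with non-zero off-diagonal entries b and b′ are conjugate exactly when bb′ is a square. -/
theorem result {F : Type*} [Field F] [Fintype F] (p : ℕ) [Fact p.Prime] [CharP F p] (hp : p ≠ 2) :
    Nat.card {C : ConjClasses (Matrix.SpecialLinearGroup (Fin 2) F) // ∃ g : Matrix.SpecialLinearGroup (Fin 2) F, orderOf g = p ∧ ConjClasses.mk g = C} = 2 ∧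
    (∀ g : Matrix.SpecialLinearGroup (Fin 2) F, orderOf g = p → Nat.card (ConjClasses.mk g).carrier = (Fintype.card F ^ 2 - 1) / 2) ∧
    ∀ g h : Matrix.SpecialLinearGroup (Fin 2) F, (g : Matrix (Fin 2) (Fin 2) F) 0 0 = 1 → (g : Matrix (Fin 2) (Fin 2) F) 1 1 = 1 → (g : Matrix (Fin 2) (Fin 2) F) 1 0 = 0 → (g : Matrix (Fin 2) (Fin 2) F) 0 1 ≠ 0 →
      (h : Matrix (Fin 2) (Fin 2) F) 0 0 = 1 → (h : Matrix (Fin 2) (Fin 2) F) 1 1 = 1 → (h : Matrix (Fin 2) (Fin 2) F) 1 0 = 0 → (h : Matrix (Fin 2) (Fin 2) F) 0 1 ≠ 0 →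
      (IsConj g h ↔ IsSquare ((g : Matrix (Fin 2) (Fin 2) F) 0 1 * (h : Matrix (Fin 2) (Fin 2) F) 0 1)) := by
  classical
  have hchar : ringChar F ≠ 2 := by rw [ringChar.eq F p]; exact hp
  have h2 : (2 : F) ≠ 0 := Ring.two_ne_zero hchar
  -- upper unitriangular elements
  have hutri : ∀ g : Matrix.SpecialLinearGroup (Fin 2) F, (g : Matrix (Fin 2) (Fin 2) F) 0 0 = 1 →
      (g : Matrix (Fin 2) (Fin 2) F) 1 1 = 1 → (g : Matrix (Fin 2) (Fin 2) F) 1 0 = 0 →
      g = uSL ((g : Matrix (Fin 2) (Fin 2) F) 0 1) := by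
    intro g h00 h11 h10
    apply Subtype.ext
    rw [uSL_coe]
    ext i j
    fin_cases i <;> fin_cases j <;> simp [utri, h00, h11, h10]
  have huns : ∀ b : F, b ≠ 0 → ¬ IsScalar2 (uSL b : Matrix (Fin 2) (Fin 2) F) := by
    intro b hb ⟨h, _, _⟩
    simp [uSL_coe, utri] at h
    exact hb h
  have hutr : ∀ b : F, (uSL b : Matrix (Fin 2) (Fin 2) F).trace = 2 := by
    intro b
    simp [uSL_coe, utri, Matrix.trace_fin_two]
    norm_num
  have hconj_u : ∀ b b' : F, b ≠ 0 → b' ≠ 0 → (IsConj (uSL b) (uSL b') ↔ IsSquare (b * b')) := by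
    intro b b' hb hb'
    rw [isConj_iff_sqRep h2 _ _ (huns b hb) (hutr b) (huns b' hb') (hutr b'), uSL_coe, uSL_coe,
      sqRep_utri 1 b hb, sqRep_utri 1 b' hb',
      isSquare_mul_iff hchar _ _ (neg_ne_zero.2 hb) (neg_ne_zero.2 hb'), neg_mul_neg]
  obtain ⟨ν, hν⟩ := FiniteField.exists_nonsquare hchar
  have hν0 : ν ≠ 0 := by
    intro h; apply hν; rw [h]; exact ⟨0, by ring⟩
  have h1ne : (1 : F) ≠ 0 := one_ne_zero
  -- every element of order p is conjugate to one of two representatives
  have hrep : ∀ g : Matrix.SpecialLinearGroup (Fin 2) F, orderOf g = p →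
      IsConj g (uSL 1) ∨ IsConj g (uSL ν) := by
    intro g hg
    obtain ⟨hgs, hgt⟩ := unip_of_orderOf p g hg
    by_cases hs : sqRep (g : Matrix (Fin 2) (Fin 2) F) ↔ sqRep (uSL (1 : F) : Matrix (Fin 2) (Fin 2) F)
    · left
      exact (isConj_iff_sqRep h2 _ _ hgs hgt (huns 1 h1ne) (hutr 1)).2 hs
    · right
      rw [isConj_iff_sqRep h2 _ _ hgs hgt (huns ν hν0) (hutr ν)]
      have h1ν : ¬ (sqRep (uSL (1 : F) : Matrix (Fin 2) (Fin 2) F) ↔
          sqRep (uSL ν : Matrix (Fin 2) (Fin 2) F)) := by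
        rw [← isConj_iff_sqRep h2 _ _ (huns 1 h1ne) (hutr 1) (huns ν hν0) (hutr ν),
          hconj_u 1 ν h1ne hν0, one_mul]
        exact hν
      tauto
  refine ⟨?_, ?_, ?_⟩
  · -- exactly two classes
    rw [Nat.card_eq_two_iff]
    refine ⟨⟨ConjClasses.mk (uSL 1), uSL 1, orderOf_uSL p 1 h1ne, rfl⟩,
      ⟨ConjClasses.mk (uSL ν), uSL ν, orderOf_uSL p ν hν0, rfl⟩, ?_, ?_⟩
    · intro h
      have h1 := congrArg Subtype.val h
      simp only [ConjClasses.mk_eq_mk_iff_isConj] at h1
      rw [hconj_u 1 ν h1ne hν0, one_mul] at h1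
      exact hν h1
    · rw [Set.eq_univ_iff_forall]
      rintro ⟨C, g, hg, rfl⟩
      rcases hrep g hg with h | h
      · left
        apply Subtype.ext
        exact ConjClasses.mk_eq_mk_iff_isConj.2 h
      · right
        apply Subtype.ext
        exact ConjClasses.mk_eq_mk_iff_isConj.2 h
  · -- class sizes
    intro g hg
    obtain ⟨hgs, hgt⟩ := unip_of_orderOf p g hg
    have h1 : Nat.card (ConjClasses.mk g).carrier = Nat.card {x // IsConj g x} := by
      refine Nat.card_congr (Equiv.subtypeEquivRight ?_)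
      intro x
      rw [ConjClasses.mem_carrier_iff_mk_eq, ConjClasses.mk_eq_mk_iff_isConj, isConj_comm]
    rw [h1]
    have h3 := Cfsg.Agent.Helper24.card_conj_mul_card_centralizer g
    rw [card_centralizer_unip h2 g hgs hgt, card_sl2] at h3
    have hq : 2 ≤ Fintype.card F := Fintype.one_lt_card
    obtain ⟨r, hr⟩ : ∃ r, Fintype.card F = r + 2 := ⟨Fintype.card F - 2, by omega⟩
    rw [hr] at h3 ⊢
    have h4 : (r + 2) ^ 2 - 1 = (r + 3) * (r + 1) := by
      have : (r + 2) ^ 2 = (r + 3) * (r + 1) + 1 := by ring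
      rw [this]; simp
    rw [h4]
    have h5 : Nat.card {x // IsConj g x} * 2 = (r + 3) * (r + 1) := by
      have h6 : Nat.card {x // IsConj g x} * 2 * (r + 2) = (r + 3) * (r + 1) * (r + 2) := by
        have : r + 2 - 1 = r + 1 := by omega
        rw [this] at h3
        linarith
      exact Nat.eq_of_mul_eq_mul_right (by omega) h6
    omega
  · intro g h g00 g11 g10 g01 h00 h11 h10 h01
    rw [hutri g g00 g11 g10, hutri h h00 h11 h10]
    simp only [uSL_coe, utri, Matrix.of_apply, Matrix.cons_val', Matrix.cons_val_zero,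
      Matrix.cons_val_one, Matrix.cons_val_fin_one]
    exact hconj_u _ _ g01 h01

end Cfsg.Agent.S2301
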