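import Cfsg.Statements.S2304
import Cfsg.Agent.Helper12.GL2Mackey
import Cfsg.Agent.Helper24.Induced
import Cfsg.Agent.Helper24.Expansion

set_option autoImplicit false
open Cfsg

namespace Cfsg.Agent.S2304

open Cfsg.Agent.Helper12

/-- Over a finite field F with q elements, for multiplicative characters α ≠ β of F, the function induced to GL₂ from the linear character b ↦ α(b₁₁) β(b₂₂) of the upper triangular subgroup B is an irreducible character (of degree q + 1). -/
theorem result {F : Type*} [Field F] [Fintype F] [DecidableEq F] (α β : MulChar F ℂ) (hαβ : α ≠ β) :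
    Cfsg.IsIrrCharacter (Matrix.GeneralLinearGroup (Fin 2) F) (Cfsg.indFun (Cfsg.upperTriangularGL 2 F) (fun b => α (((b : Matrix.GeneralLinearGroup (Fin 2) F) : Matrix (Fin 2) (Fin 2) F) 0 0) * β (((b : Matrix.GeneralLinearGroup (Fin 2) F) : Matrix (Fin 2) (Fin 2) F) 1 1))) := by
  classical
  have hchar : IsCharacter (Cfsg.upperTriangularGL 2 F) (borelCharG α β) :=
    Cfsg.Agent.Helper24.isCharacter_of_monoidHom (borelCharGHom α β)
  have hind : IsCharacter _ (indFun (Cfsg.upperTriangularGL 2 F) (borelCharG α β)) :=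
    Cfsg.Agent.Helper24.isCharacter_indFun _ hchar
  change Cfsg.IsIrrCharacter _ (Cfsg.indFun (Cfsg.upperTriangularGL 2 F) (borelCharG α β))
  have : Fintype (IrrCharacter (Matrix.GeneralLinearGroup (Fin 2) F)) := Fintype.ofFinite _
  rw [Cfsg.Agent.Helper24.isIrrCharacter_iff_classInner_self]
  refine ⟨hind, ?_⟩
  rw [classInner_indFun_borelCharG, if_pos rfl, if_pos rfl, if_neg hαβ]
  ring

end Cfsg.Agent.S2304
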