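import Cfsg.Statements.S2307
import Cfsg.Agent.Helper12.GL2Mackey
import Cfsg.Agent.Helper12.NormTwo
import Cfsg.Agent.Helper24.Induced
import Cfsg.Agent.Helper24.Expansion
import Cfsg.Agent.Helper24.Clifford
import Cfsg.Agent.S2304

set_option autoImplicit false
open Cfsg

namespace Cfsg.Agent.S2307

open Cfsg.Agent.Helper12 Cfsg.Agent.Helper24

variable {F : Type*} [Field F]

/-- The kernel of the determinant on `GL₂`. -/
abbrev detKer (F : Type*) [Field F] : Subgroup (Matrix.GeneralLinearGroup (Fin 2) F) :=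
  (Matrix.GeneralLinearGroup.det : Matrix.GeneralLinearGroup (Fin 2) F →* Fˣ).ker

/-- The map from `SL₂` onto the kernel of the determinant. -/
def toKer : Matrix.SpecialLinearGroup (Fin 2) F →* detKer F :=
  Matrix.SpecialLinearGroup.toGL.codRestrict (detKer F) (fun g => by
    rw [MonoidHom.mem_ker]
    exact Matrix.SpecialLinearGroup.coeToGL_det g)

theorem toKer_bijective : Function.Bijective (toKer (F := F)) := by
  constructor
  · intro g h hgh
    have := congrArg (fun n : detKer F => (n : Matrix.GeneralLinearGroup (Fin 2) F)) hgh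
    exact Matrix.SpecialLinearGroup.toGL_injective this
  · intro n
    have hn : Matrix.GeneralLinearGroup.det (n : Matrix.GeneralLinearGroup (Fin 2) F) = 1 := n.2
    have hdet : ((n : Matrix.GeneralLinearGroup (Fin 2) F) : Matrix (Fin 2) (Fin 2) F).det = 1 := by
      have := congrArg Units.val hn
      simpa using this
    refine ⟨⟨_, hdet⟩, ?_⟩
    apply Subtype.ext
    apply Units.ext
    rfl

/-- `SL₂` is isomorphic to the kernel of the determinant. -/
noncomputable def kerEquiv : Matrix.SpecialLinearGroup (Fin 2) F ≃* detKer F :=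
  MulEquiv.ofBijective toKer toKer_bijective

theorem kerEquiv_coe (g : Matrix.SpecialLinearGroup (Fin 2) F) :
    ((kerEquiv g : detKer F) : Matrix.GeneralLinearGroup (Fin 2) F) =
      Matrix.SpecialLinearGroup.toGL g := rfl

/-- Restriction of the `GL₂` principal series to `SL₂`. -/
theorem indFun_borelCharG_toGL [Fintype F] [DecidableEq F] (α : MulChar F ℂ)
    (g : Matrix.SpecialLinearGroup (Fin 2) F) :
    Cfsg.indFun (Cfsg.upperTriangularGL 2 F) (borelCharG α 1) (Matrix.SpecialLinearGroup.toGL g) =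
      Cfsg.indFun (borelSL F) (borelChar α) g := by
  rw [indFun_borelCharG, indFun_borelChar]
  set A : Matrix (Fin 2) (Fin 2) F := (g : Matrix (Fin 2) (Fin 2) F) with hA
  change (if A 1 0 = 0 then α (A 0 0) * (1 : MulChar F ℂ) (A 1 1) else 0) +
      ∑ s : F, (if A 1 0 * s ^ 2 + (A 1 1 - A 0 0) * s - A 0 1 = 0 then
        α (A 1 0 * s + A 1 1) * (1 : MulChar F ℂ) (A 0 0 - s * A 1 0) else 0) =
    (if A 1 0 = 0 then α (A 0 0) else 0) +
      ∑ s : F, (if A 1 0 * s ^ 2 + (A 1 1 - A 0 0) * s - A 0 1 = 0 then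
        α (A 1 0 * s + A 1 1) else 0)
  have hdet : A 0 0 * A 1 1 - A 0 1 * A 1 0 = 1 := by
    have := g.2
    rw [Matrix.det_fin_two] at this
    exact this
  have hone : ∀ y : F, y ≠ 0 → (1 : MulChar F ℂ) y = 1 := fun y hy =>
    MulChar.one_apply (isUnit_iff_ne_zero.2 hy)
  congr 1
  · by_cases hc : A 1 0 = 0
    · rw [if_pos hc, if_pos hc, hone, mul_one]
      intro h
      rw [hc, h] at hdet
      simp at hdet
    · rw [if_neg hc, if_neg hc]
  · apply Finset.sum_congr rfl
    intro s _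
    by_cases hs : A 1 0 * s ^ 2 + (A 1 1 - A 0 0) * s - A 0 1 = 0
    · rw [if_pos hs, if_pos hs, hone, mul_one]
      intro h
      have : (A 1 0 * s + A 1 1) * (A 0 0 - s * A 1 0) = 1 := by
        linear_combination hdet - A 1 0 * hs
      rw [h, mul_zero] at this
      exact zero_ne_one this
    · rw [if_neg hs, if_neg hs]

/-- Over a finite field F with q elements, q odd, let α be the multiplicative character of F of order 2. The character of SL₂ induced from the linear character b ↦ α(b₁₁) of the upper triangular subgroup is the sum of two distinct irreducible characters, each of degree (q + 1)/2, which are conjugate under GL₂: some fixed element of GL₂ conjugates the one into the other. -/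
theorem result {F : Type*} [Field F] [Fintype F] [DecidableEq F] (hodd : Odd (Fintype.card F)) (α : MulChar F ℂ)
    (hα : α ^ 2 = 1) (hα1 : α ≠ 1) :
    ∃ χ₁ χ₂ : Matrix.SpecialLinearGroup (Fin 2) F → ℂ, Cfsg.IsIrrCharacter (Matrix.SpecialLinearGroup (Fin 2) F) χ₁ ∧ Cfsg.IsIrrCharacter (Matrix.SpecialLinearGroup (Fin 2) F) χ₂ ∧ χ₁ ≠ χ₂ ∧
      Cfsg.indFun ((Cfsg.upperTriangularGL 2 F).comap Matrix.SpecialLinearGroup.toGL) (fun b => α (((b : Matrix.SpecialLinearGroup (Fin 2) F) : Matrix (Fin 2) (Fin 2) F) 0 0)) = χ₁ + χ₂ ∧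
      χ₁ 1 = (((Fintype.card F + 1) / 2 : ℕ) : ℂ) ∧ χ₂ 1 = (((Fintype.card F + 1) / 2 : ℕ) : ℂ) ∧
      ∃ x : Matrix.GeneralLinearGroup (Fin 2) F, ∀ g h : Matrix.SpecialLinearGroup (Fin 2) F,
        Matrix.SpecialLinearGroup.toGL h = x * Matrix.SpecialLinearGroup.toGL g * x⁻¹ → χ₂ h = χ₁ g := by
  classical
  change ∃ χ₁ χ₂ : Matrix.SpecialLinearGroup (Fin 2) F → ℂ, _ ∧ _ ∧ _ ∧
    Cfsg.indFun (borelSL F) (borelChar α) = χ₁ + χ₂ ∧ _
  set f := Cfsg.indFun (borelSL F) (borelChar α) with hf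
  -- f is a character of norm two
  let φ : borelSL F →* ℂ :=
    { toFun := borelChar α, map_one' := borelChar_one α, map_mul' := borelChar_mul α }
  have hchar : IsCharacter (borelSL F) (borelChar α) := isCharacter_of_monoidHom φ
  have hfchar : IsCharacter _ f := isCharacter_indFun _ hchar
  have hαinv : α = α⁻¹ := by
    rw [eq_inv_iff_mul_eq_one, ← pow_two]; exact hα
  have hnorm : classInner f f = 2 := by
    rw [hf, classInner_indFun_borelChar, if_pos rfl, if_pos hαinv]
    norm_num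
  obtain ⟨χ₁, χ₂, hne, hsum⟩ := exists_two_irr_of_norm_two hfchar hnorm
  -- the irreducible character of GL₂ restricting to f
  set Ψ := Cfsg.indFun (Cfsg.upperTriangularGL 2 F) (borelCharG α 1) with hΨ
  have hΨirr : IsIrrCharacter (Matrix.GeneralLinearGroup (Fin 2) F) Ψ :=
    Cfsg.Agent.S2304.result α 1 hα1
  have hΨf : ∀ g : Matrix.SpecialLinearGroup (Fin 2) F,
      Ψ (Matrix.SpecialLinearGroup.toGL g) = f g := indFun_borelCharG_toGL α
  -- transport to the kernel of the determinant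
  have : Fintype (detKer F) := Fintype.ofFinite _
  have hNn : (detKer F).Normal := MonoidHom.normal_ker _
  let ψ₁ : detKer F → ℂ := fun n => (χ₁ : Matrix.SpecialLinearGroup (Fin 2) F → ℂ) (kerEquiv.symm n)
  let ψ₂ : detKer F → ℂ := fun n => (χ₂ : Matrix.SpecialLinearGroup (Fin 2) F → ℂ) (kerEquiv.symm n)
  have hψ₁ : IsIrrCharacter (detKer F) ψ₁ :=
    Cfsg.Agent.Helper8.isIrrCharacter_comp_surjective (kerEquiv (F := F)).symm.toMonoidHom
      (kerEquiv (F := F)).symm.surjective χ₁.2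
  have hψ₂ : IsIrrCharacter (detKer F) ψ₂ :=
    Cfsg.Agent.Helper8.isIrrCharacter_comp_surjective (kerEquiv (F := F)).symm.toMonoidHom
      (kerEquiv (F := F)).symm.surjective χ₂.2
  have hψne : ψ₁ ≠ ψ₂ := by
    intro h
    apply hne
    apply Subtype.ext
    funext g
    have := congrFun h (kerEquiv g)
    simpa [ψ₁, ψ₂] using this
  have hres : (fun n : detKer F => Ψ n) = ψ₁ + ψ₂ := by
    funext n
    obtain ⟨g, rfl⟩ := (kerEquiv (F := F)).surjective n
    rw [kerEquiv_coe, hΨf, hsum]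
    simp [ψ₁, ψ₂]
  have h11 : classInner ψ₁ ψ₁ = 1 := by
    rw [classInner_of_isIrrCharacter hψ₁ hψ₁, if_pos rfl]
  have h22 : classInner ψ₂ ψ₂ = 1 := by
    rw [classInner_of_isIrrCharacter hψ₂ hψ₂, if_pos rfl]
  have h12 : classInner ψ₁ ψ₂ = 0 := by
    rw [classInner_of_isIrrCharacter hψ₁ hψ₂, if_neg hψne]
  have h21 : classInner ψ₂ ψ₁ = 0 := by
    rw [classInner_of_isIrrCharacter hψ₂ hψ₁, if_neg (Ne.symm hψne)]
  have hconst : classInner (fun n : detKer F => Ψ n) ψ₁ ≠ 0 := by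
    rw [hres, classInner_add_left, h11, h21]; norm_num
  obtain ⟨y, hy⟩ : ∃ y : Matrix.GeneralLinearGroup (Fin 2) F, ψ₂ = conjFun (detKer F) ψ₁ y := by
    by_contra hno
    push Not at hno
    have h0 := classInner_restrict_eq_zero_of_not_conj (detKer F) hΨirr hψ₁ hconst hψ₂ hno
    rw [hres, classInner_add_left, h12, h22] at h0
    norm_num at h0
  -- the conjugation statement
  have hconj : ∀ g h : Matrix.SpecialLinearGroup (Fin 2) F,
      Matrix.SpecialLinearGroup.toGL h = y⁻¹ * Matrix.SpecialLinearGroup.toGL g * y⁻¹⁻¹ →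
        (χ₂ : Matrix.SpecialLinearGroup (Fin 2) F → ℂ) h = (χ₁ : Matrix.SpecialLinearGroup (Fin 2) F → ℂ) g := by
    intro g h hgh
    have h1 : (χ₂ : Matrix.SpecialLinearGroup (Fin 2) F → ℂ) h = ψ₂ (kerEquiv h) := by simp [ψ₂]
    rw [h1, hy, conjFun_apply]
    have h2 : (⟨y * ((kerEquiv h : detKer F) : Matrix.GeneralLinearGroup (Fin 2) F) * y⁻¹,
        hNn.conj_mem _ (kerEquiv h).2 y⟩ : detKer F) = kerEquiv g := by
      apply Subtype.ext
      show y * ((kerEquiv h : detKer F) : Matrix.GeneralLinearGroup (Fin 2) F) * y⁻¹ =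
        ((kerEquiv g : detKer F) : Matrix.GeneralLinearGroup (Fin 2) F)
      rw [kerEquiv_coe, kerEquiv_coe, hgh]
      group
    rw [h2]
    simp [ψ₁]
  have hdeg : (χ₂ : Matrix.SpecialLinearGroup (Fin 2) F → ℂ) 1 = (χ₁ : Matrix.SpecialLinearGroup (Fin 2) F → ℂ) 1 := by
    apply hconj 1 1
    simp
  have hf1 : f 1 = (Fintype.card F : ℂ) + 1 := by
    rw [hf, indFun_borelChar]
    simp
    ring
  have hsum1 : (χ₁ : Matrix.SpecialLinearGroup (Fin 2) F → ℂ) 1 + (χ₂ : Matrix.SpecialLinearGroup (Fin 2) F → ℂ) 1 = (Fintype.card F : ℂ) + 1 := by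
    rw [← hf1, hsum]; rfl
  have hhalf : (χ₁ : Matrix.SpecialLinearGroup (Fin 2) F → ℂ) 1 = (((Fintype.card F + 1) / 2 : ℕ) : ℂ) := by
    obtain ⟨r, hr⟩ := hodd
    have h2 : (Fintype.card F + 1) / 2 = r + 1 := by omega
    rw [h2]
    rw [hdeg] at hsum1
    have h3 : (Fintype.card F : ℂ) = 2 * r + 1 := by rw [hr]; push_cast; ring
    rw [h3] at hsum1
    push_cast
    linear_combination hsum1 / 2
  refine ⟨(χ₁ : Matrix.SpecialLinearGroup (Fin 2) F → ℂ), (χ₂ : Matrix.SpecialLinearGroup (Fin 2) F → ℂ), χ₁.2, χ₂.2, ?_, hsum, hhalf, by rw [hdeg]; exact hhalf,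
    y⁻¹, hconj⟩
  intro h
  exact hne (Subtype.ext h)

end Cfsg.Agent.S2307
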