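import Cfsg.Statements.S2325
import Cfsg.Agent.Helper12.SL2Unip
import Cfsg.Agent.Helper12.ConjCount

set_option autoImplicit false
open Cfsg

namespace Cfsg.Agent.S2325

open Cfsg.Agent.Helper12

variable {F : Type*} [Field F]

open Classical in
/-- The complete conjugacy invariant on `SL₂` in odd characteristic. -/
noncomputable def inv2 (g : Matrix.SpecialLinearGroup (Fin 2) F) :
    Bool ⊕ ({t : F // t ^ 2 ≠ 4} ⊕ (Bool × Bool)) :=
  if IsScalar2 (g : Matrix (Fin 2) (Fin 2) F) then
    Sum.inl (decide ((g : Matrix (Fin 2) (Fin 2) F) 0 0 = 1))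
  else if h : (g : Matrix (Fin 2) (Fin 2) F).trace ^ 2 ≠ 4 then
    Sum.inr (Sum.inl ⟨(g : Matrix (Fin 2) (Fin 2) F).trace, h⟩)
  else Sum.inr (Sum.inr (decide ((g : Matrix (Fin 2) (Fin 2) F).trace = 2),
    decide (sqRep (g : Matrix (Fin 2) (Fin 2) F))))

theorem inv2_scalar (g : Matrix.SpecialLinearGroup (Fin 2) F)
    (h : IsScalar2 (g : Matrix (Fin 2) (Fin 2) F)) :
    inv2 g = Sum.inl (@decide ((g : Matrix (Fin 2) (Fin 2) F) 0 0 = 1) (Classical.propDecidable _)) := by
  unfold inv2
  rw [if_pos h]

theorem inv2_ss (g : Matrix.SpecialLinearGroup (Fin 2) F)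
    (h : ¬ IsScalar2 (g : Matrix (Fin 2) (Fin 2) F))
    (ht : (g : Matrix (Fin 2) (Fin 2) F).trace ^ 2 ≠ 4) :
    inv2 g = Sum.inr (Sum.inl ⟨(g : Matrix (Fin 2) (Fin 2) F).trace, ht⟩) := by
  unfold inv2
  rw [if_neg h, dif_pos ht]

theorem inv2_unip (g : Matrix.SpecialLinearGroup (Fin 2) F)
    (h : ¬ IsScalar2 (g : Matrix (Fin 2) (Fin 2) F))
    (ht : (g : Matrix (Fin 2) (Fin 2) F).trace ^ 2 = 4) :
    inv2 g = Sum.inr (Sum.inr
      (@decide ((g : Matrix (Fin 2) (Fin 2) F).trace = 2) (Classical.propDecidable _),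
       @decide (sqRep (g : Matrix (Fin 2) (Fin 2) F)) (Classical.propDecidable _))) := by
  unfold inv2
  rw [if_neg h, dif_neg (not_not.2 ht)]

theorem eq_of_scalar_conj (a c : Matrix.SpecialLinearGroup (Fin 2) F)
    (ha : IsScalar2 (a : Matrix (Fin 2) (Fin 2) F)) : c * a * c⁻¹ = a := by
  obtain ⟨x, hx⟩ := (isScalar2_iff _).1 ha
  apply Subtype.ext
  simp only [Matrix.SpecialLinearGroup.coe_mul]
  rw [hx]
  simp only [Matrix.mul_smul, Matrix.mul_one, Matrix.smul_mul]
  rw [← Matrix.SpecialLinearGroup.coe_mul, mul_inv_cancel]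
  simp

theorem scalar_entry (a : Matrix.SpecialLinearGroup (Fin 2) F)
    (ha : IsScalar2 (a : Matrix (Fin 2) (Fin 2) F)) :
    (a : Matrix (Fin 2) (Fin 2) F) 0 0 = 1 ∨ (a : Matrix (Fin 2) (Fin 2) F) 0 0 = -1 := by
  have hdet : (a : Matrix (Fin 2) (Fin 2) F).det = 1 := a.2
  rw [Matrix.det_fin_two, ha.1, ← ha.2.2] at hdet
  have h1 : ((a : Matrix (Fin 2) (Fin 2) F) 0 0 - 1) * ((a : Matrix (Fin 2) (Fin 2) F) 0 0 + 1) = 0 := by
    linear_combination hdet
  rcases mul_eq_zero.1 h1 with h | h
  · left; linear_combination h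
  · right; linear_combination h

theorem scalar_ext (a b : Matrix.SpecialLinearGroup (Fin 2) F)
    (ha : IsScalar2 (a : Matrix (Fin 2) (Fin 2) F)) (hb : IsScalar2 (b : Matrix (Fin 2) (Fin 2) F))
    (h0 : (a : Matrix (Fin 2) (Fin 2) F) 0 0 = (b : Matrix (Fin 2) (Fin 2) F) 0 0) : a = b := by
  apply Subtype.ext
  ext i j
  fin_cases i <;> fin_cases j <;> simp [ha.1, ha.2.1, hb.1, hb.2.1, h0]
  rw [← ha.2.2, ← hb.2.2, h0]

theorem trace_cases (t : F) (ht : t ^ 2 = 4) : t = 2 ∨ t = -2 := by
  have h1 : (t - 2) * (t + 2) = 0 := by linear_combination ht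
  rcases mul_eq_zero.1 h1 with h | h
  · left; linear_combination h
  · right; linear_combination h

theorem inv2_eq_iff [Fintype F] (h2 : (2 : F) ≠ 0) (a b : Matrix.SpecialLinearGroup (Fin 2) F) :
    inv2 a = inv2 b ↔ IsConj a b := by
  have h22 : (2 : F) ≠ -2 := by
    intro h
    apply h2
    have : (2 : F) * 2 = 0 := by linear_combination h
    exact (mul_self_eq_zero.1 this)
  constructor
  · intro h
    unfold inv2 at h
    by_cases ha : IsScalar2 (a : Matrix (Fin 2) (Fin 2) F)
    · by_cases hb : IsScalar2 (b : Matrix (Fin 2) (Fin 2) F)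
      · rw [if_pos ha, if_pos hb] at h
        have h' := Sum.inl.inj h
        rw [decide_eq_decide] at h'
        have : a = b := by
          apply scalar_ext a b ha hb
          rcases scalar_entry a ha with h1 | h1
          · rw [h1, (h'.1 h1)]
          · rcases scalar_entry b hb with h3 | h3
            · rw [h'.2 h3, h3]
            · rw [h1, h3]
        rw [this]
      · rw [if_pos ha, if_neg hb] at h
        split_ifs at h
    · by_cases hb : IsScalar2 (b : Matrix (Fin 2) (Fin 2) F)
      · rw [if_neg ha, if_pos hb] at h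
        split_ifs at h
      · rw [if_neg ha, if_neg hb] at h
        by_cases hta : (a : Matrix (Fin 2) (Fin 2) F).trace ^ 2 ≠ 4
        · by_cases htb : (b : Matrix (Fin 2) (Fin 2) F).trace ^ 2 ≠ 4
          · rw [dif_pos hta, dif_pos htb] at h
            have h' := Sum.inl.inj (Sum.inr.inj h)
            have ht : (a : Matrix (Fin 2) (Fin 2) F).trace = (b : Matrix (Fin 2) (Fin 2) F).trace :=
              congrArg Subtype.val h'
            exact sl2_isConj_of_trace_eq a b ha hb ht (Or.inr hta)
          · rw [dif_pos hta, dif_neg htb] at h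
            exact absurd (Sum.inr.inj h) (by simp)
        · by_cases htb : (b : Matrix (Fin 2) (Fin 2) F).trace ^ 2 ≠ 4
          · rw [dif_neg hta, dif_pos htb] at h
            exact absurd (Sum.inr.inj h) (by simp)
          · rw [dif_neg hta, dif_neg htb] at h
            have h' := Sum.inr.inj (Sum.inr.inj h)
            have h1 := congrArg Prod.fst h'
            have h3 := congrArg Prod.snd h'
            simp only [decide_eq_decide] at h1 h3
            rw [not_not] at hta htb
            have ht : (a : Matrix (Fin 2) (Fin 2) F).trace = (b : Matrix (Fin 2) (Fin 2) F).trace := by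
              rcases trace_cases _ hta with h4 | h4
              · rw [h4, h1.1 h4]
              · rcases trace_cases _ htb with h5 | h5
                · have := h1.2 h5
                  rw [h4] at this
                  exact absurd this.symm h22
                · rw [h4, h5]
            exact sl2_isConj_of_sqRep_iff h2 a b ha hb ht hta h3
  · intro h
    obtain ⟨c, rfl⟩ := isConj_iff.1 h
    by_cases ha : IsScalar2 (a : Matrix (Fin 2) (Fin 2) F)
    · rw [eq_of_scalar_conj a c ha]
    · have hb : ¬ IsScalar2 ((c * a * c⁻¹ : Matrix.SpecialLinearGroup (Fin 2) F) :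
          Matrix (Fin 2) (Fin 2) F) := by
        intro hb
        have h1 := eq_of_scalar_conj (c * a * c⁻¹) c⁻¹ hb
        have h3 : c⁻¹ * (c * a * c⁻¹) * c⁻¹⁻¹ = a := by group
        rw [h3] at h1
        exact ha (h1 ▸ hb)
      have htr : ((c * a * c⁻¹ : Matrix.SpecialLinearGroup (Fin 2) F) :
          Matrix (Fin 2) (Fin 2) F).trace = (a : Matrix (Fin 2) (Fin 2) F).trace := by
        simp only [Matrix.SpecialLinearGroup.coe_mul]
        rw [Matrix.trace_mul_comm, ← Matrix.mul_assoc, ← Matrix.SpecialLinearGroup.coe_mul,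
          inv_mul_cancel]
        simp
      have hsq := sqRep_conj a c
      by_cases hta : (a : Matrix (Fin 2) (Fin 2) F).trace ^ 2 ≠ 4
      · have htb : ((c * a * c⁻¹ : Matrix.SpecialLinearGroup (Fin 2) F) :
            Matrix (Fin 2) (Fin 2) F).trace ^ 2 ≠ 4 := by rw [htr]; exact hta
        rw [inv2_ss a ha hta, inv2_ss _ hb htb]
        congr 2
        exact Subtype.ext htr.symm
      · rw [not_not] at hta
        have htb : ((c * a * c⁻¹ : Matrix.SpecialLinearGroup (Fin 2) F) :
            Matrix (Fin 2) (Fin 2) F).trace ^ 2 = 4 := by rw [htr]; exact hta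
        rw [inv2_unip a ha hta, inv2_unip _ hb htb]
        congr 3
        · rw [decide_eq_decide, htr]
        · rw [decide_eq_decide]; exact hsq.symm

theorem inv2_surjective [Fintype F] (h2 : (2 : F) ≠ 0) (hF : ringChar F ≠ 2) :
    Function.Surjective (inv2 (F := F)) := by
  classical
  have h1n : (1 : F) ≠ -1 := by
    intro h
    apply h2
    linear_combination h
  have hscal : ∀ ε : F, IsScalar2 (ε • (1 : Matrix (Fin 2) (Fin 2) F)) := by
    intro ε
    rw [isScalar2_iff]; exact ⟨ε, rfl⟩
  rintro (b | ⟨t, ht⟩ | ⟨b1, b2⟩)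
  · -- scalars
    cases b
    · refine ⟨⟨(-1 : F) • (1 : Matrix (Fin 2) (Fin 2) F), by simp [Matrix.det_fin_two]⟩, ?_⟩
      unfold inv2
      rw [if_pos (hscal (-1))]
      simp
      exact fun h => h1n h.symm
    · refine ⟨1, ?_⟩
      unfold inv2
      rw [if_pos (by simpa using hscal 1)]
      simp
  · refine ⟨⟨comp2 t 1, comp2_det t 1⟩, ?_⟩
    have hs : ¬ IsScalar2 (comp2 t (1 : F)) := by
      rintro ⟨-, h3, -⟩
      simp [comp2] at h3
    unfold inv2
    rw [if_neg hs]
    have htr : (comp2 t (1 : F)).trace = t := comp2_trace t 1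
    simp only [htr]
    rw [dif_pos ht]
  · -- unipotent-like
    obtain ⟨ν, hν⟩ := FiniteField.exists_nonsquare hF
    have hν0 : ν ≠ 0 := by
      rintro rfl
      exact hν ⟨0, by simp⟩
    -- choose ε and β
    obtain ⟨ε, hε, hεdec⟩ : ∃ ε : F, ε ^ 2 = 1 ∧ decide (ε + ε = 2) = b1 := by
      cases b1
      · refine ⟨-1, by ring, ?_⟩
        simp only [decide_eq_false_iff_not]
        intro h
        apply h2
        have : (2 : F) * 2 = 0 := by linear_combination -h
        exact mul_self_eq_zero.1 this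
      · exact ⟨1, by ring, by simp; ring⟩
    obtain ⟨β, hβ0, hβdec⟩ : ∃ β : F, β ≠ 0 ∧ decide (IsSquare (-β)) = b2 := by
      cases b2
      · refine ⟨-ν, neg_ne_zero.2 hν0, ?_⟩
        simp only [neg_neg, decide_eq_false_iff_not]
        exact hν
      · refine ⟨-1, by simp, ?_⟩
        simp
    have hdet : (utri ε β).det = 1 := by
      simp [utri, Matrix.det_fin_two_of]
      linear_combination hε
    refine ⟨⟨utri ε β, hdet⟩, ?_⟩
    have hs : ¬ IsScalar2 (utri ε β) := by
      rintro ⟨h3, -, -⟩
      simp [utri] at h3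
      exact hβ0 h3
    have htr : (utri ε β).trace = ε + ε := by
      simp [utri, Matrix.trace_fin_two]
    have ht4 : ¬ (utri ε β).trace ^ 2 ≠ 4 := by
      rw [not_not, htr]
      linear_combination 4 * hε
    unfold inv2
    rw [if_neg hs]
    simp only []
    rw [dif_neg ht4]
    simp only [htr, sqRep_utri ε β hβ0, hεdec, hβdec]

theorem card_trace_ne [Fintype F] (h2 : (2 : F) ≠ 0) :
    Nat.card {t : F // t ^ 2 ≠ 4} = Fintype.card F - 2 := by
  classical
  have h22 : (2 : F) ≠ -2 := by
    intro h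
    apply h2
    have : (2 : F) * 2 = 0 := by linear_combination h
    exact (mul_self_eq_zero.1 this)
  rw [Nat.card_eq_fintype_card]
  have h1 : Fintype.card {t : F // ¬ (t ^ 2 = 4)} = Fintype.card F - Fintype.card {t : F // t ^ 2 = 4} :=
    Fintype.card_subtype_compl _
  have h3 : Fintype.card {t : F // t ^ 2 = 4} = 2 := by
    rw [Fintype.card_subtype]
    have : (Finset.univ.filter fun t : F => t ^ 2 = 4) = {2, -2} := by
      ext t
      simp only [Finset.mem_filter, Finset.mem_univ, true_and, Finset.mem_insert,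
        Finset.mem_singleton]
      constructor
      · exact trace_cases t
      · rintro (rfl | rfl) <;> ring
    rw [this, Finset.card_pair h22]
  rw [h3] at h1
  exact h1

theorem result {F : Type*} [Field F] [Fintype F] (hodd : Odd (Fintype.card F)) :
    Nat.card (ConjClasses (Matrix.SpecialLinearGroup (Fin 2) F)) = Fintype.card F + 4 := by
  classical
  have hF : ringChar F ≠ 2 := by
    intro h
    have := FiniteField.even_card_of_char_two h
    rcases hodd with ⟨k, hk⟩
    omega
  have h2 : (2 : F) ≠ 0 := Ring.two_ne_zero hF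
  rw [card_conjClasses_eq inv2 (inv2_eq_iff h2) (inv2_surjective h2 hF)]
  rw [Nat.card_sum, Nat.card_sum, Nat.card_prod, card_trace_ne h2]
  simp only [Nat.card_eq_fintype_card, Fintype.card_bool]
  have h3 : 3 ≤ Fintype.card F := by
    have h1 : 1 < Fintype.card F := Fintype.one_lt_card
    rcases hodd with ⟨k, hk⟩
    omega
  omega

end Cfsg.Agent.S2325
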