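import Cfsg.Statements.S2331
import Cfsg.Agent.Helper12.SL2Conj
import Cfsg.Agent.Helper12.ConjCount

set_option autoImplicit false
open Cfsg

namespace Cfsg.Agent.S2331

open Cfsg.Agent.Helper12

variable {F : Type*} [Field F]

open Classical in
/-- The complete conjugacy invariant on `SL₂` in characteristic 2. -/
noncomputable def inv2 (g : Matrix.SpecialLinearGroup (Fin 2) F) : Option F :=
  if IsScalar2 (g : Matrix (Fin 2) (Fin 2) F) then none
  else some (g : Matrix (Fin 2) (Fin 2) F).trace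

theorem eq_of_scalar_conj (a b c : Matrix.SpecialLinearGroup (Fin 2) F) (hc : c * a * c⁻¹ = b)
    (ha : IsScalar2 (a : Matrix (Fin 2) (Fin 2) F)) : a = b := by
  obtain ⟨x, hx⟩ := (isScalar2_iff _).1 ha
  rw [← hc]
  apply Subtype.ext
  simp only [Matrix.SpecialLinearGroup.coe_mul]
  rw [hx]
  simp only [Matrix.mul_smul, Matrix.mul_one, Matrix.smul_mul]
  rw [← Matrix.SpecialLinearGroup.coe_mul, mul_inv_cancel]
  simp

theorem scalar_eq_one [CharP F 2] (a : Matrix.SpecialLinearGroup (Fin 2) F)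
    (ha : IsScalar2 (a : Matrix (Fin 2) (Fin 2) F)) : a = 1 := by
  have hdet : (a : Matrix (Fin 2) (Fin 2) F).det = 1 := a.2
  rw [Matrix.det_fin_two, ha.1, ← ha.2.2] at hdet
  have h2 : (2 : F) = 0 := by
    have := CharP.cast_eq_zero F 2
    exact_mod_cast this
  have h1 : ((a : Matrix (Fin 2) (Fin 2) F) 0 0 - 1) * ((a : Matrix (Fin 2) (Fin 2) F) 0 0 - 1) = 0 := by
    linear_combination hdet - ((a : Matrix (Fin 2) (Fin 2) F) 0 0 - 1) * h2
  have h0 : (a : Matrix (Fin 2) (Fin 2) F) 0 0 = 1 := by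
    have := mul_self_eq_zero.mp h1
    linear_combination this
  apply Subtype.ext
  ext i j
  fin_cases i <;> fin_cases j <;> simp [ha.1, ha.2.1, h0]
  rw [← ha.2.2, h0]

theorem inv2_eq_iff [Fintype F] [CharP F 2] (a b : Matrix.SpecialLinearGroup (Fin 2) F) :
    inv2 a = inv2 b ↔ IsConj a b := by
  constructor
  · intro h
    unfold inv2 at h
    by_cases ha : IsScalar2 (a : Matrix (Fin 2) (Fin 2) F)
    · by_cases hb : IsScalar2 (b : Matrix (Fin 2) (Fin 2) F)
      · rw [scalar_eq_one a ha, scalar_eq_one b hb]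
      · rw [if_pos ha, if_neg hb] at h
        exact absurd h (by simp)
    · by_cases hb : IsScalar2 (b : Matrix (Fin 2) (Fin 2) F)
      · rw [if_neg ha, if_pos hb] at h
        exact absurd h (by simp)
      · rw [if_neg ha, if_neg hb] at h
        exact sl2_isConj_of_trace_eq a b ha hb (Option.some.inj h) (Or.inl (ringChar.eq F 2))
  · intro h
    obtain ⟨c, hc⟩ := isConj_iff.1 h
    by_cases ha : IsScalar2 (a : Matrix (Fin 2) (Fin 2) F)
    · rw [eq_of_scalar_conj a b c hc ha]
    · have hb : ¬ IsScalar2 (b : Matrix (Fin 2) (Fin 2) F) := by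
        intro hb
        have hc' : c⁻¹ * b * c⁻¹⁻¹ = a := by rw [← hc]; group
        have := eq_of_scalar_conj b a c⁻¹ hc' hb
        exact ha (this ▸ hb)
      unfold inv2
      rw [if_neg ha, if_neg hb]
      congr 1
      rw [← hc]
      simp only [Matrix.SpecialLinearGroup.coe_mul]
      rw [Matrix.trace_mul_comm, ← Matrix.mul_assoc, ← Matrix.SpecialLinearGroup.coe_mul,
        inv_mul_cancel]
      simp

theorem inv2_surjective : Function.Surjective (inv2 (F := F)) := by
  rintro (_ | t)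
  · refine ⟨1, ?_⟩
    unfold inv2
    rw [if_pos]
    rw [isScalar2_iff]
    exact ⟨1, by simp⟩
  · refine ⟨⟨comp2 t 1, comp2_det t 1⟩, ?_⟩
    have hs : ¬ IsScalar2 (comp2 t (1 : F)) := by
      rintro ⟨-, h2, -⟩
      simp [comp2] at h2
    unfold inv2
    rw [if_neg hs]
    congr 1
    exact comp2_trace t 1

theorem result {F : Type*} [Field F] [Fintype F] [CharP F 2] :
    Nat.card (ConjClasses (Matrix.SpecialLinearGroup (Fin 2) F)) = Fintype.card F + 1 := by
  classical
  rw [card_conjClasses_eq inv2 inv2_eq_iff inv2_surjective]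
  rw [Nat.card_eq_fintype_card, Fintype.card_option]

end Cfsg.Agent.S2331
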