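import Cfsg.Statements.S2303
import Cfsg.Agent.Helper12.Mat2

set_option autoImplicit false
open Cfsg

namespace Cfsg.Agent.S2303

open Cfsg.Agent.Helper12

variable {F : Type*} [Field F]

theorem mem_centralizer_iff' (g z : Matrix.GeneralLinearGroup (Fin 2) F) :
    z ∈ Subgroup.centralizer ({g} : Set (Matrix.GeneralLinearGroup (Fin 2) F)) ↔
      (g : Matrix (Fin 2) (Fin 2) F) * (z : Matrix (Fin 2) (Fin 2) F) =
        (z : Matrix (Fin 2) (Fin 2) F) * (g : Matrix (Fin 2) (Fin 2) F) := by
  rw [Subgroup.mem_centralizer_iff]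
  simp only [Set.mem_singleton_iff, forall_eq]
  constructor
  · intro h
    have := congrArg (fun u : Matrix.GeneralLinearGroup (Fin 2) F =>
      (u : Matrix (Fin 2) (Fin 2) F)) h
    simpa using this
  · intro h
    apply Units.ext
    simpa using h

theorem entries_of_comm (A Z : Matrix (Fin 2) (Fin 2) F) (h : A * Z = Z * A) :
    A 0 1 * Z 1 0 = Z 0 1 * A 1 0 ∧
    A 0 0 * Z 0 1 + A 0 1 * Z 1 1 = Z 0 0 * A 0 1 + Z 0 1 * A 1 1 ∧
    A 1 0 * Z 0 0 + A 1 1 * Z 1 0 = Z 1 0 * A 0 0 + Z 1 1 * A 1 0 := by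
  have e00 := congrFun (congrFun h 0) 0
  have e01 := congrFun (congrFun h 0) 1
  have e10 := congrFun (congrFun h 1) 0
  simp only [Matrix.mul_apply, Fin.sum_univ_two] at e00 e01 e10
  refine ⟨?_, e01, e10⟩
  linear_combination e00

/-- First part: the centralizer of a diagonal element with distinct entries. -/
theorem card_centralizer_diag [Fintype F] (g : Matrix.GeneralLinearGroup (Fin 2) F)
    (h01 : (g : Matrix (Fin 2) (Fin 2) F) 0 1 = 0) (h10 : (g : Matrix (Fin 2) (Fin 2) F) 1 0 = 0)
    (hne : (g : Matrix (Fin 2) (Fin 2) F) 0 0 ≠ (g : Matrix (Fin 2) (Fin 2) F) 1 1) :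
    Nat.card (Subgroup.centralizer ({g} : Set (Matrix.GeneralLinearGroup (Fin 2) F))) =
      (Fintype.card F - 1) ^ 2 := by
  classical
  have hsub : (g : Matrix (Fin 2) (Fin 2) F) 0 0 - (g : Matrix (Fin 2) (Fin 2) F) 1 1 ≠ 0 :=
    sub_ne_zero.2 hne
  have hdiag : ∀ z : Matrix.GeneralLinearGroup (Fin 2) F,
      z ∈ Subgroup.centralizer ({g} : Set (Matrix.GeneralLinearGroup (Fin 2) F)) ↔
        (z : Matrix (Fin 2) (Fin 2) F) 0 1 = 0 ∧ (z : Matrix (Fin 2) (Fin 2) F) 1 0 = 0 := by
    intro z
    rw [mem_centralizer_iff']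
    constructor
    · intro h
      obtain ⟨-, e2, e3⟩ := entries_of_comm _ _ h
      rw [h01] at e2
      rw [h10] at e3
      constructor
      · have : (z : Matrix (Fin 2) (Fin 2) F) 0 1 *
            ((g : Matrix (Fin 2) (Fin 2) F) 0 0 - (g : Matrix (Fin 2) (Fin 2) F) 1 1) = 0 := by
          linear_combination e2
        exact (mul_eq_zero.1 this).resolve_right hsub
      · have : (z : Matrix (Fin 2) (Fin 2) F) 1 0 *
            ((g : Matrix (Fin 2) (Fin 2) F) 0 0 - (g : Matrix (Fin 2) (Fin 2) F) 1 1) = 0 := by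
          linear_combination -e3
        exact (mul_eq_zero.1 this).resolve_right hsub
    · rintro ⟨z01, z10⟩
      ext i j
      fin_cases i <;> fin_cases j <;>
        simp [Matrix.mul_apply, Fin.sum_univ_two, h01, h10, z01, z10, mul_comm]
  let f : Fˣ × Fˣ → Subgroup.centralizer ({g} : Set (Matrix.GeneralLinearGroup (Fin 2) F)) :=
    fun p => ⟨Matrix.GeneralLinearGroup.mkOfDetNeZero !![(p.1 : F), 0; 0, (p.2 : F)]
      (by rw [Matrix.det_fin_two_of]; simp), by
      rw [hdiag]
      simp [Matrix.GeneralLinearGroup.mkOfDetNeZero]⟩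
  have hbij : Function.Bijective f := by
    constructor
    · rintro ⟨u, w⟩ ⟨u', w'⟩ h
      have h1 := congrArg (fun z : Subgroup.centralizer ({g} : Set (Matrix.GeneralLinearGroup (Fin 2) F)) =>
        ((z : Matrix.GeneralLinearGroup (Fin 2) F) : Matrix (Fin 2) (Fin 2) F)) h
      simp only [f, Matrix.GeneralLinearGroup.mkOfDetNeZero] at h1
      have e0 := congrFun (congrFun h1 0) 0
      have e1 := congrFun (congrFun h1 1) 1
      simp at e0 e1
      exact Prod.ext (Units.ext e0) (Units.ext e1)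
    · rintro ⟨z, hz⟩
      obtain ⟨z01, z10⟩ := (hdiag z).1 hz
      have hdet : (z : Matrix (Fin 2) (Fin 2) F).det ≠ 0 := by
        have := z.isUnit.map Matrix.detMonoidHom
        simpa using this.ne_zero
      rw [Matrix.det_fin_two, z01] at hdet
      have h0 : (z : Matrix (Fin 2) (Fin 2) F) 0 0 ≠ 0 := by
        intro h; apply hdet; rw [h]; ring
      have h1 : (z : Matrix (Fin 2) (Fin 2) F) 1 1 ≠ 0 := by
        intro h; apply hdet; rw [h]; ring
      refine ⟨(Units.mk0 _ h0, Units.mk0 _ h1), ?_⟩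
      apply Subtype.ext
      apply Units.ext
      simp only [f, Matrix.GeneralLinearGroup.mkOfDetNeZero]
      ext i j
      fin_cases i <;> fin_cases j <;> simp [z01, z10]
  rw [← Nat.card_eq_of_bijective f hbij, Nat.card_eq_fintype_card, Fintype.card_prod,
    Fintype.card_units]
  ring

/-- The norm form of `x + y A`. -/
theorem det_add_smul (A : Matrix (Fin 2) (Fin 2) F) (x y : F) :
    (x • (1 : Matrix (Fin 2) (Fin 2) F) + y • A).det = x ^ 2 + A.trace * x * y + A.det * y ^ 2 := by
  simp [Matrix.det_fin_two, Matrix.trace_fin_two]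
  ring

/-- Second part: the centralizer of an element without eigenvectors. -/
theorem card_centralizer_irred [Fintype F] (g : Matrix.GeneralLinearGroup (Fin 2) F)
    (hg : ∀ (c : F) (v : Fin 2 → F), v ≠ 0 → (g : Matrix (Fin 2) (Fin 2) F).mulVec v ≠ c • v) :
    Nat.card (Subgroup.centralizer ({g} : Set (Matrix.GeneralLinearGroup (Fin 2) F))) =
      Fintype.card F ^ 2 - 1 := by
  classical
  set A := (g : Matrix (Fin 2) (Fin 2) F) with hA
  -- the lower-left entry is nonzero
  have hc : A 1 0 ≠ 0 := by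
    intro h
    apply hg (A 0 0) ![1, 0] (by simp)
    ext i
    fin_cases i <;> simp [Matrix.mulVec, dotProduct, Fin.sum_univ_two, h]
  -- the norm form does not vanish
  have hnorm : ∀ x y : F, (x, y) ≠ (0, 0) → (x • (1 : Matrix (Fin 2) (Fin 2) F) + y • A).det ≠ 0 := by
    intro x y hxy hdet
    rw [det_add_smul] at hdet
    by_cases hy : y = 0
    · subst hy
      have hx : x = 0 := by
        have : x ^ 2 = 0 := by linear_combination hdet
        exact pow_eq_zero_iff (by norm_num) |>.1 this
      exact hxy (by rw [hx])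
    · -- eigenvalue l = -x / y
      obtain ⟨l, hl⟩ : ∃ l : F, l * y = -x := ⟨-x / y, div_mul_cancel₀ _ hy⟩
      have hx : x = -(l * y) := by rw [hl]; ring
      rw [Matrix.trace_fin_two, Matrix.det_fin_two] at hdet
      have key : l ^ 2 - (A 0 0 + A 1 1) * l + (A 0 0 * A 1 1 - A 0 1 * A 1 0) = 0 := by
        have : y ^ 2 * (l ^ 2 - (A 0 0 + A 1 1) * l + (A 0 0 * A 1 1 - A 0 1 * A 1 0)) = 0 := by
          rw [hx] at hdet; linear_combination hdet
        exact (mul_eq_zero.1 this).resolve_left (pow_ne_zero 2 hy)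
      apply hg l ![l - A 1 1, A 1 0] (by
        intro h
        have := congrFun h 1
        simp at this
        exact hc this)
      ext i
      fin_cases i
      · simp [Matrix.mulVec, dotProduct, Fin.sum_univ_two]
        linear_combination -key
      · simp [Matrix.mulVec, dotProduct, Fin.sum_univ_two]
        ring
  let f : {p : F × F | p ≠ (0, 0)} → Subgroup.centralizer ({g} : Set (Matrix.GeneralLinearGroup (Fin 2) F)) :=
    fun p => ⟨Matrix.GeneralLinearGroup.mkOfDetNeZero
      ((p.1.1 : F) • (1 : Matrix (Fin 2) (Fin 2) F) + (p.1.2 : F) • A) (hnorm p.1.1 p.1.2 p.2), by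
      rw [mem_centralizer_iff']
      simp only [Matrix.GeneralLinearGroup.mkOfDetNeZero]
      show A * (_ • (1 : Matrix (Fin 2) (Fin 2) F) + _ • A) = (_ • (1 : Matrix (Fin 2) (Fin 2) F) + _ • A) * A
      rw [mul_add, add_mul]
      simp⟩
  have hbij : Function.Bijective f := by
    constructor
    · rintro ⟨⟨x, y⟩, hxy⟩ ⟨⟨x', y'⟩, hxy'⟩ h
      have h1 := congrArg (fun z : Subgroup.centralizer ({g} : Set (Matrix.GeneralLinearGroup (Fin 2) F)) =>
        ((z : Matrix.GeneralLinearGroup (Fin 2) F) : Matrix (Fin 2) (Fin 2) F)) h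
      simp only [f, Matrix.GeneralLinearGroup.mkOfDetNeZero] at h1
      have e10 := congrFun (congrFun h1 1) 0
      have e00 := congrFun (congrFun h1 0) 0
      simp at e10 e00
      have hy : y = y' := by
        rcases e10 with h | h
        · exact h
        · exact absurd h hc
      subst hy
      have hx : x = x' := by linear_combination e00
      subst hx
      rfl
    · rintro ⟨z, hz⟩
      rw [mem_centralizer_iff'] at hz
      obtain ⟨e1, e2, e3⟩ := entries_of_comm _ _ hz
      set Z := (z : Matrix (Fin 2) (Fin 2) F) with hZ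
      obtain ⟨y, hyc⟩ : ∃ y : F, y * A 1 0 = Z 1 0 := ⟨Z 1 0 / A 1 0, div_mul_cancel₀ _ hc⟩
      obtain ⟨x, hx⟩ : ∃ x : F, x = Z 0 0 - y * A 0 0 := ⟨_, rfl⟩
      have hZeq : Z = x • (1 : Matrix (Fin 2) (Fin 2) F) + y • A := by
        ext i j
        fin_cases i <;> fin_cases j
        · simp [hx]
        · simp
          have : Z 0 1 * A 1 0 = y * A 0 1 * A 1 0 := by
            rw [← e1]; linear_combination -(A 0 1) * hyc
          exact mul_right_cancel₀ hc this
        · simp [hyc]
        · simp [hx]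
          have : (Z 1 1 - (Z 0 0 - y * A 0 0 + y * A 1 1)) * A 1 0 = 0 := by
            linear_combination -e3 + (A 0 0 - A 1 1) * hyc
          have := (mul_eq_zero.1 this).resolve_right hc
          linear_combination this
      have hxy : (x, y) ≠ (0, 0) := by
        intro h
        have hx0 : x = 0 := congrArg Prod.fst h
        have hy0 : y = 0 := congrArg Prod.snd h
        have hdet : Z.det ≠ 0 := by
          have := z.isUnit.map Matrix.detMonoidHom
          simpa using this.ne_zero
        apply hdet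
        rw [hZeq, hx0, hy0]
        simp
      refine ⟨⟨(x, y), hxy⟩, ?_⟩
      apply Subtype.ext
      apply Units.ext
      simp only [f, Matrix.GeneralLinearGroup.mkOfDetNeZero]
      exact hZeq.symm
  rw [← Nat.card_eq_of_bijective f hbij, Nat.card_eq_fintype_card, Set.card_ne_eq,
    Fintype.card_prod]
  ring_nf

theorem result {F : Type*} [Field F] [Fintype F] (g : Matrix.GeneralLinearGroup (Fin 2) F) :
    ((g : Matrix (Fin 2) (Fin 2) F) 0 1 = 0 → (g : Matrix (Fin 2) (Fin 2) F) 1 0 = 0 → (g : Matrix (Fin 2) (Fin 2) F) 0 0 ≠ (g : Matrix (Fin 2) (Fin 2) F) 1 1 →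
      Nat.card (Subgroup.centralizer ({g} : Set (Matrix.GeneralLinearGroup (Fin 2) F))) = (Fintype.card F - 1) ^ 2) ∧
    ((∀ (c : F) (v : Fin 2 → F), v ≠ 0 → (g : Matrix (Fin 2) (Fin 2) F).mulVec v ≠ c • v) →
      Nat.card (Subgroup.centralizer ({g} : Set (Matrix.GeneralLinearGroup (Fin 2) F))) = Fintype.card F ^ 2 - 1) :=
  ⟨card_centralizer_diag g, card_centralizer_irred g⟩

end Cfsg.Agent.S2303
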