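import Cfsg.Statements.S2299
import Cfsg.Agent.Helper12.SL2TableOdd

set_option autoImplicit false
open Cfsg Cfsg.Agent.Helper12 Cfsg.Agent.Helper24

namespace Cfsg.Agent.S2299

/-- Twice the number of irreducible characters of a given degree. -/
theorem two_mul_card_degree {F : Type*} [Field F] [Fintype F] [DecidableEq F]
    (hodd : Odd (Fintype.card F)) (c : ℂ) :
    2 * (Nat.card {χ : Cfsg.IrrCharacter (Matrix.SpecialLinearGroup (Fin 2) F) //
      (χ : Matrix.SpecialLinearGroup (Fin 2) F → ℂ) 1 = c} : ℂ) =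
      ((if c = (Fintype.card F : ℂ) - 1 then (Fintype.card F : ℂ) - 1 else 0) +
        (if 2 * c = (Fintype.card F : ℂ) - 1 then 4 else 0)) +
      (2 * ((if (1 : ℂ) = c then 1 else 0) + (if (Fintype.card F : ℂ) = c then 1 else 0)) +
        4 * (if (((Fintype.card F + 1) / 2 : ℕ) : ℂ) = c then 1 else 0) +
        ((Fintype.card F : ℂ) - 3) * (if (Fintype.card F : ℂ) + 1 = c then 1 else 0)) := by
  classical
  have : Fintype (IrrCharacter (Matrix.SpecialLinearGroup (Fin 2) F)) := Fintype.ofFinite _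
  have h := irr_sum_degreeS_odd hodd (F := F) (fun x => if x = c then (1 : ℂ) else 0)
  have h1 : (Nat.card {χ : Cfsg.IrrCharacter (Matrix.SpecialLinearGroup (Fin 2) F) //
      (χ : Matrix.SpecialLinearGroup (Fin 2) F → ℂ) 1 = c} : ℂ) =
      ∑ χ : IrrCharacter (Matrix.SpecialLinearGroup (Fin 2) F),
        (if (χ : Matrix.SpecialLinearGroup (Fin 2) F → ℂ) 1 = c then (1 : ℂ) else 0) := by
    rw [Nat.card_eq_fintype_card, Fintype.card_subtype, Finset.sum_boole]
  rw [h1, h, cusp_degree_count_odd hodd c]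

/-- The same count in natural numbers. -/
theorem two_mul_card_degree_nat {F : Type*} [Field F] [Fintype F] [DecidableEq F]
    (hodd : Odd (Fintype.card F)) (r : ℕ) (hr : Fintype.card F = 2 * r + 5) (n : ℕ) :
    2 * Nat.card {χ : Cfsg.IrrCharacter (Matrix.SpecialLinearGroup (Fin 2) F) //
      (χ : Matrix.SpecialLinearGroup (Fin 2) F → ℂ) 1 = (n : ℂ)} =
      ((if n = 2 * r + 4 then 2 * r + 4 else 0) + (if 2 * n = 2 * r + 4 then 4 else 0)) +
      (2 * ((if 1 = n then 1 else 0) + (if 2 * r + 5 = n then 1 else 0)) +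
        4 * (if r + 3 = n then 1 else 0) + (2 * r + 2) * (if 2 * r + 6 = n then 1 else 0)) := by
  have h := two_mul_card_degree hodd (F := F) (n : ℂ)
  have e1 : (Fintype.card F + 1) / 2 = r + 3 := by omega
  have c2 : (Fintype.card F : ℂ) = ((2 * r + 5 : ℕ) : ℂ) := by rw [hr]
  have c3 : (Fintype.card F : ℂ) + 1 = ((2 * r + 6 : ℕ) : ℂ) := by rw [hr]; push_cast; ring
  have c4 : (Fintype.card F : ℂ) - 1 = ((2 * r + 4 : ℕ) : ℂ) := by rw [hr]; push_cast; ring
  have c5 : (Fintype.card F : ℂ) - 3 = ((2 * r + 2 : ℕ) : ℂ) := by rw [hr]; push_cast; ring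
  have c6 : (2 : ℂ) * (n : ℂ) = ((2 * n : ℕ) : ℂ) := by push_cast; ring
  have c7 : (1 : ℂ) = ((1 : ℕ) : ℂ) := by norm_num
  rw [e1, c3, c4, c5, c2, c6] at h
  rw [c7] at h
  simp only [Nat.cast_inj] at h
  have h' : ((2 * Nat.card {χ : Cfsg.IrrCharacter (Matrix.SpecialLinearGroup (Fin 2) F) //
      (χ : Matrix.SpecialLinearGroup (Fin 2) F → ℂ) 1 = (n : ℂ)} : ℕ) : ℂ) =
      (((((if n = 2 * r + 4 then 2 * r + 4 else 0) + (if 2 * n = 2 * r + 4 then 4 else 0)) +
      (2 * ((if 1 = n then 1 else 0) + (if 2 * r + 5 = n then 1 else 0)) +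
        4 * (if r + 3 = n then 1 else 0) + (2 * r + 2) * (if 2 * r + 6 = n then 1 else 0))) : ℕ) : ℂ) := by
    push_cast
    rw [h]
    push_cast
    try ring
  exact_mod_cast h'

/-- Over a finite field F with q elements, q odd, every irreducible complex character of SL₂ has degree 1, q, q + 1, q − 1, (q + 1)/2 or (q − 1)/2; and when q ≥ 5 (so that these six numbers are distinct) there are exactly one irreducible character of degree 1, one of degree q, (q − 3)/2 of degree q + 1, (q − 1)/2 of degree q − 1, two of degree (q + 1)/2 and two of degree (q − 1)/2. -/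
theorem result {F : Type*} [Field F] [Fintype F] (hodd : Odd (Fintype.card F)) :
    (∀ χ : Matrix.SpecialLinearGroup (Fin 2) F → ℂ, Cfsg.IsIrrCharacter (Matrix.SpecialLinearGroup (Fin 2) F) χ →
      χ 1 = 1 ∨ χ 1 = (Fintype.card F : ℂ) ∨ χ 1 = (Fintype.card F : ℂ) + 1 ∨ χ 1 = (Fintype.card F : ℂ) - 1 ∨
        χ 1 = (((Fintype.card F + 1) / 2 : ℕ) : ℂ) ∨ χ 1 = (((Fintype.card F - 1) / 2 : ℕ) : ℂ)) ∧
    (5 ≤ Fintype.card F →
      Nat.card {χ : Cfsg.IrrCharacter (Matrix.SpecialLinearGroup (Fin 2) F) // (χ : Matrix.SpecialLinearGroup (Fin 2) F → ℂ) 1 = 1} = 1 ∧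
      Nat.card {χ : Cfsg.IrrCharacter (Matrix.SpecialLinearGroup (Fin 2) F) // (χ : Matrix.SpecialLinearGroup (Fin 2) F → ℂ) 1 = (Fintype.card F : ℂ)} = 1 ∧
      Nat.card {χ : Cfsg.IrrCharacter (Matrix.SpecialLinearGroup (Fin 2) F) // (χ : Matrix.SpecialLinearGroup (Fin 2) F → ℂ) 1 = (Fintype.card F : ℂ) + 1} = (Fintype.card F - 3) / 2 ∧
      Nat.card {χ : Cfsg.IrrCharacter (Matrix.SpecialLinearGroup (Fin 2) F) // (χ : Matrix.SpecialLinearGroup (Fin 2) F → ℂ) 1 = (Fintype.card F : ℂ) - 1} = (Fintype.card F - 1) / 2 ∧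
      Nat.card {χ : Cfsg.IrrCharacter (Matrix.SpecialLinearGroup (Fin 2) F) // (χ : Matrix.SpecialLinearGroup (Fin 2) F → ℂ) 1 = (((Fintype.card F + 1) / 2 : ℕ) : ℂ)} = 2 ∧
      Nat.card {χ : Cfsg.IrrCharacter (Matrix.SpecialLinearGroup (Fin 2) F) // (χ : Matrix.SpecialLinearGroup (Fin 2) F → ℂ) 1 = (((Fintype.card F - 1) / 2 : ℕ) : ℂ)} = 2) := by
  classical
  have hq0 := card_ne_zero_cast (F := F)
  have hq1 := card_ne_one_cast (F := F)
  have hF := ringChar_ne_two_of_odd hodd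
  obtain ⟨ε, hε⟩ := FiniteField.exists_nonsquare hF
  obtain ⟨hh1, hh2⟩ := half_cast_odd hodd
  constructor
  · intro χ hχ
    rcases sl2_odd_irr_cases hodd hε χ hχ with rfl | rfl | ⟨α, _, rfl⟩ | h | ⟨_, ⟨h1, _⟩ | ⟨h1, _⟩⟩
    · left; rfl
    · right; left; exact stS_one
    · right; right; left; exact psS_one α
    · right; right; right; right; left
      rcases h with rfl | rfl
      · exact (pairS_sgn_spec hodd).1
      · exact (pairS_sgn_spec hodd).2.1
    · right; right; right; left; exact h1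
    · right; right; right; right; right
      have : 2 * χ 1 = 2 * (((Fintype.card F - 1) / 2 : ℕ) : ℂ) := by rw [h1, hh2]
      exact mul_left_cancel₀ two_ne_zero this
  · intro hq
    obtain ⟨r, hr⟩ : ∃ r : ℕ, Fintype.card F = 2 * r + 5 := by
      obtain ⟨k, hk⟩ := hodd
      exact ⟨k - 2, by omega⟩
    have e1 : (Fintype.card F + 1) / 2 = r + 3 := by omega
    have e2 : (Fintype.card F - 1) / 2 = r + 2 := by omega
    have e3 : (Fintype.card F - 3) / 2 = r + 1 := by omega
    have key := two_mul_card_degree_nat hodd (F := F) r hr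
    have c1 : (1 : ℂ) = ((1 : ℕ) : ℂ) := by norm_num
    have c2 : (Fintype.card F : ℂ) = ((2 * r + 5 : ℕ) : ℂ) := by rw [hr]
    have c3 : (Fintype.card F : ℂ) + 1 = ((2 * r + 6 : ℕ) : ℂ) := by rw [hr]; push_cast; ring
    have c4 : (Fintype.card F : ℂ) - 1 = ((2 * r + 4 : ℕ) : ℂ) := by rw [hr]; push_cast; ring
    rw [e1, e2, e3, c3, c4, c2, c1]
    refine ⟨?_, ?_, ?_, ?_, ?_, ?_⟩
    · have h := key 1
      split_ifs at h <;> omega
    · have h := key (2 * r + 5)
      split_ifs at h <;> omega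
    · have h := key (2 * r + 6)
      split_ifs at h <;> omega
    · have h := key (2 * r + 4)
      split_ifs at h <;> omega
    · have h := key (r + 3)
      split_ifs at h <;> omega
    · have h := key (r + 2)
      split_ifs at h <;> omega

end Cfsg.Agent.S2299
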