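import Mathlib
import Cfsg.Statements.S0952
import Cfsg.Agent.Helper5.BlockOrth
import Cfsg.Agent.Helper24.Orthogonality

set_option autoImplicit false
open scoped ComplexConjugate
open Cfsg

namespace Cfsg.Agent.S0952

open Cfsg.Agent.Helper5.CC Cfsg.Agent.Helper5.Loc Cfsg.Agent.Helper24

/-- First orthogonality in sum form. -/
theorem sum_mul_conj_irr {G : Type*} [Group G] [Fintype G] (θ χ : IrrCharacter G) :
    ∑ x : G, (θ : G → ℂ) x * (starRingEnd ℂ) ((χ : G → ℂ) x) =
      if θ = χ then (Nat.card G : ℂ) else 0 := by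
  classical
  have h := classInner_irr θ χ
  unfold classInner at h
  have hcard : (Nat.card G : ℂ) ≠ 0 := by
    have : 0 < Nat.card G := Nat.card_pos
    exact_mod_cast this.ne'
  rw [inv_mul_eq_iff_eq_mul₀ hcard] at h
  rw [h]
  split_ifs <;> simp

/-- Let χ and ψ be irreducible characters of the finite group G lying in different blocks relative to a maximal ideal M of the algebraic integers containing the prime p. Then the sum of χ x * conj (ψ x) over the elements x of order prime to p is zero. -/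
theorem result {G : Type*} [Group G] [Finite G] (p : ℕ) [Fact p.Prime] (M : Ideal Cfsg.AlgInt) (hM : Cfsg.IsPModular p M) (χ ψ : Cfsg.IrrCharacter G) (h : ¬ Cfsg.SameBlock M (χ : G → ℂ) (ψ : G → ℂ)) : ∑ᶠ x ∈ {x : G | ¬ p ∣ orderOf x}, (χ : G → ℂ) x * conj ((ψ : G → ℂ) x) = 0 := by
  classical
  have : Fintype G := Fintype.ofFinite G
  have : Fintype (IrrCharacter G) := Fintype.ofFinite _
  have hMp := isPrime_of_isPModular hM
  rw [finsum_mem_eq_sum_ite]
  set B := blockOf M (χ : G → ℂ) with hBdef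
  have hB : IsPBlock M B := isPBlock_blockOf χ
  have hχB : χ ∈ B := mem_blockOf_self hMp χ
  have hψB : ψ ∉ B := h
  -- the regularity indicator
  let r : G → ℂ := fun x => if p ∣ orderOf x then 0 else 1
  let F : G → G → ℂ := fun x y => ∑ θ : IrrCharacter G, (if θ ∈ B then (1 : ℂ) else 0) *
      ((θ : G → ℂ) x * (starRingEnd ℂ) ((θ : G → ℂ) y))
  have hFconj : ∀ x y, F x y = (starRingEnd ℂ) (F y x) := by
    intro x y
    simp only [F]
    rw [map_sum]
    refine Finset.sum_congr rfl fun θ _ => ?_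
    split_ifs <;> simp [mul_comm]
  have hF : ∀ x y, F x y * r y = F x y * r x := by
    intro x y
    by_cases hx : p ∣ orderOf x <;> by_cases hy : p ∣ orderOf y
    · simp only [r, if_pos hx, if_pos hy]
    · have h0 : F x y = 0 := by
        rw [hFconj, show F y x = 0 from block_orthogonality hM hB y x hy hx, map_zero]
      rw [h0, zero_mul, zero_mul]
    · have h0 : F x y = 0 := block_orthogonality hM hB x y hx hy
      rw [h0, zero_mul, zero_mul]
    · simp only [r, if_neg hx, if_neg hy]
  -- the double sum, computed in two ways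
  have hU1 : ∑ y : G, ∑ x : G, (starRingEnd ℂ) ((χ : G → ℂ) x) * (F x y * r y) * (ψ : G → ℂ) y =
      (Nat.card G : ℂ) * ∑ y : G, r y * ((ψ : G → ℂ) y * (starRingEnd ℂ) ((χ : G → ℂ) y)) := by
    rw [Finset.mul_sum]
    refine Finset.sum_congr rfl fun y _ => ?_
    have e1 : ∑ x : G, (starRingEnd ℂ) ((χ : G → ℂ) x) * F x y =
        (Nat.card G : ℂ) * (starRingEnd ℂ) ((χ : G → ℂ) y) := by
      simp only [F, Finset.mul_sum]
      rw [Finset.sum_comm]
      rw [Finset.sum_eq_single χ]
      · rw [if_pos hχB]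
        have := sum_mul_conj_irr χ χ
        rw [if_pos rfl] at this
        rw [← this, Finset.sum_mul]
        refine Finset.sum_congr rfl fun x _ => ?_
        ring
      · intro θ _ hθ
        have := sum_mul_conj_irr θ χ
        rw [if_neg hθ] at this
        have e2 : ∑ x : G, (starRingEnd ℂ) ((χ : G → ℂ) x) * ((if θ ∈ B then (1 : ℂ) else 0) *
            ((θ : G → ℂ) x * (starRingEnd ℂ) ((θ : G → ℂ) y))) =
            ((if θ ∈ B then (1 : ℂ) else 0) * (starRingEnd ℂ) ((θ : G → ℂ) y)) *
            ∑ x : G, (θ : G → ℂ) x * (starRingEnd ℂ) ((χ : G → ℂ) x) := by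
          rw [Finset.mul_sum]
          refine Finset.sum_congr rfl fun x _ => ?_
          ring
        rw [e2, this, mul_zero]
      · intro hh; exact absurd (Finset.mem_univ _) hh
    have e3 : ∑ x : G, (starRingEnd ℂ) ((χ : G → ℂ) x) * (F x y * r y) * (ψ : G → ℂ) y =
        (∑ x : G, (starRingEnd ℂ) ((χ : G → ℂ) x) * F x y) * (r y * (ψ : G → ℂ) y) := by
      rw [Finset.sum_mul]
      refine Finset.sum_congr rfl fun x _ => ?_
      ring
    rw [e3, e1]
    ring
  have hU2 : ∑ y : G, ∑ x : G, (starRingEnd ℂ) ((χ : G → ℂ) x) * (F x y * r y) * (ψ : G → ℂ) y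
      = 0 := by
    rw [Finset.sum_comm]
    apply Finset.sum_eq_zero
    intro x _
    have e1 : ∑ y : G, F x y * (ψ : G → ℂ) y = 0 := by
      simp only [F, Finset.sum_mul]
      rw [Finset.sum_comm]
      apply Finset.sum_eq_zero
      intro θ _
      by_cases hθ : θ ∈ B
      · have hne : ψ ≠ θ := fun hh => hψB (hh ▸ hθ)
        have := sum_mul_conj_irr ψ θ
        rw [if_neg hne] at this
        have e2 : ∑ y : G, (if θ ∈ B then (1 : ℂ) else 0) *
            ((θ : G → ℂ) x * (starRingEnd ℂ) ((θ : G → ℂ) y)) * (ψ : G → ℂ) y =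
            ((if θ ∈ B then (1 : ℂ) else 0) * (θ : G → ℂ) x) *
            ∑ y : G, (ψ : G → ℂ) y * (starRingEnd ℂ) ((θ : G → ℂ) y) := by
          rw [Finset.mul_sum]
          refine Finset.sum_congr rfl fun y _ => ?_
          ring
        rw [e2, this, mul_zero]
      · simp [if_neg hθ]
    have e3 : ∑ y : G, (starRingEnd ℂ) ((χ : G → ℂ) x) * (F x y * r y) * (ψ : G → ℂ) y =
        ((starRingEnd ℂ) ((χ : G → ℂ) x) * r x) * ∑ y : G, F x y * (ψ : G → ℂ) y := by
      rw [Finset.mul_sum]
      refine Finset.sum_congr rfl fun y _ => ?_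
      rw [hF x y]
      ring
    rw [e3, e1, mul_zero]
  rw [hU1] at hU2
  have hcard : (Nat.card G : ℂ) ≠ 0 := by
    have : 0 < Nat.card G := Nat.card_pos
    exact_mod_cast this.ne'
  have h3 := (mul_eq_zero.mp hU2).resolve_left hcard
  have h4 := congrArg (starRingEnd ℂ) h3
  rw [map_zero, map_sum] at h4
  refine Eq.trans ?_ h4
  refine Finset.sum_congr rfl fun x _ => ?_
  simp only [Set.mem_ofPred_eq, r]
  by_cases hx : p ∣ orderOf x
  · simp [hx]
  · simp [hx, mul_comm]

end Cfsg.Agent.S0952
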