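import Mathlib
import Cfsg.Statements.S0916
import Cfsg.Agent.Helper14.SylowIn
import Cfsg.Agent.Helper11.SylowInter

set_option autoImplicit false
open Cfsg

namespace Cfsg.Agent.S0916

open Cfsg.Agent.Helper14 Cfsg.Agent.Helper11

variable {G : Type*} [Group G]

theorem mem_centralizer_singleton_iff (g x : G) :
    x ∈ Subgroup.centralizer ({g} : Set G) ↔ g * x = x * g := by
  rw [Subgroup.mem_centralizer_iff]
  constructor
  · intro h; exact h g (Set.mem_singleton g)
  · intro h z hz; rw [Set.mem_singleton_iff] at hz; rw [hz]; exact h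

theorem card_map_cj [Finite G] (P : Subgroup G) (x : G) : Nat.card (P.map (cj x)) = Nat.card P :=
  Nat.card_congr (P.equivMapOfInjective _ (cj_injective x)).symm.toEquiv

/-- If `P` is Sylow in `C(g)` and `x g x⁻¹` centralizes `P`, then `x g x⁻¹` is conjugate to `g`
under the normalizer of `P`. -/
theorem exists_normalizer_conj [Finite G] (p : ℕ) [Fact p.Prime] (P : Subgroup G) (g x : G)
    (hS : IsSylowIn p P (Subgroup.centralizer ({g} : Set G)))
    (hc : x * g * x⁻¹ ∈ Subgroup.centralizer (P : Set G)) :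
    ∃ n ∈ Subgroup.normalizer (P : Set G), n * g * n⁻¹ = x * g * x⁻¹ := by
  have hP'le : P.map (cj x⁻¹) ≤ Subgroup.centralizer ({g} : Set G) := by
    rintro _ ⟨u, hu, rfl⟩
    rw [mem_centralizer_singleton_iff, cj_apply]
    have h1 := Subgroup.mem_centralizer_iff.mp hc u hu
    -- h1 : u * (x g x⁻¹) = (x g x⁻¹) * u
    calc g * (x⁻¹ * u * x⁻¹⁻¹) = x⁻¹ * ((x * g * x⁻¹) * u) * x := by group
      _ = x⁻¹ * (u * (x * g * x⁻¹)) * x := by rw [h1]
      _ = x⁻¹ * u * x⁻¹⁻¹ * g := by group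
  obtain ⟨U, hU, hP'U⟩ := exists_isSylowIn_ge hP'le (hS.2.1.map (cj x⁻¹))
  obtain ⟨z, hz, hUz⟩ := hS.exists_conj hU
  have hcard : Nat.card U = Nat.card (P.map (cj x⁻¹)) := by
    rw [hUz, card_map_cj, card_map_cj]
  have heq : P.map (cj x⁻¹) = U := Subgroup.eq_of_le_of_card_ge hP'U hcard.le
  -- so P.map (cj (x * z)) = P
  have hn : x * z ∈ Subgroup.normalizer (P : Set G) := by
    rw [mem_normalizer_iff_map_cj, ← map_cj_mul, ← hUz, ← heq, map_cj_inv_map_cj]
  refine ⟨x * z, hn, ?_⟩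
  have hzg : g * z = z * g := (mem_centralizer_singleton_iff g z).mp hz
  calc x * z * g * (x * z)⁻¹ = x * (z * g) * z⁻¹ * x⁻¹ := by group
    _ = x * (g * z) * z⁻¹ * x⁻¹ := by rw [hzg]
    _ = x * g * x⁻¹ := by group

theorem result {G : Type*} [Group G] [Finite G] (p : ℕ) [Fact p.Prime] (P : Subgroup G) (hP : IsPGroup p P) : (∀ g : G, (∃ S : Sylow p (Subgroup.centralizer ({g} : Set G)), (S : Subgroup (Subgroup.centralizer ({g} : Set G))).map (Subgroup.centralizer ({g} : Set G)).subtype = P) → (∃ c : G, IsConj g c ∧ c ∈ Subgroup.centralizer (P : Set G)) ∧ (∀ c₁ c₂ : G, IsConj g c₁ → IsConj g c₂ → c₁ ∈ Subgroup.centralizer (P : Set G) → c₂ ∈ Subgroup.centralizer (P : Set G) → ∃ n ∈ Subgroup.normalizer (P : Set G), n * c₁ * n⁻¹ = c₂)) ∧ (∀ c : G, c ∈ Subgroup.centralizer (P : Set G) → (∃ S : Sylow p (Subgroup.centralizer ({c} : Set G) ⊓ Subgroup.normalizer (P : Set G) : Subgroup G), (S : Subgroup ↥(Subgroup.centralizer ({c} : Set G) ⊓ Subgroup.normalizer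 (P : Set G))).map (Subgroup.centralizer ({c} : Set G) ⊓ Subgroup.normalizer (P : Set G)).subtype = P) → ∃ S : Sylow p (Subgroup.centralizer ({c} : Set G)), (S : Subgroup (Subgroup.centralizer ({c} : Set G))).map (Subgroup.centralizer ({c} : Set G)).subtype = P) := by
  constructor
  · intro g hS
    rw [← isSylowIn_iff] at hS
    have hgP : g ∈ Subgroup.centralizer (P : Set G) := by
      rw [Subgroup.mem_centralizer_iff]
      intro u hu
      exact (mem_centralizer_singleton_iff g u).mp (hS.1 hu) |>.symm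
    refine ⟨⟨g, IsConj.refl g, hgP⟩, ?_⟩
    intro c₁ c₂ h1 h2 hc1 hc2
    obtain ⟨x₁, rfl⟩ := isConj_iff.mp h1
    obtain ⟨x₂, rfl⟩ := isConj_iff.mp h2
    obtain ⟨n₁, hn₁, e₁⟩ := exists_normalizer_conj p P g x₁ hS hc1
    obtain ⟨n₂, hn₂, e₂⟩ := exists_normalizer_conj p P g x₂ hS hc2
    refine ⟨n₂ * n₁⁻¹, Subgroup.mul_mem _ hn₂ (Subgroup.inv_mem _ hn₁), ?_⟩
    rw [← e₁, ← e₂]
    group
  · intro c hc hS
    rw [← isSylowIn_iff] at hS ⊢
    have hPc : P ≤ Subgroup.centralizer ({c} : Set G) := hS.1.trans inf_le_left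
    obtain ⟨U, hU, hPU⟩ := exists_isSylowIn_ge hPc hP
    by_cases hPU' : P = U
    · rw [hPU']; exact hU
    · exfalso
      have hlt : P < U := lt_of_le_of_ne hPU hPU'
      have h1 := lt_inf_normalizer U P hU.2.1 hlt
      have h2 : U ⊓ Subgroup.normalizer (P : Set G) ≤
          Subgroup.centralizer ({c} : Set G) ⊓ Subgroup.normalizer (P : Set G) :=
        inf_le_inf_right _ hU.1
      have h3 : IsPGroup p ↥(U ⊓ Subgroup.normalizer (P : Set G)) := hU.2.1.to_le inf_le_left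
      have h4 := hS.2.2 _ h2 h3 h1.le
      exact h1.ne h4.symm

end Cfsg.Agent.S0916
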