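import Mathlib
import Cfsg.Statements.S0906
import Cfsg.Agent.Helper5.BlockBasic

set_option autoImplicit false
open Cfsg

namespace Cfsg.Agent.S0906

open Cfsg.Agent.Helper5.CC Cfsg.Agent.Helper5.Loc

/-- Let B be a block of the finite group G relative to a maximal ideal M of the algebraic integers containing the prime p. Then some element g represents a defect class of B: the idempotent coefficient of B at g is a local integer not in the local ideal at M, and the central characters of the members of B at g are not in the local ideal. -/
theorem result {G : Type*} [Group G] [Finite G] (p : ℕ) [Fact p.Prime] (M : Ideal Cfsg.AlgInt) (hM : Cfsg.IsPModular p M) (B : Set (Cfsg.IrrCharacter G)) (hB : Cfsg.IsPBlock M B) : ∃ g : G, Cfsg.IsDefectClass M B g := by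
  classical
  have : Fintype G := Fintype.ofFinite G
  have : Fintype (IrrCharacter G) := Fintype.ofFinite _
  have : Fintype (ConjClasses G) := Fintype.ofFinite _
  have hMp := isPrime_of_isPModular hM
  obtain ⟨χ₀, hχ₀⟩ := IsPBlock.nonempty hMp hB
  have hosima : ∀ g, MemLocalRing M (blockCoeff B g) := osima hMp B hB
  have h1 : act (blockCoeff B) χ₀ = 1 := by rw [act_blockCoeff, if_pos hχ₀]
  rw [act_eq_sum_centralChar (isClassFunction_blockCoeff B)] at h1
  -- some term is outside the local ideal
  have hex : ∃ K : ConjClasses G, ¬ MemLocalIdeal M (blockCoeff B (rep K) *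
      centralChar (χ₀ : G → ℂ) (rep K)) := by
    by_contra hcon
    push Not at hcon
    have := li_sum hMp Finset.univ _ (fun K _ => hcon K)
    rw [h1] at this
    exact not_memLocalIdeal_one hMp this
  obtain ⟨K, hK⟩ := hex
  refine ⟨rep K, hosima _, ?_, ?_⟩
  · intro h
    exact hK (li_mul_right hMp h (memLocalRing_centralChar hMp χ₀ _))
  · intro χ hχ hcon
    apply hK
    apply li_mul_left hMp (hosima _)
    have hs := sameBlock_of_mem hMp hB hχ₀ hχ (rep K)
    have := li_add hMp hs hcon
    rwa [sub_add_cancel] at this

end Cfsg.Agent.S0906
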