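import Mathlib
import Cfsg.Statements.S0912
import Cfsg.Agent.Helper5.DefectGroups2
import Cfsg.Agent.Helper5.ClaimN

set_option autoImplicit false
open Cfsg

namespace Cfsg.Agent.S0912

open Cfsg.Agent.Helper5.CC Cfsg.Agent.Helper5.Loc Cfsg.Agent.Helper14 Cfsg.Agent.Helper24

theorem result {G : Type*} [Group G] [Finite G] (p : ℕ) [Fact p.Prime] (M : Ideal Cfsg.AlgInt) (hM : Cfsg.IsPModular p M) (B : Set (Cfsg.IrrCharacter G)) (hB : Cfsg.IsPBlock M B) (D : Subgroup G) (hD : Cfsg.IsDefectGroup p M B D) : Cfsg.pCore p G ≤ D := by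
  classical
  have : Fintype G := Fintype.ofFinite G
  have hMp := isPrime_of_isPModular hM
  obtain ⟨χ₀, hχ₀⟩ := IsPBlock.nonempty hMp hB
  obtain ⟨g, hg, hDS⟩ := isDefectGroup_iff.mp hD
  have hQn : (Cfsg.pCore p G).Normal := Subgroup.sSup_normal _ (fun _ h => h.1)
  have hQ : IsPGroup p (Cfsg.pCore p G) :=
    Sylow.sSup_of_normal _ (fun _ h => h.2) (fun _ h => h.1)
  -- `g` centralizes `O_p(G)`
  have hgC : g ∈ Subgroup.centralizer ((Cfsg.pCore p G : Subgroup G) : Set G) := by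
    by_contra hcon
    exact hg.2.2 χ₀ hχ₀
      (centralChar_memLocalIdeal_of_not_mem_centralizer hM (Cfsg.pCore p G) hQ χ₀ g hcon)
  have hQC : Cfsg.pCore p G ≤ Subgroup.centralizer ({g} : Set G) := by
    intro q hq
    rw [mem_centralizer_singleton_iff']
    rw [Subgroup.mem_centralizer_iff] at hgC
    exact (hgC q hq).symm
  have hsup : D ⊔ Cfsg.pCore p G = D := by
    apply hDS.2.2
    · exact sup_le hDS.1 hQC
    · exact IsPGroup.to_sup_of_normal_right hDS.2.1 hQ
    · exact le_sup_left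
  rw [← hsup]
  exact le_sup_right

end Cfsg.Agent.S0912
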