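import Mathlib
import Cfsg.Statements.S0917
import Cfsg.Agent.Helper5.DefectGroups2
import Cfsg.Agent.S0933

set_option autoImplicit false
open Cfsg

namespace Cfsg.Agent.S0917

open Cfsg.Agent.Helper5.CC Cfsg.Agent.Helper5.Loc Cfsg.Agent.Helper14 Cfsg.Agent.Helper24
open Cfsg.Agent.S0933

/-- Let H be a subgroup of the finite group G, p a prime and M a maximal ideal of the algebraic integers containing p. If the block b of H induces the block B of G relative to M, then every defect group of b (a subgroup of H, viewed in G) is contained in some defect group of B. -/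
theorem result {G : Type*} [Group G] [Finite G] (p : ℕ) [Fact p.Prime] (M : Ideal Cfsg.AlgInt) (hM : Cfsg.IsPModular p M) (H : Subgroup G) (b : Set (Cfsg.IrrCharacter H)) (hb : Cfsg.IsPBlock M b) (B : Set (Cfsg.IrrCharacter G)) (hB : Cfsg.IsPBlock M B) (hind : Cfsg.IsInducedBlock M H b B) (D : Subgroup H) (hD : Cfsg.IsDefectGroup p M b D) : ∃ E : Subgroup G, Cfsg.IsDefectGroup p M B E ∧ D.map H.subtype ≤ E := by
  classical
  have : Fintype G := Fintype.ofFinite G
  have : Fintype H := Fintype.ofFinite H
  have : Fintype (IrrCharacter G) := Fintype.ofFinite _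
  have : Fintype (IrrCharacter H) := Fintype.ofFinite _
  have : Fintype (ConjClasses G) := Fintype.ofFinite _
  have : Fintype (ConjClasses H) := Fintype.ofFinite _
  have hMp := isPrime_of_isPModular hM
  obtain ⟨ξ₀, hξ₀⟩ := IsPBlock.nonempty hMp hb
  obtain ⟨χ₀, hχ₀⟩ := IsPBlock.nonempty hMp hB
  have ha := isClassFunction_blockCoeff B
  have haM : ∀ g, MemLocalRing M (blockCoeff B g) := osima hMp B hB
  -- Step 1: find classes `K` of `G`, `L` of `H`
  have h1 : act (blockCoeff B) χ₀ = 1 := by rw [act_blockCoeff, if_pos hχ₀]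
  rw [act_eq_sum_centralChar ha] at h1
  have hex : ∃ (K : ConjClasses G) (L : ConjClasses H),
      ¬ MemLocalIdeal M (blockCoeff B (rep K) * (fusionIndicator H (rep K) (rep L) *
        centralChar (ξ₀ : H → ℂ) (rep L))) := by
    by_contra hcon
    push Not at hcon
    apply not_memLocalIdeal_one hMp
    rw [← h1]
    -- each term of the sum is congruent to the induced one
    have hterm : ∀ K : ConjClasses G, MemLocalIdeal M (blockCoeff B (rep K) *
        centralChar (χ₀ : G → ℂ) (rep K)) := by
      intro K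
      have e1 : MemLocalIdeal M (blockCoeff B (rep K) *
          inducedCentralChar H (ξ₀ : H → ℂ) (rep K)) := by
        rw [inducedCentralChar_eq_act, act_eq_sum_centralChar
          (isClassFunction_fusionIndicator H (rep K)), Finset.mul_sum]
        exact li_sum hMp _ _ fun L _ => hcon K L
      have e2 := li_mul_left hMp (haM (rep K)) (hind.2.2 ξ₀ hξ₀ χ₀ hχ₀ (rep K))
      have := li_sub hMp e1 e2
      rw [← mul_sub, sub_sub_cancel] at this
      exact this
    exact li_sum hMp _ _ fun K _ => hterm K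
  obtain ⟨K, L, hKL⟩ := hex
  -- consequences
  have haK : ¬ MemLocalIdeal M (blockCoeff B (rep K)) := by
    intro h
    apply hKL
    apply li_mul_right hMp h
    apply lr_mul hMp (memLocalRing_classIndicator hMp _ _)
    exact memLocalRing_centralChar hMp ξ₀ _
  have hfus : IsConj (rep K) ((rep L : H) : G) := by
    by_contra hnc
    apply hKL
    rw [fusionIndicator, classIndicator_of_not_isConj hnc, zero_mul, mul_zero]
    exact memLocalIdeal_zero hMp
  have hωL : ¬ MemLocalIdeal M (centralChar (ξ₀ : H → ℂ) (rep L)) := by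
    intro h
    apply hKL
    apply li_mul_left hMp (haM _)
    exact li_mul_left hMp (memLocalRing_classIndicator hMp _ _) h
  -- Step 2: min-max in `H`
  obtain ⟨h₀, hh₀, hDS⟩ := isDefectGroup_iff.mp hD
  have hall := not_memLocalIdeal_centralChar_of_mem hMp hb ⟨ξ₀, hξ₀, hωL⟩
  obtain ⟨U, hU⟩ := exists_isSylowIn (p := p) (Subgroup.centralizer ({rep L} : Set H))
  obtain ⟨x, hx⟩ := minmax_sylow hM b hb (rep L) h₀ hall hh₀.2.1 U D hU hDS
  -- `l' = x l x⁻¹`
  set l' : H := x * rep L * x⁻¹ with hl'
  have hU' : IsSylowIn p (U.map (cj x)) (Subgroup.centralizer ({l'} : Set H)) := by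
    have := hU.map_cj x
    rwa [map_cj_centralizer_singleton] at this
  -- Step 3: `D` viewed in `G` centralizes `l'`
  have hDl' : D.map H.subtype ≤ Subgroup.centralizer ({(l' : G)} : Set G) := by
    rintro _ ⟨d, hd, rfl⟩
    rw [mem_centralizer_singleton_iff']
    have h2 : d ∈ Subgroup.centralizer ({l'} : Set H) := hU'.1 (hx hd)
    rw [mem_centralizer_singleton_iff'] at h2
    have := congrArg (Subtype.val) h2
    simpa using this
  have hDp : IsPGroup p (D.map H.subtype) := hDS.2.1.map _
  obtain ⟨V, hV, hDV⟩ := exists_isSylowIn_ge hDl' hDp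
  -- Step 4: min-max in `G`
  have hal' : ¬ MemLocalIdeal M (blockCoeff B (l' : G)) := by
    have hc : IsConj (rep K) (l' : G) := by
      refine hfus.trans ?_
      rw [isConj_iff]
      exact ⟨(x : G), by simp [hl']⟩
    rw [← IsClassFunction.eq_of_isConj ha hc]
    exact haK
  obtain ⟨g₀, hg₀, E₀, hE₀S, -⟩ : ∃ g₀, IsDefectClass M B g₀ ∧ ∃ E₀ : Subgroup G,
      IsSylowIn p E₀ (Subgroup.centralizer ({g₀} : Set G)) ∧ True := by
    -- a defect class exists
    have hex2 : ∃ K : ConjClasses G, ¬ MemLocalIdeal M (blockCoeff B (rep K) *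
        centralChar (χ₀ : G → ℂ) (rep K)) := by
      by_contra hcon
      push Not at hcon
      have := li_sum hMp Finset.univ _ (fun K _ => hcon K)
      rw [h1] at this
      exact not_memLocalIdeal_one hMp this
    obtain ⟨K₀, hK₀⟩ := hex2
    refine ⟨rep K₀, ⟨haM _, ?_, ?_⟩, ?_⟩
    · intro h
      exact hK₀ (li_mul_right hMp h (memLocalRing_centralChar hMp χ₀ _))
    · intro χ hχ hcon
      apply hK₀
      apply li_mul_left hMp (haM _)
      have hs := sameBlock_of_mem hMp hB hχ₀ hχ (rep K₀)
      have := li_add hMp hs hcon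
      rwa [sub_add_cancel] at this
    · obtain ⟨E₀, hE₀⟩ := exists_isSylowIn (p := p) (Subgroup.centralizer ({rep K₀} : Set G))
      exact ⟨E₀, hE₀, trivial⟩
  obtain ⟨y, hy⟩ := minmax_sylow hM B hB g₀ (l' : G) hg₀.2.2 hal' E₀ V hE₀S hV
  refine ⟨E₀.map (cj y), isDefectGroup_map_cj (isDefectGroup_iff.mpr ⟨g₀, hg₀, hE₀S⟩) y, ?_⟩
  exact hDV.trans hy

end Cfsg.Agent.S0917
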