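import Mathlib
import Cfsg.Statements.S0920
import Cfsg.Agent.Helper5.FirstMain
import Cfsg.Agent.S0906
import Cfsg.Agent.S0912
import Cfsg.Agent.S0917

set_option autoImplicit false
open Cfsg

namespace Cfsg.Agent.S0920

open Cfsg.Agent.Helper5.CC Cfsg.Agent.Helper5.Loc Cfsg.Agent.Helper14 Cfsg.Agent.Helper24

theorem result {G : Type*} [Group G] [Finite G] (p : ℕ) [Fact p.Prime] (M : Ideal Cfsg.AlgInt) (hM : Cfsg.IsPModular p M) (D : Subgroup G) (hD : IsPGroup p D) : (∀ b : Set (Cfsg.IrrCharacter (Subgroup.normalizer (D : Set G))), Cfsg.IsPBlock M b → Cfsg.IsDefectGroup p M b (D.subgroupOf (Subgroup.normalizer (D : Set G))) → ∃ B : Set (Cfsg.IrrCharacter G), Cfsg.IsPBlock M B ∧ Cfsg.IsDefectGroup p M B D ∧ Cfsg.IsInducedBlock M (Subgroup.normalizer (D : Set G)) b B) ∧ (∀ B : Set (Cfsg.IrrCharacter G), Cfsg.IsPBlock M B → Cfsg.IsDefectGroup p M B D → ∃! b : Set (Cfsg.IrrCharacter (Subgroup.normalizer (D : Set G))), Cfsg.IsPBlock M b ∧ Cfsg.IsDefectGroup p M b (D.subgroupOf (Subgroup.normalizer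 (D : Set G))) ∧ Cfsg.IsInducedBlock M (Subgroup.normalizer (D : Set G)) b B) := by
  classical
  have : Fintype G := Fintype.ofFinite G
  have : Fintype (Subgroup.normalizer (D : Set G)) := Fintype.ofFinite _
  have : Fintype (IrrCharacter G) := Fintype.ofFinite _
  have : Fintype (IrrCharacter (Subgroup.normalizer (D : Set G))) := Fintype.ofFinite _
  have hMp := isPrime_of_isPModular hM
  have hDN : D ≤ Subgroup.normalizer (D : Set G) := Subgroup.le_normalizer
  have hCN : Subgroup.centralizer (D : Set G) ≤ Subgroup.normalizer (D : Set G) :=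
    Subgroup.centralizer_le_normalizer _
  have hQn : (D.subgroupOf (Subgroup.normalizer (D : Set G))).Normal :=
    (Subgroup.normal_subgroupOf_iff_le_normalizer hDN).mpr le_rfl
  have hQ : IsPGroup p (D.subgroupOf (Subgroup.normalizer (D : Set G))) := hD.comap_subtype
  constructor
  · intro b hb hbD
    obtain ⟨ξ, rfl⟩ := hb
    have hb : IsPBlock M (blockOf M (ξ : Subgroup.normalizer (D : Set G) → ℂ)) :=
      isPBlock_blockOf ξ
    obtain ⟨χ, hχ⟩ := exists_irr_brauer hM D (Subgroup.normalizer (D : Set G)) hD hCN le_rfl ξ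
    have hind := isInducedBlock_of_brauer hM D (Subgroup.normalizer (D : Set G)) hD hDN le_rfl
      ξ χ hχ
    have hB : IsPBlock M (blockOf M (χ : G → ℂ)) := isPBlock_blockOf χ
    refine ⟨blockOf M (χ : G → ℂ), hB, ?_, hind⟩
    obtain ⟨y, hy, hyS⟩ := isDefectGroup_iff.mp hbD
    obtain ⟨hyC, hSG⟩ := sylow_centralizer_of_normalizer D hD y hyS
    have hu : ∀ χ' ∈ blockOf M (χ : G → ℂ),
        ¬ MemLocalIdeal M (centralChar (χ' : G → ℂ) (y : G)) := by
      apply not_memLocalIdeal_centralChar_of_mem hMp hB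
      refine ⟨χ, mem_blockOf_self hMp χ, fun h => ?_⟩
      apply hy.2.2 ξ (mem_blockOf_self hMp ξ)
      have h1 := centralChar_sub_centralChar_of_induced hM D hD hind (mem_blockOf_self hMp ξ)
        (mem_blockOf_self hMp χ) y hyS
      have := li_add hMp h1 h
      rwa [sub_add_cancel] at this
    obtain ⟨g', hg'⟩ := Cfsg.Agent.S0906.result p M hM _ hB
    obtain ⟨E, hE⟩ := exists_isSylowIn (p := p) (Subgroup.centralizer ({g'} : Set G))
    have hED : IsDefectGroup p M (blockOf M (χ : G → ℂ)) E := isDefectGroup_iff.mpr ⟨g', hg', hE⟩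
    obtain ⟨E₂, hE₂, hDE₂⟩ := Cfsg.Agent.S0917.result p M hM _ _ hb _ hB hind _ hbD
    rw [map_subtype_subgroupOf hDN] at hDE₂
    obtain ⟨x₂, hx₂⟩ := defectGroup_conj hM _ hB E E₂ hED hE₂
    obtain ⟨x, hx⟩ := minmax_sylow hM _ hB (y : G) g' hu hg'.2.1 D E hSG hE
    have hc1 : Nat.card E₂ = Nat.card E := by
      rw [hx₂]; exact Cfsg.Agent.S0916.card_map_cj E x₂
    have hc2 : Nat.card (D.map (cj x)) = Nat.card D := Cfsg.Agent.S0916.card_map_cj D x
    have hc3 : Nat.card D ≤ Nat.card E₂ := Subgroup.card_le_of_le hDE₂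
    have hEq : E = D.map (cj x) := Subgroup.eq_of_le_of_card_ge hx (by omega)
    have := isDefectGroup_map_cj hED x⁻¹
    rwa [hEq, map_cj_map_cj_inv] at this
  · intro B hB hBD
    obtain ⟨g, hg, hgS⟩ := isDefectGroup_iff.mp hBD
    have hgC : g ∈ Subgroup.centralizer (D : Set G) := by
      rw [Subgroup.mem_centralizer_iff]
      intro q hq
      have := hgS.1 hq
      rw [mem_centralizer_singleton_iff'] at this
      exact this.symm
    obtain ⟨ξ, hξind, -⟩ := exists_block_induced_of_coeff hM D (Subgroup.normalizer (D : Set G))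
      hD hDN hCN le_rfl B hB ⟨g, hCN hgC⟩ hgC hg.2.1
    have hb : IsPBlock M (blockOf M (ξ : Subgroup.normalizer (D : Set G) → ℂ)) :=
      isPBlock_blockOf ξ
    have hbD : IsDefectGroup p M (blockOf M (ξ : Subgroup.normalizer (D : Set G) → ℂ))
        (D.subgroupOf (Subgroup.normalizer (D : Set G))) := by
      obtain ⟨y', hy'⟩ := Cfsg.Agent.S0906.result p M hM _ hb
      obtain ⟨U, hU⟩ := exists_isSylowIn (p := p)
        (Subgroup.centralizer ({y'} : Set (Subgroup.normalizer (D : Set G))))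
      have hbU : IsDefectGroup p M (blockOf M (ξ : Subgroup.normalizer (D : Set G) → ℂ)) U :=
        isDefectGroup_iff.mpr ⟨y', hy', hU⟩
      have hcore := Cfsg.Agent.S0912.result p M hM _ hb U hbU
      have hDU : D.subgroupOf (Subgroup.normalizer (D : Set G)) ≤ U :=
        le_trans (le_sSup (show D.subgroupOf (Subgroup.normalizer (D : Set G)) ∈
          {N : Subgroup (Subgroup.normalizer (D : Set G)) | N.Normal ∧ IsPGroup p N} from
          ⟨hQn, hQ⟩)) hcore
      obtain ⟨E, hE, hUE⟩ := Cfsg.Agent.S0917.result p M hM _ _ hb B hB hξind U hbU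
      obtain ⟨x, hx⟩ := defectGroup_conj hM B hB D E hBD hE
      have hc1 : Nat.card E = Nat.card D := by
        rw [hx]; exact Cfsg.Agent.S0916.card_map_cj D x
      have hDU' : D ≤ U.map (Subgroup.normalizer (D : Set G)).subtype := by
        have h1 := Subgroup.map_mono (f := (Subgroup.normalizer (D : Set G)).subtype) hDU
        rwa [map_subtype_subgroupOf hDN] at h1
      have hc2 : Nat.card (U.map (Subgroup.normalizer (D : Set G)).subtype) ≤ Nat.card E :=
        Subgroup.card_le_of_le hUE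
      have hEq : D = U.map (Subgroup.normalizer (D : Set G)).subtype :=
        Subgroup.eq_of_le_of_card_ge hDU' (by omega)
      have hUeq : U = D.subgroupOf (Subgroup.normalizer (D : Set G)) := by
        apply Subgroup.map_injective (Subgroup.normalizer (D : Set G)).subtype_injective
        rw [map_subtype_subgroupOf hDN, ← hEq]
      rw [← hUeq]
      exact hbU
    refine ⟨blockOf M (ξ : Subgroup.normalizer (D : Set G) → ℂ), ⟨hb, hbD, hξind⟩, ?_⟩
    rintro b₂ ⟨hb₂, hb₂D, hind₂⟩
    exact block_eq_of_induced_eq hM D hD hb₂ hb hb₂D hind₂ hξind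

end Cfsg.Agent.S0920
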