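import Mathlib
import Cfsg.Statements.S0914
import Cfsg.Agent.S0909
import Cfsg.Agent.Helper5.OsimaSupport
import Cfsg.Agent.Helper5.BrauerMap2
import Cfsg.Agent.Helper24.SmallDegree
import Cfsg.Agent.Helper24.Expansion
import Cfsg.Agent.Helper24.RealChar
import Cfsg.Agent.Helper24.Linear
import Cfsg.Agent.Helper8.CharComp

set_option autoImplicit false
open Cfsg

namespace Cfsg.Agent.S0914

open Cfsg.Agent.Helper5.CC Cfsg.Agent.Helper5.Loc Cfsg.Agent.Helper24

theorem charDegree_eq_irrDeg {G : Type*} [Group G] [Finite G] (χ : IrrCharacter G) :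
    charDegree (χ : G → ℂ) = irrDeg χ := by
  unfold charDegree
  rw [irrDeg_spec]
  simp

theorem blockCoeff_singleton {G : Type*} [Group G] (χ : IrrCharacter G) (g : G) :
    blockCoeff {χ} g = (Nat.card G : ℂ)⁻¹ * ((χ : G → ℂ) 1 * (starRingEnd ℂ) ((χ : G → ℂ) g)) := by
  unfold blockCoeff
  rw [finsum_mem_singleton]

/-- If an irreducible character vanishes on all non-identity elements of a subgroup `P`, then
`|P|` divides its degree. -/
theorem card_dvd_irrDeg_of_vanish {G : Type*} [Group G] [Finite G] (χ : IrrCharacter G)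
    (P : Subgroup G) (h : ∀ x ∈ P, x ≠ 1 → (χ : G → ℂ) x = 0) : Nat.card P ∣ irrDeg χ := by
  classical
  have : Fintype G := Fintype.ofFinite G
  have : Fintype P := Fintype.ofFinite P
  have : Fintype (IrrCharacter P) := Fintype.ofFinite _
  have h1 : IsCharacter P (fun x : P => (χ : G → ℂ) x) :=
    Cfsg.Agent.Helper8.isCharacter_restrict P (IsIrrCharacter.isCharacter χ.2)
  obtain ⟨n, hn⟩ := IsCharacter.classInner_nat h1 (isCharacter_const_one (G := P))
  unfold classInner at hn
  have h2 : ∑ x : P, (χ : G → ℂ) x * (starRingEnd ℂ) 1 = (irrDeg χ : ℂ) := by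
    rw [Finset.sum_eq_single (1 : P)]
    · simp [irrDeg_spec]
    · intro x _ hx
      rw [h x x.2 (fun hx1 => hx (Subtype.ext hx1)), zero_mul]
    · intro hh; exact absurd (Finset.mem_univ _) hh
  rw [h2] at hn
  have hP : (Nat.card P : ℂ) ≠ 0 := by
    have : 0 < Nat.card P := Nat.card_pos
    exact_mod_cast this.ne'
  have h3 : (irrDeg χ : ℂ) = (Nat.card P : ℂ) * n := by
    rw [← hn]; field_simp
  refine ⟨n, ?_⟩
  exact_mod_cast h3

/-- Let χ be an irreducible character of the finite group G, p a prime and M a maximal ideal of the algebraic integers containing p. Then p does not divide the integer (Nat.card G) / χ(1) if and only if the block of χ relative to M consists of χ alone. -/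
theorem result {G : Type*} [Group G] [Finite G] (p : ℕ) [Fact p.Prime] (M : Ideal Cfsg.AlgInt) (hM : Cfsg.IsPModular p M) (χ : Cfsg.IrrCharacter G) : ¬ p ∣ Nat.card G / Cfsg.charDegree (χ : G → ℂ) ↔ Cfsg.blockOf M (χ : G → ℂ) = {χ} := by
  classical
  have : Fintype G := Fintype.ofFinite G
  have : Fintype (IrrCharacter G) := Fintype.ofFinite _
  have hMp := isPrime_of_isPModular hM
  have hp : p.Prime := Fact.out
  rw [charDegree_eq_irrDeg]
  obtain ⟨q, hq⟩ := irrDeg_dvd_card χ
  have hdpos := irrDeg_pos χ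
  have hdiv : Nat.card G / irrDeg χ = q := by
    rw [hq, Nat.mul_div_cancel_left _ hdpos]
  rw [hdiv]
  have hdC : (irrDeg χ : ℂ) ≠ 0 := by exact_mod_cast hdpos.ne'
  have hqpos : 0 < q := by
    rcases Nat.eq_zero_or_pos q with h | h
    · rw [h, mul_zero] at hq
      exact absurd hq Nat.card_pos.ne'
    · exact h
  have hqC : (q : ℂ) ≠ 0 := by exact_mod_cast hqpos.ne'
  have hcoef : ∀ g : G, blockCoeff {χ} g = (q : ℂ)⁻¹ * (starRingEnd ℂ) ((χ : G → ℂ) g) := by
    intro g
    rw [blockCoeff_singleton, irrDeg_spec, hq]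
    push_cast
    field_simp
  constructor
  · intro hpq
    apply Set.Subset.antisymm
    · apply Cfsg.Agent.S0909.result p M hM {χ} _ χ rfl
      intro g
      rw [hcoef]
      apply lr_mul hMp (memLocalRing_inv_natCast hM hpq)
      apply memLocalRing_of_isIntegral hMp
      rw [← Cfsg.Agent.Helper5.irr_inv χ g]
      exact irr_isIntegral χ _
    · intro ψ hψ
      rw [Set.mem_singleton_iff] at hψ
      rw [hψ]
      exact mem_blockOf_self hMp χ
  · intro hB
    have hblock : IsPBlock M ({χ} : Set (IrrCharacter G)) := by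
      rw [← hB]; exact isPBlock_blockOf χ
    have hvanish : ∀ z : G, p ∣ orderOf z → (χ : G → ℂ) z = 0 := by
      intro z hz
      have h0 := eq_zero_of_idem_of_singular hM (isClassFunction_blockCoeff {χ})
        (fun t => osima hMp _ hblock t) (conv_blockCoeff_self _) z hz
      rw [hcoef] at h0
      rcases mul_eq_zero.mp h0 with h | h
      · exact absurd (inv_eq_zero.mp h) hqC
      · simpa using h
    obtain ⟨P⟩ : Nonempty (Sylow p G) := inferInstance
    have hPdvd : Nat.card P ∣ irrDeg χ := by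
      apply card_dvd_irrDeg_of_vanish χ (P : Subgroup G)
      intro x hx hx1
      apply hvanish
      obtain ⟨k, hk⟩ := IsPGroup.iff_orderOf.mp P.2 ⟨x, hx⟩
      have hk' : orderOf x = p ^ k := by
        rw [← hk]; exact (Subgroup.orderOf_mk x hx).symm
      rw [hk']
      rcases Nat.eq_zero_or_pos k with h0 | hkpos
      · rw [h0, pow_zero, orderOf_eq_one_iff] at hk'
        exact absurd hk' hx1
      · exact dvd_pow_self p hkpos.ne'
    intro hpq
    rw [Sylow.card_eq_multiplicity] at hPdvd
    obtain ⟨k, hk⟩ : ∃ k, k = (Nat.card G).factorization p := ⟨_, rfl⟩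
    rw [← hk] at hPdvd
    obtain ⟨c, hc⟩ := hPdvd
    obtain ⟨e, he⟩ := hpq
    have hcard : Nat.card G = p ^ (k + 1) * (c * e) := by
      rw [hq, hc, he, pow_succ]; ring
    have hdvd : p ^ (k + 1) ∣ Nat.card G := ⟨_, hcard⟩
    have := (hp.pow_dvd_iff_le_factorization Nat.card_pos.ne').mp hdvd
    omega

end Cfsg.Agent.S0914
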