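import Mathlib
import Cfsg.Statements.S0919
import Cfsg.Agent.Helper5.BrauerMap

set_option autoImplicit false
open Cfsg

namespace Cfsg.Agent.S0919

open Cfsg.Agent.Helper5.CC Cfsg.Agent.Helper5.Loc Cfsg.Agent.Helper24

theorem result {G : Type*} [Group G] [Finite G] (p : ℕ) [Fact p.Prime] (M : Ideal Cfsg.AlgInt) (hM : Cfsg.IsPModular p M) (P H : Subgroup G) (hP : IsPGroup p P) (hPH : P ≤ H) (hCH : Subgroup.centralizer (P : Set G) ≤ H) (hHN : H ≤ Subgroup.normalizer (P : Set G)) (b : Set (Cfsg.IrrCharacter H)) (hb : Cfsg.IsPBlock M b) : Cfsg.InducedBlockDefined M H b := by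
  classical
  have : Fintype G := Fintype.ofFinite G
  have : Fintype H := Fintype.ofFinite H
  have : Fintype (IrrCharacter G) := Fintype.ofFinite _
  obtain ⟨ξ, rfl⟩ := hb
  obtain ⟨χ, hχ⟩ := exists_irr_brauer hM P H hP hCH hHN ξ
  exact ⟨blockOf M (χ : G → ℂ), isInducedBlock_of_brauer hM P H hP hPH hHN ξ χ hχ⟩

end Cfsg.Agent.S0919
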