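import Mathlib
import Cfsg.Statements.S0927
import Cfsg.Agent.Helper5.HeightZero2

set_option autoImplicit false
open Cfsg

namespace Cfsg.Agent.S0927

open Cfsg.Agent.Helper5 Cfsg.Agent.Helper5.CC Cfsg.Agent.Helper5.Loc Cfsg.Agent.Helper14

/-- Let B be a block of the finite group G relative to a maximal ideal M of the algebraic integers containing p, let y represent a defect class of B and let P be a Sylow p-subgroup of the centralizer of y. (a) If x ∈ P and χ ∈ B has height zero, then χ (x * y) is not in the local ideal at M. (b) If x lies in the centre of P, then for every χ ∈ B the central character of χ at x * y is not in the local ideal at M. -/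
theorem result {G : Type*} [Group G] [Finite G] (p : ℕ) [Fact p.Prime] (M : Ideal Cfsg.AlgInt) (hM : Cfsg.IsPModular p M) (B : Set (Cfsg.IrrCharacter G)) (hB : Cfsg.IsPBlock M B) (y : G) (hy : Cfsg.IsDefectClass M B y) (P : Sylow p (Subgroup.centralizer ({y} : Set G))) (x : Subgroup.centralizer ({y} : Set G)) (hx : x ∈ (P : Subgroup (Subgroup.centralizer ({y} : Set G)))) : (∀ χ ∈ B, Cfsg.blockHeight p B (χ : G → ℂ) = 0 → ¬ Cfsg.MemLocalIdeal M ((χ : G → ℂ) ((x : G) * y))) ∧ ((∀ w ∈ (P : Subgroup (Subgroup.centralizer ({y} : Set G))), x * w = w * x) → ∀ χ ∈ B, ¬ Cfsg.MemLocalIdeal M (Cfsg.centralChar (χ : G → ℂ) ((x : G) * y))) := by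
  classical
  have : Fintype G := Fintype.ofFinite G
  have : Fintype (IrrCharacter G) := Fintype.ofFinite _
  have hxy : Commute (x : G) y := by
    have := x.2
    rw [Subgroup.mem_centralizer_singleton_iff] at this
    exact this
  obtain ⟨k, hk⟩ : ∃ k : ℕ, (x : G) ^ (p ^ k) = 1 := by
    obtain ⟨k, hk⟩ := P.2 ⟨x, hx⟩
    refine ⟨k, ?_⟩
    have h1 : x ^ (p ^ k) = 1 := by
      have := congrArg Subtype.val hk
      simpa using this
    have := congrArg Subtype.val h1
    simpa using this
  refine ⟨?_, ?_⟩
  · intro χ hχ h0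
    exact not_memLocalIdeal_char_mul_of_defectClass hM hB hy χ hχ h0 (x : G) hxy k hk
  · intro hcent χ hχ
    have hD : IsDefectGroup p M B ((P : Subgroup (Subgroup.centralizer ({y} : Set G))).map
        (Subgroup.centralizer ({y} : Set G)).subtype) := ⟨y, hy, P, rfl⟩
    have hcard := card_defectGroup hM hB hD
    refine not_memLocalIdeal_centralChar_mul_of_defectClass hM hB hy (x : G) hxy k hk _ hcard
      ?_ ?_ χ hχ
    · rintro w ⟨w', hw', rfl⟩
      have := hcent w' hw'
      have h2 := congrArg Subtype.val this
      simpa using h2.symm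
    · rintro w ⟨w', hw', rfl⟩
      have := w'.2
      rw [Subgroup.mem_centralizer_singleton_iff] at this
      simpa using this

end Cfsg.Agent.S0927
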