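import Mathlib
import Cfsg.Statements.S0958
import Cfsg.Agent.Helper5.BrauerMap2
import Cfsg.Agent.Helper5.DefectGroups2
import Cfsg.Agent.S0906
import Cfsg.Agent.S0912
import Cfsg.Agent.S0917

set_option autoImplicit false
open Cfsg

namespace Cfsg.Agent.S0958

open Cfsg.Agent.Helper5.CC Cfsg.Agent.Helper5.Loc Cfsg.Agent.Helper14 Cfsg.Agent.Helper24

theorem result {G : Type*} [Group G] [Finite G] (p : ℕ) [Fact p.Prime] (M : Ideal Cfsg.AlgInt) (hM : Cfsg.IsPModular p M) (P H : Subgroup G) (hP : IsPGroup p P) (hPH : P ⊔ Subgroup.centralizer (P : Set G) ≤ H) (hHN : H ≤ Subgroup.normalizer (P : Set G)) (B : Set (Cfsg.IrrCharacter G)) (hB : Cfsg.IsPBlock M B) : (∃ b : Set (Cfsg.IrrCharacter H), Cfsg.IsInducedBlock M H b B) ↔ ∃ D : Subgroup G, Cfsg.IsDefectGroup p M B D ∧ ∃ x : G, P.map (MulAut.conj x).toMonoidHom ≤ D := by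
  classical
  have : Fintype G := Fintype.ofFinite G
  have : Fintype H := Fintype.ofFinite H
  have : Fintype (IrrCharacter G) := Fintype.ofFinite _
  have : Fintype (IrrCharacter H) := Fintype.ofFinite _
  have hMp := isPrime_of_isPModular hM
  have hPH' : P ≤ H := le_trans le_sup_left hPH
  have hCH : Subgroup.centralizer (P : Set G) ≤ H := le_trans le_sup_right hPH
  constructor
  · rintro ⟨b, hind⟩
    have hb : IsPBlock M b := hind.1
    -- a defect group of `b`
    obtain ⟨y, hy⟩ := Cfsg.Agent.S0906.result p M hM b hb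
    obtain ⟨U, hU⟩ := exists_isSylowIn (p := p) (Subgroup.centralizer ({y} : Set H))
    have hDb : IsDefectGroup p M b U := isDefectGroup_iff.mpr ⟨y, hy, hU⟩
    have hcore := Cfsg.Agent.S0912.result p M hM b hb U hDb
    obtain ⟨E, hE, hUE⟩ := Cfsg.Agent.S0917.result p M hM H b hb B hB hind U hDb
    refine ⟨E, hE, 1, ?_⟩
    have hQn : (P.subgroupOf H).Normal :=
      (Subgroup.normal_subgroupOf_iff_le_normalizer hPH').mpr hHN
    have hQ : IsPGroup p (P.subgroupOf H) := hP.comap_subtype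
    have hQcore : P.subgroupOf H ≤ Cfsg.pCore p H := le_sSup ⟨hQn, hQ⟩
    intro z hz
    obtain ⟨q, hq, rfl⟩ := hz
    have hq' : (⟨q, hPH' hq⟩ : H) ∈ P.subgroupOf H := by
      rw [Subgroup.mem_subgroupOf]; exact hq
    apply hUE
    refine ⟨⟨q, hPH' hq⟩, hcore (hQcore hq'), ?_⟩
    simp
  · rintro ⟨D, hD, x, hx⟩
    -- replace `D` by a conjugate containing `P`
    have hD' : IsDefectGroup p M B (D.map (cj x⁻¹)) := isDefectGroup_map_cj hD x⁻¹
    have hPD' : P ≤ D.map (cj x⁻¹) := (map_cj_le_iff P D x).mp hx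
    obtain ⟨g, hg, hS⟩ := isDefectGroup_iff.mp hD'
    have hgC : g ∈ Subgroup.centralizer (P : Set G) := by
      rw [Subgroup.mem_centralizer_iff]
      intro q hq
      have := hS.1 (hPD' hq)
      rw [mem_centralizer_singleton_iff'] at this
      exact this.symm
    obtain ⟨ξ, hξ, -⟩ := exists_block_induced_of_coeff hM P H hP hPH' hCH hHN B hB
      ⟨g, hCH hgC⟩ hgC hg.2.1
    exact ⟨_, hξ⟩

end Cfsg.Agent.S0958
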