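import Mathlib
import Cfsg.Statements.S0924
import Cfsg.Agent.Helper5.StrongOrth
import Cfsg.Agent.Helper5.DefectGroups2
import Cfsg.Agent.S0958

set_option autoImplicit false
open Cfsg

namespace Cfsg.Agent.S0924

open Cfsg.Agent.Helper5.CC Cfsg.Agent.Helper5.Loc Cfsg.Agent.Helper24 Cfsg.Agent.Helper5
  Cfsg.Agent.Helper14

/-- Let χ be an irreducible character of the finite group G and g ∈ G, and fix a maximal ideal M of the algebraic integers containing the prime p. If the p-part of g is contained in no defect group of the block of χ, then χ g = 0. -/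
theorem result {G : Type*} [Group G] [Finite G] (p : ℕ) [Fact p.Prime] (M : Ideal Cfsg.AlgInt) (hM : Cfsg.IsPModular p M) (χ : Cfsg.IrrCharacter G) (g x : G) (hx : Cfsg.IsPPart p g x) (hD : ∀ D : Subgroup G, Cfsg.IsDefectGroup p M (Cfsg.blockOf M (χ : G → ℂ)) D → x ∉ D) : (χ : G → ℂ) g = 0 := by
  classical
  have hMp := isPrime_of_isPModular hM
  have : Fintype G := Fintype.ofFinite G
  have : Fintype (IrrCharacter G) := Fintype.ofFinite _
  have : Fintype (Subgroup.centralizer ({x} : Set G)) := Fintype.ofFinite _
  have : Fintype (IrrCharacter (Subgroup.centralizer ({x} : Set G))) := Fintype.ofFinite _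
  have hpp := hx
  obtain ⟨y0, hxy, hc, ⟨a, ha⟩, hy0⟩ := hx
  have hxC : x ∈ Subgroup.centralizer ({x} : Set G) := by
    rw [Subgroup.mem_centralizer_iff]
    intro h hh
    rw [Set.mem_singleton_iff] at hh
    rw [hh]
  have hcomm : ∀ c : Subgroup.centralizer ({x} : Set G), x * (c : G) = (c : G) * x := by
    intro c
    exact Subgroup.mem_centralizer_iff.mp c.2 x (Set.mem_singleton x)
  have hy0C : y0 ∈ Subgroup.centralizer ({x} : Set G) := by
    rw [Subgroup.mem_centralizer_iff]
    intro h hh
    rw [Set.mem_singleton_iff] at hh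
    rw [hh]
    exact hc.eq
  have hP : IsPGroup p (Subgroup.zpowers x) := by
    apply IsPGroup.of_card (n := a)
    rw [Nat.card_zpowers, ha]
  have hPH : Subgroup.zpowers x ≤ Subgroup.centralizer ({x} : Set G) := by
    rw [Subgroup.zpowers_le]; exact hxC
  have hCH : Subgroup.centralizer ((Subgroup.zpowers x : Subgroup G) : Set G) ≤
      Subgroup.centralizer ({x} : Set G) := by
    apply Subgroup.centralizer_le
    rw [Set.singleton_subset_iff]
    exact Subgroup.mem_zpowers x
  have hHN : Subgroup.centralizer ({x} : Set G) ≤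
      Subgroup.normalizer ((Subgroup.zpowers x : Subgroup G) : Set G) := by
    refine le_trans ?_ (Subgroup.centralizer_le_normalizer _)
    intro c hc
    rw [Subgroup.mem_centralizer_iff]
    intro q hq
    obtain ⟨i, rfl⟩ := Subgroup.mem_zpowers_iff.mp hq
    have h1 : Commute x c := hcomm ⟨c, hc⟩
    exact (h1.zpow_left i).eq
  -- no block of the centralizer induces the block of χ
  have hno : ∀ b : Set (IrrCharacter (Subgroup.centralizer ({x} : Set G))),
      ¬ IsInducedBlock M (Subgroup.centralizer ({x} : Set G)) b (blockOf M (χ : G → ℂ)) := by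
    intro b hb
    have := (Cfsg.Agent.S0958.result p M hM (Subgroup.zpowers x) (Subgroup.centralizer ({x} : Set G))
      hP (sup_le hPH hCH) hHN (blockOf M (χ : G → ℂ)) (isPBlock_blockOf χ)).mp ⟨b, hb⟩
    obtain ⟨D, hDd, t, ht⟩ := this
    have h1 : t * x * t⁻¹ ∈ D := by
      apply ht
      rw [Subgroup.mem_map]
      exact ⟨x, Subgroup.mem_zpowers x, rfl⟩
    apply hD (D.map (cj t⁻¹)) (isDefectGroup_map_cj hDd t⁻¹)
    rw [Subgroup.mem_map]
    refine ⟨t * x * t⁻¹, h1, ?_⟩
    show t⁻¹ * (t * x * t⁻¹) * t⁻¹⁻¹ = x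
    group
  -- apply the second main theorem to the union of all blocks of the centralizer
  have hCu : ∀ z : G, IsPPart p (((⟨g, by rw [← hxy]; exact Subgroup.mul_mem _ hxC hy0C⟩ :
      Subgroup.centralizer ({x} : Set G)) : G)) z →
      Subgroup.centralizer ({z} : Set G) ≤ Subgroup.centralizer ({x} : Set G) := by
    intro z hz
    have : x = z := isPPart_unique hpp hz
    rw [← this]
  have hmain := second_main_union hM (Subgroup.centralizer ({x} : Set G)) Set.univ
    (fun _ _ => Set.subset_univ _)
    ⟨g, by rw [← hxy]; exact Subgroup.mul_mem _ hxC hy0C⟩ hCu χ ?_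
  · have hsum : ∑ k : Subgroup.centralizer ({x} : Set G),
        blockCoeff Set.univ k * (χ : G → ℂ) ((k : G) * g) = (χ : G → ℂ) g := by
      have h1 : ∀ k : Subgroup.centralizer ({x} : Set G),
          blockCoeff (Set.univ : Set (IrrCharacter (Subgroup.centralizer ({x} : Set G)))) k =
            deltaOne k := by
        intro k
        have := blockCoeff_add_compl
          (Set.univ : Set (IrrCharacter (Subgroup.centralizer ({x} : Set G)))) k
        rw [Set.compl_univ] at this
        have h0 : blockCoeff (∅ : Set (IrrCharacter (Subgroup.centralizer ({x} : Set G)))) k = 0 := by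
          rw [blockCoeff, finsum_mem_empty, mul_zero]
        rw [h0, add_zero] at this
        exact this
      simp_rw [h1]
      rw [Finset.sum_eq_single (1 : Subgroup.centralizer ({x} : Set G))]
      · rw [deltaOne_apply_one, one_mul, Subgroup.coe_one, one_mul]
      · intro k _ hk1; rw [deltaOne_apply_ne hk1, zero_mul]
      · intro h; exact absurd (Finset.mem_univ _) h
    rw [← hsum]
    exact hmain
  · intro ψ _
    obtain ⟨B', hB'⟩ := Cfsg.Agent.S0919.result p M hM (Subgroup.zpowers x)
      (Subgroup.centralizer ({x} : Set G)) hP hPH hCH hHN _ (isPBlock_blockOf ψ)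
    refine ⟨B', hB', ?_⟩
    intro hcon
    apply hno (blockOf M (ψ : Subgroup.centralizer ({x} : Set G) → ℂ))
    have e2 := IsPBlock_eq_blockOf hMp hB'.2.1 hcon
    rw [← e2]
    exact hB'

end Cfsg.Agent.S0924
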