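import Mathlib
import Cfsg.Statements.S0929
import Cfsg.Agent.Helper5.HeightZero2
import Cfsg.Agent.Helper5.DefectGroups2
import Cfsg.Agent.S0924
import Cfsg.Agent.S0958
import Cfsg.Agent.S0918
import Cfsg.Agent.S0917
import Cfsg.Agent.S0912

set_option autoImplicit false
open Cfsg

namespace Cfsg.Agent.S0929

open Cfsg.Agent.Helper5 Cfsg.Agent.Helper5.CC Cfsg.Agent.Helper5.Loc Cfsg.Agent.Helper14

/-- Let B be a block of the finite group G with defect group P (relative to a maximal ideal M of the algebraic integers containing p), and let g be an element at which the central character of some member of B is not in the local ideal at M. Then some conjugate x of g centralizes P and has its p-part in the centre of P. -/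
theorem result {G : Type*} [Group G] [Finite G] (p : ℕ) [Fact p.Prime] (M : Ideal Cfsg.AlgInt) (hM : Cfsg.IsPModular p M) (B : Set (Cfsg.IrrCharacter G)) (hB : Cfsg.IsPBlock M B) (P : Subgroup G) (hP : Cfsg.IsDefectGroup p M B P) (g : G) (hg : ∃ χ ∈ B, ¬ Cfsg.MemLocalIdeal M (Cfsg.centralChar (χ : G → ℂ) g)) : ∃ x : G, IsConj g x ∧ x ∈ Subgroup.centralizer (P : Set G) ∧ ∀ z : G, Cfsg.IsPPart p x z → z ∈ P ∧ ∀ w ∈ P, z * w = w * z := by
  classical
  have hp : Fact p.Prime := inferInstance
  have : Fintype G := Fintype.ofFinite G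
  have : Fintype (IrrCharacter G) := Fintype.ofFinite _
  have hMp := isPrime_of_isPModular hM
  have hPp : IsPGroup p P := by
    obtain ⟨y, hy, S, rfl⟩ := hP
    exact S.2.map _
  have hPH : P ≤ Subgroup.normalizer (P : Set G) := Subgroup.le_normalizer
  have hCH : Subgroup.centralizer (P : Set G) ≤ Subgroup.normalizer (P : Set G) :=
    Subgroup.centralizer_le_normalizer _
  obtain ⟨b, hind⟩ := (Cfsg.Agent.S0958.result p M hM P (Subgroup.normalizer (P : Set G)) hPp
    (sup_le hPH hCH) le_rfl B hB).mpr ⟨P, hP, 1, by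
      intro w hw
      obtain ⟨w', hw', rfl⟩ := hw
      simpa using hw'⟩
  have hb := hind.1
  have hbr := (Cfsg.Agent.S0918.result p M hM P (Subgroup.normalizer (P : Set G)) hPp hPH hCH
    le_rfl b hb B hB).mp hind
  obtain ⟨χ, hχ, hχg⟩ := hg
  have : Fintype (Subgroup.normalizer (P : Set G)) := Fintype.ofFinite _
  have : Fintype (IrrCharacter (Subgroup.normalizer (P : Set G))) := Fintype.ofFinite _
  obtain ⟨ξ, hξ⟩ := IsPBlock.nonempty hMp hb
  have h1 := hbr ξ hξ χ hχ g
  have h2 : ¬ MemLocalIdeal M (brauerCentralChar P (Subgroup.normalizer (P : Set G))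
      (ξ : Subgroup.normalizer (P : Set G) → ℂ) g) := by
    intro h
    apply hχg
    have := li_sub hMp h h1
    rwa [sub_sub_cancel] at this
  have h3 : ∃ h : Subgroup.normalizer (P : Set G), IsConj g (h : G) ∧
      (h : G) ∈ Subgroup.centralizer (P : Set G) ∧
      (ξ : Subgroup.normalizer (P : Set G) → ℂ) h ≠ 0 := by
    by_contra hcon
    push Not at hcon
    apply h2
    rw [brauerCentralChar, finsum_mem_eq_zero_of_forall_eq_zero]
    · exact memLocalIdeal_zero hMp
    · rintro h ⟨hh1, hh2⟩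
      rw [hcon h hh1 hh2, zero_div]
  obtain ⟨h, hconj, hcent, hne⟩ := h3
  -- the p-part of `h` in `H`
  obtain ⟨z₀, y₀, hzy, hzz, hyz, ⟨k, hk⟩, hcop⟩ := Cfsg.Agent.Helper18.exists_pPart_decomp p h
  have hcomm : Commute z₀ y₀ := by
    obtain ⟨i, rfl⟩ := Subgroup.mem_zpowers_iff.mp hzz
    obtain ⟨j, rfl⟩ := Subgroup.mem_zpowers_iff.mp hyz
    exact (Commute.refl h).zpow_zpow i j
  have hyreg : ¬ p ∣ orderOf y₀ := fun hd => by
    have := Nat.Coprime.eq_one_of_dvd hcop.symm hd
    exact hp.out.one_lt.ne' this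
  have hpp : IsPPart p h z₀ := ⟨y₀, hzy.symm, hcomm, ⟨k, hk⟩, hyreg⟩
  have hppG : IsPPart p (h : G) (z₀ : G) := by
    refine ⟨(y₀ : G), ?_, ?_, ⟨k, ?_⟩, ?_⟩
    · rw [hzy]; rfl
    · have := congrArg Subtype.val hcomm.eq
      exact this
    · rw [Subgroup.orderOf_coe, hk]
    · rw [Subgroup.orderOf_coe]; exact hyreg
  -- a defect group of `b` containing `z₀`
  have hbeq := IsPBlock_eq_blockOf hMp hb hξ
  have h4 : ∃ D' : Subgroup (Subgroup.normalizer (P : Set G)),
      IsDefectGroup p M b D' ∧ z₀ ∈ D' := by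
    by_contra hcon
    push Not at hcon
    apply hne
    apply Cfsg.Agent.S0924.result p M hM ξ h z₀ hpp
    intro D' hD'
    rw [← hbeq] at hD'
    exact hcon D' hD'
  obtain ⟨D', hD', hzD'⟩ := h4
  -- `D'` is `P`
  have hcore := Cfsg.Agent.S0912.result p M hM b hb D' hD'
  have hPsub : P.subgroupOf (Subgroup.normalizer (P : Set G)) ≤ D' := by
    refine le_trans ?_ hcore
    apply le_sSup
    refine ⟨Subgroup.normal_in_normalizer, ?_⟩
    exact hPp.comap_of_injective _ (Subgroup.subtype_injective _)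
  obtain ⟨E, hE, hDE⟩ := Cfsg.Agent.S0917.result p M hM _ b hb B hB hind D' hD'
  have hPE : P ≤ E := by
    intro w hw
    apply hDE
    exact ⟨⟨w, hPH hw⟩, hPsub (by rw [Subgroup.mem_subgroupOf]; exact hw), rfl⟩
  have hcardP := card_defectGroup hM hB hP
  have hcardE := card_defectGroup hM hB hE
  have hEP : E ≤ P := by
    have hPEeq : P = E := Subgroup.eq_of_le_of_card_ge hPE (by rw [hcardP, hcardE])
    exact le_of_eq hPEeq.symm
  refine ⟨(h : G), hconj, hcent, ?_⟩
  intro z hz
  have hzeq : z = (z₀ : G) := isPPart_unique hz hppG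
  have hzP : z ∈ P := by
    rw [hzeq]
    apply hEP
    apply hDE
    exact ⟨z₀, hzD', rfl⟩
  refine ⟨hzP, ?_⟩
  intro w hw
  have hwx : w * (h : G) * w⁻¹ = (h : G) := by
    have := (Subgroup.mem_centralizer_iff.mp hcent) w hw
    rw [this]; group
  have := conj_pPart_eq_of_conj_eq hz hwx
  calc z * w = (w * z * w⁻¹) * w := by rw [this]
    _ = w * z := by group

end Cfsg.Agent.S0929
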