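import Mathlib
import Cfsg.Statements.S0930
import Cfsg.Agent.Helper5.HeightZero2
import Cfsg.Agent.Helper5.DefectGroups2
import Cfsg.Agent.S0927
import Cfsg.Agent.S0929
import Cfsg.Agent.S0933

set_option autoImplicit false
open Cfsg

namespace Cfsg.Agent.S0930

open Cfsg.Agent.Helper5 Cfsg.Agent.Helper5.CC Cfsg.Agent.Helper5.Loc Cfsg.Agent.Helper14
open Cfsg.Agent.Helper24 Cfsg.Agent.S0933

/-- Let H be a subgroup of the finite group G and fix a maximal ideal M of the algebraic integers containing the prime p. If the block b of H with defect group D induces the block B of G with defect group P, then every element of the centre of P is conjugate in G to an element of the centre of D. -/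
theorem result {G : Type*} [Group G] [Finite G] (p : ℕ) [Fact p.Prime] (M : Ideal Cfsg.AlgInt) (hM : Cfsg.IsPModular p M) (H : Subgroup G) (b : Set (Cfsg.IrrCharacter H)) (B : Set (Cfsg.IrrCharacter G)) (hind : Cfsg.IsInducedBlock M H b B) (D : Subgroup H) (hD : Cfsg.IsDefectGroup p M b D) (P : Subgroup G) (hP : Cfsg.IsDefectGroup p M B P) (x : G) (hx : x ∈ P) (hxc : ∀ w ∈ P, x * w = w * x) : ∃ g : G, g * x * g⁻¹ ∈ D.map H.subtype ∧ ∀ w ∈ D.map H.subtype, (g * x * g⁻¹) * w = w * (g * x * g⁻¹) := by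
  classical
  have hp : Fact p.Prime := inferInstance
  have : Fintype G := Fintype.ofFinite G
  have : Fintype H := Fintype.ofFinite H
  have : Fintype (IrrCharacter G) := Fintype.ofFinite _
  have : Fintype (IrrCharacter H) := Fintype.ofFinite _
  have : Fintype (ConjClasses H) := Fintype.ofFinite _
  have hMp := isPrime_of_isPModular hM
  have hb := hind.1
  have hB := hind.2.1
  obtain ⟨ξ, hξ⟩ := IsPBlock.nonempty hMp hb
  obtain ⟨χ, hχ⟩ := IsPBlock.nonempty hMp hB
  obtain ⟨y, hy, S, rfl⟩ := hP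
  obtain ⟨x', hx'S, hx'⟩ := hx
  have hx'' : (x' : G) = x := hx'
  have hcent : ∀ w ∈ (S : Subgroup (Subgroup.centralizer ({y} : Set G))), x' * w = w * x' := by
    intro w hw
    apply Subtype.ext
    have := hxc (w : G) ⟨w, hw, rfl⟩
    rw [← hx''] at this
    exact this
  have h1 := (Cfsg.Agent.S0927.result p M hM B hB y hy S x' hx'S).2 hcent χ hχ
  rw [hx''] at h1
  -- some `H`-class in the `G`-class of `x * y` has nonzero central character
  have h2 : ¬ MemLocalIdeal M (inducedCentralChar H (ξ : H → ℂ) (x * y)) := by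
    intro h
    apply h1
    have := li_sub hMp h (hind.2.2 ξ hξ χ hχ (x * y))
    rwa [sub_sub_cancel] at this
  have h3 : ∃ L : ConjClasses H, IsConj (x * y) ((rep L : H) : G) ∧
      ¬ MemLocalIdeal M (centralChar (ξ : H → ℂ) (rep L)) := by
    by_contra hcon
    push Not at hcon
    apply h2
    rw [inducedCentralChar_eq_act, act_eq_sum_centralChar (isClassFunction_fusionIndicator H _)]
    apply li_sum hMp
    intro L _
    by_cases hc : IsConj (x * y) ((rep L : H) : G)
    · exact li_mul_left hMp (memLocalRing_classIndicator hMp _ _) (hcon L hc)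
    · rw [fusionIndicator, classIndicator_of_not_isConj hc, zero_mul]
      exact memLocalIdeal_zero hMp
  obtain ⟨L, hL, hωL⟩ := h3
  obtain ⟨h', hh', hh'D, hh'p⟩ := Cfsg.Agent.S0929.result p M hM b hb D hD (rep L) ⟨ξ, hξ, hωL⟩
  -- `h'` is `G`-conjugate to `x * y`
  have hc2 : IsConj (x * y) (h' : G) := by
    refine hL.trans ?_
    rw [isConj_iff] at hh' ⊢
    obtain ⟨c, hc⟩ := hh'
    refine ⟨(c : G), ?_⟩
    have := congrArg Subtype.val hc
    simpa using this
  rw [isConj_iff] at hc2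
  obtain ⟨c, hc⟩ := hc2
  -- the p-part of `x * y`
  have hyreg := not_dvd_orderOf_of_defectClass hM hB hy
  have hxy : Commute x y := by
    have := x'.2
    rw [Subgroup.mem_centralizer_singleton_iff, hx''] at this
    exact this
  have hxord : ∃ j : ℕ, orderOf x = p ^ j := by
    obtain ⟨k, hk⟩ := S.2 ⟨x', hx'S⟩
    have h5 : x' ^ (p ^ k) = 1 := by
      have := congrArg Subtype.val hk
      simpa using this
    have h6 : x ^ (p ^ k) = 1 := by
      have := congrArg Subtype.val h5
      rw [← hx'']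
      simpa using this
    obtain ⟨j, _, hj⟩ := (Nat.dvd_prime_pow hp.out).mp (orderOf_dvd_of_pow_eq_one h6)
    exact ⟨j, hj⟩
  have hpp : IsPPart p (x * y) x := ⟨y, rfl, hxy, hxord, hyreg⟩
  have hpp' : IsPPart p (h' : G) (c * x * c⁻¹) := by
    have := isPPart_conj' hpp c
    rwa [hc] at this
  -- transfer to `H`
  obtain ⟨z₀, y₀, hzy, hzz, hyz, ⟨k, hk⟩, hcop⟩ := Cfsg.Agent.Helper18.exists_pPart_decomp p h'
  have hcomm : Commute z₀ y₀ := by
    obtain ⟨i, rfl⟩ := Subgroup.mem_zpowers_iff.mp hzz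
    obtain ⟨j, rfl⟩ := Subgroup.mem_zpowers_iff.mp hyz
    exact (Commute.refl h').zpow_zpow i j
  have hy₀reg : ¬ p ∣ orderOf y₀ := fun hd => by
    have := Nat.Coprime.eq_one_of_dvd hcop.symm hd
    exact hp.out.one_lt.ne' this
  have hppH : IsPPart p h' z₀ := ⟨y₀, hzy.symm, hcomm, ⟨k, hk⟩, hy₀reg⟩
  have hppG : IsPPart p (h' : G) (z₀ : G) := by
    refine ⟨(y₀ : G), ?_, ?_, ⟨k, ?_⟩, ?_⟩
    · rw [hzy]; rfl
    · have := congrArg Subtype.val hcomm.eq
      exact this
    · rw [Subgroup.orderOf_coe, hk]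
    · rw [Subgroup.orderOf_coe]; exact hy₀reg
  have hzeq : c * x * c⁻¹ = (z₀ : G) := isPPart_unique hpp' hppG
  obtain ⟨hz₀D, hz₀c⟩ := hh'p z₀ hppH
  refine ⟨c, ?_, ?_⟩
  · rw [hzeq]
    exact ⟨z₀, hz₀D, rfl⟩
  · rintro w ⟨w', hw', rfl⟩
    rw [hzeq]
    have := congrArg Subtype.val (hz₀c w' hw')
    simpa using this

end Cfsg.Agent.S0930
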