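import Mathlib
import Cfsg.Statements.S0931
import Cfsg.Agent.Helper5.HeightZero2
import Cfsg.Agent.S0906
import Cfsg.Agent.S0917
import Cfsg.Agent.S0930

set_option autoImplicit false
open Cfsg

namespace Cfsg.Agent.S0931

open Cfsg.Agent.Helper5 Cfsg.Agent.Helper5.CC Cfsg.Agent.Helper5.Loc Cfsg.Agent.Helper14

/-- Every block has a defect group. -/
theorem exists_defectGroup {G : Type*} [Group G] [Finite G] (p : ℕ) [Fact p.Prime]
    (M : Ideal Cfsg.AlgInt) (hM : Cfsg.IsPModular p M) (B : Set (Cfsg.IrrCharacter G))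
    (hB : Cfsg.IsPBlock M B) : ∃ D : Subgroup G, IsDefectGroup p M B D := by
  obtain ⟨g, hg⟩ := Cfsg.Agent.S0906.result p M hM B hB
  obtain ⟨S⟩ : Nonempty (Sylow p (Subgroup.centralizer ({g} : Set G))) := inferInstance
  exact ⟨_, g, hg, S, rfl⟩

/-- Let H be a subgroup of the finite group G and fix a maximal ideal M of the algebraic integers containing the prime p. If the block b of H induces the block B of G, then b has defect 0 if and only if B has defect 0. -/
theorem result {G : Type*} [Group G] [Finite G] (p : ℕ) [Fact p.Prime] (M : Ideal Cfsg.AlgInt) (hM : Cfsg.IsPModular p M) (H : Subgroup G) (b : Set (Cfsg.IrrCharacter H)) (B : Set (Cfsg.IrrCharacter G)) (hind : Cfsg.IsInducedBlock M H b B) : Cfsg.blockDefect p b = 0 ↔ Cfsg.blockDefect p B = 0 := by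
  classical
  have hp : Fact p.Prime := inferInstance
  have : Fintype G := Fintype.ofFinite G
  have : Fintype H := Fintype.ofFinite H
  have : Fintype (IrrCharacter G) := Fintype.ofFinite _
  have : Fintype (IrrCharacter H) := Fintype.ofFinite _
  have hb := hind.1
  have hB := hind.2.1
  obtain ⟨D, hD⟩ := exists_defectGroup p M hM b hb
  obtain ⟨P, hP⟩ := exists_defectGroup p M hM B hB
  have hcD := card_defectGroup hM hb hD
  have hcP := card_defectGroup hM hB hP
  have hpow : ∀ n : ℕ, p ^ n = 1 → n = 0 := by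
    intro n hn
    by_contra h0
    have : 1 < p ^ n := Nat.one_lt_pow h0 hp.out.one_lt
    omega
  constructor
  · intro h0
    rw [h0, pow_zero] at hcD
    have hDbot : D = ⊥ := Subgroup.card_eq_one.mp hcD
    apply hpow
    rw [← hcP]
    -- `P` has trivial centre
    have hPp : IsPGroup p P := by
      obtain ⟨y, hy, S, rfl⟩ := hP
      exact S.2.map _
    by_contra hne
    have hnt : Nontrivial P := by
      rw [← Finite.one_lt_card_iff_nontrivial]
      have : 0 < Nat.card P := Nat.card_pos
      omega
    have hcn := hPp.center_nontrivial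
    obtain ⟨⟨z, hz⟩, hz1⟩ := exists_ne (1 : Subgroup.center P)
    apply hz1
    apply Subtype.ext
    apply Subtype.ext
    show (z : G) = 1
    obtain ⟨g, hg, -⟩ := Cfsg.Agent.S0930.result p M hM H b B hind D hD P hP (z : G) z.2 (by
      intro w hw
      have := (Subgroup.mem_center_iff.mp hz) ⟨w, hw⟩
      have h2 := congrArg Subtype.val this
      exact h2.symm)
    rw [hDbot] at hg
    obtain ⟨d, hd, hd'⟩ := hg
    have hd1 : d = 1 := Subgroup.mem_bot.mp hd
    rw [hd1] at hd'
    have h3 : g * (z : G) * g⁻¹ = 1 := by rw [← hd']; rfl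
    calc (z : G) = g⁻¹ * (g * (z : G) * g⁻¹) * g := by group
      _ = 1 := by rw [h3]; group
  · intro h0
    rw [h0, pow_zero] at hcP
    obtain ⟨E, hE, hDE⟩ := Cfsg.Agent.S0917.result p M hM H b hb B hB hind D hD
    have hcE := card_defectGroup hM hB hE
    rw [h0, pow_zero] at hcE
    have hEbot : E = ⊥ := Subgroup.card_eq_one.mp hcE
    apply hpow
    rw [← hcD, ← card_map_subtype]
    rw [hEbot, le_bot_iff] at hDE
    rw [hDE]
    exact Subgroup.card_bot

end Cfsg.Agent.S0931
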