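import Cfsg.Statements.S0263
import Mathlib

set_option autoImplicit false
open Cfsg

namespace Cfsg.Agent.S0263

/-- A Sylow p-subgroup of GL_n(q), p the characteristic, has order q^(n(n-1)/2). -/
theorem result {F : Type*} [Field F] [Fintype F] {q : ℕ} (hF : Fintype.card F = q) (p : ℕ) [Fact p.Prime] [CharP F p] (n : ℕ) (P : Sylow p (Matrix.GeneralLinearGroup (Fin n) F)) : Nat.card P = q ^ (n * (n - 1) / 2) := by
  classical
  have hp : p.Prime := Fact.out
  obtain ⟨f, _, hq⟩ := FiniteField.card F p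
  rw [hF] at hq
  have hq1 : 1 ≤ q := by rw [← hF]; exact Fintype.card_pos
  have hfpos : 0 < (f : ℕ) := f.pos
  -- order of GL
  have hG : Nat.card (Matrix.GeneralLinearGroup (Fin n) F) =
      q ^ (n * (n - 1) / 2) * ∏ i : Fin n, (q ^ (n - (i : ℕ)) - 1) := by
    rw [Matrix.card_GL_field, hF]
    have h1 : ∀ i : Fin n, q ^ n - q ^ (i : ℕ) = q ^ (i : ℕ) * (q ^ (n - (i : ℕ)) - 1) := by
      intro i
      rw [Nat.mul_sub, mul_one, ← pow_add]
      congr 2
      have := i.2
      omega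
    rw [Finset.prod_congr rfl (fun i _ => h1 i), Finset.prod_mul_distrib,
      Finset.prod_pow_eq_pow_sum, Fin.sum_univ_eq_sum_range (fun i => i) n, Finset.sum_range_id]
  have hM : ¬ p ∣ ∏ i : Fin n, (q ^ (n - (i : ℕ)) - 1) := by
    rw [Prime.dvd_finsetProd_iff hp.prime]
    rintro ⟨i, _, hi⟩
    have hk : 1 ≤ n - (i : ℕ) := by have := i.2; omega
    have h2 : p ∣ q ^ (n - (i : ℕ)) := by
      rw [hq, ← pow_mul]
      exact dvd_pow_self p (by positivity)
    have h3 : 1 ≤ q ^ (n - (i : ℕ)) := Nat.one_le_pow _ _ hq1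
    have h4 : p ∣ 1 := by
      have := (Nat.dvd_sub h2 hi)
      rwa [Nat.sub_sub_self h3] at this
    exact hp.one_lt.ne' (Nat.dvd_one.mp h4)
  have hM0 : (∏ i : Fin n, (q ^ (n - (i : ℕ)) - 1)) ≠ 0 := fun h => hM (h ▸ dvd_zero p)
  rw [Sylow.card_eq_multiplicity, hG, Nat.factorization_mul (by positivity) hM0,
    Finsupp.add_apply, Nat.factorization_eq_zero_of_not_dvd hM, add_zero, hq, ← pow_mul,
    Nat.Prime.factorization_pow hp, Finsupp.single_eq_same]

end Cfsg.Agent.S0263
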