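import Cfsg.Statements.S1446
import Cfsg.Agent.Helper5.FrobModK

set_option autoImplicit false
open Cfsg

namespace Cfsg.Agent.S1446

/-- Let X be a finite group with subgroups K, R, M such that: K and R are nontrivial, K ∩ R = 1, R normalizes K, no non-identity element of R centralizes a non-identity element of K, K ⊔ R is solvable of odd order; M is nilpotent and nontrivial, normalized by K and by R, with order coprime to that of K ⊔ R, M ∩ C(K) = 1, and M ∩ C(x) = M ∩ C(R) for all non-identity x ∈ R. Then R has prime order p, #M = #(M ∩ C(R)) ^ p, and if M ∩ C(R) is cyclic then [K, K] centralizes M. -/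
theorem result {X : Type*} [Group X] [Finite X] (K R M : Subgroup X) (hK1 : K ≠ ⊥) (hR1 : R ≠ ⊥) (hKR : K ⊓ R = ⊥)
    (hRK : R ≤ Subgroup.normalizer (K : Set X)) (hfrob : ∀ r ∈ R, r ≠ 1 → K ⊓ Subgroup.centralizer ({r} : Set X) = ⊥)
    (hsolv : Group.IsSolvable ↥(K ⊔ R)) (hodd : Odd (Nat.card ↥(K ⊔ R)))
    (hM1 : M ≠ ⊥) (hMn : Group.IsNilpotent M) (hKM : K ≤ Subgroup.normalizer (M : Set X)) (hRM : R ≤ Subgroup.normalizer (M : Set X))
    (hcop : (Nat.card ↥(K ⊔ R)).Coprime (Nat.card M)) (hCK : M ⊓ Subgroup.centralizer (K : Set X) = ⊥)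
    (hpr : ∀ x ∈ R, x ≠ 1 → M ⊓ Subgroup.centralizer ({x} : Set X) = M ⊓ Subgroup.centralizer (R : Set X)) :
    (Nat.card R).Prime ∧ Nat.card M = Nat.card ↥(M ⊓ Subgroup.centralizer (R : Set X)) ^ Nat.card R ∧
      (IsCyclic ↥(M ⊓ Subgroup.centralizer (R : Set X)) → ⁅K, K⁆ ≤ Subgroup.centralizer (M : Set X)) := by
  classical
  have hUn : ∀ e ∈ R, ∀ u ∈ K, e * u * e⁻¹ ∈ K := by
    intro e he u hu
    have := hRK he
    rw [Subgroup.mem_normalizer_iff] at this
    exact (this u).mp hu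
  have hfpf : ∀ e ∈ R, e ≠ 1 → ∀ u ∈ K, e * u = u * e → u = 1 := by
    intro e he he1 u hu hcomm
    have hmem : u ∈ K ⊓ Subgroup.centralizer ({e} : Set X) := by
      refine Subgroup.mem_inf.mpr ⟨hu, ?_⟩
      rw [Subgroup.mem_centralizer_iff]
      intro h hh
      rw [Set.mem_singleton_iff] at hh
      rw [hh]; exact hcomm
    rw [hfrob e he he1, Subgroup.mem_bot] at hmem
    exact hmem
  have hnormM : K ⊔ R ≤ Subgroup.normalizer (M : Set X) := sup_le hKM hRM
  have hHn : ∀ x ∈ K ⊔ R, ∀ h ∈ M, x * h * x⁻¹ ∈ M := by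
    intro x hx h hh
    have := hnormM hx
    rw [Subgroup.mem_normalizer_iff] at this
    exact (this h).mp hh
  haveI := hMn
  have hsolvM : Group.IsSolvable M := inferInstance
  have hcentKR : M ⊓ Subgroup.centralizer ((K ⊔ R : Subgroup X) : Set X) = ⊥ := by
    rw [eq_bot_iff, ← hCK]
    exact inf_le_inf_left _ (Subgroup.centralizer_le (by
      intro x hx; exact (le_sup_left : K ≤ K ⊔ R) hx))
  -- (b)
  have hb : Nat.card M = Nat.card ↥(M ⊓ Subgroup.centralizer (R : Set X)) ^ Nat.card R := by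
    have h := Cfsg.Agent.Helper5.FrobMod.frobenius_fixed_point_formula K R hUn hfpf M hHn hsolvM hcop.symm
    rw [hcentKR, hCK, Subgroup.card_bot, one_pow, one_mul, mul_one] at h
    exact h
  -- (a)
  have hMcard : 1 < Nat.card M := (Subgroup.one_lt_card_iff_ne_bot M).mpr hM1
  have hc2 : 2 ≤ Nat.card ↥(M ⊓ Subgroup.centralizer (R : Set X)) := by
    by_contra hcon
    push Not at hcon
    have hpos : 0 < Nat.card ↥(M ⊓ Subgroup.centralizer (R : Set X)) := Nat.card_pos
    have h1 : Nat.card ↥(M ⊓ Subgroup.centralizer (R : Set X)) = 1 := by omega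
    rw [h1, one_pow] at hb
    omega
  have hRcard : Nat.card R ≠ 1 := by
    intro h
    exact hR1 ((Subgroup.card_eq_one).mp h)
  obtain ⟨p, hp, hpdvd⟩ := Nat.exists_prime_and_dvd hRcard
  haveI : Fact p.Prime := ⟨hp⟩
  obtain ⟨x, hx⟩ := exists_prime_orderOf_dvd_card' p hpdvd
  have hxR : (x : X) ∈ R := x.2
  have hx1 : (x : X) ≠ 1 := by
    intro h
    have : x = 1 := Subtype.ext h
    rw [this, orderOf_one] at hx
    exact hp.one_lt.ne hx
  have hxord : orderOf (x : X) = p := by rw [Subgroup.orderOf_coe]; exact hx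
  set E : Subgroup X := Subgroup.zpowers (x : X) with hE
  have hER : E ≤ R := by
    rw [hE, Subgroup.zpowers_le]; exact hxR
  have hEcard : Nat.card E = p := by rw [hE, Nat.card_zpowers, hxord]
  have hKE : K ⊔ E ≤ K ⊔ R := sup_le_sup_left hER K
  have hcentE : M ⊓ Subgroup.centralizer (E : Set X) = M ⊓ Subgroup.centralizer (R : Set X) := by
    rw [← hpr (x : X) hxR hx1]
    ext g
    simp only [Subgroup.mem_inf, Subgroup.mem_centralizer_iff]
    constructor
    · rintro ⟨hg, hc⟩
      refine ⟨hg, fun h hh => ?_⟩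
      rw [Set.mem_singleton_iff] at hh
      rw [hh]
      exact hc _ (Subgroup.mem_zpowers _)
    · rintro ⟨hg, hc⟩
      refine ⟨hg, fun h hh => ?_⟩
      obtain ⟨k, rfl⟩ := Subgroup.mem_zpowers_iff.mp hh
      have h1 : (x : X) * g = g * x := hc _ (Set.mem_singleton _)
      exact ((Commute.zpow_left (show Commute (x : X) g from h1) k)).eq
  have hbE : Nat.card M = Nat.card ↥(M ⊓ Subgroup.centralizer (R : Set X)) ^ p := by
    have h := Cfsg.Agent.Helper5.FrobMod.frobenius_fixed_point_formula K E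
      (fun e he u hu => hUn e (hER he) u hu) (fun e he he1 u hu hc => hfpf e (hER he) he1 u hu hc) M
      (fun y hy h hh => hHn y (hKE hy) h hh) hsolvM
      (Nat.Coprime.coprime_dvd_right (Subgroup.card_dvd_of_le hKE) hcop.symm)
    have hcentKE : M ⊓ Subgroup.centralizer ((K ⊔ E : Subgroup X) : Set X) = ⊥ := by
      rw [eq_bot_iff, ← hCK]
      exact inf_le_inf_left _ (Subgroup.centralizer_le (by
        intro y hy; exact (le_sup_left : K ≤ K ⊔ E) hy))
    rw [hcentKE, hCK, Subgroup.card_bot, one_pow, one_mul, mul_one, hcentE, hEcard] at h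
    exact h
  have hpr' : Nat.card R = p := by
    have := hb.symm.trans hbE
    exact Nat.pow_right_injective hc2 this
  refine ⟨hpr' ▸ hp, hb, ?_⟩
  intro hcyc
  have hmain := Cfsg.Agent.Helper5.FrobMod.derived_centralizes K R hUn hfpf M hHn hsolvM hcop.symm hcyc
  rw [Subgroup.commutator_le]
  intro u1 hu1 u2 hu2
  rw [Subgroup.mem_centralizer_iff]
  intro m hm
  rw [commutatorElement_def]
  exact (hmain u1 hu1 u2 hu2 m hm).symm

end Cfsg.Agent.S1446
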