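import Mathlib
import Cfsg.Statements.S1448
import Cfsg.Agent.Helper19.RankTwoStructD
import Cfsg.Agent.Helper10.Trace
import Cfsg.Agent.Helper26.Thompson
import Cfsg.Agent.S0640

set_option autoImplicit false
open Cfsg

namespace Cfsg.Agent.S1448

open Subgroup Cfsg.Agent.Helper26
open scoped commutatorElement

/-- Let G be a finite group, p an odd prime, R a nontrivial p-subgroup with no elementary abelian subgroup of order p ^ 3, and A a subgroup of odd order coprime to p normalizing R with [R, A] = R. Then 3 < p, and either R is abelian or R is generated by two elementwise-commuting subgroups R₁, R₂ with R₁ non-abelian of order p ^ 3 and exponent p, R₂ cyclic, and the elements of R₂ of order dividing p generating exactly [R₁, R₁]. -/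
theorem result {G : Type*} [Group G] [Finite G] (p : ℕ) [Fact p.Prime] (hp : p ≠ 2) (R A : Subgroup G) (hR : IsPGroup p R) (hR1 : R ≠ ⊥) (hr : Cfsg.PRankLE p 2 R)
    (hA : (A ≤ Subgroup.normalizer (R : Set G))) (hcop : (Nat.card A).Coprime p) (hAodd : Odd (Nat.card A)) (hRA : ⁅R, A⁆ = R) :
    3 < p ∧ (IsMulCommutative R ∨ ∃ R₁ R₂ : Subgroup G, R₁ ⊔ R₂ = R ∧ (∀ a ∈ R₁, ∀ b ∈ R₂, a * b = b * a) ∧
        ¬ IsMulCommutative R₁ ∧ Nat.card R₁ = p ^ 3 ∧ Monoid.exponent R₁ = p ∧ IsCyclic R₂ ∧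
        Subgroup.closure {x : G | x ∈ R₂ ∧ x ^ p = 1} = ⁅R₁, R₁⁆) := by
  classical
  have hpp : p.Prime := Fact.out
  -- `3 < p`
  have hp3 : 3 < p := by
    let ρ : ↥A →* MulAut ↥R := Cfsg.Agent.Helper10.conjOn R A hA
    by_cases htriv : ∀ a : ↥A, ρ a = 1
    · exfalso
      apply hR1
      rw [← hRA, commutator_eq_bot_iff_le_centralizer]
      intro r hr'
      rw [mem_centralizer_iff]
      intro a ha
      have h2 := congrArg (fun f : MulAut ↥R => ((f ⟨r, hr'⟩ : ↥R) : G)) (htriv ⟨a, ha⟩)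
      have h3 : a * r * a⁻¹ = r := h2
      calc a * r = (a * r * a⁻¹) * a := by group
        _ = r * a := by rw [h3]
    · push Not at htriv
      obtain ⟨a, ha⟩ := htriv
      have hord : orderOf (ρ a) ≠ 1 := by
        rw [Ne, orderOf_eq_one_iff]; exact ha
      obtain ⟨q, hq, hqdvd⟩ := Nat.exists_prime_and_dvd hord
      have hqA : q ∣ Nat.card A :=
        (hqdvd.trans (orderOf_map_dvd ρ a)).trans (orderOf_dvd_natCard a)
      have hqodd : Odd q := Odd.of_dvd_nat hAodd hqA
      have hqp : q ≠ p := by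
        rintro rfl
        have h1 : q ∣ Nat.gcd (Nat.card A) q := Nat.dvd_gcd hqA dvd_rfl
        rw [hcop] at h1
        exact hq.one_lt.ne' (Nat.dvd_one.mp h1)
      have hqAut : q ∣ Nat.card (MulAut ↥R) := hqdvd.trans (orderOf_dvd_natCard _)
      have h1 := (Cfsg.Agent.S0640.result hp hR hr q hq hqp hqAut).2
      have hq3 : 3 ≤ q := by
        have := hq.two_le
        rcases hqodd with ⟨m, hm⟩
        omega
      omega
  refine ⟨hp3, ?_⟩
  by_cases hab : IsMulCommutative ↥R
  · exact Or.inl hab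
  right
  -- work in `X = N_G(R)`
  set Nr : Subgroup G := Subgroup.normalizer (R : Set G) with hNrdef
  have hRNr : R ≤ Nr := Subgroup.le_normalizer
  set P : Subgroup ↥Nr := R.subgroupOf Nr with hPdef
  set A' : Subgroup ↥Nr := A.subgroupOf Nr with hA'def
  haveI hPn : P.Normal := Subgroup.normal_in_normalizer
  have hPp : IsPGroup p ↥P := hR.comap_subtype
  have hA'card : Nat.card A' = Nat.card A :=
    Nat.card_congr (Subgroup.subgroupOfEquivOfLe hA).toEquiv
  have hPmap : P.map Nr.subtype = R := by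
    rw [hPdef, Subgroup.subgroupOf_map_subtype, inf_eq_left.mpr hRNr]
  have hrk' : ∀ E : Subgroup ↥Nr, E ≤ P → (∀ a ∈ E, ∀ b ∈ E, a * b = b * a) →
      (∀ a ∈ E, a ^ p = 1) → Nat.card E ≤ p ^ 2 := by
    intro E hEP hEc hEe
    have hEel : IsElementaryAbelian p E := isElementaryAbelian_iff.mpr ⟨hEc, hEe⟩
    have h1 : IsElementaryAbelian p (E.map Nr.subtype) := isElementaryAbelian_map _ hEel
    have h2 : E.map Nr.subtype ≤ R := by
      rintro _ ⟨e, he, rfl⟩
      exact Subgroup.mem_subgroupOf.mp (hEP he)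
    have h3 := isElementaryAbelian_subgroupOf R h1
    have h4 := hr _ h3.1 h3.2
    rw [card_subgroupOf_of_le h2, Subgroup.card_map_of_injective Nr.subtype_injective] at h4
    exact h4
  have hPA' : ⁅P, A'⁆ = P := by
    apply Subgroup.map_injective Nr.subtype_injective
    rw [Subgroup.map_commutator, hPdef, hA'def, Subgroup.subgroupOf_map_subtype,
      Subgroup.subgroupOf_map_subtype, inf_eq_left.mpr hRNr, inf_eq_left.mpr hA, hRA]
  have hnonab' : ∃ x ∈ P, ∃ y ∈ P, x * y ≠ y * x := by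
    by_contra hcon
    push Not at hcon
    apply hab
    refine ⟨⟨fun x y => ?_⟩⟩
    have h1 := hcon ⟨x, hRNr x.2⟩ (Subgroup.mem_subgroupOf.mpr x.2) ⟨y, hRNr y.2⟩
      (Subgroup.mem_subgroupOf.mpr y.2)
    apply Subtype.ext
    have h2 := congrArg Subtype.val h1
    simpa using h2
  obtain ⟨T, C, hTC, hcomm, hTnonab, hTcard, hTexp, hCcyc, hclos⟩ :=
    Cfsg.Agent.Helper19.RankTwoStruct.rank_two_structure hp3 P hPp hrk' A'
      (by rw [hA'card]; exact hcop) (by rw [hA'card]; exact hAodd) hPA' hnonab'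
  refine ⟨T.map Nr.subtype, C.map Nr.subtype, ?_, ?_, ?_, ?_, ?_, ?_, ?_⟩
  · rw [← Subgroup.map_sup, hTC, hPmap]
  · rintro _ ⟨a, ha, rfl⟩ _ ⟨b, hb, rfl⟩
    exact congrArg Subtype.val (hcomm a ha b hb)
  · intro hc
    obtain ⟨x, hx, y, hy, hxy⟩ := hTnonab
    apply hxy
    obtain ⟨⟨hc'⟩⟩ := hc
    have h1 := hc' ⟨(x : G), ⟨x, hx, rfl⟩⟩ ⟨(y : G), ⟨y, hy, rfl⟩⟩
    have h2 : (x : G) * (y : G) = (y : G) * (x : G) := congrArg Subtype.val h1
    exact Subtype.ext h2
  · rw [Subgroup.card_map_of_injective Nr.subtype_injective, hTcard]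
  · have h1 : Monoid.exponent ↥(T.map Nr.subtype) ∣ p := by
      apply Monoid.exponent_dvd_of_forall_pow_eq_one
      rintro ⟨_, ⟨x, hx, rfl⟩⟩
      apply Subtype.ext
      have h2 := congrArg Subtype.val (hTexp x hx)
      simpa using h2
    rcases (Nat.dvd_prime hpp).mp h1 with h | h
    · exfalso
      rw [Monoid.exp_eq_one_iff] at h
      have h2 : Nat.card ↥(T.map Nr.subtype) = 1 := Nat.card_eq_one_iff_unique.mpr ⟨h, ⟨1⟩⟩
      rw [Subgroup.card_map_of_injective Nr.subtype_injective, hTcard] at h2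
      have : 1 < p ^ 3 := Nat.one_lt_pow (by norm_num) hpp.one_lt
      omega
    · exact h
  · exact isCyclic_of_surjective (Subgroup.equivMapOfInjective C Nr.subtype Nr.subtype_injective)
      (Subgroup.equivMapOfInjective C Nr.subtype Nr.subtype_injective).surjective
  · rw [← Subgroup.map_commutator, ← hclos, MonoidHom.map_closure]
    congr 1
    ext x
    constructor
    · rintro ⟨⟨c, hc, rfl⟩, hxp⟩
      refine ⟨c, ⟨hc, ?_⟩, rfl⟩
      apply Subtype.ext
      simpa using hxp
    · rintro ⟨c, ⟨hc, hcp⟩, rfl⟩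
      refine ⟨⟨c, hc, rfl⟩, ?_⟩
      have h2 := congrArg Subtype.val hcp
      simpa using h2

end Cfsg.Agent.S1448
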