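import Cfsg.Statements.S1415
import Mathlib
import Cfsg.Agent.Helper16.BG12a
import Cfsg.Agent.S1405

set_option autoImplicit false
open Cfsg

namespace Cfsg.Agent.S1415

theorem result {G : Type*} [Group G] [Finite G] (hG : Cfsg.IsMinSimpleOddOrder G)
    (M : Subgroup G) (hM : IsCoatom M) (E : Subgroup G) (hE : Cfsg.IsComplIn E (Cfsg.sigmaCore M) M) :
    Group.IsNilpotent ↥⁅E, E⁆ ∧
      (∀ E₁ : Subgroup G, Cfsg.IsPiHallOf (Cfsg.tau1 M) E₁ E → IsCyclic E₁) ∧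
      ∀ E₃ : Subgroup G, Cfsg.IsPiHallOf (Cfsg.tau3 M) E₃ E → IsCyclic E₃ ∧ E₃ ≤ ⁅E, E⁆ ∧ E ≤ Subgroup.normalizer (E₃ : Set G) := by
  obtain ⟨-, -, hα, -, hnil⟩ := Cfsg.Agent.S1405.result hG M hM
  exact Cfsg.Agent.Helper16.BG12.lemma_12_1 hG.1 hE hα hnil

end Cfsg.Agent.S1415
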