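import Mathlib
import Cfsg.Statements.S3766
import Cfsg.Agent.Helper19.Subnormal
import Cfsg.Agent.Helper7.FStar
import Cfsg.Agent.Lead.CoprimeFrattini

set_option autoImplicit false
open Cfsg
open scoped commutatorElement

namespace Cfsg.Agent.S3766

open Cfsg.Agent.Helper19 Cfsg.Agent.Helper7

/-- `U / V` is a chief factor of `G`. -/
def Chief {G : Type*} [Group G] (U V : Subgroup G) : Prop :=
  U.Normal ∧ V.Normal ∧ V < U ∧ ∀ W : Subgroup G, W.Normal → V ≤ W → W ≤ U → W = V ∨ W = U

/-- `x` centralizes the factor `U / V`. -/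
def Cent {G : Type*} [Group G] (U V : Subgroup G) (x : G) : Prop :=
  ∀ u ∈ U, u * x * u⁻¹ * x⁻¹ ∈ V

lemma Cent.mul {G : Type*} [Group G] {U V : Subgroup G} (hV : V.Normal) {x y : G}
    (hx : Cent U V x) (hy : Cent U V y) : Cent U V (x * y) := by
  intro u hu
  have h1 : u * (x * y) * u⁻¹ * (x * y)⁻¹ =
      (u * x * u⁻¹ * x⁻¹) * (x * (u * y * u⁻¹ * y⁻¹) * x⁻¹) := by group
  rw [h1]
  exact V.mul_mem (hx u hu) (hV.conj_mem _ (hy u hu) x)

lemma Cent.inv {G : Type*} [Group G] {U V : Subgroup G} (hV : V.Normal) {x : G}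
    (hx : Cent U V x) : Cent U V x⁻¹ := by
  intro u hu
  have h1 : u * x⁻¹ * u⁻¹ * x⁻¹⁻¹ = x⁻¹ * (u * x * u⁻¹ * x⁻¹)⁻¹ * x⁻¹⁻¹ := by group
  rw [h1]
  exact hV.conj_mem _ (V.inv_mem (hx u hu)) x⁻¹

lemma Cent.one {G : Type*} [Group G] {U V : Subgroup G} : Cent U V (1 : G) := by
  intro u _
  simp

lemma Cent.conj {G : Type*} [Group G] {U V : Subgroup G} (hU : U.Normal) (hV : V.Normal) {x : G}
    (hx : Cent U V x) (a : G) : Cent U V (a * x * a⁻¹) := by
  intro u hu
  have h1 : u * (a * x * a⁻¹) * u⁻¹ * (a * x * a⁻¹)⁻¹ =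
      a * ((a⁻¹ * u * a⁻¹⁻¹) * x * (a⁻¹ * u * a⁻¹⁻¹)⁻¹ * x⁻¹) * a⁻¹ := by group
  rw [h1]
  exact hV.conj_mem _ (hx _ (hU.conj_mem u hu a⁻¹)) a

/-- If `g` centralizes a family of chief factors then so does every element of its normal
closure. -/
lemma cent_normalClosure {G : Type*} [Group G] {g : G} {P : Subgroup G → Subgroup G → Prop}
    (hP : ∀ U V, P U V → U.Normal ∧ V.Normal) (hg : ∀ U V, P U V → Cent U V g) :
    ∀ x ∈ Subgroup.normalClosure ({g} : Set G), ∀ U V, P U V → Cent U V x := by
  intro x hx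
  unfold Subgroup.normalClosure at hx
  induction hx using Subgroup.closure_induction with
  | mem y hy =>
    obtain ⟨a, ha, hconj⟩ := Group.mem_conjugatesOfSet_iff.mp hy
    rw [Set.mem_singleton_iff] at ha
    subst ha
    obtain ⟨c, rfl⟩ := isConj_iff.mp hconj
    intro U V hUV
    exact (hg U V hUV).conj (hP U V hUV).1 (hP U V hUV).2 c
  | one => intro U V _; exact Cent.one
  | mul y z _ _ hy hz =>
    intro U V hUV
    exact (hy U V hUV).mul (hP U V hUV).2 (hz U V hUV)
  | inv y _ hy =>
    intro U V hUV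
    exact (hy U V hUV).inv (hP U V hUV).2

/-- A nilpotent normal subgroup centralizes every chief factor. -/
lemma cent_of_nilpotent_normal {G : Type*} [Group G] [Finite G] (F : Subgroup G) (hFn : F.Normal)
    (hnil : Group.IsNilpotent ↥F) {U V : Subgroup G} (hUV : Chief U V) :
    ∀ g ∈ F, Cent U V g := by
  obtain ⟨hUn, hVn, hlt, hmin⟩ := hUV
  set Z : ℕ → Subgroup G := fun i => (Subgroup.upperCentralSeries ↥F i).map F.subtype with hZ
  have hZn : ∀ i, (Z i).Normal := by
    intro i
    have h1 := Cfsg.Agent.Lead.normalizer_le_normalizer_map_of_characteristic F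
      (Subgroup.upperCentralSeries ↥F i)
    rw [Subgroup.normalizer_eq_top_iff.mpr hFn, top_le_iff] at h1
    exact Subgroup.normalizer_eq_top_iff.mp h1
  obtain ⟨n, hn⟩ := hnil.nilpotent'
  have hZtop : Z n = F := by
    simp only [hZ, hn]
    rw [← MonoidHom.range_eq_map, Subgroup.range_subtype]
  set W : ℕ → Subgroup G := fun i => (U ⊓ Z i) ⊔ V with hW
  have hWn : ∀ i, (W i).Normal := by
    intro i
    have := hZn i
    exact inferInstance
  have hVW : ∀ i, V ≤ W i := fun i => le_sup_right
  have hWU : ∀ i, W i ≤ U := fun i => sup_le inf_le_left hlt.le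
  intro g hgF u hu
  -- `[u, g] ∈ U ⊓ F`
  have hcomm : u * g * u⁻¹ * g⁻¹ ∈ U ⊓ F := by
    constructor
    · have : u * g * u⁻¹ * g⁻¹ = u * (g * u⁻¹ * g⁻¹) := by group
      rw [this]
      exact U.mul_mem hu (hUn.conj_mem _ (U.inv_mem hu) g)
    · exact F.mul_mem (hFn.conj_mem g hgF u) (F.inv_mem hgF)
  by_cases hex : ∃ i, W i = U
  · classical
    have hfind := Nat.find_spec hex
    have hminI := fun m (hm : m < Nat.find hex) => Nat.find_min hex hm
    cases hi : Nat.find hex with
    | zero =>
      exfalso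
      rw [hi] at hfind
      have h0 : W 0 = V := by
        simp only [hW, hZ, Subgroup.upperCentralSeries_zero, Subgroup.map_bot, inf_bot_eq,
          bot_sup_eq]
      rw [h0] at hfind
      exact hlt.ne hfind
    | succ j =>
      rw [hi] at hfind
      have hj : W j = V := by
        rcases hmin (W j) (hWn j) (hVW j) (hWU j) with h | h
        · exact h
        · exact absurd h (hminI j (by omega))
      have hUZj : U ⊓ Z j ≤ V := by
        rw [← hj]; exact le_sup_left
      have huW : u ∈ (U ⊓ Z (j + 1)) ⊔ V := by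
        have : u ∈ W (j + 1) := by rw [hfind]; exact hu
        exact this
      obtain ⟨x, hx, v, hv, rfl⟩ := Subgroup.mem_sup_of_normal_right.mp huW
      obtain ⟨hxU, hxZ⟩ := hx
      have h1 : x * v * g * (x * v)⁻¹ * g⁻¹ =
          x * (v * g * v⁻¹ * g⁻¹) * x⁻¹ * (x * g * x⁻¹ * g⁻¹) := by group
      rw [h1]
      have h2 : v * g * v⁻¹ * g⁻¹ ∈ V := by
        have : v * g * v⁻¹ * g⁻¹ = v * (g * v⁻¹ * g⁻¹) := by group
        rw [this]
        exact V.mul_mem hv (hVn.conj_mem _ (V.inv_mem hv) g)
      have h3 : x * g * x⁻¹ * g⁻¹ ∈ U ⊓ Z j := by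
        constructor
        · have : x * g * x⁻¹ * g⁻¹ = x * (g * x⁻¹ * g⁻¹) := by group
          rw [this]
          exact U.mul_mem hxU (hUn.conj_mem _ (U.inv_mem hxU) g)
        · obtain ⟨x', hx', rfl⟩ := hxZ
          rw [SetLike.mem_coe, Subgroup.mem_upperCentralSeries_succ_iff] at hx'
          have h4 := hx' ⟨g, hgF⟩
          refine ⟨_, h4, ?_⟩
          simp [commutatorElement_def]
      exact V.mul_mem (hVn.conj_mem _ h2 x) (hUZj h3)
  · push Not at hex
    have hn' : W n = V := by
      rcases hmin (W n) (hWn n) (hVW n) (hWU n) with h | h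
      · exact h
      · exact absurd h (hex n)
    have : U ⊓ F ≤ V := by
      rw [← hn', ← hZtop]; exact le_sup_left
    exact this hcomm

/-- Key nilpotency lemma: if `E` centralizes all chief factors below the normal subgroup
`D ≤ E`, then `D` lies in a term of the upper central series of `E`. -/
lemma le_upperCentralSeries_of_cent {G : Type*} [Group G] [Finite G] (E : Subgroup G) :
    ∀ n : ℕ, ∀ D : Subgroup G, Nat.card D = n → D.Normal → D ≤ E →
      (∀ U V, Chief U V → U ≤ D → ∀ e ∈ E, Cent U V e) →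
      ∃ k, D ≤ (Subgroup.upperCentralSeries ↥E k).map E.subtype := by
  intro n
  induction n using Nat.strong_induction_on with
  | _ n ih =>
    intro D hcard hDn hDE hcent
    by_cases hD0 : D = ⊥
    · exact ⟨0, by rw [hD0]; exact bot_le⟩
    obtain ⟨V, -, hVmax⟩ := exists_maximal_ge_of_wellFoundedGT
      (fun V : Subgroup G => V.Normal ∧ V < D) ⊥ ⟨inferInstance, bot_lt_iff_ne_bot.mpr hD0⟩
    obtain ⟨hVn, hVD⟩ := hVmax.prop
    have hchief : Chief D V := by
      refine ⟨hDn, hVn, hVD, ?_⟩
      intro W hWn hVW hWD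
      by_cases hWeq : W = D
      · exact Or.inr hWeq
      · left
        exact le_antisymm (hVmax.le_of_ge ⟨hWn, lt_of_le_of_ne hWD hWeq⟩ hVW) hVW
    obtain ⟨k, hk⟩ := ih (Nat.card V) (hcard ▸ card_lt_card_of_lt hVD) V rfl hVn (hVD.le.trans hDE)
      (fun U' V' hUV' hU' e he => hcent U' V' hUV' (hU'.trans hVD.le) e he)
    refine ⟨k + 1, ?_⟩
    intro d hd
    refine ⟨⟨d, hDE hd⟩, ?_, rfl⟩
    rw [SetLike.mem_coe, Subgroup.mem_upperCentralSeries_succ_iff]
    intro y
    have h1 : d * (y : G) * d⁻¹ * (y : G)⁻¹ ∈ V := hcent D V hchief le_rfl y y.2 d hd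
    obtain ⟨z, hz, hzeq⟩ := hk h1
    have : z = ⁅(⟨d, hDE hd⟩ : ↥E), y⁆ := by
      apply Subtype.ext
      rw [Subgroup.subtype_apply] at hzeq
      rw [hzeq]
      simp [commutatorElement_def]
    rw [← this]
    exact hz

/-- A normal subgroup centralizing all chief factors below it is nilpotent. -/
lemma isNilpotent_of_cent {G : Type*} [Group G] [Finite G] (E : Subgroup G) (hEn : E.Normal)
    (hcent : ∀ U V, Chief U V → U ≤ E → ∀ e ∈ E, Cent U V e) : Group.IsNilpotent ↥E := by
  obtain ⟨k, hk⟩ := le_upperCentralSeries_of_cent E _ E rfl hEn le_rfl hcent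
  refine ⟨⟨k, ?_⟩⟩
  rw [eq_top_iff]
  intro x _
  obtain ⟨z, hz, hzx⟩ := hk x.2
  have : z = x := Subtype.ext hzx
  rw [← this]; exact hz

/-- Iterated derived subgroups of a subgroup, inside the ambient group. -/
def dser {G : Type*} [Group G] (E : Subgroup G) : ℕ → Subgroup G
  | 0 => E
  | k + 1 => ⁅dser E k, dser E k⁆

lemma dser_normal {G : Type*} [Group G] (E : Subgroup G) (hE : E.Normal) :
    ∀ k, (dser E k).Normal := by
  intro k
  induction k with
  | zero => exact hE
  | succ k ih =>
    have := ih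
    exact Subgroup.commutator_normal (dser E k) (dser E k)

lemma dser_le {G : Type*} [Group G] (E : Subgroup G) : ∀ k, dser E k ≤ E := by
  intro k
  induction k with
  | zero => exact le_rfl
  | succ k ih => exact (Subgroup.commutator_le_self _).trans ih

lemma dser_le_derivedSeries {G : Type*} [Group G] (E : Subgroup G) :
    ∀ k, dser E k ≤ derivedSeries G k := by
  intro k
  induction k with
  | zero => exact le_top
  | succ k ih => exact Subgroup.commutator_mono ih ih

theorem result {G : Type*} [Group G] [Finite G] (hG : Group.IsSolvable G) (N : Subgroup G) [N.Normal] (g : G) : (g ∈ (Cfsg.fittingSubgroup ↥N).map N.subtype ↔ g ∈ N ∧ ∀ U V : Subgroup G, (U.Normal ∧ V.Normal ∧ V < U ∧ ∀ W : Subgroup G, W.Normal → V ≤ W → W ≤ U → W = V ∨ W = U) → ∀ u ∈ U, u * g * u⁻¹ * g⁻¹ ∈ V) ∧ (g ∈ (Cfsg.fittingSubgroup ↥N).map N.subtype ↔ g ∈ N ∧ ∀ U V : Subgroup G, (U.Normal ∧ V.Normal ∧ V < U ∧ ∀ W : Subgroup G, W.Normal → V ≤ W → W ≤ U → W = V ∨ W = U) → U ≤ (Cfsg.fittingSubgroup ↥N).map N.subtype → ∀ u ∈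 U, u * g * u⁻¹ * g⁻¹ ∈ V) := by
  have hNsn : N.IsSubnormal := (inferInstance : N.Normal).isSubnormal
  have hFN : (Cfsg.fittingSubgroup ↥N).map N.subtype = Cfsg.fittingSubgroup G ⊓ N :=
    map_subtype_fitting_eq hNsn
  have hFn : (Cfsg.fittingSubgroup G).Normal := fittingSubgroup_normal G
  have hFnil : Group.IsNilpotent ↥(Cfsg.fittingSubgroup G) := fittingSubgroup_isNilpotent
  -- forward direction (both parts)
  have hfwd : g ∈ (Cfsg.fittingSubgroup ↥N).map N.subtype → g ∈ N ∧ ∀ U V : Subgroup G,
      Chief U V → Cent U V g := by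
    intro hg
    rw [hFN] at hg
    exact ⟨hg.2, fun U V hUV => cent_of_nilpotent_normal _ hFn hFnil hUV g hg.1⟩
  set E : Subgroup G := Subgroup.normalClosure ({g} : Set G) with hE
  have hEn : E.Normal := Subgroup.normalClosure_normal
  have hgE : g ∈ E := Subgroup.subset_normalClosure (Set.mem_singleton g)
  constructor
  · constructor
    · intro hg
      exact hfwd hg
    · rintro ⟨hgN, hcent⟩
      have hEN : E ≤ N := Subgroup.normalClosure_le_normal (Set.singleton_subset_iff.mpr hgN)
      have hEcent : ∀ x ∈ E, ∀ U V, Chief U V → Cent U V x :=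
        cent_normalClosure (P := Chief) (fun U V h => ⟨h.1, h.2.1⟩) hcent
      have hEnil : Group.IsNilpotent ↥E :=
        isNilpotent_of_cent E hEn (fun U V hUV _ e he => hEcent e he U V hUV)
      rw [hFN]
      exact ⟨le_fittingSubgroup hEn hEnil hgE, hgN⟩
  · constructor
    · intro hg
      obtain ⟨h1, h2⟩ := hfwd hg
      exact ⟨h1, fun U V hUV _ => h2 U V hUV⟩
    · rintro ⟨hgN, hcent⟩
      have hEN : E ≤ N := Subgroup.normalClosure_le_normal (Set.singleton_subset_iff.mpr hgN)
      set FN : Subgroup G := (Cfsg.fittingSubgroup ↥N).map N.subtype with hFNdef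
      have hFNn : FN.Normal := by rw [hFN]; infer_instance
      have hEcent : ∀ x ∈ E, ∀ U V, (Chief U V ∧ U ≤ FN) → Cent U V x :=
        cent_normalClosure (P := fun U V => Chief U V ∧ U ≤ FN)
          (fun U V h => ⟨h.1.1, h.1.2.1⟩) (fun U V h => hcent U V h.1 h.2)
      -- the derived series of `E` reaches `⊥`
      obtain ⟨m, hm⟩ := hG.solvable
      have hm' : dser E m = ⊥ := by
        rw [eq_bot_iff, ← hm]; exact dser_le_derivedSeries E m
      -- downward induction
      have key : ∀ j, j ≤ m → dser E (m - j) ≤ Cfsg.fittingSubgroup G := by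
        intro j
        induction j with
        | zero => intro _; rw [Nat.sub_zero, hm']; exact bot_le
        | succ j ih =>
          intro hj
          have ih' := ih (by omega)
          set D : Subgroup G := dser E (m - (j + 1)) with hD
          have hDn : D.Normal := dser_normal E hEn _
          have hDE : D ≤ E := dser_le E _
          have hDD : ⁅D, D⁆ ≤ Cfsg.fittingSubgroup G := by
            have : dser E (m - j) = ⁅D, D⁆ := by
              have h1 : m - j = (m - (j + 1)) + 1 := by omega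
              rw [h1]; rfl
            rw [← this]; exact ih'
          set D0 : Subgroup G := D ⊓ FN with hD0
          have hD0n : D0.Normal := inferInstance
          obtain ⟨k, hk⟩ := le_upperCentralSeries_of_cent D _ D0 rfl hD0n inf_le_left
            (fun U V hUV hU e he => hEcent e (hDE he) U V ⟨hUV, hU.trans inf_le_right⟩)
          have hDD0 : ⁅D, D⁆ ≤ D0 := by
            refine le_inf (Subgroup.commutator_le_self D) ?_
            rw [hFN]
            exact le_inf hDD ((Subgroup.commutator_le_self D).trans (hDE.trans hEN))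
          have hDnil : Group.IsNilpotent ↥D := by
            refine ⟨⟨k + 1, ?_⟩⟩
            rw [eq_top_iff]
            intro x _
            rw [Subgroup.mem_upperCentralSeries_succ_iff]
            intro y
            have h1 : ⁅(x : G), (y : G)⁆ ∈ ⁅D, D⁆ := Subgroup.commutator_mem_commutator x.2 y.2
            obtain ⟨z, hz, hzeq⟩ := hk (hDD0 h1)
            have : z = ⁅x, y⁆ := by
              apply Subtype.ext
              rw [Subgroup.subtype_apply] at hzeq
              rw [hzeq]
              simp [commutatorElement_def]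
            rw [← this]; exact hz
          exact le_fittingSubgroup hDn hDnil
      have hEF : E ≤ Cfsg.fittingSubgroup G := by
        have := key m le_rfl
        rwa [Nat.sub_self] at this
      rw [hFN]
      exact ⟨hEF hgE, hgN⟩

end Cfsg.Agent.S3766
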