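import Cfsg.Statements.S0552
import Mathlib
import Cfsg.Agent.S0044

set_option autoImplicit false
set_option linter.style.haveILetI false
open Cfsg

namespace Cfsg.Agent.S0552

/-- Let σ be an automorphism of a finite solvable group G fixing every element of the Fitting subgroup. If σ is not the identity then the order of σ and the order of G have a common prime factor. -/
theorem result {G : Type*} [Group G] [Finite G] [Group.IsSolvable G] (σ : G ≃* G) (hσ : ∀ x ∈ Cfsg.fittingSubgroup G, σ x = x) (hne : σ ≠ MulEquiv.refl G) : ¬ (orderOf σ).Coprime (Nat.card G) := by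
  intro hcop
  apply hne
  have hFchar : (Cfsg.fittingSubgroup G).Characteristic :=
    Cfsg.Agent.Helper7.fittingSubgroup_characteristic G
  haveI hFn : (Cfsg.fittingSubgroup G).Normal := inferInstance
  have hCF := Cfsg.Agent.S0044.result (G := G)
  ext g
  change σ g = g
  set c := g⁻¹ * σ g with hc
  have hcC : c ∈ Subgroup.centralizer (Cfsg.fittingSubgroup G : Set G) := by
    rw [Subgroup.mem_centralizer_iff]
    intro f hf
    have h1 : g * f * g⁻¹ ∈ Cfsg.fittingSubgroup G := hFn.conj_mem f hf g
    have h2 := hσ _ h1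
    rw [map_mul, map_mul, map_inv, hσ f hf] at h2
    -- h2 : σ g * f * (σ g)⁻¹ = g * f * g⁻¹
    rw [hc]
    have h3 : σ g * f = g * f * g⁻¹ * σ g := by
      rw [← h2]; group
    calc f * (g⁻¹ * σ g) = g⁻¹ * (g * f * g⁻¹ * σ g) := by group
      _ = g⁻¹ * (σ g * f) := by rw [h3]
      _ = g⁻¹ * σ g * f := by group
  have hcF : σ c = c := hσ c (hCF hcC)
  have hσg : σ g = g * c := by rw [hc]; group
  have hpow : ∀ k : ℕ, (σ ^ k) c = c ∧ (σ ^ k) g = g * c ^ k := by
    intro k
    induction k with
    | zero => simp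
    | succ k ih =>
      rw [pow_succ]
      refine ⟨?_, ?_⟩
      · rw [MulAut.mul_apply, hcF, ih.1]
      · rw [MulAut.mul_apply, hσg, map_mul, ih.1, ih.2, pow_succ, mul_assoc]
  have h1 := (hpow (orderOf σ)).2
  rw [pow_orderOf_eq_one] at h1
  have h2 : c ^ orderOf σ = 1 := by
    have : g = g * c ^ orderOf σ := h1
    exact (mul_eq_left.mp this.symm)
  have h3 : orderOf c ∣ orderOf σ := orderOf_dvd_of_pow_eq_one h2
  have h4 : orderOf c ∣ Nat.card G := orderOf_dvd_natCard c
  have h5 : orderOf c = 1 := Nat.eq_one_of_dvd_coprimes hcop h3 h4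
  rw [orderOf_eq_one_iff] at h5
  rw [hσg, h5, mul_one]

end Cfsg.Agent.S0552
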