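import Cfsg.Statements.S3765
import Cfsg.Agent.Helper5.HHModH
import Cfsg.Agent.Helper5.HHModI
import Cfsg.Agent.Helper5.FrobModH
import Cfsg.Agent.Helper1.PGroup
import Cfsg.Agent.Helper17.Basic
import Cfsg.Agent.S3736

set_option autoImplicit false
open Cfsg

namespace Cfsg.Agent.S3765
open scoped commutatorElement
open Cfsg.Agent.Helper5.HHMod

/-- Let p, q, r be distinct primes and let X, Q, V be subgroups of a finite group with X of order r normalizing the q-group Q and acting faithfully on it (X ∩ C(Q) = 1), and V a nontrivial elementary abelian p-group normalized by X and Q on which XQ acts faithfully. If q = 2 and r has the form 2^n + 1, assume in addition that Q is abelian. Then C_V(X) ≠ 1. -/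
theorem result {G : Type*} [Group G] [Finite G] {p q r : ℕ} (hp : p.Prime) (hq : q.Prime) (hr : r.Prime) (hpq : p ≠ q) (hpr : p ≠ r) (hqr : q ≠ r) (X Q V : Subgroup G) (hX : Nat.card X = r) (hQ : IsPGroup q Q) (hXQ : X ≤ Subgroup.normalizer (Q : Set G)) (hXfaith : X ⊓ Subgroup.centralizer (Q : Set G) = ⊥) (hV : Cfsg.IsElementaryAbelian p V) (hV1 : V ≠ ⊥) (hXV : X ≤ Subgroup.normalizer (V : Set G)) (hQV : Q ≤ Subgroup.normalizer (V : Set G)) (hfaith : (X ⊔ Q) ⊓ Subgroup.centralizer (V : Set G) = ⊥) (hexc : q = 2 → (∃ n : ℕ, r = 2 ^ n + 1) → IsMulCommutative Q) : V ⊓ Subgroup.centralizer (X : Set G) ≠ ⊥ := by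
  classical
  haveI : Fact p.Prime := ⟨hp⟩
  haveI : Fact q.Prime := ⟨hq⟩
  intro hCV
  obtain ⟨x, hxX, hx1, hxr, hXgen⟩ := exists_generator X hr hX
  have hcent : ∀ g : G, x * g * x⁻¹ = g → g ∈ Subgroup.centralizer (X : Set G) :=
    mem_centralizer_of_conj_eq X x hXgen
  -- `X` does not centralize `Q`
  have hQX : ⁅Q, X⁆ ≠ ⊥ := by
    intro h
    have h1 : X ≤ Subgroup.centralizer (Q : Set G) := by
      rw [Subgroup.commutator_comm, Subgroup.commutator_eq_bot_iff_le_centralizer] at h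
      exact h
    have h2 : x ∈ X ⊓ Subgroup.centralizer (Q : Set G) := Subgroup.mem_inf.mpr ⟨hxX, h1 hxX⟩
    rw [hXfaith, Subgroup.mem_bot] at h2
    exact hx1 h2
  -- a minimal `X`-invariant subgroup not centralized by `X`
  obtain ⟨Q1, ⟨hQ1Q, hXQ1, hQ1X⟩, hQ1min⟩ := exists_minimal_of_wellFoundedLT
    (fun U : Subgroup G => U ≤ Q ∧ X ≤ Subgroup.normalizer (U : Set G) ∧ ⁅U, X⁆ ≠ ⊥) ⟨Q, le_rfl, hXQ, hQX⟩
  have hmin : ∀ U : Subgroup G, U < Q1 → X ≤ Subgroup.normalizer (U : Set G) → ⁅U, X⁆ = ⊥ := by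
    intro U hU hXU
    by_contra hne
    exact absurd (hQ1min ⟨hU.le.trans hQ1Q, hXU, hne⟩ hU.le) (not_le_of_gt hU)
  have hQ1p : IsPGroup q Q1 := hQ.to_le hQ1Q
  have hcopXq : (Nat.card X).Coprime q := by
    rw [hX]; exact (Nat.coprime_primes hr hq).mpr (Ne.symm hqr)
  obtain ⟨hQ1comm, hstruct, hirr, -⟩ := Cfsg.Agent.S3736.result X X Q1 hQ1p hXQ1 le_rfl Subgroup.le_normalizer
    hcopXq hQ1X hmin
  have hQ1V : Q1 ≤ Subgroup.normalizer (V : Set G) := hQ1Q.trans hQV
  have hxV : x ∈ Subgroup.normalizer (V : Set G) := hXV hxX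
  have hxQ1 : x ∈ Subgroup.normalizer (Q1 : Set G) := hXQ1 hxX
  have hfix : ∀ v ∈ V, x * v * x⁻¹ = v → v = 1 := by
    intro v hv hxv
    have : v ∈ V ⊓ Subgroup.centralizer (X : Set G) := Subgroup.mem_inf.mpr ⟨hv, hcent v hxv⟩
    rw [hCV, Subgroup.mem_bot] at this
    exact this
  haveI := hV.1
  have hVcomm : ∀ a ∈ V, ∀ b ∈ V, a * b = b * a := by
    intro a ha b hb
    have := mul_comm' (⟨a, ha⟩ : V) ⟨b, hb⟩
    exact congrArg Subtype.val this
  have hcopQ1 : ¬ p ∣ Nat.card Q1 := by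
    obtain ⟨n, hn⟩ := IsPGroup.iff_card.mp hQ1p
    rw [hn]
    intro hdvd
    exact hpq ((Nat.prime_dvd_prime_iff_eq hp hq).mp (hp.dvd_of_dvd_pow hdvd))
  have hQ1faith : ∀ z ∈ Q1, (∀ v ∈ V, z * v * z⁻¹ = v) → z = 1 := by
    intro z hz hall
    have : z ∈ (X ⊔ Q) ⊓ Subgroup.centralizer (V : Set G) := by
      refine Subgroup.mem_inf.mpr ⟨(le_sup_right : Q ≤ X ⊔ Q) (hQ1Q hz), ?_⟩
      rw [Subgroup.mem_centralizer_iff]
      intro v hv
      have := hall v hv
      calc v * z = (z * v * z⁻¹) * z := by rw [this]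
        _ = z * v := by group
    rw [hfaith, Subgroup.mem_bot] at this
    exact this
  have hQ1ne : Q1 ≠ ⊥ := by
    intro h
    apply hQ1X
    rw [h]
    exact Subgroup.commutator_bot_left X
  rcases hstruct with hEA | hSp
  · -- elementary abelian case: Frobenius action
    haveI := hEA.1
    have hfr : frattini ↥Q1 = ⊥ := Cfsg.Agent.Helper1.frattini_eq_bot_of_elementary hq
      (fun a b => mul_comm' a b) (fun a => Subtype.ext (by simpa using hEA.2 a a.2))
    have hirr' : ∀ U : Subgroup G, U ≤ Q1 → X ≤ Subgroup.normalizer (U : Set G) → U = ⊥ ∨ U = Q1 := by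
      intro U hU hXU
      have := hirr U (by rw [hfr, Subgroup.map_bot]; exact bot_le) hU hXU
      rwa [hfr, Subgroup.map_bot] at this
    have hCbot : Q1 ⊓ Subgroup.centralizer (X : Set G) = ⊥ := by
      have hXC : X ≤ Subgroup.normalizer ((Q1 ⊓ Subgroup.centralizer (X : Set G) : Subgroup G) : Set G) := by
        intro y hy
        rw [Subgroup.mem_normalizer_iff]
        intro h
        constructor
        · intro hh
          have h1 := Subgroup.mem_centralizer_iff.mp (Subgroup.mem_inf.mp hh).2 y hy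
          have h2 : y * h * y⁻¹ = h := by rw [h1, mul_inv_cancel_right]
          rw [h2]; exact hh
        · intro hh
          have h1 := Subgroup.mem_centralizer_iff.mp (Subgroup.mem_inf.mp hh).2 y hy
          have h2 : y * h * y⁻¹ = h := by
            have h3 : y * (y * h * y⁻¹) = y * h := by rw [h1]; group
            exact mul_left_cancel h3
          rw [h2] at hh; exact hh
      rcases hirr' _ inf_le_left hXC with h | h
      · exact h
      · exfalso
        apply hQ1X
        rw [Subgroup.commutator_eq_bot_iff_le_centralizer]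
        rw [← h]
        exact inf_le_right
    have hUn : ∀ e ∈ X, ∀ u ∈ Q1, e * u * e⁻¹ ∈ Q1 := fun e he u hu =>
      (Subgroup.mem_normalizer_iff.mp (hXQ1 he) u).mp hu
    have hfpf : ∀ e ∈ X, e ≠ 1 → ∀ u ∈ Q1, e * u = u * e → u = 1 := by
      intro e he he1 u hu hcomm
      obtain ⟨j, hj⟩ := exists_zpow_eq_of_ne_one X hr hX he he1 hxX
      have hc : Commute e u := hcomm
      have hc2 : Commute x u := by rw [← hj]; exact hc.zpow_left j
      have hxu : x * u * x⁻¹ = u := by rw [hc2.eq, mul_inv_cancel_right]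
      have : u ∈ Q1 ⊓ Subgroup.centralizer (X : Set G) := Subgroup.mem_inf.mpr ⟨hu, hcent u hxu⟩
      rw [hCbot, Subgroup.mem_bot] at this
      exact this
    have hHn : ∀ a ∈ Q1 ⊔ X, ∀ h ∈ V, a * h * a⁻¹ ∈ V := by
      intro a ha h hh
      have : a ∈ Subgroup.normalizer (V : Set G) := (sup_le hQ1V hXV) ha
      exact (Subgroup.mem_normalizer_iff.mp this h).mp hh
    have hsolv : Group.IsSolvable ↥V := by
      letI : CommGroup ↥V := { (inferInstance : Group ↥V) with mul_comm := fun a b => mul_comm' a b }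
      exact Group.isSolvable_of_comm (fun a b => mul_comm' a b)
    have hVp : IsPGroup p V := by
      intro v
      exact ⟨1, by rw [pow_one]; exact Subtype.ext (by simpa using hV.2 v v.2)⟩
    have hcop : Nat.Coprime (Nat.card V) (Nat.card ↥(Q1 ⊔ X)) := by
      obtain ⟨a, ha⟩ := IsPGroup.iff_card.mp hVp
      obtain ⟨b, hb⟩ := IsPGroup.iff_card.mp hQ1p
      have hdvd : Nat.card ↥(Q1 ⊔ X) ∣ Nat.card Q1 * Nat.card X :=
        Dvd.intro _ (Cfsg.Agent.Helper17.card_sup_mul_card_inf Q1 X hXQ1)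
      refine Nat.Coprime.coprime_dvd_right hdvd ?_
      rw [ha, hb, hX]
      apply Nat.Coprime.pow_left
      apply Nat.Coprime.mul_right
      · exact Nat.Coprime.pow_right _ ((Nat.coprime_primes hp hq).mpr hpq)
      · exact (Nat.coprime_primes hp hr).mpr hpr
    have hF := Cfsg.Agent.Helper5.FrobMod.frobenius_fixed_point_formula Q1 X hUn hfpf V hHn hsolv hcop
    have h1 : V ⊓ Subgroup.centralizer ((Q1 ⊔ X : Subgroup G) : Set G) = ⊥ := by
      rw [eq_bot_iff, ← hCV]
      exact inf_le_inf_left _ (Subgroup.centralizer_le (SetLike.coe_subset_coe.mpr le_sup_right))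
    rw [h1, hCV, Subgroup.card_bot, one_pow, one_mul, one_mul] at hF
    have h2 : V ⊓ Subgroup.centralizer (Q1 : Set G) = V :=
      Subgroup.eq_of_le_of_card_ge inf_le_left (le_of_eq hF)
    obtain ⟨⟨z, hz⟩, hz1'⟩ := (Subgroup.ne_bot_iff_exists_ne_one).mp hQ1ne
    apply hz1'
    apply Subtype.ext
    apply hQ1faith z hz
    intro v hv
    have hv' : v ∈ Subgroup.centralizer (Q1 : Set G) := by
      have : v ∈ V ⊓ Subgroup.centralizer (Q1 : Set G) := by rw [h2]; exact hv
      exact (Subgroup.mem_inf.mp this).2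
    have := Subgroup.mem_centralizer_iff.mp hv' z hz
    rw [this, mul_inv_cancel_right]
  · -- special case
    obtain ⟨-, hΦ, hcommQ⟩ := hSp
    set Zs : Subgroup G := (Subgroup.center ↥Q1).map Q1.subtype with hZs
    have hmemZ : ∀ z : G, z ∈ Zs ↔ z ∈ Q1 ∧ ∀ y ∈ Q1, y * z = z * y :=
      Cfsg.Agent.S3736.mem_map_center_iff Q1
    have hZQ : Zs ≤ Q1 := fun z hz => ((hmemZ z).mp hz).1
    have hZc : ∀ z ∈ Zs, ∀ g ∈ Q1, z * g = g * z := fun z hz g hg => (((hmemZ z).mp hz).2 g hg).symm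
    have hcomm : ∀ g ∈ Q1, ∀ h ∈ Q1, g * h * g⁻¹ * h⁻¹ ∈ Zs := by
      intro g hg h hh
      have h1 : ⁅(⟨g, hg⟩ : Q1), ⟨h, hh⟩⁆ ∈ commutator ↥Q1 := by
        rw [commutator_def]
        exact Subgroup.commutator_mem_commutator (Subgroup.mem_top _) (Subgroup.mem_top _)
      rw [hcommQ] at h1
      exact ⟨_, h1, by simp [commutatorElement_def]⟩
    have hZne : Zs ≠ Q1 := by
      intro h
      have hcen : Subgroup.center ↥Q1 = ⊤ := by
        rw [eq_top_iff]
        intro g _
        have : (g : G) ∈ Zs := by rw [h]; exact g.2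
        obtain ⟨g', hg', hgg'⟩ := this
        have : g' = g := Subtype.ext hgg'
        rw [← this]; exact hg'
      have hbot : commutator ↥Q1 = ⊥ := (commutator_eq_bot_iff_center_eq_top (G := ↥Q1)).mpr hcen
      rw [hcommQ, hcen] at hbot
      apply hQ1ne
      rw [eq_bot_iff]
      intro g hg
      have : (⟨g, hg⟩ : Q1) ∈ (⊤ : Subgroup Q1) := trivial
      rw [hbot, Subgroup.mem_bot] at this
      rw [Subgroup.mem_bot]
      exact congrArg Subtype.val this
    have hXZ : X ≤ Subgroup.normalizer (Zs : Set G) := by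
      intro y hy
      have hyQ := hXQ1 hy
      rw [Subgroup.mem_normalizer_iff]
      intro z
      rw [hmemZ, hmemZ]
      constructor
      · rintro ⟨hzQ, hz⟩
        refine ⟨(Subgroup.mem_normalizer_iff.mp hyQ z).mp hzQ, fun g hg => ?_⟩
        have hg' : y⁻¹ * g * y ∈ Q1 := by
          have := (Subgroup.mem_normalizer_iff.mp (Subgroup.inv_mem _ hyQ) g).mp hg
          rwa [inv_inv] at this
        have := hz _ hg'
        calc g * (y * z * y⁻¹) = y * ((y⁻¹ * g * y) * z) * y⁻¹ := by group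
          _ = y * (z * (y⁻¹ * g * y)) * y⁻¹ := by rw [this]
          _ = y * z * y⁻¹ * g := by group
      · rintro ⟨hzQ, hz⟩
        refine ⟨(Subgroup.mem_normalizer_iff.mp hyQ z).mpr hzQ, fun g hg => ?_⟩
        have hg' : y * g * y⁻¹ ∈ Q1 := (Subgroup.mem_normalizer_iff.mp hyQ g).mp hg
        have := hz _ hg'
        calc g * z = y⁻¹ * ((y * g * y⁻¹) * (y * z * y⁻¹)) * y := by group
          _ = y⁻¹ * ((y * z * y⁻¹) * (y * g * y⁻¹)) * y := by rw [this]
          _ = z * g := by group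
    have hZX : ⁅Zs, X⁆ = ⊥ := hmin Zs (lt_of_le_of_ne hZQ hZne) hXZ
    have hZXc : ∀ z ∈ Zs, ∀ y ∈ X, y * z * y⁻¹ = z := by
      intro z hz y hy
      rw [Subgroup.commutator_eq_bot_iff_le_centralizer] at hZX
      have := Subgroup.mem_centralizer_iff.mp (hZX hz) y hy
      rw [this, mul_inv_cancel_right]
    have hxZ : ∀ z ∈ Zs, x * z * x⁻¹ = z := fun z hz => hZXc z hz x hxX
    have hirr' : ∀ U : Subgroup G, Zs ≤ U → U ≤ Q1 → X ≤ Subgroup.normalizer (U : Set G) → U = Zs ∨ U = Q1 := by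
      intro U h1 h2 h3
      have := hirr U (by rw [hΦ]; exact h1) h2 h3
      rwa [hΦ] at this
    have hZsp : ∀ c ∈ Zs, ∃ m : ℕ, c ^ (q ^ m) = 1 := by
      intro c hc
      obtain ⟨m, hm⟩ := hQ1p ⟨c, hZQ hc⟩
      exact ⟨m, by have := congrArg Subtype.val hm; simpa using this⟩
    -- fixed-point-freeness on `Q1 / Zs`
    have hfpf : ∀ k ∈ Q1, x * k * x⁻¹ * k⁻¹ ∈ Zs → k ∈ Zs := by
      intro k hk hc
      obtain ⟨c, hcdef⟩ : ∃ c : G, c = x * k * x⁻¹ * k⁻¹ := ⟨_, rfl⟩
      rw [← hcdef] at hc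
      have hxk : x * k * x⁻¹ = c * k := by rw [hcdef]; group
      obtain ⟨m, hm⟩ := hZsp c hc
      have hc1 : c = 1 := eq_one_of_conj_central x k c hxk (hxZ c hc) hxr hm
        (Nat.Coprime.pow_right _ ((Nat.coprime_primes hr hq).mpr (Ne.symm hqr)))
      rw [hc1, one_mul] at hxk
      -- `k ∈ C_{Q1}(X)`, and `C_{Q1}(X) ⊔ Zs` is `X`-invariant
      have hkC : k ∈ Q1 ⊓ Subgroup.centralizer (X : Set G) := Subgroup.mem_inf.mpr ⟨hk, hcent k hxk⟩
      set C : Subgroup G := Q1 ⊓ Subgroup.centralizer (X : Set G) with hC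
      -- the subgroup of elements of `Q1` centralized by `X` modulo `Zs`
      let F : Subgroup G :=
        { carrier := {g | g ∈ Q1 ∧ ∀ y ∈ X, y * g * y⁻¹ * g⁻¹ ∈ Zs}
          one_mem' := ⟨Q1.one_mem, fun y _ => by simp [Zs.one_mem]⟩
          mul_mem' := fun {a b} ha hb => ⟨Q1.mul_mem ha.1 hb.1, fun y hy => by
            have h1 := ha.2 y hy
            have h2 := hb.2 y hy
            have h3 : y * (a * b) * y⁻¹ * (a * b)⁻¹
                = (y * a * y⁻¹ * a⁻¹) * (a * (y * b * y⁻¹ * b⁻¹) * a⁻¹) := by group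
            have h4 : a * (y * b * y⁻¹ * b⁻¹) * a⁻¹ = y * b * y⁻¹ * b⁻¹ := by
              rw [← hZc _ h2 a ha.1, mul_inv_cancel_right]
            rw [h3, h4]
            exact Zs.mul_mem h1 h2⟩
          inv_mem' := fun {a} ha => ⟨Q1.inv_mem ha.1, fun y hy => by
            have h1 := ha.2 y hy
            have h3 : y * a⁻¹ * y⁻¹ * a⁻¹⁻¹ = a⁻¹ * (y * a * y⁻¹ * a⁻¹)⁻¹ * a := by group
            have h4 : a⁻¹ * (y * a * y⁻¹ * a⁻¹)⁻¹ * a = (y * a * y⁻¹ * a⁻¹)⁻¹ := by
              have := hZc _ (Zs.inv_mem h1) a⁻¹ (Q1.inv_mem ha.1)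
              rw [← this, inv_mul_cancel_right]
            rw [h3, h4]
            exact Zs.inv_mem h1⟩ }
      have hFQ : F ≤ Q1 := fun g hg => hg.1
      have hZF : Zs ≤ F := by
        intro z hz
        refine ⟨hZQ hz, fun y hy => ?_⟩
        rw [hZXc z hz y hy, mul_inv_cancel]
        exact Zs.one_mem
      have hXabel : ∀ y ∈ X, ∀ y' ∈ X, y * y' = y' * y := by
        intro y hy y' hy'
        obtain ⟨i, rfl⟩ := hXgen y hy
        obtain ⟨j, rfl⟩ := hXgen y' hy'
        rw [← zpow_add, ← zpow_add, add_comm]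
      have hXF : X ≤ Subgroup.normalizer (F : Set G) := by
        intro y' hy'
        have key : ∀ w ∈ X, ∀ g ∈ F, w * g * w⁻¹ ∈ F := by
          intro w hw g hg
          refine ⟨(Subgroup.mem_normalizer_iff.mp (hXQ1 hw) g).mp hg.1, fun y hy => ?_⟩
          have h1 := hg.2 y hy
          have h2 : y * (w * g * w⁻¹) * y⁻¹ * (w * g * w⁻¹)⁻¹ = w * (y * g * y⁻¹ * g⁻¹) * w⁻¹ := by
            have e1 : y * w = w * y := hXabel y hy w hw
            have e2 : w⁻¹ * y⁻¹ = y⁻¹ * w⁻¹ := by rw [← mul_inv_rev, ← mul_inv_rev, e1]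
            calc y * (w * g * w⁻¹) * y⁻¹ * (w * g * w⁻¹)⁻¹
                = (y * w) * g * (w⁻¹ * y⁻¹) * (w * g⁻¹ * w⁻¹) := by group
              _ = (w * y) * g * (y⁻¹ * w⁻¹) * (w * g⁻¹ * w⁻¹) := by rw [e1, e2]
              _ = w * (y * g * y⁻¹ * g⁻¹) * w⁻¹ := by group
          rw [h2, hZXc _ h1 w hw]
          exact h1
        rw [Subgroup.mem_normalizer_iff]
        intro g
        constructor
        · exact key y' hy' g
        · intro hg
          have := key y'⁻¹ (X.inv_mem hy') _ hg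
          have e : y'⁻¹ * (y' * g * y'⁻¹) * y'⁻¹⁻¹ = g := by group
          rwa [e] at this
      have hkF : k ∈ F := by
        refine ⟨hk, fun y hy => ?_⟩
        have := Subgroup.mem_centralizer_iff.mp (Subgroup.mem_inf.mp hkC).2 y hy
        rw [this, mul_inv_cancel_right, mul_inv_cancel]
        exact Zs.one_mem
      rcases hirr' F hZF hFQ hXF with h | h
      · rw [← h]; exact hkF
      · exfalso
        -- then `⁅Q1, X⁆ ≤ Zs`
        have h1 : ⁅Q1, X⁆ ≤ Zs := by
          rw [Subgroup.commutator_le]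
          intro g hg y hy
          have hgF : g ∈ F := by rw [h]; exact hg
          have := hgF.2 y hy
          have e : ⁅g, y⁆ = (y * g * y⁻¹ * g⁻¹)⁻¹ := by
            rw [commutatorElement_def]; group
          rw [e]
          exact Zs.inv_mem this
        rw [hQ1comm] at h1
        exact hZne (le_antisymm hZQ h1)
    -- nondegeneracy
    have hN : ∀ K0 : Subgroup G, K0 ≤ Zs → K0 ≠ Zs → ∀ g ∈ Q1, (∀ h ∈ Q1, g * h * g⁻¹ * h⁻¹ ∈ K0) → g ∈ Zs := by
      intro K0 hK0le hK0ne g hg hall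
      let R : Subgroup G :=
        { carrier := {g | g ∈ Q1 ∧ ∀ h ∈ Q1, g * h * g⁻¹ * h⁻¹ ∈ K0}
          one_mem' := ⟨Q1.one_mem, fun h _ => by simp [K0.one_mem]⟩
          mul_mem' := fun {a b} ha hb => ⟨Q1.mul_mem ha.1 hb.1, fun h hh => by
            have h1 := ha.2 h hh
            have h2 := hb.2 h hh
            have h3 : (a * b) * h * (a * b)⁻¹ * h⁻¹
                = (a * (b * h * b⁻¹ * h⁻¹) * a⁻¹) * (a * h * a⁻¹ * h⁻¹) := by group
            have h4 : a * (b * h * b⁻¹ * h⁻¹) * a⁻¹ = b * h * b⁻¹ * h⁻¹ := by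
              rw [← hZc _ (hK0le h2) a ha.1, mul_inv_cancel_right]
            rw [h3, h4]
            exact K0.mul_mem h2 h1⟩
          inv_mem' := fun {a} ha => ⟨Q1.inv_mem ha.1, fun h hh => by
            have h1 := ha.2 h hh
            have h3 : a⁻¹ * h * a⁻¹⁻¹ * h⁻¹ = a⁻¹ * (a * h * a⁻¹ * h⁻¹)⁻¹ * a := by group
            have h4 : a⁻¹ * (a * h * a⁻¹ * h⁻¹)⁻¹ * a = (a * h * a⁻¹ * h⁻¹)⁻¹ := by
              have := hZc _ (Zs.inv_mem (hK0le h1)) a⁻¹ (Q1.inv_mem ha.1)
              rw [← this, inv_mul_cancel_right]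
            rw [h3, h4]
            exact K0.inv_mem h1⟩ }
      have hRQ : R ≤ Q1 := fun g hg => hg.1
      have hZR : Zs ≤ R := by
        intro z hz
        refine ⟨hZQ hz, fun h hh => ?_⟩
        rw [hZc z hz h hh, mul_inv_cancel_right, mul_inv_cancel]
        exact K0.one_mem
      have hXR : X ≤ Subgroup.normalizer (R : Set G) := by
        intro y' hy'
        have key : ∀ w ∈ X, ∀ g ∈ R, w * g * w⁻¹ ∈ R := by
          intro w hw g hg
          refine ⟨(Subgroup.mem_normalizer_iff.mp (hXQ1 hw) g).mp hg.1, fun h hh => ?_⟩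
          have hh' : w⁻¹ * h * w ∈ Q1 := by
            have := (Subgroup.mem_normalizer_iff.mp (Subgroup.inv_mem _ (hXQ1 hw)) h).mp hh
            rwa [inv_inv] at this
          have h1 := hg.2 _ hh'
          have h2 : (w * g * w⁻¹) * h * (w * g * w⁻¹)⁻¹ * h⁻¹
              = w * (g * (w⁻¹ * h * w) * g⁻¹ * (w⁻¹ * h * w)⁻¹) * w⁻¹ := by group
          rw [h2, hZXc _ (hK0le h1) w hw]
          exact h1
        rw [Subgroup.mem_normalizer_iff]
        intro g
        constructor
        · exact key y' hy' g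
        · intro hg
          have := key y'⁻¹ (X.inv_mem hy') _ hg
          have e : y'⁻¹ * (y' * g * y'⁻¹) * y'⁻¹⁻¹ = g := by group
          rwa [e] at this
      have hgR : g ∈ R := ⟨hg, hall⟩
      rcases hirr' R hZR hRQ hXR with h | h
      · rw [← h]; exact hgR
      · exfalso
        apply hK0ne
        apply le_antisymm hK0le
        -- `Zs = Q1' ≤ K0`
        have hle : commutator ↥Q1 ≤ K0.comap Q1.subtype := by
          rw [commutator_def, Subgroup.commutator_le]
          intro a _ b _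
          have haR : (a : G) ∈ R := by rw [h]; exact a.2
          have := haR.2 b b.2
          rw [Subgroup.mem_comap]
          simpa [commutatorElement_def] using this
        rw [hcommQ] at hle
        rintro _ ⟨z, hz, rfl⟩
        exact hle hz
    have hZV : ∃ z ∈ Zs, ∃ v ∈ V, z * v * z⁻¹ ≠ v := by
      have hZnt : Zs ≠ ⊥ := by
        intro h
        -- then `Q1` is abelian, so `Zs = Q1`
        apply hZne
        apply le_antisymm hZQ
        intro g hg
        rw [hmemZ]
        refine ⟨hg, fun y hy => ?_⟩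
        have := hcomm g hg y hy
        rw [h, Subgroup.mem_bot] at this
        calc y * g = (g * y * g⁻¹ * y⁻¹)⁻¹ * (g * y) := by group
          _ = g * y := by rw [this, inv_one, one_mul]
      obtain ⟨⟨z, hz⟩, hz1'⟩ := (Subgroup.ne_bot_iff_exists_ne_one).mp hZnt
      have hz1 : z ≠ 1 := fun h => hz1' (Subtype.ext h)
      by_contra hcon
      push Not at hcon
      exact hz1 (hQ1faith z (hZQ hz) (hcon z hz))
    obtain ⟨N, hrN, hN2⟩ := fixed_or_card p r hr hpr V Q1 Zs x hVcomm hV.2 hQ1V hxV hxQ1 hxr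
      hZQ hZc hcomm hxZ hfpf hZne hN hcopQ1 hZV hfix
    -- arithmetic
    obtain ⟨m, hm⟩ := IsPGroup.iff_card.mp hQ1p
    have hdvd : N ∣ q ^ m := by
      rw [← hm]
      exact (Dvd.intro_left (N ^ 1) (by rw [← pow_succ, hN2])).trans (Subgroup.relIndex_dvd_card Zs Q1)
    obtain ⟨a, -, hNa⟩ := (Nat.dvd_prime_pow hq).mp hdvd
    have ha0 : a ≠ 0 := by
      rintro rfl
      rw [pow_zero] at hNa
      rw [hNa, one_pow] at hN2
      have := Subgroup.relIndex_eq_one.mp hN2.symm
      exact hZne (le_antisymm hZQ this)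
    have hq2 : q = 2 := by
      by_contra hne
      have hqodd : Odd q := hq.odd_of_ne_two hne
      have hodd : Odd (q ^ a) := hqodd.pow
      have hreven : Even r := by
        rw [hrN, hNa]; exact hodd.add_one
      have hr2 : r = 2 := (hr.even_iff).mp hreven
      have h1 : q ^ a = 1 := by omega
      have : 1 < q ^ a := Nat.one_lt_pow ha0 hq.one_lt
      omega
    have hQab := hexc hq2 ⟨a, by rw [hrN, hNa, hq2]⟩
    apply hZne
    apply le_antisymm hZQ
    intro g hg
    rw [hmemZ]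
    refine ⟨hg, fun y hy => ?_⟩
    have := mul_comm' (⟨y, hQ1Q hy⟩ : Q) ⟨g, hQ1Q hg⟩
    exact congrArg Subtype.val this

end Cfsg.Agent.S3765
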