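import Cfsg.Statements.S3769
import Cfsg.Agent.Helper5.HolPerm
import Cfsg.Agent.Lead.PiClosed3
import Cfsg.Agent.S3765

set_option autoImplicit false
open Cfsg

namespace Cfsg.Agent.S3769
open scoped commutatorElement
open Cfsg.Agent.Helper5.Hol

/-- Let G and V be subgroups of a finite group with G solvable of odd order normalizing V, V an elementary abelian ℓ-group for a prime ℓ not dividing the order of G, and suppose G has a normal Hall subgroup K with a complement R of prime order. If C_V(R) = 1, then [R, K] centralizes V. -/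
theorem result {X : Type*} [Group X] [Finite X] (G : Subgroup X) (hsolv : Group.IsSolvable G) (hodd : Odd (Nat.card G)) (V : Subgroup X) {ℓ : ℕ} (hℓ : ℓ.Prime) (hV : Cfsg.IsElementaryAbelian ℓ V) (hℓG : ¬ ℓ ∣ Nat.card G) (hGV : G ≤ Subgroup.normalizer (V : Set X)) (K R : Subgroup X) (hKG : K ≤ G) (hKn : G ≤ Subgroup.normalizer (K : Set X)) (hHall : (Nat.card K).Coprime (K.relIndex G)) (hRG : R ≤ G) (hR : (Nat.card R).Prime) (hKR : K ⊓ R = ⊥) (hKRG : K ⊔ R = G) (hCV : V ⊓ Subgroup.centralizer (R : Set X) = ⊥) : ⁅R, K⁆ ≤ Subgroup.centralizer (V : Set X) := by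
  classical
  haveI : Fact ℓ.Prime := ⟨hℓ⟩
  haveI : Fact (Nat.card R).Prime := ⟨hR⟩
  by_cases hRc : R ≤ Subgroup.centralizer (V : Set X)
  · -- then `V = ⊥`
    have hVbot : V = ⊥ := by
      rw [eq_bot_iff, ← hCV]
      intro v hv
      refine Subgroup.mem_inf.mpr ⟨hv, ?_⟩
      rw [Subgroup.mem_centralizer_iff]
      intro y hy
      exact (Subgroup.mem_centralizer_iff.mp (hRc hy) v hv).symm
    intro g _
    rw [Subgroup.mem_centralizer_iff]
    intro h hh
    rw [hVbot] at hh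
    have : h = 1 := Subgroup.mem_bot.mp hh
    rw [this, one_mul, mul_one]
  have hRV : R ≤ Subgroup.normalizer (V : Set X) := hRG.trans hGV
  have hKV : K ≤ Subgroup.normalizer (V : Set X) := hKG.trans hGV
  have hRcap : R ⊓ Subgroup.centralizer (V : Set X) = ⊥ := by
    have hdvd : Nat.card ↥(R ⊓ Subgroup.centralizer (V : Set X)) ∣ Nat.card R :=
      Subgroup.card_dvd_of_le inf_le_left
    rcases (Nat.dvd_prime hR).mp hdvd with h | h
    · exact Subgroup.card_eq_one.mp h
    · exfalso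
      apply hRc
      have : R ⊓ Subgroup.centralizer (V : Set X) = R := Subgroup.eq_of_le_of_card_ge inf_le_left (le_of_eq h.symm)
      rw [← this]
      exact inf_le_right
  have hVne : V ≠ ⊥ := by
    intro h
    apply hRc
    intro y _
    rw [Subgroup.mem_centralizer_iff]
    intro v hv
    rw [h] at hv
    have : v = 1 := Subgroup.mem_bot.mp hv
    rw [this, one_mul, mul_one]
  set Rb : Subgroup (Equiv.Perm ↥V) := img V R with hRb
  set Kb : Subgroup (Equiv.Perm ↥V) := img V K with hKb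
  have hRbcard : Nat.card Rb = Nat.card R := card_img_eq V hRV hRcap
  by_contra hgoal
  have hnc : ¬ Rb ≤ Subgroup.centralizer (Kb : Set (Equiv.Perm ↥V)) := by
    intro hc
    apply hgoal
    rw [Subgroup.commutator_le]
    intro y hy k hk
    have h1 : psi V ⟨y, hRV hy⟩ ∈ Rb := (mem_img V).mpr ⟨⟨y, hRV hy⟩, hy, rfl⟩
    have h2 : psi V ⟨k, hKV hk⟩ ∈ Kb := (mem_img V).mpr ⟨⟨k, hKV hk⟩, hk, rfl⟩
    have h3 := Subgroup.mem_centralizer_iff.mp (hc h1) _ h2
    have h4 : psi V ⁅(⟨y, hRV hy⟩ : ↥(Subgroup.normalizer (V : Set X))), ⟨k, hKV hk⟩⁆ = 1 := by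
      rw [commutatorElement_def, map_mul, map_mul, map_mul, map_inv, map_inv, ← h3]
      group
    exact (psi_eq_one_iff V _).mp h4
  have hnorm : Rb ≤ Subgroup.normalizer (Kb : Set (Equiv.Perm ↥V)) := img_le_normalizer V (hRG.trans hKn)
  have hGcard : Nat.card G = Nat.card K * Nat.card R := by
    have := Cfsg.Agent.Helper17.card_sup_mul_card_inf K R (hRG.trans hKn)
    rw [hKRG, hKR, Subgroup.card_bot, mul_one] at this
    exact this
  have hrel : K.relIndex G = Nat.card R := by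
    have h1 := Cfsg.Agent.Helper17.relIndex_mul_card_inf K G
    rw [inf_eq_left.mpr hKG, hGcard, mul_comm] at h1
    exact Nat.eq_of_mul_eq_mul_left Nat.card_pos h1
  have hcopKR : (Nat.card K).Coprime (Nat.card R) := by rw [← hrel]; exact hHall
  have hKbdvd : Nat.card Kb ∣ Nat.card K := card_img_dvd V hKV
  have hcop : (Nat.card Rb).Coprime (Nat.card Kb) := by
    rw [hRbcard]
    exact Nat.Coprime.coprime_dvd_right hKbdvd hcopKR.symm
  have hsolvRb : Group.IsSolvable Rb := by
    haveI : IsCyclic Rb := isCyclic_of_prime_card hRbcard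
    letI : CommGroup Rb := IsCyclic.commGroup
    exact Group.isSolvable_of_comm (fun a b => mul_comm a b)
  obtain ⟨q, hq, Qb, hQbK, hQbp, hRbQb, hncQ⟩ :=
    Cfsg.Agent.Lead.exists_invariant_sylow_not_centralized Rb Kb hnorm hcop (Or.inl hsolvRb) hnc
  -- arithmetic of the primes
  have hQbne : Qb ≠ ⊥ := by
    intro h
    apply hncQ
    intro y _
    rw [Subgroup.mem_centralizer_iff]
    intro t ht
    rw [h] at ht
    have : t = 1 := Subgroup.mem_bot.mp ht
    rw [this, one_mul, mul_one]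
  haveI : Fact q.Prime := ⟨hq⟩
  have hqK : q ∣ Nat.card K := by
    obtain ⟨n, hn⟩ := IsPGroup.iff_card.mp hQbp
    have hn0 : n ≠ 0 := by
      rintro rfl
      rw [pow_zero] at hn
      exact hQbne (Subgroup.card_eq_one.mp hn)
    have h1 : q ∣ Nat.card Qb := by rw [hn]; exact dvd_pow_self q hn0
    exact h1.trans ((Subgroup.card_dvd_of_le hQbK).trans hKbdvd)
  have hKGdvd : Nat.card K ∣ Nat.card G := Subgroup.card_dvd_of_le hKG
  have hRGdvd : Nat.card R ∣ Nat.card G := Subgroup.card_dvd_of_le hRG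
  have hpq : ℓ ≠ q := by
    rintro rfl
    exact hℓG (hqK.trans hKGdvd)
  have hpr : ℓ ≠ Nat.card R := by
    intro h
    apply hℓG
    rw [h]; exact hRGdvd
  have hqr : q ≠ Nat.card R := by
    intro h
    have h1 : q ∣ Nat.gcd (Nat.card K) (Nat.card R) := Nat.dvd_gcd hqK (by rw [h])
    rw [hcopKR] at h1
    exact hq.one_lt.ne' (Nat.dvd_one.mp h1)
  have hq2 : q ≠ 2 := by
    rintro rfl
    have : 2 ∣ Nat.card G := hqK.trans hKGdvd
    exact (Nat.not_even_iff_odd.mpr hodd) (even_iff_two_dvd.mpr this)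
  have hXfaith : Rb ⊓ Subgroup.centralizer (Qb : Set (Equiv.Perm ↥V)) = ⊥ := by
    have hdvd : Nat.card ↥(Rb ⊓ Subgroup.centralizer (Qb : Set (Equiv.Perm ↥V))) ∣ Nat.card R := by
      rw [← hRbcard]
      exact Subgroup.card_dvd_of_le inf_le_left
    rcases (Nat.dvd_prime hR).mp hdvd with h | h
    · exact Subgroup.card_eq_one.mp h
    · exfalso
      apply hncQ
      have : Rb ⊓ Subgroup.centralizer (Qb : Set (Equiv.Perm ↥V)) = Rb :=
        Subgroup.eq_of_le_of_card_ge inf_le_left (by rw [h, hRbcard])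
      rw [← this]
      exact inf_le_right
  haveI := hV.1
  have hV' : Cfsg.IsElementaryAbelian ℓ (lam V).range := by
    refine ⟨⟨⟨?_⟩⟩, ?_⟩
    · rintro ⟨_, ⟨a, rfl⟩⟩ ⟨_, ⟨b, rfl⟩⟩
      apply Subtype.ext
      show lam V a * lam V b = lam V b * lam V a
      rw [← map_mul, ← map_mul, mul_comm' a b]
    · rintro _ ⟨a, rfl⟩
      rw [← map_pow]
      have : a ^ ℓ = 1 := Subtype.ext (by simpa using hV.2 a a.2)
      rw [this, map_one]
  have hV1' : (lam V).range ≠ ⊥ := by
    intro h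
    apply hVne
    rw [eq_bot_iff]
    intro v hv
    have h1 : lam V ⟨v, hv⟩ ∈ (lam V).range := ⟨_, rfl⟩
    rw [h, Subgroup.mem_bot] at h1
    have h2 : (⟨v, hv⟩ : V) = 1 := lam_injective V (by rw [h1, map_one])
    rw [Subgroup.mem_bot]
    exact congrArg Subtype.val h2
  have hXV' : Rb ≤ Subgroup.normalizer ((lam V).range : Set (Equiv.Perm ↥V)) :=
    (img_le_range V R).trans (range_psi_le_normalizer V)
  have hQV' : Qb ≤ Subgroup.normalizer ((lam V).range : Set (Equiv.Perm ↥V)) :=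
    (hQbK.trans (img_le_range V K)).trans (range_psi_le_normalizer V)
  have hfaith' : (Rb ⊔ Qb) ⊓ Subgroup.centralizer ((lam V).range : Set (Equiv.Perm ↥V)) = ⊥ := by
    rw [eq_bot_iff, ← range_psi_inf_centralizer V]
    exact inf_le_inf_right _ (sup_le (img_le_range V R) (hQbK.trans (img_le_range V K)))
  have hmain := Cfsg.Agent.S3765.result (G := Equiv.Perm ↥V) (p := ℓ) (q := q) (r := Nat.card R) hℓ hq hR hpq hpr hqr
    Rb Qb (lam V).range hRbcard hQbp hRbQb hXfaith hV' hV1' hXV' hQV' hfaith' (fun h => absurd h hq2)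
  apply hmain
  rw [eq_bot_iff]
  rintro _ ⟨⟨v, rfl⟩, hc⟩
  rw [Subgroup.mem_bot]
  have hv : (v : X) ∈ V ⊓ Subgroup.centralizer (R : Set X) := by
    refine Subgroup.mem_inf.mpr ⟨v.2, ?_⟩
    rw [Subgroup.mem_centralizer_iff]
    intro y hy
    have h1 : psi V ⟨y, hRV hy⟩ ∈ Rb := (mem_img V).mpr ⟨⟨y, hRV hy⟩, hy, rfl⟩
    have h2 := Subgroup.mem_centralizer_iff.mp hc _ h1
    have h3 := (psi_commute_lam_iff V ⟨y, hRV hy⟩ v).mp h2.symm
    calc y * v = (y * v * y⁻¹) * y := by group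
      _ = v * y := by rw [h3]
  rw [hCV, Subgroup.mem_bot] at hv
  have : v = 1 := Subtype.ext hv
  rw [this, map_one]

end Cfsg.Agent.S3769
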