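import Cfsg.Statements.S1445
import Cfsg.Agent.Helper5.ChiefHol2
import Cfsg.Agent.S3766

set_option autoImplicit false
open Cfsg

namespace Cfsg.Agent.S1445
open scoped commutatorElement
open Cfsg.Agent.Helper5.ChiefHol

/-- Let G be a solvable group of odd order, K a normal subgroup and R a subgroup with G = KR and the orders of K and R coprime. Suppose K ∩ C_G(x) = K ∩ C_G(R) for every non-identity x ∈ R, and F(K) ∩ C_G(R) = 1. Then [K, R] is contained in the Fitting subgroup of K. -/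
theorem result {G : Type*} [Group G] [Finite G] [Group.IsSolvable G] (hodd : Odd (Nat.card G)) (K R : Subgroup G) [K.Normal] (hKR : K ⊔ R = ⊤) (hcop : (Nat.card K).Coprime (Nat.card R))
    (hprime : ∀ x ∈ R, x ≠ 1 → K ⊓ Subgroup.centralizer ({x} : Set G) = (K ⊓ Subgroup.centralizer (R : Set G)))
    (hF : Cfsg.fittingOf K ⊓ Subgroup.centralizer (R : Set G) = ⊥) :
    ⁅K, R⁆ ≤ Cfsg.fittingOf K := by
  classical
  have hsolv : Group.IsSolvable G := inferInstance
  have hKn : K.Normal := inferInstance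
  by_cases hRbot : R = ⊥
  · rw [hRbot, Subgroup.commutator_bot_right]
    exact bot_le
  -- a subgroup of prime order
  have hRcard : Nat.card R ≠ 1 := fun h1 => hRbot (Subgroup.card_eq_one.mp h1)
  obtain ⟨r, hr, hrdvd⟩ := Nat.exists_prime_and_dvd hRcard
  haveI : Fact r.Prime := ⟨hr⟩
  obtain ⟨x0, hx0⟩ := exists_prime_orderOf_dvd_card' r hrdvd
  set R0 : Subgroup G := Subgroup.zpowers (x0 : G) with hR0
  have hR0card : Nat.card R0 = r := by
    rw [hR0, Nat.card_zpowers, Subgroup.orderOf_coe, hx0]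
  have hR0R : R0 ≤ R := by
    rw [hR0, Subgroup.zpowers_le]; exact x0.2
  have hx01 : (x0 : G) ≠ 1 := by
    intro h1
    have : x0 = 1 := Subtype.ext h1
    rw [this, orderOf_one] at hx0
    exact hr.one_lt.ne hx0
  have hcentR0 : Subgroup.centralizer (R0 : Set G) = Subgroup.centralizer ({(x0 : G)} : Set G) := by
    ext g
    rw [Subgroup.mem_centralizer_iff, Subgroup.mem_centralizer_iff]
    constructor
    · intro h y hy
      rw [Set.mem_singleton_iff] at hy
      rw [hy]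
      exact h _ (Subgroup.mem_zpowers _)
    · intro h y hy
      obtain ⟨j, rfl⟩ := Subgroup.mem_zpowers_iff.mp hy
      have hc : Commute (x0 : G) g := h _ rfl
      exact (hc.zpow_left j).eq
  have hKR0 : K ⊓ Subgroup.centralizer (R0 : Set G) = K ⊓ Subgroup.centralizer (R : Set G) := by
    rw [hcentR0]; exact hprime x0 x0.2 hx01
  set F : Subgroup G := Cfsg.fittingOf K with hFdef
  have hFK : F ≤ K := Cfsg.Agent.Lead.BG8.fittingOf_le K
  have hFn : F.Normal := by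
    rw [← Subgroup.normalizer_eq_top_iff]
    have h1 := Cfsg.Agent.Lead.normalizer_le_normalizer_map_of_characteristic K (Cfsg.fittingSubgroup ↥K)
    rw [Subgroup.normalizer_eq_top_iff.mpr hKn] at h1
    exact top_le_iff.mp h1
  have hnil : Group.IsNilpotent ↥F := Cfsg.Agent.Lead.BG8.fittingOf_isNilpotent K
  have hFR0 : F ⊓ Subgroup.centralizer (R0 : Set G) = ⊥ := by
    rw [eq_bot_iff, ← hF]
    intro g hg
    have h1 : g ∈ K ⊓ Subgroup.centralizer (R0 : Set G) :=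
      Subgroup.mem_inf.mpr ⟨hFK (Subgroup.mem_inf.mp hg).1, (Subgroup.mem_inf.mp hg).2⟩
    rw [hKR0] at h1
    exact Subgroup.mem_inf.mpr ⟨(Subgroup.mem_inf.mp hg).1, (Subgroup.mem_inf.mp h1).2⟩
  have hcop0 : (Nat.card K).Coprime (Nat.card R0) := by
    rw [hR0card]
    exact Nat.Coprime.coprime_dvd_right hrdvd hcop
  -- Claim 1: `[K, R0] ≤ F`
  have hclaim1 : ∀ k ∈ K, ∀ y ∈ R0, ⁅k, y⁆ ∈ F := by
    intro k hk y hy
    have hmemK : ⁅k, y⁆ ∈ K := by
      rw [commutatorElement_def]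
      have h1 : y * k⁻¹ * y⁻¹ ∈ K := hKn.conj_mem _ (K.inv_mem hk) y
      have e : k * y * k⁻¹ * y⁻¹ = k * (y * k⁻¹ * y⁻¹) := by group
      rw [e]
      exact K.mul_mem hk h1
    refine ((Cfsg.Agent.S3766.result hsolv K ⁅k, y⁆).2).mpr ⟨hmemK, ?_⟩
    intro U V hchief hUF u hu
    haveI hUn : U.Normal := hchief.1
    haveI hVn : V.Normal := hchief.2.1
    have hUF' : U ≤ F := hUF
    have hchief' : Cfsg.IsChiefFactor U V := ⟨hchief.2.2.1, hchief.1, hchief.2.1, hchief.2.2.2⟩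
    have hfixU : U ⊓ Subgroup.centralizer (R0 : Set G) = ⊥ := by
      rw [eq_bot_iff, ← hFR0]
      exact inf_le_inf_right _ hUF'
    have h1 := chief_commutator_trivial hsolv hodd K R0 (by rw [hR0card]; exact hr) hcop0 hchief' F hFn hnil
      hUF' (hUF'.trans hFK) hfixU k hk y hy
    have h2 := (theta_eq_one_iff U V _).mp h1 u hu
    have e : u * ⁅k, y⁆ * u⁻¹ * ⁅k, y⁆⁻¹ = (⁅k, y⁆ * u * ⁅k, y⁆⁻¹ * u⁻¹)⁻¹ := by group
    rw [e]
    exact V.inv_mem h2
  -- Claim 2: `[K, R] ≤ F`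
  rw [Subgroup.commutator_le]
  intro k hk y hy
  have hR0K : R0 ≤ Subgroup.normalizer (K : Set G) := by
    rw [Subgroup.normalizer_eq_top_iff.mpr hKn]; exact le_top
  have hKF : K ≤ Subgroup.normalizer (F : Set G) := by
    rw [Subgroup.normalizer_eq_top_iff.mpr hFn]; exact le_top
  have hR0F : R0 ≤ Subgroup.normalizer (F : Set G) := by
    rw [Subgroup.normalizer_eq_top_iff.mpr hFn]; exact le_top
  have hfix : ∀ a ∈ R0, a * k * a⁻¹ * k⁻¹ ∈ F := by
    intro a ha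
    have h1 := hclaim1 k hk a ha
    have e : a * k * a⁻¹ * k⁻¹ = ⁅k, a⁆⁻¹ := by rw [commutatorElement_def]; group
    rw [e]
    exact F.inv_mem h1
  obtain ⟨c, hc, hkc⟩ := Cfsg.Agent.S0022.result R0 K hR0K hcop0.symm (Or.inr inferInstance) F hFK hKF hR0F
    k hk hfix
  rw [hKR0] at hc
  have hcy : y * c = c * y := Subgroup.mem_centralizer_iff.mp (Subgroup.mem_inf.mp hc).2 y hy
  -- `k = c * f` with `f ∈ F`
  obtain ⟨f, hf, hkf⟩ : ∃ f ∈ F, k = c * f := by
    refine ⟨c⁻¹ * k, ?_, by group⟩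
    have := F.inv_mem hkc
    have e : (k⁻¹ * c)⁻¹ = c⁻¹ * k := by group
    rwa [e] at this
  have hfy : ⁅f, y⁆ ∈ F := by
    rw [commutatorElement_def]
    have h1 : y * f⁻¹ * y⁻¹ ∈ F := hFn.conj_mem _ (F.inv_mem hf) y
    have e : f * y * f⁻¹ * y⁻¹ = f * (y * f⁻¹ * y⁻¹) := by group
    rw [e]
    exact F.mul_mem hf h1
  have e : ⁅k, y⁆ = c * ⁅f, y⁆ * c⁻¹ := by
    rw [hkf, commutatorElement_def, commutatorElement_def]
    have hcy' : c⁻¹ * y⁻¹ = y⁻¹ * c⁻¹ := by
      rw [← mul_inv_rev, ← mul_inv_rev, hcy]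
    calc c * f * y * (c * f)⁻¹ * y⁻¹ = c * f * y * f⁻¹ * (c⁻¹ * y⁻¹) := by group
      _ = c * f * y * f⁻¹ * (y⁻¹ * c⁻¹) := by rw [hcy']
      _ = c * (f * y * f⁻¹ * y⁻¹) * c⁻¹ := by group
  rw [e]
  exact hFn.conj_mem _ hfy c

end Cfsg.Agent.S1445
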