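import Cfsg.Statements.S0243
import Cfsg.Agent.Helper2.SLCard

set_option autoImplicit false
open Cfsg

namespace Cfsg.Agent.S0243

open Cfsg.Agent.Helper2

/-- Order of PSL_n(q): gcd(n, q-1) (q-1) |PSL_n(q)| = prod_{i<n} (q^n - q^i). -/
theorem result {F : Type*} [Field F] [Fintype F] {q : ℕ} (hF : Fintype.card F = q) (n : ℕ) (hn : 2 ≤ n) : Nat.gcd n (q - 1) * ((q - 1) * Nat.card (Matrix.ProjectiveSpecialLinearGroup (Fin n) F)) = ∏ i : Fin n, (q ^ n - q ^ (i : ℕ)) := by
  have : Nonempty (Fin n) := ⟨⟨0, by omega⟩⟩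
  have h1 := card_SL_mul_card_units (ι := Fin n) (F := F)
  have h2 : Nat.card Fˣ = q - 1 := by rw [card_units_field, hF]
  rw [Matrix.card_GL_field, h2, hF] at h1
  have h3 := card_center_SL (F := F) n (by omega)
  rw [h2] at h3
  have h4 := Subgroup.card_eq_card_quotient_mul_card_subgroup
    (Subgroup.center (Matrix.SpecialLinearGroup (Fin n) F))
  rw [h3] at h4
  rw [← h1, h4]
  show _ = Nat.card (Matrix.ProjectiveSpecialLinearGroup (Fin n) F) * n.gcd (q - 1) * (q - 1)
  ring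

end Cfsg.Agent.S0243
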