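import Cfsg.Statements.S0256
import Mathlib
import Cfsg.Agent.Helper2.Klein
import Cfsg.Agent.Helper2.O6S8
import Cfsg.Agent.Helper2.PSLSimple
import Cfsg.Agent.Helper2.SLCard
import Cfsg.Agent.S0243

set_option autoImplicit false
open Cfsg

namespace Cfsg.Agent.S0256

open Cfsg.Agent.Helper2 Matrix

/-- PSL_4(2) is isomorphic to A_8. -/
theorem result {F : Type*} [Field F] [Fintype F] (hF : Fintype.card F = 2) : Nonempty (Matrix.ProjectiveSpecialLinearGroup (Fin 4) F ≃* alternatingGroup (Fin 8)) := by
  classical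
  have : Fact (Nat.Prime 2) := ⟨Nat.prime_two⟩
  have : CharP F 2 := charP_of_card_eq_prime hF
  obtain ⟨e⟩ := O6S8.nonempty_mulEquiv (F := F) hF
  let φ₀ : SpecialLinearGroup (Fin 4) F →* Equiv.Perm (Fin 8) :=
    e.toMonoidHom.comp Klein.klein
  have hc : Subgroup.center (SpecialLinearGroup (Fin 4) F) = ⊥ := by
    rw [← Subgroup.card_eq_one, card_center_SL 4 (by norm_num), card_units_field, hF]
    rfl
  let φ : Matrix.ProjectiveSpecialLinearGroup (Fin 4) F →* Equiv.Perm (Fin 8) :=
    QuotientGroup.lift _ φ₀ (by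
      rw [hc]; intro x hx; rw [Subgroup.mem_bot] at hx; subst hx; exact map_one _)
  have hsimple : IsSimpleGroup (Matrix.ProjectiveSpecialLinearGroup (Fin 4) F) :=
    PSL_isSimpleGroup (ι := Fin 4) (F := F) (by simp)
  have hinj : Function.Injective φ := by
    rw [← MonoidHom.ker_eq_bot_iff]
    rcases Subgroup.Normal.eq_bot_or_eq_top (inferInstance : φ.ker.Normal) with h | h
    · exact h
    · exfalso
      let A : SpecialLinearGroup (Fin 4) F :=
        ⟨Matrix.transvection 0 1 1, Matrix.det_transvection_of_ne 0 1 (by decide) 1⟩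
      have h1 : φ (QuotientGroup.mk A) = 1 := by
        rw [← MonoidHom.mem_ker, h]; trivial
      have h2 : φ₀ A = 1 := h1
      have h3 : Klein.klein A = 1 := by
        apply e.injective
        rw [map_one]; exact h2
      have h4 : (Klein.comp2 A.1 : Matrix (Fin 3 ⊕ Fin 3) (Fin 3 ⊕ Fin 3) F) = 1 := by
        have := congrArg (fun g : Cfsg.isometryGroup F (Cfsg.quadFormPlus 3 F) =>
          ((g : GL (Fin 3 ⊕ Fin 3) F) : Matrix (Fin 3 ⊕ Fin 3) (Fin 3 ⊕ Fin 3) F)) h3
        exact this
      have h5 := congrFun (congrFun h4 (Sum.inl 1)) (Sum.inr 2)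
      rw [Matrix.one_apply_ne (by simp)] at h5
      simp [Klein.comp2, Klein.minor2, Klein.pa, Klein.pb, Klein.sg, A,
        Matrix.transvection, Matrix.add_apply] at h5
  have hcardP : Nat.card (Matrix.ProjectiveSpecialLinearGroup (Fin 4) F) = 20160 := by
    have := Cfsg.Agent.S0243.result hF 4 (by norm_num)
    rw [Fin.prod_univ_four] at this
    norm_num at this
    rw [Nat.card_eq_fintype_card]
    convert this
  have hcardR : Nat.card φ.range = 20160 := by
    rw [← hcardP]
    exact (Nat.card_congr (MonoidHom.ofInjective hinj).toEquiv).symm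
  have hidx : φ.range.index = 2 := by
    have h1 := Subgroup.index_mul_card φ.range
    rw [hcardR, Nat.card_eq_fintype_card, Fintype.card_perm, Fintype.card_fin] at h1
    have : Nat.factorial 8 = 40320 := by decide
    omega
  have hr : φ.range = alternatingGroup (Fin 8) :=
    Equiv.Perm.eq_alternatingGroup_of_index_eq_two hidx
  exact ⟨(MonoidHom.ofInjective hinj).trans (MulEquiv.subgroupCongr hr)⟩

end Cfsg.Agent.S0256
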