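import Mathlib
import Cfsg.Statements.S3800
import Cfsg.Agent.Helper19.Sylow

set_option autoImplicit false
open Cfsg

namespace Cfsg.Agent.S3800

open Cfsg.Agent.Helper19

section
variable {G : Type*} [Group G] [Finite G] {p : ℕ} [Fact p.Prime] (N : Subgroup G) [N.Normal]
  (P : Subgroup G)

omit [N.Normal] in
lemma inf_eq_bot (hN : (Nat.card N).Coprime p) (hP : IsPGroup p P) : P ⊓ N = ⊥ := by
  obtain ⟨k, hk⟩ := IsPGroup.iff_card.mp hP
  have h1 : Nat.card (P ⊓ N : Subgroup G) ∣ p ^ k := hk ▸ Subgroup.card_dvd_of_le inf_le_left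
  have h2 : Nat.card (P ⊓ N : Subgroup G) ∣ Nat.card N := Subgroup.card_dvd_of_le inf_le_right
  have h3 : Nat.card (P ⊓ N : Subgroup G) = 1 :=
    Nat.eq_one_of_dvd_coprimes (Nat.Coprime.pow_left k hN.symm) h1 h2
  exact Subgroup.card_eq_one.mp h3

lemma relIndex_sup (hN : (Nat.card N).Coprime p) (hP : IsPGroup p P) :
    P.relIndex (P ⊔ N) = Nat.card N := by
  have h1 := Subgroup.relIndex_mul_relIndex ⊥ N (P ⊔ N) bot_le le_sup_right
  rw [Subgroup.relIndex_bot_left, Subgroup.relIndex_bot_left, Subgroup.relIndex_sup_right,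
    ← Subgroup.inf_relIndex_right, inf_comm, inf_eq_bot N P hN hP, Subgroup.relIndex_bot_left] at h1
  have h2 := Subgroup.relIndex_mul_relIndex ⊥ P (P ⊔ N) bot_le le_sup_left
  rw [Subgroup.relIndex_bot_left, Subgroup.relIndex_bot_left, ← h1, mul_comm] at h2
  exact Nat.eq_of_mul_eq_mul_right Nat.card_pos h2

lemma normalizer_le (hN : (Nat.card N).Coprime p) (hP : IsPGroup p P) :
    Subgroup.normalizer ((P.map (QuotientGroup.mk' N)) : Set (G ⧸ N)) ≤
      (Subgroup.normalizer (P : Set G)).map (QuotientGroup.mk' N) := by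
  intro q hq
  obtain ⟨g, rfl⟩ := QuotientGroup.mk'_surjective N q
  -- the conjugate of P by g lies in P ⊔ N
  have hQK : P.map (MulAut.conj g).toMonoidHom ≤ P ⊔ N := by
    intro y hy
    rw [mem_map_conj] at hy
    have hq' : (QuotientGroup.mk' N g)⁻¹ ∈
        Subgroup.normalizer ((P.map (QuotientGroup.mk' N)) : Set (G ⧸ N)) := Subgroup.inv_mem _ hq
    have h1 : QuotientGroup.mk' N (g⁻¹ * y * g) ∈ P.map (QuotientGroup.mk' N) := ⟨_, hy, rfl⟩
    have h2 := (Subgroup.mem_normalizer_iff''.mp hq' _).mp h1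
    have h3 : (QuotientGroup.mk' N g)⁻¹⁻¹ * QuotientGroup.mk' N (g⁻¹ * y * g) *
        (QuotientGroup.mk' N g)⁻¹ = QuotientGroup.mk' N y := by
      rw [inv_inv, ← map_inv, ← map_mul, ← map_mul]
      congr 1; group
    rw [h3] at h2
    obtain ⟨v, hv, hvy⟩ := h2
    have h4 : v⁻¹ * y ∈ N := by
      rw [← QuotientGroup.eq]; exact hvy
    have : y = v * (v⁻¹ * y) := by group
    rw [this]
    exact Subgroup.mul_mem_sup hv h4
  have hcard : Nat.card (P.map (MulAut.conj g).toMonoidHom) = Nat.card P :=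
    (Nat.card_congr (P.equivMapOfInjective _ (MulAut.conj g).injective).toEquiv).symm
  have hidx : ¬ p ∣ P.relIndex (P ⊔ N) := by
    rw [relIndex_sup N P hN hP]
    exact fun h => (Fact.out : p.Prime).ne_one
      ((Nat.coprime_self p).mp (Nat.Coprime.coprime_dvd_left h hN))
  obtain ⟨k, hk, hPk⟩ := exists_conj_eq_of_card_eq hP le_sup_left hQK hidx hcard
  obtain ⟨u, hu, n, hn, rfl⟩ := Subgroup.mem_sup_of_normal_right.mp hk
  -- (u n)⁻¹ g normalizes P
  have hnorm : (u * n)⁻¹ * g ∈ Subgroup.normalizer (P : Set G) := by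
    rw [mem_normalizer_iff_map_conj, ← map_conj_map_conj, hPk, map_conj_map_conj,
      inv_mul_cancel, map_conj_one]
  refine ⟨u * ((u * n)⁻¹ * g), Subgroup.mul_mem _ (Subgroup.le_normalizer hu) hnorm, ?_⟩
  rw [QuotientGroup.mk'_apply, QuotientGroup.mk'_apply, QuotientGroup.eq]
  have : (u * ((u * n)⁻¹ * g))⁻¹ * g = g⁻¹ * (u * n * u⁻¹) * g := by group
  rw [this]
  exact Subgroup.Normal.conj_mem' inferInstance _ (Subgroup.Normal.conj_mem inferInstance n hn u) g

end

theorem result {G : Type*} [Group G] [Finite G] {p : ℕ} [Fact p.Prime] (N : Subgroup G) [N.Normal] (hN : (Nat.card N).Coprime p) (P : Subgroup G) (hP : IsPGroup p P) : Subgroup.normalizer ((P.map (QuotientGroup.mk' N)) : Set (G ⧸ N)) = (Subgroup.normalizer (P : Set G)).map (QuotientGroup.mk' N) ∧ Subgroup.centralizer ((P.map (QuotientGroup.mk' N)) : Set (G ⧸ N)) = (Subgroup.centralizer (P : Set G)).map (QuotientGroup.mk' N) := by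
  have hnorm : Subgroup.normalizer ((P.map (QuotientGroup.mk' N)) : Set (G ⧸ N)) =
      (Subgroup.normalizer (P : Set G)).map (QuotientGroup.mk' N) :=
    le_antisymm (normalizer_le N P hN hP) (Subgroup.le_normalizer_map _)
  refine ⟨hnorm, le_antisymm ?_ ?_⟩
  · intro q hq
    have hqn : q ∈ Subgroup.normalizer ((P.map (QuotientGroup.mk' N)) : Set (G ⧸ N)) :=
      Subgroup.centralizer_le_normalizer _ hq
    rw [hnorm] at hqn
    obtain ⟨g, hg, rfl⟩ := hqn
    have hg : g ∈ Subgroup.normalizer (P : Set G) := hg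
    refine ⟨g, ?_, rfl⟩
    rw [SetLike.mem_coe, Subgroup.mem_centralizer_iff]
    intro u hu
    have h1 : g * u * g⁻¹ * u⁻¹ ∈ P :=
      P.mul_mem ((Subgroup.mem_normalizer_iff.mp hg u).mp hu) (P.inv_mem hu)
    have h2 : g * u * g⁻¹ * u⁻¹ ∈ N := by
      rw [← QuotientGroup.eq_one_iff]
      have h3 := (Subgroup.mem_centralizer_iff.mp hq) (QuotientGroup.mk' N u) ⟨u, hu, rfl⟩
      have : ((g * u * g⁻¹ * u⁻¹ : G) : G ⧸ N) =
          (QuotientGroup.mk' N g) * (QuotientGroup.mk' N u) * (QuotientGroup.mk' N g)⁻¹ *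
            (QuotientGroup.mk' N u)⁻¹ := by
        simp
      rw [this, ← h3]; group
    have h3 : g * u * g⁻¹ * u⁻¹ ∈ P ⊓ N := ⟨h1, h2⟩
    rw [inf_eq_bot N P hN hP, Subgroup.mem_bot] at h3
    have h4 : g * u * g⁻¹ = u := by rw [← mul_inv_eq_one]; exact h3
    calc u * g = (g * u * g⁻¹) * g := by rw [h4]
      _ = g * u := by group
  · rintro _ ⟨g, hg, rfl⟩
    rw [Subgroup.mem_centralizer_iff]
    rintro _ ⟨u, hu, rfl⟩
    rw [← map_mul, ← map_mul, (Subgroup.mem_centralizer_iff.mp hg) u hu]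

end Cfsg.Agent.S3800
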