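import Mathlib
import Cfsg.Statements.S3768
import Cfsg.Agent.Helper1.Frobenius
import Cfsg.Agent.Helper1.FrobeniusThm
import Cfsg.Agent.Lead.Coprime3

set_option autoImplicit false
open Cfsg

namespace Cfsg.Agent.S3768

open Subgroup Cfsg.Agent.Helper1 Cfsg.Agent.Lead
open scoped Pointwise

/-- Structure of a Frobenius group: the kernel is a normal complement `K` of `R` of order prime
to `|R|`, every element is `k * r`, and a nontrivial element of `R` commutes with no nontrivial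
element of `K`. -/
lemma frob_structure {G : Type*} [Group G] [Finite G] (R : Subgroup G)
    (hR : Cfsg.IsFrobeniusComplement R) :
    ∃ K : Subgroup G, (K : Set G) = Cfsg.frobeniusKernel R ∧ K.Normal ∧ K ⊓ R = ⊥ ∧
      (∀ g : G, ∃ k ∈ K, ∃ r ∈ R, g = k * r) ∧ (Nat.card R).Coprime (Nat.card K) ∧
      (∀ k ∈ K, ∀ r ∈ R, r ≠ 1 → k * r = r * k → k = 1) := by
  classical
  have : Fintype G := Fintype.ofFinite G
  obtain ⟨K, hKset, hKn, hKc⟩ := frobenius_theorem hR
  have hdisj : K ⊓ R = ⊥ := hKc.disjoint.eq_bot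
  have hprod : ∀ g : G, ∃ k ∈ K, ∃ r ∈ R, g = k * r := by
    intro g
    have hg : g ∈ (K : Set G) * (R : Set G) := by
      rw [hKc.mul_eq]; exact Set.mem_univ g
    obtain ⟨k, hk, r, hr, rfl⟩ := Set.mem_mul.mp hg
    exact ⟨k, hk, r, hr, rfl⟩
  refine ⟨K, hKset, hKn, hdisj, hprod, ?_, ?_⟩
  · have h1 : Nat.card K = R.index := by
      rw [← frob_card_kernel hR]
      exact Nat.card_congr (Equiv.setCongr hKset)
    rw [h1]
    have h2 := frob_index_mod hR
    have h3 : Nat.gcd R.index (Nat.card R) = Nat.gcd 1 (Nat.card R) := Nat.ModEq.gcd_eq h2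
    rw [Nat.gcd_one_left] at h3
    exact Nat.coprime_comm.mp h3
  · intro k hk r hr hr1 hkr
    by_contra hk1
    have hkR : k ∉ R := by
      intro hkR
      have : k ∈ K ⊓ R := ⟨hk, hkR⟩
      rw [hdisj, mem_bot] at this
      exact hk1 this
    apply hr1
    apply frob_inter' hR hkR hr
    rw [hkr, mul_inv_cancel_right]
    exact hr


/-- Let G be a finite Frobenius group with Frobenius complement R and Frobenius kernel K (the identity together with the elements in no conjugate of R), and let N be a normal subgroup of G not containing K. Then G/N is a Frobenius group with Frobenius complement RN/N whose Frobenius kernel is the image of K. -/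
theorem result {G : Type*} [Group G] [Finite G] (R : Subgroup G) (hR : Cfsg.IsFrobeniusComplement R) (N : Subgroup G) [N.Normal] (hKN : ¬ Cfsg.frobeniusKernel R ⊆ N) : Cfsg.IsFrobeniusComplement (R.map (QuotientGroup.mk' N)) ∧ Cfsg.frobeniusKernel (R.map (QuotientGroup.mk' N)) = QuotientGroup.mk' N '' Cfsg.frobeniusKernel R := by
  classical
  have hNn : N.Normal := inferInstance
  obtain ⟨K, hKset, hKn, hdisj, hprod, hcop, hfpf⟩ := frob_structure R hR
  have hKN' : ¬ K ≤ N := fun h => hKN (hKset ▸ h)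
  have hKR1 : ∀ x, x ∈ K → x ∈ R → x = 1 := by
    intro x hxK hxR
    have : x ∈ K ⊓ R := ⟨hxK, hxR⟩
    rw [hdisj, mem_bot] at this
    exact this
  -- Step 1: `N ≤ K`
  have hNK : N ≤ K := by
    by_contra hnot
    obtain ⟨n, hnN, hnK⟩ := SetLike.not_le_iff_exists.mp hnot
    have hnK' : n ∉ Cfsg.frobeniusKernel R := by rw [← hKset]; exact hnK
    obtain ⟨hn1, g, hg⟩ := (not_mem_frobeniusKernel_iff R n).mp hnK'
    set r := g * n * g⁻¹ with hr
    have hrN : r ∈ N := hNn.conj_mem n hnN g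
    have hr1 : r ≠ 1 := by
      intro h
      apply hn1
      have : n = g⁻¹ * r * g := by rw [hr]; group
      rw [this, h]; group
    -- the injection `k ↦ k r k⁻¹ r⁻¹` from `K` to `K ⊓ N`
    have hinj : Nat.card K ≤ Nat.card ↥(K ⊓ N) := by
      apply Nat.card_le_card_of_injective (fun k : K => (⟨(k : G) * r * (k : G)⁻¹ * r⁻¹, by
        constructor
        · have : (k : G) * r * (k : G)⁻¹ * r⁻¹ = (k : G) * (r * (k : G)⁻¹ * r⁻¹) := by group
          rw [this]
          exact K.mul_mem k.2 (hKn.conj_mem _ (K.inv_mem k.2) r)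
        · exact N.mul_mem (hNn.conj_mem r hrN k) (N.inv_mem hrN)⟩ : ↥(K ⊓ N)))
      intro k k' hkk'
      have h1 : (k : G) * r * (k : G)⁻¹ * r⁻¹ = (k' : G) * r * (k' : G)⁻¹ * r⁻¹ := by
        have h := congrArg Subtype.val hkk'
        exact h
      have h2 : ((k' : G)⁻¹ * (k : G)) * r = r * ((k' : G)⁻¹ * (k : G)) := by
        have h3 : (k : G) * r * (k : G)⁻¹ = (k' : G) * r * (k' : G)⁻¹ := mul_right_cancel h1
        calc ((k' : G)⁻¹ * (k : G)) * r = (k' : G)⁻¹ * ((k : G) * r * (k : G)⁻¹) * (k : G) := by group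
          _ = (k' : G)⁻¹ * ((k' : G) * r * (k' : G)⁻¹) * (k : G) := by rw [h3]
          _ = r * ((k' : G)⁻¹ * (k : G)) := by group
      have h4 := hfpf _ (K.mul_mem (K.inv_mem k'.2) k.2) r hg hr1 h2
      apply Subtype.ext
      exact (inv_mul_eq_one.mp h4).symm
    have hle : K ⊓ N = K := by
      apply Subgroup.eq_of_le_of_card_ge inf_le_left hinj
    exact hKN' (hle ▸ inf_le_right)
  have hcopN : ∀ r ∈ R, (Nat.card (zpowers r)).Coprime (Nat.card N) := by
    intro r hr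
    exact Nat.Coprime.coprime_dvd_left (card_dvd_of_le (zpowers_le.mpr hr))
      (Nat.Coprime.coprime_dvd_right (card_dvd_of_le hNK) hcop)
  -- fixed points modulo `N`
  have hfix : ∀ k ∈ K, ∀ r ∈ R, r ≠ 1 → r⁻¹ * k * r * k⁻¹ ∈ N → k ∈ N := by
    intro k hk r hr hr1 hrk
    let St : Subgroup G :=
      { carrier := {a | a * k * a⁻¹ * k⁻¹ ∈ N}
        one_mem' := by simp
        mul_mem' := by
          intro a b ha hb
          have : a * b * k * (a * b)⁻¹ * k⁻¹ = a * (b * k * b⁻¹ * k⁻¹) * a⁻¹ * (a * k * a⁻¹ * k⁻¹) := by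
            group
          change a * b * k * (a * b)⁻¹ * k⁻¹ ∈ N
          rw [this]
          exact N.mul_mem (hNn.conj_mem _ hb a) ha
        inv_mem' := by
          intro a ha
          have : a⁻¹ * k * a⁻¹⁻¹ * k⁻¹ = a⁻¹ * (a * k * a⁻¹ * k⁻¹)⁻¹ * a⁻¹⁻¹ := by group
          change a⁻¹ * k * a⁻¹⁻¹ * k⁻¹ ∈ N
          rw [this]
          exact hNn.conj_mem _ (N.inv_mem ha) a⁻¹ }
    have hrSt : r⁻¹ ∈ St := by
      change r⁻¹ * k * r⁻¹⁻¹ * k⁻¹ ∈ N
      rw [inv_inv]; exact hrk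
    have hASt : zpowers r ≤ St := zpowers_le.mpr (by simpa using St.inv_mem hrSt)
    obtain ⟨c, hc, hck⟩ := coprime_invariant_coset_fixed (zpowers r) N
      (by rw [normalizer_eq_top]; exact le_top) (hcopN r hr)
      (Or.inl inferInstance) k (fun a ha => hASt ha)
    have hcK : c ∈ K := by
      have : c = (c * k⁻¹) * k := by group
      rw [this]
      exact K.mul_mem (hNK hck) hk
    have hcr : c * r = r * c := (mem_centralizer_iff.mp hc r (mem_zpowers r)).symm
    have hc1 := hfpf c hcK r hr hr1 hcr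
    rw [hc1, one_mul] at hck
    simpa using N.inv_mem hck
  have hmk : ∀ x : G, (QuotientGroup.mk' N x = 1 ↔ x ∈ N) := fun x => QuotientGroup.eq_one_iff x
  have hmemRbar : ∀ y : G ⧸ N, y ∈ R.map (QuotientGroup.mk' N) ↔ ∃ r ∈ R, QuotientGroup.mk' N r = y :=
    fun y => Subgroup.mem_map
  refine ⟨⟨?_, ?_, ?_⟩, ?_⟩
  · -- `R̄ ≠ ⊥`
    intro hbot
    obtain ⟨r, hr, hr1⟩ := (Subgroup.ne_bot_iff_exists_ne_one.mp hR.1 |> fun ⟨x, hx⟩ => (⟨x.1, x.2, fun h => hx (Subtype.ext h)⟩ : ∃ r ∈ R, r ≠ 1))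
    have : QuotientGroup.mk' N r ∈ R.map (QuotientGroup.mk' N) := mem_map_of_mem _ hr
    rw [hbot, mem_bot, hmk] at this
    exact hr1 (hKR1 r (hNK this) hr)
  · -- `R̄ ≠ ⊤`
    intro htop
    apply hKN'
    intro k hk
    have : QuotientGroup.mk' N k ∈ R.map (QuotientGroup.mk' N) := by rw [htop]; exact mem_top _
    obtain ⟨r, hr, hrk⟩ := (hmemRbar _).mp this
    have h1 : r⁻¹ * k ∈ N := by
      rw [← hmk, map_mul, map_inv, hrk]; simp
    have hrK : r ∈ K := by
      have : r = k * (r⁻¹ * k)⁻¹ := by group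
      rw [this]
      exact K.mul_mem hk (K.inv_mem (hNK h1))
    have hr1 := hKR1 r hrK hr
    rw [hr1] at h1
    simpa using h1
  · -- TI
    intro gbar hgbar
    obtain ⟨g, rfl⟩ := QuotientGroup.mk'_surjective N gbar
    obtain ⟨k, hk, r, hr, rfl⟩ := hprod g
    have hkN : k ∉ N := by
      intro hkN
      apply hgbar
      rw [hmemRbar]
      refine ⟨r, hr, ?_⟩
      rw [map_mul, (hmk k).mpr hkN, one_mul]
    rw [eq_bot_iff]
    intro x hx
    rw [mem_bot]
    obtain ⟨hx1, hx2⟩ := hx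
    have hx1 : x ∈ R.map (QuotientGroup.mk' N) := hx1
    have hx2 : x ∈ MulAut.conj ((QuotientGroup.mk' N) (k * r)) • R.map (QuotientGroup.mk' N) := hx2
    rw [Helper1.mem_conj_smul_iff] at hx2
    obtain ⟨r₁, hr₁, rfl⟩ := (hmemRbar _).mp hx1
    obtain ⟨r₂, hr₂, hr₂e⟩ := (hmemRbar _).mp hx2
    -- `r₂ ≡ (kr)⁻¹ r₁ (kr)` mod `N`
    by_contra hne
    have hr₁1 : r₁ ≠ 1 := by
      intro h; apply hne; rw [h, map_one]
    have h1 : r₂⁻¹ * ((k * r)⁻¹ * r₁ * (k * r)) ∈ N := by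
      rw [← hmk]
      have e : QuotientGroup.mk' N (r₂⁻¹ * ((k * r)⁻¹ * r₁ * (k * r))) =
          (QuotientGroup.mk' N r₂)⁻¹ * ((QuotientGroup.mk' N (k * r))⁻¹ * QuotientGroup.mk' N r₁ *
            QuotientGroup.mk' N (k * r)) := by
        simp only [map_mul, map_inv]
      rw [e, hr₂e, inv_mul_cancel]
    -- compare modulo `K`
    set r₃ := r * r₂ * r⁻¹ with hr₃
    have hr₃R : r₃ ∈ R := R.mul_mem (R.mul_mem hr hr₂) (R.inv_mem hr)
    have h2 : r₃⁻¹ * (k⁻¹ * r₁ * k) ∈ N := by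
      have : r₃⁻¹ * (k⁻¹ * r₁ * k) = r * (r₂⁻¹ * ((k * r)⁻¹ * r₁ * (k * r))) * r⁻¹ := by
        rw [hr₃]; group
      rw [this]
      exact hNn.conj_mem _ h1 r
    have h3 : r₃⁻¹ * r₁ ∈ K := by
      have : r₃⁻¹ * r₁ = (r₃⁻¹ * (k⁻¹ * r₁ * k)) * (k⁻¹ * (r₁⁻¹ * k * r₁)) := by group
      rw [this]
      exact K.mul_mem (hNK h2) (K.mul_mem (K.inv_mem hk)
        (by simpa using hKn.conj_mem k hk r₁⁻¹))
    have h4 : r₃ = r₁ := by
      have := hKR1 _ h3 (R.mul_mem (R.inv_mem hr₃R) hr₁)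
      exact (inv_mul_eq_one.mp this)
    rw [h4] at h2
    -- now `r₁` fixes `k⁻¹` modulo `N`
    have h5 : r₁⁻¹ * k⁻¹ * r₁ * k⁻¹⁻¹ ∈ N := by
      have : r₁⁻¹ * k⁻¹ * r₁ * k⁻¹⁻¹ = r₁⁻¹ * (k⁻¹ * r₁ * k) := by group
      rw [this]; exact h2
    have := hfix k⁻¹ (K.inv_mem hk) r₁ hr₁ hr₁1 h5
    exact hkN (by simpa using N.inv_mem this)
  · -- the kernel
    ext y
    rw [mem_frobeniusKernel_iff]
    constructor
    · intro hy
      obtain ⟨x, rfl⟩ := QuotientGroup.mk'_surjective N y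
      by_cases hxK : x ∈ K
      · exact ⟨x, by rw [← hKset]; exact hxK, rfl⟩
      · have hxK' : x ∉ Cfsg.frobeniusKernel R := by rw [← hKset]; exact hxK
        obtain ⟨-, g, hg⟩ := (not_mem_frobeniusKernel_iff R x).mp hxK'
        rcases hy with hy | hy
        · exact ⟨1, by rw [← hKset]; exact K.one_mem, by rw [map_one, hy]⟩
        · exfalso
          apply hy (QuotientGroup.mk' N g)
          rw [hmemRbar]
          exact ⟨g * x * g⁻¹, hg, by simp⟩
    · rintro ⟨k, hk, rfl⟩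
      have hk' : k ∈ K := by rw [← SetLike.mem_coe, hKset]; exact hk
      by_cases h1 : QuotientGroup.mk' N k = 1
      · exact Or.inl h1
      · right
        intro gbar hmem
        obtain ⟨g, rfl⟩ := QuotientGroup.mk'_surjective N gbar
        obtain ⟨r, hr, hre⟩ := (hmemRbar _).mp hmem
        have h2 : r⁻¹ * (g * k * g⁻¹) ∈ N := by
          rw [← hmk, map_mul, map_inv, hre, map_mul, map_mul, map_inv, inv_mul_cancel]
        have hrK : r ∈ K := by
          have : r = (g * k * g⁻¹) * (r⁻¹ * (g * k * g⁻¹))⁻¹ := by group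
          rw [this]
          exact K.mul_mem (hKn.conj_mem k hk' g) (K.inv_mem (hNK h2))
        have hr1 := hKR1 r hrK hr
        rw [hr1, inv_one, one_mul] at h2
        apply h1
        rw [hmk]
        have : k = g⁻¹ * (g * k * g⁻¹) * g⁻¹⁻¹ := by group
        rw [this]
        exact hNn.conj_mem _ h2 g⁻¹

end Cfsg.Agent.S3768
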