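import Cfsg.Statements.S0211
import Cfsg.Agent.Helper2.Invol

set_option autoImplicit false
open Cfsg

namespace Cfsg.Agent.S0211

open Cfsg.Agent.Helper2

/-- Let x, y be involutions with xy of even order n and z = (xy)^(n/2). Then xz is conjugate to x by an element of the subgroup generated by x, y if and only if 4 divides n. -/
theorem result {G : Type*} [Group G] [Finite G] (x y : G) (hx : orderOf x = 2) (hy : orderOf y = 2) (heven : Even (orderOf (x * y))) : (∃ d ∈ Subgroup.closure ({x, y} : Set G), d * x * d⁻¹ = x * (x * y) ^ (orderOf (x * y) / 2)) ↔ 4 ∣ orderOf (x * y) := by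
  have hx2 := mul_self_of_orderOf_two hx
  have hy2 := mul_self_of_orderOf_two hy
  obtain ⟨hz, hzx, hzy⟩ := invol_half_pow hx2 hy2 (orderOf_pos _) heven
  have hpos := orderOf_pos (x * y)
  obtain ⟨m, hm⟩ := heven
  have hdiv : orderOf (x * y) / 2 = m := by omega
  rw [hdiv] at hz hzx ⊢
  have hxz : x * (x * y) ^ m = (x * y) ^ (m : ℤ) * x := by
    rw [zpow_natCast]; exact hzx.eq.symm
  rw [hxz]
  constructor
  · rintro ⟨d, hd, hdx⟩
    obtain ⟨j, hj⟩ := invol_closure_conj hx2 hy2 hd
    rw [hdx] at hj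
    have h2 := mul_right_cancel hj
    have h3 : (x * y) ^ (2 * j - m) = 1 := by
      rw [sub_eq_add_neg, zpow_add, ← h2, ← zpow_add]; simp
    have h4 := (orderOf_dvd_iff_zpow_eq_one).mpr h3
    rw [hm] at h4 ⊢
    have : (2 : ℤ) ∣ 2 * j - m := by
      refine dvd_trans ?_ h4
      exact ⟨m, by push_cast; ring⟩
    have hm2 : 2 ∣ m := by omega
    omega
  · intro h4
    have hm2 : 2 ∣ m := by omega
    obtain ⟨k, hk⟩ := hm2
    refine ⟨(x * y) ^ (k : ℤ), invol_zpow_mem_closure _, ?_⟩
    rw [invol_conj_by_zpow hx2 hy2]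
    congr 2
    rw [hk]; push_cast; ring

end Cfsg.Agent.S0211
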