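import Cfsg.Statements.S0229
import Cfsg.Agent.Helper2.Isolated
import Cfsg.Agent.S0208
import Cfsg.Agent.S0211

set_option autoImplicit false
open Cfsg

namespace Cfsg.Agent.S0229

open Cfsg.Agent.Helper2

/-- Let t be an involution of a Sylow 2-subgroup S of a finite group G, conjugate in G to no other element of S, and let s be an involution of G not conjugate to t. Then the order of st is twice an odd number. -/
theorem result {G : Type*} [Group G] [Finite G] (S : Sylow 2 G) (t : G) (ht : orderOf t = 2) (htS : t ∈ S) (hiso : ∀ g : G, g * t * g⁻¹ ∈ S → g * t * g⁻¹ = t) (s : G) (hs : orderOf s = 2) (hns : ¬ IsConj s t) : orderOf (s * t) % 4 = 2 := by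
  have ht2 := mul_self_of_orderOf_two ht
  have hs2 := mul_self_of_orderOf_two hs
  have hord : orderOf (s * t) = orderOf (t * s) :=
    SemiconjBy.orderOf_eq t (show t * (s * t) = (t * s) * t by simp [mul_assoc])
  rw [hord]
  rcases Nat.even_or_odd (orderOf (t * s)) with heven | hodd
  · by_cases h4 : 4 ∣ orderOf (t * s)
    · exfalso
      obtain ⟨d, -, hd⟩ := (Cfsg.Agent.S0211.result t s ht hs heven).mpr h4
      obtain ⟨hz, hzt, -⟩ := invol_half_pow ht2 hs2 (orderOf_pos _) heven
      set z := (t * s) ^ (orderOf (t * s) / 2) with hzdef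
      have hz2 := mul_self_of_orderOf_two hz
      have htz2 : (t * z) * (t * z) = 1 := by
        rw [mul_assoc, ← mul_assoc z, hzt.eq, mul_assoc, hz2, mul_one, ht2]
      have hpow : (t * (t * z)) ^ (2 ^ 1) = 1 := by
        rw [← mul_assoc, ht2, one_mul, pow_one, pow_two, hz2]
      have hK := isPGroup_closure_invol_pair ht2 htz2 1 hpow
      have hmem1 : t ∈ Subgroup.closure ({t, t * z} : Set G) :=
        Subgroup.subset_closure (by simp)
      have hmem2 : t * z ∈ Subgroup.closure ({t, t * z} : Set G) :=
        Subgroup.subset_closure (by simp)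
      have heq := isolated_eq_of_mem_pgroup S t hiso _ hK hmem1 hmem2 ⟨1, by simp⟩ ⟨d, hd⟩
      have : z = 1 := by
        have h1 : t * 1 = t * z := by rw [mul_one]; exact heq
        exact (mul_left_cancel h1).symm
      exact ne_one_of_orderOf_two hz this
    · obtain ⟨m, hm⟩ := heven
      omega
  · exfalso
    obtain ⟨d, -, hd⟩ := Cfsg.Agent.S0208.result t s ht hs hodd
    exact hns (isConj_iff.mpr ⟨d, hd⟩).symm

end Cfsg.Agent.S0229
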