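import Mathlib
import Cfsg.Statements.S0963
import Cfsg.Agent.Helper5.RestrictScalar
import Cfsg.Agent.Helper5.IndFun
import Cfsg.Agent.S0933

set_option autoImplicit false
open Cfsg

namespace Cfsg.Agent.S0963

open Cfsg.Agent.Helper5.CC Cfsg.Agent.Helper5.RS Cfsg.Agent.Helper24

section aux

variable {G : Type*} [Group G] [Fintype G]

/-- One direction: a constituent determines the central character on `N`. -/
theorem centralChar_eq_of_constituent (N : Subgroup G) [hN : N.Normal] [Fintype N]
    (χ : IrrCharacter G) (θ : IrrCharacter N)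
    (h : classInner (fun n : N => (χ : G → ℂ) n) (θ : N → ℂ) ≠ 0) (n : N) :
    centralChar (χ : G → ℂ) (n : G) = inducedCentralChar N (θ : N → ℂ) (n : G) := by
  rw [Cfsg.Agent.S0933.inducedCentralChar_eq_act, act]
  have h1 := restrict_scalar_eq N χ θ h (classIndicator (n : G))
    (isClassFunction_classIndicator (n : G))
  have h2 : (∑ t : N, Cfsg.Agent.S0933.fusionIndicator N (n : G) t * (θ : N → ℂ) t) =
      ∑ t : N, classIndicator (n : G) t * (θ : N → ℂ) t := rfl
  rw [h2, h1, ← act_classIndicator, act]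
  congr 1
  symm
  apply sum_subgroup_eq_sum' N (fun t => classIndicator (n : G) t * (χ : G → ℂ) t)
  intro t ht
  have : ¬ IsConj (n : G) t := by
    intro hc
    apply ht
    obtain ⟨c, hc⟩ := isConj_iff.mp hc
    rw [← hc]
    exact hN.conj_mem _ n.2 c
  rw [classIndicator_of_not_isConj this, zero_mul]

/-- Every irreducible character of `N` lies under some irreducible character of `G`. -/
theorem exists_irr_over (N : Subgroup G) [Fintype N] [Fintype (IrrCharacter G)]
    (θ : IrrCharacter N) :
    ∃ ψ : IrrCharacter G, classInner (fun n : N => (ψ : G → ℂ) n) (θ : N → ℂ) ≠ 0 := by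
  by_contra hcon
  push Not at hcon
  have hcf := Cfsg.Agent.Helper8.indFun_isClassFunction N (θ : N → ℂ)
  have hexp := IsClassFunction.eq_sum_classInner hcf
  have hzero : ∀ ψ : IrrCharacter G, classInner (indFun N (θ : N → ℂ)) (ψ : G → ℂ) = 0 := by
    intro ψ
    rw [Cfsg.Agent.Helper8.frobenius_reciprocity N (θ : N → ℂ) _ (isClassFunction_irr ψ),
      ← classInner_conj_symm, hcon ψ, map_zero]
  have h0 : indFun N (θ : N → ℂ) = 0 := by
    rw [hexp]
    apply Finset.sum_eq_zero
    intro ψ _
    rw [hzero ψ, zero_smul]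
  have h1 := Cfsg.Agent.Helper5.indFun_apply_one N (θ : N → ℂ)
  rw [h0, Pi.zero_apply] at h1
  have hidx : (N.index : ℂ) ≠ 0 := by
    have : N.index ≠ 0 := Subgroup.index_ne_zero_of_finite
    exact_mod_cast this
  exact mul_ne_zero hidx (irr_one_ne_zero θ) h1.symm

end aux

theorem result {G : Type*} [Group G] [Fintype G] (N : Subgroup G) [N.Normal] [Fintype N] (χ : Cfsg.IrrCharacter G) (θ : Cfsg.IrrCharacter N) : Cfsg.classInner (fun n : N => (χ : G → ℂ) n) (θ : N → ℂ) ≠ 0 ↔ ∀ n : N, Cfsg.centralChar (χ : G → ℂ) (n : G) = Cfsg.inducedCentralChar N (θ : N → ℂ) (n : G) := by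
  classical
  have : Fintype (IrrCharacter G) := Fintype.ofFinite _
  constructor
  · exact centralChar_eq_of_constituent N χ θ
  · intro hall
    obtain ⟨ψ, hψ⟩ := exists_irr_over N θ
    have hχ1 : (χ : G → ℂ) 1 ≠ 0 := irr_one_ne_zero χ
    have hψ1 : (ψ : G → ℂ) 1 ≠ 0 := irr_one_ne_zero ψ
    have hval : ∀ n : N, (χ : G → ℂ) n = ((χ : G → ℂ) 1 / (ψ : G → ℂ) 1) * (ψ : G → ℂ) n := by
      intro n
      have h1 := hall n
      rw [← centralChar_eq_of_constituent N ψ θ hψ n, centralChar_def, centralChar_def] at h1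
      have hidx : ((Subgroup.centralizer ({(n : G)} : Set G)).index : ℂ) ≠ 0 := by
        have : (Subgroup.centralizer ({(n : G)} : Set G)).index ≠ 0 :=
          Subgroup.index_ne_zero_of_finite
        exact_mod_cast this
      field_simp at h1 ⊢
      linear_combination h1
    intro h0
    apply hψ
    rw [classInner] at h0 ⊢
    have : ∑ g : N, (fun n : N => (χ : G → ℂ) n) g * (starRingEnd ℂ) ((θ : N → ℂ) g) =
        ((χ : G → ℂ) 1 / (ψ : G → ℂ) 1) *
          ∑ g : N, (fun n : N => (ψ : G → ℂ) n) g * (starRingEnd ℂ) ((θ : N → ℂ) g) := by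
      rw [Finset.mul_sum]
      refine Finset.sum_congr rfl fun g _ => ?_
      beta_reduce
      rw [hval g]
      ring
    rw [this] at h0
    have hc : (χ : G → ℂ) 1 / (ψ : G → ℂ) 1 ≠ 0 := div_ne_zero hχ1 hψ1
    have hN0 : (Nat.card N : ℂ)⁻¹ ≠ 0 := by
      apply inv_ne_zero
      exact_mod_cast (Nat.card_pos (α := N)).ne'
    rcases mul_eq_zero.mp h0 with h | h
    · exact absurd h hN0
    · rcases mul_eq_zero.mp h with h' | h'
      · exact absurd h' hc
      · rw [h', mul_zero]

end Cfsg.Agent.S0963
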