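import Mathlib
import Cfsg.Statements.S0939
import Cfsg.Agent.S0954
import Cfsg.Agent.Helper5.BlockSupport
import Cfsg.Agent.Helper5.PPrimeNormal
import Cfsg.Agent.Helper19.Cores

set_option autoImplicit false
open Cfsg

namespace Cfsg.Agent.S0939

open Cfsg.Agent.Helper5.CC Cfsg.Agent.Helper5.Loc Cfsg.Agent.Helper24

/-- Let G be a finite group with a normal p-complement (the largest normal subgroup O_p'(G) of order prime to p has p-power index). Then, relative to any maximal ideal M of the algebraic integers containing p, the principal block of G is the set of irreducible characters χ with χ n = χ 1 for every n ∈ O_p'(G). -/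
theorem result {G : Type*} [Group G] [Finite G] (p : ℕ) [Fact p.Prime] (M : Ideal Cfsg.AlgInt) (hM : Cfsg.IsPModular p M) (hnc : ∃ k : ℕ, (Cfsg.pPrimeCore p G).index = p ^ k) : Cfsg.principalBlock M G = {χ : Cfsg.IrrCharacter G | ∀ n ∈ Cfsg.pPrimeCore p G, (χ : G → ℂ) n = (χ : G → ℂ) 1} := by
  classical
  have : Fintype G := Fintype.ofFinite G
  have : Fintype (IrrCharacter G) := Fintype.ofFinite _
  have : Fintype (Cfsg.pPrimeCore p G) := Fintype.ofFinite _
  have hMp := isPrime_of_isPModular hM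
  have hN : (Cfsg.pPrimeCore p G).Normal := Subgroup.sSup_normal _ (fun _ h => h.1)
  have hcop : (Nat.card (Cfsg.pPrimeCore p G)).Coprime p := Cfsg.Agent.Helper19.pPrimeCore_coprime p
  have hpN : ¬ p ∣ Nat.card (Cfsg.pPrimeCore p G) := by
    intro hdvd
    have h1 : p ∣ Nat.gcd (Nat.card (Cfsg.pPrimeCore p G)) p := Nat.dvd_gcd hdvd dvd_rfl
    rw [hcop] at h1
    exact (Fact.out : p.Prime).one_lt.ne' (Nat.dvd_one.mp h1)
  have hself : classInner (fun n : Cfsg.pPrimeCore p G => (trivIrr G : G → ℂ) n)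
      (trivIrr (Cfsg.pPrimeCore p G) : Cfsg.pPrimeCore p G → ℂ) ≠ 0 := by
    have h1 := classInner_irr_self (trivIrr (Cfsg.pPrimeCore p G))
    have h2 : (fun n : Cfsg.pPrimeCore p G => (trivIrr G : G → ℂ) n) =
        (trivIrr (Cfsg.pPrimeCore p G) : Cfsg.pPrimeCore p G → ℂ) := rfl
    rw [h2, h1]
    exact one_ne_zero
  ext χ
  show SameBlock M (trivIrr G : G → ℂ) (χ : G → ℂ) ↔ _
  rw [Cfsg.Agent.S0954.result p M hM (Cfsg.pPrimeCore p G) hpN hnc (trivIrr G) χ]
  constructor
  · rintro ⟨θ, h1, h2⟩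
    have hθ : θ = trivIrr (Cfsg.pPrimeCore p G) := by
      by_contra hne
      apply h1
      have h3 : (fun n : Cfsg.pPrimeCore p G => (trivIrr G : G → ℂ) n) =
        (trivIrr (Cfsg.pPrimeCore p G) : Cfsg.pPrimeCore p G → ℂ) := rfl
      rw [h3]
      exact classInner_irr_ne (Ne.symm hne)
    rw [hθ] at h2
    intro n hn
    exact eq_one_of_trivial_constituent (Cfsg.pPrimeCore p G) χ h2 n hn
  · intro h
    refine ⟨trivIrr (Cfsg.pPrimeCore p G), hself, ?_⟩
    unfold classInner
    have h1 : ∑ g : Cfsg.pPrimeCore p G, (χ : G → ℂ) g *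
        (starRingEnd ℂ) ((trivIrr (Cfsg.pPrimeCore p G) : Cfsg.pPrimeCore p G → ℂ) g) =
        (Nat.card (Cfsg.pPrimeCore p G) : ℂ) * (χ : G → ℂ) 1 := by
      rw [Finset.sum_congr rfl (fun g _ => by
        rw [h g g.2, trivIrr_apply, map_one, mul_one])]
      rw [Finset.sum_const, Finset.card_univ, nsmul_eq_mul, Nat.card_eq_fintype_card]
    rw [h1]
    have hcard : (Nat.card (Cfsg.pPrimeCore p G) : ℂ) ≠ 0 := by
      have : 0 < Nat.card (Cfsg.pPrimeCore p G) := Nat.card_pos
      exact_mod_cast this.ne'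
    rw [← mul_assoc, inv_mul_cancel₀ hcard, one_mul]
    exact irr_one_ne_zero χ

end Cfsg.Agent.S0939
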