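import Mathlib
import Cfsg.Statements.S0947
import Cfsg.Agent.Helper5.BrauerFormula
import Cfsg.Agent.Helper5.KerDegrees
import Cfsg.Agent.S0939

set_option autoImplicit false
open Cfsg

namespace Cfsg.Agent.S0947

open Cfsg.Agent.Helper5.CC Cfsg.Agent.Helper5.Loc Cfsg.Agent.Helper24 Cfsg.Agent.Helper5

/-- Let z ≠ 1 be a p-element of the finite group G with centralizer H, and fix a maximal ideal M of the algebraic integers containing p. (i) For every y ∈ H of order prime to p, the sum over ζ in the principal block of G of |ζ (z * y)|² equals the sum over χ in the principal block of H of |χ y|². (ii) If moreover H has a normal p-complement (its largest normal subgroup of order prime to p has p-power index), that common value is the largest power of p dividing the order of H. -/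
theorem result {G : Type*} [Group G] [Finite G] (p : ℕ) [Fact p.Prime] (M : Ideal Cfsg.AlgInt) (hM : Cfsg.IsPModular p M) (z : G) (hz : ∃ k : ℕ, orderOf z = p ^ k) (hz1 : z ≠ 1) (y : Subgroup.centralizer ({z} : Set G)) (hy : ¬ p ∣ orderOf y) : (∑ᶠ ζ ∈ Cfsg.principalBlock M G, ‖(ζ : G → ℂ) (z * (y : G))‖ ^ 2 = ∑ᶠ χ ∈ Cfsg.principalBlock M (Subgroup.centralizer ({z} : Set G)), ‖(χ : Subgroup.centralizer ({z} : Set G) → ℂ) y‖ ^ 2) ∧ ((∃ k : ℕ, (Cfsg.pPrimeCore p (Subgroup.centralizer ({z} : Set G))).index = p ^ k) → ∑ᶠ ζ ∈ Cfsg.principalBlock M G, ‖(ζ : G → ℂ) (z * (y : G))‖ ^ 2 = ((p ^ (Nat.card (Subgroup.centralizer ({z} : Set G))).factorization p : ℕ) : ℝ)) := by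
  classical
  have hMp := isPrime_of_isPModular hM
  have : Fintype G := Fintype.ofFinite G
  have : Fintype (Subgroup.centralizer ({z} : Set G)) := Fintype.ofFinite _
  have : Fintype (IrrCharacter G) := Fintype.ofFinite _
  have : Fintype (IrrCharacter (Subgroup.centralizer ({z} : Set G))) := Fintype.ofFinite _
  have hzC : z ∈ Subgroup.centralizer ({z} : Set G) := by
    rw [Subgroup.mem_centralizer_iff]
    intro h hh
    rw [Set.mem_singleton_iff] at hh
    rw [hh]
  have hcomm : ∀ c : Subgroup.centralizer ({z} : Set G), z * (c : G) = (c : G) * z := by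
    intro c
    exact Subgroup.mem_centralizer_iff.mp c.2 z (Set.mem_singleton z)
  have key := brauer_formula hM z hz (Subgroup.centralizer ({z} : Set G)) hzC hcomm le_rfl
    (principalBlock M G) isPBlock_principalBlock y hy
  -- the blocks of the centralizer inducing the principal block
  obtain ⟨k0, hk0⟩ := hz
  have hP : IsPGroup p (Subgroup.zpowers z) := by
    apply IsPGroup.of_card (n := k0)
    rw [Nat.card_zpowers, hk0]
  have hPH : Subgroup.zpowers z ≤ Subgroup.centralizer ({z} : Set G) := by
    rw [Subgroup.zpowers_le]; exact hzC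
  have hCH : Subgroup.centralizer ((Subgroup.zpowers z : Subgroup G) : Set G) ≤
      Subgroup.centralizer ({z} : Set G) := by
    apply Subgroup.centralizer_le
    rw [Set.singleton_subset_iff]
    exact Subgroup.mem_zpowers z
  have hHN : Subgroup.centralizer ({z} : Set G) ≤
      Subgroup.normalizer ((Subgroup.zpowers z : Subgroup G) : Set G) := by
    refine le_trans ?_ (Subgroup.centralizer_le_normalizer _)
    intro c hc
    rw [Subgroup.mem_centralizer_iff]
    intro q hq
    obtain ⟨i, rfl⟩ := Subgroup.mem_zpowers_iff.mp hq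
    have h1 : Commute z c := hcomm ⟨c, hc⟩
    exact (h1.zpow_left i).eq
  have hset : inducingSet M (Subgroup.centralizer ({z} : Set G)) (principalBlock M G) =
      principalBlock M (Subgroup.centralizer ({z} : Set G)) := by
    ext ψ
    have hdef : InducedBlockDefined M (Subgroup.centralizer ({z} : Set G))
        (blockOf M (ψ : Subgroup.centralizer ({z} : Set G) → ℂ)) :=
      Cfsg.Agent.S0919.result p M hM (Subgroup.zpowers z) _ hP hPH hCH hHN _ (isPBlock_blockOf ψ)
    have h3 := third_main hM (Subgroup.centralizer ({z} : Set G)) _ hdef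
    show IsInducedBlock M (Subgroup.centralizer ({z} : Set G))
      (blockOf M (ψ : Subgroup.centralizer ({z} : Set G) → ℂ)) (principalBlock M G) ↔
      ψ ∈ principalBlock M (Subgroup.centralizer ({z} : Set G))
    rw [h3]
    constructor
    · intro h; rw [← h]; exact mem_blockOf_self hMp ψ
    · intro h; exact (IsPBlock_eq_blockOf hMp isPBlock_principalBlock h).symm
  rw [hset] at key
  have hnorm : ∀ w : ℂ, ((‖w‖ ^ 2 : ℝ) : ℂ) = w * (starRingEnd ℂ) w := by
    intro w
    rw [Complex.mul_conj, Complex.normSq_eq_norm_sq]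
  have hreal : ∑ᶠ ζ ∈ Cfsg.principalBlock M G, ‖(ζ : G → ℂ) (z * (y : G))‖ ^ 2 =
      ∑ᶠ χ ∈ Cfsg.principalBlock M (Subgroup.centralizer ({z} : Set G)),
        ‖(χ : Subgroup.centralizer ({z} : Set G) → ℂ) y‖ ^ 2 := by
    apply Complex.ofReal_injective
    rw [finsum_mem_eq_sum_ite', finsum_mem_eq_sum_ite']
    rw [finsum_mem_eq_sum_ite, finsum_mem_eq_sum_ite] at key
    rw [Complex.ofReal_sum, Complex.ofReal_sum]
    refine Eq.trans ?_ (Eq.trans key ?_)
    · refine Finset.sum_congr rfl fun ζ _ => ?_
      split_ifs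
      · exact hnorm _
      · exact Complex.ofReal_zero
    · refine Finset.sum_congr rfl fun χ _ => ?_
      split_ifs
      · exact (hnorm _).symm
      · exact Complex.ofReal_zero.symm
  refine ⟨hreal, ?_⟩
  rintro ⟨k, hk⟩
  rw [hreal]
  have hKn : (Cfsg.pPrimeCore p (Subgroup.centralizer ({z} : Set G))).Normal :=
    Subgroup.sSup_normal _ (fun _ h => h.1)
  have : Fintype (Cfsg.pPrimeCore p (Subgroup.centralizer ({z} : Set G))) := Fintype.ofFinite _
  have hpb := Cfsg.Agent.S0939.result (G := Subgroup.centralizer ({z} : Set G)) p M hM ⟨k, hk⟩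
  have hyK : y ∈ Cfsg.pPrimeCore p (Subgroup.centralizer ({z} : Set G)) :=
    mem_of_regular_of_index_pow _ ⟨k, hk⟩ y hy
  apply Complex.ofReal_injective
  rw [finsum_mem_eq_sum_ite', Complex.ofReal_sum]
  have hsum := sum_sq_degree_of_ker (G := Subgroup.centralizer ({z} : Set G))
    (Cfsg.pPrimeCore p (Subgroup.centralizer ({z} : Set G)))
  have hterm : ∀ χ : IrrCharacter (Subgroup.centralizer ({z} : Set G)),
      ((if χ ∈ principalBlock M (Subgroup.centralizer ({z} : Set G)) then
        ‖(χ : Subgroup.centralizer ({z} : Set G) → ℂ) y‖ ^ 2 else 0 : ℝ) : ℂ) =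
      if (∀ n ∈ Cfsg.pPrimeCore p (Subgroup.centralizer ({z} : Set G)),
        (χ : Subgroup.centralizer ({z} : Set G) → ℂ) n =
          (χ : Subgroup.centralizer ({z} : Set G) → ℂ) 1) then
        (χ : Subgroup.centralizer ({z} : Set G) → ℂ) 1 *
          (χ : Subgroup.centralizer ({z} : Set G) → ℂ) 1 else 0 := by
    intro χ
    have hone : (starRingEnd ℂ) ((χ : Subgroup.centralizer ({z} : Set G) → ℂ) 1) =
        (χ : Subgroup.centralizer ({z} : Set G) → ℂ) 1 := by
      rw [← Cfsg.Agent.Helper5.irr_inv, inv_one]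
    by_cases hχ : χ ∈ principalBlock M (Subgroup.centralizer ({z} : Set G))
    · have hχ' : ∀ n ∈ Cfsg.pPrimeCore p (Subgroup.centralizer ({z} : Set G)),
          (χ : Subgroup.centralizer ({z} : Set G) → ℂ) n =
            (χ : Subgroup.centralizer ({z} : Set G) → ℂ) 1 := by
        rw [hpb] at hχ
        exact hχ
      rw [if_pos hχ, if_pos hχ', hnorm, hχ' y hyK, hone]
    · have hχ' : ¬ ∀ n ∈ Cfsg.pPrimeCore p (Subgroup.centralizer ({z} : Set G)),
          (χ : Subgroup.centralizer ({z} : Set G) → ℂ) n =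
            (χ : Subgroup.centralizer ({z} : Set G) → ℂ) 1 := by
        intro h
        apply hχ
        rw [hpb]
        exact h
      rw [if_neg hχ, if_neg hχ', Complex.ofReal_zero]
  rw [Finset.sum_congr rfl (fun χ _ => hterm χ), hsum, hk]
  -- the p-part of the order
  have hcop : (Nat.card (Cfsg.pPrimeCore p (Subgroup.centralizer ({z} : Set G)))).Coprime p :=
    Cfsg.Agent.Helper19.pPrimeCore_coprime p
  have hcard : Nat.card (Subgroup.centralizer ({z} : Set G)) =
      Nat.card (Cfsg.pPrimeCore p (Subgroup.centralizer ({z} : Set G))) * p ^ k := by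
    rw [← hk, Subgroup.card_mul_index]
  have hfac : (Nat.card (Subgroup.centralizer ({z} : Set G))).factorization p = k := by
    rw [hcard, Nat.factorization_mul (Nat.card_pos.ne') (pow_ne_zero _ (Fact.out : p.Prime).pos.ne'),
      Finsupp.add_apply, Nat.factorization_eq_zero_of_not_dvd, zero_add,
      Nat.Prime.factorization_pow Fact.out, Finsupp.single_eq_same]
    intro hd
    have := Nat.Coprime.eq_one_of_dvd hcop.symm hd
    exact (Fact.out : p.Prime).one_lt.ne' this
  rw [hfac]
  push_cast
  rfl

end Cfsg.Agent.S0947
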