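import Cfsg.Statements.S0950
import Mathlib
import Cfsg.Agent.S0071
import Cfsg.Agent.Helper9.Q8Sylow

set_option autoImplicit false
open Cfsg

namespace Cfsg.Agent.S0950

/-- Let S be a Sylow 2-subgroup of the finite group G that is isomorphic to the quaternion group of order 8, and suppose S has no normal complement in G. Then any two subgroups of order 4 of S are conjugate by an element of the normalizer of S. -/
theorem result {G : Type*} [Group G] [Finite G] (S : Sylow 2 G) (e : (S : Subgroup G) ≃* QuaternionGroup 2) (hnc : ∀ N : Subgroup G, N.Normal → ¬ Subgroup.IsComplement' N (S : Subgroup G)) (A B : Subgroup G) (hA : A ≤ S) (hB : B ≤ S) (hA4 : Nat.card A = 4) (hB4 : Nat.card B = 4) : ∃ n ∈ Subgroup.normalizer ((S : Subgroup G) : Set G), B = A.map (MulAut.conj n).toMonoidHom := by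
  classical
  have : Fact (Nat.Prime 2) := ⟨Nat.prime_two⟩
  have hS8 := Cfsg.Agent.Helper9.q8sub_card (S : Subgroup G) e
  -- Frobenius: some subgroup of `S` has an odd-order element normalizing but not centralizing it
  have hF : ¬ ∀ Q : Subgroup G, Q ≤ (S : Subgroup G) → ∀ g ∈ Subgroup.normalizer (Q : Set G),
      Nat.Coprime (orderOf g) 2 → g ∈ Subgroup.centralizer (Q : Set G) := by
    intro h
    obtain ⟨N, hN, hc⟩ := (Cfsg.Agent.S0071.result (p := 2) S).mpr h
    exact hnc N hN hc
  push Not at hF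
  obtain ⟨Q, hQS, g, hgN, hgodd, hgC⟩ := hF
  have hQeq : Q = (S : Subgroup G) := by
    by_contra hne
    have hcyc := Cfsg.Agent.Helper9.q8sub_isCyclic_of_ne (S : Subgroup G) e Q hQS hne
    have hQp : IsPGroup 2 Q := S.isPGroup'.to_le hQS
    exact hgC (Cfsg.Agent.Helper9.mem_centralizer_of_mem_normalizer_cyclic_two Q hcyc hQp g hgN hgodd)
  subst hQeq
  -- conjugation by normalizing elements preserves subgroups of order 4 of `S`
  have hconj : ∀ (n : G), n ∈ Subgroup.normalizer ((S : Subgroup G) : Set G) →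
      ∀ C : Subgroup G, C ≤ (S : Subgroup G) → Nat.card C = 4 →
        C.map (MulAut.conj n).toMonoidHom ≤ (S : Subgroup G) ∧
          Nat.card (C.map (MulAut.conj n).toMonoidHom) = 4 := by
    intro n hn C hC hC4
    refine ⟨?_, ?_⟩
    · rintro _ ⟨c, hc, rfl⟩
      exact (Subgroup.mem_normalizer_iff.mp hn c).mp (hC hc)
    · rw [Subgroup.card_map_of_injective (MulAut.conj n).injective, hC4]
  -- an odd-order element of `N(S)` not centralizing `S` moves every subgroup of order 4
  have hmove : ∀ (n : G), n ∈ Subgroup.normalizer ((S : Subgroup G) : Set G) →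
      Nat.Coprime (orderOf n) 2 → n ∉ Subgroup.centralizer ((S : Subgroup G) : Set G) →
      ∀ C : Subgroup G, C ≤ (S : Subgroup G) → Nat.card C = 4 →
        C.map (MulAut.conj n).toMonoidHom ≠ C := by
    intro n hn hnodd hnC C hC hC4 heq
    exact hnC (Cfsg.Agent.Helper9.q8sub_mem_centralizer (S : Subgroup G) e C hC hC4 n hn
      (Cfsg.Agent.Helper9.mem_normalizer_of_map_conj_eq C n heq) hnodd)
  obtain ⟨hA₁S, hA₁4⟩ := hconj g hgN A hA hA4
  obtain ⟨hA₂S, hA₂4⟩ := hconj g hgN _ hA₁S hA₁4
  have h01 := hmove g hgN hgodd hgC A hA hA4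
  have h12 := hmove g hgN hgodd hgC _ hA₁S hA₁4
  have hmm : (A.map (MulAut.conj g).toMonoidHom).map (MulAut.conj g).toMonoidHom
      = A.map (MulAut.conj (g * g)).toMonoidHom := by
    rw [Subgroup.map_map]
    congr 1
    ext x
    simp [mul_assoc]
  have hggN : g * g ∈ Subgroup.normalizer ((S : Subgroup G) : Set G) := mul_mem hgN hgN
  have hggodd : Nat.Coprime (orderOf (g * g)) 2 := by
    have hd : orderOf (g * g) ∣ orderOf g := by
      rw [← sq]; exact orderOf_pow_dvd 2
    exact Nat.Coprime.coprime_dvd_left hd hgodd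
  have hggC : g * g ∉ Subgroup.centralizer ((S : Subgroup G) : Set G) := by
    intro h
    apply hgC
    have hoddg : Odd (orderOf g) := by
      rcases Nat.even_or_odd (orderOf g) with he | ho
      · exfalso
        have h2 : 2 ∣ orderOf g := he.two_dvd
        have := Nat.Coprime.eq_one_of_dvd (Nat.Coprime.symm hgodd) h2
        omega
      · exact ho
    obtain ⟨m, hm⟩ := hoddg
    have hg : g = (g * g) ^ (m + 1) := by
      rw [← sq, ← pow_mul]
      have : 2 * (m + 1) = orderOf g + 1 := by omega
      rw [this, pow_succ, pow_orderOf_eq_one, one_mul]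
    rw [hg]
    exact pow_mem h _
  have h02 := hmove (g * g) hggN hggodd hggC A hA hA4
  rw [← hmm] at h02
  rcases Cfsg.Agent.Helper9.q8sub_eq_of_three (S : Subgroup G) e A _ _ B hA hA₁S hA₂S hB hA4 hA₁4
    hA₂4 hB4 h01 h02 h12 with h | h | h
  · refine ⟨1, one_mem _, ?_⟩
    rw [h]
    ext x
    simp
  · exact ⟨g, hgN, h⟩
  · exact ⟨g * g, hggN, h.trans hmm⟩

end Cfsg.Agent.S0950
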