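import Mathlib
import Cfsg.Statements.S0942
import Cfsg.Agent.Helper5.PrincipalInducing
import Cfsg.Agent.Helper23.PrincipalBlock

set_option autoImplicit false
open Cfsg

namespace Cfsg.Agent.S0942

open Cfsg.Agent.Helper5.CC Cfsg.Agent.Helper5.Loc Cfsg.Agent.Helper24 Cfsg.Agent.Helper5

/-- Let u be a p-element of the finite group G, let v lie in the largest normal subgroup of C_G(u) of order prime to p, and let χ belong to the principal block (relative to a maximal ideal M of the algebraic integers containing p). Then χ (u * v) = χ u. -/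
theorem result {G : Type*} [Group G] [Finite G] (p : ℕ) [Fact p.Prime] (M : Ideal Cfsg.AlgInt) (hM : Cfsg.IsPModular p M) (u : G) (hu : ∃ k : ℕ, orderOf u = p ^ k) (v : G) (hv : v ∈ Cfsg.centralizerPPrimeCore p u) (χ : Cfsg.IrrCharacter G) (hχ : χ ∈ Cfsg.principalBlock M G) : (χ : G → ℂ) (u * v) = (χ : G → ℂ) u := by
  classical
  have hMp := isPrime_of_isPModular hM
  have : Fintype G := Fintype.ofFinite G
  have : Fintype (Subgroup.centralizer ({u} : Set G)) := Fintype.ofFinite _
  have : Fintype (IrrCharacter G) := Fintype.ofFinite _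
  have : Fintype (IrrCharacter (Subgroup.centralizer ({u} : Set G))) := Fintype.ofFinite _
  have huC : u ∈ Subgroup.centralizer ({u} : Set G) := by
    rw [Subgroup.mem_centralizer_iff]
    intro h hh
    rw [Set.mem_singleton_iff] at hh
    rw [hh]
  have hcomm : ∀ c : Subgroup.centralizer ({u} : Set G), u * (c : G) = (c : G) * u := by
    intro c
    exact Subgroup.mem_centralizer_iff.mp c.2 u (Set.mem_singleton u)
  -- v as an element of the p'-core of the centralizer
  rw [centralizerPPrimeCore, Subgroup.mem_map] at hv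
  obtain ⟨v', hv', rfl⟩ := hv
  have hcop : (Nat.card (pPrimeCore p (Subgroup.centralizer ({u} : Set G)))).Coprime p :=
    Cfsg.Agent.Helper19.pPrimeCore_coprime p
  have hv'reg : ¬ p ∣ orderOf v' := by
    intro hd
    have h1 : orderOf v' ∣ Nat.card (pPrimeCore p (Subgroup.centralizer ({u} : Set G))) := by
      have := orderOf_dvd_natCard (⟨v', hv'⟩ : pPrimeCore p (Subgroup.centralizer ({u} : Set G)))
      rwa [Subgroup.orderOf_mk] at this
    have h2 := Nat.Coprime.eq_one_of_dvd hcop.symm (dvd_trans hd h1)
    exact (Fact.out : p.Prime).one_lt.ne' h2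
  have h1reg : ¬ p ∣ orderOf (1 : Subgroup.centralizer ({u} : Set G)) := by
    rw [orderOf_one]
    exact (Fact.out : p.Prime).one_lt.ne' ∘ Nat.dvd_one.mp
  have hset := inducingSet_principalBlock hM u hu (Subgroup.centralizer ({u} : Set G)) huC hcomm
    le_rfl
  have e1 := sum_blockCoeff_inducingSet hM u hu (Subgroup.centralizer ({u} : Set G)) huC hcomm
    le_rfl (principalBlock M G) isPBlock_principalBlock v' hv'reg χ
  have e2 := sum_blockCoeff_inducingSet hM u hu (Subgroup.centralizer ({u} : Set G)) huC hcomm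
    le_rfl (principalBlock M G) isPBlock_principalBlock 1 h1reg χ
  rw [if_pos hχ, hset] at e1 e2
  rw [Subgroup.coe_one, mul_one] at e2
  -- both are block parts of Θ(c) = χ(u c)
  have hΘ : IsClassFunction (Subgroup.centralizer ({u} : Set G))
      (fun c : Subgroup.centralizer ({u} : Set G) => (χ : G → ℂ) (u * (c : G))) := by
    intro c h
    show (χ : G → ℂ) (u * ((h * c * h⁻¹ : Subgroup.centralizer ({u} : Set G)) : G)) =
      (χ : G → ℂ) (u * (c : G))
    rw [← isClassFunction_irr χ (u * (c : G)) (h : G)]
    simp only [Subgroup.coe_mul, Subgroup.coe_inv]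
    rw [← mul_assoc, ← mul_assoc, hcomm h]
    group
  have b1 := blockPart_eq_sum_blockCoeff (principalBlock M (Subgroup.centralizer ({u} : Set G)))
    hΘ v'
  have b2 := blockPart_eq_sum_blockCoeff (principalBlock M (Subgroup.centralizer ({u} : Set G)))
    hΘ 1
  have hterm : ∀ (k : Subgroup.centralizer ({u} : Set G)) (y : Subgroup.centralizer ({u} : Set G)),
      (χ : G → ℂ) ((k : G) * (u * (y : G))) =
      (χ : G → ℂ) (u * ((k * y : Subgroup.centralizer ({u} : Set G)) : G)) := by
    intro k y
    rw [Subgroup.coe_mul, ← mul_assoc, ← mul_assoc, hcomm k]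
  have hb1 : blockPart (principalBlock M (Subgroup.centralizer ({u} : Set G)))
      (fun c : Subgroup.centralizer ({u} : Set G) => (χ : G → ℂ) (u * (c : G))) v' =
      (χ : G → ℂ) (u * (v' : G)) := by
    rw [b1, ← e1]
    refine Finset.sum_congr rfl fun k _ => ?_
    rw [hterm]
  have hb2 : blockPart (principalBlock M (Subgroup.centralizer ({u} : Set G)))
      (fun c : Subgroup.centralizer ({u} : Set G) => (χ : G → ℂ) (u * (c : G))) 1 =
      (χ : G → ℂ) u := by
    rw [b2, ← e2]
    refine Finset.sum_congr rfl fun k _ => ?_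
    have := hterm k 1
    rw [Subgroup.coe_one, mul_one] at this
    rw [this]
  show (χ : G → ℂ) (u * ((Subgroup.centralizer ({u} : Set G)).subtype v')) = (χ : G → ℂ) u
  rw [Subgroup.coe_subtype, ← hb1, ← hb2]
  simp only [blockPart]
  refine finsum_congr fun ψ => ?_
  refine finsum_congr fun hψ => ?_
  rw [Cfsg.Agent.Helper23.PB.eq_one_of_mem_principalBlock hM ψ hψ v' hv']

end Cfsg.Agent.S0942
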