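import Mathlib
import Cfsg.Statements.S0943
import Cfsg.Agent.Helper5.Central

set_option autoImplicit false
open Cfsg

namespace Cfsg.Agent.S0943

open Cfsg.Agent.Helper5 Module

theorem result {G : Type*} [Group G] [Finite G] (χ : Cfsg.IrrCharacter G) (u v : G) (hc : ∀ x y : G, IsConj u x → IsConj v y → (χ : G → ℂ) (x * y) = (χ : G → ℂ) (u * v)) : (χ : G → ℂ) u * (χ : G → ℂ) v = (χ : G → ℂ) 1 * (χ : G → ℂ) (u * v) := by
  classical
  have : Fintype G := Fintype.ofFinite G
  obtain ⟨f, m, ρ, hirr, rfl⟩ := χ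
  have := hirr
  show ρ.character u * ρ.character v = ρ.character 1 * ρ.character (u * v)
  have hc' : ∀ x y : G, IsConj u x → IsConj v y → ρ.character (x * y) = ρ.character (u * v) := hc
  set d : ℂ := (finrank ℂ (Fin m → ℂ) : ℂ) with hd
  have hd0 : d ≠ 0 := by
    rw [hd]; exact_mod_cast (finrank_pos_of_isIrreducible ρ).ne'
  set n : ℂ := (Fintype.card G : ℂ) with hn
  have hn0 : n ≠ 0 := by
    rw [hn]; exact_mod_cast Fintype.card_ne_zero
  -- trace of the product, computed in two ways
  have h1 : LinearMap.trace ℂ _ (conjSum ρ u * conjSum ρ v) =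
      (n * ρ.character u / d) * (n * ρ.character v / d) * d := by
    rw [conjSum_eq_smul ρ u, conjSum_eq_smul ρ v, smul_mul_smul_comm, map_smul]
    have : (LinearMap.id : (Fin m → ℂ) →ₗ[ℂ] (Fin m → ℂ)) * LinearMap.id = LinearMap.id := rfl
    rw [this, LinearMap.trace_id, smul_eq_mul]
  have h2 : LinearMap.trace ℂ _ (conjSum ρ u * conjSum ρ v) = n * n * ρ.character (u * v) := by
    unfold conjSum
    rw [Finset.sum_mul_sum, map_sum]
    have : ∀ a : G, LinearMap.trace ℂ _ (∑ b : G, ρ (a * u * a⁻¹) * ρ (b * v * b⁻¹)) =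
        n * ρ.character (u * v) := by
      intro a
      rw [map_sum]
      have : ∀ b : G, LinearMap.trace ℂ _ (ρ (a * u * a⁻¹) * ρ (b * v * b⁻¹)) = ρ.character (u * v) := by
        intro b
        rw [← map_mul]
        exact hc' _ _ (isConj_iff.mpr ⟨a, rfl⟩) (isConj_iff.mpr ⟨b, rfl⟩)
      rw [Finset.sum_congr rfl (fun b _ => this b), Finset.sum_const, Finset.card_univ, nsmul_eq_mul]
    rw [Finset.sum_congr rfl (fun a _ => this a), Finset.sum_const, Finset.card_univ, nsmul_eq_mul,
      mul_assoc]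
  rw [h1] at h2
  have h3 : ρ.character 1 = d := by rw [Representation.char_one]
  rw [h3]
  field_simp at h2
  exact h2

end Cfsg.Agent.S0943
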