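import Mathlib
import Cfsg.Statements.S1181
import Cfsg.Agent.Helper6.Isolated

set_option autoImplicit false
open Cfsg

namespace Cfsg.Agent.S1181

open Cfsg.Agent.Helper6

/-- Let z be an isolated involution of the finite group G and N a normal subgroup with z ∉ N. Then the centralizer of zN in G/N is the image of C_G(z), and zN is an isolated involution of G/N. -/
theorem result {G : Type*} [Group G] [Finite G] (z : G) (hz : Cfsg.IsIsolatedInvolution z) (N : Subgroup G) [N.Normal] (hzN : z ∉ N) : Subgroup.centralizer ({(QuotientGroup.mk z : G ⧸ N)} : Set (G ⧸ N)) = (Subgroup.centralizer ({z} : Set G)).map (QuotientGroup.mk' N) ∧ Cfsg.IsIsolatedInvolution (QuotientGroup.mk z : G ⧸ N) := by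
  have hzz := isolated_mul_self hz
  have hzi := inv_eq_self_of_mul_self hzz
  have hqq : (QuotientGroup.mk z : G ⧸ N) * QuotientGroup.mk z = 1 := by
    rw [← QuotientGroup.mk_mul, hzz]; rfl
  have hqi : (QuotientGroup.mk z : G ⧸ N)⁻¹ = QuotientGroup.mk z := inv_eq_self_of_mul_self hqq
  constructor
  · ext q
    constructor
    · intro hq
      rw [Subgroup.mem_centralizer_singleton_iff] at hq
      induction q using QuotientGroup.induction_on with
      | H g =>
        obtain ⟨n, hn⟩ := isolated_exists_pow_conj hz g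
        obtain ⟨z', hz'⟩ : ∃ z', z' = g * z * g⁻¹ := ⟨_, rfl⟩
        rw [← hz'] at hn
        obtain ⟨r, hr⟩ : ∃ r, r = z' * z := ⟨_, rfl⟩
        rw [← hr] at hn
        have hrN : r ∈ N := by
          rw [← QuotientGroup.eq_one_iff, hr, hz']
          simp only [QuotientGroup.mk_mul, QuotientGroup.mk_inv]
          rw [hq, mul_inv_cancel_right, hqq]
        refine ⟨r ^ n * g, ?_, ?_⟩
        · rw [SetLike.mem_coe, Subgroup.mem_centralizer_singleton_iff]
          have h1 : r ^ n * g * z = r ^ n * (g * z * g⁻¹) * g := by group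
          rw [h1, ← hz', ← hn]; group
        · show (QuotientGroup.mk (r ^ n * g) : G ⧸ N) = QuotientGroup.mk g
          rw [QuotientGroup.mk_mul, (QuotientGroup.eq_one_iff (r ^ n)).2 (N.pow_mem hrN n), one_mul]
    · rintro ⟨c, hc, rfl⟩
      rw [SetLike.mem_coe, Subgroup.mem_centralizer_singleton_iff] at hc
      rw [Subgroup.mem_centralizer_singleton_iff]
      show (QuotientGroup.mk c : G ⧸ N) * QuotientGroup.mk z = QuotientGroup.mk z * QuotientGroup.mk c
      rw [← QuotientGroup.mk_mul, ← QuotientGroup.mk_mul, hc]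
  · refine ⟨?_, ?_⟩
    · apply orderOf_eq_prime
      · rw [pow_two]; exact hqq
      · intro h
        exact hzN ((QuotientGroup.eq_one_iff z).1 h)
    · intro q hcomm
      induction q using QuotientGroup.induction_on with
      | H g =>
        obtain ⟨j, hj⟩ := isolated_conj_mul_odd hz g
        obtain ⟨z', hz'⟩ : ∃ z', z' = g * z * g⁻¹ := ⟨_, rfl⟩
        have hz'z' : z' * z' = 1 := hz' ▸ conj_mul_self hzz g
        have e : (QuotientGroup.mk g : G ⧸ N) * QuotientGroup.mk z * (QuotientGroup.mk g)⁻¹
            = QuotientGroup.mk z' := by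
          rw [hz']; simp only [QuotientGroup.mk_mul, QuotientGroup.mk_inv]
        rw [e] at hcomm ⊢
        rw [← hz'] at hj
        have hrpow : (z' * z) ^ (2 * j + 1) = 1 := by rw [← hj]; exact pow_orderOf_eq_one _
        have hq'q' : (QuotientGroup.mk z' : G ⧸ N) * QuotientGroup.mk z' = 1 := by
          rw [← QuotientGroup.mk_mul, hz'z']; rfl
        have h1 : ((QuotientGroup.mk z' : G ⧸ N) * QuotientGroup.mk z) ^ 2 = 1 := by
          rw [pow_two, mul_assoc, ← mul_assoc (QuotientGroup.mk z), hcomm.eq, mul_assoc, hqq,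
            mul_one, hq'q']
        have h2 : ((QuotientGroup.mk z' : G ⧸ N) * QuotientGroup.mk z) ^ (2 * j + 1) = 1 := by
          rw [← QuotientGroup.mk_mul, ← QuotientGroup.mk_pow, hrpow]; rfl
        rw [pow_succ, pow_mul, h1, one_pow, one_mul] at h2
        have := eq_inv_of_mul_eq_one_left h2
        rw [this, hqi]

end Cfsg.Agent.S1181
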