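import Cfsg.Statements.S3794
import Cfsg.Agent.Lead.Fpf4e

set_option autoImplicit false
open Cfsg
open scoped commutatorElement

namespace Cfsg.Agent.S3794

open Cfsg.Agent.Lead.Fpf4 in
/-- ambient-to-abstract: in a finite solvable `X` with normal `N` and `s` of order dividing 4 acting fpf on `N`,
all commutators of `N` lie in the Fitting subgroup of `N`. -/
theorem comm_mem_fitting_aux {X : Type*} [Group X] [Finite X] (hX : Group.IsSolvable X)
    (N : Subgroup X) [hN : N.Normal] (s : X) (hs4 : s ^ 4 = 1)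
    (hfpf : ∀ n ∈ N, s * n * s⁻¹ = n → n = 1) :
    ∀ a ∈ N, ∀ b ∈ N, a * b * a⁻¹ * b⁻¹ ∈ (fittingSubgroup ↥N).map N.subtype := by
  set Ft := (fittingSubgroup ↥N).map N.subtype with hFt
  haveI hFtn : Ft.Normal := ConjAct.normal_of_characteristic_of_normal
  have hsq := comm_sq_mem_fitting hX N s hs4 hfpf
  have hsN : ∀ n ∈ N, s * n * s⁻¹ ∈ N := fun n hn => hN.conj_mem n hn s
  have hsN' := conj_inv_mem_of_conj_mem hsN
  set τ := conjN N s hsN hsN' with hτ
  have hτfpf : ∀ z : ↥N, τ z = z → z = 1 := by
    intro z hz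
    have h1 : s * (z : X) * s⁻¹ = z := congrArg Subtype.val hz
    exact Subtype.ext (hfpf z z.2 h1)
  set π := QuotientGroup.mk' Ft with hπ
  -- s² acts trivially mod Ft
  have h2 : ∀ x ∈ N, π (s * s * x * (s * s)⁻¹) = π x := by
    intro x hx
    have h := hsq x hx
    have h' : π (s * s * x * (s * s)⁻¹ * x⁻¹) = 1 := (QuotientGroup.eq_one_iff _).2 h
    rw [map_mul, map_inv] at h'
    exact mul_inv_eq_one.1 h'
  -- s inverts mod Ft
  have h3 : ∀ g ∈ N, π (s * g * s⁻¹) = (π g)⁻¹ := by
    intro g hg
    obtain ⟨x, hx⟩ := fpf_surj τ hτfpf ⟨g, hg⟩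
    have hx' : (x : X)⁻¹ * (s * x * s⁻¹) = g := congrArg Subtype.val hx
    have e : s * g * s⁻¹ = (s * x * s⁻¹)⁻¹ * (s * s * x * (s * s)⁻¹) := by
      rw [← hx']; group
    rw [e, map_mul, h2 x x.2, ← hx', map_mul, map_inv, map_inv, mul_inv_rev, inv_inv]
  intro a ha b hb
  have h4 : π (s * (a * b) * s⁻¹) = (π (a * b))⁻¹ := h3 (a * b) (N.mul_mem ha hb)
  have e : s * (a * b) * s⁻¹ = (s * a * s⁻¹) * (s * b * s⁻¹) := by group
  rw [e, map_mul, h3 a ha, h3 b hb, map_mul, mul_inv_rev] at h4
  have h5 : π a * π b = π b * π a := by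
    have h6 := congrArg (fun z => z⁻¹) h4
    simp only [mul_inv_rev, inv_inv] at h6
    exact h6.symm
  rw [← QuotientGroup.eq_one_iff]
  show π (a * b * a⁻¹ * b⁻¹) = 1
  rw [map_mul, map_mul, map_mul, map_inv, map_inv, h5]
  group

/-- Let G be a finite solvable group with an automorphism σ satisfying σ⁴ = 1 and fixing only the identity. Then the derived subgroup G' is nilpotent. -/
theorem result {G : Type*} [Group G] [Finite G] (hG : Group.IsSolvable G) (σ : MulAut G) (hσ : σ ^ 4 = 1) (hfpf : ∀ g : G, σ g = g → g = 1) : Group.IsNilpotent (commutator G) := by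
  classical
  let C : Subgroup (MulAut G) := Subgroup.zpowers σ
  let φ : ↥C →* MulAut G := C.subtype
  let X := G ⋊[φ] ↥C
  haveI : Finite ↥C := by
    have : Finite (MulAut G) := Finite.of_injective (fun f : MulAut G => (f : G → G))
      (fun _ _ h => MulEquiv.ext (fun w => congrFun h w))
    infer_instance
  haveI : Finite X := Finite.of_equiv _ (SemidirectProduct.equivProd (φ := φ)).symm
  haveI : Group.IsSolvable ↥C := by
    haveI : IsCyclic ↥C := inferInstance
    letI : CommGroup ↥C := IsCyclic.commGroup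
    infer_instance
  have hX : Group.IsSolvable X :=
    Group.isSolvable_of_ker_le_range (SemidirectProduct.inl : G →* X) SemidirectProduct.rightHom
      (le_of_eq SemidirectProduct.range_inl_eq_ker_rightHom.symm)
  let N : Subgroup X := (SemidirectProduct.inl : G →* X).range
  haveI hN : N.Normal := by
    show ((SemidirectProduct.inl : G →* X).range).Normal
    rw [SemidirectProduct.range_inl_eq_ker_rightHom]
    infer_instance
  let s : X := SemidirectProduct.inr ⟨σ, Subgroup.mem_zpowers σ⟩
  have hs4 : s ^ 4 = 1 := by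
    show (SemidirectProduct.inr (⟨σ, Subgroup.mem_zpowers σ⟩ : ↥C) : X) ^ 4 = 1
    rw [← map_pow]
    have : (⟨σ, Subgroup.mem_zpowers σ⟩ : ↥C) ^ 4 = 1 := Subtype.ext hσ
    rw [this, map_one]
  have hsconj : ∀ g : G, s * SemidirectProduct.inl g * s⁻¹ = SemidirectProduct.inl (σ g) := by
    intro g
    have := SemidirectProduct.inl_aut (φ := φ) (⟨σ, Subgroup.mem_zpowers σ⟩ : ↥C) g
    rw [map_inv] at this
    exact this.symm
  have hfpf' : ∀ n ∈ N, s * n * s⁻¹ = n → n = 1 := by
    rintro _ ⟨g, rfl⟩ h
    rw [hsconj] at h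
    have := SemidirectProduct.inl_injective h
    rw [hfpf g this, map_one]
  have hcomm := comm_mem_fitting_aux hX N s hs4 hfpf'
  -- transfer to G
  let e : G →* ↥N := (SemidirectProduct.inl : G →* X).rangeRestrict
  have he : Function.Injective e := by
    intro a b hab
    have : (SemidirectProduct.inl a : X) = SemidirectProduct.inl b := congrArg Subtype.val hab
    exact SemidirectProduct.inl_injective this
  have hle : commutator G ≤ (fittingSubgroup ↥N).comap e := by
    rw [commutator_def, Subgroup.commutator_le]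
    intro a _ b _
    rw [Subgroup.mem_comap, map_commutatorElement]
    have h1 := hcomm (e a) (e a).2 (e b) (e b).2
    obtain ⟨y, hy, hyx⟩ := h1
    have : y = ⁅e a, e b⁆ := by
      apply Subtype.ext
      rw [commutatorElement_def]
      exact hyx
    rw [← this]; exact hy
  let f : ↥(commutator G) →* ↥(fittingSubgroup ↥N) :=
    (e.comp (commutator G).subtype).codRestrict (fittingSubgroup ↥N) (fun x => hle x.2)
  have hf : Function.Injective f := by
    intro a b hab
    have h1 : e (a : G) = e (b : G) := congrArg Subtype.val hab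
    exact Subtype.ext (he h1)
  haveI : Group.IsNilpotent ↥(fittingSubgroup ↥N) := Cfsg.Agent.Helper7.fittingSubgroup_isNilpotent
  apply Subgroup.isNilpotent_of_ker_le_center f
  rw [(MonoidHom.ker_eq_bot_iff f).2 hf]; exact bot_le

end Cfsg.Agent.S3794
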