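import Mathlib
import Cfsg.Statements.S0760

set_option autoImplicit false
open Cfsg

namespace Cfsg.Agent.S0760

open LinearMap LinearMap.BilinForm Module

theorem le_of_max {F V : Type*} [Field F] [AddCommGroup V] [Module F V] [FiniteDimensional F V]
    (Q : QuadraticForm F V) (hQ : (QuadraticMap.polarBilin Q).Nondegenerate)
    (W₁ W₂ : Submodule F V) (h₁ : ∀ w ∈ W₁, Q w = 0) (h₂ : ∀ w ∈ W₂, Q w = 0)
    (hmax₁ : ∀ W : Submodule F V, W₁ ≤ W → (∀ w ∈ W, Q w = 0) → W = W₁) :
    finrank F W₂ ≤ finrank F W₁ := by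
  set B : LinearMap.BilinForm F V := QuadraticMap.polarBilin Q with hB
  have hBa : ∀ x y, B x y = Q (x + y) - Q x - Q y := fun x y => rfl
  have hiso : ∀ (W : Submodule F V), (∀ w ∈ W, Q w = 0) → W ≤ B.orthogonal W := by
    intro W hW x hx
    rw [mem_orthogonal_iff]
    intro y hy
    rw [hBa, hW _ (W.add_mem hy hx), hW _ hy, hW _ hx]
    simp
  set U := B.orthogonal W₁ ⊓ W₂ with hU
  have hUle : U ≤ W₁ := by
    have hts : ∀ w ∈ W₁ ⊔ U, Q w = 0 := by
      intro w hw
      obtain ⟨x, hx, u, hu, rfl⟩ := Submodule.mem_sup.mp hw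
      have hu1 : u ∈ B.orthogonal W₁ := hu.1
      rw [mem_orthogonal_iff] at hu1
      have := hu1 x hx
      rw [hBa, h₁ x hx, h₂ u hu.2] at this
      simpa using this
    have := hmax₁ (W₁ ⊔ U) le_sup_left hts
    rw [← this]
    exact le_sup_right
  have hUD : U = W₁ ⊓ W₂ := by
    apply le_antisymm
    · exact le_inf hUle inf_le_right
    · exact inf_le_inf_right _ (hiso W₁ h₁)
  have hsup : B.orthogonal W₁ ⊔ W₂ ≤ B.orthogonal (W₁ ⊓ W₂) := by
    apply sup_le
    · exact orthogonal_le inf_le_left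
    · exact (hiso W₂ h₂).trans (orthogonal_le inf_le_right)
  have e1 := Submodule.finrank_sup_add_finrank_inf_eq (B.orthogonal W₁) W₂
  have e2 := finrank_orthogonal hQ W₁
  have e3 := finrank_orthogonal hQ (W₁ ⊓ W₂)
  have e4 := Submodule.finrank_mono hsup
  rw [← hU, hUD] at e1
  have e5 := Submodule.finrank_le W₁
  have e6 := Submodule.finrank_le (W₁ ⊓ W₂ : Submodule F V)
  have e7 := Submodule.finrank_mono (inf_le_left : W₁ ⊓ W₂ ≤ W₁)
  omega

/-- Witt index is well defined: if Q is a quadratic form on a finite-dimensional space V over a finite field with non-degenerate polar form, and W₁, W₂ are subspaces on which Q vanishes that are maximal with this property, then W₁ and W₂ have the same dimension, and twice this dimension is at most dim V. -/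
theorem result {F V : Type*} [Field F] [Finite F] [AddCommGroup V] [Module F V] [FiniteDimensional F V] (Q : QuadraticForm F V) (hQ : (QuadraticMap.polarBilin Q).Nondegenerate) (W₁ W₂ : Submodule F V) (h₁ : ∀ w ∈ W₁, Q w = 0) (h₂ : ∀ w ∈ W₂, Q w = 0) (hmax₁ : ∀ W : Submodule F V, W₁ ≤ W → (∀ w ∈ W, Q w = 0) → W = W₁) (hmax₂ : ∀ W : Submodule F V, W₂ ≤ W → (∀ w ∈ W, Q w = 0) → W = W₂) : Module.finrank F W₁ = Module.finrank F W₂ ∧ 2 * Module.finrank F W₁ ≤ Module.finrank F V := by
  refine ⟨le_antisymm (le_of_max Q hQ W₂ W₁ h₂ h₁ hmax₂) (le_of_max Q hQ W₁ W₂ h₁ h₂ hmax₁), ?_⟩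
  set B : LinearMap.BilinForm F V := QuadraticMap.polarBilin Q with hB
  have hBa : ∀ x y, B x y = Q (x + y) - Q x - Q y := fun x y => rfl
  have hle : W₁ ≤ B.orthogonal W₁ := by
    intro x hx
    rw [mem_orthogonal_iff]
    intro y hy
    rw [hBa, h₁ _ (W₁.add_mem hy hx), h₁ _ hy, h₁ _ hx]
    simp
  have e1 := Submodule.finrank_mono hle
  have e2 := finrank_orthogonal hQ W₁
  have e5 := Submodule.finrank_le W₁
  omega

end Cfsg.Agent.S0760
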