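import Mathlib
import Cfsg.Statements.S2617
import Cfsg.Agent.S0760
import Cfsg.Agent.S2620
import Cfsg.Agent.Helper13.Discr

set_option autoImplicit false
open Cfsg Matrix

namespace Cfsg.Agent.S2617

/-- the plus form as a `QuadraticForm` -/
noncomputable def Qp (m : ℕ) (F : Type*) [Field F] : QuadraticForm F (Fin m ⊕ Fin m → F) :=
  LinearMap.BilinMap.toQuadraticMap (Matrix.toBilin'
    (Matrix.fromBlocks (0 : Matrix (Fin m) (Fin m) F) (1 : Matrix (Fin m) (Fin m) F)
        (0 : Matrix (Fin m) (Fin m) F) (0 : Matrix (Fin m) (Fin m) F)))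

theorem Qp_apply (m : ℕ) (F : Type*) [Field F] (v : Fin m ⊕ Fin m → F) :
    Qp m F v = Cfsg.quadFormPlus m F v := by
  classical
  rw [Qp, LinearMap.BilinMap.toQuadraticMap_apply, Matrix.toBilin'_apply']
  simp only [Cfsg.quadFormPlus, dotProduct, Matrix.mulVec, Fintype.sum_sum_type,
    Matrix.fromBlocks_apply₁₁, Matrix.fromBlocks_apply₁₂, Matrix.fromBlocks_apply₂₁,
    Matrix.fromBlocks_apply₂₂, Matrix.zero_apply, zero_mul, Finset.sum_const_zero, zero_add,
    add_zero, Matrix.one_apply, ite_mul, one_mul, Finset.sum_ite_eq, Finset.mem_univ, if_true,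
    mul_zero]

theorem Qp_coe (m : ℕ) (F : Type*) [Field F] : ⇑(Qp m F) = Cfsg.quadFormPlus m F :=
  funext (Qp_apply m F)

theorem Qp_nondeg (m : ℕ) (F : Type*) [Field F] :
    (QuadraticMap.polarBilin (Qp m F)).Nondegenerate := by
  classical
  have h : QuadraticMap.polarBilin (Qp m F) = Matrix.toBilin'
      (Matrix.fromBlocks (0 : Matrix (Fin m) (Fin m) F) (1 : Matrix (Fin m) (Fin m) F)
        (1 : Matrix (Fin m) (Fin m) F) (0 : Matrix (Fin m) (Fin m) F)) := by
    apply LinearMap.ext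
    intro u
    apply LinearMap.ext
    intro v
    rw [QuadraticMap.polarBilin_apply_apply, Qp_coe, Cfsg.Agent.S2620.polar_plus,
      Matrix.toBilin'_apply']
  rw [h]
  apply LinearMap.BilinForm.nondegenerate_toBilin'_iff_det_ne_zero.mpr
  rw [Cfsg.Agent.Helper13.det_fromBlocks_zero_one_one_zero]
  exact pow_ne_zero _ (by simp)

/-- embedding of the `x`-coordinates in the plus space -/
def iU (m : ℕ) (F : Type*) [Field F] : (Fin m → F) →ₗ[F] (Fin m ⊕ Fin m → F) where
  toFun x := Sum.elim x 0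
  map_add' x y := by
    funext i
    cases i <;> simp
  map_smul' c x := by
    funext i
    cases i <;> simp

/-- embedding of the `x`-coordinates in the minus space -/
def iE (m : ℕ) (F : Type*) [Field F] : (Fin m → F) →ₗ[F] ((Fin m ⊕ Fin m) ⊕ Fin 2 → F) where
  toFun x := Sum.elim (Sum.elim x 0) 0
  map_add' x y := by
    funext i
    rcases i with (i | i) | i <;> simp
  map_smul' c x := by
    funext i
    rcases i with (i | i) | i <;> simp

theorem iU_inj (m : ℕ) (F : Type*) [Field F] : Function.Injective (iU m F) := by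
  intro x y h
  funext i
  have := congrFun h (Sum.inl i)
  simpa [iU] using this

theorem iE_inj (m : ℕ) (F : Type*) [Field F] : Function.Injective (iE m F) := by
  intro x y h
  funext i
  have := congrFun h (Sum.inl (Sum.inl i))
  simpa [iE] using this

theorem plus_iU (m : ℕ) (F : Type*) [Field F] (x : Fin m → F) :
    Cfsg.quadFormPlus m F (iU m F x) = 0 := by
  simp [Cfsg.quadFormPlus, iU]

theorem minus_iE (m : ℕ) (F : Type*) [Field F] (a c : F) (x : Fin m → F) :
    Cfsg.quadFormMinus m F a c (iE m F x) = 0 := by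
  simp [Cfsg.quadFormMinus, iE]

theorem minus_add_iE_single (m : ℕ) (F : Type*) [Field F] (a c : F)
    (w : (Fin m ⊕ Fin m) ⊕ Fin 2 → F) (i : Fin m) :
    Cfsg.quadFormMinus m F a c (w + iE m F (Pi.single i 1)) =
      Cfsg.quadFormMinus m F a c w + w (Sum.inl (Sum.inr i)) := by
  classical
  simp only [Cfsg.quadFormMinus, iE, LinearMap.coe_mk, AddHom.coe_mk, Pi.add_apply, Sum.elim_inl,
    Sum.elim_inr, Pi.zero_apply, add_zero, add_mul, Finset.sum_add_distrib, Pi.single_apply,
    ite_mul, one_mul, zero_mul, Finset.sum_ite_eq', Finset.mem_univ, if_true]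
  ring

theorem result {F : Type*} [Field F] [Finite F] {m : ℕ} (hm : 1 ≤ m) (ζ : F) (hζ : ∀ t : F, t ^ 2 + t + ζ ≠ 0) (g : (Fin m ⊕ Fin m → F) ≃ₗ[F] ((Fin (m - 1) ⊕ Fin (m - 1)) ⊕ Fin 2 → F)) : ¬ (∀ v : Fin m ⊕ Fin m → F, Cfsg.quadFormMinus (m - 1) F 1 ζ (g v) = Cfsg.quadFormPlus m F v) := by
  classical
  intro hg
  set W₂ : Submodule F (Fin m ⊕ Fin m → F) := LinearMap.range (iU m F) with hW₂
  set W₁ : Submodule F (Fin m ⊕ Fin m → F) :=
    LinearMap.range (g.symm.toLinearMap ∘ₗ iE (m - 1) F) with hW₁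
  have hfr₂ : Module.finrank F W₂ = m := by
    rw [hW₂, LinearMap.finrank_range_of_inj (iU_inj m F)]
    simp
  have hfr₁ : Module.finrank F W₁ = m - 1 := by
    rw [hW₁, LinearMap.finrank_range_of_inj]
    · simp
    · intro x y h
      apply iE_inj
      apply g.symm.injective
      simpa using h
  have h₂ : ∀ w ∈ W₂, Qp m F w = 0 := by
    rintro w ⟨x, rfl⟩
    rw [Qp_apply, plus_iU]
  have h₁ : ∀ w ∈ W₁, Qp m F w = 0 := by
    rintro w ⟨x, rfl⟩
    rw [Qp_apply, ← hg]
    simp [minus_iE]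
  have hmax₁ : ∀ W : Submodule F (Fin m ⊕ Fin m → F), W₁ ≤ W → (∀ w ∈ W, Qp m F w = 0) → W = W₁ := by
    intro W hle hW
    apply le_antisymm _ hle
    intro w hw
    have hQw : Cfsg.quadFormMinus (m - 1) F 1 ζ (g w) = 0 := by
      rw [hg, ← Qp_apply]; exact hW w hw
    -- y-coordinates of g w vanish
    have hy : ∀ i, (g w) (Sum.inl (Sum.inr i)) = 0 := by
      intro i
      have hmem : g.symm (iE (m - 1) F (Pi.single i 1)) ∈ W := hle ⟨Pi.single i 1, rfl⟩
      have h1 := hW _ (W.add_mem hw hmem)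
      rw [Qp_apply, ← hg, map_add, LinearEquiv.apply_symm_apply, minus_add_iE_single, hQw,
        zero_add] at h1
      exact h1
    -- z-coordinates of g w vanish
    have hN : (g w) (Sum.inr 0) ^ 2 + (g w) (Sum.inr 0) * (g w) (Sum.inr 1)
        + ζ * (g w) (Sum.inr 1) ^ 2 = 0 := by
      have := hQw
      simp only [Cfsg.quadFormMinus, hy, mul_zero, Finset.sum_const_zero, zero_add, one_mul] at this
      exact this
    have hz1 : (g w) (Sum.inr 1) = 0 := by
      by_contra hne
      apply hζ ((g w) (Sum.inr 0) / (g w) (Sum.inr 1))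
      field_simp
      linear_combination hN
    have hz0 : (g w) (Sum.inr 0) = 0 := by
      rw [hz1] at hN
      simpa using hN
    refine ⟨fun i => (g w) (Sum.inl (Sum.inl i)), ?_⟩
    rw [LinearMap.comp_apply]
    apply g.injective
    rw [LinearEquiv.coe_coe, LinearEquiv.apply_symm_apply]
    funext j
    rcases j with (j | j) | j
    · simp [iE]
    · simp [iE, hy]
    · fin_cases j
      · simpa [iE] using hz0.symm
      · simpa [iE] using hz1.symm
  have := Cfsg.Agent.S0760.le_of_max (Qp m F) (Qp_nondeg m F) W₁ W₂ h₁ h₂ hmax₁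
  omega

end Cfsg.Agent.S2617
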