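import Mathlib
import Cfsg.Statements.S2621
import Cfsg.Agent.Helper13.Discr

set_option autoImplicit false
open Cfsg Matrix

namespace Cfsg.Agent.S2621

theorem polar_minus {F : Type*} [Field F] (m : ℕ) (a c : F)
    (u v : (Fin m ⊕ Fin m) ⊕ Fin 2 → F) :
    QuadraticMap.polar (Cfsg.quadFormMinus m F a c) u v =
      u ⬝ᵥ (Matrix.fromBlocks
        (Matrix.fromBlocks (0 : Matrix (Fin m) (Fin m) F) (1 : Matrix (Fin m) (Fin m) F)
          (1 : Matrix (Fin m) (Fin m) F) (0 : Matrix (Fin m) (Fin m) F))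
        (0 : Matrix (Fin m ⊕ Fin m) (Fin 2) F) (0 : Matrix (Fin 2) (Fin m ⊕ Fin m) F)
        (!![2, a; a, 2 * c] : Matrix (Fin 2) (Fin 2) F)) *ᵥ v := by
  classical
  simp only [QuadraticMap.polar, Cfsg.quadFormMinus, dotProduct, Matrix.mulVec, Fintype.sum_sum_type,
    Matrix.fromBlocks_apply₁₁, Matrix.fromBlocks_apply₁₂, Matrix.fromBlocks_apply₂₁,
    Matrix.fromBlocks_apply₂₂, Matrix.zero_apply, zero_mul, Finset.sum_const_zero, zero_add,
    add_zero, Matrix.one_apply, ite_mul, one_mul, Finset.sum_ite_eq, Finset.mem_univ, if_true,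
    Pi.add_apply, Fin.sum_univ_two, Matrix.of_apply, Matrix.cons_val', Matrix.cons_val_zero,
    Matrix.cons_val_one, Matrix.cons_val_fin_one]
  have h : ∀ (f g h k : Fin m → F), (∑ i, f i + ∑ i, g i) = (∑ i, h i) + (∑ i, k i) + 
      ∑ i, (f i + g i - h i - k i) := by
    intro f g h k
    simp only [Finset.sum_add_distrib, Finset.sum_sub_distrib]
    ring
  rw [← Finset.sum_add_distrib]
  have e1 : ∑ i : Fin m, (u (Sum.inl (Sum.inl i)) + v (Sum.inl (Sum.inl i))) *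
      (u (Sum.inl (Sum.inr i)) + v (Sum.inl (Sum.inr i))) =
      ∑ i : Fin m, u (Sum.inl (Sum.inl i)) * u (Sum.inl (Sum.inr i)) +
      ∑ i : Fin m, v (Sum.inl (Sum.inl i)) * v (Sum.inl (Sum.inr i)) +
      ∑ i : Fin m, (u (Sum.inl (Sum.inl i)) * v (Sum.inl (Sum.inr i)) +
        u (Sum.inl (Sum.inr i)) * v (Sum.inl (Sum.inl i))) := by
    rw [← Finset.sum_add_distrib, ← Finset.sum_add_distrib]
    apply Finset.sum_congr rfl
    intro i _
    ring
  rw [e1]
  ring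

theorem not_isSquare_disc {F : Type*} [Field F] (h2 : (2 : F) ≠ 0) (a c : F)
    (hac : ∀ z₁ z₂ : F, z₁ ^ 2 + a * z₁ * z₂ + c * z₂ ^ 2 = 0 → z₁ = 0 ∧ z₂ = 0) :
    ¬ IsSquare (a ^ 2 - 4 * c) := by
  rintro ⟨s, hs⟩
  have := hac ((-a + s) / 2) 1 (by
    field_simp
    linear_combination (-1 : F) * hs)
  exact one_ne_zero this.2

/-- Discriminant of an elliptic quadratic form Σ_(i<m−1) x_i y_i + z₁² + a z₁z₂ + c z₂² (binary part anisotropic) in dimension 2m over a field with q elements, q odd, m ≥ 1: the determinant of the Gram matrix of its polar form in any basis is a square if and only if m(q − 1)/2 is odd (equivalently q^m ≡ 3 (mod 4)). -/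
theorem result {F : Type*} [Field F] [Fintype F] {q : ℕ} (hF : Fintype.card F = q) (hq : Odd q) {m : ℕ} (hm : 1 ≤ m) (a c : F) (hac : ∀ z₁ z₂ : F, z₁ ^ 2 + a * z₁ * z₂ + c * z₂ ^ 2 = 0 → z₁ = 0 ∧ z₂ = 0) {ι : Type*} [Fintype ι] [DecidableEq ι] (b : Module.Basis ι F ((Fin (m - 1) ⊕ Fin (m - 1)) ⊕ Fin 2 → F)) : IsSquare (Matrix.of (fun i j : ι => QuadraticMap.polar (Cfsg.quadFormMinus (m - 1) F a c) (b i) (b j))).det ↔ ¬ Even (m * (q - 1) / 2) := by
  classical
  have h2 : (2 : F) ≠ 0 := by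
    apply Ring.two_ne_zero
    intro h
    rw [FiniteField.even_card_iff_char_two, hF] at h
    rcases hq with ⟨k, hk⟩
    omega
  have hδ := not_isSquare_disc h2 a c hac
  obtain ⟨d, hd, hdet⟩ := Cfsg.Agent.Helper13.gram_det_eq (Cfsg.quadFormMinus (m - 1) F a c) _
    (polar_minus (m - 1) a c) b
  rw [hdet, Cfsg.Agent.Helper13.isSquare_mul_self_mul_iff hd, Matrix.det_fromBlocks_zero₂₁,
    Cfsg.Agent.Helper13.det_fromBlocks_zero_one_one_zero, Fintype.card_fin, Matrix.det_fin_two_of]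
  have e : (-1 : F) ^ (m - 1) * (2 * (2 * c) - a * a) = (-1) ^ m * (a ^ 2 - 4 * c) := by
    obtain ⟨k, rfl⟩ : ∃ k, m = k + 1 := ⟨m - 1, by omega⟩
    rw [Nat.add_sub_cancel, pow_succ]
    ring
  rw [e, Cfsg.Agent.Helper13.isSquare_mul_nonsquare_iff (pow_ne_zero _ (by simp)) hδ,
    Cfsg.Agent.Helper13.isSquare_neg_one_pow_iff hF hq m]

end Cfsg.Agent.S2621
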