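import Mathlib
import Cfsg.Statements.S2562
import Cfsg.Agent.S0760
import Cfsg.Agent.S2617
import Cfsg.Agent.S2621

set_option autoImplicit false
open Cfsg Matrix

namespace Cfsg.Agent.S2562

open Cfsg.Agent.S2617

/-- the minus form as a `QuadraticForm` -/
noncomputable def Qm (m : ℕ) (F : Type*) [Field F] (a c : F) :
    QuadraticForm F ((Fin m ⊕ Fin m) ⊕ Fin 2 → F) :=
  LinearMap.BilinMap.toQuadraticMap (Matrix.toBilin'
    (Matrix.fromBlocks
      (Matrix.fromBlocks (0 : Matrix (Fin m) (Fin m) F) (1 : Matrix (Fin m) (Fin m) F)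
        (0 : Matrix (Fin m) (Fin m) F) (0 : Matrix (Fin m) (Fin m) F))
      (0 : Matrix (Fin m ⊕ Fin m) (Fin 2) F) (0 : Matrix (Fin 2) (Fin m ⊕ Fin m) F)
      (!![1, a; 0, c] : Matrix (Fin 2) (Fin 2) F)))

theorem Qm_apply (m : ℕ) (F : Type*) [Field F] (a c : F) (v : (Fin m ⊕ Fin m) ⊕ Fin 2 → F) :
    Qm m F a c v = Cfsg.quadFormMinus m F a c v := by
  classical
  rw [Qm, LinearMap.BilinMap.toQuadraticMap_apply, Matrix.toBilin'_apply']
  simp only [Cfsg.quadFormMinus, dotProduct, Matrix.mulVec, Fintype.sum_sum_type,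
    Matrix.fromBlocks_apply₁₁, Matrix.fromBlocks_apply₁₂, Matrix.fromBlocks_apply₂₁,
    Matrix.fromBlocks_apply₂₂, Matrix.zero_apply, zero_mul, Finset.sum_const_zero, zero_add,
    add_zero, Matrix.one_apply, ite_mul, one_mul, Finset.sum_ite_eq, Finset.mem_univ, if_true,
    mul_zero, Fin.sum_univ_two, Matrix.of_apply, Matrix.cons_val', Matrix.cons_val_zero,
    Matrix.cons_val_one, Matrix.cons_val_fin_one]
  ring

theorem Qm_coe (m : ℕ) (F : Type*) [Field F] (a c : F) :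
    ⇑(Qm m F a c) = Cfsg.quadFormMinus m F a c :=
  funext (Qm_apply m F a c)

theorem Qm_nondeg (m : ℕ) (F : Type*) [Field F] (a c : F) (hac : 4 * c - a ^ 2 ≠ 0) :
    (QuadraticMap.polarBilin (Qm m F a c)).Nondegenerate := by
  classical
  have h : QuadraticMap.polarBilin (Qm m F a c) = Matrix.toBilin'
      (Matrix.fromBlocks
        (Matrix.fromBlocks (0 : Matrix (Fin m) (Fin m) F) (1 : Matrix (Fin m) (Fin m) F)
          (1 : Matrix (Fin m) (Fin m) F) (0 : Matrix (Fin m) (Fin m) F))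
        (0 : Matrix (Fin m ⊕ Fin m) (Fin 2) F) (0 : Matrix (Fin 2) (Fin m ⊕ Fin m) F)
        (!![2, a; a, 2 * c] : Matrix (Fin 2) (Fin 2) F)) := by
    apply LinearMap.ext
    intro u
    apply LinearMap.ext
    intro v
    rw [QuadraticMap.polarBilin_apply_apply, Qm_coe, Cfsg.Agent.S2621.polar_minus,
      Matrix.toBilin'_apply']
  rw [h]
  apply LinearMap.BilinForm.nondegenerate_toBilin'_iff_det_ne_zero.mpr
  rw [Matrix.det_fromBlocks_zero₂₁, Cfsg.Agent.Helper13.det_fromBlocks_zero_one_one_zero,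
    Matrix.det_fin_two_of]
  apply mul_ne_zero (pow_ne_zero _ (by simp))
  intro h0
  apply hac
  linear_combination h0

/-- totally singular subspaces have dimension at most half -/
theorem finrank_le_of_singular {F V : Type*} [Field F] [AddCommGroup V] [Module F V]
    [FiniteDimensional F V] (Q : QuadraticForm F V)
    (hQ : (QuadraticMap.polarBilin Q).Nondegenerate) (U : Submodule F V)
    (hU : ∀ u ∈ U, Q u = 0) : 2 * Module.finrank F U ≤ Module.finrank F V := by
  set B : LinearMap.BilinForm F V := QuadraticMap.polarBilin Q with hB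
  have hBa : ∀ x y, B x y = Q (x + y) - Q x - Q y := fun x y => rfl
  have hle : U ≤ B.orthogonal U := by
    intro x hx
    rw [LinearMap.BilinForm.mem_orthogonal_iff]
    intro y hy
    change B y x = 0
    rw [hBa, hU _ (U.add_mem hy hx), hU _ hy, hU _ hx]
    simp
  have e1 := Submodule.finrank_mono hle
  have e2 := LinearMap.BilinForm.finrank_orthogonal hQ U
  have e5 := Submodule.finrank_le U
  omega

theorem result (m : ℕ) (hm : 1 ≤ m) :
    (∃ U : Submodule (ZMod 2) (Fin m ⊕ Fin m → ZMod 2), (∀ u ∈ U, Cfsg.quadFormPlus m (ZMod 2) u = 0) ∧ Module.finrank (ZMod 2) ↥U = m) ∧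
    (∀ U : Submodule (ZMod 2) (Fin m ⊕ Fin m → ZMod 2), (∀ u ∈ U, Cfsg.quadFormPlus m (ZMod 2) u = 0) → Module.finrank (ZMod 2) ↥U ≤ m) ∧
    (∃ U : Submodule (ZMod 2) ((Fin (m - 1) ⊕ Fin (m - 1)) ⊕ Fin 2 → ZMod 2), (∀ u ∈ U, Cfsg.quadFormMinus (m - 1) (ZMod 2) 1 1 u = 0) ∧ Module.finrank (ZMod 2) ↥U = m - 1) ∧
    (∀ U : Submodule (ZMod 2) ((Fin (m - 1) ⊕ Fin (m - 1)) ⊕ Fin 2 → ZMod 2), (∀ u ∈ U, Cfsg.quadFormMinus (m - 1) (ZMod 2) 1 1 u = 0) → Module.finrank (ZMod 2) ↥U ≤ m - 1) := by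
  classical
  have hnd : (4 : ZMod 2) * 1 - 1 ^ 2 ≠ 0 := by decide
  refine ⟨?_, ?_, ?_, ?_⟩
  · refine ⟨LinearMap.range (iU m (ZMod 2)), ?_, ?_⟩
    · rintro u ⟨x, rfl⟩
      exact plus_iU m (ZMod 2) x
    · rw [LinearMap.finrank_range_of_inj (iU_inj m (ZMod 2))]
      simp
  · intro U hU
    have := finrank_le_of_singular (Qp m (ZMod 2)) (Qp_nondeg m (ZMod 2)) U
      (fun u hu => by rw [Qp_apply]; exact hU u hu)
    rw [Module.finrank_fintype_fun_eq_card] at this
    simp only [Fintype.card_sum, Fintype.card_fin] at this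
    omega
  · refine ⟨LinearMap.range (iE (m - 1) (ZMod 2)), ?_, ?_⟩
    · rintro u ⟨x, rfl⟩
      exact minus_iE (m - 1) (ZMod 2) 1 1 x
    · rw [LinearMap.finrank_range_of_inj (iE_inj (m - 1) (ZMod 2))]
      simp
  · intro U hU
    set W₁ : Submodule (ZMod 2) ((Fin (m - 1) ⊕ Fin (m - 1)) ⊕ Fin 2 → ZMod 2) :=
      LinearMap.range (iE (m - 1) (ZMod 2)) with hW₁
    have hfr₁ : Module.finrank (ZMod 2) W₁ = m - 1 := by
      rw [hW₁, LinearMap.finrank_range_of_inj (iE_inj (m - 1) (ZMod 2))]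
      simp
    have h₁ : ∀ w ∈ W₁, Qm (m - 1) (ZMod 2) 1 1 w = 0 := by
      rintro w ⟨x, rfl⟩
      rw [Qm_apply, minus_iE]
    have hmax₁ : ∀ W : Submodule (ZMod 2) ((Fin (m - 1) ⊕ Fin (m - 1)) ⊕ Fin 2 → ZMod 2), W₁ ≤ W →
        (∀ w ∈ W, Qm (m - 1) (ZMod 2) 1 1 w = 0) → W = W₁ := by
      intro W hle hW
      apply le_antisymm _ hle
      intro w hw
      have hQw : Cfsg.quadFormMinus (m - 1) (ZMod 2) 1 1 w = 0 := by
        rw [← Qm_apply]; exact hW w hw
      have hy : ∀ i, w (Sum.inl (Sum.inr i)) = 0 := by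
        intro i
        have hmem : iE (m - 1) (ZMod 2) (Pi.single i 1) ∈ W := hle ⟨Pi.single i 1, rfl⟩
        have h1 := hW _ (W.add_mem hw hmem)
        rw [Qm_apply, minus_add_iE_single, hQw, zero_add] at h1
        exact h1
      have hN : w (Sum.inr 0) ^ 2 + w (Sum.inr 0) * w (Sum.inr 1) + w (Sum.inr 1) ^ 2 = 0 := by
        have := hQw
        simp only [Cfsg.quadFormMinus, hy, mul_zero, Finset.sum_const_zero, zero_add, one_mul]
          at this
        exact this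
      have hz : w (Sum.inr 0) = 0 ∧ w (Sum.inr 1) = 0 := by
        revert hN
        generalize w (Sum.inr 0) = z₀
        generalize w (Sum.inr 1) = z₁
        revert z₀ z₁
        decide
      refine ⟨fun i => w (Sum.inl (Sum.inl i)), ?_⟩
      funext j
      rcases j with (j | j) | j
      · simp [iE]
      · simp [iE, hy]
      · fin_cases j
        · simpa [iE] using hz.1.symm
        · simpa [iE] using hz.2.symm
    have := Cfsg.Agent.S0760.le_of_max (Qm (m - 1) (ZMod 2) 1 1)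
      (Qm_nondeg (m - 1) (ZMod 2) 1 1 hnd) W₁ U h₁
      (fun u hu => by rw [Qm_apply]; exact hU u hu) hmax₁
    omega

end Cfsg.Agent.S2562
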