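import Mathlib
import Cfsg.Statements.S0756

set_option autoImplicit false
open Cfsg

namespace Cfsg.Agent.S0756

open LinearMap LinearMap.BilinForm Polynomial in
theorem ringChar_ne_two' {F : Type*} [Field F] (h2 : (2 : F) ≠ 0) : ringChar F ≠ 2 := by
  intro h
  apply h2
  have := ringChar.Nat.cast_ringChar (R := F)
  rw [h] at this
  exact_mod_cast this

/-- every nonzero element is, up to a nonzero square, 1 or α. -/
theorem sq_or_alpha_sq {F : Type*} [Field F] [Fintype F] (h2 : (2 : F) ≠ 0) (α : F) (hα : ¬ IsSquare α)
    (c : F) (hc : c ≠ 0) : ∃ s : F, s ≠ 0 ∧ (s ^ 2 * c = 1 ∨ s ^ 2 * c = α) := by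
  have hch := ringChar_ne_two' h2
  have hα0 : α ≠ 0 := by
    rintro rfl
    exact hα ⟨0, by simp⟩
  by_cases hsq : IsSquare c
  · obtain ⟨t, rfl⟩ := hsq
    have ht : t ≠ 0 := by
      rintro rfl
      simp at hc
    refine ⟨t⁻¹, inv_ne_zero ht, Or.inl ?_⟩
    field_simp
  · have h1 : α ^ (Fintype.card F / 2) = -1 := by
      rcases FiniteField.pow_dichotomy hch hα0 with h | h
      · exact absurd ((FiniteField.isSquare_iff hch hα0).2 h) hα
      · exact h
    have h2' : c ^ (Fintype.card F / 2) = -1 := by
      rcases FiniteField.pow_dichotomy hch hc with h | h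
      · exact absurd ((FiniteField.isSquare_iff hch hc).2 h) hsq
      · exact h
    have h3 : IsSquare (α / c) := by
      rw [FiniteField.isSquare_iff hch (div_ne_zero hα0 hc), div_pow, h1, h2']
      simp
    obtain ⟨t, ht⟩ := h3
    have ht0 : t ≠ 0 := by
      rintro rfl
      simp at ht
      rcases ht with h | h
      · exact hα0 h
      · exact hc h
    refine ⟨t, ht0, Or.inr ?_⟩
    rw [pow_two, ← ht]
    field_simp

open LinearMap LinearMap.BilinForm Polynomial in
theorem exists_norm_one {F V : Type*} [Field F] [Fintype F] [AddCommGroup V] [Module F V]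
    [FiniteDimensional F V] (h2 : (2 : F) ≠ 0) (B : LinearMap.BilinForm F V) (hS : B.IsSymm)
    (hB : B.Nondegenerate) (hn : 2 ≤ Module.finrank F V) : ∃ u : V, B u u = 1 := by
  letI : Invertible (2 : F) := invertibleOfNonzero h2
  obtain ⟨v, hv⟩ := exists_orthogonal_basis (isSymm_iff.mp hS)
  have hne := LinearMap.BilinForm.iIsOrtho.not_isOrtho_basis_self_of_nondegenerate (B := B) (v := v) hv hB
  set i0 : Fin (Module.finrank F V) := ⟨0, by omega⟩ with hi0
  set i1 : Fin (Module.finrank F V) := ⟨1, by omega⟩ with hi1
  have h01 : i0 ≠ i1 := by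
    intro h
    simp [hi0, hi1, Fin.ext_iff] at h
  have ha := hne i0
  have hb := hne i1
  have hab : B (v i0) (v i1) = 0 := hv h01
  have hba : B (v i1) (v i0) = 0 := hv h01.symm
  set a := B (v i0) (v i0) with ha'
  set b := B (v i1) (v i1) with hb'
  have hf : (C a * X ^ 2 + C 0 * X + C 0 : F[X]).degree = 2 := degree_quadratic ha
  have hg : (C b * X ^ 2 + C 0 * X + C (-1) : F[X]).degree = 2 := degree_quadratic hb
  obtain ⟨x, y, hxy⟩ := FiniteField.exists_root_sum_quadratic hf hg
    (FiniteField.odd_card_of_char_ne_two (ringChar_ne_two' h2))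
  simp only [eval_add, eval_mul, eval_C, eval_pow, eval_X] at hxy
  refine ⟨x • v i0 + y • v i1, ?_⟩
  simp only [map_add, map_smul, LinearMap.add_apply, LinearMap.smul_apply, smul_eq_mul, hab, hba,
    ← ha', ← hb']
  linear_combination hxy

open LinearMap LinearMap.BilinForm in
theorem aux {F : Type*} [Field F] [Fintype F] (h2 : (2 : F) ≠ 0) (α : F) (hα : ¬ IsSquare α) (n : ℕ) :
    ∀ {V : Type*} [AddCommGroup V] [Module F V] [FiniteDimensional F V]
    (B : LinearMap.BilinForm F V), B.IsSymm → B.Nondegenerate → Module.finrank F V = n + 1 →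
    ∃ b : Fin (n + 1) → V, (∀ i j, i ≠ j → B (b i) (b j) = 0) ∧
      (∀ i, i ≠ Fin.last n → B (b i) (b i) = 1) ∧
      (B (b (Fin.last n)) (b (Fin.last n)) = 1 ∨ B (b (Fin.last n)) (b (Fin.last n)) = α) := by
  induction n with
  | zero =>
    intro V _ _ _ B hS hB hn
    letI : Invertible (2 : F) := invertibleOfNonzero h2
    obtain ⟨v, hv⟩ := exists_orthogonal_basis (isSymm_iff.mp hS)
    have hne := LinearMap.BilinForm.iIsOrtho.not_isOrtho_basis_self_of_nondegenerate (B := B) (v := v) hv hB
    set i0 : Fin (Module.finrank F V) := ⟨0, by omega⟩ with hi0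
    obtain ⟨s, hs0, hs⟩ := sq_or_alpha_sq h2 α hα _ (hne i0)
    refine ⟨fun _ => s • v i0, ?_, ?_, ?_⟩
    · intro i j hij
      exact absurd (by omega : i = j) hij
    · intro i hi
      exact absurd (by rw [Fin.ext_iff]; simp : i = Fin.last 0) hi
    · simp only [map_smul, LinearMap.smul_apply, smul_eq_mul]
      rcases hs with h | h
      · left; rw [← h]; ring
      · right; rw [← h]; ring
  | succ n ih =>
    intro V _ _ _ B hS hB hn
    obtain ⟨u, hu⟩ := exists_norm_one h2 B hS hB (by omega)
    have hu0 : B u u ≠ 0 := by rw [hu]; exact one_ne_zero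
    have hnd := restrict_nondegenerate_orthogonal_spanSingleton B hB hS.isRefl hu0
    have hu_ne : u ≠ 0 := by
      rintro rfl
      simp at hu0
    have hfr : Module.finrank F (B.orthogonal (Submodule.span F {u})) = n + 1 := by
      rw [finrank_orthogonal hB, hn, finrank_span_singleton hu_ne]
      omega
    obtain ⟨b', h1, h2', h3⟩ := ih (B.restrict (B.orthogonal (Submodule.span F {u})))
      (hS.restrict _) hnd hfr
    have hortho : ∀ i, B u (b' i : V) = 0 := by
      intro i
      have := (b' i).2
      rw [mem_orthogonal_iff] at this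
      exact this u (Submodule.mem_span_singleton_self u)
    have hortho' : ∀ i, B (b' i : V) u = 0 := by
      intro i
      rw [← hS.eq, hortho]
    refine ⟨Fin.cons u (fun i => (b' i : V)), ?_, ?_, ?_⟩
    · intro i j hij
      induction i using Fin.cases with
      | zero =>
        induction j using Fin.cases with
        | zero => exact absurd rfl hij
        | succ j => simpa using hortho j
      | succ i =>
        induction j using Fin.cases with
        | zero => simpa using hortho' i
        | succ j =>
          have := h1 i j (fun h => hij (by rw [h]))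
          simpa using this
    · intro i hi
      induction i using Fin.cases with
      | zero => simpa using hu
      | succ i =>
        have := h2' i (fun h => hi (by rw [h, Fin.succ_last]))
        simpa using this
    · rw [← Fin.succ_last]
      simpa using h3

/-- Classification of symmetric bilinear forms over finite fields of odd characteristic: if B is non-degenerate symmetric on V of dimension n + 1 and α is a fixed non-square of F, there is an orthogonal basis b_0, ..., b_n with B(b_i, b_i) = 1 for i < n and B(b_n, b_n) ∈ {1, α}. -/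
theorem result {F V : Type*} [Field F] [Finite F] [AddCommGroup V] [Module F V] [FiniteDimensional F V] (h2 : (2 : F) ≠ 0) (B : LinearMap.BilinForm F V) (hS : B.IsSymm) (hB : B.Nondegenerate) {n : ℕ} (hn : Module.finrank F V = n + 1) (α : F) (hα : ¬ IsSquare α) : ∃ b : Module.Basis (Fin (n + 1)) F V, (∀ i j, i ≠ j → B (b i) (b j) = 0) ∧ (∀ i, i ≠ Fin.last n → B (b i) (b i) = 1) ∧ (B (b (Fin.last n)) (b (Fin.last n)) = 1 ∨ B (b (Fin.last n)) (b (Fin.last n)) = α) := by
  haveI := Fintype.ofFinite F
  obtain ⟨b, h1, h2', h3⟩ := aux h2 α hα n B hS hB hn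
  have hα0 : α ≠ 0 := by
    rintro rfl
    exact hα ⟨0, by simp⟩
  have hli : LinearIndependent F b := by
    apply LinearMap.BilinForm.linearIndependent_of_iIsOrtho (B := B)
    · intro i j hij
      exact h1 i j hij
    · intro i
      by_cases hi : i = Fin.last n
      · subst hi
        rcases h3 with h | h
        · rw [h]; exact one_ne_zero
        · rw [h]; exact hα0
      · rw [h2' i hi]; exact one_ne_zero
  refine ⟨basisOfLinearIndependentOfCardEqFinrank hli (by simp [hn]), ?_⟩
  simp only [coe_basisOfLinearIndependentOfCardEqFinrank]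
  exact ⟨h1, h2', h3⟩

end Cfsg.Agent.S0756
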