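import Mathlib
import Cfsg.Statements.S0762

set_option autoImplicit false
open Cfsg

namespace Cfsg.Agent.S0762

/-- In characteristic two over a finite field, a quadratic form on a space of dimension at least 3 vanishes on some non-zero vector. -/
theorem result {F V : Type*} [Field F] [Finite F] [CharP F 2] [AddCommGroup V] [Module F V] [FiniteDimensional F V] (Q : QuadraticForm F V) (h3 : 3 ≤ Module.finrank F V) : ∃ v : V, v ≠ 0 ∧ Q v = 0 := by
  classical
  have hV : 0 < Module.finrank F V := by omega
  obtain ⟨u, hu⟩ := Module.finrank_pos_iff_exists_ne_zero.mp hV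
  by_cases hQu : Q u = 0
  · exact ⟨u, hu, hQu⟩
  -- the functional B(u, ·)
  set φ : V →ₗ[F] F := QuadraticMap.polarBilin Q u with hφ
  -- kernel has dimension ≥ 2
  have hker : 2 ≤ Module.finrank F (LinearMap.ker φ) := by
    have h1 := LinearMap.finrank_range_add_finrank_ker φ
    have h2 : Module.finrank F (LinearMap.range φ) ≤ 1 := by
      have := Submodule.finrank_le (LinearMap.range φ)
      simpa using this
    omega
  -- span {u} has dimension 1, so the kernel is not contained in it
  have hspan : Module.finrank F (Submodule.span F {u}) = 1 := finrank_span_singleton hu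
  obtain ⟨v, hvker, hvspan⟩ : ∃ v ∈ LinearMap.ker φ, v ∉ Submodule.span F {u} := by
    by_contra hcon
    push Not at hcon
    have hle : LinearMap.ker φ ≤ Submodule.span F {u} := hcon
    have := Submodule.finrank_mono hle
    omega
  have hB : QuadraticMap.polar Q u v = 0 := by
    have := LinearMap.mem_ker.mp hvker
    simpa [hφ] using this
  -- square roots exist
  have hsq : ∀ a : F, ∃ r : F, r ^ 2 = a := by
    intro a
    haveI : Fintype F := Fintype.ofFinite F
    have hinj : Function.Injective (frobenius F 2) := frobenius_inj F 2
    have hsurj : Function.Surjective (frobenius F 2) := Finite.surjective_of_injective hinj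
    obtain ⟨r, hr⟩ := hsurj a
    exact ⟨r, by simpa [frobenius_def] using hr⟩
  obtain ⟨a, ha⟩ := hsq (Q v / Q u)
  refine ⟨a • u + v, ?_, ?_⟩
  · intro h
    apply hvspan
    have : v = (-a) • u := by
      rw [neg_smul]
      exact eq_neg_of_add_eq_zero_right h
    rw [this]
    exact Submodule.smul_mem _ _ (Submodule.mem_span_singleton_self u)
  · rw [QuadraticMap.map_add (⇑Q) (a • u) v, QuadraticMap.map_smul, QuadraticMap.polar_smul_left, hB,
      smul_eq_mul, smul_eq_mul, mul_zero, add_zero, ← sq, ha, div_mul_cancel₀ _ hQu]
    have h2 : (2 : F) = 0 := CharTwo.two_eq_zero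
    linear_combination (Q v) * h2

end Cfsg.Agent.S0762
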