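import Mathlib
import Cfsg.Statements.S2616
import Cfsg.Agent.Helper13.QuadWitt2

set_option autoImplicit false
open Cfsg

namespace Cfsg.Agent.S2616

open Module Cfsg.Agent.Helper13

theorem result {F V : Type*} [Field F] [Finite F] [AddCommGroup V] [Module F V] [FiniteDimensional F V] {m : ℕ} (hm : 1 ≤ m) (hV : Module.finrank F V = 2 * m) (Q : QuadraticForm F V) (hQ : (QuadraticMap.polarBilin Q).Nondegenerate) : (∃ b : Module.Basis (Fin m ⊕ Fin m) F V, (∀ i, Q (b (Sum.inl i)) = 0 ∧ Q (b (Sum.inr i)) = 0) ∧ (∀ i j, QuadraticMap.polar ⇑Q (b (Sum.inl i)) (b (Sum.inr j)) = if i = j then 1 else 0) ∧ (∀ i j, QuadraticMap.polar ⇑Q (b (Sum.inl i)) (b (Sum.inl j)) = 0 ∧ QuadraticMap.polar ⇑Q (b (Sum.inr i)) (b (Sum.inr j)) = 0)) ∨ (∃ (b : Module.Basis ((Fin (m - 1) ⊕ Fin (m - 1)) ⊕ Fin 2) F V) (ζ : F), (∀ t : F, t ^ 2 + t + ζ ≠ 0) ∧ (∀ i, Q (b (Sum.inl (Sum.inl i))) = 0 ∧ Q (b (Sum.inl (Sum.inr i))) = 0) ∧ (∀ i j, QuadraticMap.polar ⇑Q (b (Sum.inl (Sum.inl i))) (b (Sum.inl (Sum.inr j))) = if i = j then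 1 else 0) ∧ (∀ i j, QuadraticMap.polar ⇑Q (b (Sum.inl (Sum.inl i))) (b (Sum.inl (Sum.inl j))) = 0 ∧ QuadraticMap.polar ⇑Q (b (Sum.inl (Sum.inr i))) (b (Sum.inl (Sum.inr j))) = 0) ∧ (∀ i (k : Fin 2), QuadraticMap.polar ⇑Q (b (Sum.inl (Sum.inl i))) (b (Sum.inr k)) = 0 ∧ QuadraticMap.polar ⇑Q (b (Sum.inl (Sum.inr i))) (b (Sum.inr k)) = 0) ∧ Q (b (Sum.inr 0)) = 1 ∧ QuadraticMap.polar ⇑Q (b (Sum.inr 0)) (b (Sum.inr 1)) = 1 ∧ Q (b (Sum.inr 1)) = ζ) := by
  classical
  have hQ' : ∀ v : V, (∀ w : V, QuadraticMap.polar Q v w = 0) → v = 0 := fun v hv => hQ.1 v hv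
  obtain ⟨m₀, e, f, A, h⟩ := exists_wittDecomp (finrank F V) Q rfl hQ'
  have hr := h.rank
  have hA := h.rankA
  have hfe : ∀ i j, QuadraticMap.polar Q (f i) (e j) = if i = j then 1 else 0 := fun i j => by
    rw [QuadraticMap.polar_comm, h.ef j i]
    simp only [eq_comm]
  have hA02 : finrank F A = 0 ∨ finrank F A = 2 := by omega
  rcases hA02 with hA0 | hA2
  · -- hyperbolic
    left
    have hm0 : m₀ = m := by omega
    subst hm0
    set v : Fin m₀ ⊕ Fin m₀ → V := Sum.elim e f with hv
    set w : Fin m₀ ⊕ Fin m₀ → V := Sum.elim f e with hw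
    have hLI : LinearIndependent F v := by
      apply linearIndependent_of_dual_polar Q v w
      · rintro (i | i) (j | j) hij
        · simp only [hv, hw, Sum.elim_inl]
          rw [h.ef, if_neg]
          intro hij'; exact hij (by rw [hij'])
        · exact h.ee i j
        · exact h.ff i j
        · simp only [hv, hw, Sum.elim_inr]
          rw [hfe, if_neg]
          intro hij'; exact hij (by rw [hij'])
      · rintro (i | i)
        · simp only [hv, hw, Sum.elim_inl]
          rw [h.ef, if_pos rfl]; exact one_ne_zero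
        · simp only [hv, hw, Sum.elim_inr]
          rw [hfe, if_pos rfl]; exact one_ne_zero
    have hcard : Fintype.card (Fin m₀ ⊕ Fin m₀) = finrank F V := by
      simp only [Fintype.card_sum, Fintype.card_fin]
      omega
    haveI : Nonempty (Fin m₀ ⊕ Fin m₀) := ⟨Sum.inl ⟨0, by omega⟩⟩
    refine ⟨basisOfLinearIndependentOfCardEqFinrank hLI hcard, ?_⟩
    rw [coe_basisOfLinearIndependentOfCardEqFinrank]
    exact ⟨fun i => ⟨h.Qe i, h.Qf i⟩, fun i j => h.ef i j, fun i j => ⟨h.ee i j, h.ff i j⟩⟩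
  · -- elliptic
    right
    have hm0 : m₀ = m - 1 := by omega
    subst hm0
    obtain ⟨x, hxA, y, hyA, hQx, hxy, hζ⟩ := exists_elliptic_pair Q A hA2 h.aniso h.nondegA
    set ζ : F := Q y with hζdef
    have h4 := four_mul_sub_one_ne_zero hζ
    have hxx : QuadraticMap.polar Q x x = 2 := by rw [polar_self', hQx, mul_one]
    have hyy : QuadraticMap.polar Q y y = 2 * ζ := by rw [polar_self']
    have hyx : QuadraticMap.polar Q y x = 1 := by rw [QuadraticMap.polar_comm]; exact hxy
    have hae : ∀ a ∈ A, ∀ i, QuadraticMap.polar Q a (e i) = 0 := fun a ha i => by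
      rw [QuadraticMap.polar_comm]; exact h.eA a ha i
    have haf : ∀ a ∈ A, ∀ i, QuadraticMap.polar Q a (f i) = 0 := fun a ha i => by
      rw [QuadraticMap.polar_comm]; exact h.fA a ha i
    set x' : V := (2 * ζ) • x - y with hx'
    set y' : V := x - (2 : F) • y with hy'
    have hx'A : x' ∈ A := A.sub_mem (A.smul_mem _ hxA) hyA
    have hy'A : y' ∈ A := A.sub_mem hxA (A.smul_mem _ hyA)
    set v : (Fin (m - 1) ⊕ Fin (m - 1)) ⊕ Fin 2 → V := Sum.elim (Sum.elim e f) ![x, y] with hv
    set w : (Fin (m - 1) ⊕ Fin (m - 1)) ⊕ Fin 2 → V := Sum.elim (Sum.elim f e) ![x', y'] with hw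
    have hvA : ∀ k : Fin 2, ![x, y] k ∈ A := by
      intro k; fin_cases k
      · exact hxA
      · exact hyA
    have hwA : ∀ k : Fin 2, ![x', y'] k ∈ A := by
      intro k; fin_cases k
      · exact hx'A
      · exact hy'A
    have hLI : LinearIndependent F v := by
      apply linearIndependent_of_dual_polar Q v w
      · rintro ((i | i) | k) ((j | j) | l) hij
        · simp only [hv, hw, Sum.elim_inl]
          rw [h.ef, if_neg]
          intro hij'; exact hij (by rw [hij'])
        · exact h.ee i j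
        · exact h.eA _ (hwA l) i
        · exact h.ff i j
        · simp only [hv, hw, Sum.elim_inl, Sum.elim_inr]
          rw [hfe, if_neg]
          intro hij'; exact hij (by rw [hij'])
        · exact h.fA _ (hwA l) i
        · exact haf _ (hvA k) j
        · exact hae _ (hvA k) j
        · simp only [hv, hw, Sum.elim_inr]
          fin_cases k <;> fin_cases l
          · exact absurd rfl hij
          · change QuadraticMap.polar (⇑Q) x y' = 0
            rw [hy', QuadraticMap.polar_sub_right, QuadraticMap.polar_smul_right, hxx, hxy]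
            simp
          · change QuadraticMap.polar (⇑Q) y x' = 0
            rw [hx', QuadraticMap.polar_sub_right, QuadraticMap.polar_smul_right, hyx, hyy]
            simp
          · exact absurd rfl hij
      · rintro ((i | i) | k)
        · simp only [hv, hw, Sum.elim_inl]
          rw [h.ef, if_pos rfl]; exact one_ne_zero
        · simp only [hv, hw, Sum.elim_inl, Sum.elim_inr]
          rw [hfe, if_pos rfl]; exact one_ne_zero
        · simp only [hv, hw, Sum.elim_inr]
          fin_cases k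
          · change QuadraticMap.polar (⇑Q) x x' ≠ 0
            rw [hx', QuadraticMap.polar_sub_right, QuadraticMap.polar_smul_right, hxx, hxy]
            intro h0
            apply h4
            simp only [smul_eq_mul] at h0
            linear_combination h0
          · change QuadraticMap.polar (⇑Q) y y' ≠ 0
            rw [hy', QuadraticMap.polar_sub_right, QuadraticMap.polar_smul_right, hyx, hyy]
            intro h0
            apply h4
            simp only [smul_eq_mul] at h0
            linear_combination -h0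
    have hcard : Fintype.card ((Fin (m - 1) ⊕ Fin (m - 1)) ⊕ Fin 2) = finrank F V := by
      simp only [Fintype.card_sum, Fintype.card_fin]
      omega
    refine ⟨basisOfLinearIndependentOfCardEqFinrank hLI hcard, ζ, hζ, ?_⟩
    rw [coe_basisOfLinearIndependentOfCardEqFinrank]
    refine ⟨fun i => ⟨h.Qe i, h.Qf i⟩, fun i j => h.ef i j, fun i j => ⟨h.ee i j, h.ff i j⟩,
      fun i k => ⟨h.eA _ (hvA k) i, h.fA _ (hvA k) i⟩, hQx, hxy, rfl⟩

end Cfsg.Agent.S2616
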