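import Mathlib
import Cfsg.Statements.S2611
import Cfsg.Agent.Helper28.Spin9

set_option autoImplicit false

namespace Cfsg.Agent.S2611

open Matrix Cfsg.Agent.Helper28.Spin

theorem tv_mem {F : Type*} [Field F] [Fintype F] {m : ℕ} (h : Fintype.card F ≠ 2 ∨ m ≠ 2)
    (t : Matrix.TransvectionStruct (Fin m) F) :
    tvGL t.i t.j t.hij t.c ∈ commutator (GL (Fin m) F) := by
  classical
  rcases h with h | h
  · have h3 : 2 < Fintype.card F := by
      have : 1 < Fintype.card F := Fintype.one_lt_card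
      omega
    obtain ⟨a, b, c, hab, hac, hbc⟩ := Fintype.two_lt_card_iff.1 h3
    have : ∃ l : F, l ≠ 0 ∧ l ≠ 1 := by
      by_cases ha0 : a = 0
      · by_cases hb1 : b = 1
        · refine ⟨c, ?_, ?_⟩
          · rw [← ha0]; exact Ne.symm hac
          · rw [← hb1]; exact Ne.symm hbc
        · exact ⟨b, by rw [← ha0]; exact Ne.symm hab, hb1⟩
      · by_cases ha1 : a = 1
        · by_cases hb0 : b = 0
          · refine ⟨c, ?_, ?_⟩
            · rw [← hb0]; exact Ne.symm hbc
            · rw [← ha1]; exact Ne.symm hac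
          · exact ⟨b, hb0, by rw [← ha1]; exact Ne.symm hab⟩
        · exact ⟨a, ha0, ha1⟩
    obtain ⟨l, hl0, hl1⟩ := this
    exact tv_mem_commutator_of_three t.i t.j t.hij t.c l hl0 hl1
  · have hcard : ({t.i, t.j} : Finset (Fin m)).card < (Finset.univ : Finset (Fin m)).card := by
      rw [Finset.card_pair t.hij, Finset.card_univ, Fintype.card_fin]
      have h1 : (t.i : ℕ) < m := t.i.2
      have h2 : (t.j : ℕ) < m := t.j.2
      have h3 : (t.i : ℕ) ≠ t.j := fun h' => t.hij (Fin.ext h')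
      omega
    obtain ⟨k, -, hk⟩ := Finset.exists_mem_notMem_of_card_lt_card hcard
    simp only [Finset.mem_insert, Finset.mem_singleton, not_or] at hk
    exact tv_mem_commutator_of_third t.i t.j k t.hij (Ne.symm hk.1) hk.2 t.c

theorem result {F : Type*} [Field F] [Fintype F] {m : ℕ} (hm : 1 ≤ m) (h : Fintype.card F ≠ 2 ∨ m ≠ 2) (A : GL (Fin m) F) : (∃ g : ↥(Cfsg.isometryGroup F (Cfsg.quadFormPlus m F)), g ∈ Cfsg.Omega F (Cfsg.quadFormPlus m F) ∧ ((g : Matrix.GeneralLinearGroup (Fin m ⊕ Fin m) F) : Matrix (Fin m ⊕ Fin m) (Fin m ⊕ Fin m) F) = Matrix.fromBlocks (A : Matrix (Fin m) (Fin m) F) 0 0 ((A : Matrix (Fin m) (Fin m) F)⁻¹).transpose) ↔ IsSquare (A : Matrix (Fin m) (Fin m) F).det := by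
  classical
  rw [← QfPlus_coe]
  obtain ⟨L, L', D, hM⟩ :=
    Matrix.Pivot.exists_list_transvec_mul_diagonal_mul_list_transvec (A : Matrix (Fin m) (Fin m) F)
  have hdet : (A : Matrix (Fin m) (Fin m) F).det = ∏ j, D j := by
    rw [hM, Matrix.det_mul, Matrix.det_mul, Matrix.TransvectionStruct.det_toMatrix_prod,
      Matrix.TransvectionStruct.det_toMatrix_prod, Matrix.det_diagonal]
    ring
  have hdet0 : (A : Matrix (Fin m) (Fin m) F).det ≠ 0 := by
    have := (Matrix.isUnit_iff_isUnit_det _).1 A.isUnit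
    exact this.ne_zero
  have hD : ∀ j, D j ≠ 0 := by
    intro j h0
    apply hdet0
    rw [hdet]
    exact Finset.prod_eq_zero (Finset.mem_univ j) h0
  -- the GL elements
  set P : GL (Fin m) F := (L.map (fun t => tvGL t.i t.j t.hij t.c)).prod with hP
  set P' : GL (Fin m) F := (L'.map (fun t => tvGL t.i t.j t.hij t.c)).prod with hP'
  have hval : ∀ l : List (Matrix.TransvectionStruct (Fin m) F),
      (((l.map (fun t => tvGL t.i t.j t.hij t.c)).prod : GL (Fin m) F) : Matrix (Fin m) (Fin m) F) =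
        (l.map Matrix.TransvectionStruct.toMatrix).prod := by
    intro l
    induction l with
    | nil => simp
    | cons a l ih =>
      simp only [List.map_cons, List.prod_cons, Units.val_mul, ih]
      rfl
  have hmemP : ∀ l : List (Matrix.TransvectionStruct (Fin m) F),
      (l.map (fun t => tvGL t.i t.j t.hij t.c)).prod ∈ commutator (GL (Fin m) F) := by
    intro l
    apply Subgroup.list_prod_mem
    intro x hx
    obtain ⟨t, -, rfl⟩ := List.mem_map.1 hx
    exact tv_mem h t
  have hA : A = P * diagGL D hD * P' := by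
    apply Units.ext
    simp only [Units.val_mul, hP, hP', hval]
    exact hM
  have hΩ : embGL A ∈ Cfsg.Omega F ⇑(QfPlus m F) ↔ IsSquare (A : Matrix (Fin m) (Fin m) F).det := by
    rw [hA, map_mul, map_mul,
      Subgroup.mul_mem_cancel_right _ (embGL_mem_Omega (hmemP L')),
      Subgroup.mul_mem_cancel_left _ (embGL_mem_Omega (hmemP L)), embGL_diag_mem_iff, ← hA, hdet]
  have hmat : ((embGL A : GL (Fin m ⊕ Fin m) F) : Matrix (Fin m ⊕ Fin m) (Fin m ⊕ Fin m) F) =
      Matrix.fromBlocks (A : Matrix (Fin m) (Fin m) F) 0 0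
        ((A : Matrix (Fin m) (Fin m) F)⁻¹).transpose := by
    rw [embGL_val, Matrix.coe_units_inv]
  rw [← hΩ]
  constructor
  · rintro ⟨g, hgΩ, hg⟩
    have : g = embGL A := by
      apply Subtype.ext
      apply Units.ext
      rw [hg, hmat]
    rw [← this]; exact hgΩ
  · intro hA'
    exact ⟨embGL A, hA', hmat⟩

end Cfsg.Agent.S2611
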