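import Cfsg.Statements.S0228
import Mathlib
import Cfsg.Agent.Helper2.PermEmbed
import Cfsg.Agent.Helper2.Invol

set_option autoImplicit false
open Cfsg

namespace Cfsg.Agent.S0228

/-- A group of order 12 in which no involution is central is isomorphic to the alternating group on four letters. -/
theorem result {G : Type*} [Group G] [Finite G] (hG : Nat.card G = 12) (hz : ∀ z : G, orderOf z = 2 → z ∉ Subgroup.center G) : Nonempty (G ≃* alternatingGroup (Fin 4)) := by
  classical
  have : Fact (Nat.Prime 2) := ⟨Nat.prime_two⟩
  have : Fact (Nat.Prime 3) := ⟨Nat.prime_three⟩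
  obtain ⟨Q⟩ : Nonempty (Sylow 3 G) := inferInstance
  obtain ⟨P⟩ : Nonempty (Sylow 2 G) := inferInstance
  have hfac3 : (12 : ℕ).factorization 3 = 1 := by
    have e : (12 : ℕ) = 3 ^ 1 * 4 := by norm_num
    rw [e, Nat.factorization_mul (by norm_num) (by norm_num),
      Nat.Prime.factorization_pow Nat.prime_three]
    simp [Nat.factorization_eq_zero_of_not_dvd (show ¬ 3 ∣ 4 by norm_num)]
  have hfac2 : (12 : ℕ).factorization 2 = 2 := by
    have e : (12 : ℕ) = 2 ^ 2 * 3 := by norm_num
    rw [e, Nat.factorization_mul (by norm_num) (by norm_num),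
      Nat.Prime.factorization_pow Nat.prime_two]
    simp [Nat.factorization_eq_zero_of_not_dvd (show ¬ 2 ∣ 3 by norm_num)]
  have hQ : Nat.card Q = 3 := by
    rw [Sylow.card_eq_multiplicity, hG, hfac3]; norm_num
  have hP : Nat.card P = 4 := by
    rw [Sylow.card_eq_multiplicity, hG, hfac2]; norm_num
  by_cases hQn : (Q : Subgroup G).Normal
  · -- Q normal: produce a central involution
    exfalso
    -- a generator q of Q
    obtain ⟨q, hq⟩ := exists_prime_orderOf_dvd_card' 3 (show 3 ∣ Nat.card Q by rw [hQ])
    have hq1 : (q : G) ≠ 1 := by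
      intro h
      have : q = 1 := Subtype.ext h
      rw [this, orderOf_one] at hq
      norm_num at hq
    have hqo : orderOf (q : G) = 3 := by rw [Subgroup.orderOf_coe]; exact hq
    have hQz : (Q : Subgroup G) = Subgroup.zpowers (q : G) := by
      symm
      apply Subgroup.eq_of_le_of_card_ge (Subgroup.zpowers_le.mpr q.2)
      rw [hQ, Nat.card_zpowers, hqo]
    -- conjugates of q by elements of P lie in {q, q²}
    have hconj : ∀ p : (P : Subgroup G), (p : G) * q * (p : G)⁻¹ = q ∨ (p : G) * q * (p : G)⁻¹ = (q : G) ^ 2 := by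
      intro p
      have hmem : (p : G) * q * (p : G)⁻¹ ∈ (Q : Subgroup G) := hQn.conj_mem q q.2 p
      have hmem' : (p : G) * q * (p : G)⁻¹ ∈ Subgroup.zpowers (q : G) := (le_of_eq hQz) hmem
      obtain ⟨k, hk⟩ := Subgroup.mem_zpowers_iff.mp hmem'
      have hq3 : (q : G) ^ 3 = 1 := by
        have := pow_orderOf_eq_one (q : G)
        rwa [hqo] at this
      have hk3 : k % 3 = 0 ∨ k % 3 = 1 ∨ k % 3 = 2 := by omega
      have hkk : k = 3 * (k / 3) + k % 3 := by omega
      rcases hk3 with h0 | h1 | h2
      · exfalso
        rw [hkk, h0, add_zero, zpow_mul, zpow_ofNat, hq3, one_zpow] at hk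
        apply hq1
        have := congrArg (fun t => (p : G)⁻¹ * t * (p : G)) hk
        simpa [mul_assoc] using this.symm
      · left
        rw [hkk, h1, zpow_add, zpow_mul, zpow_ofNat, hq3, one_zpow, one_mul, zpow_one] at hk
        exact hk.symm
      · right
        rw [hkk, h2, zpow_add, zpow_mul, zpow_ofNat, hq3, one_zpow, one_mul] at hk
        rw [← hk, zpow_ofNat]
    -- pigeonhole: two elements of P act the same way
    have hPcomm : ∀ a b : (P : Subgroup G), a * b = b * a :=
      IsPGroup.commutative_of_card_eq_prime_sq (p := 2) (by rw [hP]; norm_num)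
    have hex : ∃ w : (P : Subgroup G), w ≠ 1 ∧ (w : G) * q * (w : G)⁻¹ = q := by
      by_contra hcon
      push Not at hcon
      -- every nonidentity element inverts q
      have hinv : ∀ w : (P : Subgroup G), w ≠ 1 → (w : G) * q * (w : G)⁻¹ = (q : G) ^ 2 := by
        intro w hw
        rcases hconj w with h | h
        · exact absurd h (hcon w hw)
        · exact h
      have h2 : 2 < Nat.card (P : Subgroup G) := by rw [hP]; norm_num
      haveI : Fintype (P : Subgroup G) := Fintype.ofFinite _
      rw [Nat.card_eq_fintype_card] at h2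
      obtain ⟨a, b, c, hab, hac, hbc⟩ := Fintype.two_lt_card_iff.mp h2
      -- pick two distinct nonidentity elements
      have key : ∀ u v : (P : Subgroup G), u ≠ 1 → v ≠ 1 → u ≠ v → False := by
        intro u v hu hv huv
        have hne : u⁻¹ * v ≠ 1 := by
          intro h
          apply huv
          have := congrArg (fun t => u * t) h
          simpa using this.symm
        have h1 := hinv u hu
        have h2 := hinv v hv
        have h3 := hinv (u⁻¹ * v) hne
        have h4 : ((u⁻¹ * v : (P : Subgroup G)) : G) * q * ((u⁻¹ * v : (P : Subgroup G)) : G)⁻¹ = q := by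
          have e : ((u⁻¹ * v : (P : Subgroup G)) : G) = (u : G)⁻¹ * (v : G) := by simp
          rw [e]
          calc (u : G)⁻¹ * (v : G) * q * ((u : G)⁻¹ * (v : G))⁻¹
              = (u : G)⁻¹ * ((v : G) * q * (v : G)⁻¹) * (u : G) := by group
            _ = (u : G)⁻¹ * ((u : G) * q * (u : G)⁻¹) * (u : G) := by rw [h2, h1]
            _ = q := by group
        exact hcon _ hne h4
      by_cases ha : a = 1
      · subst ha
        exact key b c (fun h => hab h.symm) (fun h => hac h.symm) hbc
      · by_cases hb : b = 1
        · subst hb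
          exact key a c ha (fun h => hbc h.symm) hac
        · exact key a b ha hb hab
    obtain ⟨w, hw1, hwq⟩ := hex
    -- an involution z in P centralizing q
        -- order of w is 2 or 4
    have hw4 : w ^ 4 = 1 := by
      have := orderOf_dvd_natCard w
      rw [hP] at this
      exact orderOf_dvd_iff_pow_eq_one.mp this
    have hzex : ∃ z : (P : Subgroup G), orderOf z = 2 ∧ (z : G) * q * (z : G)⁻¹ = q := by
      by_cases hw2 : w ^ 2 = 1
      · refine ⟨w, ?_, hwq⟩
        exact orderOf_eq_prime hw2 hw1
      · refine ⟨w ^ 2, ?_, ?_⟩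
        · apply orderOf_eq_prime
          · rw [← pow_mul]; exact hw4
          · exact hw2
        · have e : ((w ^ 2 : (P : Subgroup G)) : G) = (w : G) * (w : G) := by simp [pow_two]
          rw [e]
          calc (w : G) * (w : G) * q * ((w : G) * (w : G))⁻¹
              = (w : G) * ((w : G) * q * (w : G)⁻¹) * (w : G)⁻¹ := by group
            _ = q := by rw [hwq, hwq]
    obtain ⟨z, hzo, hzq⟩ := hzex
    have hzo' : orderOf (z : G) = 2 := by rw [Subgroup.orderOf_coe]; exact hzo
    apply hz (z : G) hzo'
    -- the centralizer of z contains P and Q, hence is everything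
    have hPle : (P : Subgroup G) ≤ Subgroup.centralizer ({(z : G)} : Set G) := by
      intro p hp
      rw [Subgroup.mem_centralizer_singleton_iff]
      have := hPcomm ⟨p, hp⟩ z
      exact congrArg Subtype.val this
    have hQle : (Q : Subgroup G) ≤ Subgroup.centralizer ({(z : G)} : Set G) := by
      rw [hQz, Subgroup.zpowers_le, Subgroup.mem_centralizer_singleton_iff]
      calc (q : G) * z = ((z : G) * q * (z : G)⁻¹) * z := by rw [hzq]
        _ = z * q := by group
    have h4 : 4 ∣ Nat.card (Subgroup.centralizer ({(z : G)} : Set G)) := by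
      rw [← hP]; exact Subgroup.card_dvd_of_le hPle
    have h3 : 3 ∣ Nat.card (Subgroup.centralizer ({(z : G)} : Set G)) := by
      rw [← hQ]; exact Subgroup.card_dvd_of_le hQle
    have h12 : 12 ∣ Nat.card (Subgroup.centralizer ({(z : G)} : Set G)) := by
      have : Nat.Coprime 4 3 := by norm_num
      exact this.mul_dvd_of_dvd_of_dvd h4 h3
    have htop : Subgroup.centralizer ({(z : G)} : Set G) = ⊤ := by
      apply Subgroup.eq_top_of_le_card
      rw [hG]
      exact Nat.le_of_dvd Nat.card_pos h12
    rw [Subgroup.mem_center_iff]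
    intro g
    have : g ∈ Subgroup.centralizer ({(z : G)} : Set G) := htop ▸ Subgroup.mem_top g
    exact Subgroup.mem_centralizer_singleton_iff.mp this
  · -- Q not normal: faithful action on the 4 cosets of Q
    have hidx : (Q : Subgroup G).index = 4 := by
      have := (Q : Subgroup G).card_mul_index
      rw [hQ, hG] at this
      omega
    have hker : (MulAction.toPermHom G (G ⧸ (Q : Subgroup G))).ker = ⊥ := by
      rw [← Subgroup.normalCore_eq_ker]
      have hle := (Q : Subgroup G).normalCore_le
      have hdvd := Subgroup.card_dvd_of_le hle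
      rw [hQ] at hdvd
      rcases (Nat.dvd_prime Nat.prime_three).mp hdvd with h1 | h3
      · exact Subgroup.card_eq_one.mp h1
      · exfalso
        apply hQn
        have : (Q : Subgroup G).normalCore = Q :=
          Subgroup.eq_of_le_of_card_ge hle (by rw [h3, hQ])
        rw [← this]
        exact Subgroup.normalCore_normal _
    have hinj : Function.Injective (MulAction.toPermHom G (G ⧸ (Q : Subgroup G))) :=
      (MonoidHom.ker_eq_bot_iff _).mp hker
    exact Cfsg.Agent.Helper2.nonempty_mulEquiv_alternatingGroup_of_injective 4 _ hinj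
      (by rw [← Subgroup.index_eq_card, hidx]) (by rw [hG]; rfl)

end Cfsg.Agent.S0228
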