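import Cfsg.Statements.S3897
import Mathlib
import Cfsg.Agent.Helper1.PElemCls1
import Cfsg.Agent.Helper9.Burnside

set_option autoImplicit false
open Cfsg

namespace Cfsg.Agent.S3897

/-- Let p be an odd prime and G a finite group with Sylow p-subgroup P, and write k_p(G) for the number of conjugacy classes of G consisting of p-elements (elements of p-power order, the identity included). Then k_p(G) > (p + 1)|P|/(2p) if and only if G has a normal p-complement and P is abelian. -/
theorem result {G : Type*} [Group G] [Finite G] {p : ℕ} [Fact p.Prime] (hp : p ≠ 2) (P : Sylow p G) :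
    (p + 1) * Nat.card ↥(P : Subgroup G) < 2 * p * Nat.card {c : ConjClasses G // ∀ x ∈ c.carrier, ∃ k : ℕ, orderOf x = p ^ k} ↔
      Cfsg.HasNormalPComplement p G ∧ IsMulCommutative ↥(P : Subgroup G) := by
  constructor
  · intro h
    have hNC := Cfsg.Agent.Helper1.PElemCls.normalizer_le_centralizer_of_many P h
    refine ⟨Cfsg.Agent.Helper9.hasNormalPComplement_of_normalizer_le_centralizer P hNC, ?_⟩
    refine ⟨⟨fun a b => ?_⟩⟩
    have hb : (b : G) ∈ Subgroup.centralizer (((P : Subgroup G)) : Set G) :=
      hNC (Subgroup.le_normalizer b.2)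
    apply Subtype.ext
    have := (Subgroup.mem_centralizer_iff.mp hb) (a : G) a.2
    simpa using this
  · rintro ⟨⟨P', K, hKn, hK⟩, hab⟩
    haveI := hKn
    have hK' := Cfsg.Agent.Helper1.PElemCls.isComplement'_sylow P P' K hK
    have hle := Cfsg.Agent.Helper1.PElemCls.card_le_classes_of_complement P K hK' hab
    have hpos : 0 < Nat.card (P : Subgroup G) := Nat.card_pos
    have hp2 : 2 ≤ p := (Fact.out : p.Prime).two_le
    have hp3 : 3 ≤ p := by omega
    calc (p + 1) * Nat.card (P : Subgroup G) < 2 * p * Nat.card (P : Subgroup G) := by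
          apply Nat.mul_lt_mul_of_pos_right _ hpos
          omega
      _ ≤ _ := Nat.mul_le_mul_left _ hle

end Cfsg.Agent.S3897
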