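import Cfsg.Statements.S0581
import Mathlib
import Cfsg.Agent.Helper29.Schmidt
import Cfsg.Agent.Helper29.NilpHall
import Cfsg.Agent.Lead.Compl

set_option autoImplicit false
open Pointwise
open Cfsg

namespace Cfsg.Agent.S0581

open Subgroup
open Cfsg.Agent.Helper29
open Cfsg.Agent.Lead (mem_conj_smul_iff card_conj_smul)

section
variable {G : Type*} [Group G] [Finite G]

theorem card_lt_of_lt {L K : Subgroup G} (h : L < K) : Nat.card L < Nat.card K := by
  rcases eq_or_lt_of_le (Subgroup.card_le_of_le h.le) with he | hl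
  · exact absurd (Subgroup.eq_of_le_of_card_ge h.le he.ge) h.ne
  · exact hl

/-- The structural step: a nontrivial `K` all of whose proper subgroups are nilpotent splits as
`T ⊔ P` with `T` a proper normal `p'`-subgroup and `P` a `p`-subgroup. -/
theorem exists_split (K : Subgroup G) (hKbot : K ≠ ⊥)
    (hprop : ∀ L : Subgroup G, L < K → Group.IsNilpotent L) :
    ∃ (p : ℕ) (_ : Fact p.Prime) (T P : Subgroup G), p ∣ Nat.card K ∧ T < K ∧
      K ≤ normalizer (T : Set G) ∧ (Nat.card T).Coprime p ∧ P ≤ K ∧ IsPGroup p P ∧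
      K ≤ T ⊔ P := by
  have hmapK : ∀ L : Subgroup K, L.map K.subtype ≤ K := by
    rintro L _ ⟨x, _, rfl⟩
    exact x.2
  have hmap_ne : ∀ L : Subgroup K, L ≠ ⊤ → L.map K.subtype < K := by
    intro L hL
    refine lt_of_le_of_ne (hmapK L) ?_
    intro h
    apply hL
    apply Subgroup.map_injective K.subtype_injective
    rw [h, ← MonoidHom.range_eq_map, Subgroup.range_subtype]
  by_cases hKnil : Group.IsNilpotent K
  · have hcardK : 1 < Nat.card K := (Subgroup.one_lt_card_iff_ne_bot K).mpr hKbot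
    obtain ⟨p, hp, hpK⟩ := Nat.exists_prime_and_dvd hcardK.ne'
    have hpF : Fact p.Prime := ⟨hp⟩
    obtain ⟨P'⟩ : Nonempty (Sylow p K) := inferInstance
    have hP'n : (P' : Subgroup K).Normal := inferInstance
    obtain ⟨T', hT'⟩ := Subgroup.exists_right_complement'_of_coprime P'.card_coprime_index
    have hT'card : (Nat.card T').Coprime p := by
      have h1 : (P' : Subgroup K).index = Nat.card T' := hT'.symm.index_eq_card
      rw [← h1, Nat.coprime_comm, Nat.Prime.coprime_iff_not_dvd hp]
      exact P'.not_dvd_index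
    have hP'ne : (P' : Subgroup K) ≠ ⊥ := P'.ne_bot_of_dvd_card hpK
    have hT'top : T' ≠ ⊤ := by
      intro h
      have := hT'.disjoint
      rw [h, disjoint_top] at this
      exact hP'ne this
    have hcomm := commute_of_pgroup_of_coprime (X := K) P'.isPGroup' hT'card
    have hT'n : T'.Normal := by
      constructor
      intro t ht k
      have hk : k ∈ (P' : Subgroup K) ⊔ T' := hT'.sup_eq_top ▸ mem_top k
      obtain ⟨a, ha, u, hu, rfl⟩ := mem_sup_of_normal_left.mp hk
      have h1 : u * t * u⁻¹ ∈ T' := T'.mul_mem (T'.mul_mem hu ht) (T'.inv_mem hu)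
      have h2 : a * u * t * (a * u)⁻¹ = u * t * u⁻¹ := by
        have := hcomm a ha _ h1
        calc a * u * t * (a * u)⁻¹ = a * (u * t * u⁻¹) * a⁻¹ := by group
          _ = u * t * u⁻¹ := by rw [this]; group
      rw [h2]
      exact h1
    refine ⟨p, hpF, T'.map K.subtype, (P' : Subgroup K).map K.subtype, hpK, hmap_ne T' hT'top,
      ?_, ?_, hmapK _, P'.isPGroup'.map _, ?_⟩
    · apply le_normalizer_of_conj_mem
      rintro k hk _ ⟨t, ht, rfl⟩
      exact ⟨⟨k, hk⟩ * t * ⟨k, hk⟩⁻¹, hT'n.conj_mem t ht _, by simp⟩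
    · rw [Subgroup.card_subtype]
      exact hT'card
    · rw [← Subgroup.map_sup, sup_comm, hT'.sup_eq_top, ← MonoidHom.range_eq_map,
        Subgroup.range_subtype]
  · have hmin : Cfsg.IsMinimalNonNilpotent K := by
      refine ⟨hKnil, fun L hL => ?_⟩
      have := hprop _ (hmap_ne L hL)
      exact Group.nilpotent_of_mulEquiv
        (L.equivMapOfInjective K.subtype K.subtype_injective).symm
    obtain ⟨p, q, hp, hq, hpq, P', Q', -, hQ'n, hPQ'⟩ := schmidt_structure hmin
    have hpF : Fact p.Prime := ⟨hp⟩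
    have hqF : Fact q.Prime := ⟨hq⟩
    have hQ'top : (Q' : Subgroup K) ≠ ⊤ := by
      intro h
      apply hKnil
      have : IsPGroup q K := by
        have := Q'.isPGroup'
        rw [h] at this
        exact this.of_equiv Subgroup.topEquiv
      exact this.isNilpotent
    have hP'ne : (P' : Subgroup K) ≠ ⊥ := by
      intro h
      apply hQ'top
      rw [← hPQ', h, bot_sup_eq]
    have hpK : p ∣ Nat.card K := by
      by_contra hnd
      apply hP'ne
      have h1 := P'.card_eq_multiplicity
      rw [Nat.factorization_eq_zero_of_not_dvd hnd, pow_zero] at h1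
      exact Subgroup.card_eq_one.mp h1
    refine ⟨p, hpF, (Q' : Subgroup K).map K.subtype, (P' : Subgroup K).map K.subtype, hpK,
      hmap_ne _ hQ'top, ?_, ?_, hmapK _, P'.isPGroup'.map _, ?_⟩
    · apply le_normalizer_of_conj_mem
      rintro k hk _ ⟨t, ht, rfl⟩
      exact ⟨⟨k, hk⟩ * t * ⟨k, hk⟩⁻¹, hQ'n.conj_mem t ht _, by simp⟩
    · rw [Subgroup.card_subtype]
      obtain ⟨n, hn⟩ := IsPGroup.iff_card.mp Q'.isPGroup'
      rw [hn]
      exact Nat.Coprime.pow_left n ((Nat.coprime_primes hq hp).mpr hpq.symm)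
    · rw [← Subgroup.map_sup, sup_comm, hPQ', ← MonoidHom.range_eq_map,
        Subgroup.range_subtype]

theorem main (H : Subgroup G) (hH : Group.IsNilpotent H)
    (hHall : (Nat.card H).Coprime H.index) (n : ℕ) :
    ∀ K : Subgroup G, Nat.card K = n →
      (∀ p : ℕ, p.Prime → p ∣ Nat.card K → p ∣ Nat.card H) →
      ∃ x : G, K ≤ MulAut.conj x • H := by
  induction n using Nat.strong_induction_on with
  | _ n ih =>
  intro K hn hK
  by_cases hKbot : K = ⊥
  · exact ⟨1, hKbot ▸ bot_le⟩
  have hIH : ∀ L : Subgroup G, L < K → ∃ x : G, L ≤ MulAut.conj x • H := by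
    intro L hL
    have hlt : Nat.card L < n := hn ▸ card_lt_of_lt hL
    exact ih _ hlt L rfl
      (fun p hp hpL => hK p hp (hpL.trans (Subgroup.card_dvd_of_le hL.le)))
  have hprop : ∀ L : Subgroup G, L < K → Group.IsNilpotent L := by
    intro L hL
    obtain ⟨x, hx⟩ := hIH L hL
    exact nilpotent_of_le hx (nilpotent_conj_smul x hH)
  obtain ⟨p, hpF, T, P, hpK, hTK, hKN, hTp, hPK, hPp, hKTP⟩ := exists_split K hKbot hprop
  obtain ⟨y, hy⟩ := hIH T hTK
  set H' : Subgroup G := MulAut.conj y • H with hH'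
  have hH'nil : Group.IsNilpotent H' := nilpotent_conj_smul y hH
  have hH'card : Nat.card H' = Nat.card H := card_conj_smul y H
  have hH'hall : (Nat.card H').Coprime H'.index := by
    have h1 := Subgroup.card_mul_index H'
    have h2 := Subgroup.card_mul_index H
    rw [hH'card] at h1 ⊢
    have : H'.index = H.index := Nat.eq_of_mul_eq_mul_left Nat.card_pos (h1.trans h2.symm)
    rw [this]
    exact hHall
  have hpH' : p ∣ Nat.card H' := hH'card ▸ hK p hpF.out hpK
  obtain ⟨S⟩ : Nonempty (Sylow p H') := inferInstance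
  obtain ⟨S', hS'⟩ := exists_sylow_eq_map_of_hall hH'hall hpH' S
  have hS'H' : (S' : Subgroup G) ≤ H' := by
    rw [hS']
    rintro _ ⟨s, _, rfl⟩
    exact s.2
  have hcomm := commute_of_le_nilpotent_of_coprime hH'nil hS'H' hy S'.isPGroup' hTp
  have hS'N : (S' : Subgroup G) ≤ normalizer (T : Set G) := by
    apply le_normalizer_of_conj_mem
    intro k hk x hx
    rw [hcomm k hk x hx, mul_inv_cancel_right]
    exact hx
  obtain ⟨x, hxN, hxP⟩ := exists_conj_le_sylow S' hS'N (hPK.trans hKN) hPp
  have hxT : MulAut.conj x • T ≤ T := by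
    intro t ht
    rw [mem_conj_smul_iff] at ht
    have := (mem_normalizer_iff.mp hxN _).mp ht
    simpa [mul_assoc] using this
  have h2 : MulAut.conj x • (T ⊔ P) ≤ H' := by
    rw [Subgroup.smul_sup]
    exact sup_le (hxT.trans hy) (hxP.trans hS'H')
  refine ⟨x⁻¹ * y, ?_⟩
  intro k hk
  have h1 : x * k * x⁻¹ ∈ H' := by
    apply h2
    rw [mem_conj_smul_iff]
    have : x⁻¹ * (x * k * x⁻¹) * x = k := by group
    rw [this]
    exact hKTP hk
  rw [hH', mem_conj_smul_iff] at h1
  rw [mem_conj_smul_iff]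
  have e : (x⁻¹ * y)⁻¹ * k * (x⁻¹ * y) = y⁻¹ * (x * k * x⁻¹) * y := by group
  rw [e]
  exact h1

end

/-- Let H be a nilpotent subgroup of a finite group G whose order is coprime to its index, and K a subgroup every prime divisor of whose order divides the order of H. Then K lies in some conjugate of H. -/
theorem result {G : Type*} [Group G] [Finite G] (H K : Subgroup G) (hH : Group.IsNilpotent H) (hHall : (Nat.card H).Coprime H.index) (hK : ∀ p : ℕ, p.Prime → p ∣ Nat.card K → p ∣ Nat.card H) : ∃ x : G, K ≤ MulAut.conj x • H :=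
  main H hH hHall _ K rfl hK

end Cfsg.Agent.S0581
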