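import Cfsg.Statements.S5065
import Cfsg.Agent.Helper25.QPDefs2
import Cfsg.Agent.Helper9.QPS5065U
import Cfsg.Agent.Helper7.QPOPP
import Cfsg.Agent.Helper5.QPDECOMP
import Cfsg.Agent.Helper15.QPFIXC
import Cfsg.Agent.Helper10.QPRK1
import Cfsg.Agent.Helper19.QPSPEC
import Cfsg.Agent.Helper19.QPINV65
import Cfsg.Agent.Helper4.QPROOT

set_option autoImplicit false
universe u
open Cfsg

namespace Cfsg.Agent.S5065

open Cfsg.Agent.QPP in
/-- an endomorphism is determined by its values on two complementary subspaces -/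
theorem ext_of_isCompl {k : Type*} [Field k] {M : Type*} [AddCommGroup M] [Module k M]
    {P Q : Submodule k M} (h : IsCompl P Q) {f g : Module.End k M}
    (hP : ∀ m ∈ P, f m = g m) (hQ : ∀ m ∈ Q, f m = g m) : f = g := by
  apply LinearMap.ext
  intro m
  have hm : m ∈ P ⊔ Q := by rw [h.sup_eq_top]; trivial
  obtain ⟨p, hp, q, hq, rfl⟩ := Submodule.mem_sup.1 hm
  rw [map_add, map_add, hP p hp, hQ q hq]


/-- Let k be a field of characteristic not 2 with k not of order 3, M a finite-dimensional k-vector space and G ≤ GL(M) such that (G, M) is a quadratic pair (M irreducible for G, and G generated by its quadratically acting elements σ whose scalar family 1 + c(σ − 1), c ∈ k, lies in G). Write 𝒬_d for the quadratic elements of G of minimal commutator rank, E(σ) for the subgroup generated by the members of 𝒬_d with the same fixed space and commutator space as σ, and Σ for the set of these subgroups. For σ, τ ∈ 𝒬_d put A = E(σ), B = E(τ) and X = ⟨A, B⟩. Then either X acts unipotently on M, or A and B are the unipotent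 subgroups of a special rank one group X; in the latter case X contains exactly one central involution acting as −1 on the commutator space [M, X] and trivially on the fixed space C_M(X), and M is the direct sum of C_M(X) and [M, X]. -/
theorem result {k : Type u} [Field k] (hk2 : ringChar k ≠ 2) (hk3 : Nat.card k ≠ 3)
    {M : Type u} [AddCommGroup M] [Module k M] [FiniteDimensional k M]
    {G : Subgroup (LinearMap.GeneralLinearGroup k M)} (hG : Cfsg.IsQuadraticPair G)
    {σ τ : LinearMap.GeneralLinearGroup k M} (hσ : σ ∈ Cfsg.minimalQuadraticElements G) (hτ : τ ∈ Cfsg.minimalQuadraticElements G) :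
    Cfsg.IsUnipotentOn (Cfsg.sameActionSubgroup G σ ⊔ Cfsg.sameActionSubgroup G τ) ∨
    (Cfsg.IsSpecialRankOnePair (Cfsg.sameActionSubgroup G σ) (Cfsg.sameActionSubgroup G τ) ∧
      (∃! i : LinearMap.GeneralLinearGroup k M, i ∈ Cfsg.sameActionSubgroup G σ ⊔ Cfsg.sameActionSubgroup G τ ∧ i ≠ 1 ∧ i * i = 1 ∧
        (∀ x ∈ Cfsg.sameActionSubgroup G σ ⊔ Cfsg.sameActionSubgroup G τ, i * x = x * i) ∧
        (∀ m ∈ Cfsg.commutatorSubmodule (Cfsg.sameActionSubgroup G σ ⊔ Cfsg.sameActionSubgroup G τ), (i : M →ₗ[k] M) m = -m) ∧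
        (∀ m ∈ Cfsg.fixedSubmodule (Cfsg.sameActionSubgroup G σ ⊔ Cfsg.sameActionSubgroup G τ), (i : M →ₗ[k] M) m = m)) ∧
      IsCompl (Cfsg.fixedSubmodule (Cfsg.sameActionSubgroup G σ ⊔ Cfsg.sameActionSubgroup G τ))
        (Cfsg.commutatorSubmodule (Cfsg.sameActionSubgroup G σ ⊔ Cfsg.sameActionSubgroup G τ))) := by
  by_cases hU : Cfsg.Agent.QPP.AllUnip (sameActionSubgroup G σ) (sameActionSubgroup G τ)
  · exact Or.inl (Cfsg.Agent.QPP.S5065U hk2 hk3 hσ hτ hU)
  right
  have h2 : (2 : k) ≠ 0 := Ring.two_ne_zero hk2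
  have hO := Cfsg.Agent.QPP.OPP hk2 hk3 hσ hτ hU
  have ha : ((σ : Module.End k M) - 1) * ((σ : Module.End k M) - 1) = 0 := hσ.1.2.1.1
  have hb : ((τ : Module.End k M) - 1) * ((τ : Module.End k M) - 1) = 0 := hτ.1.2.1.1
  have ha0 : ((σ : Module.End k M) - 1) ≠ 0 := hσ.1.2.1.2
  obtain ⟨hcompl, hdisj, hC, hD⟩ := Cfsg.Agent.QPP.DECOMP hO ha hb
  obtain ⟨hfix, hcomm⟩ := Cfsg.Agent.QPP.FIXC hσ hτ
  -- E ≠ F
  have hne : sameActionSubgroup G σ ≠ sameActionSubgroup G τ := by
    intro heq
    obtain ⟨hτF, hτ1⟩ := Cfsg.Agent.QPP.ROOT_self hτ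
    rw [← heq] at hτF
    obtain ⟨_, hk, hr⟩ := Cfsg.Agent.QPP.ROOT_Qd hσ hτF hτ1
    have h1 := hO.1
    rw [hr] at h1
    have hle : LinearMap.range ((σ : Module.End k M) - 1) ≤ LinearMap.ker ((σ : Module.End k M) - 1) := by
      rintro _ ⟨m, rfl⟩
      rw [LinearMap.mem_ker]
      exact LinearMap.congr_fun ha m
    have hbot : LinearMap.range ((σ : Module.End k M) - 1) = ⊥ := by
      have := h1.inf_eq_bot
      rwa [inf_eq_right.2 hle] at this
    exact ha0 (LinearMap.range_eq_bot.1 hbot)
  -- nilpotent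
  have nil : ∀ {ρ : LinearMap.GeneralLinearGroup k M}, ρ ∈ minimalQuadraticElements G →
      Group.IsNilpotent ↥(sameActionSubgroup G ρ) := by
    intro ρ hρ
    letI : CommGroup ↥(sameActionSubgroup G ρ) :=
      { (inferInstance : Group ↥(sameActionSubgroup G ρ)) with
        mul_comm := fun x y => Subtype.ext (Cfsg.Agent.QPP.ROOT_comm hρ x.2 y.2) }
    exact CommGroup.isNilpotent
  refine ⟨⟨⟨hne, nil hσ, nil hτ, Cfsg.Agent.QPP.RK1 hk2 hk3 hσ hτ hO,
    Cfsg.Agent.QPP.RK1 hk2 hk3 hτ hσ hO.symm⟩, Cfsg.Agent.QPP.SPEC hk2 hk3 hσ hτ hO⟩, ?_, ?_⟩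
  · -- the involution
    obtain ⟨i, hiX, hi0, hi1⟩ := Cfsg.Agent.QPP.INV65 hk2 hk3 hσ hτ hO
    have hi0' : ∀ m ∈ fixedSubmodule (sameActionSubgroup G σ ⊔ sameActionSubgroup G τ),
        (i : Module.End k M) m = m := by rw [hfix]; exact hi0
    have hi1' : ∀ m ∈ commutatorSubmodule (sameActionSubgroup G σ ⊔ sameActionSubgroup G τ),
        (i : Module.End k M) m = -m := by rw [hcomm]; exact hi1
    have hcompl' : IsCompl (fixedSubmodule (sameActionSubgroup G σ ⊔ sameActionSubgroup G τ))
        (commutatorSubmodule (sameActionSubgroup G σ ⊔ sameActionSubgroup G τ)) := by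
      rw [hfix, hcomm]; exact hcompl
    refine ⟨i, ⟨hiX, ?_, ?_, ?_, hi1', hi0'⟩, ?_⟩
    · -- i ≠ 1
      intro h1
      obtain ⟨m, hm⟩ : ∃ m, ((σ : Module.End k M) - 1) m ≠ 0 := by
        by_contra hcon
        push Not at hcon
        exact ha0 (LinearMap.ext hcon)
      have hmem : ((σ : Module.End k M) - 1) m ∈
          LinearMap.range ((σ : Module.End k M) - 1) ⊔ LinearMap.range ((τ : Module.End k M) - 1) :=
        Submodule.mem_sup_left ⟨m, rfl⟩
      have := hi1 _ hmem
      rw [h1, Units.val_one, Module.End.one_apply] at this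
      -- v = -v
      have h2v : (2 : k) • (((σ : Module.End k M) - 1) m) = 0 := by
        rw [two_smul]
        nth_rewrite 1 [this]
        exact neg_add_cancel _
      rcases smul_eq_zero.1 h2v with h | h
      · exact h2 h
      · exact hm h
    · -- i * i = 1
      apply Units.ext
      rw [Units.val_mul, Units.val_one]
      apply ext_of_isCompl hcompl'
      · intro m hm
        rw [Module.End.mul_apply, hi0' m hm, hi0' m hm, Module.End.one_apply]
      · intro m hm
        rw [Module.End.mul_apply, hi1' m hm, map_neg, hi1' m hm, neg_neg, Module.End.one_apply]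
    · -- central
      intro x hx
      apply Units.ext
      rw [Units.val_mul, Units.val_mul]
      have hxfix : ∀ m ∈ fixedSubmodule (sameActionSubgroup G σ ⊔ sameActionSubgroup G τ),
          (x : Module.End k M) m = m := by
        intro m hm
        unfold fixedSubmodule at hm
        rw [Submodule.mem_iInf] at hm
        have := hm x
        rw [Submodule.mem_iInf] at this
        have := this hx
        rw [LinearMap.mem_ker, LinearMap.sub_apply, Module.End.one_apply, sub_eq_zero] at this
        exact this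
      have hxcomm : ∀ m ∈ commutatorSubmodule (sameActionSubgroup G σ ⊔ sameActionSubgroup G τ),
          (x : Module.End k M) m ∈
            commutatorSubmodule (sameActionSubgroup G σ ⊔ sameActionSubgroup G τ) := by
        intro m hm
        have h1 : ((x : Module.End k M) - 1) m ∈
            commutatorSubmodule (sameActionSubgroup G σ ⊔ sameActionSubgroup G τ) := by
          unfold commutatorSubmodule
          exact Submodule.mem_iSup_of_mem x (Submodule.mem_iSup_of_mem hx ⟨m, rfl⟩)
        have : (x : Module.End k M) m = ((x : Module.End k M) - 1) m + m := by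
          rw [LinearMap.sub_apply, Module.End.one_apply, sub_add_cancel]
        rw [this]
        exact Submodule.add_mem _ h1 hm
      apply ext_of_isCompl hcompl'
      · intro m hm
        rw [Module.End.mul_apply, Module.End.mul_apply, hxfix m hm, hi0' m hm, hxfix m hm]
      · intro m hm
        rw [Module.End.mul_apply, Module.End.mul_apply, hi1' _ (hxcomm m hm), hi1' m hm, map_neg]
    · -- uniqueness
      rintro j ⟨_, _, _, _, hj1, hj0⟩
      apply Units.ext
      apply ext_of_isCompl hcompl'
      · intro m hm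
        rw [hi0' m hm]; exact hj0 m hm
      · intro m hm
        rw [hi1' m hm]; exact hj1 m hm
  · rw [hfix, hcomm]; exact hcompl

end Cfsg.Agent.S5065
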