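import Mathlib
import Cfsg.Statements.S4251
import Cfsg.Agent.Helper10.Alperin
import Cfsg.Agent.Helper9.Frobenius
import Cfsg.Agent.Helper9.NPC

set_option autoImplicit false
open Cfsg

namespace Cfsg.Agent.S4251

open Cfsg.Agent.Helper10 Subgroup
open scoped Pointwise

variable {G : Type*} [Group G]

/-- If `N/C` is a `p`-group and `S ≤ N` has index prime to `p`, then `N = C S`. -/
theorem decomp [Finite G] {p : ℕ} [hp : Fact p.Prime] (N C S : Subgroup G)
    [hn : (C.subgroupOf N).Normal] (hq : IsPGroup p (↥N ⧸ C.subgroupOf N))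
    (hS' : ¬ p ∣ S.relIndex N) (y : G) (hy : y ∈ N) :
    ∃ c ∈ C, ∃ u ∈ S, y = c * u := by
  set C' := C.subgroupOf N with hC'
  set S' := S.subgroupOf N with hS
  have h1 : (C' ⊔ S').index ∣ S'.index := Subgroup.index_dvd_of_le le_sup_right
  have h2 : (C' ⊔ S').index ∣ C'.index := Subgroup.index_dvd_of_le le_sup_left
  obtain ⟨k, hk⟩ := IsPGroup.iff_card.mp hq
  rw [← Subgroup.index_eq_card] at hk
  rw [hk] at h2
  obtain ⟨j, -, hj⟩ := (Nat.dvd_prime_pow hp.out).mp h2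
  have hj0 : j = 0 := by
    by_contra hne
    apply hS'
    have : p ∣ (C' ⊔ S').index := by
      rw [hj]; exact dvd_pow_self p hne
    exact this.trans h1
  rw [hj0, pow_zero, Subgroup.index_eq_one] at hj
  have hmem : (⟨y, hy⟩ : N) ∈ C' ⊔ S' := by rw [hj]; exact Subgroup.mem_top _
  have hset : ((C' ⊔ S' : Subgroup N) : Set N) = (C' : Set N) * (S' : Set N) :=
    Subgroup.normal_mul C' S'
  have hmem' : (⟨y, hy⟩ : N) ∈ (C' : Set N) * (S' : Set N) := by
    rw [← hset]; exact hmem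
  obtain ⟨c, hc, u, hu, hcu⟩ := Set.mem_mul.mp hmem'
  refine ⟨c, Subgroup.mem_subgroupOf.mp hc, u, Subgroup.mem_subgroupOf.mp hu, ?_⟩
  have := congrArg Subtype.val hcu
  simpa using this.symm

/-- the hypothesis of the statement -/
def TameHyp (p : ℕ) (P : Sylow p G) : Prop :=
  ∀ Q : Sylow p G, (P : Subgroup G) ⊓ (Q : Subgroup G) ≠ ⊥ →
    (IsExt p (P : Subgroup G) ((P : Subgroup G) ⊓ (Q : Subgroup G)) ∧
      IsExt p (Q : Subgroup G) ((P : Subgroup G) ⊓ (Q : Subgroup G))) →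
    IsPGroup p (Subgroup.normalizer (((P : Subgroup G) ⊓ (Q : Subgroup G) : Subgroup G) : Set G) ⧸
        (Subgroup.centralizer (((P : Subgroup G) ⊓ (Q : Subgroup G) : Subgroup G) : Set G)).subgroupOf
          (Subgroup.normalizer (((P : Subgroup G) ⊓ (Q : Subgroup G) : Subgroup G) : Set G)))

theorem rc_singleton (y x : G) : rc y ({x} : Set G) = {y⁻¹ * x * y} := by
  unfold rc
  rw [Set.image_singleton]

theorem chain [Finite G] {p : ℕ} [hp : Fact p.Prime] (P : Sylow p G) (h : TameHyp p P) :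
    ∀ (l : List (Subgroup G × G)) (x : G), x ∈ (P : Subgroup G) →
      Dec (tameFam p P) ({x} : Set G) l →
      ∃ u ∈ (P : Subgroup G), (lprod l)⁻¹ * x * lprod l = u⁻¹ * x * u := by
  intro l
  induction l with
  | nil =>
    intro x _ _
    exact ⟨1, one_mem _, by simp [lprod_nil]⟩
  | cons e l ih =>
    obtain ⟨T, y⟩ := e
    intro x hx hd
    obtain ⟨hT, hyN, hxT, hd'⟩ := hd
    rw [rc_singleton] at hd'
    have hxT' : x ∈ T := hxT (Set.mem_singleton x)
    have hx'T : y⁻¹ * x * y ∈ T := by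
      have := (Subgroup.mem_normalizer_iff.mp (Subgroup.inv_mem _ hyN) x).mp hxT'
      simpa using this
    have hx'P : y⁻¹ * x * y ∈ (P : Subgroup G) := tameFam_le hT hx'T
    obtain ⟨u₂, hu₂, hu₂e⟩ := ih _ hx'P hd'
    by_cases hx1 : x = 1
    · refine ⟨1, one_mem _, ?_⟩
      rw [hx1]; simp
    obtain ⟨Q, rfl, hext1, hext2⟩ := hT
    have hne : (P : Subgroup G) ⊓ (Q : Subgroup G) ≠ ⊥ := by
      intro hbot
      rw [hbot, Subgroup.mem_bot] at hxT'
      exact hx1 hxT'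
    have hq := h Q hne ⟨hext1, hext2⟩
    obtain ⟨c, hc, u₁, hu₁, hcu⟩ := decomp _ _ ((P : Subgroup G) ⊓
      Subgroup.normalizer (((P : Subgroup G) ⊓ (Q : Subgroup G) : Subgroup G) : Set G)) hq hext1 y hyN
    have hcx : x * c = c * x := (Subgroup.mem_centralizer_iff.mp hc) x hxT'
    have hyx : y⁻¹ * x * y = u₁⁻¹ * x * u₁ := by
      rw [hcu, mul_inv_rev]
      calc u₁⁻¹ * c⁻¹ * x * (c * u₁) = u₁⁻¹ * (c⁻¹ * (x * c)) * u₁ := by group
        _ = u₁⁻¹ * (c⁻¹ * (c * x)) * u₁ := by rw [hcx]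
        _ = u₁⁻¹ * x * u₁ := by group
    refine ⟨u₁ * u₂, Subgroup.mul_mem _ hu₁.1 hu₂, ?_⟩
    rw [lprod_cons]
    calc (y * lprod l)⁻¹ * x * (y * lprod l) = (lprod l)⁻¹ * (y⁻¹ * x * y) * lprod l := by group
      _ = u₂⁻¹ * (y⁻¹ * x * y) * u₂ := hu₂e
      _ = u₂⁻¹ * (u₁⁻¹ * x * u₁) * u₂ := by rw [hyx]
      _ = (u₁ * u₂)⁻¹ * x * (u₁ * u₂) := by group

theorem controlsFusion [Finite G] {p : ℕ} [hp : Fact p.Prime] (P : Sylow p G) (h : TameHyp p P) :
    Cfsg.Agent.Helper9.ControlsFusion (P : Subgroup G) := by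
  intro x hx g hg
  have hA : ({x} : Set G) ⊆ ((P : Subgroup G) : Set G) := by
    intro z hz
    rw [Set.mem_singleton_iff] at hz
    rw [hz]; exact hx
  have hAg : rc g⁻¹ ({x} : Set G) ⊆ ((P : Subgroup G) : Set G) := by
    rw [rc_singleton]
    intro z hz
    rw [Set.mem_singleton_iff] at hz
    rw [hz, inv_inv]; exact hg
  obtain ⟨l, hd, -, hl⟩ := alperin_tame P ({x} : Set G) g⁻¹ hA hAg
  obtain ⟨u, hu, hue⟩ := chain P h l x hx hd
  refine ⟨u⁻¹, Subgroup.inv_mem _ hu, ?_⟩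
  rw [hl, inv_inv] at hue
  rw [inv_inv, hue]

/-- Let P be a Sylow p-subgroup of a finite group G. Call an intersection H = P ∩ Q with a Sylow p-subgroup Q tame when N_P(H) and N_Q(H) are Sylow p-subgroups of N_G(H). If N_G(H)/C_G(H) is a p-group for every nontrivial tame intersection H = P ∩ Q, then G has a normal p-complement. -/
theorem result {G : Type*} [Group G] [Finite G] (p : ℕ) [Fact p.Prime] (P : Sylow p G)
    (h : ∀ Q : Sylow p G, (P : Subgroup G) ⊓ (Q : Subgroup G) ≠ ⊥ → (¬ p ∣ ((P : Subgroup G) ⊓ Subgroup.normalizer (((P : Subgroup G) ⊓ (Q : Subgroup G) : Subgroup G) : Set G)).relIndex (Subgroup.normalizer (((P : Subgroup G) ⊓ (Q : Subgroup G) : Subgroup G) : Set G)) ∧ ¬ p ∣ ((Q : Subgroup G) ⊓ Subgroup.normalizer (((P : Subgroup G) ⊓ (Q : Subgroup G) : Subgroup G) : Set G)).relIndex (Subgroup.normalizer (((P : Subgroup G) ⊓ (Q : Subgroup G) : Subgroup G) : Set G))) →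
      IsPGroup p (Subgroup.normalizer (((P : Subgroup G) ⊓ (Q : Subgroup G) : Subgroup G) : Set G) ⧸
        (Subgroup.centralizer (((P : Subgroup G) ⊓ (Q : Subgroup G) : Subgroup G) : Set G)).subgroupOf
          (Subgroup.normalizer (((P : Subgroup G) ⊓ (Q : Subgroup G) : Subgroup G) : Set G)))) :
    Cfsg.HasNormalPComplement p G := by
  rw [Cfsg.Agent.Helper9.hasNormalPComplement_iff P]
  have hT : TameHyp p P := fun Q hne hext => h Q hne hext
  exact Cfsg.Agent.Helper9.exists_normal_complement_of_controlsFusion _ G p P rfl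
    (controlsFusion P hT)

end Cfsg.Agent.S4251
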