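import Mathlib
import Cfsg.Statements.S4314
import Cfsg.Agent.S4251
import Cfsg.Agent.Helper10.WellPlaced

set_option autoImplicit false
open Cfsg

namespace Cfsg.Agent.S4314

open Subgroup
open scoped commutatorElement

variable {G : Type*} [Group G]

theorem centralizer_singleton_eq_top_iff (x : G) :
    centralizer ({x} : Set G) = ⊤ ↔ x ∈ center G := by
  rw [centralizer_eq_top_iff_subset, Set.singleton_subset_iff]
  rfl

/-- a subgroup of prime index is maximal -/
theorem eq_of_prime_index {H K : Subgroup G} (hH : H.index.Prime) (hHK : H ≤ K) (hK : K ≠ ⊤) :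
    K = H := by
  have h1 := relIndex_mul_index hHK
  have h2 : K.index ∣ H.index := Dvd.intro_left _ h1
  rcases (Nat.dvd_prime hH).mp h2 with h3 | h3
  · exact absurd (index_eq_one.mp h3) hK
  · rw [h3] at h1
    have h4 : H.relIndex K = 1 := by
      have hpos : 0 < H.index := hH.pos
      have : H.relIndex K * H.index = 1 * H.index := by rw [h1, one_mul]
      exact Nat.eq_of_mul_eq_mul_right hpos this
    exact le_antisymm (relIndex_eq_one.mp h4) hHK

/-- the hypothesis: every centralizer has index 1 or a prime -/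
def Hyp (G : Type*) [Group G] : Prop :=
  ∀ x : G, (centralizer ({x} : Set G)).index = 1 ∨ ((centralizer ({x} : Set G)).index).Prime

theorem Hyp.prime (h : Hyp G) {x : G} (hx : x ∉ center G) :
    ((centralizer ({x} : Set G)).index).Prime := by
  rcases h x with h1 | h1
  · exact absurd ((centralizer_singleton_eq_top_iff x).mp (index_eq_one.mp h1)) hx
  · exact h1

theorem Hyp.ne_top {x : G} (hx : x ∉ center G) : centralizer ({x} : Set G) ≠ ⊤ :=
  fun h => hx ((centralizer_singleton_eq_top_iff x).mp h)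

theorem Hyp.maximal (h : Hyp G) {x : G} (hx : x ∉ center G) {K : Subgroup G}
    (hK : centralizer ({x} : Set G) ≤ K) (hKt : K ≠ ⊤) : K = centralizer ({x} : Set G) :=
  eq_of_prime_index (h.prime hx) hK hKt

/-- if `x = y ^ k` then `C(y) ≤ C(x)` -/
theorem centralizer_le_of_pow (y : G) (k : ℕ) :
    centralizer ({y} : Set G) ≤ centralizer ({y ^ k} : Set G) := by
  intro g hg
  rw [mem_centralizer_singleton_iff] at hg ⊢
  exact ((Commute.pow_right (show Commute g y from hg) k)).eq

theorem pow_not_mem_center_centralizer_eq (h : Hyp G) {y : G} {k : ℕ} (hk : y ^ k ∉ center G) :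
    centralizer ({y ^ k} : Set G) = centralizer ({y} : Set G) := by
  have hy : y ∉ center G := fun hy => hk ((center G).pow_mem hy k)
  exact h.maximal hy (centralizer_le_of_pow y k) (Hyp.ne_top hk)

/-- for commuting elements of coprime orders, each is a power of the product -/
theorem exists_pow_mul_eq_left [Finite G] {u y : G} (hc : Commute u y)
    (hco : (orderOf u).Coprime (orderOf y)) : ∃ j : ℕ, (u * y) ^ j = u := by
  by_cases h1 : orderOf u = 1
  · refine ⟨0, ?_⟩
    rw [pow_zero]
    exact (orderOf_eq_one_iff.mp h1).symm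
  · have hpos : 0 < orderOf u := orderOf_pos u
    have hlt : 1 < orderOf u := by omega
    obtain ⟨m, -, hm⟩ := Nat.exists_mul_mod_eq_one_of_coprime hco.symm hlt
    refine ⟨orderOf y * m, ?_⟩
    rw [hc.mul_pow, pow_mul y, pow_orderOf_eq_one, one_pow, mul_one]
    conv_rhs => rw [← pow_one u]
    rw [pow_eq_pow_iff_modEq]
    unfold Nat.ModEq
    rw [hm, Nat.mod_eq_of_lt hlt]

theorem exists_pow_mul_eq_right [Finite G] {u y : G} (hc : Commute u y)
    (hco : (orderOf u).Coprime (orderOf y)) : ∃ j : ℕ, (u * y) ^ j = y := by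
  obtain ⟨j, hj⟩ := exists_pow_mul_eq_left hc.symm hco.symm
  exact ⟨j, by rw [hc.eq]; exact hj⟩

/-- Key lemma: an element of `C(u)` of order coprime to that of the noncentral `u` is central in
`C(u)`. -/
theorem key_a [Finite G] (h : Hyp G) {u y : G} (hu : u ∉ center G)
    (hy : y ∈ centralizer ({u} : Set G)) (hco : (orderOf u).Coprime (orderOf y)) :
    centralizer ({u} : Set G) ≤ centralizer ({y} : Set G) := by
  have hc : Commute u y := by
    rw [mem_centralizer_singleton_iff] at hy
    exact hy.symm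
  obtain ⟨j, hj⟩ := exists_pow_mul_eq_left hc hco
  obtain ⟨j', hj'⟩ := exists_pow_mul_eq_right hc hco
  have h1 : centralizer ({(u * y) ^ j} : Set G) = centralizer ({u * y} : Set G) :=
    pow_not_mem_center_centralizer_eq h (by rw [hj]; exact hu)
  rw [hj] at h1
  rw [h1]
  have h2 := centralizer_le_of_pow (u * y) j'
  rwa [hj'] at h2

/-- an element outside a subgroup `Z` has a power of prime power order outside `Z` -/
theorem exists_pow_primePow [Finite G] (Z : Subgroup G) :
    ∀ (n : ℕ) (g : G), orderOf g = n → g ∉ Z →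
      ∃ (j r k : ℕ), r.Prime ∧ orderOf (g ^ j) = r ^ k ∧ g ^ j ∉ Z := by
  intro n
  induction n using Nat.strong_induction_on with
  | _ n ih =>
  intro g hn hg
  have hn0 : n ≠ 0 := by rw [← hn]; exact (orderOf_pos g).ne'
  have hn1 : n ≠ 1 := by
    intro h1
    rw [h1, orderOf_eq_one_iff] at hn
    rw [hn] at hg
    exact hg Z.one_mem
  have hr : (n.minFac).Prime := Nat.minFac_prime hn1
  obtain ⟨e, m, hrm, hnm⟩ := Nat.exists_eq_pow_mul_and_not_dvd hn0 n.minFac hr.ne_one
  set r := n.minFac with hrdef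
  have hm0 : m ≠ 0 := by
    rintro rfl
    exact hrm (dvd_zero r)
  have he0 : e ≠ 0 := by
    rintro rfl
    rw [pow_zero, one_mul] at hnm
    apply hrm
    rw [← hnm]
    exact Nat.minFac_dvd n
  have hord1 : orderOf (g ^ m) = r ^ e := by
    rw [orderOf_pow_of_dvd hm0 (by rw [hn, hnm]; exact Dvd.intro_left _ rfl), hn, hnm]
    exact Nat.mul_div_cancel _ (Nat.pos_of_ne_zero hm0)
  by_cases hgm : g ^ m ∈ Z
  · -- then `g ^ (r ^ e) ∉ Z`
    have hre0 : r ^ e ≠ 0 := pow_ne_zero _ hr.ne_zero
    have hre1 : 1 < r ^ e := Nat.one_lt_pow he0 hr.one_lt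
    have hord2 : orderOf (g ^ (r ^ e)) = m := by
      rw [orderOf_pow_of_dvd hre0 (by rw [hn, hnm]; exact Dvd.intro _ rfl), hn, hnm]
      exact Nat.mul_div_cancel_left _ (Nat.pos_of_ne_zero hre0)
    have hgre : g ^ (r ^ e) ∉ Z := by
      intro hcon
      apply hg
      have hco : Nat.Coprime m (r ^ e) :=
        (Nat.Coprime.pow_left e ((Nat.Prime.coprime_iff_not_dvd hr).mpr hrm)).symm
      obtain ⟨c, -, hc⟩ := Nat.exists_mul_mod_eq_one_of_coprime hco hre1
      have h1 : m * c = r ^ e * (m * c / r ^ e) + 1 := by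
        have := Nat.div_add_mod (m * c) (r ^ e)
        rw [hc] at this
        exact this.symm
      have h2 : g ^ (m * c) = (g ^ (r ^ e)) ^ (m * c / r ^ e) * g := by
        conv_lhs => rw [h1]
        rw [pow_succ, pow_mul]
      have h3 : g = ((g ^ (r ^ e)) ^ (m * c / r ^ e))⁻¹ * g ^ (m * c) := by
        rw [h2]; group
      rw [h3]
      refine Z.mul_mem (Z.inv_mem (Z.pow_mem hcon _)) ?_
      rw [pow_mul]
      exact Z.pow_mem hgm _
    have hmn : m < n := by
      rw [hnm]
      calc m = 1 * m := (one_mul m).symm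
        _ < r ^ e * m := Nat.mul_lt_mul_of_pos_right hre1 (Nat.pos_of_ne_zero hm0)
    obtain ⟨j, r', k, hr', hord, hnot⟩ := ih m hmn (g ^ (r ^ e)) hord2 hgre
    refine ⟨r ^ e * j, r', k, hr', ?_, ?_⟩
    · rw [pow_mul]; exact hord
    · rw [pow_mul]; exact hnot
  · exact ⟨m, r, e, hr, hord1, hgm⟩

/-- a normal subgroup of prime index contains the commutator subgroup -/
theorem commutator_le_of_prime_index {N : Subgroup G} [N.Normal] (hN : N.index.Prime) :
    commutator G ≤ N := by
  rw [← Subgroup.Normal.quotient_commutative_iff_commutator_le]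
  have : Fact (N.index.Prime) := ⟨hN⟩
  have : IsCyclic (G ⧸ N) := isCyclic_of_prime_card (p := N.index) (Subgroup.index_eq_card N).symm
  infer_instance

/-- if the commutator subgroup is central, the class is at most two -/
theorem upperCentralSeries_two_eq_top (hc : commutator G ≤ center G) :
    Subgroup.upperCentralSeries G 2 = ⊤ := by
  rw [eq_top_iff]
  intro x _
  rw [show (2 : ℕ) = 1 + 1 from rfl, Subgroup.mem_upperCentralSeries_succ_iff]
  intro y
  rw [Subgroup.upperCentralSeries_one]
  apply hc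
  rw [commutator_def]
  exact Subgroup.commutator_mem_commutator (Subgroup.mem_top x) (Subgroup.mem_top y)

theorem class_two_of_normal (h : Hyp G)
    (hn : ∀ x : G, (centralizer ({x} : Set G)).Normal) : Subgroup.upperCentralSeries G 2 = ⊤ := by
  apply upperCentralSeries_two_eq_top
  intro c hc
  rw [Subgroup.mem_center_iff]
  intro x
  have h1 : commutator G ≤ centralizer ({x} : Set G) := by
    by_cases hx : x ∈ center G
    · rw [(centralizer_singleton_eq_top_iff x).mpr hx]; exact le_top
    · have := hn x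
      exact commutator_le_of_prime_index (h.prime hx)
  have := h1 hc
  rw [mem_centralizer_singleton_iff] at this
  exact this.symm

/-- Normalizers grow in nilpotent subgroups (ambient form). -/
theorem exists_mem_normalizer_not_mem {D M : Subgroup G} (hM : Group.IsNilpotent M)
    (hDM : D < M) : ∃ x ∈ M, x ∈ normalizer (D : Set G) ∧ x ∉ D := by
  have hnc := Group.normalizerCondition_of_isNilpotent (G := M)
  have hlt : D.subgroupOf M < ⊤ := by
    rw [lt_top_iff_ne_top, Ne, subgroupOf_eq_top]
    exact not_le_of_gt hDM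
  have h1 := hnc _ hlt
  obtain ⟨x, hxN, hxD⟩ := SetLike.exists_of_lt h1
  refine ⟨x, x.2, ?_, ?_⟩
  · rw [← subgroupOf_normalizer_eq hDM.le] at hxN
    exact hxN
  · exact hxD

/-- Sylow setup: if `p` divides the index of `M`, there is a Sylow `p`-subgroup `P` of `G` meeting
`M` in a Sylow `p`-subgroup of `M`, and an element of `P` outside `M` normalizing `P ⊓ M`. -/
theorem sylow_setup [Finite G] {p : ℕ} [hp : Fact p.Prime] (M : Subgroup G) (hpM : p ∣ M.index) :
    ∃ P : Sylow p G, ¬ p ∣ (P : Subgroup G).relIndex M ∧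
      ∃ h ∈ (P : Subgroup G), h ∈ normalizer (((P : Subgroup G) ⊓ M : Subgroup G) : Set G) ∧
        h ∉ M := by
  obtain ⟨Q₀⟩ : Nonempty (Sylow p M) := inferInstance
  obtain ⟨P, hP⟩ := Q₀.exists_comap_subtype_eq
  refine ⟨P, ?_, ?_⟩
  · have h1 : (P : Subgroup G).subgroupOf M = (Q₀ : Subgroup M) := by
      rw [← hP]; rfl
    unfold Subgroup.relIndex
    rw [h1]
    exact Q₀.not_dvd_index
  · have hlt : (P : Subgroup G) ⊓ M < (P : Subgroup G) := by
      refine lt_of_le_of_ne inf_le_left ?_
      intro heq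
      have hPM : (P : Subgroup G) ≤ M := by rw [← heq]; exact inf_le_right
      exact P.not_dvd_index (hpM.trans (Subgroup.index_dvd_of_le hPM))
    obtain ⟨h, hhP, hhN, hhn⟩ := exists_mem_normalizer_not_mem (P.isPGroup'.isNilpotent) hlt
    refine ⟨h, hhP, hhN, ?_⟩
    intro hhM
    exact hhn ⟨hhP, hhM⟩

theorem mem_centralizer_conj (h x g : G) :
    g ∈ centralizer ({h * x * h⁻¹} : Set G) ↔ h⁻¹ * g * h ∈ centralizer ({x} : Set G) := by
  rw [mem_centralizer_singleton_iff, mem_centralizer_singleton_iff]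
  constructor
  · intro e
    calc h⁻¹ * g * h * x = h⁻¹ * (g * (h * x * h⁻¹)) * h := by group
      _ = h⁻¹ * (h * x * h⁻¹ * g) * h := by rw [e]
      _ = x * (h⁻¹ * g * h) := by group
  · intro e
    calc g * (h * x * h⁻¹) = h * (h⁻¹ * g * h * x) * h⁻¹ := by group
      _ = h * (x * (h⁻¹ * g * h)) * h⁻¹ := by rw [e]
      _ = h * x * h⁻¹ * g := by group

theorem conj_not_mem_center {h x : G} (hx : x ∉ center G) : h * x * h⁻¹ ∉ center G := by
  intro hc
  apply hx
  have := (center G).normal_of_characteristic.conj_mem _ hc h⁻¹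
  have e : h⁻¹ * (h * x * h⁻¹) * h⁻¹⁻¹ = x := by group
  rwa [e] at this

theorem mem_of_pow_mem_of_coprime (Z : Subgroup G) {g : G} {a b : ℕ} (ha : g ^ a ∈ Z)
    (hb : g ^ b ∈ Z) (hab : a.Coprime b) : g ∈ Z := by
  have h1 : (Nat.gcd a b : ℤ) = a * Nat.gcdA a b + b * Nat.gcdB a b := Nat.gcd_eq_gcd_ab a b
  rw [hab] at h1
  have h2 : g = (g ^ a) ^ (Nat.gcdA a b) * (g ^ b) ^ (Nat.gcdB a b) := by
    rw [← zpow_natCast g a, ← zpow_natCast g b, ← zpow_mul, ← zpow_mul, ← zpow_add, ← h1]
    simp
  rw [h2]
  exact Z.mul_mem (Z.zpow_mem ha _) (Z.zpow_mem hb _)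

theorem normal_of_commutator_le {H : Subgroup G} (hH : commutator G ≤ H) : H.Normal := by
  constructor
  intro m hm g
  have h1 : ⁅g, m⁆ ∈ H := by
    apply hH
    rw [commutator_def]
    exact Subgroup.commutator_mem_commutator (Subgroup.mem_top g) (Subgroup.mem_top m)
  have e : g * m * g⁻¹ = ⁅g, m⁆ * m := by
    rw [commutatorElement_def]; group
  rw [e]
  exact H.mul_mem h1 hm

/-- the bad configuration: a noncentral element of prime power order with a non-normal
centralizer -/
structure Bad (x : G) (s k : ℕ) : Prop where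
  hyp : Hyp G
  nc : x ∉ center G
  nn : ¬ (centralizer ({x} : Set G)).Normal
  hs : s.Prime
  ord : orderOf x = s ^ k

namespace Bad

variable {x : G} {s k : ℕ}

theorem normalizer_eq (b : Bad x s k) :
    normalizer ((centralizer ({x} : Set G) : Subgroup G) : Set G) = centralizer ({x} : Set G) :=
  b.hyp.maximal b.nc le_normalizer (fun htop => b.nn (normalizer_eq_top_iff.mp htop))

theorem self_mem (x : G) : x ∈ centralizer ({x} : Set G) := by
  rw [mem_centralizer_singleton_iff]

/-- if the conjugate of `x` by `h` has the same centralizer then `h` centralizes `x` -/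
theorem mem_of_conj_centralizer_eq (b : Bad x s k) {h : G}
    (he : centralizer ({h * x * h⁻¹} : Set G) = centralizer ({x} : Set G)) :
    h ∈ centralizer ({x} : Set G) := by
  rw [← b.normalizer_eq, ← Subgroup.inv_mem_iff, Subgroup.mem_normalizer_iff]
  intro g
  rw [inv_inv, ← mem_centralizer_conj, he]

end Bad

theorem centralizer_le_normalizer_zpowers (x : G) :
    centralizer ({x} : Set G) ≤ normalizer ((zpowers x : Subgroup G) : Set G) := by
  intro g hg
  have hgx : Commute g x := mem_centralizer_singleton_iff.mp hg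
  rw [Subgroup.mem_normalizer_iff]
  intro z
  constructor
  · intro hz
    obtain ⟨i, rfl⟩ := mem_zpowers_iff.mp hz
    have h1 : g * x ^ i * g⁻¹ = x ^ i := by
      rw [(hgx.zpow_right i).eq, mul_inv_cancel_right]
    rw [h1]; exact hz
  · intro hz
    obtain ⟨i, hi⟩ := mem_zpowers_iff.mp hz
    have h1 : z = x ^ i := by
      have h2 : z = g⁻¹ * (g * z * g⁻¹) * g := by group
      rw [h2, ← hi, mul_assoc, ← (hgx.zpow_right i).eq, inv_mul_cancel_left]
    rw [h1]; exact zpow_mem_zpowers x i

/-- a `p`-element of `M` commuting with all of `M` lies in every "Sylow" intersection `P ⊓ M` -/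
theorem mem_sylow_inf [Finite G] {p : ℕ} [Fact p.Prime] {x : G} {k : ℕ} (hord : orderOf x = p ^ k)
    (P : Sylow p G) (hrel : ¬ p ∣ (P : Subgroup G).relIndex (centralizer ({x} : Set G))) :
    x ∈ (P : Subgroup G) ⊓ centralizer ({x} : Set G) := by
  set M := centralizer ({x} : Set G) with hM
  have hxM : x ∈ M := Bad.self_mem x
  set D := ((P : Subgroup G) ⊓ M) ⊔ zpowers x with hD
  have hzp : IsPGroup p (zpowers x) := by
    rw [IsPGroup.iff_card]
    exact ⟨k, by rw [Nat.card_zpowers, hord]⟩
  have hnorm : (P : Subgroup G) ⊓ M ≤ normalizer ((zpowers x : Subgroup G) : Set G) :=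
    inf_le_right.trans (centralizer_le_normalizer_zpowers x)
  have hDp : IsPGroup p D :=
    IsPGroup.to_sup_of_normal_right' (P.isPGroup'.to_le inf_le_left) hzp hnorm
  have hDM : D ≤ M := sup_le inf_le_right (by rw [zpowers_le]; exact hxM)
  have hrel' : ¬ p ∣ ((P : Subgroup G) ⊓ M).relIndex M := by
    rw [inf_relIndex_right]; exact hrel
  have h1 := Cfsg.Agent.Helper10.eq_of_le_of_not_dvd_relIndex le_sup_left hDM hDp hrel'
  rw [h1]
  exact (le_sup_right : zpowers x ≤ D) (mem_zpowers x)

/-- the centre of `M` as a subgroup of `G` -/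
def cen (M : Subgroup G) : Subgroup G := M ⊓ centralizer (M : Set G)

instance cen_normal (M : Subgroup G) : ((cen M).subgroupOf M).Normal := by
  constructor
  intro a ha m
  rw [mem_subgroupOf] at ha ⊢
  have hc : (m : G) * (a : G) = (a : G) * (m : G) := (mem_centralizer_iff.mp ha.2) m m.2
  have : ((m * a * m⁻¹ : M) : G) = (a : G) := by
    simp only [Subgroup.coe_mul, Subgroup.coe_inv]
    rw [hc, mul_inv_cancel_right]
  rw [this]; exact ha

/-- `M / Z(M)` is an `s`-group when `M = C(x)` for a noncentral `s`-element `x` -/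
theorem isPGroup_quotient_cen [Finite G] (h : Hyp G) {x : G} {s k : ℕ} (hs : s.Prime)
    (hx : x ∉ center G) (hord : orderOf x = s ^ k) :
    IsPGroup s (↥(centralizer ({x} : Set G)) ⧸
      (cen (centralizer ({x} : Set G))).subgroupOf (centralizer ({x} : Set G))) := by
  set M := centralizer ({x} : Set G) with hM
  intro g
  obtain ⟨m, rfl⟩ := QuotientGroup.mk_surjective g
  obtain ⟨j, l, hsl, hjl⟩ :=
    Nat.exists_eq_pow_mul_and_not_dvd (orderOf_pos (m : G)).ne' s hs.ne_one
  refine ⟨j, ?_⟩
  rw [← QuotientGroup.mk_pow, QuotientGroup.eq_one_iff, mem_subgroupOf]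
  have hsj0 : s ^ j ≠ 0 := pow_ne_zero _ hs.ne_zero
  have hordl : orderOf ((m : G) ^ (s ^ j)) = l := by
    rw [orderOf_pow_of_dvd hsj0 (by rw [hjl]; exact Dvd.intro _ rfl), hjl]
    exact Nat.mul_div_cancel_left _ (Nat.pos_of_ne_zero hsj0)
  have hmem : (m : G) ^ (s ^ j) ∈ M := M.pow_mem m.2 _
  have hco : (orderOf x).Coprime (orderOf ((m : G) ^ (s ^ j))) := by
    rw [hord, hordl]
    exact Nat.Coprime.pow_left k ((Nat.Prime.coprime_iff_not_dvd hs).mpr hsl)
  have hle := key_a h hx hmem hco
  rw [Subgroup.coe_pow]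
  unfold cen
  refine Subgroup.mem_inf.mpr ⟨hmem, ?_⟩
  rw [mem_centralizer_iff]
  intro g' hg'
  have := hle hg'
  rw [mem_centralizer_singleton_iff] at this
  exact this

namespace Bad

variable {x : G} {s k : ℕ}

/-- the prime `s` differs from the index `p` of the centralizer -/
theorem prime_ne [Finite G] (b : Bad x s k) : s ≠ (centralizer ({x} : Set G)).index := by
  intro hsp
  set M := centralizer ({x} : Set G) with hM
  have : Fact (s.Prime) := ⟨b.hs⟩
  obtain ⟨P, hrel, h, hhP, hhN, hhM⟩ := sylow_setup (p := s) M (by rw [hsp])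
  have hxPM : x ∈ (P : Subgroup G) ⊓ M := mem_sylow_inf b.ord P hrel
  have hyPM : h * x * h⁻¹ ∈ (P : Subgroup G) ⊓ M :=
    (Subgroup.mem_normalizer_iff.mp hhN x).mp hxPM
  have h3 : (P : Subgroup G) ⊓ M ≤ centralizer ({h * x * h⁻¹} : Set G) := by
    intro g hg
    rw [mem_centralizer_conj]
    have := (Subgroup.mem_normalizer_iff.mp (Subgroup.inv_mem _ hhN) g).mp hg
    rw [inv_inv] at this
    exact this.2
  have hrel' : ¬ s ∣ ((P : Subgroup G) ⊓ M).relIndex M := by
    rw [inf_relIndex_right]; exact hrel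
  have hq := isPGroup_quotient_cen b.hyp b.hs b.nc b.ord
  have h5 : M ≤ centralizer ({h * x * h⁻¹} : Set G) := by
    intro m hm
    obtain ⟨c, hc, u, hu, rfl⟩ :=
      Cfsg.Agent.S4251.decomp M (cen M) ((P : Subgroup G) ⊓ M) hq hrel' m hm
    refine Subgroup.mul_mem _ ?_ (h3 hu)
    rw [mem_centralizer_singleton_iff]
    exact ((mem_centralizer_iff.mp hc.2) _ hyPM.2).symm
  have h6 := b.hyp.maximal b.nc h5 (Hyp.ne_top (conj_not_mem_center b.nc))
  exact hhM (b.mem_of_conj_centralizer_eq h6)

theorem orderOf_conj' (h x : G) : orderOf (h * x * h⁻¹) = orderOf x := by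
  have := orderOf_injective (MulAut.conj h).toMonoidHom (MulAut.conj h).injective x
  simpa using this

/-- `p` does not divide `|M : Z(G)|` -/
theorem not_dvd_relIndex [Finite G] (b : Bad x s k) :
    ¬ (centralizer ({x} : Set G)).index ∣
      (center G).relIndex (centralizer ({x} : Set G)) := by
  intro hdvd
  set M := centralizer ({x} : Set G) with hM
  set p := M.index with hp
  have hpp : p.Prime := b.hyp.prime b.nc
  have : Fact p.Prime := ⟨hpp⟩
  have hsp : s ≠ p := b.prime_ne
  obtain ⟨P, hrel, h, hhP, hhN, hhM⟩ := sylow_setup (p := p) M dvd_rfl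
  have hZM : center G ≤ M := center_le_centralizer _
  -- an element of `P ⊓ M` outside the centre
  have hex : ∃ c ∈ (P : Subgroup G) ⊓ M, c ∉ center G := by
    by_contra hcon
    push Not at hcon
    have hle : (P : Subgroup G) ⊓ M ≤ center G := hcon
    have h1 := relIndex_mul_relIndex ((P : Subgroup G) ⊓ M) (center G) M hle hZM
    apply hrel
    rw [← inf_relIndex_right, ← h1]
    exact Dvd.dvd.mul_left hdvd _
  obtain ⟨c, hcPM, hcZ⟩ := hex
  obtain ⟨i, hi⟩ : ∃ i, orderOf c = p ^ i := by
    obtain ⟨i, hi⟩ := (IsPGroup.iff_orderOf.mp P.isPGroup') ⟨c, hcPM.1⟩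
    rw [Subgroup.orderOf_mk] at hi
    exact ⟨i, hi⟩
  have hc2 : h⁻¹ * c * h ∈ (P : Subgroup G) ⊓ M := by
    have := (Subgroup.mem_normalizer_iff.mp (Subgroup.inv_mem _ hhN) c).mp hcPM
    rwa [inv_inv] at this
  have hcy : c ∈ centralizer ({h * x * h⁻¹} : Set G) := by
    rw [mem_centralizer_conj]; exact hc2.2
  have hxc : x ∈ centralizer ({c} : Set G) := by
    rw [mem_centralizer_singleton_iff]
    exact (mem_centralizer_singleton_iff.mp hcPM.2).symm
  have hyc : h * x * h⁻¹ ∈ centralizer ({c} : Set G) := by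
    rw [mem_centralizer_singleton_iff]
    exact (mem_centralizer_singleton_iff.mp hcy).symm
  have hco : (orderOf c).Coprime (orderOf x) := by
    rw [hi, b.ord]
    exact Nat.Coprime.pow _ _ ((Nat.coprime_primes hpp b.hs).mpr (Ne.symm hsp))
  have hco' : (orderOf c).Coprime (orderOf (h * x * h⁻¹)) := by
    rw [orderOf_conj']; exact hco
  have h1 := key_a b.hyp hcZ hxc hco
  have h2 := key_a b.hyp hcZ hyc hco'
  have e1 : M = centralizer ({c} : Set G) := b.hyp.maximal hcZ h1 (Hyp.ne_top b.nc)
  have e2 : centralizer ({h * x * h⁻¹} : Set G) = centralizer ({c} : Set G) :=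
    b.hyp.maximal hcZ h2 (Hyp.ne_top (conj_not_mem_center b.nc))
  exact hhM (b.mem_of_conj_centralizer_eq (e2.trans e1.symm))

/-- the structure of `G / Z(G)` in the bad configuration -/
theorem final [Finite G] (b : Bad x s k) :
    ∃ q : ℕ, q.Prime ∧ q ≠ (centralizer ({x} : Set G)).index ∧
      (center G).index = q * (centralizer ({x} : Set G)).index := by
  set M := centralizer ({x} : Set G) with hM
  set p := M.index with hp
  set m := (center G).relIndex M with hm
  have hpp : p.Prime := b.hyp.prime b.nc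
  have : Fact p.Prime := ⟨hpp⟩
  have hZM : center G ≤ M := center_le_centralizer _
  have hpm : ¬ p ∣ m := b.not_dvd_relIndex
  have hidx : (center G).index = m * p := (relIndex_mul_index hZM).symm
  have hm0 : m ≠ 0 := Subgroup.index_ne_zero_of_finite
  have hcopm : Nat.Coprime m p := ((Nat.Prime.coprime_iff_not_dvd hpp).mpr hpm).symm
  -- `p`-elements of `M` are central
  have claim : ∀ g ∈ M, ∀ j : ℕ, orderOf g = p ^ j → g ∈ center G := by
    intro g hg j hj
    have h1 : g ^ m ∈ center G := Subgroup.pow_relIndex_mem (center G) hg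
    have h2 : g ^ (p ^ j) ∈ center G := by
      rw [← hj, pow_orderOf_eq_one]; exact Subgroup.one_mem _
    exact mem_of_pow_mem_of_coprime _ h1 h2 (Nat.Coprime.pow_right j hcopm)
  -- a noncentral `p`-element
  obtain ⟨P⟩ : Nonempty (Sylow p G) := inferInstance
  have hex : ∃ n ∈ (P : Subgroup G), n ∉ center G := by
    by_contra hcon
    push Not at hcon
    have hle : (P : Subgroup G) ≤ center G := hcon
    apply P.not_dvd_index
    have h1 : (center G).index ∣ (P : Subgroup G).index := Subgroup.index_dvd_of_le hle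
    rw [hidx] at h1
    exact (Dvd.intro_left m rfl).trans h1
  obtain ⟨n, hnP, hnZ⟩ := hex
  obtain ⟨j, hj⟩ : ∃ j, orderOf n = p ^ j := by
    obtain ⟨j, hj⟩ := (IsPGroup.iff_orderOf.mp P.isPGroup') ⟨n, hnP⟩
    rw [Subgroup.orderOf_mk] at hj
    exact ⟨j, hj⟩
  have hnM : n ∉ M := fun h => hnZ (claim n h j hj)
  set q := (centralizer ({n} : Set G)).index with hq
  have hqp : q.Prime := b.hyp.prime hnZ
  have hZn : center G ≤ centralizer ({n} : Set G) := center_le_centralizer _
  have hqdvd : q ∣ m * p := by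
    rw [← hidx]; exact Subgroup.index_dvd_of_le hZn
  have hqnep : q ≠ p := by
    intro hqe
    have h1 := relIndex_mul_index hZn
    rw [hidx, ← hq, hqe] at h1
    have h2 : (center G).relIndex (centralizer ({n} : Set G)) = m :=
      Nat.eq_of_mul_eq_mul_right hpp.pos h1
    have h3 : n ^ m ∈ center G := by
      rw [← h2]
      exact Subgroup.pow_relIndex_mem (center G) (Bad.self_mem n)
    have h4 : n ^ (p ^ j) ∈ center G := by
      rw [← hj, pow_orderOf_eq_one]; exact Subgroup.one_mem _
    exact hnZ (mem_of_pow_mem_of_coprime _ h3 h4 (Nat.Coprime.pow_right j hcopm))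
  have hqm : q ∣ m := by
    rcases (Nat.Prime.dvd_mul hqp).mp hqdvd with h1 | h1
    · exact h1
    · exact absurd ((Nat.prime_dvd_prime_iff_eq hqp hpp).mp h1) hqnep
  -- `C(n) ⊓ M ≤ Z(G)`
  have hinfle : centralizer ({n} : Set G) ⊓ M ≤ center G := by
    intro c hc
    by_contra hcZ
    obtain ⟨j', r, e, hr, hord, hnot⟩ := exists_pow_primePow (center G) _ c rfl hcZ
    have hc'n : c ^ j' ∈ centralizer ({n} : Set G) := Subgroup.pow_mem _ hc.1 _
    have hc'M : c ^ j' ∈ M := Subgroup.pow_mem _ hc.2 _
    by_cases hrp : r = p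
    · rw [hrp] at hord
      exact hnot (claim _ hc'M e hord)
    · have hco : (orderOf n).Coprime (orderOf (c ^ j')) := by
        rw [hj, hord]
        exact Nat.Coprime.pow _ _ ((Nat.coprime_primes hpp hr).mpr (Ne.symm hrp))
      have h1 := key_a b.hyp hnZ hc'n hco
      have h2 : centralizer ({c ^ j'} : Set G) = centralizer ({n} : Set G) :=
        b.hyp.maximal hnZ h1 (Hyp.ne_top hnot)
      have h3 : x ∈ centralizer ({c ^ j'} : Set G) := by
        rw [mem_centralizer_singleton_iff]
        exact (mem_centralizer_singleton_iff.mp hc'M).symm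
      rw [h2, mem_centralizer_singleton_iff] at h3
      apply hnM
      rw [hM, mem_centralizer_singleton_iff]
      exact h3.symm
  have hinf : centralizer ({n} : Set G) ⊓ M = center G :=
    le_antisymm hinfle (le_inf hZn hZM)
  have hmq : m ≤ q := by
    have h1 : m = (centralizer ({n} : Set G)).relIndex M := by
      rw [hm, ← hinf, inf_relIndex_right]
    rw [h1, hq, ← relIndex_top_right]
    apply relIndex_le_of_le_right le_top
    rw [relIndex_top_right]
    exact hqp.ne_zero
  have hmeq : m = q :=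
    Nat.le_antisymm hmq (Nat.le_of_dvd (Nat.pos_of_ne_zero hm0) hqm)
  exact ⟨q, hqp, hqnep, by rw [hidx, hmeq]⟩

end Bad

/-- Let `G` be a finite group every conjugacy class of which has size 1 or a prime. Then either `G` is nilpotent of class at most 2, or `G/Z(G)` is a non-abelian group of order `pq` for distinct primes `p, q` (a Frobenius group of order `pq`). -/
theorem result {G : Type*} [Group G] [Finite G]
    (h : ∀ x : G, (Subgroup.centralizer ({x} : Set G)).index = 1 ∨ ((Subgroup.centralizer ({x} : Set G)).index).Prime) :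
    Subgroup.upperCentralSeries G 2 = ⊤ ∨
      ∃ p q : ℕ, p.Prime ∧ q.Prime ∧ p ≠ q ∧ Nat.card (G ⧸ Subgroup.center G) = p * q ∧ ¬ IsMulCommutative (G ⧸ Subgroup.center G) := by
  have hyp : Hyp G := h
  by_cases hall : ∀ x : G, (centralizer ({x} : Set G)).Normal
  · left
    exact class_two_of_normal hyp hall
  · right
    push Not at hall
    obtain ⟨x₀, hx₀⟩ := hall
    have hx₀Z : x₀ ∉ center G := by
      intro hc
      apply hx₀
      rw [(centralizer_singleton_eq_top_iff x₀).mpr hc]
      infer_instance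
    obtain ⟨j, s, k, hs, hord, hnot⟩ := exists_pow_primePow (center G) _ x₀ rfl hx₀Z
    have hceq := pow_not_mem_center_centralizer_eq hyp hnot
    have b : Bad (x₀ ^ j) s k := ⟨hyp, hnot, by rw [hceq]; exact hx₀, hs, hord⟩
    obtain ⟨q, hq, hqp, hidx⟩ := b.final
    refine ⟨q, _, hq, hyp.prime hnot, hqp, ?_, ?_⟩
    · rw [← Subgroup.index_eq_card]
      exact hidx
    · intro hcomm
      have hle : commutator G ≤ center G :=
        Subgroup.Normal.quotient_commutative_iff_commutator_le.mp hcomm
      exact b.nn (normal_of_commutator_le (hle.trans (center_le_centralizer _)))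

end Cfsg.Agent.S4314
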