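import Mathlib
import Cfsg.Statements.S2638

set_option autoImplicit false
set_option linter.style.haveILetI false
open Cfsg

namespace Cfsg.Agent.S2638

open Polynomial

theorem dvd_natDegree_of_irreducible {F : Type*} [Field F] [Fintype F] {q r : ℕ}
    (hF : Fintype.card F = q) (hr : r.Prime) (g : F[X]) (hg : Irreducible g)
    (hgr : g ∣ X ^ r - 1) (hg1 : ¬ g ∣ X - 1) : orderOf (q : ZMod r) ∣ g.natDegree := by
  haveI : Fact (Irreducible g) := ⟨hg⟩
  haveI : Fact r.Prime := ⟨hr⟩
  set ζ : AdjoinRoot g := AdjoinRoot.root g with hζ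
  have hζr : ζ ^ r = 1 := by
    have h1 : AdjoinRoot.mk g (X ^ r - 1) = 0 := AdjoinRoot.mk_eq_zero.mpr hgr
    rw [map_sub, map_pow, AdjoinRoot.mk_X, map_one, sub_eq_zero] at h1
    exact h1
  have hζ1 : ζ ≠ 1 := by
    intro h
    apply hg1
    rw [← AdjoinRoot.mk_eq_zero, map_sub, AdjoinRoot.mk_X, map_one, ← hζ, h, sub_self]
  have hζ0 : ζ ≠ 0 := by
    intro h
    rw [h, zero_pow hr.ne_zero] at hζr
    exact zero_ne_one hζr
  have hord : orderOf (Units.mk0 ζ hζ0) = r := by
    rw [← orderOf_units]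
    exact orderOf_eq_prime hζr hζ1
  haveI : Module.Finite F (AdjoinRoot g) := (AdjoinRoot.powerBasis hg.ne_zero).finite
  haveI : Finite (AdjoinRoot g) := Module.finite_of_finite F
  have hcard : Nat.card (AdjoinRoot g) = q ^ g.natDegree := by
    rw [Module.natCard_eq_pow_finrank (K := F), (AdjoinRoot.powerBasis hg.ne_zero).finrank,
      AdjoinRoot.powerBasis_dim, Nat.card_eq_fintype_card, hF]
  have hdvd : r ∣ q ^ g.natDegree - 1 := by
    rw [← hcard, ← Nat.card_units, ← hord]
    exact orderOf_dvd_natCard _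
  have hqpos : 1 ≤ q ^ g.natDegree := Nat.one_le_pow _ _ (by rw [← hF]; exact Fintype.card_pos)
  have h1 : ((q ^ g.natDegree - 1 : ℕ) : ZMod r) = 0 := (ZMod.natCast_eq_zero_iff _ _).mpr hdvd
  rw [Nat.cast_sub hqpos, Nat.cast_pow, Nat.cast_one, sub_eq_zero] at h1
  exact orderOf_dvd_of_pow_eq_one h1

theorem minpoly_irreducible {F : Type*} [Field F] [Fintype F] {p q : ℕ} [Fact p.Prime] [CharP F p]
    (hF : Fintype.card F = q) {n r : ℕ} (hr : r.Prime) (hrp : r ≠ p)
    (hi : orderOf (q : ZMod r) = n) (A : Matrix (Fin n) (Fin n) F) (hAr : A ^ r = 1) (hA1 : A ≠ 1) :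
    Irreducible (minpoly F A) ∧ (minpoly F A).natDegree = n := by
  have hint : IsIntegral F A := Matrix.isIntegral A
  set f := minpoly F A with hf
  have hf0 : f ≠ 0 := minpoly.ne_zero hint
  have hfdvd : f ∣ X ^ r - 1 := minpoly.dvd F A (by simp [hAr])
  set Φ : F[X] := ∑ i ∈ Finset.range r, X ^ i with hΦdef
  have hΦ : Φ * (X - 1) = X ^ r - 1 := geom_sum_mul X r
  have hΦ1 : Φ.eval 1 = (r : F) := by
    rw [hΦdef, eval_geom_sum]
    simp
  have hr0 : (r : F) ≠ 0 := by
    rw [Ne, CharP.cast_eq_zero_iff F p r]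
    intro h
    exact hrp ((Nat.prime_dvd_prime_iff_eq Fact.out hr).mp h).symm
  have hncop : ¬ IsCoprime f Φ := by
    intro hc
    have h1 : f ∣ X - 1 := hc.dvd_of_dvd_mul_left (by rw [hΦ]; exact hfdvd)
    obtain ⟨k, hk⟩ := h1
    have h2 := congrArg (aeval A) hk
    rw [map_mul, hf, minpoly.aeval, zero_mul, map_sub, aeval_X, map_one, sub_eq_zero] at h2
    exact hA1 h2
  obtain ⟨g, hg, hgf, hgΦ⟩ : ∃ g, Irreducible g ∧ g ∣ f ∧ g ∣ Φ := by
    by_contra hcon
    push Not at hcon
    exact hncop (isCoprime_of_irreducible_dvd (by rintro ⟨h0, _⟩; exact hf0 h0)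
      (fun z hz hzf hzΦ => hcon z hz hzf hzΦ))
  have hg1 : ¬ g ∣ X - 1 := by
    intro h
    have h2 : g ∣ Φ - C (Φ.eval 1) := by
      have h3 := X_sub_C_dvd_sub_C_eval (a := (1 : F)) (p := Φ)
      rw [C_1] at h3
      exact h.trans h3
    have h3 : g ∣ C (Φ.eval 1) := by
      have := dvd_sub hgΦ h2
      simpa using this
    rw [hΦ1] at h3
    have hu : IsUnit (C (r : F)) := isUnit_C.mpr (IsUnit.mk0 _ hr0)
    exact hg.not_isUnit (isUnit_of_dvd_unit h3 hu)
  have hgr : g ∣ X ^ r - 1 := by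
    rw [← hΦ]
    exact hgΦ.mul_right _
  have hdvd := dvd_natDegree_of_irreducible hF hr g hg hgr hg1
  rw [hi] at hdvd
  have hgd : g.natDegree ≤ f.natDegree := natDegree_le_of_dvd hgf hf0
  have hfn : f.natDegree ≤ n := by
    have h1 := natDegree_le_of_dvd (Matrix.minpoly_dvd_charpoly A) (Matrix.charpoly_monic A).ne_zero
    rw [Matrix.charpoly_natDegree_eq_dim, Fintype.card_fin] at h1
    exact h1
  have hgpos : 0 < g.natDegree := hg.natDegree_pos
  have hng : n ≤ g.natDegree := Nat.le_of_dvd hgpos hdvd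
  have hdeg : f.natDegree = n := by omega
  refine ⟨?_, hdeg⟩
  obtain ⟨k, hk⟩ := hgf
  have hk0 : k ≠ 0 := by
    rintro rfl
    rw [mul_zero] at hk
    exact hf0 hk
  have hkdeg : k.natDegree = 0 := by
    have := natDegree_mul hg.ne_zero hk0
    rw [← hk] at this
    omega
  have hku : IsUnit k := by
    rw [eq_C_of_natDegree_eq_zero hkdeg] at hk0 ⊢
    rw [isUnit_C]
    exact IsUnit.mk0 _ (by intro h; apply hk0; rw [h, C_0])
  have hassoc : Associated g f := by
    refine ⟨hku.unit, ?_⟩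
    rw [IsUnit.unit_spec, ← hk]
  exact hassoc.irreducible hg

theorem result {F : Type*} [Field F] [Fintype F] {p q : ℕ} [Fact p.Prime] [CharP F p] (hF : Fintype.card F = q) {n r : ℕ} (hn : 1 ≤ n) (hr : r.Prime) (hrp : r ≠ p) (hi : orderOf (q : ZMod r) = n) (x : GL (Fin n) F) (hx : orderOf x = r) : IsCyclic ↥(Subgroup.centralizer ({x} : Set (GL (Fin n) F))) ∧ Nat.card ↥(Subgroup.centralizer ({x} : Set (GL (Fin n) F))) = q ^ n - 1 := by
  classical
  obtain ⟨k, rfl⟩ : ∃ k, n = k + 1 := ⟨n - 1, by omega⟩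
  set A : Matrix (Fin (k + 1)) (Fin (k + 1)) F := (x : Matrix (Fin (k + 1)) (Fin (k + 1)) F) with hA
  have hAr : A ^ r = 1 := by
    rw [hA, ← Units.val_pow_eq_pow_val, ← hx, pow_orderOf_eq_one]
    rfl
  have hA1 : A ≠ 1 := by
    intro h
    have h1 : x = 1 := Units.ext h
    rw [h1, orderOf_one] at hx
    exact hr.one_lt.ne hx
  obtain ⟨hirr, hdeg⟩ := minpoly_irreducible hF hr hrp hi A hAr hA1
  set f := minpoly F A with hf
  haveI : Fact (Irreducible f) := ⟨hirr⟩
  let φ : AdjoinRoot f →ₐ[F] Matrix (Fin (k + 1)) (Fin (k + 1)) F :=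
    Ideal.Quotient.liftₐ (Ideal.span {f}) (aeval A) (by
      intro a ha
      rw [Ideal.mem_span_singleton] at ha
      obtain ⟨c, rfl⟩ := ha
      rw [map_mul, hf, minpoly.aeval, zero_mul])
  have hφmk : ∀ g : F[X], φ (AdjoinRoot.mk f g) = aeval A g := fun g => rfl
  have hφroot : φ (AdjoinRoot.root f) = A := by rw [← AdjoinRoot.mk_X, hφmk, aeval_X]
  have hφinj : Function.Injective φ :=
    (φ.toRingHom : AdjoinRoot f →+* Matrix (Fin (k + 1)) (Fin (k + 1)) F).injective
  haveI : Module.Finite F (AdjoinRoot f) := (AdjoinRoot.powerBasis hirr.ne_zero).finite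
  haveI : Finite (AdjoinRoot f) := Module.finite_of_finite F
  have hfr : Module.finrank F (AdjoinRoot f) = k + 1 := by
    rw [(AdjoinRoot.powerBasis hirr.ne_zero).finrank, AdjoinRoot.powerBasis_dim, hdeg]
  have hcardL : Nat.card (AdjoinRoot f) = q ^ (k + 1) := by
    rw [Module.natCard_eq_pow_finrank (K := F), hfr, Nat.card_eq_fintype_card, hF]
  set v : Fin (k + 1) → F := Pi.single 0 1 with hv
  have hv0 : v ≠ 0 := by
    intro h
    have := congrFun h 0
    simp [hv] at this
  let T : AdjoinRoot f →ₗ[F] (Fin (k + 1) → F) :=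
    { toFun := fun a => Matrix.mulVec (φ a) v
      map_add' := by intro a b; rw [map_add, Matrix.add_mulVec]
      map_smul' := by intro c a; rw [map_smul, Matrix.smul_mulVec]; rfl }
  have hTapp : ∀ a, T a = Matrix.mulVec (φ a) v := fun a => rfl
  have hTinj : Function.Injective T := by
    rw [← LinearMap.ker_eq_bot, LinearMap.ker_eq_bot']
    intro a ha
    by_contra ha0
    have h1 : φ a⁻¹ * φ a = 1 := by rw [← map_mul, inv_mul_cancel₀ ha0, map_one]
    have h2 : v = Matrix.mulVec (φ a⁻¹ * φ a) v := by rw [h1, Matrix.one_mulVec]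
    rw [← Matrix.mulVec_mulVec] at h2
    rw [hTapp] at ha
    rw [ha, Matrix.mulVec_zero] at h2
    exact hv0 h2
  have hTsurj : Function.Surjective T :=
    (LinearMap.injective_iff_surjective_of_finrank_eq_finrank (by rw [hfr]; simp)).mp hTinj
  have hcomm : ∀ B : Matrix (Fin (k + 1)) (Fin (k + 1)) F, Commute B A → ∃ a, B = φ a := by
    intro B hB
    obtain ⟨a, ha⟩ := hTsurj (Matrix.mulVec B v)
    rw [hTapp] at ha
    refine ⟨a, ?_⟩
    apply Matrix.mulVec_injective
    funext w
    obtain ⟨b, hb⟩ := hTsurj w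
    rw [hTapp] at hb
    have hBb : B * φ b = φ b * B := by
      induction b using AdjoinRoot.induction_on with
      | ih g =>
        rw [hφmk]
        have hmem : aeval A g ∈ Algebra.adjoin F {A} := aeval_mem_adjoin_singleton F A
        have hle : Algebra.adjoin F {A} ≤ Subalgebra.centralizer F {B} := by
          apply Algebra.adjoin_le
          intro y hy
          rw [Set.mem_singleton_iff] at hy
          subst hy
          rw [SetLike.mem_coe, Subalgebra.mem_centralizer_iff]
          intro c hc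
          rw [Set.mem_singleton_iff] at hc
          subst hc
          exact hB.eq
        have h3 := hle hmem
        rw [Subalgebra.mem_centralizer_iff] at h3
        exact h3 B rfl
    have hab : φ a * φ b = φ b * φ a := by rw [← map_mul, ← map_mul, mul_comm]
    rw [← hb, Matrix.mulVec_mulVec, Matrix.mulVec_mulVec, hBb, hab, ← Matrix.mulVec_mulVec,
      ← Matrix.mulVec_mulVec, ha]
  let ψ : (AdjoinRoot f)ˣ →* GL (Fin (k + 1)) F :=
    Units.map (φ : AdjoinRoot f →* Matrix (Fin (k + 1)) (Fin (k + 1)) F)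
  have hψcoe : ∀ u : (AdjoinRoot f)ˣ, ((ψ u : GL (Fin (k + 1)) F) : Matrix (Fin (k + 1)) (Fin (k + 1)) F) =
      φ (u : AdjoinRoot f) := fun u => rfl
  have hψinj : Function.Injective ψ := Units.map_injective hφinj
  have hrange : ψ.range = Subgroup.centralizer ({x} : Set (GL (Fin (k + 1)) F)) := by
    ext g
    constructor
    · rintro ⟨u, rfl⟩
      rw [Subgroup.mem_centralizer_iff]
      intro h hh
      rw [Set.mem_singleton_iff] at hh
      subst hh
      apply Units.ext
      rw [Units.val_mul, Units.val_mul, hψcoe, ← hA, ← hφroot, ← map_mul, ← map_mul, mul_comm]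
    · intro hg
      rw [Subgroup.mem_centralizer_iff] at hg
      have h1 := hg x rfl
      have h2 : Commute (g : Matrix (Fin (k + 1)) (Fin (k + 1)) F) A := by
        have := congrArg Units.val h1
        rw [Units.val_mul, Units.val_mul] at this
        exact this.symm
      obtain ⟨a, ha⟩ := hcomm _ h2
      have ha0 : a ≠ 0 := by
        rintro rfl
        rw [map_zero] at ha
        exact g.ne_zero ha
      refine ⟨Units.mk0 a ha0, Units.ext ?_⟩
      rw [hψcoe, Units.val_mk0]
      exact ha.symm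
  have e : (AdjoinRoot f)ˣ ≃* ↥(Subgroup.centralizer ({x} : Set (GL (Fin (k + 1)) F))) :=
    (MonoidHom.ofInjective hψinj).trans (MulEquiv.subgroupCongr hrange)
  constructor
  · exact e.isCyclic.mp inferInstance
  · rw [← Nat.card_congr e.toEquiv, Nat.card_units, hcardL]

end Cfsg.Agent.S2638
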