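import Mathlib
import Cfsg.Statements.S2495
import Cfsg.Agent.Helper13.SingerCent
import Cfsg.Agent.Helper17.Zsigmondy

set_option autoImplicit false
set_option linter.style.haveILetI false

namespace Cfsg.Agent.S2495

open Finset

/-- geometric sum. -/
def gs (q n : ℕ) : ℕ := ∑ i ∈ range n, q ^ i

theorem gs_mul (q n : ℕ) (hq : 1 ≤ q) : (q - 1) * gs q n = q ^ n - 1 := by
  unfold gs
  have h := Nat.geomSum_eq (m := q)
  zify [hq, Nat.one_le_pow n q hq]
  rw [mul_comm]
  exact_mod_cast geom_sum_mul (q : ℤ) n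

theorem gs_modEq (q n : ℕ) (hq : 1 ≤ q) : gs q n ≡ n [MOD q - 1] := by
  unfold gs
  have h1 : ∀ i, q ^ i ≡ 1 [MOD q - 1] := by
    intro i
    have : q ≡ 1 [MOD q - 1] := by
      apply Nat.ModEq.symm
      rw [Nat.modEq_iff_dvd' hq]
    simpa using this.pow i
  have h2 : ∑ i ∈ range n, q ^ i ≡ ∑ i ∈ range n, 1 [MOD q - 1] := by
    induction n with
    | zero => simp [Nat.ModEq]
    | succ n ih =>
      rw [sum_range_succ, sum_range_succ]
      exact ih.add (h1 n)
  simpa using h2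

theorem gs_pos (q n : ℕ) (hq : 1 ≤ q) (hn : 1 ≤ n) : 0 < gs q n := by
  unfold gs
  apply sum_pos
  · intro i _
    exact Nat.pow_pos hq
  · exact ⟨0, by simp; omega⟩

theorem gs_double (q h : ℕ) (hq : 2 ≤ q) : gs q (2 * h) = (q ^ h + 1) * gs q h := by
  have h1 := gs_mul q (2 * h) (by omega)
  have h2 := gs_mul q h (by omega)
  have hqh : 1 ≤ q ^ h := Nat.one_le_pow h q (by omega)
  have h3 : (q - 1) * ((q ^ h + 1) * gs q h) = q ^ (2 * h) - 1 := by
    rw [mul_left_comm, h2, mul_comm 2 h, pow_mul]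
    zify [hqh, Nat.one_le_pow 2 (q ^ h) hqh]
    ring
  have hpos : 0 < q - 1 := by omega
  exact Nat.eq_of_mul_eq_mul_left hpos (h1.trans h3.symm)

theorem gcd_dvd_half_iff (n m : ℕ) (hn : 0 < n) (heven : Even n) (hm : 0 < m) :
    Nat.gcd n m ∣ n / 2 ↔ padicValNat 2 m < padicValNat 2 n := by
  obtain ⟨h, hh⟩ := heven
  have hh2 : n = 2 * h := by omega
  have hh0 : 0 < h := by omega
  have hdiv : n / 2 = h := by omega
  rw [hdiv]
  constructor
  · intro hd
    by_contra hlt
    rw [not_lt] at hlt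
    have h1 : 2 ^ padicValNat 2 n ∣ n := pow_padicValNat_dvd
    have h2 : 2 ^ padicValNat 2 n ∣ m :=
      (pow_dvd_pow 2 hlt).trans pow_padicValNat_dvd
    have h3 : 2 ^ padicValNat 2 n ∣ h := (Nat.dvd_gcd h1 h2).trans hd
    have h4 : 2 ^ (padicValNat 2 n + 1) ∣ n := by
      rw [pow_succ]
      have := Nat.mul_dvd_mul_right h3 2
      rwa [mul_comm h 2, ← hh2] at this
    have := (padicValNat_dvd_iff_le (p := 2) (by omega : n ≠ 0)).mp h4
    omega
  · intro hlt
    set d := Nat.gcd n m with hd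
    have hdn : d ∣ n := Nat.gcd_dvd_left n m
    have hdm : d ∣ m := Nat.gcd_dvd_right n m
    obtain ⟨k, hk⟩ := hdn
    have hd0 : d ≠ 0 := by
      intro h0
      rw [h0, zero_mul] at hk
      omega
    have hk0 : k ≠ 0 := by
      intro h0
      rw [h0, mul_zero] at hk
      omega
    have hv : padicValNat 2 n = padicValNat 2 d + padicValNat 2 k := by
      rw [hk, padicValNat.mul hd0 hk0]
    have hvd : padicValNat 2 d ≤ padicValNat 2 m := by
      have h1 : 2 ^ padicValNat 2 d ∣ m := pow_padicValNat_dvd.trans hdm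
      exact (padicValNat_dvd_iff_le (p := 2) (by omega : m ≠ 0)).mp h1
    have hvk : 1 ≤ padicValNat 2 k := by omega
    have h2k : 2 ∣ k := by
      have := (padicValNat_dvd_iff_le (p := 2) hk0 (n := 1)).mpr hvk
      simpa using this
    obtain ⟨k', hk'⟩ := h2k
    refine ⟨k', ?_⟩
    have : 2 * h = 2 * (d * k') := by
      rw [← hh2, hk, hk']
      ring
    omega

theorem dvd_div_iff (e A d : ℕ) (he : 0 < e) (hd : 0 < d) (hdM : d ∣ e * A) :
    e ∣ (e * A) / d ↔ d ∣ A := by
  constructor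
  · rintro ⟨k, hk⟩
    have h1 : e * A = d * (e * k) := by
      rw [← hk, Nat.mul_div_cancel' hdM]
    refine ⟨k, ?_⟩
    have h2 : e * A = e * (d * k) := by rw [h1]; ring
    exact Nat.eq_of_mul_eq_mul_left he h2
  · rintro ⟨k, rfl⟩
    refine ⟨k, ?_⟩
    rw [show e * (d * k) = d * (e * k) by ring, Nat.mul_div_cancel_left _ hd]


section fld

variable {F E : Type*} [Field F] [Fintype F] [Field E] [Algebra F E] [Finite E] {n : ℕ}

theorem card_F_ge : 2 ≤ Fintype.card F := Fintype.one_lt_card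

theorem norm_exp (hfr : Module.finrank F E = n) :
    (Nat.card E - 1) / (Nat.card F - 1) = gs (Fintype.card F) n := by
  have h1 : Nat.card E = Fintype.card F ^ n := by
    rw [Module.natCard_eq_pow_finrank (K := F), hfr, Nat.card_eq_fintype_card]
  have h2 := gs_mul (Fintype.card F) n (by have := card_F_ge (F := F); omega)
  rw [h1, Nat.card_eq_fintype_card, ← h2]
  apply Nat.mul_div_cancel_left
  have := card_F_ge (F := F)
  omega

theorem pow_gs_eq_one (hfr : Module.finrank F E = n) (a : E) (ha : Algebra.norm F a = 1) :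
    a ^ gs (Fintype.card F) n = 1 := by
  have h := FiniteField.algebraMap_norm_eq_pow (K := F) (K' := E) (x := a)
  rw [norm_exp hfr, ha, map_one] at h
  exact h.symm

theorem mem_range_of_pow (b : E) (hb : b ^ (Fintype.card F - 1) = 1) :
    ∃ c : F, algebraMap F E c = b := by
  classical
  have hq := card_F_ge (F := F)
  have : Fintype E := Fintype.ofFinite E
  have hb0 : b ≠ 0 := by
    intro h
    rw [h, zero_pow (by omega)] at hb
    exact zero_ne_one hb
  set ι : Fˣ →* Eˣ := Units.map (algebraMap F E : F →* E) with hι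
  have hιinj : Function.Injective ι := Units.map_injective (algebraMap F E).injective
  set S : Finset Eˣ := (Finset.univ : Finset Fˣ).image ι with hS
  set T : Finset Eˣ := Finset.univ.filter (fun u : Eˣ => u ^ (Fintype.card F - 1) = 1) with hT
  have hST : S ⊆ T := by
    intro u hu
    rw [hS, Finset.mem_image] at hu
    obtain ⟨c, -, rfl⟩ := hu
    rw [hT, Finset.mem_filter]
    refine ⟨Finset.mem_univ _, ?_⟩
    rw [← map_pow]
    have : c ^ (Fintype.card F - 1) = 1 := by
      rw [← Fintype.card_units]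
      exact pow_card_eq_one
    rw [this, map_one]
  have hcS : S.card = Fintype.card F - 1 := by
    rw [hS, Finset.card_image_of_injective _ hιinj, Finset.card_univ, Fintype.card_units]
  have hcT : T.card ≤ Fintype.card F - 1 := IsCyclic.card_pow_eq_one_le (by omega)
  have hEq : S = T := Finset.eq_of_subset_of_card_le hST (by rw [hcS]; exact hcT)
  have hmem : Units.mk0 b hb0 ∈ T := by
    rw [hT, Finset.mem_filter]
    refine ⟨Finset.mem_univ _, ?_⟩
    apply Units.ext
    rw [Units.val_pow_eq_pow_val, Units.val_mk0, hb, Units.val_one]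
  rw [← hEq, hS, Finset.mem_image] at hmem
  obtain ⟨c, -, hc⟩ := hmem
  refine ⟨(c : F), ?_⟩
  have := congrArg Units.val hc
  simpa [hι] using this

theorem pow_mem_range (hfr : Module.finrank F E = n) (d : ℕ)
    (hd1 : d ∣ gs (Fintype.card F) n) (hd2 : d ∣ Fintype.card F - 1)
    (a : E) (ha : Algebra.norm F a = 1) :
    ∃ c : F, a ^ (gs (Fintype.card F) n / d) = algebraMap F E c := by
  obtain ⟨c, hc⟩ := mem_range_of_pow (F := F) (a ^ (gs (Fintype.card F) n / d)) (by
    obtain ⟨k, hk⟩ := hd2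
    rw [← pow_mul, hk, ← mul_assoc, Nat.div_mul_cancel hd1, pow_mul, pow_gs_eq_one hfr a ha, one_pow])
  exact ⟨c, hc.symm⟩

theorem exists_norm_one (hfr : Module.finrank F E = n) (_hn : 1 ≤ n) :
    ∃ a : E, Algebra.norm F a = 1 ∧ ∀ (k : ℕ) (c : F), a ^ k = algebraMap F E c →
      gs (Fintype.card F) n / Nat.gcd (gs (Fintype.card F) n) (Fintype.card F - 1) ∣ k := by
  classical
  have hq := card_F_ge (F := F)
  have : Fintype E := Fintype.ofFinite E
  obtain ⟨ω, hω⟩ : ∃ ω : Eˣ, orderOf ω = Nat.card Eˣ := IsCyclic.exists_ofOrder_eq_natCard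
  have hcardE : Nat.card Eˣ = (Fintype.card F - 1) * gs (Fintype.card F) n := by
    rw [Nat.card_units, Module.natCard_eq_pow_finrank (K := F), hfr, Nat.card_eq_fintype_card,
      gs_mul _ _ (by omega)]
  have hnω : Algebra.norm F (ω : E) ≠ 0 := by
    intro h0
    have h1 : Algebra.norm F ((ω : E) * ((ω⁻¹ : Eˣ) : E)) = 1 := by
      rw [Units.mul_inv, map_one]
    rw [map_mul, h0, zero_mul] at h1
    exact zero_ne_one h1
  refine ⟨(ω : E) ^ (Fintype.card F - 1), ?_, ?_⟩
  · rw [map_pow]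
    exact FiniteField.pow_card_sub_one_eq_one _ hnω
  · intro k c hc
    set M := gs (Fintype.card F) n with hM
    set Q := Fintype.card F - 1 with hQ
    have hc0 : c ≠ 0 := by
      intro h0
      rw [h0, map_zero] at hc
      exact (pow_ne_zero k (pow_ne_zero _ ω.ne_zero)) hc
    have hcQ : c ^ Q = 1 := FiniteField.pow_card_sub_one_eq_one c hc0
    have h1 : (ω : E) ^ (Q * k * Q) = 1 := by
      rw [pow_mul, pow_mul, hc, ← map_pow, hcQ, map_one]
    have h2 : ω ^ (Q * k * Q) = 1 := by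
      apply Units.ext
      rw [Units.val_pow_eq_pow_val, h1, Units.val_one]
    have h3 : Q * M ∣ Q * k * Q := by
      rw [← hcardE, ← hω]
      exact orderOf_dvd_of_pow_eq_one h2
    have hQpos : 0 < Q := by omega
    have h4 : M ∣ k * Q := by
      rw [mul_assoc] at h3
      exact Nat.dvd_of_mul_dvd_mul_left hQpos h3
    set g := Nat.gcd M Q with hg
    have hgpos : 0 < g := Nat.gcd_pos_of_pos_right _ hQpos
    have hgM : g ∣ M := Nat.gcd_dvd_left M Q
    have hgQ : g ∣ Q := Nat.gcd_dvd_right M Q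
    have h5 : M / g ∣ k * (Q / g) := by
      obtain ⟨t, ht⟩ := h4
      refine ⟨t, ?_⟩
      apply Nat.eq_of_mul_eq_mul_left hgpos
      calc g * (k * (Q / g)) = k * (g * (Q / g)) := by ring
        _ = k * Q := by rw [Nat.mul_div_cancel' hgQ]
        _ = M * t := ht
        _ = g * (M / g) * t := by rw [Nat.mul_div_cancel' hgM]
        _ = g * (M / g * t) := by ring
    have hcop : Nat.Coprime (M / g) (Q / g) := Nat.coprime_div_gcd_div_gcd hgpos
    exact hcop.dvd_of_dvd_mul_right h5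

end fld

section psl

variable {F : Type*} [Field F] [Fintype F] {n : ℕ}

local notation "SLn" => Matrix.SpecialLinearGroup (Fin n) F
local notation "PSLn" => Matrix.ProjectiveSpecialLinearGroup (Fin n) F
local notation "Mn" => Matrix (Fin n) (Fin n) F

theorem mk_pow_eq_one_iff (g : SLn) (k : ℕ) :
    (QuotientGroup.mk g : PSLn) ^ k = 1 ↔ ∃ c : F, (g : Mn) ^ k = c • (1 : Mn) := by
  rw [← QuotientGroup.mk_pow, QuotientGroup.eq_one_iff, Matrix.SpecialLinearGroup.mem_center_iff]
  constructor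
  · rintro ⟨r, -, hr⟩
    refine ⟨r, ?_⟩
    rw [← Matrix.SpecialLinearGroup.coe_pow, ← hr, Matrix.smul_one_eq_diagonal]
    rfl
  · rintro ⟨c, hc⟩
    refine ⟨c, ?_, ?_⟩
    · have h1 : ((g ^ k : SLn) : Mn).det = 1 := (g ^ k).2
      rw [Matrix.SpecialLinearGroup.coe_pow, hc, Matrix.det_smul, Matrix.det_one, mul_one] at h1
      exact h1
    · rw [Matrix.SpecialLinearGroup.coe_pow, hc, Matrix.smul_one_eq_diagonal]
      rfl

variable {E : Type*} [Field E] [Algebra F E] [Finite E]

theorem orderOf_dvd_of_eq (hfr : Module.finrank F E = n) (φ : E →ₐ[F] Mn)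
    (hdet : ∀ a, (φ a).det = Algebra.norm F a) (g : SLn) (a : E) (hga : (g : Mn) = φ a)
    (d : ℕ) (hd1 : d ∣ gs (Fintype.card F) n) (hd2 : d ∣ Fintype.card F - 1) :
    orderOf (QuotientGroup.mk g : PSLn) ∣ gs (Fintype.card F) n / d := by
  apply orderOf_dvd_of_pow_eq_one
  rw [mk_pow_eq_one_iff]
  have ha : Algebra.norm F a = 1 := by
    rw [← hdet, ← hga]
    exact g.2
  obtain ⟨c, hc⟩ := pow_mem_range hfr d hd1 hd2 a ha
  refine ⟨c, ?_⟩
  rw [hga, ← map_pow, hc, AlgHom.commutes, Algebra.algebraMap_eq_smul_one]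

theorem exists_orderOf (hn : 1 ≤ n) :
    ∃ g : PSLn, orderOf g =
      gs (Fintype.card F) n / Nat.gcd (gs (Fintype.card F) n) (Fintype.card F - 1) := by
  classical
  obtain ⟨p, hp⟩ := CharP.exists F
  haveI := hp
  haveI hpp : Fact p.Prime := ⟨CharP.char_is_prime F p⟩
  haveI : NeZero n := ⟨by omega⟩
  let K := FiniteField.Extension F p n
  have hfr : Module.finrank F K = n := FiniteField.finrank_extension F p n
  let b : Module.Basis (Fin n) F K := Module.finBasisOfFinrankEq F K hfr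
  let L : K →ₐ[F] Mn := Algebra.leftMulMatrix b
  have hdet : ∀ a, (L a).det = Algebra.norm F a := fun a => (Algebra.norm_eq_matrix_det b a).symm
  obtain ⟨a, ha1, ha2⟩ := exists_norm_one (F := F) (E := K) hfr hn
  let g : SLn := ⟨L a, by rw [hdet, ha1]⟩
  refine ⟨QuotientGroup.mk g, ?_⟩
  apply Nat.dvd_antisymm
  · exact orderOf_dvd_of_eq hfr L hdet g a rfl _ (Nat.gcd_dvd_left _ _) (Nat.gcd_dvd_right _ _)
  · have h1 := pow_orderOf_eq_one (QuotientGroup.mk g : PSLn)
    rw [mk_pow_eq_one_iff] at h1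
    obtain ⟨c, hc⟩ := h1
    apply ha2 _ c
    apply Algebra.leftMulMatrix_injective b
    change L _ = L _
    rw [map_pow, AlgHom.commutes, Algebra.algebraMap_eq_smul_one]
    exact hc

end psl


section main

universe u

variable {F : Type u} [Field F] [Fintype F] {n : ℕ}

local notation "SLn" => Matrix.SpecialLinearGroup (Fin n) F
local notation "PSLn" => Matrix.ProjectiveSpecialLinearGroup (Fin n) F
local notation "Mn" => Matrix (Fin n) (Fin n) F

theorem dvd_of_orderOf (hn : 4 ≤ n) (heven : Even n) (hodd : Odd (Fintype.card F))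
    (g : PSLn) (hg : orderOf g = Fintype.card F ^ (n / 2) + 1) :
    Fintype.card F ^ (n / 2) + 1 ∣
      gs (Fintype.card F) n / Nat.gcd (gs (Fintype.card F) n) (Fintype.card F - 1) := by
  classical
  set q := Fintype.card F with hq
  have hq3 : 3 ≤ q := by
    have h2 : 2 ≤ q := card_F_ge (F := F)
    rcases hodd with ⟨k, hk⟩
    omega
  obtain ⟨h, hh⟩ := heven
  have hh2 : n = 2 * h := by omega
  have hdiv : n / 2 = h := by omega
  rw [hdiv] at hg ⊢
  obtain ⟨r, hrp, hrdvd, hrmin⟩ := Cfsg.Agent.Helper17.Zsig.zsigmondy (a := q) (n := n)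
    (by omega) (by omega) (by omega) (by omega)
  obtain ⟨p, hp⟩ := CharP.exists F
  haveI := hp
  haveI hpp : Fact p.Prime := ⟨CharP.char_is_prime F p⟩
  have hqpos : 1 ≤ q ^ n := Nat.one_le_pow _ _ (by omega)
  have hrp' : r ≠ p := by
    rintro rfl
    obtain ⟨k, hk⟩ := FiniteField.card F r
    have h1 : r ∣ q := by
      rw [hq, hk.2]
      exact dvd_pow_self r k.ne_zero
    have h2 : r ∣ q ^ n := dvd_pow h1 (by omega)
    have h3 : r ∣ q ^ n - (q ^ n - 1) := Nat.dvd_sub h2 hrdvd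
    have h4 : q ^ n - (q ^ n - 1) = 1 := by omega
    rw [h4] at h3
    exact hrp.one_lt.ne' (Nat.dvd_one.mp h3)
  have hi : orderOf ((q : ℕ) : ZMod r) = n := by
    rw [orderOf_eq_iff (by omega)]
    refine ⟨(Cfsg.Agent.Helper17.Zsig.cast_pow_eq_one_iff (by omega) n r).2 hrdvd, ?_⟩
    intro m hm hm0 h1
    exact hrmin m hm0 hm ((Cfsg.Agent.Helper17.Zsig.cast_pow_eq_one_iff (by omega) m r).1 h1)
  -- r divides e
  have hqh : 1 ≤ q ^ h := Nat.one_le_pow _ _ (by omega)
  have hre : r ∣ q ^ h + 1 := by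
    have h1 : q ^ n - 1 = (q ^ h - 1) * (q ^ h + 1) := by
      rw [hh2, mul_comm 2 h, pow_mul]
      zify [hqh, Nat.one_le_pow 2 (q ^ h) hqh]
      ring
    rw [h1] at hrdvd
    rcases (Nat.Prime.dvd_mul hrp).mp hrdvd with h2 | h2
    · exact absurd h2 (hrmin h (by omega) (by omega))
    · exact h2
  obtain ⟨e', he'⟩ := hre
  have he'0 : e' ≠ 0 := by
    rintro rfl
    rw [mul_zero] at he'
    omega
  obtain ⟨g', rfl⟩ := QuotientGroup.mk_surjective g
  have hord : orderOf ((QuotientGroup.mk g' : PSLn) ^ e') = r := by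
    rw [orderOf_pow_of_dvd he'0 (by rw [hg, he']; exact dvd_mul_left _ _), hg, he',
      Nat.mul_div_cancel _ (Nat.pos_of_ne_zero he'0)]
  set H : Mn := ((g' ^ e' : SLn) : Mn) with hH
  have hHr : ∃ c : F, H ^ r = c • (1 : Mn) := by
    rw [hH, ← mk_pow_eq_one_iff, QuotientGroup.mk_pow, ← hord, pow_orderOf_eq_one]
  have hHns : ¬ ∃ c : F, H = c • (1 : Mn) := by
    intro hc
    have h1 : (QuotientGroup.mk (g' ^ e') : PSLn) ^ 1 = 1 := by
      rw [mk_pow_eq_one_iff, pow_one]
      exact hc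
    rw [pow_one, QuotientGroup.mk_pow] at h1
    rw [h1, orderOf_one] at hord
    exact hrp.one_lt.ne hord
  obtain ⟨c, hc⟩ := hHr
  have hc0 : c ≠ 0 := by
    intro h0
    have h1 : (H ^ r).det = 1 := by
      rw [Matrix.det_pow, hH, (g' ^ e').2, one_pow]
    haveI : Nonempty (Fin n) := ⟨⟨0, by omega⟩⟩
    rw [hc, h0, zero_smul, Matrix.det_zero] at h1
    exact zero_ne_one h1
  have hcop : Nat.Coprime (Nat.card Fˣ) r := by
    rw [Nat.card_units, Nat.card_eq_fintype_card, Nat.coprime_comm, Nat.Prime.coprime_iff_not_dvd hrp]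
    have := hrmin 1 (by omega) (by omega)
    rwa [pow_one] at this
  obtain ⟨μ, hμ⟩ := (powCoprime hcop).surjective (Units.mk0 c hc0)⁻¹
  rw [powCoprime_apply] at hμ
  have hμc : (μ : F) ^ r * c = 1 := by
    have := congrArg Units.val hμ
    rw [Units.val_pow_eq_pow_val, Units.val_inv_eq_inv_val, Units.val_mk0] at this
    rw [this, inv_mul_cancel₀ hc0]
  set A : Mn := (μ : F) • H with hA
  have hAr : A ^ r = 1 := by
    rw [hA, smul_pow, hc, smul_smul, hμc, one_smul]
  have hA1 : A ≠ 1 := by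
    intro h1
    apply hHns
    refine ⟨((μ⁻¹ : Fˣ) : F), ?_⟩
    rw [← h1, hA, smul_smul, Units.inv_mul, one_smul]
  obtain ⟨E, _, _, _, φ, -, hfr, hcomm, hdet⟩ :=
    Cfsg.Agent.Helper13.SingerCent.exists_field_of_prime_order (F := F) (q := q) rfl (by omega)
      hrp hrp' hi A hAr hA1
  have hcommA : Commute (g' : Mn) A := by
    rw [hA, hH, Matrix.SpecialLinearGroup.coe_pow]
    exact ((Commute.refl (g' : Mn)).pow_right e').smul_right _
  obtain ⟨a, ha⟩ := hcomm _ hcommA
  have := orderOf_dvd_of_eq hfr φ hdet g' a ha _ (Nat.gcd_dvd_left _ _) (Nat.gcd_dvd_right _ _)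
  rwa [hg] at this

end main

/-- Let q be an odd prime power, n ≥ 4 even, and L = PSL(n,q). Then L has an element of order q^(n/2) + 1 if and only if the 2-part of n exceeds the 2-part of q − 1. -/
theorem result {F : Type*} [Field F] [Fintype F] {q : ℕ} (hF : Fintype.card F = q) (hodd : Odd q)
    {n : ℕ} (hn : 4 ≤ n) (heven : Even n) :
    (∃ g : Matrix.ProjectiveSpecialLinearGroup (Fin n) F, orderOf g = q ^ (n / 2) + 1) ↔
      padicValNat 2 (q - 1) < padicValNat 2 n := by
  subst hF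
  set q := Fintype.card F with hq
  have hq3 : 3 ≤ q := by
    have h2 : 2 ≤ q := card_F_ge (F := F)
    rcases hodd with ⟨k, hk⟩
    omega
  obtain ⟨h, hh⟩ := id heven
  have hh2 : n = 2 * h := by omega
  have hdiv : n / 2 = h := by omega
  have hM : gs q n = (q ^ h + 1) * gs q h := by
    rw [hh2]
    exact gs_double q h (by omega)
  have hgcd : Nat.gcd (gs q n) (q - 1) = Nat.gcd n (q - 1) :=
    (gs_modEq q n (by omega)).gcd_eq
  set d := Nat.gcd n (q - 1) with hd
  have hdpos : 0 < d := Nat.gcd_pos_of_pos_left _ (by omega)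
  have hdq : d ∣ q - 1 := Nat.gcd_dvd_right _ _
  have hdM : d ∣ (q ^ h + 1) * gs q h := by
    rw [← hM, ← hgcd]
    exact Nat.gcd_dvd_left _ _
  have hA : d ∣ gs q h ↔ d ∣ h := ((gs_modEq q h (by omega)).of_dvd hdq).dvd_iff dvd_rfl
  have key : q ^ h + 1 ∣ gs q n / Nat.gcd (gs q n) (q - 1) ↔
      padicValNat 2 (q - 1) < padicValNat 2 n := by
    rw [hgcd, hM, dvd_div_iff _ _ _ (Nat.succ_pos _) hdpos hdM, hA, ← hdiv,
      gcd_dvd_half_iff n (q - 1) (by omega) heven (by omega)]
  rw [← key, hdiv]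
  constructor
  · rintro ⟨g, hg⟩
    have := dvd_of_orderOf hn heven hodd g (by rw [hdiv]; exact hg)
    rwa [hdiv] at this
  · intro hdvd
    obtain ⟨g₀, hg₀⟩ := exists_orderOf (F := F) (n := n) (by omega)
    obtain ⟨k, hk⟩ := hdvd
    have hk0 : k ≠ 0 := by
      rintro rfl
      rw [mul_zero] at hk
      have h1 := orderOf_pos g₀
      have h2 : orderOf g₀ = 0 := hg₀.trans hk
      omega
    refine ⟨g₀ ^ k, ?_⟩
    rw [orderOf_pow_of_dvd hk0 (by rw [hg₀, hk]; exact dvd_mul_left _ _), hg₀, hk,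
      Nat.mul_div_cancel _ (Nat.pos_of_ne_zero hk0)]

end Cfsg.Agent.S2495
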