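import Cfsg.Statements.S2587
import Cfsg.Agent.Helper21.NS3

set_option autoImplicit false
open Cfsg

namespace Cfsg.Agent.S2587

/-- Conjugacy in the finite general unitary group is controlled by the general linear group: two elements of GU_n(q) (the invertible matrices over the field with q² elements preserving the Hermitian form Σ u_i v_i^q) are conjugate in GU_n(q) if and only if they are conjugate in GL_n(q²). -/
theorem result {K : Type*} [Field K] [Fintype K] {q n : ℕ} (hK : Fintype.card K = q ^ 2) (A B : ↥(Cfsg.GU n K q)) : IsConj A B ↔ IsConj (A : GL (Fin n) K) (B : GL (Fin n) K) := by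
  obtain ⟨σ, hσ, hσ2⟩ := Cfsg.Agent.Helper28.exists_frob hK
  constructor
  · intro h
    obtain ⟨c, hc⟩ := isConj_iff.1 h
    refine isConj_iff.2 ⟨(c : GL (Fin n) K), ?_⟩
    have := congrArg (Subtype.val : ↥(Cfsg.GU n K q) → GL (Fin n) K) hc
    simpa using this
  · intro h
    obtain ⟨g, hg⟩ := isConj_iff.1 h
    have hA := (Cfsg.Agent.Helper28.GUlib.mem_GU_iff σ hσ (A : GL (Fin n) K)).1 A.2
    have hB := (Cfsg.Agent.Helper28.GUlib.mem_GU_iff σ hσ (B : GL (Fin n) K)).1 B.2
    have hg1 : (g : Matrix (Fin n) (Fin n) K) * ((g⁻¹ : GL (Fin n) K) : Matrix (Fin n) (Fin n) K) = 1 := by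
      rw [← Matrix.GeneralLinearGroup.coe_mul, mul_inv_cancel]; rfl
    have hg2 : ((g⁻¹ : GL (Fin n) K) : Matrix (Fin n) (Fin n) K) * (g : Matrix (Fin n) (Fin n) K) = 1 := by
      rw [← Matrix.GeneralLinearGroup.coe_mul, inv_mul_cancel]; rfl
    have hconj : (g : Matrix (Fin n) (Fin n) K) * ((A : GL (Fin n) K) : Matrix (Fin n) (Fin n) K)
        = ((B : GL (Fin n) K) : Matrix (Fin n) (Fin n) K) * (g : Matrix (Fin n) (Fin n) K) := by
      have h1 : g * (A : GL (Fin n) K) = (B : GL (Fin n) K) * g := by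
        rw [← hg]; group
      have := congrArg (fun x : GL (Fin n) K => (x : Matrix (Fin n) (Fin n) K)) h1
      simpa using this
    obtain ⟨x, hx, hxA⟩ := Cfsg.Agent.Helper21.NS.exists_unitary_conj hK σ hσ hσ2 _ _ _ _ hA hB hg1 hg2 hconj
    refine isConj_iff.2 ⟨Cfsg.Agent.Helper28.GUlib.mkGU σ hσ x hx, ?_⟩
    apply Subtype.ext
    apply Matrix.GeneralLinearGroup.ext
    intro i j
    have h2 : Cfsg.Agent.Helper28.GUlib.mkGU σ hσ x hx * A = B * Cfsg.Agent.Helper28.GUlib.mkGU σ hσ x hx := by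
      apply Subtype.ext
      apply Matrix.GeneralLinearGroup.ext
      intro i j
      have := congrFun (congrFun hxA i) j
      exact this
    rw [h2]
    simp

end Cfsg.Agent.S2587
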