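import Mathlib
import Cfsg.Statements.S0755
import Cfsg.Agent.Helper28.Norm

set_option autoImplicit false
open Cfsg

namespace Cfsg.Agent.S0755

open LinearMap Module

theorem exists_self_ne_zero {F V : Type*} [Field F] [AddCommGroup V] [Module F V]
    (σ : F →+* F) (hσ : σ ≠ RingHom.id F) (B : V →ₛₗ[σ] V →ₗ[F] F) (hS : B.IsSymm)
    (hB : B.SeparatingRight) (hV : ∃ x : V, x ≠ 0) : ∃ v : V, B v v ≠ 0 := by
  by_contra hcon
  push Not at hcon
  obtain ⟨x, hx⟩ := hV
  have : ∃ x', B x' x ≠ 0 := by
    by_contra h
    push Not at h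
    exact hx (hB x h)
  obtain ⟨x', hc⟩ := this
  set c := B x' x with hc'
  have key : ∀ t : F, t + σ t = 0 := by
    intro t
    have h := hcon (x' + (t * c⁻¹) • x)
    have e : B (x' + (t * c⁻¹) • x) (x' + (t * c⁻¹) • x)
        = B x' x' + (t * c⁻¹) * B x' x + σ (t * c⁻¹) * B x x' + σ (t * c⁻¹) * (t * c⁻¹) * B x x := by
      simp only [map_add, LinearMap.add_apply, map_smulₛₗ, LinearMap.smul_apply, smul_eq_mul,
        RingHom.id_apply]
      ring
    rw [e, hcon, hcon] at h
    have h2 : B x x' = σ c := (hS.eq x' x).symm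
    rw [h2, ← hc', ← map_mul, mul_assoc, inv_mul_cancel₀ hc, mul_one] at h
    simpa using h
  apply hσ
  ext t
  have h1 := key 1
  rw [map_one] at h1
  have h2 := key t
  simp only [RingHom.id_apply]
  have : σ t = -t := by linear_combination h2
  rw [this]
  linear_combination (-t) * h1

theorem aux {F : Type*} [Field F] [Finite F] (σ : F →+* F) (hσ : σ ≠ RingHom.id F)
    (hσ2 : ∀ a : F, σ (σ a) = a) (n : ℕ) :
    ∀ {V : Type*} [AddCommGroup V] [Module F V] [FiniteDimensional F V]
    (B : V →ₛₗ[σ] V →ₗ[F] F), B.IsSymm → B.SeparatingRight → finrank F V = n →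
    ∃ b : Fin n → V, ∀ i j, B (b i) (b j) = if i = j then 1 else 0 := by
  induction n with
  | zero =>
    intro V _ _ _ B hS hB hn
    exact ⟨Fin.elim0, fun i => i.elim0⟩
  | succ n ih =>
    intro V _ _ _ B hS hB hn
    have hV : ∃ x : V, x ≠ 0 := by
      have : 0 < finrank F V := by omega
      exact Module.finrank_pos_iff_exists_ne_zero.mp this
    obtain ⟨v, hv⟩ := exists_self_ne_zero σ hσ B hS hB hV
    have hfix : σ (B v v)⁻¹ = (B v v)⁻¹ := by
      rw [map_inv₀, hS.eq]
    obtain ⟨a, ha⟩ := Cfsg.Agent.Helper28.exists_norm_eq σ hσ hσ2 (B v v)⁻¹ (inv_ne_zero hv) hfix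
    set u := a • v with hu
    have huu : B u u = 1 := by
      simp only [hu, map_smulₛₗ, LinearMap.smul_apply, smul_eq_mul, RingHom.id_apply]
      rw [← mul_assoc, ha, inv_mul_cancel₀ hv]
    obtain ⟨W, hW⟩ : ∃ W : Submodule F V, W = LinearMap.ker (B u) := ⟨_, rfl⟩
    have hWmem : ∀ w, w ∈ W ↔ B u w = 0 := by
      intro w; simp [hW]
    have hfr : finrank F W = n := by
      have hrange : LinearMap.range (B u) = ⊤ := by
        rw [LinearMap.range_eq_top]
        intro c
        exact ⟨c • u, by simp [huu]⟩
      have := LinearMap.finrank_range_add_finrank_ker (B u)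
      rw [hrange, finrank_top, finrank_self, hn, ← hW] at this
      omega
    set B' : W →ₛₗ[σ] W →ₗ[F] F := B.domRestrict₁₂ W W with hB'
    have hB'a : ∀ x y : W, B' x y = B x y := fun x y => rfl
    have hS' : B'.IsSymm := ⟨fun x y => by rw [hB'a, hB'a, hS.eq]⟩
    have hsep' : B'.SeparatingRight := by
      intro w hw
      have : (w : V) = 0 := by
        apply hB
        intro x
        have hx : x - (B u x) • u ∈ W := by
          rw [hWmem]
          simp [huu]
        have h1 := hw ⟨_, hx⟩
        rw [hB'a] at h1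
        simp only [map_sub, LinearMap.sub_apply, map_smulₛₗ, LinearMap.smul_apply, smul_eq_mul] at h1
        rw [(hWmem w).1 w.2] at h1
        simpa using h1
      exact Subtype.ext this
    obtain ⟨b', hb'⟩ := ih B' hS' hsep' hfr
    refine ⟨Fin.cons u (fun i => (b' i : V)), ?_⟩
    intro i j
    induction i using Fin.cases with
    | zero =>
      induction j using Fin.cases with
      | zero => simpa using huu
      | succ j =>
        have := (hWmem _).1 (b' j).2
        simp only [Fin.cons_zero, Fin.cons_succ, this]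
        rw [if_neg (Fin.succ_ne_zero j).symm]
    | succ i =>
      induction j using Fin.cases with
      | zero =>
        have := (hWmem _).1 (b' i).2
        simp only [Fin.cons_zero, Fin.cons_succ]
        rw [← hS.eq, this, map_zero, if_neg (Fin.succ_ne_zero i)]
      | succ j =>
        have := hb' i j
        rw [hB'a] at this
        simp only [Fin.cons_succ, Fin.succ_inj]
        exact this

/-- Classification of Hermitian forms over finite fields: if σ is a non-identity involutive automorphism of the finite field F and B is a non-degenerate conjugate-symmetric σ-sesquilinear form on the finite-dimensional space V, then V has a B-orthonormal basis. -/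
theorem result {F V : Type*} [Field F] [Finite F] [AddCommGroup V] [Module F V] [FiniteDimensional F V] (σ : F →+* F) (hσ : σ ≠ RingHom.id F) (hσ2 : ∀ a : F, σ (σ a) = a) (B : V →ₛₗ[σ] V →ₗ[F] F) (hS : B.IsSymm) (hB : B.Nondegenerate) : ∃ b : Module.Basis (Fin (Module.finrank F V)) F V, ∀ i j, B (b i) (b j) = if i = j then 1 else 0 := by
  classical
  obtain ⟨b, hb⟩ := aux σ hσ hσ2 (finrank F V) B hS hB.2 rfl
  have hLI : LinearIndependent F b := by
    rw [Fintype.linearIndependent_iff]
    intro g hg j
    have := congrArg (fun x => B (b j) x) hg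
    simpa [hb] using this
  have hspan := hLI.span_eq_top_of_card_eq_finrank' (by simp)
  refine ⟨Basis.mk hLI hspan.ge, ?_⟩
  simp only [Basis.coe_mk]
  exact hb

end Cfsg.Agent.S0755
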