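import Cfsg.Statements.S2171
import Cfsg.Agent.Helper28.CD2b
import Cfsg.Agent.Helper28.Spin6
import Cfsg.Agent.Helper13.Discr

set_option autoImplicit false
open Cfsg

namespace Cfsg.Agent.S2171

open Matrix Cfsg.Agent.Helper28.Spin

theorem polarBilin_QfMinus {F : Type*} [Field F] (m : ℕ) (a c : F) :
    QuadraticMap.polarBilin (QfMinus m F a c) = Matrix.toBilin' (Matrix.fromBlocks
        (Matrix.fromBlocks (0 : Matrix (Fin m) (Fin m) F) (1 : Matrix (Fin m) (Fin m) F)
          (1 : Matrix (Fin m) (Fin m) F) (0 : Matrix (Fin m) (Fin m) F))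
        (0 : Matrix (Fin m ⊕ Fin m) (Fin 2) F) (0 : Matrix (Fin 2) (Fin m ⊕ Fin m) F)
        (!![2, a; a, 2 * c] : Matrix (Fin 2) (Fin 2) F)) := by
  apply LinearMap.ext
  intro x
  apply LinearMap.ext
  intro y
  rw [QuadraticMap.polarBilin_apply_apply, Matrix.toBilin'_apply', QfMinus_coe,
    Cfsg.Agent.S2621.polar_minus]

theorem QfMinus_nondeg_of {F : Type*} [Field F] (m : ℕ) (a c : F) (h : 4 * c - a ^ 2 ≠ 0) :
    (QuadraticMap.polarBilin (QfMinus m F a c)).Nondegenerate := by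
  rw [polarBilin_QfMinus]
  apply LinearMap.BilinForm.nondegenerate_toBilin'_of_det_ne_zero'
  rw [Matrix.det_fromBlocks_zero₁₂, Cfsg.Agent.Helper13.det_fromBlocks_zero_one_one_zero,
    Matrix.det_fin_two_of]
  apply mul_ne_zero
  · exact pow_ne_zero _ (by simp)
  · intro h'
    apply h
    linear_combination h'

/-- in characteristic two an anisotropic binary form has nonzero middle coefficient -/
theorem ne_zero_of_aniso {F : Type*} [Field F] [Fintype F] [CharP F 2] (c d : F)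
    (hcd : ∀ z₁ z₂ : F, z₁ ^ 2 + c * z₁ * z₂ + d * z₂ ^ 2 = 0 → z₁ = 0 ∧ z₂ = 0) : c ≠ 0 := by
  rintro rfl
  have hchar : ringChar F = 2 := ringChar.eq F 2
  obtain ⟨r, hr⟩ := FiniteField.isSquare_of_char_two hchar d
  have := (hcd r 1 (by rw [hr]; have h2 : (2 : F) = 0 := CharTwo.two_eq_zero; linear_combination (r ^ 2) * h2)).2
  exact one_ne_zero this

/-- For the quadratic form Σ x_i y_i + (z₁² + c z₁ z₂ + d z₂²) in dimension 2m with anisotropic binary part over a finite field F of characteristic two, m ≥ 4 (minus type): an element of order 2 of the full isometry group O lies in the commutator subgroup Ω of O exactly when t − 1 has even rank. -/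
theorem result {F : Type*} [Field F] [Fintype F] [CharP F 2] {m : ℕ} (hm : 4 ≤ m) (c d : F) (hcd : ∀ z₁ z₂ : F, z₁ ^ 2 + c * z₁ * z₂ + d * z₂ ^ 2 = 0 → z₁ = 0 ∧ z₂ = 0) (t : ↥(Cfsg.isometryGroup F (Cfsg.quadFormMinus (m - 1) F c d))) (ht : orderOf t = 2) :
    t ∈ Cfsg.Omega F (Cfsg.quadFormMinus (m - 1) F c d) ↔ Even ((((t : ↥(Cfsg.isometryGroup F (Cfsg.quadFormMinus (m - 1) F c d))) : GL ((Fin (m - 1) ⊕ Fin (m - 1)) ⊕ Fin 2) F) : Matrix ((Fin (m - 1) ⊕ Fin (m - 1)) ⊕ Fin 2) ((Fin (m - 1) ⊕ Fin (m - 1)) ⊕ Fin 2) F) - 1).rank := by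
  have h2 : (2 : F) = 0 := CharTwo.two_eq_zero
  have hc := ne_zero_of_aniso c d hcd
  have hnd : (QuadraticMap.polarBilin (QfMinus (m - 1) F c d)).Nondegenerate := by
    apply QfMinus_nondeg_of
    rw [show (4 : F) = 2 * 2 by norm_num, h2]
    simpa using hc
  have hcard : Fintype.card F ≠ 2 ∨ Fintype.card ((Fin (m - 1) ⊕ Fin (m - 1)) ⊕ Fin 2) ≠ 4 := by
    right
    simp
    omega
  exact Cfsg.Agent.Helper28.CD2.mem_Omega_iff_even_rank (QfMinus (m - 1) F c d) h2 hnd hcard t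

end Cfsg.Agent.S2171
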