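import Mathlib
import Cfsg.Statements.S2615
import Cfsg.Agent.Helper28.Spin7

set_option autoImplicit false

namespace Cfsg.Agent.S2615

open Cfsg.Agent.Helper28.Spin Cfsg.Agent.Helper28.QPlus

theorem hypPair_minus {F : Type*} [Field F] (n : ℕ) (a c : F) (j : Fin n) :
    IsHypPair (QfMinus n F a c) (Sum.inl (Sum.inl j)) (Sum.inl (Sum.inr j)) := by
  classical
  intro x s t
  simp only [QfMinus_coe, Cfsg.quadFormMinus, Pi.add_apply, Pi.smul_apply, Pi.single_apply, smul_eq_mul,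
    Sum.inl.injEq, Sum.inr.injEq, reduceCtorEq, if_false, mul_zero, add_zero, mul_ite, mul_one]
  have : ∀ k : Fin n, (x (Sum.inl (Sum.inl k)) + if k = j then s else 0) *
        (x (Sum.inl (Sum.inr k)) + if k = j then t else 0)
      = x (Sum.inl (Sum.inl k)) * x (Sum.inl (Sum.inr k)) +
        ((if k = j then s * x (Sum.inl (Sum.inr k)) else 0) +
        (if k = j then t * x (Sum.inl (Sum.inl k)) else 0) + (if k = j then s * t else 0)) := by
    intro k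
    split_ifs <;> ring
  simp only [this, Finset.sum_add_distrib, Finset.sum_ite_eq', Finset.mem_univ, if_true]
  ring

theorem result {F : Type*} [Field F] [Fintype F] {q : ℕ} (hF : Fintype.card F = q) (hq : Odd q) {m : ℕ} (a b : F) (hab : ∀ z₁ z₂ : F, z₁ ^ 2 + a * z₁ * z₂ + b * z₂ ^ 2 = 0 → z₁ = 0 ∧ z₂ = 0) (i : ℕ) (hi : 1 ≤ i) (him : i + 1 ≤ m) : (∃ g : ↥(Cfsg.isometryGroup F (Cfsg.quadFormMinus (m - 1) F a b)), g ∈ Cfsg.Omega F (Cfsg.quadFormMinus (m - 1) F a b) ∧ ((g : Matrix.GeneralLinearGroup ((Fin (m - 1) ⊕ Fin (m - 1)) ⊕ Fin 2) F) : Matrix ((Fin (m - 1) ⊕ Fin (m - 1)) ⊕ Fin 2) ((Fin (m - 1) ⊕ Fin (m - 1)) ⊕ Fin 2) F) = Matrix.diagonal (fun k : (Fin (m - 1) ⊕ Fin (m - 1)) ⊕ Fin 2 => if (Sum.elim (Sum.elim (fun j : Fin (m - 1) => (j : ℕ)) (fun j : Fin (m - 1) => (j : ℕ))) (fun _ : Fin 2 => i) k) < i then (-1 : F) else 1)) ↔ q ^ i % 4 = 1 := by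
  classical
  rw [← QfMinus_coe]
  apply negPairs_iff (QfMinus (m - 1) F a b) hF hq
    (fun j : Fin (m - 1) => (Sum.inl (Sum.inl j) : (Fin (m - 1) ⊕ Fin (m - 1)) ⊕ Fin 2))
    (fun j : Fin (m - 1) => (Sum.inl (Sum.inr j) : (Fin (m - 1) ⊕ Fin (m - 1)) ⊕ Fin 2))
    (by
      intro x y h
      rcases x with x | x <;> rcases y with y | y <;> simpa using h)
    (hypPair_minus (m - 1) a b) i (by omega)
  rw [negD]
  congr 1
  funext t
  rcases t with (j | j) | u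
  · have hiff : (∃ j' : Fin (m - 1), (j' : ℕ) < i ∧
        ((Sum.inl (Sum.inl j) : (Fin (m - 1) ⊕ Fin (m - 1)) ⊕ Fin 2) = Sum.inl (Sum.inl j') ∨
        (Sum.inl (Sum.inl j) : (Fin (m - 1) ⊕ Fin (m - 1)) ⊕ Fin 2) = Sum.inl (Sum.inr j'))) ↔
          (j : ℕ) < i := by
      constructor
      · rintro ⟨j', hj', h | h⟩
        · rw [Sum.inl.injEq, Sum.inl.injEq] at h; rw [h]; exact hj'
        · exact absurd h (by simp)
      · intro h; exact ⟨j, h, Or.inl rfl⟩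
    by_cases h : (j : ℕ) < i
    · rw [if_pos (show Sum.elim (Sum.elim (fun j : Fin (m - 1) => (j : ℕ)) (fun j : Fin (m - 1) => (j : ℕ)))
        (fun _ : Fin 2 => i) (Sum.inl (Sum.inl j)) < i from h), if_pos (hiff.2 h)]
    · rw [if_neg (show ¬ Sum.elim (Sum.elim (fun j : Fin (m - 1) => (j : ℕ)) (fun j : Fin (m - 1) => (j : ℕ)))
        (fun _ : Fin 2 => i) (Sum.inl (Sum.inl j)) < i from h), if_neg (fun h' => h (hiff.1 h'))]
  · have hiff : (∃ j' : Fin (m - 1), (j' : ℕ) < i ∧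
        ((Sum.inl (Sum.inr j) : (Fin (m - 1) ⊕ Fin (m - 1)) ⊕ Fin 2) = Sum.inl (Sum.inl j') ∨
        (Sum.inl (Sum.inr j) : (Fin (m - 1) ⊕ Fin (m - 1)) ⊕ Fin 2) = Sum.inl (Sum.inr j'))) ↔
          (j : ℕ) < i := by
      constructor
      · rintro ⟨j', hj', h | h⟩
        · exact absurd h (by simp)
        · rw [Sum.inl.injEq, Sum.inr.injEq] at h; rw [h]; exact hj'
      · intro h; exact ⟨j, h, Or.inr rfl⟩
    by_cases h : (j : ℕ) < i
    · rw [if_pos (show Sum.elim (Sum.elim (fun j : Fin (m - 1) => (j : ℕ)) (fun j : Fin (m - 1) => (j : ℕ)))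
        (fun _ : Fin 2 => i) (Sum.inl (Sum.inr j)) < i from h), if_pos (hiff.2 h)]
    · rw [if_neg (show ¬ Sum.elim (Sum.elim (fun j : Fin (m - 1) => (j : ℕ)) (fun j : Fin (m - 1) => (j : ℕ)))
        (fun _ : Fin 2 => i) (Sum.inl (Sum.inr j)) < i from h), if_neg (fun h' => h (hiff.1 h'))]
  · rw [if_neg (show ¬ Sum.elim (Sum.elim (fun j : Fin (m - 1) => (j : ℕ)) (fun j : Fin (m - 1) => (j : ℕ)))
        (fun _ : Fin 2 => i) (Sum.inr u) < i from lt_irrefl i), if_neg]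
    rintro ⟨j', -, h | h⟩ <;> exact absurd h (by simp)

end Cfsg.Agent.S2615
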