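import Cfsg.Statements.S0599
import Cfsg.Agent.Helper26.Replacement
import Cfsg.Agent.Helper26.NilAction

set_option autoImplicit false
open Cfsg

namespace Cfsg.Agent.S0599

/-- The Timmesfeld replacement Theorem: replacing a best offender A by C_A([U, A]) gives a best offender with fixed points [U, A]C_V(A), still nontrivial on V if A was. -/
theorem result {G : Type*} [Group G] [Finite G] {p : ℕ} [Fact p.Prime] (V A : Subgroup G) (hV : Cfsg.IsElementaryAbelian p V) (hAV : A ≤ Subgroup.normalizer (V : Set G)) (hA : Cfsg.IsBestOffenderOn p V A) (U : Subgroup G) (hU : U ≤ V) : Cfsg.IsBestOffenderOn p V (A ⊓ Subgroup.centralizer ((⁅U, A⁆ : Subgroup G) : Set G)) ∧ V ⊓ Subgroup.centralizer ((A ⊓ Subgroup.centralizer ((⁅U, A⁆ : Subgroup G) : Set G) : Subgroup G) : Set G) = ⁅U, A⁆ ⊔ (V ⊓ Subgroup.centralizer (A : Set G)) ∧ (⁅V, A⁆ ≠ ⊥ → ⁅V, A ⊓ Subgroup.centralizer ((⁅U, A⁆ : Subgroup G) : Set G)⁆ ≠ ⊥) := by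
  have hVab := Cfsg.Agent.Helper26.le_centralizer_of_isElementaryAbelian hV
  obtain ⟨hmax, hab, hpow⟩ := hA
  have hmax' : ∀ B : Subgroup G, B ≤ A → Cfsg.Agent.Helper26.fval V B ≤ Cfsg.Agent.Helper26.fval V A := hmax
  obtain ⟨h1, h2⟩ := Cfsg.Agent.Helper26.replProp_all hVab hAV hab hmax' hU
  refine ⟨⟨?_, ?_, ?_⟩, h2, ?_⟩
  · intro B hB
    have := hmax B (hB.trans inf_le_left)
    unfold Cfsg.Agent.Helper26.fval at h1
    rw [h1]; exact this
  · exact (Subgroup.commutator_mono inf_le_left inf_le_left).trans hab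
  · intro a ha; exact hpow a ha.1
  · intro hne hbot
    rw [Subgroup.commutator_eq_bot_iff_le_centralizer] at hbot
    have hV' : V = ⁅U, A⁆ ⊔ (V ⊓ Subgroup.centralizer (A : Set G)) := by
      rw [← h2]; exact (inf_of_le_left hbot).symm
    have hUA : ⁅U, A⁆ ≤ V := Cfsg.Agent.Helper26.commutator_le_of_le_of_le_normalizer hU hAV
    have e1 : ⁅V, A⁆ = ⁅⁅U, A⁆, A⁆ := by
      conv_lhs => rw [hV']
      rw [Cfsg.Agent.Helper26.commutator_sup_eq hVab hAV hUA inf_le_left]
      have : ⁅V ⊓ Subgroup.centralizer (A : Set G), A⁆ = ⊥ := by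
        rw [Subgroup.commutator_eq_bot_iff_le_centralizer]; exact inf_le_right
      rw [this, sup_bot_eq]
    have hle : ⁅V, A⁆ ≤ ⁅⁅V, A⁆, A⁆ := by
      conv_lhs => rw [e1]
      exact Subgroup.commutator_mono (Subgroup.commutator_mono hU le_rfl) le_rfl
    have hVp : IsPGroup p V := Cfsg.Agent.Helper26.isPGroup_of_isElementaryAbelian hV
    have hlt := Cfsg.Agent.Helper26.commutator_lt_of_pow_mem_centralizer hVp hAV hpow
      (Cfsg.Agent.Helper26.commutator_le_of_le_of_le_normalizer le_rfl hAV)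
      (Cfsg.Agent.Lead.le_normalizer_commutator_right V A) hne
    exact absurd hle (not_le_of_gt hlt)

end Cfsg.Agent.S0599
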