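import Mathlib
import Cfsg.Statements.S3802
import Cfsg.Agent.Helper19.Subnormal

set_option autoImplicit false
open Cfsg

namespace Cfsg.Agent.S3802

open Cfsg.Agent.Helper19

universe u

/-- The image of a maximal subgroup containing `C` in the quotient by `C` is maximal. -/
lemma isCoatom_map_mk {G : Type u} [Group G] (C M : Subgroup G) [C.Normal] (hCM : C ≤ M)
    (hM : IsCoatom M) : IsCoatom (M.map (QuotientGroup.mk' C)) := by
  have hcomap : (M.map (QuotientGroup.mk' C)).comap (QuotientGroup.mk' C) = M := by
    rw [Subgroup.comap_map_eq, QuotientGroup.ker_mk', sup_eq_left.mpr hCM]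
  constructor
  · intro h
    apply hM.1
    rw [← hcomap, h, Subgroup.comap_top]
  · intro J hJ
    have h1 : M < J.comap (QuotientGroup.mk' C) := by
      rw [← hcomap]
      refine lt_of_le_of_ne (Subgroup.comap_mono hJ.le) (fun h => (ne_of_lt hJ) ?_)
      have := congrArg (Subgroup.map (QuotientGroup.mk' C)) h
      rwa [Subgroup.map_comap_eq_self_of_surjective (QuotientGroup.mk'_surjective C),
        Subgroup.map_comap_eq_self_of_surjective (QuotientGroup.mk'_surjective C)] at this
    have h2 := hM.2 _ h1
    have := congrArg (Subgroup.map (QuotientGroup.mk' C)) h2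
    rwa [Subgroup.map_comap_eq_self_of_surjective (QuotientGroup.mk'_surjective C),
      Subgroup.map_top_of_surjective _ (QuotientGroup.mk'_surjective C)] at this

theorem aux : ∀ (n : ℕ) (G : Type u) [Group G] [Finite G], Nat.card G = n →
    ∀ M N : Subgroup G, IsCoatom M → N.IsSubnormal → N ≤ M → N ≤ Subgroup.normalCore M := by
  intro n
  induction n using Nat.strong_induction_on with
  | _ n ih =>
  intro G _ _ hn M N hM hN hNM
  by_cases hC : M.normalCore = ⊥
  · -- trivial core: use a minimal normal subgroup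
    have htop : (⊤ : Subgroup G) ≠ ⊥ := by
      intro h
      apply hM.1
      rw [eq_top_iff, h]; exact bot_le
    obtain ⟨A, hA, -⟩ := exists_isMinNormal_le (Subgroup.normal_of_characteristic ⊤) htop
    have hAM : ¬ A ≤ M := by
      intro h
      have := hA.1
      have : A ≤ M.normalCore := Subgroup.normal_le_normalCore.mpr h
      rw [hC] at this
      exact hA.2.1 (eq_bot_iff.mpr this)
    have hAN : A ≤ Subgroup.normalizer (N : Set G) := hA.le_normalizer_of_isSubnormal hN
    have hsup : M ⊔ A = ⊤ := by
      apply hM.2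
      exact lt_of_le_of_ne le_sup_left (fun h => hAM (h ▸ le_sup_right))
    intro x hx g
    have hg : g ∈ M ⊔ A := by rw [hsup]; trivial
    have := hA.1
    obtain ⟨m, hm, a, ha, rfl⟩ := Subgroup.mem_sup_of_normal_right.mp hg
    have h1 : a * x * a⁻¹ ∈ N := (Subgroup.mem_normalizer_iff.mp (hAN ha) x).mp hx
    have h2 : m * a * x * (m * a)⁻¹ = m * (a * x * a⁻¹) * m⁻¹ := by group
    rw [h2]
    exact M.mul_mem (M.mul_mem hm (hNM h1)) (M.inv_mem hm)
  · -- nontrivial core: pass to the quotient
    set C := M.normalCore with hCdef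
    have hCM : C ≤ M := Subgroup.normalCore_le M
    have hcard : Nat.card (G ⧸ C) < n := by
      rw [← hn, Subgroup.card_eq_card_quotient_mul_card_subgroup C]
      have h1 : 1 < Nat.card C := by
        rw [Subgroup.one_lt_card_iff_ne_bot]; exact hC
      have h2 : 0 < Nat.card (G ⧸ C) := Nat.card_pos
      nlinarith
    have hM' := isCoatom_map_mk C M hCM hM
    have hN' : (N.map (QuotientGroup.mk' C)).IsSubnormal := hN.quotient
    have key := ih _ hcard (G ⧸ C) rfl _ _ hM' hN' (Subgroup.map_mono hNM)
    intro x hx g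
    have h1 : (QuotientGroup.mk' C x) ∈ N.map (QuotientGroup.mk' C) := ⟨x, hx, rfl⟩
    have h2 := key h1 (QuotientGroup.mk' C g)
    rw [← map_inv, ← map_mul, ← map_mul] at h2
    have h3 : g * x * g⁻¹ ∈ (M.map (QuotientGroup.mk' C)).comap (QuotientGroup.mk' C) := h2
    rwa [Subgroup.comap_map_eq, QuotientGroup.ker_mk', sup_eq_left.mpr hCM] at h3

theorem result {G : Type*} [Group G] [Finite G] (M N : Subgroup G) (hM : IsCoatom M) (hN : N.IsSubnormal) (hNM : N ≤ M) :
    N ≤ Subgroup.normalCore M :=
  aux _ G rfl M N hM hN hNM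

end Cfsg.Agent.S3802
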