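import Cfsg.Statements.S2905
import Cfsg.Agent.S3802
import Cfsg.Agent.Helper14.Irreducible2
import Cfsg.Agent.Helper14.PCore
import Cfsg.Agent.Helper14.WeaklyClosed
import Cfsg.Agent.Helper15.SylowInPre
import Cfsg.Agent.Helper19.Cores

set_option autoImplicit false
set_option linter.unusedSectionVars false
open Cfsg

namespace Cfsg.Agent.S2905

open Cfsg.Agent.Helper14

section
variable {P : Type*} [Group P] [Finite P] {p : ℕ} [Fact p.Prime]

/-- in a `p`-minimal group, a proper subgroup containing `S` lies in `M` -/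
theorem le_of_ne_top (hP : IsPMinimal p P) (S : Sylow p P) (M : Subgroup P) (hM : IsCoatom M)
    (hSM : (S : Subgroup P) ≤ M) {H : Subgroup P} (hSH : (S : Subgroup P) ≤ H) (hH : H ≠ ⊤) :
    H ≤ M := by
  obtain ⟨_, M0, ⟨hM0, hSM0⟩, huniq⟩ := hP S
  obtain ⟨M1, hM1, hle1⟩ := exists_coatom_ge_of_ne_top hH
  have e1 : M1 = M0 := huniq M1 ⟨hM1, hSH.trans hle1⟩
  have e2 : M = M0 := huniq M ⟨hM, hSM⟩
  rw [e2, ← e1]; exact hle1

/-- a subgroup of index prime to `p` contains a conjugate of `S` -/
theorem exists_map_cj_le (S : Sylow p P) (H : Subgroup P) (hH : ¬ p ∣ H.index) :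
    ∃ g : P, (S : Subgroup P).map (cj g) ≤ H := by
  obtain ⟨SH⟩ : Nonempty (Sylow p ↥H) := inferInstance
  have hcard : Nat.card ((SH : Subgroup ↥H).map H.subtype) =
      p ^ (Nat.card P).factorization p := by
    rw [card_map_subtype, SH.card_eq_multiplicity]
    congr 1
    have h1 : Nat.card P = Nat.card H * H.index := (Subgroup.card_mul_index H).symm
    have hidx : H.index ≠ 0 := Subgroup.index_ne_zero_of_finite
    rw [h1, Nat.factorization_mul Nat.card_pos.ne' hidx, Finsupp.add_apply,
      Nat.factorization_eq_zero_of_not_dvd hH, add_zero]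
  obtain ⟨g, hg⟩ := MulAction.exists_smul_eq P S (Sylow.ofCard _ hcard)
  refine ⟨g, ?_⟩
  rw [← sylow_smul_coe, hg]
  exact map_subtype_le _

/-- elements of a Sylow `q`-subgroup (`q ≠ p`) lie in `O^p` -/
theorem sylow_le_pResidual {q : ℕ} [Fact q.Prime] (hqp : q ≠ p) (Q : Sylow q P) :
    (Q : Subgroup P) ≤ pResidual p P := by
  intro x hx
  apply Subgroup.subset_closure
  show Nat.Coprime (orderOf x) p
  obtain ⟨k, hk⟩ := (IsPGroup.iff_orderOf.mp Q.isPGroup') ⟨x, hx⟩
  have h1 : orderOf x = q ^ k := by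
    rw [← hk]; exact (Subgroup.orderOf_mk x hx).symm
  rw [h1]
  apply Nat.Coprime.pow_left
  exact (Nat.coprime_primes (Fact.out : q.Prime) (Fact.out : p.Prime)).mpr hqp

theorem primeFactors_card_le_two {n p q a b c : ℕ} (hp : p.Prime) (hq : q.Prime)
    (_hn : n ≠ 0) (h : n ∣ p ^ a * (q ^ b * p ^ c)) : n.primeFactors.card ≤ 2 := by
  have hsub : n.primeFactors ⊆ {p, q} := by
    intro r hr
    rw [Nat.mem_primeFactors] at hr
    have hr1 := hr.1
    have h2 := hr.2.1.trans h
    rw [Finset.mem_insert, Finset.mem_singleton]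
    rcases (Nat.Prime.dvd_mul hr1).mp h2 with h3 | h3
    · left; exact (Nat.prime_dvd_prime_iff_eq hr1 hp).mp (hr1.dvd_of_dvd_pow h3)
    · rcases (Nat.Prime.dvd_mul hr1).mp h3 with h4 | h4
      · right; exact (Nat.prime_dvd_prime_iff_eq hr1 hq).mp (hr1.dvd_of_dvd_pow h4)
      · left; exact (Nat.prime_dvd_prime_iff_eq hr1 hp).mp (hr1.dvd_of_dvd_pow h4)
  exact (Finset.card_le_card hsub).trans Finset.card_le_two

/-- part (2), main step: `M` has index prime to `q` for each prime `q ≠ p` -/
theorem not_dvd_index_of_closed (hP : IsPMinimal p P) (S : Sylow p P) (M : Subgroup P)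
    (hM : IsCoatom M) (hSM : (S : Subgroup P) ≤ M)
    (hcl : IsPClosed p ↥(pResidual p P))
    (h3 : ¬ (Nat.card P).primeFactors.card ≤ 2) {q : ℕ} [Fact q.Prime] (hqp : q ≠ p) :
    ¬ q ∣ M.index := by
  have hpp : p.Prime := Fact.out
  have hqq : q.Prime := Fact.out
  set R := pResidual p P with hR
  set T := (S : Subgroup P) ⊓ R with hT
  have hTn : T.Normal := normal_sylow_inf_of_isPClosed S R hcl
  have hTsyl : IsSylowIn p T R := sylow_inf_normal_isSylowIn S R
  obtain ⟨Q0⟩ : Nonempty (Sylow q P) := inferInstance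
  have hQ0R : (Q0 : Subgroup P) ≤ R := sylow_le_pResidual hqp Q0
  set N1 := Subgroup.normalizer ((Q0 : Subgroup P) : Set P) with hN1
  have hfr : N1 ⊔ R = ⊤ := Sylow.normalizer_sup_eq_top' Q0 hQ0R
  set H := N1 ⊔ T with hH
  have hHR : H ⊔ R = ⊤ := by
    apply top_le_iff.mp
    rw [← hfr]
    exact sup_le_sup_right le_sup_left R
  have hidx : ¬ p ∣ H.index := by
    have e1 : H.index = (H ⊓ R).relIndex R := by
      rw [← Cfsg.Agent.Helper15.relIndex_sup_of_normal H R, hHR, Subgroup.relIndex_top_right]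
    have e2 : (H ⊓ R).relIndex R ∣ T.relIndex R :=
      Subgroup.relIndex_dvd_of_le_left R (le_inf le_sup_right inf_le_right)
    have e3 : ¬ p ∣ T.relIndex R := hTsyl.toSylow.not_dvd_index
    rw [e1]
    exact fun h => e3 (h.trans e2)
  obtain ⟨g, hg⟩ := exists_map_cj_le S H hidx
  set S' := (S : Subgroup P).map (cj g) with hS'
  set A := (Q0 : Subgroup P) ⊔ T with hA
  have hHA : H ≤ Subgroup.normalizer (A : Set P) := by
    apply sup_le
    · apply le_normalizer_of_map_cj_le
      intro x hx
      have h1 : (Q0 : Subgroup P).map (cj x) = Q0 := mem_normalizer_iff_map_cj.mp hx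
      have h2 : T.map (cj x) = T :=
        mem_normalizer_iff_map_cj.mp (by rw [Subgroup.normalizer_eq_top]; trivial)
      rw [hA, Subgroup.map_sup, h1, h2]
    · exact (le_sup_right : T ≤ A).trans Subgroup.le_normalizer
  set K := A ⊔ S' with hK
  have hKne : K ≠ ⊤ := by
    intro hKt
    apply h3
    have hAn : A.Normal := by
      rw [← Subgroup.normalizer_eq_top_iff]
      apply top_le_iff.mp
      rw [← hKt]
      exact sup_le Subgroup.le_normalizer (hg.trans hHA)
    have c1 : Nat.card P ∣ Nat.card S' * Nat.card A := by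
      have := Cfsg.Agent.Helper19.card_sup_dvd_mul S' A
      rwa [sup_comm, ← hK, hKt, Subgroup.card_top] at this
    have c2 : Nat.card A ∣ Nat.card (Q0 : Subgroup P) * Nat.card T :=
      Cfsg.Agent.Helper19.card_sup_dvd_mul (Q0 : Subgroup P) T
    obtain ⟨a, ha⟩ := IsPGroup.iff_card.mp (S.isPGroup'.map (cj g))
    obtain ⟨b, hb⟩ := IsPGroup.iff_card.mp Q0.isPGroup'
    obtain ⟨c, hc⟩ := IsPGroup.iff_card.mp hTsyl.2.1
    have c3 : Nat.card P ∣ p ^ a * (q ^ b * p ^ c) := by
      rw [← ha, ← hb, ← hc]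
      exact c1.trans (Nat.mul_dvd_mul_left _ c2)
    exact primeFactors_card_le_two hpp hqq Nat.card_pos.ne' c3
  -- conjugate back
  have hK' : K.map (cj g⁻¹) ≤ M := by
    apply le_of_ne_top hP S M hM hSM
    · have : (S : Subgroup P) = S'.map (cj g⁻¹) := by
        rw [hS', map_cj_map_cj_inv]
      rw [this]
      exact Subgroup.map_mono le_sup_right
    · intro h
      apply hKne
      have := congrArg (Subgroup.map (cj g)) h
      rw [map_cj_inv_map_cj] at this
      rw [this]
      exact Subgroup.map_top_of_surjective _ (MulAut.conj g).surjective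
  have hQM : (Q0 : Subgroup P).map (cj g⁻¹) ≤ M :=
    (Subgroup.map_mono ((le_sup_left : (Q0 : Subgroup P) ≤ A).trans le_sup_left)).trans hK'
  intro hq
  have h1 : M.index ∣ ((Q0 : Subgroup P).map (cj g⁻¹)).index := Subgroup.index_dvd_of_le hQM
  have h2 : ((Q0 : Subgroup P).map (cj g⁻¹)).index = (Q0 : Subgroup P).index :=
    Subgroup.index_map_equiv (Q0 : Subgroup P) (MulAut.conj g⁻¹)
  rw [h2] at h1
  exact Q0.not_dvd_index (hq.trans h1)

end

/-- Let P be a finite p-minimal group (a Sylow p-subgroup S is not normal and lies in a unique maximal subgroup M of P) and let F be the normal core of M. Then: every subnormal subgroup N of P contained in M satisfies N ∩ S ≤ O_p(P); if O^p(P) has a normal Sylow p-subgroup then the order of P has at most two prime divisors; every normal subgroup N of P either contains O^p(P) or is contained in F; and O^p(P)F ⧸ F is a minimal normal subgroup of P ⧸ F. -/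
theorem result {P : Type*} [Group P] [Finite P] {p : ℕ} [Fact p.Prime] (hP : Cfsg.IsPMinimal p P) (S : Sylow p P) (M : Subgroup P) (hM : IsCoatom M) (hSM : (S : Subgroup P) ≤ M) [hF : M.normalCore.Normal] : (∀ N : Subgroup P, N.IsSubnormal → N ≤ M → N ⊓ (S : Subgroup P) ≤ Cfsg.pCore p P) ∧ ((∀ T : Sylow p ↥(Cfsg.pResidual p P), (T : Subgroup ↥(Cfsg.pResidual p P)).Normal) → (Nat.card P).primeFactors.card ≤ 2) ∧ (∀ N : Subgroup P, N.Normal → Cfsg.pResidual p P ≤ N ∨ N ≤ M.normalCore) ∧ (∀ N : Subgroup P, N.Normal → M.normalCore ≤ N → N ≤ Cfsg.pResidual p P ⊔ M.normalCore → N = M.normalCore ∨ N = Cfsg.pResidual p P ⊔ M.normalCore) ∧ M.normalCore < Cfsg.pResidual p P ⊔ M.normalCore := by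
  have hMne : M ≠ ⊤ := hM.1
  have hRS : pResidual p P ⊔ (S : Subgroup P) = ⊤ := pResidual_sup_sylow S
  have hFM : M.normalCore ≤ M := Subgroup.normalCore_le M
  -- part 3
  have part3 : ∀ N : Subgroup P, N.Normal → Cfsg.pResidual p P ≤ N ∨ N ≤ M.normalCore := by
    intro N hN
    by_cases h : N ⊔ (S : Subgroup P) = ⊤
    · left
      exact pResidual_le_of_isPGroup_quotient N (isPGroup_quotient_of_sup_sylow S N h)
    · right
      have h1 : N ⊔ (S : Subgroup P) ≤ M := le_of_ne_top hP S M hM hSM le_sup_right h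
      exact (Subgroup.normal_le_normalCore).mpr (le_sup_left.trans h1)
  -- part 5
  have part5 : M.normalCore < Cfsg.pResidual p P ⊔ M.normalCore := by
    refine lt_of_le_of_ne le_sup_right ?_
    intro h
    have h1 : pResidual p P ≤ M := by
      have : pResidual p P ≤ M.normalCore := by
        rw [h]; exact le_sup_left
      exact this.trans hFM
    apply hMne
    apply top_le_iff.mp
    rw [← hRS]
    exact sup_le h1 hSM
  refine ⟨?_, ?_, part3, ?_, part5⟩
  · -- part 1
    intro N hN hNM
    have hNF : N ≤ M.normalCore := Cfsg.Agent.S3802.result M N hM hN hNM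
    set F := M.normalCore with hFdef
    set D := (S : Subgroup P) ⊓ F with hD
    have hDsyl : IsSylowIn p D F := sylow_inf_normal_isSylowIn S F
    have hfr := frattini_ambient (G := (⊤ : Subgroup P)) (le_top : F ≤ ⊤)
      (by rw [Subgroup.normalizer_eq_top]) hDsyl
    rw [top_inf_eq] at hfr
    have hSn : (S : Subgroup P) ≤ Subgroup.normalizer (D : Set P) := by
      apply le_normalizer_of_map_cj_le
      intro t ht
      rw [hD, map_cj_inf, map_cj_eq_self_of_mem ht]
      have : F.map (cj t) = F :=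
        mem_normalizer_iff_map_cj.1 (by rw [Subgroup.normalizer_eq_top]; trivial)
      rw [this]
    have hnorm : Subgroup.normalizer (D : Set P) = ⊤ := by
      by_contra hne
      have h1 : Subgroup.normalizer (D : Set P) ≤ M := le_of_ne_top hP S M hM hSM hSn hne
      exact hMne (top_le_iff.mp (hfr.trans (sup_le hFM h1)))
    have hDn : D.Normal := Subgroup.normalizer_eq_top_iff.1 hnorm
    have hDle : D ≤ pCore p P := le_pCore p hDn hDsyl.2.1
    refine le_trans ?_ hDle
    rw [hD, inf_comm]
    exact inf_le_inf_left _ hNF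
  · -- part 2
    intro hcl
    by_contra h3
    have hcl' : IsPClosed p ↥(pResidual p P) := hcl
    apply hMne
    rw [← Subgroup.index_eq_one, Nat.eq_one_iff_not_exists_prime_dvd]
    intro q hq
    by_cases hqp : q = p
    · subst hqp
      intro h
      exact S.not_dvd_index (h.trans (Subgroup.index_dvd_of_le hSM))
    · have : Fact q.Prime := ⟨hq⟩
      exact not_dvd_index_of_closed hP S M hM hSM hcl' h3 hqp
  · -- part 4
    intro N hN hFN hNle
    rcases part3 N hN with h | h
    · right
      exact le_antisymm hNle (sup_le h hFN)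
    · left
      exact le_antisymm h hFN

end Cfsg.Agent.S2905
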