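import Cfsg.Statements.S2834
import Cfsg.Agent.Helper27.S2834IND
import Cfsg.Agent.Helper21.S2834QUOT
import Cfsg.Agent.Helper14.S2834MIN
import Cfsg.Agent.Helper3.S2834DEFSAPI

set_option autoImplicit false
open Cfsg Cfsg.Agent.S2834P

namespace Cfsg.Agent.S2834

theorem aux_map_conj_normal {H : Type*} [Group H] (N : Subgroup H) [hN : N.Normal] (x : H) :
    N.map (MulAut.conj x).toMonoidHom = N := by
  ext y
  constructor
  · rintro ⟨n, hn, rfl⟩
    simpa using hN.conj_mem n hn x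
  · intro hy
    refine ⟨x⁻¹ * y * x, ?_, by simp [mul_assoc]⟩
    simpa using hN.conj_mem y hy x⁻¹


/-- The L-Lemma: let H be a finite group with Sylow p-subgroup T such that H is T-minimal (generated by the conjugates of T, T in exactly one maximal subgroup M), and let A ≤ T with A not contained in O_p(H). Then there is a subgroup L of H containing A·O_p(H) such that (a) A·O_p(L) lies in exactly one maximal subgroup L₀ of L, and L₀ = L ∩ gMg⁻¹ for some g ∈ H; (b) L = ⟨A, xAx⁻¹⟩·O_p(L) for every x ∈ L outside L₀. -/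
theorem result {H : Type*} [Group H] [Finite H] {p : ℕ} [Fact p.Prime] (T : Sylow p H) (hmin : Cfsg.IsMinimalOver (T : Subgroup H)) (M : Subgroup H) (hM : IsCoatom M ∧ (T : Subgroup H) ≤ M) (A : Subgroup H) (hAT : A ≤ (T : Subgroup H)) (hA : ¬ A ≤ Cfsg.pCore p H) : ∃ L : Subgroup H, A ⊔ Cfsg.pCore p H ≤ L ∧ ∃ L₀ : Subgroup H, A ⊔ (Cfsg.pCoreOf p L) ≤ L₀ ∧ L₀ < L ∧ (∀ X : Subgroup H, A ⊔ (Cfsg.pCoreOf p L) ≤ X → X < L → X ≤ L₀) ∧ (∃ g : H, L₀ = L ⊓ ((M : Subgroup H).map (MulAut.conj (g : H)).toMonoidHom)) ∧ ∀ x ∈ L, x ∉ L₀ → (A ⊔ ((A : Subgroup H).map (MulAut.conj (x : H)).toMonoidHom)) ⊔ (Cfsg.pCoreOf p L) = L := by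
  classical
  have hCT := QUOT_isCT T hmin M hM
  have hOT : Cfsg.pCore p H ≤ (T : Subgroup H) := Cfsg.Agent.Helper14.pCore_le_sylow p T
  have hBT : A ⊔ Cfsg.pCore p H ≤ (T : Subgroup H) := sup_le hAT hOT
  have hBp : IsPGroup p ↥(A ⊔ Cfsg.pCore p H) := T.2.to_le hBT
  have hmvB : Moves (A ⊔ Cfsg.pCore p H) ((1 : H) : H ⧸ M) :=
    moves_mono le_sup_left (QUOT_moves T hmin M hM A hAT hA)
  obtain ⟨L1, v1, hv1, hV1⟩ := thmL ⟨T, hCT⟩ hBp hmvB
  obtain ⟨L, -, hVL, hminL⟩ := IND_aux_exists_min_valid hV1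
  obtain ⟨g, hg⟩ := hv1
  have hg' : v1 = ((g : H) : H ⧸ M) := by
    rw [← hg]; simp
  subst hg'
  have hstab : ∀ x : H, x • ((g : H) : H ⧸ M) = ((g : H) : H ⧸ M) ↔
      x ∈ M.map (MulAut.conj g).toMonoidHom := fun x => QUOT_stab M g x
  have hBL : A ⊔ Cfsg.pCore p H ≤ L := hVL.1
  have hnO : (Cfsg.pCore p H).Normal := Cfsg.Agent.Helper14.pCore_normal p
  have hOL : Cfsg.pCore p H ≤ Cfsg.pCoreOf p L := by
    apply Cfsg.Agent.Helper14.le_pCoreOf p (le_sup_right.trans hBL)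
    · rw [Subgroup.normalizer_eq_top]; exact le_top
    · exact Cfsg.Agent.Helper14.pCore_isPGroup p
  have hQL : Cfsg.pCoreOf p L ≤ L := Cfsg.Agent.Helper14.pCoreOf_le p L
  have hAL : A ≤ L := le_sup_left.trans hBL
  have hBS : A ⊔ Cfsg.pCore p H ≤ A ⊔ Cfsg.pCoreOf p L := sup_le_sup_left hOL A
  -- the core of L fixes the point
  have hQfix : ∀ q ∈ Cfsg.pCoreOf p L, q • ((g : H) : H ⧸ M) = ((g : H) : H ⧸ M) := by
    intro q hq
    have := MIN_core hBp hVL q hq 1 L.one_mem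
    simpa using this
  have hAfix : ∀ a ∈ A, a • ((g : H) : H ⧸ M) = ((g : H) : H ⧸ M) :=
    fun a ha => hVL.2.1 a (le_sup_left (a := A) ha)
  refine ⟨L, hBL, L ⊓ M.map (MulAut.conj g).toMonoidHom, ?_, ?_, ?_, ⟨g, rfl⟩, ?_⟩
  · -- S ≤ L₀
    refine le_inf (sup_le hAL hQL) ?_
    refine sup_le ?_ ?_
    · intro a ha; exact (hstab a).1 (hAfix a ha)
    · intro q hq; exact (hstab q).1 (hQfix q hq)
  · -- L₀ < L
    refine lt_of_le_of_ne inf_le_left ?_
    intro heq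
    obtain ⟨l, hl, hlv⟩ := hVL.2.2.1
    apply hlv
    apply (hstab l).2
    have : l ∈ L ⊓ M.map (MulAut.conj g).toMonoidHom := by rw [heq]; exact hl
    exact this.2
  · -- maximality
    intro X hSX hXL x hx
    refine ⟨hXL.le hx, ?_⟩
    apply (hstab x).1
    exact MIN_max hVL hminL (hBS.trans hSX) hXL x hx
  · -- generation
    intro x hxL hx0
    have hxv : x • ((g : H) : H ⧸ M) ≠ ((g : H) : H ⧸ M) := by
      intro h
      exact hx0 ⟨hxL, (hstab x).1 h⟩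
    have hgen := MIN_gen hBp hVL hminL hxL hxv
    apply le_antisymm
    · refine sup_le (sup_le hAL ?_) hQL
      rintro _ ⟨a, ha, rfl⟩
      exact L.mul_mem (L.mul_mem hxL (hAL ha)) (L.inv_mem hxL)
    · conv_lhs => rw [← hgen]
      refine sup_le (sup_le ?_ ?_) le_sup_right
      · exact sup_le (le_sup_left.trans le_sup_left) (hOL.trans le_sup_right)
      · rw [Subgroup.map_sup, aux_map_conj_normal (Cfsg.pCore p H)]
        exact sup_le (le_sup_right.trans le_sup_left) (hOL.trans le_sup_right)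


end Cfsg.Agent.S2834
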