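import Cfsg.Statements.S2999
import Cfsg.Agent.Helper12.S2999SETUP
import Cfsg.Agent.Helper12.S2999NUM
import Cfsg.Agent.Helper12.S2999FIN
import Cfsg.Agent.Helper10.S2999ANE
import Cfsg.Agent.Helper10.S2999V1EQ
import Cfsg.Agent.Helper19.S2999QUADg
import Cfsg.Agent.Helper21.S2789AMB

set_option autoImplicit false
open Cfsg

namespace Cfsg.Agent.S2999

open Cfsg.Agent.S2789P Cfsg.Agent.S2999P
open scoped commutatorElement

/-- Let p be a prime and let P and V be subgroups of a finite group with V elementary abelian, P normalizing V and acting faithfully on it (P ∩ C(V) = 1). Suppose P is p-minimal (a Sylow p-subgroup T of P is not normal and lies in a unique maximal subgroup M of P) and A ≤ T is an elementary abelian subgroup such that: |V/C_V(A)| ≤ |A| while |A₀|·|C_V(A₀)| < |A|·|C_V(A)| for every nontrivial proper subgroup A₀ of A; [C_V(T), P] ≠ 1; and P = ⟨A, xAx⁻¹⟩ for every x ∈ P outside M. Then,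 with q = |A|, there is a field F with q elements such that P ≅ SL₂(F), C_V(A) = [V, A]·C_V(P), and P acts on V/C_V(P) as SL₂(F) on its natural two-dimensional module. -/
theorem result {G : Type*} [Group G] [Finite G] {p : ℕ} [Fact p.Prime] (V P : Subgroup G) (hV : Cfsg.IsElementaryAbelian p V) (hPV : P ≤ Subgroup.normalizer (V : Set G)) (hfaith : P ⊓ Subgroup.centralizer (V : Set G) = ⊥) (hmin : Cfsg.IsPMinimal p ↥P) (T : Sylow p ↥P) (M : Subgroup ↥P) (hM : IsCoatom M) (hTM : (T : Subgroup ↥P) ≤ M) (A : Subgroup G) (hAT : A ≤ ((T : Subgroup ↥P).map P.subtype)) (hAel : Cfsg.IsElementaryAbelian p A) (hi : Nat.card ↥V ≤ Nat.card ↥A * Nat.card ↥(V ⊓ Subgroup.centralizer ((A : Subgroup G) : Set G)) ∧ ∀ A₀ : Subgroup G, A₀ ≤ A → A₀ ≠ ⊥ → A₀ ≠ A → Nat.card ↥A₀ * Nat.card ↥(V ⊓ Subgroup.centralizer ((A₀ : Subgroup G) : Set G)) < Nat.card ↥A * Nat.card ↥(V ⊓ Subgroup.centralizer ((A : Subgroup G) : Set G))) (hii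 : ⁅(V ⊓ Subgroup.centralizer ((((T : Subgroup ↥P).map P.subtype) : Subgroup G) : Set G)), P⁆ ≠ ⊥) (hiii : ∀ x : ↥P, x ∉ M → A ⊔ A.map (MulAut.conj (x : G)).toMonoidHom = P) : ∃ (F : Type) (_ : Field F) (_ : Fintype F), Fintype.card F = Nat.card ↥A ∧ Nonempty (↥P ≃* Matrix.SpecialLinearGroup (Fin 2) F) ∧ (V ⊓ Subgroup.centralizer ((A : Subgroup G) : Set G)) = ⁅V, A⁆ ⊔ (V ⊓ Subgroup.centralizer ((P : Subgroup G) : Set G)) ∧ Cfsg.ActsAsSL2OnSection F ⊤ P V (V ⊓ Subgroup.centralizer ((P : Subgroup G) : Set G)) := by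
  have S := SETUP V P hV hPV hfaith hmin T M hM hTM A hAT hAel hi hii hiii
  obtain ⟨x, hxP, hxM⟩ := S.hMne
  have hopp := OPP S P.one_mem hxP (by rwa [inv_one, one_mul])
  rw [cj_one] at hopp
  have hnum := NUM S
  have hspan : fixV V A ⊔ fixV V (cjs x A) = V := by
    have := V1EQ S P.one_mem hxP (by rwa [inv_one, one_mul])
    rw [cj_one] at this
    rw [this, hnum.2.2.1]
  have hquadx := QUADg S hxP
  obtain ⟨F, iF, iFt, hcard, hnat⟩ := AMB_REC V P A (cjs x A) hV hPV hopp.1 (ANE S) (QUAD S) hquadx hopp.2 hspan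
    hnum.2.1 (by rw [S.cardfix A hxP, cj_card]; exact hnum.2.1) (FIN_ker S) (Dcl P A)
    ⟨1, P.one_mem, (cj_one A).symm⟩ ⟨x, hxP, rfl⟩
    (by rintro Y ⟨g, hg, rfl⟩; exact S.cjA_le hg)
    (by rintro Y ⟨g, hg, rfl⟩ h hh; exact ⟨h * g, P.mul_mem hh hg, cj_mul h g A⟩)
    (by rintro Y ⟨g, hg, rfl⟩ Z ⟨h, hh, rfl⟩; exact FIN_dsp S hg hh)
    (by rintro Y ⟨g, hg, rfl⟩; exact S.cardfix A hg)
  refine ⟨F, iF, iFt, hcard, ?_, FIN_cva S, ?_⟩
  · obtain ⟨ρ, -⟩ := hnat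
    exact ⟨ρ⟩
  · obtain ⟨ρ, ψ, hsurj, hker, heq⟩ := hnat
    refine ⟨hPV, inf_le_left, ρ.toMonoidHom, ψ, ?_, hsurj, hker, heq⟩
    exact MonoidHom.range_eq_top.mpr ρ.surjective

end Cfsg.Agent.S2999
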