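import Mathlib
import Cfsg.Statements.S3784

set_option autoImplicit false
open Cfsg

namespace Cfsg.Agent.S3784

/-- A geometric sum with an odd number of terms of an odd integer is odd. -/
lemma odd_geom_sum (x : ℤ) (hx : Odd x) (c : ℕ) :
    Odd (∑ i ∈ Finset.range (2 * c + 1), x ^ i) := by
  induction c with
  | zero => simp
  | succ c ih =>
    have : 2 * (c + 1) + 1 = (2 * c + 1) + 1 + 1 := by ring
    rw [this, Finset.sum_range_succ, Finset.sum_range_succ, add_assoc]
    apply Odd.add_even ih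
    have h1 : x ^ (2 * c + 1) + x ^ (2 * c + 1 + 1) = x ^ (2 * c + 1) * (1 + x) := by ring
    rw [h1]
    apply Even.mul_left
    have : Odd (1 : ℤ) := odd_one
    exact this.add_odd hx

/-- An odd integer dividing a power of two is `±1`. -/
lemma natAbs_eq_one_of_odd_of_dvd (S : ℤ) (hS : Odd S) (k : ℕ) (h : S ∣ (2 : ℤ) ^ k) :
    S.natAbs = 1 := by
  have h1 : S.natAbs ∣ 2 ^ k := by
    have := Int.natAbs_dvd_natAbs.mpr h
    simpa [Int.natAbs_pow] using this
  obtain ⟨j, -, hj⟩ := (Nat.dvd_prime_pow Nat.prime_two).mp h1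
  have h2 : Odd S.natAbs := Int.natAbs_odd.mpr hS
  rw [hj] at h2 ⊢
  rcases Nat.eq_zero_or_pos j with h0 | h0
  · rw [h0, pow_zero]
  · exfalso
    have : Even (2 ^ j) := (Nat.even_pow' h0.ne').mpr even_two
    exact (Nat.not_even_iff_odd.mpr h2) this

/-- `2 ^ a = q ^ b + 1` with `q` odd forces `b = 1` (for `b ≥ 1`, `q ≥ 3`). -/
lemma case_p_two (q a b : ℕ) (hq3 : 3 ≤ q) (hqodd : Odd q) (hb : 1 ≤ b)
    (h : 2 ^ a = q ^ b + 1) : b = 1 := by
  rcases Nat.even_or_odd b with hbe | hbo
  · -- b even: contradiction modulo 4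
    exfalso
    obtain ⟨c, hc⟩ := hbe
    have hc1 : 1 ≤ c := by omega
    have hq2 : q ^ 2 % 4 = 1 := by
      obtain ⟨k, rfl⟩ := hqodd
      have : (2 * k + 1) ^ 2 = 4 * (k * k + k) + 1 := by ring
      rw [this]; omega
    have hqb : q ^ b % 4 = 1 := by
      have : q ^ b = (q ^ 2) ^ c := by rw [← pow_mul, hc]; ring_nf
      rw [this, Nat.pow_mod, hq2]; simp
    have h2 : 2 ^ a % 4 = 2 := by rw [h]; omega
    have ha : a = 1 := by
      by_contra hne
      rcases Nat.lt_or_ge a 2 with h1 | h1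
      · interval_cases a <;> simp_all
      · obtain ⟨d, rfl⟩ := Nat.exists_eq_add_of_le h1
        rw [pow_add] at h2; omega
    rw [ha] at h
    have : q ^ b = 1 := by omega
    have : 3 ^ 1 ≤ q ^ b := (Nat.pow_le_pow_left hq3 1).trans (Nat.pow_le_pow_right (by omega) hb)
    omega
  · -- b odd: the cofactor of q + 1 is odd
    obtain ⟨c, hc⟩ := hbo
    set S : ℤ := ∑ i ∈ Finset.range (2 * c + 1), (-(q : ℤ)) ^ i with hS
    have hSodd : Odd S := odd_geom_sum _ (by
      have : Odd (q : ℤ) := by exact_mod_cast hqodd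
      exact this.neg) c
    have hgeom : S * (-(q : ℤ) - 1) = (-(q : ℤ)) ^ (2 * c + 1) - 1 := geom_sum_mul _ _
    have hneg : (-(q : ℤ)) ^ (2 * c + 1) = -((q : ℤ) ^ (2 * c + 1)) := Odd.neg_pow ⟨c, rfl⟩ _
    have hprod : S * ((q : ℤ) + 1) = (2 : ℤ) ^ a := by
      have h' : ((2 : ℤ)) ^ a = (q : ℤ) ^ b + 1 := by exact_mod_cast h
      rw [h', hc]
      linear_combination (-1 : ℤ) * hgeom - hneg
    have hS1 : S.natAbs = 1 := natAbs_eq_one_of_odd_of_dvd S hSodd a ⟨_, hprod.symm⟩
    have hSpos : 0 < S := by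
      by_contra hneg'
      have : S * ((q : ℤ) + 1) ≤ 0 :=
        mul_nonpos_of_nonpos_of_nonneg (not_lt.mp hneg') (by positivity)
      have : (0 : ℤ) < 2 ^ a := by positivity
      omega
    have hSeq : S = 1 := by omega
    rw [hSeq, one_mul] at hprod
    have hq1 : q + 1 = 2 ^ a := by
      have : ((q + 1 : ℕ) : ℤ) = ((2 ^ a : ℕ) : ℤ) := by push_cast; exact hprod
      exact Int.ofNat_inj.mp this
    have hqb : q ^ b = q ^ 1 := by
      rw [pow_one]
      rw [h] at hq1
      omega
    exact Nat.pow_right_injective (by omega : 2 ≤ q) hqb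

/-- `p ^ a = 2 ^ b + 1` with `p` odd, `a` odd forces `a = 1`. -/
lemma case_q_two_odd (p a b : ℕ) (hp3 : 3 ≤ p) (hpodd : Odd p) (haodd : Odd a)
    (h : p ^ a = 2 ^ b + 1) : a = 1 := by
  obtain ⟨c, hc⟩ := haodd
  set S : ℤ := ∑ i ∈ Finset.range (2 * c + 1), (p : ℤ) ^ i with hS
  have hSodd : Odd S := odd_geom_sum _ (by exact_mod_cast hpodd) c
  have hgeom : S * ((p : ℤ) - 1) = (p : ℤ) ^ (2 * c + 1) - 1 := geom_sum_mul _ _
  have hprod : S * ((p : ℤ) - 1) = (2 : ℤ) ^ b := by
    have h' : (p : ℤ) ^ a = (2 : ℤ) ^ b + 1 := by exact_mod_cast h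
    rw [hgeom, ← hc, h']; ring
  have hS1 : S.natAbs = 1 := natAbs_eq_one_of_odd_of_dvd S hSodd b ⟨_, hprod.symm⟩
  by_contra hne
  have hc1 : 1 ≤ c := by omega
  -- S ≥ 1 + p > 1
  have hSge : (1 : ℤ) + p ≤ S := by
    rw [hS]
    have hsub : Finset.range 2 ⊆ Finset.range (2 * c + 1) :=
      Finset.range_subset_range.mpr (by omega)
    have := Finset.sum_le_sum_of_subset_of_nonneg hsub
      (f := fun i => (p : ℤ) ^ i) (fun i _ _ => by positivity)
    simpa [Finset.sum_range_succ] using this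
  have : (p : ℤ) ≥ 3 := by exact_mod_cast hp3
  omega

theorem result (p q a b : ℕ) (hp : p.Prime) (hq : q.Prime) (ha : 1 ≤ a) (hb : 1 ≤ b) (h : p ^ a = q ^ b + 1) : (p = 2 ∧ b = 1 ∧ a.Prime ∧ q + 1 = 2 ^ a) ∨ (q = 2 ∧ a = 1 ∧ (∃ m : ℕ, b = 2 ^ m) ∧ p = 2 ^ b + 1) ∨ (p ^ a = 9 ∧ q ^ b = 8) := by
  rcases hp.eq_two_or_odd' with hp2 | hpodd
  · -- p = 2
    left
    subst hp2
    have hqodd : Odd q := by
      rcases hq.eq_two_or_odd' with hq2 | hqo
      · exfalso
        subst hq2
        have h1 : Even (2 ^ a) := (Nat.even_pow' (by omega)).mpr even_two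
        have h2 : Even (2 ^ b) := (Nat.even_pow' (by omega)).mpr even_two
        rw [h] at h1
        exact (Nat.even_add_one.mp h1) h2
      · exact hqo
    have hq3 : 3 ≤ q := by
      have := hq.two_le
      obtain ⟨k, hk⟩ := hqodd
      omega
    have hb1 : b = 1 := case_p_two q a b hq3 hqodd hb h
    subst hb1
    rw [pow_one] at h
    refine ⟨rfl, rfl, ?_, h.symm⟩
    have hq' : (2 ^ a - 1).Prime := by
      have : 2 ^ a - 1 = q := by omega
      rw [this]; exact hq
    have ha1 : a ≠ 1 := by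
      intro h1
      rw [h1] at hq'
      norm_num at hq'
    exact (Nat.prime_of_pow_sub_one_prime ha1 hq').2
  · -- p odd, hence q = 2
    right
    have hq2 : q = 2 := by
      rcases hq.eq_two_or_odd' with hq2 | hqo
      · exact hq2
      · exfalso
        have h1 : Odd (p ^ a) := hpodd.pow
        have h2 : Odd (q ^ b) := hqo.pow
        rw [h] at h1
        exact (Nat.not_even_iff_odd.mpr h1) (h2.add_odd odd_one)
    subst hq2
    have hp3 : 3 ≤ p := by
      have := hp.two_le
      obtain ⟨k, hk⟩ := hpodd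
      omega
    rcases Nat.even_or_odd a with hae | hao
    · -- a even: the (9, 8) case
      right
      obtain ⟨c, hc⟩ := hae
      have hc1 : 1 ≤ c := by omega
      set u := p ^ c with hu
      have hu3 : 3 ≤ u := (Nat.pow_le_pow_left hp3 1).trans (by
        rw [hu]; exact Nat.pow_le_pow_right (by omega) hc1) |>.trans' (by norm_num)
      have hprod : (u - 1) * (u + 1) = 2 ^ b := by
        have : p ^ a = u * u := by rw [hc, pow_add]
        rw [this] at h
        have h1 : 1 ≤ u := by omega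
        obtain ⟨v, hv⟩ := Nat.exists_eq_add_of_le h1
        rw [hv] at h ⊢
        have : 1 + v - 1 = v := by omega
        rw [this]
        nlinarith
      obtain ⟨i, -, hi⟩ := (Nat.dvd_prime_pow Nat.prime_two).mp ⟨_, hprod.symm⟩
      obtain ⟨j, -, hj⟩ := (Nat.dvd_prime_pow Nat.prime_two).mp
        ⟨_, (mul_comm (u - 1) (u + 1) ▸ hprod).symm⟩
      have hij : 2 ^ j = 2 ^ i + 2 := by omega
      have hj2 : 2 ≤ j := by
        by_contra hlt
        have : j ≤ 1 := by omega
        have : 2 ^ j ≤ 2 ^ 1 := Nat.pow_le_pow_right (by omega) this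
        omega
      have h4 : 4 ∣ 2 ^ j := by
        obtain ⟨d, rfl⟩ := Nat.exists_eq_add_of_le hj2
        rw [pow_add]; exact ⟨2 ^ d, by ring⟩
      have hi1 : i = 1 := by
        by_contra hne
        rcases Nat.lt_or_ge i 2 with hlt | hge
        · have : i = 0 := by omega
          subst this
          rw [hij] at h4; omega
        · obtain ⟨d, rfl⟩ := Nat.exists_eq_add_of_le hge
          rw [hij, pow_add] at h4
          omega
      subst hi1
      have hu3' : u = 3 := by omega
      have hp3' : p = 3 := by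
        have : p ∣ 3 := by
          rw [← hu3', hu]; exact dvd_pow_self p (by omega)
        exact (Nat.prime_dvd_prime_iff_eq hp Nat.prime_three).mp this
      subst hp3'
      have hc' : c = 1 := by
        have : 3 ^ c = 3 ^ 1 := by rw [← hu, hu3']; norm_num
        exact Nat.pow_right_injective (le_refl 2 |>.trans (by norm_num)) this
      subst hc'
      have ha2 : a = 2 := by omega
      subst ha2
      constructor
      · norm_num
      · omega
    · -- a odd
      left
      have ha1 : a = 1 := case_q_two_odd p a b hp3 hpodd hao h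
      subst ha1
      rw [pow_one] at h
      refine ⟨rfl, rfl, ?_, h⟩
      exact Nat.pow_of_pow_add_prime (by norm_num) (by omega) (h ▸ hp)

end Cfsg.Agent.S3784
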