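import Mathlib
import Cfsg.Statements.S3909
import Cfsg.Agent.Helper19.Basic
import Cfsg.Agent.Lead.CoprimeSylow2

set_option autoImplicit false
open Cfsg

namespace Cfsg.Agent.S3909

open Cfsg.Agent.Helper19

theorem result {G : Type*} [Group G] [Finite G] (hB : ∀ A B : Subgroup G, IsMulCommutative ↥A → IsMulCommutative ↥B → Nat.card ↥A = Nat.card ↥B → ∃ g : G, B = A.map (MulAut.conj g).toMonoidHom) (M : Subgroup G) [M.Normal] :
    (∀ a : G, (∃ m ∈ M, orderOf m = orderOf a) → a ∈ M) ∧
    ∀ (p t : ℕ) [Fact p.Prime], 2 ≤ t → Nat.card ↥M = p ^ t → Cfsg.IsElementaryAbelian p M → ∀ P : Sylow p G, (P : Subgroup G) = M := by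
  have part1 : ∀ a : G, (∃ m ∈ M, orderOf m = orderOf a) → a ∈ M := by
    rintro a ⟨m, hm, hma⟩
    obtain ⟨g, hg⟩ := hB (Subgroup.zpowers m) (Subgroup.zpowers a) inferInstance inferInstance
      (by rw [Nat.card_zpowers, Nat.card_zpowers, hma])
    have h1 : a ∈ (Subgroup.zpowers m).map (MulAut.conj g).toMonoidHom := by
      rw [← hg]; exact Subgroup.mem_zpowers a
    rw [mem_map_conj] at h1
    have h2 : g⁻¹ * a * g ∈ M := (Subgroup.zpowers_le.mpr hm) h1
    have h3 : a = g * (g⁻¹ * a * g) * g⁻¹ := by group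
    rw [h3]
    exact ‹M.Normal›.conj_mem _ h2 g
  refine ⟨part1, ?_⟩
  intro p t _ ht hM hMel P
  have hp : p.Prime := Fact.out
  have hMp : IsPGroup p M := IsPGroup.of_card hM
  have hMP : M ≤ (P : Subgroup G) := Cfsg.Agent.Lead.le_sylow_of_normal_isPGroup P M hMp
  -- all elements of order `p` lie in `M`
  have hord : ∀ x : G, orderOf x = p → x ∈ M := by
    intro x hx
    have hdvd : p ∣ Nat.card M := by rw [hM]; exact dvd_pow_self p (by omega)
    obtain ⟨m, hm⟩ := exists_prime_orderOf_dvd_card' (G := M) p hdvd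
    exact part1 x ⟨(m : G), m.2, by rw [Subgroup.orderOf_coe, hm, hx]⟩
  -- a subgroup of order `p ^ 2` inside `M`
  have hdvd2 : p ^ 2 ∣ Nat.card M := by rw [hM]; exact pow_dvd_pow p ht
  obtain ⟨K, hK⟩ := Sylow.exists_subgroup_card_pow_prime (G := M) p hdvd2
  have hKcard : Nat.card (K.map M.subtype) = p ^ 2 := by
    rw [← hK]
    exact (Nat.card_congr (K.equivMapOfInjective _ M.subtype_injective).toEquiv).symm
  have hKab : IsMulCommutative (K.map M.subtype) := by
    have : IsMulCommutative M := hMel.1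
    have : IsMulCommutative K := inferInstance
    infer_instance
  have hPM : ∀ n : ℕ, ∀ x ∈ (P : Subgroup G), orderOf x = n → x ∈ M := by
    intro n
    induction n using Nat.strong_induction_on with
    | _ n ih =>
      intro x hxP hxn
      obtain ⟨k, hk⟩ := (IsPGroup.iff_orderOf.mp P.isPGroup') ⟨x, hxP⟩
      rw [Subgroup.orderOf_mk] at hk
      rcases Nat.lt_or_ge k 2 with hk2 | hk2
      · interval_cases k
        · rw [pow_zero] at hk
          rw [orderOf_eq_one_iff.mp hk]; exact M.one_mem
        · rw [pow_one] at hk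
          exact hord x hk
      · exfalso
        -- `x ^ p ∈ M`
        have h1 : orderOf (x ^ p) < n := by
          rw [← hxn, orderOf_pow_of_dvd hp.ne_zero (hk ▸ dvd_pow_self p (by omega))]
          exact Nat.div_lt_self (orderOf_pos x) hp.one_lt
        have h2 : x ^ p ∈ M := ih _ h1 (x ^ p) (Subgroup.pow_mem _ hxP p) rfl
        have h3 : (x ^ p) ^ p = 1 := hMel.2 _ h2
        have h4 : orderOf x ∣ p ^ 2 := by
          apply orderOf_dvd_of_pow_eq_one
          rw [pow_two, pow_mul]; exact h3
        have hk' : k = 2 := by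
          rw [hk] at h4
          have := (Nat.pow_dvd_pow_iff_le_right hp.one_lt).mp h4
          omega
        rw [hk'] at hk
        -- conjugate `⟨x⟩` into `K`
        obtain ⟨g, hg⟩ := hB (Subgroup.zpowers x) (K.map M.subtype) inferInstance hKab
          (by rw [Nat.card_zpowers, hk, hKcard])
        have h5 : g * x * g⁻¹ ∈ K.map M.subtype := by
          rw [hg]; exact conj_mem_map_conj g (Subgroup.mem_zpowers x)
        have h6 : g * x * g⁻¹ ∈ M := Subgroup.map_subtype_le K h5
        have h7 : (g * x * g⁻¹) ^ p = 1 := hMel.2 _ h6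
        rw [conj_pow] at h7
        have h8 : x ^ p = 1 := by
          have : x ^ p = g⁻¹ * (g * x ^ p * g⁻¹) * g := by group
          rw [this, h7]; group
        have h9 : orderOf x ∣ p := orderOf_dvd_of_pow_eq_one h8
        rw [hk] at h9
        have := Nat.le_of_dvd hp.pos h9
        have h10 : p < p ^ 2 := by
          rw [pow_two]; nlinarith [hp.one_lt]
        omega
  exact le_antisymm (fun x hx => hPM _ x hx rfl) hMP

end Cfsg.Agent.S3909
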