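import Cfsg.Statements.S3908
-- import your own Cfsg.Agent.* helpers here
import Cfsg.Agent.Helper11.AbelianConj

set_option autoImplicit false
open Cfsg

namespace Cfsg.Agent.S3908

/-- Let G be a finite group in which any two abelian subgroups of the same order are conjugate. Then a Sylow 2-subgroup of G is cyclic, elementary abelian or generalized quaternion, and for an odd prime p a Sylow p-subgroup of G is cyclic or has exponent dividing p. -/
theorem result {G : Type*} [Group G] [Finite G] (hB : ∀ A B : Subgroup G, IsMulCommutative ↥A → IsMulCommutative ↥B → Nat.card ↥A = Nat.card ↥B → ∃ g : G, B = A.map (MulAut.conj g).toMonoidHom) :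
    (∀ P : Sylow 2 G, IsCyclic ↥(P : Subgroup G) ∨ Cfsg.IsElementaryAbelian 2 (P : Subgroup G) ∨ ∃ k : ℕ, Nonempty (↥(P : Subgroup G) ≃* QuaternionGroup (2 ^ k))) ∧
    ∀ (p : ℕ) [Fact p.Prime], p ≠ 2 → ∀ P : Sylow p G, IsCyclic ↥(P : Subgroup G) ∨ ∀ x ∈ (P : Subgroup G), x ^ p = 1 := by
  constructor
  · intro P
    haveI : Fact (Nat.Prime 2) := ⟨Nat.prime_two⟩
    by_cases hex : ∀ x ∈ (P : Subgroup G), x ^ 2 = 1
    · right; left
      refine ⟨⟨⟨fun a b => ?_⟩⟩, hex⟩
      have h1 : ∀ c : ↥(P : Subgroup G), c * c = 1 := by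
        intro c
        apply Subtype.ext
        have := hex c c.2
        rw [pow_two] at this
        exact this
      calc a * b = a * ((a * b) * (a * b)) * b := by rw [h1, mul_one]
        _ = (a * a) * (b * a) * (b * b) := by group
        _ = b * a := by rw [h1, h1, one_mul, mul_one]
    · push Not at hex
      obtain ⟨x, hxP, hx⟩ := hex
      have hU := Helper11.uniqP_of_abelian_conj hB 2 P x hxP hx
      rcases Helper1.UniqP.cyclic_or_quaternion 2 P.isPGroup' hU with h | ⟨_, h⟩
      · exact Or.inl h
      · exact Or.inr (Or.inr h)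
  · intro p _ hp2 P
    by_cases hex : ∀ x ∈ (P : Subgroup G), x ^ p = 1
    · exact Or.inr hex
    · push Not at hex
      obtain ⟨x, hxP, hx⟩ := hex
      have hU := Helper11.uniqP_of_abelian_conj hB p P x hxP hx
      rcases Helper1.UniqP.cyclic_or_quaternion p P.isPGroup' hU with h | ⟨h, _⟩
      · exact Or.inl h
      · exact absurd h hp2

end Cfsg.Agent.S3908
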