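import Mathlib
import Cfsg.Statements.S0965
import Cfsg.Agent.Helper5.Passman
import Cfsg.Agent.S0963

set_option autoImplicit false
open Cfsg

namespace Cfsg.Agent.S0965

open Cfsg.Agent.Helper5.CC Cfsg.Agent.Helper5.Loc Cfsg.Agent.Helper24

/-- Let N be a normal subgroup of the finite group G and let B, b be blocks of G and of N relative to a maximal ideal M of the algebraic integers containing the prime p. Then some χ ∈ B has a constituent in b on restriction to N if and only if, for all χ ∈ B, θ ∈ b and n ∈ N, the central character of χ at n is congruent modulo the local ideal at M to the sum of θ m / θ 1 over the elements m ∈ N conjugate in G to n. -/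
theorem result {G : Type*} [Group G] [Fintype G] (p : ℕ) [Fact p.Prime] (M : Ideal Cfsg.AlgInt) (hM : Cfsg.IsPModular p M) (N : Subgroup G) [N.Normal] [Fintype N] (B : Set (Cfsg.IrrCharacter G)) (hB : Cfsg.IsPBlock M B) (b : Set (Cfsg.IrrCharacter N)) (hb : Cfsg.IsPBlock M b) : (∃ χ ∈ B, ∃ θ ∈ b, Cfsg.classInner (fun n : N => (χ : G → ℂ) n) (θ : N → ℂ) ≠ 0) ↔ ∀ χ ∈ B, ∀ θ ∈ b, ∀ n : N, Cfsg.MemLocalIdeal M (Cfsg.centralChar (χ : G → ℂ) (n : G) - Cfsg.inducedCentralChar N (θ : N → ℂ) (n : G)) := by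
  classical
  have : Fintype (IrrCharacter G) := Fintype.ofFinite _
  have hMp := isPrime_of_isPModular hM
  constructor
  · rintro ⟨χ₁, hχ₁, θ₁, hθ₁, hcon⟩ χ hχ θ hθ n
    have e1 := Cfsg.Agent.S0963.centralChar_eq_of_constituent N χ₁ θ₁ hcon n
    have h1 : MemLocalIdeal M (centralChar (χ : G → ℂ) (n : G) - centralChar (χ₁ : G → ℂ) (n : G)) :=
      sameBlock_of_mem hMp hB hχ hχ₁ (n : G)
    have h2 : MemLocalIdeal M (inducedCentralChar N (θ₁ : N → ℂ) (n : G) -
        inducedCentralChar N (θ : N → ℂ) (n : G)) := by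
      rw [Cfsg.Agent.S0933.inducedCentralChar_eq_act, Cfsg.Agent.S0933.inducedCentralChar_eq_act]
      apply act_sub_act_memLocalIdeal hMp (Cfsg.Agent.S0933.isClassFunction_fusionIndicator N (n : G))
      · intro t
        exact memLocalRing_classIndicator hMp (n : G) _
      · exact sameBlock_of_mem hMp hb hθ₁ hθ
    rw [e1] at h1
    have := li_add hMp h1 h2
    rwa [sub_add_sub_cancel] at this
  · intro hcong
    obtain ⟨χ, hχ⟩ := IsPBlock.nonempty hMp hB
    obtain ⟨θ, hθ⟩ := IsPBlock.nonempty hMp hb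
    obtain ⟨θ₀, hθ₀⟩ := exists_constituent_restrict N χ
    obtain ⟨x, θ', hθ', hx⟩ := mem_conjUnion_of_congr N hMp hb χ θ hθ (hcong χ hχ θ hθ) θ₀ hθ₀
    refine ⟨χ, hχ, θ', hθ', ?_⟩
    rw [hx] at hθ₀
    have h1 : ((conjIrr N x θ' : IrrCharacter N) : N → ℂ) = conjFun N (θ' : N → ℂ) x := rfl
    rw [h1, classInner_restrict_conjFun N (isClassFunction_irr χ)] at hθ₀
    exact hθ₀

end Cfsg.Agent.S0965
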