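import Mathlib
import Cfsg.Statements.S0971
import Cfsg.Agent.Helper5.BrauerMap
import Cfsg.Agent.S0919
import Cfsg.Agent.S0963

set_option autoImplicit false
open Cfsg

namespace Cfsg.Agent.S0971

open Cfsg.Agent.Helper5.CC Cfsg.Agent.Helper5.Loc Cfsg.Agent.Helper24

theorem result {G : Type*} [Group G] [Fintype G] (p : ℕ) [Fact p.Prime] (M : Ideal Cfsg.AlgInt) (hM : Cfsg.IsPModular p M) (Q : Subgroup G) [Q.Normal] (hQ : IsPGroup p Q) [Fintype ↥(Q ⊔ Subgroup.centralizer (Q : Set G))] (b : Set (Cfsg.IrrCharacter ↥(Q ⊔ Subgroup.centralizer (Q : Set G)))) (hb : Cfsg.IsPBlock M b) : Cfsg.InducedBlockDefined M (Q ⊔ Subgroup.centralizer (Q : Set G)) b ∧ ∀ B : Set (Cfsg.IrrCharacter G), Cfsg.IsPBlock M B → (∃ χ ∈ B, ∃ θ ∈ b, Cfsg.classInner (fun n : ↥(Q ⊔ Subgroup.centralizer (Q : Set G)) => (χ : G → ℂ) n) (θ : ↥(Q ⊔ Subgroup.centralizer (Q : Set G)) → ℂ) ≠ 0) → Cfsg.IsInducedBlock M (Q ⊔ Subgroup.centralizer (Q : Set G)) b B := by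
  classical
  have hMp := isPrime_of_isPModular hM
  have hHn : (Q ⊔ Subgroup.centralizer (Q : Set G)).Normal := inferInstance
  have hHN : Q ⊔ Subgroup.centralizer (Q : Set G) ≤ Subgroup.normalizer (Q : Set G) := by
    intro x _
    rw [Subgroup.mem_normalizer_iff]
    intro h
    constructor
    · intro hh
      exact Subgroup.Normal.conj_mem inferInstance h hh x
    · intro hh
      have := Subgroup.Normal.conj_mem (inferInstance : Q.Normal) _ hh x⁻¹
      simpa [mul_assoc] using this
  constructor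
  · exact Cfsg.Agent.S0919.result p M hM Q _ hQ le_sup_left le_sup_right hHN b hb
  · rintro B hB ⟨χ, hχ, θ, hθ, hcon⟩
    refine ⟨hb, hB, ?_⟩
    intro ξ hξ χ' hχ' g
    by_cases hg : g ∈ Q ⊔ Subgroup.centralizer (Q : Set G)
    · have h1 : MemLocalIdeal M (inducedCentralChar (Q ⊔ Subgroup.centralizer (Q : Set G))
          (ξ : ↥(Q ⊔ Subgroup.centralizer (Q : Set G)) → ℂ) g -
          inducedCentralChar (Q ⊔ Subgroup.centralizer (Q : Set G))
          (θ : ↥(Q ⊔ Subgroup.centralizer (Q : Set G)) → ℂ) g) := by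
        rw [Cfsg.Agent.S0933.inducedCentralChar_eq_act, Cfsg.Agent.S0933.inducedCentralChar_eq_act]
        apply act_sub_act_memLocalIdeal hMp
          (Cfsg.Agent.S0933.isClassFunction_fusionIndicator _ g) _ (sameBlock_of_mem hMp hb hξ hθ)
        intro t
        exact memLocalRing_classIndicator hMp g _
      have h2 := Cfsg.Agent.S0963.centralChar_eq_of_constituent _ χ θ hcon ⟨g, hg⟩
      have h3 : MemLocalIdeal M (centralChar (χ : G → ℂ) g - centralChar (χ' : G → ℂ) g) :=
        sameBlock_of_mem hMp hB hχ hχ' g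
      rw [← h2] at h1
      have := li_add hMp h1 h3
      convert this using 1
      ring
    · have h0 : inducedCentralChar (Q ⊔ Subgroup.centralizer (Q : Set G))
          (ξ : ↥(Q ⊔ Subgroup.centralizer (Q : Set G)) → ℂ) g = 0 := by
        rw [Cfsg.Agent.S0933.inducedCentralChar_eq_act, act]
        have : ∀ t : ↥(Q ⊔ Subgroup.centralizer (Q : Set G)),
            Cfsg.Agent.S0933.fusionIndicator (Q ⊔ Subgroup.centralizer (Q : Set G)) g t = 0 := by
          intro t
          apply classIndicator_of_not_isConj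
          intro hc
          apply hg
          obtain ⟨c, hc⟩ := isConj_iff.mp hc
          have h5 : c⁻¹ * (t : G) * c⁻¹⁻¹ ∈ Q ⊔ Subgroup.centralizer (Q : Set G) :=
            hHn.conj_mem _ t.2 c⁻¹
          rw [← hc] at h5
          convert h5 using 1
          group
        simp only [this, zero_mul, Finset.sum_const_zero, zero_div]
      rw [h0, zero_sub]
      apply li_neg
      apply centralChar_memLocalIdeal_of_not_mem_centralizer hM Q hQ χ' g
      intro hgC
      exact hg (le_sup_right (a := Q) hgC)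

end Cfsg.Agent.S0971
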