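import Mathlib
import Cfsg.Statements.S0961
import Cfsg.Agent.Helper5.ElementarySplit
import Cfsg.Agent.Helper24.BrauerChar
import Cfsg.Agent.Helper24.Span
import Cfsg.Agent.Helper8.Ind
import Cfsg.Agent.Helper8.CharComp

set_option autoImplicit false
open Cfsg

namespace Cfsg.Agent.S0961

open Cfsg.Agent.Helper5 Cfsg.Agent.Helper24

/-- Let χ be an irreducible character of the finite group G and let p ^ a be the largest power of the prime p dividing the order of G. Then the function equal to p ^ a * χ x at elements x of order prime to p and to 0 elsewhere is a generalized character (a difference of characters). -/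
theorem result {G : Type*} [Group G] [Finite G] (p : ℕ) [Fact p.Prime] (χ : Cfsg.IrrCharacter G) : Cfsg.IsGeneralizedCharacter G (fun x : G => if p ∣ orderOf x then 0 else ((p ^ (Nat.card G).factorization p : ℕ) : ℂ) * (χ : G → ℂ) x) := by
  classical
  have hp : Fact p.Prime := inferInstance
  have : Fintype G := Fintype.ofFinite G
  have hχc := isClassFunction_irr χ
  have hG0 : Nat.card G ≠ 0 := Nat.card_pos.ne'
  set n := p ^ (Nat.card G).factorization p with hn
  set m := Nat.card G / p ^ (Nat.card G).factorization p with hm
  have hmn : Nat.card G = m * n := by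
    rw [mul_comm]; exact (Nat.ordProj_mul_ordCompl_eq_self (Nat.card G) p).symm
  have hcop : Nat.Coprime m n := ((Nat.coprime_ordCompl hp.out hG0).pow_left _).symm
  have hpm : ¬ p ∣ m := Nat.not_dvd_ordCompl hp.out hG0
  have hm0 : m ≠ 0 := fun h => by rw [h, zero_mul] at hmn; exact hG0 hmn
  have hn0 : n ≠ 0 := fun h => by rw [h, mul_zero] at hmn; exact hG0 hmn
  apply isGeneralizedCharacter_of_restrict_elementary
  · intro x t
    have hord : orderOf (t * x * t⁻¹) = orderOf x := by
      have := orderOf_injective (MulAut.conj t).toMonoidHom (MulAut.conj t).injective x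
      simpa using this
    simp only [hord, hχc x t]
  · intro E q hq hEl
    have : Fintype E := Fintype.ofFinite _
    have hEcard : Nat.card E ∣ m * n := by rw [← hmn]; exact Subgroup.card_subgroup_dvd_card E
    obtain ⟨A, B, hAn, hcomm, hprod, hAm, hBn⟩ :=
      exists_coprime_split hq hEl m n hcop hm0 hn0 hEcard
    -- `A.index ∣ n`
    have hidx : A.index ∣ n := by
      have hsurj : Function.Surjective ((QuotientGroup.mk' A).comp B.subtype) := by
        intro r
        obtain ⟨e, rfl⟩ := QuotientGroup.mk_surjective r
        obtain ⟨a, ha, b, hb, rfl⟩ := hprod e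
        refine ⟨⟨b, hb⟩, ?_⟩
        show (QuotientGroup.mk b : E ⧸ A) = QuotientGroup.mk (a * b)
        rw [QuotientGroup.mk_mul, (QuotientGroup.eq_one_iff a).mpr ha, one_mul]
      have := Subgroup.card_dvd_of_surjective _ hsurj
      rw [Subgroup.index_eq_card]
      exact this.trans hBn
    obtain ⟨c, hc⟩ := hidx
    -- membership in `A` is `p`-regularity
    have hmemA : ∀ e : E, e ∈ A ↔ ¬ p ∣ orderOf (e : G) := by
      intro e
      rw [Subgroup.orderOf_coe]
      constructor
      · intro he hpe
        have h1 : orderOf e ∣ Nat.card A := Subgroup.orderOf_dvd_natCard A he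
        exact hpm (hpe.trans (h1.trans hAm))
      · intro hpe
        rw [← QuotientGroup.eq_one_iff (N := A)]
        have h1 : orderOf (QuotientGroup.mk e : E ⧸ A) ∣ orderOf e :=
          orderOf_map_dvd (QuotientGroup.mk' A) e
        have h2 : orderOf (QuotientGroup.mk e : E ⧸ A) ∣ n := by
          have h3 : orderOf (QuotientGroup.mk e : E ⧸ A) ∣ Nat.card (E ⧸ A) := orderOf_dvd_natCard _
          rw [← Subgroup.index_eq_card] at h3
          exact h3.trans (Dvd.intro _ hc.symm)
        have hcp : Nat.Coprime (orderOf e) n :=
          Nat.Coprime.pow_right _ ((Nat.Prime.coprime_iff_not_dvd hp.out).mpr hpe).symm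
        have h4 := Nat.eq_one_of_dvd_coprimes hcp h1 h2
        exact orderOf_eq_one_iff.mp h4
    -- the restricted function is `c • indFun A (χ|_A)`
    have hres : IsGeneralizedCharacter A (fun a : A => (χ : G → ℂ) ((a : E) : G)) := by
      have h1 : IsCharacter E (fun e : E => (χ : G → ℂ) e) :=
        Cfsg.Agent.Helper8.isCharacter_restrict E (IsIrrCharacter.isCharacter χ.2)
      have h2 : IsCharacter A (fun a : A => (χ : G → ℂ) ((a : E) : G)) :=
        Cfsg.Agent.Helper8.isCharacter_restrict A h1
      exact IsCharacter.isGeneralizedCharacter h2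
    have hgen := IsGeneralizedCharacter.nsmul (IsGeneralizedCharacter.indFun A hres) c
    convert hgen using 1
    funext e
    rw [Pi.smul_apply]
    by_cases he : e ∈ A
    · have hreg := (hmemA e).mp he
      rw [if_neg hreg]
      have := Cfsg.Agent.Helper8.indFun_normal_apply A
        (fun a : A => (χ : G → ℂ) ((a : E) : G)) ⟨e, he⟩
      simp only at this
      rw [this]
      have hconst : ∀ x : E, (χ : G → ℂ) ((x * e * x⁻¹ : E) : G) = (χ : G → ℂ) (e : G) := by
        intro x
        exact hχc (e : G) (x : G)
      simp only [hconst, Finset.sum_const, Finset.card_univ, nsmul_eq_mul]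
      have hcard : (Fintype.card E : ℂ) = (Nat.card A : ℂ) * (A.index : ℂ) := by
        rw [← Nat.card_eq_fintype_card, ← Subgroup.card_mul_index A]
        push_cast; ring
      have hA0 : (Nat.card A : ℂ) ≠ 0 := by
        have : 0 < Nat.card A := Nat.card_pos
        exact_mod_cast this.ne'
      rw [hcard, hn, ← hn, hc]
      push_cast
      field_simp
      rw [smul_eq_mul]
      ring
    · have hsing : p ∣ orderOf (e : G) := by
        by_contra h
        exact he ((hmemA e).mpr h)
      rw [if_pos hsing, Cfsg.Agent.Helper8.indFun_eq_zero_of_not_mem A _ he, smul_zero]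

end Cfsg.Agent.S0961
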