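import Cfsg.Statements.S4425
import Cfsg.Agent.Helper8.PRegularDiv
import Cfsg.Agent.Helper24.Generalized

set_option autoImplicit false
open Cfsg

namespace Cfsg.Agent.S4425

/-- Let χ be an irreducible character of the finite group G, p a prime, p^a the p-part of the order of G and p^b the p-part of the degree χ(1). Let χ̃ be the class function equal to p^a · χ on p-regular elements and zero on p-singular elements. Then p^(−b) · χ̃ is a generalized character of G, while p^(−(b+1)) · χ̃ is not. -/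
theorem result {G : Type*} [Group G] [Finite G] (p : ℕ) [Fact p.Prime] (χ : Cfsg.IrrCharacter G) : Cfsg.IsGeneralizedCharacter G (fun x : G => if p ∣ orderOf x then (0 : ℂ) else ((p ^ ((Nat.card G).factorization p - (Cfsg.charDegree (χ : G → ℂ)).factorization p) : ℕ) : ℂ) * (χ : G → ℂ) x) ∧ ¬ Cfsg.IsGeneralizedCharacter G (fun x : G => if p ∣ orderOf x then (0 : ℂ) else ((p ^ (Nat.card G).factorization p : ℕ) : ℂ) / ((p ^ ((Cfsg.charDegree (χ : G → ℂ)).factorization p + 1) : ℕ) : ℂ) * (χ : G → ℂ) x) := by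
  classical
  haveI : Fintype G := Fintype.ofFinite G
  haveI : Fintype (IrrCharacter G) := Fintype.ofFinite _
  have hp : p.Prime := Fact.out
  rw [Cfsg.Agent.Helper5.CC.charDegree_eq_irrDeg]
  set a := (Nat.card G).factorization p with ha
  set ν := (Cfsg.Agent.Helper24.irrDeg χ).factorization p with hν
  have hνa : ν ≤ a :=
    (Nat.factorization_le_iff_dvd (Cfsg.Agent.Helper24.irrDeg_pos χ).ne' Nat.card_pos.ne').mpr
      (Cfsg.Agent.Helper24.irrDeg_dvd_card χ) p
  have hp0 : (p : ℂ) ≠ 0 := by exact_mod_cast hp.pos.ne'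
  set f : G → ℂ := fun x : G => if p ∣ orderOf x then (0 : ℂ) else
    ((p ^ a : ℕ) : ℂ) * (χ : G → ℂ) x with hf
  have hgen : IsGeneralizedCharacter G f :=
    Cfsg.Agent.Helper8.PRegular.isGeneralizedCharacter_pRegular p
      (Cfsg.Agent.Helper24.IsIrrCharacter.isCharacter χ.2)
  constructor
  · -- first part
    have hg1 : (fun x : G => if p ∣ orderOf x then (0 : ℂ) else
        ((p ^ (a - ν) : ℕ) : ℂ) * (χ : G → ℂ) x) = (((p : ℂ) ^ ν)⁻¹) • f := by
      funext x
      simp only [hf, Pi.smul_apply, smul_eq_mul]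
      by_cases hx : p ∣ orderOf x
      · simp [hx]
      · simp only [if_neg hx]
        rw [← mul_assoc]
        congr 1
        have : (p : ℂ) ^ a = (p : ℂ) ^ ν * (p : ℂ) ^ (a - ν) := by
          rw [← pow_add, Nat.add_sub_cancel' hνa]
        push_cast
        rw [this]
        field_simp
    rw [hg1]
    refine Cfsg.Agent.Helper24.isGeneralizedCharacter_of_classInner_int ?_ ?_
    · intro g x
      simp only [Pi.smul_apply]
      rw [Cfsg.Agent.Helper24.IsGeneralizedCharacter.isClassFunction hgen g x]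
    · intro ψ
      obtain ⟨n, hn⟩ := Cfsg.Agent.Helper24.IsGeneralizedCharacter.classInner_irr_int hgen ψ
      obtain ⟨q, hq⟩ := Cfsg.Agent.Helper8.PRegularDiv.pow_dvd_classInner_pRegular p χ ψ n hn
      refine ⟨q, ?_⟩
      rw [Cfsg.Agent.Helper24.classInner_smul_left, hn, hq]
      push_cast
      rw [← hν]
      field_simp
  · -- second part
    intro hgen2
    obtain ⟨P⟩ : Nonempty (Sylow p G) := inferInstance
    haveI : Fintype (P : Subgroup G) := Fintype.ofFinite _
    haveI : Fintype (IrrCharacter (P : Subgroup G)) := Fintype.ofFinite _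
    have hPcard : Nat.card (P : Subgroup G) = p ^ a := P.card_eq_multiplicity
    have hres := Cfsg.Agent.Helper24.IsGeneralizedCharacter.restrict hgen2 (P : Subgroup G)
    have h1P : IsGeneralizedCharacter (P : Subgroup G) (fun _ => (1 : ℂ)) :=
      Cfsg.Agent.Helper24.IsCharacter.isGeneralizedCharacter
        Cfsg.Agent.Helper24.isCharacter_const_one
    obtain ⟨z, hz⟩ := Cfsg.Agent.Helper24.IsGeneralizedCharacter.classInner_int hres h1P
    rw [classInner] at hz
    have hsum : ∑ g : (P : Subgroup G), (fun x : (P : Subgroup G) =>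
        (fun x : G => if p ∣ orderOf x then (0 : ℂ) else
          ((p ^ a : ℕ) : ℂ) / ((p ^ (ν + 1) : ℕ) : ℂ) * (χ : G → ℂ) x) (x : G)) g *
          (starRingEnd ℂ) ((fun _ : (P : Subgroup G) => (1 : ℂ)) g) =
        ((p ^ a : ℕ) : ℂ) / ((p ^ (ν + 1) : ℕ) : ℂ) * (χ : G → ℂ) 1 := by
      rw [Finset.sum_eq_single (1 : (P : Subgroup G))]
      · simp only [Subgroup.coe_one, orderOf_one, map_one, mul_one]
        rw [if_neg]
        intro h
        exact hp.one_lt.ne' (Nat.dvd_one.mp h)
      · intro x _ hx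
        have hx1 : orderOf (x : G) ∣ p ^ a := by
          rw [Subgroup.orderOf_coe, ← hPcard]; exact orderOf_dvd_natCard x
        obtain ⟨k, -, hk⟩ := (Nat.dvd_prime_pow hp).mp hx1
        have hk0 : k ≠ 0 := by
          intro h0
          rw [h0, pow_zero, orderOf_eq_one_iff] at hk
          exact hx (Subtype.ext hk)
        have : p ∣ orderOf (x : G) := by rw [hk]; exact dvd_pow_self p hk0
        simp only [if_pos this, zero_mul]
      · intro h; exact absurd (Finset.mem_univ _) h
    rw [hsum, hPcard, Cfsg.Agent.Helper24.irrDeg_spec] at hz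
    -- χ(1) = p^ν d'
    set d' := Cfsg.Agent.Helper24.irrDeg χ / p ^ ν with hd'
    have hd : p ^ ν * d' = Cfsg.Agent.Helper24.irrDeg χ :=
      Nat.ordProj_mul_ordCompl_eq_self _ p
    have hd'cop : ¬ p ∣ d' := Nat.not_dvd_ordCompl hp (Cfsg.Agent.Helper24.irrDeg_pos χ).ne'
    have h2 : (d' : ℂ) = (p : ℂ) * (z : ℂ) := by
      have hpa : ((p ^ a : ℕ) : ℂ) ≠ 0 := by exact_mod_cast (pow_pos hp.pos a).ne'
      have hpν : ((p ^ (ν + 1) : ℕ) : ℂ) ≠ 0 := by exact_mod_cast (pow_pos hp.pos (ν + 1)).ne'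
      rw [← hd] at hz
      push_cast at hz hpa hpν ⊢
      field_simp at hz
      have hpν' : (p : ℂ) ^ ν ≠ 0 := pow_ne_zero _ hp0
      apply mul_left_cancel₀ hpν'
      rw [hz]; ring
    have h3 : (d' : ℤ) = (p : ℤ) * z := by exact_mod_cast h2
    apply hd'cop
    have : (p : ℤ) ∣ (d' : ℤ) := ⟨z, h3⟩
    exact_mod_cast this

end Cfsg.Agent.S4425
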