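import Cfsg.Statements.S5080
import Cfsg.Agent.Helper25.StronglyEmb
import Cfsg.Agent.Helper25.FusionAut

set_option autoImplicit false
open Cfsg

namespace Cfsg.Agent.S5080

open Cfsg.Agent.Helper25 Cfsg.FusionSystem

theorem inn_le_autGroup {Ω : Type*} [Group Ω] {S : Subgroup Ω} (F : Cfsg.FusionSystem S)
    {P : Subgroup Ω} (hP : P ≤ S) : Inn P ≤ F.autGroup P := by
  rintro _ ⟨x, rfl⟩
  rw [mem_autGroup_iff F hP]
  exact F.conj_mem hP (hP x.2)

theorem inn_isPGroup {Ω : Type*} [Group Ω] {S : Subgroup Ω} {p : ℕ} (hS : IsPGroup p S)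
    {P : Subgroup Ω} (hP : P ≤ S) : IsPGroup p (Inn P) := by
  have hPp : IsPGroup p P := hS.of_injective (Subgroup.inclusion hP) (Subgroup.inclusion_injective _)
  exact hPp.of_surjective (MulAut.conj : P →* MulAut P).rangeRestrict
    (MonoidHom.rangeRestrict_surjective _)

/-- In a saturated fusion system over a finite p-group, every essential subgroup is radical (it is centric and fully normalized by definition, so it is centric-radical and fully normalized). -/
theorem result {Ω : Type*} [Group Ω] {S : Subgroup Ω} [Finite S] (p : ℕ) [Fact p.Prime] (hS : IsPGroup p S) (F : Cfsg.FusionSystem S) (hF : F.IsSaturated p) (P : Subgroup Ω) (hP : F.IsEssential p P) : F.IsRadical p P := by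
  obtain ⟨hcen, -, hnorm, E, hE⟩ := hP
  have hPS : P ≤ S := hcen.1
  refine ⟨hPS, ?_⟩
  set A := F.autGroup P with hA
  set I := (Inn P).subgroupOf A with hI
  have hIp : IsPGroup p I := (inn_isPGroup hS hPS).comap_subtype
  apply le_antisymm
  · -- O_p(A) ≤ Inn P
    have hle : pCore p A ≤ I := by
      apply sSup_le
      rintro N ⟨hNn, hNp⟩
      have hsurj : Function.Surjective (QuotientGroup.mk' I) := QuotientGroup.mk'_surjective I
      have hNbar_n : (N.map (QuotientGroup.mk' I)).Normal := hNn.map _ hsurj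
      have hNbar_p : IsPGroup p (N.map (QuotientGroup.mk' I)) := hNp.map _
      have hbot := normal_pSubgroup_eq_bot_of_stronglyPEmbedded p hE (N.map (QuotientGroup.mk' I)) hNbar_p
      intro x hx
      have hx1 : QuotientGroup.mk' I x ∈ N.map (QuotientGroup.mk' I) := ⟨x, hx, rfl⟩
      rw [hbot, Subgroup.mem_bot] at hx1
      exact (QuotientGroup.eq_one_iff x).mp hx1
    rintro _ ⟨x, hx, rfl⟩
    exact hle hx
  · intro y hy
    have hyA : y ∈ A := inn_le_autGroup F hPS hy
    refine ⟨⟨y, hyA⟩, ?_, rfl⟩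
    have : I ≤ pCore p A := le_sSup ⟨hnorm, hIp⟩
    exact this hy

end Cfsg.Agent.S5080
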