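import Cfsg.Statements.S5078
import Cfsg.Agent.Helper25.FusionBasic

set_option autoImplicit false
open Cfsg

namespace Cfsg.Agent.S5078

open Cfsg.Agent.Helper25 Cfsg.FusionSystem

/-- In any fusion system over a finite subgroup S, a receptive subgroup is fully centralized. -/
theorem result {Ω : Type*} [Group Ω] {S : Subgroup Ω} [Finite S] (F : Cfsg.FusionSystem S) (P : Subgroup Ω) (hP : F.IsReceptive P) : F.IsFullyCentralized P := by
  refine ⟨hP.1, ?_⟩
  rintro Q ⟨φ, hφ, rfl⟩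
  obtain ⟨χ, hχ, hχinv⟩ := F.inv_mem hφ
  have hχrange : χ.range = P := by
    ext y
    constructor
    · rintro ⟨⟨_, x, rfl⟩, rfl⟩
      rw [hχinv x]
      exact x.2
    · intro hy
      exact ⟨⟨φ ⟨y, hy⟩, ⟨⟨y, hy⟩, rfl⟩⟩, hχinv ⟨y, hy⟩⟩
  obtain ⟨ψ, hψ, hψext⟩ := hP.2 φ.range χ hχ hχrange
  have hQS : φ.range ≤ S := (F.le_of_mem hχ).1
  have hχS : ∀ x, χ x ∈ S := (F.le_of_mem hχ).2
  -- Q ≤ N_χ
  have hQN : φ.range ≤ extender S φ.range χ := by
    intro g hg
    apply Subgroup.subset_closure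
    refine ⟨hQS hg, Subgroup.le_normalizer hg, χ ⟨g, hg⟩, hχS _, ?_⟩
    intro x hx
    have : (⟨g * (x : Ω) * g⁻¹, hx⟩ : φ.range) = ⟨g, hg⟩ * x * ⟨g, hg⟩⁻¹ := by
      apply Subtype.ext
      simp
    rw [this, map_mul, map_mul, map_inv]
  -- C_S(Q) ≤ N_χ
  have hCN : centralizerIn S φ.range ≤ extender S φ.range χ := by
    intro g hg
    apply Subgroup.subset_closure
    have hgC : g ∈ Subgroup.centralizer (φ.range : Set Ω) := hg.2
    refine ⟨hg.1, ?_, 1, S.one_mem, ?_⟩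
    · exact Subgroup.centralizer_le_normalizer _ hgC
    · intro x hx
      have : (⟨g * (x : Ω) * g⁻¹, hx⟩ : φ.range) = x := by
        apply Subtype.ext
        show g * (x : Ω) * g⁻¹ = x
        have := hgC (x : Ω) x.2
        rw [← this, mul_inv_cancel_right]
      rw [this]
      simp
  have hψinj : Function.Injective ψ := F.injective_of_mem hψ
  have hψS : ∀ x, ψ x ∈ S := (F.le_of_mem hψ).2
  have hmem : ∀ c : centralizerIn S φ.range, ψ ⟨c, hCN c.2⟩ ∈ centralizerIn S P := by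
    intro c
    refine ⟨hψS _, ?_⟩
    intro y hy
    have hy' : y ∈ χ.range := hχrange.symm ▸ hy
    obtain ⟨q, rfl⟩ := hy'
    have hq := hψext (q : Ω) q.2 (hQN q.2)
    have hcq : (q : Ω) * (c : Ω) = (c : Ω) * (q : Ω) := c.2.2 (q : Ω) q.2
    have h1 : (⟨(q : Ω), hQN q.2⟩ : extender S φ.range χ) * ⟨c, hCN c.2⟩ =
        ⟨c, hCN c.2⟩ * ⟨(q : Ω), hQN q.2⟩ := Subtype.ext hcq
    have h2 := congrArg ψ h1
    rw [map_mul, map_mul, hq] at h2
    exact h2
  let f : centralizerIn S φ.range → centralizerIn S P := fun c => ⟨ψ ⟨c, hCN c.2⟩, hmem c⟩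
  have hf : Function.Injective f := by
    intro c d hcd
    have h1 : ψ ⟨c, hCN c.2⟩ = ψ ⟨d, hCN d.2⟩ := congrArg Subtype.val hcd
    have h2 := hψinj h1
    exact Subtype.ext (congrArg (fun z : extender S φ.range χ => (z : Ω)) h2)
  have hfin : Finite (centralizerIn S P) :=
    Finite.of_injective (Subgroup.inclusion (inf_le_left : centralizerIn S P ≤ S))
      (Subgroup.inclusion_injective _)
  exact Nat.card_le_card_of_injective f hf

end Cfsg.Agent.S5078
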