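import Cfsg.Statements.S5079
import Cfsg.Agent.Helper25.FusionAut
import Cfsg.Agent.Helper25.FusionGroup2

set_option autoImplicit false
open Cfsg

namespace Cfsg.Agent.S5079

open Cfsg.Agent.Helper25 Cfsg.FusionSystem

/-- In any fusion system over a finite p-group S: if P is fully automized and receptive and Q is conjugate to P in the system, then there is a map of the system with source N_S(Q) and values in N_S(P) carrying Q onto P. -/
theorem result {Ω : Type*} [Group Ω] {S : Subgroup Ω} [Finite S] (p : ℕ) [Fact p.Prime] (hS : IsPGroup p S) (F : Cfsg.FusionSystem S) (P Q : Subgroup Ω) (h₁ : F.IsFullyAutomized p P) (h₂ : F.IsReceptive P) (hQ : F.IsConj Q P) : ∃ φ ∈ F.Hom (Cfsg.FusionSystem.normalizerIn S Q), (∀ x, φ x ∈ Cfsg.FusionSystem.normalizerIn S P) ∧ (Q.subgroupOf (Cfsg.FusionSystem.normalizerIn S Q)).map φ = P := by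
  obtain ⟨ψ, hψ, hr⟩ := hQ
  have hQS : Q ≤ S := (F.le_of_mem hψ).1
  have hPS : P ≤ S := h₁.1
  have hfinP : Finite P := Finite.of_injective (Subgroup.inclusion hPS) (Subgroup.inclusion_injective _)
  have hfinQ : Finite Q := Finite.of_injective (Subgroup.inclusion hQS) (Subgroup.inclusion_injective _)
  set e := isoOfHom ψ (F.injective_of_mem hψ) hr with he
  obtain ⟨-, R, hR⟩ := h₁
  -- the image of Aut_S(Q) in Aut_F(P)
  let T : Subgroup (MulAut P) := (autInducedBy S Q).map (MulAut.congr e).toMonoidHom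
  have hAutSQ_le : autInducedBy S Q ≤ F.autGroup Q := by
    rw [autInducedBy_eq_map]
    rintro _ ⟨n, hn, rfl⟩
    rw [mem_autGroup_iff F hQS]
    have hnS : (n : Ω) ∈ S := hn
    have := F.conj_mem hQS hnS
    exact this
  have hTle : T ≤ F.autGroup P := by
    rintro _ ⟨α, hα, rfl⟩
    exact congr_mem_autGroup F hψ hr (hAutSQ_le hα)
  have hAutSQ_p : IsPGroup p (autInducedBy S Q) := by
    rw [autInducedBy_eq_map]
    have h1 : IsPGroup p (S.subgroupOf (Subgroup.normalizer (Q : Set Ω))) := hS.comap_subtype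
    exact h1.map _
  have hTp : IsPGroup p T := hAutSQ_p.map _
  have hT' : IsPGroup p (T.subgroupOf (F.autGroup P)) :=
    hTp.of_equiv (Subgroup.subgroupOfEquivOfLe hTle).symm
  obtain ⟨β, hβ⟩ := exists_conj_le_sylow p R hT'
  have hβmem : autHom (β : MulAut P) ∈ F.Hom P := (mem_autGroup_iff F hPS _).mp β.2
  let φ : Q →* Ω := (autHom (β : MulAut P)).comp e.toMonoidHom
  have hφ : φ ∈ F.Hom Q := by
    refine comp_mem' F hψ hβmem (fun x => (e x).2) (fun x => ?_)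
    rfl
  have hφr : φ.range = P := by
    ext y
    constructor
    · rintro ⟨x, rfl⟩
      exact ((β : MulAut P) (e x)).2
    · intro hy
      refine ⟨e.symm ((β : MulAut P).symm ⟨y, hy⟩), ?_⟩
      show (((β : MulAut P) (e (e.symm ((β : MulAut P).symm ⟨y, hy⟩))) : P) : Ω) = y
      rw [MulEquiv.apply_symm_apply, MulEquiv.apply_symm_apply]
  have hNext : normalizerIn S Q ≤ extender S Q φ := by
    intro g hg
    apply Subgroup.subset_closure
    refine ⟨hg.1, hg.2, ?_⟩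
    let cg : MulAut Q := Q.normalizerMonoidHom ⟨g, hg.2⟩
    have hcg : cg ∈ autInducedBy S Q := by
      rw [autInducedBy_eq_map]
      exact ⟨⟨g, hg.2⟩, hg.1, rfl⟩
    have hcgT : MulAut.congr e cg ∈ T := ⟨cg, hcg, rfl⟩
    have h3 : (MulAut.conj β).toMonoidHom (⟨MulAut.congr e cg, hTle hcgT⟩ : F.autGroup P) ∈
        (R : Subgroup (F.autGroup P)) := hβ ⟨⟨_, hTle hcgT⟩, hcgT, rfl⟩
    rw [hR] at h3
    have h4 : (β : MulAut P) * MulAut.congr e cg * (β : MulAut P)⁻¹ ∈ autInducedBy S P := h3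
    rw [autInducedBy_eq_map] at h4
    obtain ⟨n, hn, hnβ⟩ := h4
    have hnS : (n : Ω) ∈ S := hn
    refine ⟨(n : Ω), hnS, ?_⟩
    intro x hx
    have h5 := congrArg (fun γ : MulAut P => ((γ ((β : MulAut P) (e x)) : P) : Ω)) hnβ
    simp only [MulAut.mul_apply, MulAut.inv_apply_self] at h5
    rw [normalizerMonoidHom_coe] at h5
    have h6 : (MulAut.congr e cg) (e x) = e ⟨g * (x : Ω) * g⁻¹, hx⟩ := by
      show e (cg (e.symm (e x))) = _
      rw [MulEquiv.symm_apply_apply]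
      rfl
    rw [h6] at h5
    exact h5.symm
  obtain ⟨χ, hχ, hχext⟩ := h₂.2 Q φ hφ hφr
  have hχS : ∀ x, χ x ∈ S := (F.le_of_mem hχ).2
  have hQN : Q ≤ normalizerIn S Q := le_inf hQS Subgroup.le_normalizer
  -- χ maps Q onto P
  have hχQ : ∀ x : Q, χ ⟨x, hNext (hQN x.2)⟩ = φ x := fun x => hχext x x.2 (hNext (hQN x.2))
  have hmapQ : ∀ y : Ω, y ∈ P ↔ ∃ x : Q, χ ⟨x, hNext (hQN x.2)⟩ = y := by
    intro y
    constructor
    · intro hy
      have hy' : y ∈ φ.range := hφr.symm ▸ hy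
      obtain ⟨x, rfl⟩ := hy'
      exact ⟨x, hχQ x⟩
    · rintro ⟨x, rfl⟩
      rw [hχQ, ← hφr]
      exact ⟨x, rfl⟩
  refine ⟨χ.comp (Subgroup.inclusion hNext), restrict_mem F hNext hχ, ?_, ?_⟩
  · intro n
    refine ⟨hχS _, Subgroup.mem_normalizer_iff.mpr ?_⟩
    intro y
    have hnN : (n : Ω) ∈ Subgroup.normalizer (Q : Set Ω) := n.2.2
    constructor
    · intro hy
      obtain ⟨x, rfl⟩ := (hmapQ y).mp hy
      rw [hmapQ]
      have hx' : (n : Ω) * x * (n : Ω)⁻¹ ∈ Q := (Subgroup.mem_normalizer_iff.mp hnN _).mp x.2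
      refine ⟨⟨_, hx'⟩, ?_⟩
      show χ ⟨(n : Ω) * x * (n : Ω)⁻¹, _⟩ = χ (Subgroup.inclusion hNext n) * χ ⟨x, _⟩ * (χ (Subgroup.inclusion hNext n))⁻¹
      rw [← map_inv, ← map_mul, ← map_mul]
      rfl
    · intro hy
      obtain ⟨x', hx'⟩ := (hmapQ _).mp hy
      have hx'' : (n : Ω)⁻¹ * x' * (n : Ω)⁻¹⁻¹ ∈ Q :=
        (Subgroup.mem_normalizer_iff.mp (Subgroup.inv_mem _ hnN) _).mp x'.2
      rw [hmapQ]
      refine ⟨⟨_, hx''⟩, ?_⟩
      have e1 : (⟨(n : Ω)⁻¹ * x' * (n : Ω)⁻¹⁻¹, hNext (hQN hx'')⟩ : extender S Q φ) =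
          (Subgroup.inclusion hNext n)⁻¹ * ⟨x', hNext (hQN x'.2)⟩ * (Subgroup.inclusion hNext n)⁻¹⁻¹ := by
        apply Subtype.ext
        rfl
      rw [e1, map_mul, map_mul, map_inv, map_inv, map_inv, hx']
      simp only [MonoidHom.comp_apply]
      group
  · ext y
    rw [hmapQ]
    constructor
    · rintro ⟨x, hx, rfl⟩
      exact ⟨⟨x, hx⟩, rfl⟩
    · rintro ⟨x, rfl⟩
      exact ⟨⟨x, hQN x.2⟩, x.2, rfl⟩

end Cfsg.Agent.S5079
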