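import Cfsg.Statements.S5077
import Cfsg.Agent.Helper25.FusionSat
import Cfsg.Agent.S5078
import Cfsg.Agent.S5079

set_option autoImplicit false
open Cfsg

namespace Cfsg.Agent.S5077

open Cfsg.Agent.Helper25 Cfsg.FusionSystem

/-- In a saturated system: fully normalized implies fully centralized and fully automized. -/
theorem sylow_axiom {Ω : Type*} [Group Ω] {S : Subgroup Ω} [Finite S] (p : ℕ) [Fact p.Prime]
    (hS : IsPGroup p S) (F : Cfsg.FusionSystem S) (hF : F.IsSaturated p) (P : Subgroup Ω)
    (hP : F.IsFullyNormalized P) : F.IsFullyCentralized P ∧ F.IsFullyAutomized p P := by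
  obtain ⟨P', hconj, hFA, hRec⟩ := hF P hP.1
  obtain ⟨φ, hφ, hφN, hφQ⟩ := Cfsg.Agent.S5079.result p hS F P' P hFA hRec hconj
  exact centralized_automized_of_normalized F p hFA (Cfsg.Agent.S5078.result F P' hRec) hconj hP
    φ hφ hφN hφQ

/-- In a saturated system: fully centralized implies receptive. -/
theorem extension_axiom {Ω : Type*} [Group Ω] {S : Subgroup Ω} [Finite S] (p : ℕ) [Fact p.Prime]
    (hS : IsPGroup p S) (F : Cfsg.FusionSystem S) (hF : F.IsSaturated p) (P : Subgroup Ω)
    (hP : F.IsFullyCentralized P) : F.IsReceptive P := by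
  obtain ⟨P', hconj, hFA, hRec⟩ := hF P hP.1
  obtain ⟨φ, hφ, hφN, hφQ⟩ := Cfsg.Agent.S5079.result p hS F P' P hFA hRec hconj
  exact receptive_of_card_centralizer_le F hRec φ hφ hφQ hP.1 (hP.2 P' hconj)

/-- A fusion system over a finite p-group S is saturated if and only if (Sylow axiom) every fully normalized subgroup is fully centralized and fully automized, and (extension axiom) every fully centralized subgroup is receptive. -/
theorem result {Ω : Type*} [Group Ω] {S : Subgroup Ω} [Finite S] (p : ℕ) [Fact p.Prime] (hS : IsPGroup p S) (F : Cfsg.FusionSystem S) : F.IsSaturated p ↔ ((∀ P : Subgroup Ω, F.IsFullyNormalized P → F.IsFullyCentralized P ∧ F.IsFullyAutomized p P) ∧ (∀ P : Subgroup Ω, F.IsFullyCentralized P → F.IsReceptive P)) := by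
  constructor
  · intro hF
    exact ⟨fun P hP => sylow_axiom p hS F hF P hP, fun P hP => extension_axiom p hS F hF P hP⟩
  · rintro ⟨h1, h2⟩ P hP
    obtain ⟨Q, hQ, hFN⟩ := exists_isConj_fullyNormalized F hP
    obtain ⟨hFC, hFA⟩ := h1 Q hFN
    exact ⟨Q, hQ, hFA, h2 Q hFC⟩

end Cfsg.Agent.S5077
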