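import Cfsg.Statements.S5104
import Cfsg.Agent.S5077

set_option autoImplicit false
open Cfsg

namespace Cfsg.Agent.S5104

open Cfsg.Agent.Helper25 Cfsg.FusionSystem

theorem centralizerIn_le_extender {Ω : Type*} [Group Ω] {S : Subgroup Ω} (Q : Subgroup Ω)
    (ψ : Q →* Ω) : centralizerIn S Q ≤ extender S Q ψ := by
  intro g hg
  apply Subgroup.subset_closure
  have hgC : g ∈ Subgroup.centralizer (Q : Set Ω) := hg.2
  refine ⟨hg.1, Subgroup.centralizer_le_normalizer _ hgC, 1, S.one_mem, ?_⟩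
  intro x hx
  have : (⟨g * (x : Ω) * g⁻¹, hx⟩ : Q) = x := by
    apply Subtype.ext
    show g * (x : Ω) * g⁻¹ = x
    have := hgC (x : Ω) x.2
    rw [← this, mul_inv_cancel_right]
  rw [this]
  simp

/-- In a saturated fusion system over a finite p-group S, a fully centralized subgroup U with C_S(U) ≤ U is centric. -/
theorem result {Ω : Type*} [Group Ω] {S : Subgroup Ω} [Finite S] (p : ℕ) [Fact p.Prime] (hS : IsPGroup p S) (F : Cfsg.FusionSystem S) (hF : F.IsSaturated p) (U : Subgroup Ω) (hU : F.IsFullyCentralized U) (hC : Cfsg.FusionSystem.centralizerIn S U ≤ U) : F.IsCentric U := by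
  refine ⟨hU.1, ?_⟩
  intro Q hUQ
  have hrec : F.IsReceptive U := Cfsg.Agent.S5077.extension_axiom p hS F hF U hU
  obtain ⟨ψ, hψ, hψr⟩ := isConj_symm F hUQ
  have hQS : Q ≤ S := (F.le_of_mem hψ).1
  have hψS : ∀ x, ψ x ∈ S := (F.le_of_mem hψ).2
  obtain ⟨χ, hχ, hχext⟩ := hrec.2 Q ψ hψ hψr
  have hχinj := F.injective_of_mem hχ
  have hχS : ∀ x, χ x ∈ S := (F.le_of_mem hχ).2
  have hQN : Q ≤ extender S Q ψ := le_extender hQS ψ hψS
  have hCN : centralizerIn S Q ≤ extender S Q ψ := centralizerIn_le_extender Q ψ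
  intro c hc
  -- χ c centralizes U
  have hχc : χ ⟨c, hCN hc⟩ ∈ centralizerIn S U := by
    refine ⟨hχS _, Subgroup.mem_centralizer_iff.mpr ?_⟩
    intro y hy
    have hy' : y ∈ ψ.range := hψr.symm ▸ hy
    obtain ⟨q, rfl⟩ := hy'
    have hq := hχext (q : Ω) q.2 (hQN q.2)
    have hcq : (q : Ω) * c = c * (q : Ω) := (Subgroup.mem_centralizer_iff.mp hc.2) q q.2
    have h1 : (⟨(q : Ω), hQN q.2⟩ : extender S Q ψ) * ⟨c, hCN hc⟩ =
        ⟨c, hCN hc⟩ * ⟨(q : Ω), hQN q.2⟩ := Subtype.ext hcq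
    have h2 := congrArg χ h1
    rw [map_mul, map_mul, hq] at h2
    exact h2
  have h3 : χ ⟨c, hCN hc⟩ ∈ ψ.range := hψr.symm ▸ hC hχc
  obtain ⟨q, hq⟩ := h3
  have hq' := hχext (q : Ω) q.2 (hQN q.2)
  have h4 : χ ⟨(q : Ω), hQN q.2⟩ = χ ⟨c, hCN hc⟩ := hq'.trans hq
  have h5 := hχinj h4
  have h6 : (q : Ω) = c := congrArg (fun z : extender S Q ψ => (z : Ω)) h5
  rw [← h6]
  exact q.2

end Cfsg.Agent.S5104
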