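import Cfsg.Statements.S5123
import Cfsg.Agent.Helper25.FusionGroup2

set_option autoImplicit false
open Cfsg

namespace Cfsg.Agent.S5123

open Cfsg.Agent.Helper25 Cfsg.FusionSystem

open scoped Pointwise in
theorem ext_lemma {G : Type*} [Group G] [Finite G] (p : ℕ) [Fact p.Prime] (S : Sylow p G)
    (Q : Subgroup G)
    (hN : Nat.card ↥((S : Subgroup G) ⊓ Subgroup.normalizer (Q : Set G)) =
      pPart p (Nat.card (Subgroup.normalizer (Q : Set G))))
    (Y : Subgroup G) (hYp : IsPGroup p Y)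
    (hY : Y ≤ normalizerIn (S : Subgroup G) Q ⊔ Subgroup.centralizer (Q : Set G)) :
    ∃ c ∈ Subgroup.centralizer (Q : Set G), cj Y c ≤ (S : Subgroup G) := by
  set A := normalizerIn (S : Subgroup G) Q with hA
  set C := Subgroup.centralizer (Q : Set G) with hC
  set M := A ⊔ C with hM
  have hAN : A ≤ Subgroup.normalizer (Q : Set G) := inf_le_right
  have hCN : C ≤ Subgroup.normalizer (Q : Set G) := Subgroup.centralizer_le_normalizer _
  have hMN : M ≤ Subgroup.normalizer (Q : Set G) := sup_le hAN hCN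
  have hAM : A ≤ M := le_sup_left
  have hAp : IsPGroup p A := isPGroup_of_le S.2 inf_le_left
  -- A is a Sylow p-subgroup of M
  have hcardA : Nat.card ↥(A ⊓ M) = pPart p (Nat.card M) := by
    have e : A ⊓ M = A := inf_of_le_left hAM
    rw [e]
    apply le_antisymm (card_le_pPart_of_isPGroup p hAp hAM)
    have h1 : Nat.card A = pPart p (Nat.card (Subgroup.normalizer (Q : Set G))) := hN
    rw [h1]
    have hdvd : Nat.card M ∣ Nat.card (Subgroup.normalizer (Q : Set G)) :=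
      Subgroup.card_dvd_of_le hMN
    unfold pPart
    have hp : p.Prime := Fact.out
    apply Nat.pow_le_pow_right hp.pos
    exact (Nat.factorization_le_iff_dvd Nat.card_pos.ne' Nat.card_pos.ne').mpr hdvd p
  obtain ⟨R, hR⟩ := (isSylowIn_iff_card p A M).mpr hcardA
  have hYM : IsPGroup p (Y.subgroupOf M) := hYp.of_equiv (Subgroup.subgroupOfEquivOfLe hY).symm
  obtain ⟨m, hm⟩ := exists_conj_le_sylow p R hYM
  -- decompose m = a * c
  have hAnC : A ≤ Subgroup.normalizer (C : Set G) := by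
    intro n hn
    have hnQ := hAN hn
    have h1 : cj C n = C := by
      rw [hC, ← centralizer_cj, cj_eq_of_mem_normalizer hnQ]
    rw [Subgroup.mem_normalizer_iff]
    intro h
    constructor
    · intro hh
      rw [← h1]
      exact conj_mem_cj hh
    · intro hh
      rw [← h1, mem_cj] at hh
      have e : n⁻¹ * (n * h * n⁻¹) * n = h := by group
      rw [e] at hh
      exact hh
  have hmem : (m : G) ∈ ((A ⊔ C : Subgroup G) : Set G) := m.2
  rw [Subgroup.coe_mul_of_left_le_normalizer_right A C hAnC] at hmem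
  obtain ⟨a, ha, c, hc, hac⟩ := hmem
  refine ⟨c, hc, ?_⟩
  rintro _ ⟨y, hy, rfl⟩
  have hyM : y ∈ M := hY hy
  have h3 : (MulAut.conj m).toMonoidHom (⟨y, hyM⟩ : M) ∈ (R : Subgroup M) :=
    hm ⟨⟨y, hyM⟩, hy, rfl⟩
  rw [hR] at h3
  have h4 : (m : G) * y * (m : G)⁻¹ ∈ A := h3
  rw [← hac] at h4
  have h5 : a⁻¹ * (a * c * y * (a * c)⁻¹) * a ∈ A :=
    A.mul_mem (A.mul_mem (A.inv_mem ha) h4) ha
  have e : a⁻¹ * (a * c * y * (a * c)⁻¹) * a = c * y * c⁻¹ := by group
  rw [e] at h5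
  exact h5.1

/-- Let G be a finite group with Sylow p-subgroup S, P, Q ≤ S and g ∈ G with gPg⁻¹ = Q, and suppose N_S(Q) is a Sylow p-subgroup of N_G(Q). Let N be the set of x ∈ N_S(P) with gxg⁻¹ ∈ N_S(Q)C_G(Q). Then some h ∈ C_G(Q) satisfies (hg)N(hg)⁻¹ ≤ S. -/
theorem result {G : Type*} [Group G] [Finite G] (p : ℕ) [Fact p.Prime] (S : Sylow p G) (P Q : Subgroup G) (hP : P ≤ S) (hQ : Q ≤ S) (g : G) (hg : P.map (MulAut.conj g).toMonoidHom = Q) (hN : (∃ R : Sylow p ↥(Subgroup.normalizer (Q : Set G)), (R : Subgroup ↥(Subgroup.normalizer (Q : Set G))) = (Cfsg.FusionSystem.normalizerIn (S : Subgroup G) Q).subgroupOf (Subgroup.normalizer (Q : Set G)))) : ∃ h ∈ Subgroup.centralizer (Q : Set G), ((Cfsg.FusionSystem.normalizerIn (S : Subgroup G) P) ⊓ (Cfsg.FusionSystem.normalizerIn (S : Subgroup G) Q ⊔ Subgroup.centralizer (Q : Set G)).comap (MulAut.conj g).toMonoidHom).map (MulAut.conj (h * g)).toMonoidHom ≤ S := by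
  have hN' := (isSylowIn_normalizerIn_iff p (S : Subgroup G) Q).mp hN
  set X := (normalizerIn (S : Subgroup G) P) ⊓
    (normalizerIn (S : Subgroup G) Q ⊔ Subgroup.centralizer (Q : Set G)).comap (MulAut.conj g).toMonoidHom with hX
  have hXp : IsPGroup p X := isPGroup_of_le S.2 (inf_le_left.trans inf_le_left)
  have hYp : IsPGroup p (cj X g) := hXp.map _
  have hY : cj X g ≤ normalizerIn (S : Subgroup G) Q ⊔ Subgroup.centralizer (Q : Set G) := by
    rintro _ ⟨x, hx, rfl⟩
    exact hx.2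
  obtain ⟨c, hc, hcS⟩ := ext_lemma p S Q hN' (cj X g) hYp hY
  refine ⟨c, hc, ?_⟩
  rintro _ ⟨x, hx, rfl⟩
  have h1 : (MulAut.conj c).toMonoidHom ((MulAut.conj g).toMonoidHom x) ∈ (S : Subgroup G) :=
    hcS ⟨_, ⟨x, hx, rfl⟩, rfl⟩
  have e : (MulAut.conj (c * g)).toMonoidHom x =
      (MulAut.conj c).toMonoidHom ((MulAut.conj g).toMonoidHom x) := by
    simp [MulAut.conj_apply, mul_assoc]
  rw [e]
  exact h1

end Cfsg.Agent.S5123
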