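import Cfsg.Statements.S5076
import Cfsg.Agent.Helper25.FusionGroup2
import Cfsg.Agent.S5123

set_option autoImplicit false
open Cfsg

namespace Cfsg.Agent.S5076

open Cfsg.Agent.Helper25 Cfsg.FusionSystem

theorem autGroup_groupFusion {G : Type*} [Group G] (S Q : Subgroup G) (hQ : Q ≤ S) :
    (groupFusionSystem S).autGroup Q = autInducedBy ⊤ Q := by
  unfold FusionSystem.autGroup autInducedBy
  congr 1
  ext α
  constructor
  · rintro ⟨-, -, g, hg⟩
    exact ⟨g, Subgroup.mem_top _, fun x => hg x⟩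
  · rintro ⟨g, -, hg⟩
    exact ⟨hQ, fun x => hQ (α x).2, g, fun x => hg x⟩

/-- The fusion system of a finite group on a Sylow p-subgroup is saturated: every subgroup of the Sylow subgroup is conjugate in the system to one that is fully automized and receptive. -/
theorem result {G : Type*} [Group G] [Finite G] (p : ℕ) [Fact p.Prime] (S : Sylow p G) : (Cfsg.groupFusionSystem (S : Subgroup G)).IsSaturated p := by
  intro P hP
  obtain ⟨g, hQS, hcard⟩ := exists_cj_sylow_normalizer p S P hP
  set Q := cj P g with hQdef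
  have hNsyl := (isSylowIn_normalizerIn_iff p (S : Subgroup G) Q).mpr hcard
  refine ⟨Q, groupFusion_isConj_cj g hP hQS, ⟨hQS, ?_⟩, ⟨hQS, ?_⟩⟩
  · -- fully automized
    rw [autGroup_groupFusion (S : Subgroup G) Q hQS]
    obtain ⟨R, hR⟩ := hNsyl
    rw [normalizerIn_subgroupOf] at hR
    exact autInducedBy_sylow p (S : Subgroup G) Q R hR
  · -- receptive
    rintro P' φ ⟨hP'S, hφS, k, hk⟩ hrange
    -- Q = k P' k⁻¹
    have hQk : Q = cj P' k := by
      rw [← hrange]
      ext y
      constructor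
      · rintro ⟨x, rfl⟩
        exact ⟨x, x.2, (hk x).symm⟩
      · rintro ⟨x, hx, rfl⟩
        exact ⟨⟨x, hx⟩, hk ⟨x, hx⟩⟩
    set X := (normalizerIn (S : Subgroup G) P') ⊓
      (normalizerIn (S : Subgroup G) Q ⊔ Subgroup.centralizer (Q : Set G)).comap
        (MulAut.conj k).toMonoidHom with hX
    have hext : extender (S : Subgroup G) P' φ ≤ X := by
      unfold extender
      rw [Subgroup.closure_le]
      rintro n ⟨hnS, hnN, h, hhS, hh⟩
      refine ⟨⟨hnS, hnN⟩, ?_⟩
      show k * n * k⁻¹ ∈ normalizerIn (S : Subgroup G) Q ⊔ Subgroup.centralizer (Q : Set G)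
      -- the key relation
      have hrel : ∀ x : G, x ∈ P' → k * (n * x * n⁻¹) * k⁻¹ = h * (k * x * k⁻¹) * h⁻¹ := by
        intro x hx
        have hx' : n * x * n⁻¹ ∈ P' := (Subgroup.mem_normalizer_iff.mp hnN x).mp hx
        have := hh ⟨x, hx⟩ hx'
        rw [hk, hk] at this
        exact this
      -- h normalizes Q
      have hhN : h ∈ Subgroup.normalizer (Q : Set G) := by
        rw [Subgroup.mem_normalizer_iff]
        intro y
        constructor
        · intro hy
          rw [hQk] at hy ⊢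
          obtain ⟨x, hx, rfl⟩ := hy
          have hx' : n * x * n⁻¹ ∈ P' := (Subgroup.mem_normalizer_iff.mp hnN x).mp hx
          have := hrel x hx
          show h * (k * x * k⁻¹) * h⁻¹ ∈ cj P' k
          rw [← this]
          exact conj_mem_cj hx'
        · intro hy
          rw [hQk] at hy ⊢
          obtain ⟨x', hx', hxy⟩ := hy
          have hx'' : n⁻¹ * x' * n⁻¹⁻¹ ∈ P' :=
            (Subgroup.mem_normalizer_iff.mp (Subgroup.inv_mem _ hnN) x').mp hx'
          have h1 := hrel _ hx''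
          have e1 : n * (n⁻¹ * x' * n⁻¹⁻¹) * n⁻¹ = x' := by group
          rw [e1] at h1
          have h2 : h * y * h⁻¹ = h * (k * (n⁻¹ * x' * n⁻¹⁻¹) * k⁻¹) * h⁻¹ := by
            rw [← h1]
            exact hxy.symm
          have h3 : y = k * (n⁻¹ * x' * n⁻¹⁻¹) * k⁻¹ := mul_left_cancel (mul_right_cancel h2)
          rw [h3]
          exact conj_mem_cj hx''
      -- h⁻¹ * (k n k⁻¹) centralizes Q
      have hcent : h⁻¹ * (k * n * k⁻¹) ∈ Subgroup.centralizer (Q : Set G) := by
        rw [Subgroup.mem_centralizer_iff]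
        intro y hy
        rw [hQk] at hy
        obtain ⟨x, hx, rfl⟩ := hy
        have := hrel x hx
        show k * x * k⁻¹ * (h⁻¹ * (k * n * k⁻¹)) = h⁻¹ * (k * n * k⁻¹) * (k * x * k⁻¹)
        have e2 : h⁻¹ * (k * n * k⁻¹) * (k * x * k⁻¹) = h⁻¹ * (k * (n * x * n⁻¹) * k⁻¹) * (k * n * k⁻¹) := by
          group
        rw [e2, this]
        group
      have e3 : k * n * k⁻¹ = h * (h⁻¹ * (k * n * k⁻¹)) := by group
      rw [e3]
      exact Subgroup.mul_mem _ (Subgroup.mem_sup_left ⟨hhS, hhN⟩) (Subgroup.mem_sup_right hcent)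
    have hXp : IsPGroup p X := isPGroup_of_le S.2 (inf_le_left.trans inf_le_left)
    have hYp : IsPGroup p (cj X k) := hXp.map _
    have hY : cj X k ≤ normalizerIn (S : Subgroup G) Q ⊔ Subgroup.centralizer (Q : Set G) := by
      rintro _ ⟨x, hx, rfl⟩
      exact hx.2
    obtain ⟨c, hc, hcS⟩ := Cfsg.Agent.S5123.ext_lemma p S Q hcard (cj X k) hYp hY
    have hextS : extender (S : Subgroup G) P' φ ≤ (S : Subgroup G) :=
      hext.trans (inf_le_left.trans inf_le_left)
    refine ⟨conjHom (extender (S : Subgroup G) P' φ) (c * k), ⟨hextS, ?_, c * k, fun x => rfl⟩, ?_⟩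
    · intro x
      have h1 : (MulAut.conj c).toMonoidHom ((MulAut.conj k).toMonoidHom (x : G)) ∈ (S : Subgroup G) :=
        hcS ⟨_, ⟨x, hext x.2, rfl⟩, rfl⟩
      show c * k * (x : G) * (c * k)⁻¹ ∈ (S : Subgroup G)
      have e : c * k * (x : G) * (c * k)⁻¹ =
          (MulAut.conj c).toMonoidHom ((MulAut.conj k).toMonoidHom (x : G)) := by
        simp [MulAut.conj_apply, mul_assoc]
      rw [e]
      exact h1
    · intro x hxP hxN
      show c * k * x * (c * k)⁻¹ = φ ⟨x, hxP⟩
      rw [hk]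
      have hyQ : k * x * k⁻¹ ∈ Q := by
        rw [hQk]
        exact conj_mem_cj hxP
      have := (Subgroup.mem_centralizer_iff.mp hc) _ hyQ
      calc c * k * x * (c * k)⁻¹ = c * (k * x * k⁻¹) * c⁻¹ := by group
        _ = (k * x * k⁻¹) * c * c⁻¹ := by rw [this]
        _ = k * x * k⁻¹ := by group

end Cfsg.Agent.S5076
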