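import Mathlib
import Cfsg.Statements.S0749

set_option autoImplicit false
open Cfsg

namespace Cfsg.Agent.S0749

open LinearMap LinearMap.BilinForm Module

variable {F V : Type*} [Field F] [AddCommGroup V] [Module F V] [FiniteDimensional F V]

theorem finrank_map_of_injOn (g : V →ₗ[F] V) (p : Submodule F V) (h : ∀ x ∈ p, g x = 0 → x = 0) :
    finrank F (p.map g) = finrank F p := by
  rw [← LinearMap.range_domRestrict]
  apply LinearMap.finrank_range_of_inj
  rw [← LinearMap.ker_eq_bot, LinearMap.ker_eq_bot']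
  intro x hx
  ext
  exact h x x.2 (by simpa using hx)

theorem exists_solution (B : LinearMap.BilinForm F V) (hB : B.Nondegenerate) (hA : B.IsAlt)
    (X : Submodule F V) (g : V →ₗ[F] V) (hinj : ∀ x ∈ X, g x = 0 → x = 0) (v : V) :
    ∃ v' : V, ∀ x ∈ X, B (g x) v' = B x v := by
  have hker : LinearMap.ker (g.domRestrict X) = ⊥ := by
    rw [LinearMap.ker_eq_bot']
    intro x hx
    ext
    exact hinj x x.2 (by simpa using hx)
  obtain ⟨h, hh⟩ := LinearMap.exists_leftInverse_of_injective _ hker
  set ψ : V →ₗ[F] F := (B.flip v) ∘ₗ X.subtype ∘ₗ h with hψ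
  set w := (B.toDual hB).symm ψ with hw
  have hw' : ∀ y, B w y = ψ y := by
    intro y
    rw [← toDual_def hB, hw, LinearEquiv.apply_symm_apply]
  refine ⟨-w, ?_⟩
  intro x hx
  have h1 : h (g x) = ⟨x, hx⟩ := by
    have := LinearMap.congr_fun hh ⟨x, hx⟩
    simpa using this
  rw [map_neg, hA.neg_eq, hw', hψ]
  simp [h1]

theorem exists_ext_vec (B : LinearMap.BilinForm F V) (hB : B.Nondegenerate) (hA : B.IsAlt)
    (X : Submodule F V) (g : V →ₗ[F] V)
    (hiso : ∀ x ∈ X, ∀ x' ∈ X, B (g x) (g x') = B x x') (hinj : ∀ x ∈ X, g x = 0 → x = 0)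
    (v : V) (hv : v ∉ X) :
    ∃ v' : V, (∀ x ∈ X, B (g x) v' = B x v) ∧ v' ∉ X.map g := by
  obtain ⟨v0, hv0⟩ := exists_solution B hB hA X g hinj v
  by_cases hcase : B.orthogonal (X.map g) ≤ X.map g
  · -- coisotropic case: v0 itself works
    refine ⟨v0, hv0, ?_⟩
    rintro ⟨x0, hx0, hgx0⟩
    have hmem : v - x0 ∈ B.orthogonal X := by
      rw [mem_orthogonal_iff]
      intro x hx
      rw [map_sub, ← hv0 x hx, ← hgx0, hiso x hx x0 hx0, sub_self]
    have hle : B.orthogonal X ≤ X := by
      have h1 : B.orthogonal (X.map g) ≤ (X ⊓ B.orthogonal X).map g := by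
        intro y hy
        obtain ⟨x, hx, rfl⟩ := hcase hy
        refine ⟨x, ⟨hx, ?_⟩, rfl⟩
        show x ∈ B.orthogonal X
        rw [mem_orthogonal_iff]
        intro x' hx'
        rw [← hiso x' hx' x hx]
        rw [mem_orthogonal_iff] at hy
        exact hy (g x') ⟨x', hx', rfl⟩
      have h2 : finrank F ((X ⊓ B.orthogonal X).map g) = finrank F (X ⊓ B.orthogonal X : Submodule F V) :=
        finrank_map_of_injOn g _ (fun x hx => hinj x hx.1)
      have h3 := Submodule.finrank_mono h1
      have h4 : finrank F (B.orthogonal (X.map g)) = finrank F (B.orthogonal X) := by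
        rw [finrank_orthogonal hB, finrank_orthogonal hB, finrank_map_of_injOn g X hinj]
      have h5 : (X ⊓ B.orthogonal X : Submodule F V) = B.orthogonal X := by
        apply Submodule.eq_of_le_of_finrank_eq inf_le_right
        have := Submodule.finrank_mono (inf_le_right : X ⊓ B.orthogonal X ≤ B.orthogonal X)
        omega
      rw [← h5]
      exact inf_le_left
    apply hv
    have := X.add_mem (hle hmem) hx0
    simpa using this
  · obtain ⟨z, hz, hzY⟩ := SetLike.not_le_iff_exists.mp hcase
    by_cases hv0Y : v0 ∈ X.map g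
    · refine ⟨v0 + z, ?_, ?_⟩
      · intro x hx
        rw [map_add, hv0 x hx]
        rw [mem_orthogonal_iff] at hz
        rw [hz (g x) ⟨x, hx, rfl⟩, add_zero]
      · intro h
        apply hzY
        have := (X.map g).sub_mem h hv0Y
        simpa using this
    · exact ⟨v0, hv0, hv0Y⟩

theorem exists_isometry_ext (B : LinearMap.BilinForm F V) (hB : B.Nondegenerate) (hA : B.IsAlt) :
    ∀ (n : ℕ) (X : Submodule F V) (g : V →ₗ[F] V), finrank F V - finrank F X ≤ n →
      (∀ x ∈ X, ∀ x' ∈ X, B (g x) (g x') = B x x') → (∀ x ∈ X, g x = 0 → x = 0) →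
      ∃ g' : V →ₗ[F] V, (∀ x ∈ X, g' x = g x) ∧ ∀ u w, B (g' u) (g' w) = B u w := by
  intro n
  induction n with
  | zero =>
    intro X g hn hiso hinj
    have hX : X = ⊤ := by
      apply Submodule.eq_top_of_finrank_eq
      have := Submodule.finrank_le X
      omega
    subst hX
    exact ⟨g, fun _ _ => rfl, fun u w => hiso u Submodule.mem_top w Submodule.mem_top⟩
  | succ n ih =>
    intro X g hn hiso hinj
    by_cases hX : X = ⊤
    · subst hX
      exact ⟨g, fun _ _ => rfl, fun u w => hiso u Submodule.mem_top w Submodule.mem_top⟩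
    · obtain ⟨v, -, hv⟩ := SetLike.exists_of_lt (lt_top_iff_ne_top.mpr hX)
      obtain ⟨v', hv', hv'Y⟩ := exists_ext_vec B hB hA X g hiso hinj v hv
      obtain ⟨f, hfv, hfX⟩ := Submodule.exists_dual_map_eq_bot_of_notMem hv inferInstance
      have hfX' : ∀ x ∈ X, f x = 0 := by
        intro x hx
        have : f x ∈ X.map f := ⟨x, hx, rfl⟩
        rw [hfX] at this
        simpa using this
      set l : V →ₗ[F] F := (f v)⁻¹ • f with hl
      have hlv : l v = 1 := by
        simp [hl, inv_mul_cancel₀ hfv]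
      have hlX : ∀ x ∈ X, l x = 0 := by
        intro x hx
        simp [hl, hfX' x hx]
      set g₁ : V →ₗ[F] V := g + l.smulRight (v' - g v) with hg₁
      have hg₁x : ∀ x ∈ X, ∀ a : F, g₁ (x + a • v) = g x + a • v' := by
        intro x hx a
        simp only [hg₁, LinearMap.add_apply, LinearMap.smulRight_apply, map_add, map_smul, hlX x hx,
          hlv, zero_smul, smul_eq_mul, mul_one]
        module
      have hmem : ∀ u ∈ X ⊔ Submodule.span F {v}, ∃ x ∈ X, ∃ a : F, u = x + a • v := by
        intro u hu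
        obtain ⟨x, hx, z, hz, rfl⟩ := Submodule.mem_sup.mp hu
        obtain ⟨a, rfl⟩ := Submodule.mem_span_singleton.mp hz
        exact ⟨x, hx, a, rfl⟩
      have hlt : X < X ⊔ Submodule.span F {v} := by
        apply lt_of_le_of_ne le_sup_left
        intro h
        apply hv
        rw [h]
        exact Submodule.mem_sup_right (Submodule.mem_span_singleton_self v)
      have hfr := Submodule.finrank_lt_finrank_of_lt hlt
      have hfr' := Submodule.finrank_le (X ⊔ Submodule.span F {v})
      have hiso₁ : ∀ u ∈ X ⊔ Submodule.span F {v}, ∀ u' ∈ X ⊔ Submodule.span F {v},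
          B (g₁ u) (g₁ u') = B u u' := by
        intro u hu u' hu'
        obtain ⟨x, hx, a, rfl⟩ := hmem u hu
        obtain ⟨x', hx', a', rfl⟩ := hmem u' hu'
        rw [hg₁x x hx, hg₁x x' hx']
        simp only [map_add, map_smul, LinearMap.add_apply, LinearMap.smul_apply, smul_eq_mul]
        rw [hiso x hx x' hx', hv' x hx, ← hA.neg_eq (g x') v', hv' x' hx', hA.self_eq_zero v',
          hA.self_eq_zero v, ← hA.neg_eq x' v]
      have hinj₁ : ∀ u ∈ X ⊔ Submodule.span F {v}, g₁ u = 0 → u = 0 := by
        intro u hu h0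
        obtain ⟨x, hx, a, rfl⟩ := hmem u hu
        rw [hg₁x x hx] at h0
        have ha : a = 0 := by
          by_contra ha
          apply hv'Y
          refine ⟨-(a⁻¹ • x), X.neg_mem (X.smul_mem _ hx), ?_⟩
          have : a • v' = -g x := by
            rw [eq_neg_iff_add_eq_zero, add_comm]; exact h0
          have hgx : g x = -(a • v') := by rw [this, neg_neg]
          rw [map_neg, map_smul, hgx, smul_neg, neg_neg, smul_smul, inv_mul_cancel₀ ha, one_smul]
        subst ha
        simp only [zero_smul, add_zero] at h0 ⊢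
        exact hinj x hx h0
      obtain ⟨g', hg'1, hg'2⟩ := ih (X ⊔ Submodule.span F {v}) g₁ (by omega) hiso₁ hinj₁
      refine ⟨g', ?_, hg'2⟩
      intro x hx
      rw [hg'1 x (Submodule.mem_sup_left hx)]
      have := hg₁x x hx 0
      simpa using this

/-- Witt's Lemma for alternating forms. If B is a non-degenerate alternating bilinear form on a finite-dimensional vector space V (over any field) and φ is a linear equivalence between subspaces X and Y of V preserving B, then φ extends to a B-preserving linear automorphism of V. -/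
theorem result {F V : Type*} [Field F] [AddCommGroup V] [Module F V] [FiniteDimensional F V] (B : LinearMap.BilinForm F V) (hB : B.Nondegenerate) (hA : B.IsAlt) (X Y : Submodule F V) (φ : X ≃ₗ[F] Y) (hφ : ∀ x x' : X, B (φ x : V) (φ x' : V) = B (x : V) (x' : V)) : ∃ g : V ≃ₗ[F] V, (∀ u v : V, B (g u) (g v) = B u v) ∧ ∀ x : X, g (x : V) = (φ x : V) := by
  obtain ⟨g₀, hg₀⟩ := LinearMap.exists_extend (Y.subtype ∘ₗ φ.toLinearMap)
  have hg₀' : ∀ x : X, g₀ (x : V) = (φ x : V) := by
    intro x
    have := LinearMap.congr_fun hg₀ x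
    simpa using this
  have hiso : ∀ x ∈ X, ∀ x' ∈ X, B (g₀ x) (g₀ x') = B x x' := by
    intro x hx x' hx'
    have := hφ ⟨x, hx⟩ ⟨x', hx'⟩
    rw [hg₀' ⟨x, hx⟩, hg₀' ⟨x', hx'⟩]
    exact this
  have hinj₀ : ∀ x ∈ X, g₀ x = 0 → x = 0 := by
    intro x hx h0
    have h1 := hg₀' ⟨x, hx⟩
    simp only at h1
    rw [h0] at h1
    have h2 : φ ⟨x, hx⟩ = 0 := by
      ext
      exact h1.symm
    have h3 : (⟨x, hx⟩ : X) = 0 := by
      simpa using h2
    simpa using congrArg Subtype.val h3
  obtain ⟨g', hg'1, hg'2⟩ := exists_isometry_ext B hB hA _ X g₀ le_rfl hiso hinj₀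
  have hinj : Function.Injective g' := by
    rw [← LinearMap.ker_eq_bot, LinearMap.ker_eq_bot']
    intro u hu
    apply hB.1
    intro w
    rw [← hg'2 u w, hu]
    simp
  refine ⟨LinearEquiv.ofInjectiveEndo g' hinj, ?_, ?_⟩
  · intro u v
    simp only [LinearEquiv.coe_ofInjectiveEndo]
    exact hg'2 u v
  · intro x
    simp only [LinearEquiv.coe_ofInjectiveEndo]
    rw [hg'1 x x.2, hg₀']

end Cfsg.Agent.S0749
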