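import Mathlib
import Cfsg.Statements.S2169
import Cfsg.Agent.Helper28.Dickson

set_option autoImplicit false
open Cfsg

namespace Cfsg.Agent.S2169

open Module Submodule Matrix Cfsg.Agent.Helper28.QPlus Cfsg.Agent.Helper28.Spin
  Cfsg.Agent.Helper28.Dickson

/-- membership in `Ω` is detected by the parity of `rank (g - 1)` (no involution hypothesis) -/
theorem mem_Omega_iff_even_rank {F : Type*} [Field F] [Fintype F] (h2 : (2 : F) = 0) {m : ℕ}
    (hm : 1 ≤ m) (h : Fintype.card F ≠ 2 ∨ m ≠ 2)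
    (t : ↥(Cfsg.isometryGroup F (Cfsg.quadFormPlus m F))) :
    t ∈ Cfsg.Omega F (Cfsg.quadFormPlus m F) ↔
      Even (((t : GL (Fin m ⊕ Fin m) F) : Matrix (Fin m ⊕ Fin m) (Fin m ⊕ Fin m) F) - 1).rank := by
  obtain ⟨D, hD⟩ := exists_dickson (QfPlus m F) h2 (QfPlus_nondeg m)
  have hDiff : ∀ g : ↥(Cfsg.isometryGroup F ⇑(QfPlus m F)), D g = 1 ↔
      Even (((g : GL (Fin m ⊕ Fin m) F) : Matrix (Fin m ⊕ Fin m) (Fin m ⊕ Fin m) F) - 1).rank := by
    intro g
    rw [hD g, ← zmod2_even]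
    constructor
    · intro h1
      exact Multiplicative.ofAdd.injective h1
    · intro h1
      rw [h1]
      rfl
  constructor
  · intro ht
    exact (hDiff t).1 (hom_eq_one_of_mem_Omega (QfPlus m F) D ht)
  · intro hev
    have hDt : D t = 1 := (hDiff t).2 hev
    by_contra hnot
    have hchi : chi t ≠ 0 := fun h0 => hnot (mem_Omega_of_chi h2 hm h t h0)
    -- a reflection
    obtain ⟨a, ha⟩ : ∃ a : Vm m F, Cfsg.quadFormPlus m F a ≠ 0 := by
      refine ⟨Pi.single (Sum.inl ⟨0, hm⟩) 1 + Pi.single (Sum.inr ⟨0, hm⟩) 1, ?_⟩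
      rw [Q_add, pB_single_inr]
      simp [Cfsg.quadFormPlus, Pi.single_apply]
    have hchi' : chi (refl a ha * t) = 0 := by
      rw [chi_mul, chi_refl]
      have e : ∀ x : ZMod 2, x ≠ 0 → 1 + x = 0 := by decide
      exact e _ hchi
    have hmem := mem_Omega_of_chi h2 hm h _ hchi'
    set r' : ↥(Cfsg.isometryGroup F ⇑(QfPlus m F)) := reflO (QfPlus m F) a ha with hr'
    set t' : ↥(Cfsg.isometryGroup F ⇑(QfPlus m F)) := t with ht'
    have hmem' : r' * t' ∈ Cfsg.Omega F ⇑(QfPlus m F) := by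
      have e : (refl a ha * t : OQ m F) = r' * t' := by rw [refl_eq_reflO]; rfl
      change (r' * t' : OQ m F) ∈ Cfsg.Omega F (Cfsg.quadFormPlus m F)
      rw [← e]
      exact hmem
    have h1 : D (r' * t') = 1 := hom_eq_one_of_mem_Omega (QfPlus m F) D hmem'
    rw [map_mul, hDt, mul_one] at h1
    have h3 := (hDiff _).1 h1
    have h4 : (((r' : GL (Fin m ⊕ Fin m) F) : Matrix (Fin m ⊕ Fin m) (Fin m ⊕ Fin m) F) - 1).rank = 1 :=
      rank_refl_sub_one (QfPlus m F) (QfPlus_nondeg m) a ha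
    rw [h4] at h3
    exact absurd h3 (by decide)

/-- For the hyperbolic quadratic form Σ x_i y_i in dimension 2m over a finite field F of characteristic two, m ≥ 4 (plus type): an element of order 2 of the full isometry group O lies in the commutator subgroup Ω of O exactly when t − 1 has even rank. -/
theorem result {F : Type*} [Field F] [Fintype F] [CharP F 2] {m : ℕ} (hm : 4 ≤ m) (t : ↥(Cfsg.isometryGroup F (Cfsg.quadFormPlus m F))) (ht : orderOf t = 2) :
    t ∈ Cfsg.Omega F (Cfsg.quadFormPlus m F) ↔ Even ((((t : ↥(Cfsg.isometryGroup F (Cfsg.quadFormPlus m F))) : GL (Fin m ⊕ Fin m) F) : Matrix (Fin m ⊕ Fin m) (Fin m ⊕ Fin m) F) - 1).rank := by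
  have h2 : (2 : F) = 0 := by
    have := CharP.cast_eq_zero F 2
    exact_mod_cast this
  exact mem_Omega_iff_even_rank h2 (by omega) (Or.inr (by omega)) t

end Cfsg.Agent.S2169
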