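import Cfsg.Statements.S0292
import Cfsg.Agent.Helper28.POmegaCard
import Cfsg.Agent.S0286
import Cfsg.Agent.S2614

set_option autoImplicit false
open Cfsg

namespace Cfsg.Agent.S0292

open Cfsg.Agent.Helper28.Spin Cfsg.Agent.Helper28.OC Cfsg.Agent.S2614

theorem polar_odd {F : Type*} [Field F] (m : ℕ) (x y : Unit ⊕ (Fin m ⊕ Fin m) → F) :
    QuadraticMap.polar (Cfsg.quadFormOdd m F) x y =
      2 * x (Sum.inl ()) * y (Sum.inl ()) +
        ∑ i : Fin m, (x (Sum.inr (Sum.inl i)) * y (Sum.inr (Sum.inr i)) +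
          y (Sum.inr (Sum.inl i)) * x (Sum.inr (Sum.inr i))) := by
  unfold QuadraticMap.polar Cfsg.quadFormOdd
  have : ∀ i : Fin m, (x + y) (Sum.inr (Sum.inl i)) * (x + y) (Sum.inr (Sum.inr i)) =
      x (Sum.inr (Sum.inl i)) * x (Sum.inr (Sum.inr i)) +
      y (Sum.inr (Sum.inl i)) * y (Sum.inr (Sum.inr i)) +
      (x (Sum.inr (Sum.inl i)) * y (Sum.inr (Sum.inr i)) +
          y (Sum.inr (Sum.inl i)) * x (Sum.inr (Sum.inr i))) := by
    intro i
    simp only [Pi.add_apply]
    ring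
  rw [Finset.sum_congr rfl (fun i _ => this i)]
  simp only [Finset.sum_add_distrib, Pi.add_apply]
  ring

theorem QfOdd_nondeg {F : Type*} [Field F] (h2 : (2 : F) ≠ 0) (m : ℕ) :
    (QuadraticMap.polarBilin (QfOdd m F)).Nondegenerate := by
  classical
  have h : ∀ u : Unit ⊕ (Fin m ⊕ Fin m) → F,
      (∀ v, QuadraticMap.polar (Cfsg.quadFormOdd m F) u v = 0) → u = 0 := by
    intro u hu
    funext s
    rcases s with ⟨⟩ | i | i
    · have := hu (Pi.single (Sum.inl ()) 1)
      rw [polar_odd] at this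
      simp at this
      exact this.resolve_left h2
    · have := hu (Pi.single (Sum.inr (Sum.inr i)) 1)
      rw [polar_odd] at this
      simpa [Pi.single_apply] using this
    · have := hu (Pi.single (Sum.inr (Sum.inl i)) 1)
      rw [polar_odd] at this
      simpa [Pi.single_apply] using this
  constructor
  · intro u hu
    apply h u
    intro v
    have := hu v
    rw [QuadraticMap.polarBilin_apply_apply, QfOdd_coe] at this
    exact this
  · intro v hv
    apply h v
    intro u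
    have := hv u
    rw [QuadraticMap.polarBilin_apply_apply, QfOdd_coe, QuadraticMap.polar_comm] at this
    exact this

/-- 2 |PΩ_{2m+1}(q)| = q^(m^2) prod_{i=1}^m (q^(2i) - 1), q odd, m at least 3 (type B_m). -/
theorem result {F : Type*} [Field F] [Fintype F] {q : ℕ} (hF : Fintype.card F = q) (hodd : Odd q) (m : ℕ) (hm : 3 ≤ m) : 2 * Nat.card (Cfsg.POmega F (Cfsg.quadFormOdd m F)) = q ^ (m ^ 2) * ∏ i ∈ Finset.range m, (q ^ (2 * (i + 1)) - 1) := by
  have h2 : (2 : F) ≠ 0 := by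
    apply Ring.two_ne_zero
    intro h
    rw [FiniteField.even_card_iff_char_two, hF] at h
    rcases hodd with ⟨k, hk⟩
    omega
  have hO := Cfsg.Agent.S0286.result hF hodd m
  have hQ := QfOdd_nondeg h2 (F := F) m
  have hcardι : Fintype.card (Unit ⊕ (Fin m ⊕ Fin m)) = 2 * m + 1 := by
    rw [Fintype.card_sum, Fintype.card_sum, Fintype.card_fin, Fintype.card_unit]; ring
  have h6 : 6 ≤ Fintype.card (Unit ⊕ (Fin m ⊕ Fin m)) := by rw [hcardι]; omega
  have hmul := card_POmega_mul (QfOdd m F)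
  have hidx := index_Omega_odd (QfOdd m F) h2 hQ (by omega)
  have hc := card_center_Omega_eq_one (QfOdd m F) hQ h6 (by
    rintro ⟨-, g, hgΩ, hg⟩
    have h1 := hom_eq_one_of_mem_Omega (QfOdd m F) (detHom (QfOdd m F)) hgΩ
    have h3 : ((detHom (QfOdd m F) g : Fˣ) : F) = 1 := by rw [h1]; rfl
    rw [detHom_val, hg, Matrix.det_neg, Matrix.det_one, hcardι, mul_one] at h3
    have : (-1 : F) ^ (2 * m + 1) = -1 := by
      rw [pow_succ, pow_mul]; simp
    rw [this] at h3
    apply h2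
    linear_combination -h3)
  rw [QfOdd_coe] at hmul hidx hc
  rw [hidx, hc, hO] at hmul
  obtain ⟨X, hX⟩ : ∃ X, X = q ^ (m ^ 2) * ∏ i ∈ Finset.range m, (q ^ (2 * (i + 1)) - 1) := ⟨_, rfl⟩
  have hX2 : 2 * q ^ (m ^ 2) * ∏ i ∈ Finset.range m, (q ^ (2 * (i + 1)) - 1) = 2 * X := by
    rw [hX]; ring
  rw [hX2] at hmul
  rw [← hX]
  omega

end Cfsg.Agent.S0292
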