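import Mathlib
import Cfsg.Statements.S0791
import Cfsg.Agent.Helper28.Spin6

set_option autoImplicit false

namespace Cfsg.Agent.S0791

open Cfsg.Agent.Helper28.Spin

theorem gram0_minus {F : Type*} [Field F] (k : ℕ) (a c : F) :
    gram0 (QfMinus k F a c) = Matrix.fromBlocks
        (Matrix.fromBlocks (0 : Matrix (Fin k) (Fin k) F) (1 : Matrix (Fin k) (Fin k) F)
          (1 : Matrix (Fin k) (Fin k) F) (0 : Matrix (Fin k) (Fin k) F))
        (0 : Matrix (Fin k ⊕ Fin k) (Fin 2) F) (0 : Matrix (Fin 2) (Fin k ⊕ Fin k) F)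
        (!![2, a; a, 2 * c] : Matrix (Fin 2) (Fin 2) F) := by
  ext i j
  rw [gram0, Matrix.of_apply, QfMinus_coe, Cfsg.Agent.S2621.polar_minus]
  simp

theorem result {F : Type*} [Field F] [Fintype F] {q : ℕ} (hF : Fintype.card F = q) (hodd : Odd q) (m : ℕ) (hm : 1 ≤ m) (a b : F) (hab : ∀ z₁ z₂ : F, z₁ ^ 2 + a * z₁ * z₂ + b * z₂ ^ 2 = 0 → z₁ = 0 ∧ z₂ = 0) : (∃ g : ↥(Cfsg.isometryGroup F (Cfsg.quadFormMinus (m - 1) F a b)), g ∈ Cfsg.Omega F (Cfsg.quadFormMinus (m - 1) F a b) ∧ ((g : Matrix.GeneralLinearGroup ((Fin (m - 1) ⊕ Fin (m - 1)) ⊕ Fin 2) F) : Matrix ((Fin (m - 1) ⊕ Fin (m - 1)) ⊕ Fin 2) ((Fin (m - 1) ⊕ Fin (m - 1)) ⊕ Fin 2) F) = -1) ↔ q ^ m % 4 = 3 := by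
  have h2 : (2 : F) ≠ 0 := by
    apply Ring.two_ne_zero
    intro h
    rw [FiniteField.even_card_iff_char_two, hF] at h
    rcases hodd with ⟨k, hk⟩
    omega
  have hδ := Cfsg.Agent.S2621.not_isSquare_disc h2 a b hab
  have hδ0 : a ^ 2 - 4 * b ≠ 0 := by
    intro h
    apply hδ
    rw [h]
    exact ⟨0, by simp⟩
  have hdet : (gram0 (QfMinus (m - 1) F a b)).det ≠ 0 := by
    rw [gram0_minus, Matrix.det_fromBlocks_zero₂₁,
      Cfsg.Agent.Helper13.det_fromBlocks_zero_one_one_zero, Matrix.det_fin_two_of]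
    apply mul_ne_zero (pow_ne_zero _ (by simp))
    intro h
    apply hδ0
    linear_combination -h
  have key := neg_one_mem_Omega_iff_of_det (QfMinus (m - 1) F a b) h2 hdet
    (by
      rw [Fintype.card_sum, Fintype.card_sum, Fintype.card_fin, Fintype.card_fin]
      exact ⟨(m - 1) + 1, by ring⟩)
  have h21 := Cfsg.Agent.S2621.result hF hodd hm a b hab
    (Pi.basisFun F ((Fin (m - 1) ⊕ Fin (m - 1)) ⊕ Fin 2))
  simp only [Pi.basisFun_apply] at h21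
  have hfin : q ^ m % 4 = 3 ↔ ¬ Even (m * (q - 1) / 2) := by
    rw [even_iff_pow_mod_four hodd]
    have hoddm : Odd (q ^ m) := hodd.pow
    rcases hoddm with ⟨k, hk⟩
    omega
  rw [hfin, ← h21]
  exact key

end Cfsg.Agent.S0791
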