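import Mathlib
import Cfsg.Statements.S0790
import Cfsg.Agent.Helper28.Spin6

set_option autoImplicit false

namespace Cfsg.Agent.S0790

open Cfsg.Agent.Helper28.Spin

theorem result {F : Type*} [Field F] [Fintype F] {q : ℕ} (hF : Fintype.card F = q) (hodd : Odd q) (m : ℕ) (hm : 1 ≤ m) : (∃ g : ↥(Cfsg.isometryGroup F (Cfsg.quadFormPlus m F)), g ∈ Cfsg.Omega F (Cfsg.quadFormPlus m F) ∧ ((g : Matrix.GeneralLinearGroup (Fin m ⊕ Fin m) F) : Matrix (Fin m ⊕ Fin m) (Fin m ⊕ Fin m) F) = -1) ↔ q ^ m % 4 = 1 := by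
  have h2 : (2 : F) ≠ 0 := by
    apply Ring.two_ne_zero
    intro h
    rw [FiniteField.even_card_iff_char_two, hF] at h
    rcases hodd with ⟨k, hk⟩
    omega
  have key := neg_one_mem_Omega_iff (QfPlus m F) h2 (QfPlus_nondeg m)
    (by rw [Fintype.card_sum, Fintype.card_fin]; exact ⟨m, rfl⟩)
  have h20 := Cfsg.Agent.S2620.result hF hodd hm (Pi.basisFun F (Fin m ⊕ Fin m))
  simp only [Pi.basisFun_apply] at h20
  rw [← even_iff_pow_mod_four hodd, ← h20]
  exact key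

end Cfsg.Agent.S0790
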