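import Cfsg.Statements.S2723
import Cfsg.Agent.Helper28.PsoAut
import Cfsg.Agent.S0790

set_option autoImplicit false
open Cfsg

namespace Cfsg.Agent.S2723

open Cfsg.Agent.Helper28.Spin Cfsg.Agent.Helper28.PA

theorem three_pow_mod_four (m : ℕ) : 3 ^ m % 4 = if Even m then 1 else 3 := by
  split_ifs with h
  · obtain ⟨k, rfl⟩ := h
    rw [← two_mul, pow_mul, Nat.pow_mod]
    norm_num
  · rw [Nat.not_even_iff_odd] at h
    obtain ⟨k, rfl⟩ := h
    rw [pow_succ, pow_mul, Nat.mul_mod, Nat.pow_mod]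
    norm_num

theorem pow_mod_four {q : ℕ} (hq : Odd q) (m : ℕ) :
    q ^ m % 4 = if (q % 4 = 3 ∧ Odd m) then 3 else 1 := by
  have h13 : q % 4 = 1 ∨ q % 4 = 3 := by
    obtain ⟨k, rfl⟩ := hq
    omega
  rcases h13 with h | h
  · rw [Nat.pow_mod, h, one_pow, if_neg (by omega)]
    norm_num
  · rw [Nat.pow_mod, h, three_pow_mod_four]
    by_cases hm : Even m
    · rw [if_pos hm, if_neg (fun hh => (Nat.not_odd_iff_even.2 hm) hh.2)]
    · rw [if_neg hm, if_pos ⟨rfl, Nat.not_even_iff_odd.1 hm⟩]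

/-- Let T = PΩ⁺_{2m}(F) with m ≥ 4 and |F| = q odd. The image of the special orthogonal group in Aut(T) contains the inner automorphism group T with index 1 (they coincide) when m is odd and q ≡ 3 (mod 4), and with index 2 otherwise (the index is 2 exactly when the discriminant of the form is a square). -/
theorem result {F : Type*} [Field F] [Fintype F] (hodd : Odd (Fintype.card F)) {m : ℕ} (hm : 4 ≤ m) :
    ((Odd m ∧ Fintype.card F % 4 = 3) → (Cfsg.Inn (Cfsg.POmega F (Cfsg.quadFormPlus m F))).relIndex (Cfsg.psoAut F (Cfsg.quadFormPlus m F)) = 1) ∧ (¬ (Odd m ∧ Fintype.card F % 4 = 3) → (Cfsg.Inn (Cfsg.POmega F (Cfsg.quadFormPlus m F))).relIndex (Cfsg.psoAut F (Cfsg.quadFormPlus m F)) = 2) := by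
  have h2 : (2 : F) ≠ 0 := by
    apply Ring.two_ne_zero
    intro h
    rw [FiniteField.even_card_iff_char_two] at h
    rcases hodd with ⟨k, hk⟩
    omega
  have hQ := QfPlus_nondeg (F := F) m
  have hcardι : Fintype.card (Fin m ⊕ Fin m) = 2 * m := by
    rw [Fintype.card_sum, Fintype.card_fin]; ring
  have hcrit := Cfsg.Agent.S0790.result (F := F) rfl hodd m (by omega)
  rw [← QfPlus_coe] at hcrit
  have hmain := relIndex_Inn_psoAut (QfPlus m F) hQ h2 (by rw [hcardι]; omega)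
    (by rw [hcardι]; exact ⟨m, by ring⟩)
  rw [QfPlus_coe] at hmain
  have hpow := pow_mod_four hodd m
  constructor
  · rintro ⟨hmodd, hq3⟩
    apply hmain.2
    rw [← QfPlus_coe, hcrit, hpow, if_pos ⟨hq3, hmodd⟩]
    omega
  · intro hnot
    apply hmain.1
    rw [← QfPlus_coe, hcrit, hpow, if_neg (fun hh => hnot ⟨hh.2, hh.1⟩)]

end Cfsg.Agent.S2723
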