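import Cfsg.Statements.S2726
import Cfsg.Agent.Helper28.PgoAut4
import Cfsg.Agent.S2615
import Cfsg.Agent.S2171
import Cfsg.Agent.S2621

set_option autoImplicit false
open Cfsg

namespace Cfsg.Agent.S2726

open Matrix Cfsg.Agent.Helper28.Spin Cfsg.Agent.Helper28.Sg Cfsg.Agent.Helper28.PG

/-- the similarity of the minus-type form: `ν` on the first halves of the hyperbolic pairs and
multiplication by `t₁ + t₂ θ` on the anisotropic plane -/
def simL {F : Type*} [Field F] (m : ℕ) (a b ν t₁ t₂ : F) :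
    ((Fin m ⊕ Fin m) ⊕ Fin 2 → F) →ₗ[F] ((Fin m ⊕ Fin m) ⊕ Fin 2 → F) where
  toFun x := Sum.elim (Sum.elim (fun j => ν * x (Sum.inl (Sum.inl j)))
      (fun j => x (Sum.inl (Sum.inr j))))
    (fun j : Fin 2 => if j = 0 then t₁ * x (Sum.inr 0) - b * t₂ * x (Sum.inr 1)
      else t₂ * x (Sum.inr 0) + (t₁ + a * t₂) * x (Sum.inr 1))
  map_add' x y := by
    funext i
    rcases i with (i | i) | i
    · simp only [Sum.elim_inl, Pi.add_apply]; ring
    · simp only [Sum.elim_inl, Sum.elim_inr, Pi.add_apply]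
    · simp only [Sum.elim_inr, Pi.add_apply]
      split_ifs <;> ring
  map_smul' c x := by
    funext i
    rcases i with (i | i) | i
    · simp only [Sum.elim_inl, Pi.smul_apply, smul_eq_mul, RingHom.id_apply]; ring
    · simp only [Sum.elim_inl, Sum.elim_inr, Pi.smul_apply, smul_eq_mul, RingHom.id_apply]
    · simp only [Sum.elim_inr, Pi.smul_apply, smul_eq_mul, RingHom.id_apply]
      split_ifs <;> ring

theorem simL_sim {F : Type*} [Field F] (m : ℕ) (a b ν t₁ t₂ : F)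
    (ht : t₁ ^ 2 + a * t₁ * t₂ + b * t₂ ^ 2 = ν) (x : (Fin m ⊕ Fin m) ⊕ Fin 2 → F) :
    Cfsg.quadFormMinus m F a b (simL m a b ν t₁ t₂ x) = ν * Cfsg.quadFormMinus m F a b x := by
  unfold Cfsg.quadFormMinus
  have h0 : simL m a b ν t₁ t₂ x (Sum.inr 0) = t₁ * x (Sum.inr 0) - b * t₂ * x (Sum.inr 1) := by
    simp [simL]
  have h1 : simL m a b ν t₁ t₂ x (Sum.inr 1) =
      t₂ * x (Sum.inr 0) + (t₁ + a * t₂) * x (Sum.inr 1) := by
    simp [simL]
  have h2 : ∀ i : Fin m, simL m a b ν t₁ t₂ x (Sum.inl (Sum.inl i)) = ν * x (Sum.inl (Sum.inl i)) :=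
    fun i => rfl
  have h3 : ∀ i : Fin m, simL m a b ν t₁ t₂ x (Sum.inl (Sum.inr i)) = x (Sum.inl (Sum.inr i)) :=
    fun i => rfl
  have hsum : ∑ i : Fin m, simL m a b ν t₁ t₂ x (Sum.inl (Sum.inl i)) *
      simL m a b ν t₁ t₂ x (Sum.inl (Sum.inr i)) =
      ν * ∑ i : Fin m, x (Sum.inl (Sum.inl i)) * x (Sum.inl (Sum.inr i)) := by
    rw [Finset.mul_sum]
    apply Finset.sum_congr rfl
    intro i _
    rw [h2, h3]
    ring
  rw [hsum, h0, h1, ← ht]
  ring

set_option maxHeartbeats 1600000 in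
/-- Let T = PΩ⁻_{2m+2}(F) with m ≥ 3 and |F| = q odd (form with anisotropic binary part). Inside Aut(T), the image G̃ of the conformal orthogonal group of the form modulo the image of the special orthogonal group is elementary abelian of order 4. -/
theorem result {F : Type*} [Field F] [Fintype F] (hodd : Odd (Fintype.card F)) {m : ℕ} (hm : 3 ≤ m) (a b : F) (hab : (∀ z₁ z₂ : F, z₁ ^ 2 + a * z₁ * z₂ + b * z₂ ^ 2 = 0 → z₁ = 0 ∧ z₂ = 0)) :
    (∃ φ : ↥(Cfsg.pgoAut F (Cfsg.quadFormMinus m F a b)) →* Multiplicative (ZMod 2 × ZMod 2), Function.Surjective φ ∧ φ.ker = (Cfsg.psoAut F (Cfsg.quadFormMinus m F a b)).subgroupOf (Cfsg.pgoAut F (Cfsg.quadFormMinus m F a b))) := by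
  classical
  have h2 : (2 : F) ≠ 0 := by
    apply Ring.two_ne_zero
    intro h
    rw [FiniteField.even_card_iff_char_two] at h
    rcases hodd with ⟨k, hk⟩
    omega
  have hδ := Cfsg.Agent.S2621.not_isSquare_disc h2 a b hab
  have hdisc : 4 * b - a ^ 2 ≠ 0 := by
    intro h
    apply hδ
    have : a ^ 2 - 4 * b = 0 := by linear_combination -h
    rw [this]
    exact ⟨0, by simp⟩
  have hQ : (QuadraticMap.polarBilin (QfMinus m F a b)).Nondegenerate :=
    Cfsg.Agent.S2171.QfMinus_nondeg_of m a b hdisc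
  have hcardι : Fintype.card ((Fin m ⊕ Fin m) ⊕ Fin 2) = 2 * (m + 1) := by
    rw [Fintype.card_sum, Fintype.card_sum, Fintype.card_fin, Fintype.card_fin]; omega
  let a' : Fin 3 → (Fin m ⊕ Fin m) ⊕ Fin 2 :=
    fun j => Sum.inl (Sum.inl (Fin.castLE (by omega) j))
  let b' : Fin 3 → (Fin m ⊕ Fin m) ⊕ Fin 2 :=
    fun j => Sum.inl (Sum.inr (Fin.castLE (by omega) j))
  have hinj : Function.Injective (Sum.elim a' b') := by
    intro x y h
    rcases x with x | x <;> rcases y with y | y <;>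
      simp only [Sum.elim_inl, Sum.elim_inr, a', b', Sum.inl.injEq, Sum.inr.injEq, reduceCtorEq,
        Fin.castLE_inj] at h
    · rw [h]
    · rw [h]
  let fr : Frame3 (QfMinus m F a b) := frameOf a' b' hinj
    (fun j => Cfsg.Agent.S2615.hypPair_minus m a b _)
  have hperf := Omega_perfect' hQ fr (hgen_odd h2 hQ)
  have hex : ∃ v : (Fin m ⊕ Fin m) ⊕ Fin 2 → F, QfMinus m F a b v ≠ 0 := by
    refine ⟨fr.e 0 + fr.f 0, ?_⟩
    rw [Cfsg.Agent.Helper28.Sg.Q_add, fr.Qe, fr.Qf]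
    simp only [B, fr.Bef]
    simp
  obtain ⟨v, hv⟩ := hex
  -- a similarity with non-square multiplier
  obtain ⟨ν, hν⟩ := FiniteField.exists_nonsquare (F := F) (by
    intro h
    apply h2
    have := ringChar.Nat.cast_ringChar (R := F)
    rw [h] at this
    exact_mod_cast this)
  have hν0 : ν ≠ 0 := by
    rintro rfl
    exact hν ⟨0, by simp⟩
  set c : Fˣ := Units.mk0 ν hν0 with hc
  obtain ⟨t₁, t₂, ht⟩ := exists_binary_eq h2 a b hdisc ν
  set A : Matrix ((Fin m ⊕ Fin m) ⊕ Fin 2) ((Fin m ⊕ Fin m) ⊕ Fin 2) F :=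
    LinearMap.toMatrix' (simL m a b ν t₁ t₂) with hA
  have hAsim : ∀ w, QfMinus m F a b (A *ᵥ w) = (c : F) * QfMinus m F a b w := by
    intro w
    rw [hA, LinearMap.toMatrix'_mulVec, QfMinus_coe]
    exact simL_sim m a b ν t₁ t₂ ht w
  obtain ⟨h, hh⟩ := exists_GO_of_sim (QfMinus m F a b) hQ A c hAsim
  have hchi : chi (QfMinus m F a b) h = -1 := by
    apply chi_of_nonsquare (QfMinus m F a b) ⟨v, hv⟩ h c _ hν
    intro w
    rw [hh]
    exact hAsim w
  have := pgo_mod_pso (QfMinus m F a b) hQ fr h2 hperf hcardι (reflGO (QfMinus m F a b) v hv)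
    (chi_reflGO (QfMinus m F a b) ⟨v, hv⟩ v hv)
    (sgn_reflGO (QfMinus m F a b) ⟨v, hv⟩ (m + 1) v hv) h hchi
  exact this

end Cfsg.Agent.S2726
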