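import Cfsg.Statements.S2727
import Cfsg.Agent.Helper28.PsoAut
import Cfsg.Agent.S2723
import Cfsg.Agent.S0791
import Cfsg.Agent.S2171
import Cfsg.Agent.S2621

set_option autoImplicit false
open Cfsg

namespace Cfsg.Agent.S2727

open Cfsg.Agent.Helper28.Spin Cfsg.Agent.Helper28.PA

/-- Let T = PΩ⁻_{2m+2}(F) with m ≥ 3 and |F| = q odd (form with anisotropic binary part). The image of the special orthogonal group in Aut(T) contains the inner automorphism group T with index 2 when m is even and q ≡ 3 (mod 4), and coincides with it otherwise (the index is 2 exactly when the discriminant of the form is a square). -/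
theorem result {F : Type*} [Field F] [Fintype F] (hodd : Odd (Fintype.card F)) {m : ℕ} (hm : 3 ≤ m) (a b : F) (hab : (∀ z₁ z₂ : F, z₁ ^ 2 + a * z₁ * z₂ + b * z₂ ^ 2 = 0 → z₁ = 0 ∧ z₂ = 0)) :
    ((Even m ∧ Fintype.card F % 4 = 3) → (Cfsg.Inn (Cfsg.POmega F (Cfsg.quadFormMinus m F a b))).relIndex (Cfsg.psoAut F (Cfsg.quadFormMinus m F a b)) = 2) ∧ (¬ (Even m ∧ Fintype.card F % 4 = 3) → (Cfsg.Inn (Cfsg.POmega F (Cfsg.quadFormMinus m F a b))).relIndex (Cfsg.psoAut F (Cfsg.quadFormMinus m F a b)) = 1) := by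
  have h2 : (2 : F) ≠ 0 := by
    apply Ring.two_ne_zero
    intro h
    rw [FiniteField.even_card_iff_char_two] at h
    rcases hodd with ⟨k, hk⟩
    omega
  have hδ := Cfsg.Agent.S2621.not_isSquare_disc h2 a b hab
  have hQ : (QuadraticMap.polarBilin (QfMinus m F a b)).Nondegenerate := by
    apply Cfsg.Agent.S2171.QfMinus_nondeg_of
    intro h
    apply hδ
    have : a ^ 2 - 4 * b = 0 := by linear_combination -h
    rw [this]
    exact ⟨0, by simp⟩
  have hcardι : Fintype.card ((Fin m ⊕ Fin m) ⊕ Fin 2) = 2 * m + 2 := by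
    simp only [Fintype.card_sum, Fintype.card_fin]; omega
  have hcrit := Cfsg.Agent.S0791.result (F := F) rfl hodd (m + 1) (by omega) a b hab
  rw [Nat.add_sub_cancel, ← QfMinus_coe] at hcrit
  have hmain := relIndex_Inn_psoAut (QfMinus m F a b) hQ h2 (by rw [hcardι]; omega)
    (by rw [hcardι]; exact ⟨m + 1, by ring⟩)
  rw [QfMinus_coe] at hmain
  have hpow := Cfsg.Agent.S2723.pow_mod_four hodd (m + 1)
  constructor
  · rintro ⟨hmeven, hq3⟩
    apply hmain.1
    rw [← QfMinus_coe, hcrit, hpow, if_pos ⟨hq3, hmeven.add_one⟩]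
  · intro hnot
    apply hmain.2
    rw [← QfMinus_coe, hcrit, hpow, if_neg (fun hh => hnot ⟨by
      have := hh.2
      rcases Nat.even_or_odd m with he | ho
      · exact he
      · exact absurd this (Nat.not_odd_iff_even.2 ho.add_one), hh.1⟩)]
    omega

end Cfsg.Agent.S2727
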