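import Cfsg.Statements.S2728
import Cfsg.Agent.Helper28.PgoAut5
import Cfsg.Agent.S2615
import Cfsg.Agent.S2171
import Cfsg.Agent.S2621
import Cfsg.Agent.S0791
import Cfsg.Agent.S2723
import Cfsg.Agent.S2726
import Cfsg.Agent.S2727

set_option autoImplicit false
open Cfsg

namespace Cfsg.Agent.S2728

open Matrix Cfsg.Agent.Helper28.Spin Cfsg.Agent.Helper28.Sg Cfsg.Agent.Helper28.PG

set_option maxHeartbeats 1600000 in
/-- Let T = PΩ⁻_{2m+2}(F) with m ≥ 3 and |F| = q odd (form with anisotropic binary part). The image G̃ of the conformal orthogonal group in Aut(T), taken modulo the inner automorphism group T, is dihedral of order 8 when m is even and q ≡ 3 (mod 4), and elementary abelian of order 4 otherwise. -/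
theorem result {F : Type*} [Field F] [Fintype F] (hodd : Odd (Fintype.card F)) {m : ℕ} (hm : 3 ≤ m) (a b : F) (hab : (∀ z₁ z₂ : F, z₁ ^ 2 + a * z₁ * z₂ + b * z₂ ^ 2 = 0 → z₁ = 0 ∧ z₂ = 0)) :
    ((Even m ∧ Fintype.card F % 4 = 3) → (∃ φ : ↥(Cfsg.pgoAut F (Cfsg.quadFormMinus m F a b)) →* DihedralGroup 4, Function.Surjective φ ∧ φ.ker = (Cfsg.Inn (Cfsg.POmega F (Cfsg.quadFormMinus m F a b))).subgroupOf (Cfsg.pgoAut F (Cfsg.quadFormMinus m F a b)))) ∧ (¬ (Even m ∧ Fintype.card F % 4 = 3) → (∃ φ : ↥(Cfsg.pgoAut F (Cfsg.quadFormMinus m F a b)) →* Multiplicative (ZMod 2 × ZMod 2), Function.Surjective φ ∧ φ.ker = (Cfsg.Inn (Cfsg.POmega F (Cfsg.quadFormMinus m F a b))).subgroupOf (Cfsg.pgoAut F (Cfsg.quadFormMinus m F a b)))) := by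
  classical
  have h2 : (2 : F) ≠ 0 := by
    apply Ring.two_ne_zero
    intro h
    rw [FiniteField.even_card_iff_char_two] at h
    rcases hodd with ⟨k, hk⟩
    omega
  have hδ := Cfsg.Agent.S2621.not_isSquare_disc h2 a b hab
  have hdisc : 4 * b - a ^ 2 ≠ 0 := by
    intro h
    apply hδ
    have : a ^ 2 - 4 * b = 0 := by linear_combination -h
    rw [this]
    exact ⟨0, by simp⟩
  have hQ : (QuadraticMap.polarBilin (QfMinus m F a b)).Nondegenerate :=
    Cfsg.Agent.S2171.QfMinus_nondeg_of m a b hdisc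
  have hcardι : Fintype.card ((Fin m ⊕ Fin m) ⊕ Fin 2) = 2 * (m + 1) := by
    rw [Fintype.card_sum, Fintype.card_sum, Fintype.card_fin, Fintype.card_fin]; omega
  constructor
  · intro hcase
    let a' : Fin 3 → (Fin m ⊕ Fin m) ⊕ Fin 2 :=
      fun j => Sum.inl (Sum.inl (Fin.castLE (by omega) j))
    let b' : Fin 3 → (Fin m ⊕ Fin m) ⊕ Fin 2 :=
      fun j => Sum.inl (Sum.inr (Fin.castLE (by omega) j))
    have hinj : Function.Injective (Sum.elim a' b') := by
      intro x y h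
      rcases x with x | x <;> rcases y with y | y <;>
        simp only [Sum.elim_inl, Sum.elim_inr, a', b', Sum.inl.injEq, Sum.inr.injEq, reduceCtorEq,
          Fin.castLE_inj] at h
      · rw [h]
      · rw [h]
    let fr : Frame3 (QfMinus m F a b) := frameOf a' b' hinj
      (fun j => Cfsg.Agent.S2615.hypPair_minus m a b _)
    have hperf := Omega_perfect' hQ fr (hgen_odd h2 hQ)
    have hex : ∃ v : (Fin m ⊕ Fin m) ⊕ Fin 2 → F, QfMinus m F a b v ≠ 0 := by
      refine ⟨fr.e 0 + fr.f 0, ?_⟩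
      rw [Cfsg.Agent.Helper28.Sg.Q_add, fr.Qe, fr.Qf]
      simp only [B, fr.Bef]
      simp
    obtain ⟨v, hv⟩ := hex
    obtain ⟨ν, hν⟩ := FiniteField.exists_nonsquare (F := F) (by
      intro h
      apply h2
      have := ringChar.Nat.cast_ringChar (R := F)
      rw [h] at this
      exact_mod_cast this)
    have hν0 : ν ≠ 0 := by
      rintro rfl
      exact hν ⟨0, by simp⟩
    set c : Fˣ := Units.mk0 ν hν0 with hc
    obtain ⟨t₁, t₂, ht⟩ := exists_binary_eq h2 a b hdisc ν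
    set A : Matrix ((Fin m ⊕ Fin m) ⊕ Fin 2) ((Fin m ⊕ Fin m) ⊕ Fin 2) F :=
      LinearMap.toMatrix' (Cfsg.Agent.S2726.simL m a b ν t₁ t₂) with hA
    have hAsim : ∀ w, QfMinus m F a b (A *ᵥ w) = (c : F) * QfMinus m F a b w := by
      intro w
      rw [hA, LinearMap.toMatrix'_mulVec, QfMinus_coe]
      exact Cfsg.Agent.S2726.simL_sim m a b ν t₁ t₂ ht w
    obtain ⟨h, hh⟩ := exists_GO_of_sim (QfMinus m F a b) hQ A c hAsim
    have hchi : chi (QfMinus m F a b) h = -1 := by
      apply chi_of_nonsquare (QfMinus m F a b) ⟨v, hv⟩ h c _ hν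
      intro w
      rw [hh]
      exact hAsim w
    have hcrit := Cfsg.Agent.S0791.result (F := F) rfl hodd (m + 1) (by omega) a b hab
    rw [Nat.add_sub_cancel, ← QfMinus_coe] at hcrit
    have hpow := Cfsg.Agent.S2723.pow_mod_four hodd (m + 1)
    have hneg := hcrit.2 (by rw [hpow, if_pos ⟨hcase.2, hcase.1.add_one⟩])
    have := pgo_mod_inn_D4 (QfMinus m F a b) hQ fr h2 hperf hcardι (by rw [hcardι]; omega) hneg v hv
      h hchi
    rw [QfMinus_coe] at this
    exact this
  · intro hcase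
    obtain ⟨φ, hφs, hφk⟩ := Cfsg.Agent.S2726.result hodd hm a b hab
    have hrel := (Cfsg.Agent.S2727.result hodd hm a b hab).2 hcase
    rw [Subgroup.relIndex_eq_one] at hrel
    have hle := Inn_le_psoAut (QfMinus m F a b)
    rw [QfMinus_coe] at hle
    refine ⟨φ, hφs, ?_⟩
    rw [hφk, le_antisymm hrel hle]

end Cfsg.Agent.S2728
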