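import Mathlib
import Cfsg.Statements.S2613
import Cfsg.Agent.Helper28.Spin7

set_option autoImplicit false

namespace Cfsg.Agent.S2613

open Cfsg.Agent.Helper28.Spin Cfsg.Agent.Helper28.QPlus

theorem hypPair_plus {F : Type*} [Field F] (m : ℕ) (j : Fin m) :
    IsHypPair (QfPlus m F) (Sum.inl j) (Sum.inr j) := by
  classical
  intro x s t
  simp only [QfPlus_coe, Cfsg.quadFormPlus, Pi.add_apply, Pi.smul_apply, Pi.single_apply, smul_eq_mul,
    Sum.inl.injEq, Sum.inr.injEq, reduceCtorEq, if_false, mul_zero, add_zero, mul_ite, mul_one]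
  have : ∀ k : Fin m, (x (Sum.inl k) + if k = j then s else 0) * (x (Sum.inr k) + if k = j then t else 0)
      = x (Sum.inl k) * x (Sum.inr k) + ((if k = j then s * x (Sum.inr k) else 0) +
        (if k = j then t * x (Sum.inl k) else 0) + (if k = j then s * t else 0)) := by
    intro k
    split_ifs <;> ring
  simp only [this, Finset.sum_add_distrib, Finset.sum_ite_eq', Finset.mem_univ, if_true]
  ring

theorem result {F : Type*} [Field F] [Fintype F] {q : ℕ} (hF : Fintype.card F = q) (hq : Odd q) {m : ℕ} (i : ℕ) (hi : 1 ≤ i) (him : i ≤ m) : (∃ g : ↥(Cfsg.isometryGroup F (Cfsg.quadFormPlus m F)), g ∈ Cfsg.Omega F (Cfsg.quadFormPlus m F) ∧ ((g : Matrix.GeneralLinearGroup (Fin m ⊕ Fin m) F) : Matrix (Fin m ⊕ Fin m) (Fin m ⊕ Fin m) F) = Matrix.diagonal (fun k : Fin m ⊕ Fin m => if (Sum.elim (fun j : Fin m => (j : ℕ)) (fun j : Fin m => (j : ℕ)) k) < i then (-1 : F) else 1)) ↔ q ^ i % 4 = 1 := by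
  classical
  apply negPairs_iff (QfPlus m F) hF hq (Sum.inl : Fin m → Fin m ⊕ Fin m) Sum.inr
    (by
      intro x y h
      rcases x with x | x <;> rcases y with y | y <;> simpa using h)
    (hypPair_plus m) i him
  rw [negD]
  congr 1
  funext t
  rcases t with j | j
  · have hiff : (∃ j' : Fin m, (j' : ℕ) < i ∧ ((Sum.inl j : Fin m ⊕ Fin m) = Sum.inl j' ∨
        (Sum.inl j : Fin m ⊕ Fin m) = Sum.inr j')) ↔ (j : ℕ) < i := by
      constructor
      · rintro ⟨j', hj', h | h⟩
        · rw [Sum.inl.injEq] at h; rw [h]; exact hj'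
        · exact absurd h (by simp)
      · intro h; exact ⟨j, h, Or.inl rfl⟩
    by_cases h : (j : ℕ) < i
    · rw [if_pos (show Sum.elim (fun j : Fin m => (j : ℕ)) (fun j : Fin m => (j : ℕ)) (Sum.inl j) < i from h),
        if_pos (hiff.2 h)]
    · rw [if_neg (show ¬ Sum.elim (fun j : Fin m => (j : ℕ)) (fun j : Fin m => (j : ℕ)) (Sum.inl j) < i from h),
        if_neg (fun h' => h (hiff.1 h'))]
  · have hiff : (∃ j' : Fin m, (j' : ℕ) < i ∧ ((Sum.inr j : Fin m ⊕ Fin m) = Sum.inl j' ∨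
        (Sum.inr j : Fin m ⊕ Fin m) = Sum.inr j')) ↔ (j : ℕ) < i := by
      constructor
      · rintro ⟨j', hj', h | h⟩
        · exact absurd h (by simp)
        · rw [Sum.inr.injEq] at h; rw [h]; exact hj'
      · intro h; exact ⟨j, h, Or.inr rfl⟩
    by_cases h : (j : ℕ) < i
    · rw [if_pos (show Sum.elim (fun j : Fin m => (j : ℕ)) (fun j : Fin m => (j : ℕ)) (Sum.inr j) < i from h),
        if_pos (hiff.2 h)]
    · rw [if_neg (show ¬ Sum.elim (fun j : Fin m => (j : ℕ)) (fun j : Fin m => (j : ℕ)) (Sum.inr j) < i from h),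
        if_neg (fun h' => h (hiff.1 h'))]

end Cfsg.Agent.S2613
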