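import Mathlib
import Cfsg.Statements.S0838
import Cfsg.Agent.S0756

set_option autoImplicit false
open Cfsg

namespace Cfsg.Agent.S0838

open LinearMap LinearMap.BilinForm Module Matrix

/-- diagonal with ones and last entry `δ` -/
def dd {F : Type*} [Field F] (k : ℕ) (δ : F) : Fin (k + 1) → F := fun j => if j = Fin.last k then δ else 1

theorem prod_dd {F : Type*} [Field F] (k : ℕ) (δ : F) : ∏ j, dd k δ j = δ := by
  rw [Fin.prod_univ_castSucc]
  have : ∀ i : Fin k, dd k δ i.castSucc = 1 := by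
    intro i
    simp [dd, Fin.castSucc_ne_last]
  simp [this, dd]

theorem gram_eq {F V : Type*} [Field F] [AddCommGroup V] [Module F V] {k : ℕ}
    (B : LinearMap.BilinForm F V) (b : Basis (Fin (k + 1)) F V)
    (h1 : ∀ i j, i ≠ j → B (b i) (b j) = 0) (h2 : ∀ i, i ≠ Fin.last k → B (b i) (b i) = 1) :
    LinearMap.BilinForm.toMatrix b B = Matrix.diagonal (dd k (B (b (Fin.last k)) (b (Fin.last k)))) := by
  ext i j
  rw [LinearMap.BilinForm.toMatrix_apply]
  by_cases hij : i = j
  · subst hij
    rw [Matrix.diagonal_apply_eq]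
    by_cases hi : i = Fin.last k
    · subst hi; simp [dd]
    · rw [h2 i hi]; simp [dd, hi]
  · rw [Matrix.diagonal_apply_ne _ hij, h1 i j hij]

/-- Over a finite field with 2 ≠ 0 and n odd: two quadratic forms Q₁, Q₂ on F^n with non-degenerate polar forms are similar — there are an invertible linear map g and a scalar c ≠ 0 with Q₂ (g v) = c · Q₁ v for all v. -/
theorem result {F : Type*} [Field F] [Fintype F] (h2 : (2 : F) ≠ 0) {n : ℕ} (hn : Odd n) (Q₁ Q₂ : QuadraticForm F (Fin n → F)) (h₁ : (QuadraticMap.polarBilin Q₁).Nondegenerate) (h₂ : (QuadraticMap.polarBilin Q₂).Nondegenerate) : ∃ (g : (Fin n → F) ≃ₗ[F] (Fin n → F)) (c : F), c ≠ 0 ∧ ∀ v, Q₂ (g v) = c * Q₁ v := by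
  classical
  obtain ⟨t, rfl⟩ := hn
  set B₁ : LinearMap.BilinForm F (Fin (2 * t + 1) → F) := QuadraticMap.polarBilin Q₁ with hB₁
  set B₂ : LinearMap.BilinForm F (Fin (2 * t + 1) → F) := QuadraticMap.polarBilin Q₂ with hB₂
  have hS₁ : B₁.IsSymm := ⟨fun x y => QuadraticMap.polar_comm _ x y⟩
  have hS₂ : B₂.IsSymm := ⟨fun x y => QuadraticMap.polar_comm _ x y⟩
  have hfr : Module.finrank F (Fin (2 * t + 1) → F) = 2 * t + 1 := Module.finrank_fin_fun F
  obtain ⟨α, hα⟩ := FiniteField.exists_nonsquare (Cfsg.Agent.S0756.ringChar_ne_two' h2)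
  have hα0 : α ≠ 0 := by
    rintro rfl
    exact hα ⟨0, by simp⟩
  obtain ⟨b₁, h11, h12, h13⟩ := Cfsg.Agent.S0756.result h2 B₁ hS₁ h₁ hfr α hα
  obtain ⟨b₂, h21, h22, h23⟩ := Cfsg.Agent.S0756.result h2 B₂ hS₂ h₂ hfr α hα
  -- key: a scalar c and a basis b' with matching Gram matrices
  have key : ∃ (c : F) (b' : Basis (Fin (2 * t + 1)) F (Fin (2 * t + 1) → F)), c ≠ 0 ∧
      ∀ i j, (c • B₁) (b' i) (b' j) = B₂ (b₂ i) (b₂ j) := by
    set δ₁ := B₁ (b₁ (Fin.last (2 * t))) (b₁ (Fin.last (2 * t))) with hδ₁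
    set δ₂ := B₂ (b₂ (Fin.last (2 * t))) (b₂ (Fin.last (2 * t))) with hδ₂
    have hG₁ := gram_eq (k := 2 * t) B₁ b₁ h11 h12
    have hG₂ := gram_eq (k := 2 * t) B₂ b₂ h21 h22
    by_cases hδ : δ₁ = δ₂
    · refine ⟨1, b₁, one_ne_zero, ?_⟩
      intro i j
      rw [one_smul, ← LinearMap.BilinForm.toMatrix_apply b₁ B₁, ← LinearMap.BilinForm.toMatrix_apply b₂ B₂, hG₁, hG₂, ← hδ₁,
        ← hδ₂, hδ]
    · have hS₃ : (α • B₁).IsSymm := ⟨fun x y => by
        simp only [LinearMap.smul_apply]; rw [hS₁.eq]⟩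
      have h₃ : (α • B₁).Nondegenerate := by
        constructor
        · intro x hx
          apply h₁.1 x
          intro y
          have := hx y
          simp only [LinearMap.smul_apply, smul_eq_mul] at this
          rcases mul_eq_zero.mp this with h | h
          · exact absurd h hα0
          · exact h
        · intro y hy
          apply h₁.2 y
          intro x
          have := hy x
          simp only [LinearMap.smul_apply, smul_eq_mul] at this
          rcases mul_eq_zero.mp this with h | h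
          · exact absurd h hα0
          · exact h
      obtain ⟨b₃, h31, h32, h33⟩ := Cfsg.Agent.S0756.result h2 (α • B₁) hS₃ h₃ hfr α hα
      set δ₃ := (α • B₁) (b₃ (Fin.last (2 * t))) (b₃ (Fin.last (2 * t))) with hδ₃
      have hG₃ := gram_eq (k := 2 * t) (α • B₁) b₃ h31 h32
      -- discriminant
      have hdet := congrArg Matrix.det (LinearMap.BilinForm.toMatrix_mul_basis_toMatrix b₁ b₃ (α • B₁))
      rw [hG₃, map_smul, hG₁, Matrix.det_mul, Matrix.det_mul, Matrix.det_transpose, Matrix.det_smul,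
        Matrix.det_diagonal, Matrix.det_diagonal, prod_dd, prod_dd, Fintype.card_fin, ← hδ₁, ← hδ₃] at hdet
      set P := (b₁.toMatrix ⇑b₃).det with hP
      have hne : δ₃ ≠ δ₁ := by
        intro h
        rw [h] at hdet
        have hδ₁0 : δ₁ ≠ 0 := by
          rcases h13 with h | h
          · change δ₁ ≠ 0; rw [h]; exact one_ne_zero
          · change δ₁ ≠ 0; rw [h]; exact hα0
        have e : (P * α ^ t) ^ 2 * α = 1 := by
          have : δ₁ * ((P * α ^ t) ^ 2 * α) = δ₁ * 1 := by
            rw [mul_one]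
            linear_combination hdet
          exact mul_left_cancel₀ hδ₁0 this
        have hPne : P * α ^ t ≠ 0 := by
          intro h0
          rw [h0] at e
          simp at e
        apply hα
        obtain ⟨w, hw⟩ : ∃ w, w = P * α ^ t := ⟨_, rfl⟩
        rw [← hw] at e hPne
        refine ⟨w⁻¹, ?_⟩
        field_simp
        linear_combination e
      have hδ₃₂ : δ₃ = δ₂ := by
        rcases h13 with a | a <;> rcases h23 with b | b <;> rcases h33 with c | c <;>
          first
          | exact absurd (a.trans b.symm) hδ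
          | exact absurd (c.trans a.symm) hne
          | exact c.trans b.symm
      refine ⟨α, b₃, hα0, ?_⟩
      intro i j
      rw [← LinearMap.BilinForm.toMatrix_apply b₃ (α • B₁), ← LinearMap.BilinForm.toMatrix_apply b₂ B₂, hG₃, hG₂, ← hδ₃,
        ← hδ₂, hδ₃₂]
  obtain ⟨c, b', hc, hb'⟩ := key
  set g := b'.equiv b₂ (Equiv.refl _) with hg
  have hform : (c • B₁) = B₂.comp g.toLinearMap g.toLinearMap := by
    apply BilinForm.ext_basis b'
    intro i j
    rw [hb' i j, BilinForm.comp_apply]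
    simp [hg]
  refine ⟨g, c, hc, ?_⟩
  intro v
  have := LinearMap.congr_fun (LinearMap.congr_fun hform v) v
  rw [BilinForm.comp_apply] at this
  simp only [LinearMap.smul_apply, hB₁, hB₂, QuadraticMap.polarBilin_apply_apply, QuadraticMap.polar_self,
    LinearEquiv.coe_coe, smul_eq_mul] at this
  have h3 : (2 : F) * (Q₂ (g v)) = 2 * (c * Q₁ v) := by
    simp only [nsmul_eq_mul, Nat.cast_ofNat] at this
    linear_combination -this
  exact mul_left_cancel₀ h2 h3

end Cfsg.Agent.S0838
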