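import Mathlib
import Cfsg.Statements.S2623
import Cfsg.Agent.S0756
import Cfsg.Agent.S0838

set_option autoImplicit false
open Cfsg

namespace Cfsg.Agent.S2623

open LinearMap LinearMap.BilinForm Module Matrix

theorem gram_std {F : Type*} [Field F] {n : ℕ} (Q : QuadraticForm F (Fin n → F)) :
    Matrix.of (fun i j : Fin n => QuadraticMap.polar ⇑Q (Pi.single i 1) (Pi.single j 1)) =
      LinearMap.BilinForm.toMatrix (Pi.basisFun F (Fin n)) (QuadraticMap.polarBilin Q) := by
  ext i j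
  rw [LinearMap.BilinForm.toMatrix_apply, Matrix.of_apply, QuadraticMap.polarBilin_apply_apply]
  simp [Pi.basisFun_apply]

/-- Gram determinant in a basis `b` is a nonzero square multiple of the standard one. -/
theorem det_gram_basis {F : Type*} [Field F] {n : ℕ} (B : LinearMap.BilinForm F (Fin n → F))
    (b : Basis (Fin n) F (Fin n → F)) :
    ∃ d : F, d ≠ 0 ∧ (LinearMap.BilinForm.toMatrix b B).det =
      d * d * (LinearMap.BilinForm.toMatrix (Pi.basisFun F (Fin n)) B).det := by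
  classical
  refine ⟨((Pi.basisFun F (Fin n)).toMatrix ⇑b).det, ?_, ?_⟩
  · have h1 : (Pi.basisFun F (Fin n)).toMatrix ⇑b * b.toMatrix ⇑(Pi.basisFun F (Fin n)) = 1 :=
      Module.Basis.toMatrix_mul_toMatrix_flip _ _
    have h2 := congrArg Matrix.det h1
    rw [Matrix.det_mul, Matrix.det_one] at h2
    intro h0
    rw [h0, zero_mul] at h2
    exact zero_ne_one h2
  · have := congrArg Matrix.det
      (LinearMap.BilinForm.toMatrix_mul_basis_toMatrix (Pi.basisFun F (Fin n)) b B)
    rw [Matrix.det_mul, Matrix.det_mul, Matrix.det_transpose] at this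
    rw [← this]
    ring

theorem result {F : Type*} [Field F] [Fintype F] (h2 : (2 : F) ≠ 0) {n : ℕ} (Q₁ Q₂ : QuadraticForm F (Fin n → F)) (h₁ : (QuadraticMap.polarBilin Q₁).Nondegenerate) (h₂ : (QuadraticMap.polarBilin Q₂).Nondegenerate) : (∃ g : (Fin n → F) ≃ₗ[F] (Fin n → F), ∀ v, Q₂ (g v) = Q₁ v) ↔ IsSquare ((Matrix.of (fun i j : Fin n => QuadraticMap.polar ⇑Q₁ (Pi.single i 1) (Pi.single j 1))).det * (Matrix.of (fun i j : Fin n => QuadraticMap.polar ⇑Q₂ (Pi.single i 1) (Pi.single j 1))).det) := by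
  classical
  rw [gram_std, gram_std]
  set B₁ : LinearMap.BilinForm F (Fin n → F) := QuadraticMap.polarBilin Q₁ with hB₁
  set B₂ : LinearMap.BilinForm F (Fin n → F) := QuadraticMap.polarBilin Q₂ with hB₂
  constructor
  · rintro ⟨g, hg⟩
    -- Gram of B₂ in basis g e_i equals Gram of B₁ in standard basis
    set b' : Basis (Fin n) F (Fin n → F) := (Pi.basisFun F (Fin n)).map g with hb'
    have hG : LinearMap.BilinForm.toMatrix b' B₂ =
        LinearMap.BilinForm.toMatrix (Pi.basisFun F (Fin n)) B₁ := by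
      ext i j
      rw [LinearMap.BilinForm.toMatrix_apply, LinearMap.BilinForm.toMatrix_apply, hb',
        Module.Basis.map_apply, Module.Basis.map_apply, hB₁, hB₂,
        QuadraticMap.polarBilin_apply_apply, QuadraticMap.polarBilin_apply_apply,
        QuadraticMap.polar, QuadraticMap.polar, ← map_add, hg, hg, hg]
    obtain ⟨d, hd, hdet⟩ := det_gram_basis B₂ b'
    rw [hG] at hdet
    rw [hdet]
    exact ⟨d * (LinearMap.BilinForm.toMatrix (Pi.basisFun F (Fin n)) B₂).det, by ring⟩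
  · intro hsq
    rcases Nat.eq_zero_or_pos n with hn | hn
    · subst hn
      refine ⟨LinearEquiv.refl _ _, ?_⟩
      intro v
      have hv : v = 0 := Subsingleton.elim _ _
      rw [hv, map_zero, QuadraticMap.map_zero, QuadraticMap.map_zero]
    obtain ⟨k, rfl⟩ : ∃ k, n = k + 1 := ⟨n - 1, by omega⟩
    have hS₁ : B₁.IsSymm := ⟨fun x y => QuadraticMap.polar_comm _ x y⟩
    have hS₂ : B₂.IsSymm := ⟨fun x y => QuadraticMap.polar_comm _ x y⟩
    have hfr : Module.finrank F (Fin (k + 1) → F) = k + 1 := Module.finrank_fin_fun F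
    obtain ⟨α, hα⟩ := FiniteField.exists_nonsquare (Cfsg.Agent.S0756.ringChar_ne_two' h2)
    obtain ⟨b₁, h11, h12, h13⟩ := Cfsg.Agent.S0756.result h2 B₁ hS₁ h₁ hfr α hα
    obtain ⟨b₂, h21, h22, h23⟩ := Cfsg.Agent.S0756.result h2 B₂ hS₂ h₂ hfr α hα
    set δ₁ := B₁ (b₁ (Fin.last k)) (b₁ (Fin.last k)) with hδ₁
    set δ₂ := B₂ (b₂ (Fin.last k)) (b₂ (Fin.last k)) with hδ₂
    have hG₁ := Cfsg.Agent.S0838.gram_eq (k := k) B₁ b₁ h11 h12
    have hG₂ := Cfsg.Agent.S0838.gram_eq (k := k) B₂ b₂ h21 h22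
    obtain ⟨d₁, hd₁, hdet₁⟩ := det_gram_basis B₁ b₁
    obtain ⟨d₂, hd₂, hdet₂⟩ := det_gram_basis B₂ b₂
    rw [hG₁, Matrix.det_diagonal, Cfsg.Agent.S0838.prod_dd, ← hδ₁] at hdet₁
    rw [hG₂, Matrix.det_diagonal, Cfsg.Agent.S0838.prod_dd, ← hδ₂] at hdet₂
    have hδ : δ₁ = δ₂ := by
      by_contra hne
      have hprod : δ₁ * δ₂ = α := by
        rcases h13 with a | a <;> rcases h23 with b | b
        · exact absurd (a.trans b.symm) hne
        · rw [a, b, one_mul]
        · rw [a, b, mul_one]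
        · exact absurd (a.trans b.symm) hne
      apply hα
      obtain ⟨r, hr⟩ := hsq
      refine ⟨d₁ * d₂ * r, ?_⟩
      rw [← hprod, hdet₁, hdet₂]
      linear_combination (d₁ * d₁ * d₂ * d₂) * hr
    set g := b₁.equiv b₂ (Equiv.refl _) with hg
    have hform : B₁ = B₂.comp g.toLinearMap g.toLinearMap := by
      apply BilinForm.ext_basis b₁
      intro i j
      rw [BilinForm.comp_apply]
      simp only [hg, LinearEquiv.coe_coe, Basis.equiv_apply, Equiv.refl_apply]
      rw [← LinearMap.BilinForm.toMatrix_apply b₁ B₁, ← LinearMap.BilinForm.toMatrix_apply b₂ B₂,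
        hG₁, hG₂, ← hδ₁, ← hδ₂, hδ]
    refine ⟨g, ?_⟩
    intro v
    have := LinearMap.congr_fun (LinearMap.congr_fun hform v) v
    rw [BilinForm.comp_apply] at this
    simp only [hB₁, hB₂, QuadraticMap.polarBilin_apply_apply, QuadraticMap.polar_self,
      LinearEquiv.coe_coe, smul_eq_mul] at this
    have h3 : (2 : F) * (Q₂ (g v)) = 2 * (Q₁ v) := by
      simp only [nsmul_eq_mul, Nat.cast_ofNat] at this
      linear_combination -this
    exact mul_left_cancel₀ h2 h3

end Cfsg.Agent.S2623
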