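import Cfsg.Statements.S0559
import Mathlib

set_option autoImplicit false
open Cfsg
open scoped Pointwise

namespace Cfsg.Agent.S0559

theorem smul_eq_of_mem {G : Type*} [Group G] (H : Subgroup G) (h : G) (hh : h ∈ H) :
    MulAut.conj h • H = H := by
  ext t
  rw [Subgroup.mem_pointwise_smul_iff_inv_smul_mem]
  simp only [MulAut.smul_def, map_inv, MulAut.inv_apply, MulAut.conj_symm_apply]
  constructor
  · intro ht
    have := H.mul_mem (H.mul_mem hh ht) (H.inv_mem hh)
    simpa [mul_assoc] using this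
  · intro ht
    exact H.mul_mem (H.mul_mem (H.inv_mem hh) ht) hh

/-- Let G = HK be a finite group (every element a product of an element of H and an element of K), and let A and B be conjugates of H and K. Then every element is a product of an element of A and one of B, and there is g with A = gHg⁻¹ and B = gKg⁻¹ simultaneously. -/
theorem result {G : Type*} [Group G] [Finite G] (H K A B : Subgroup G) (hHK : ∀ g : G, ∃ h ∈ H, ∃ k ∈ K, g = h * k) (hA : ∃ x : G, A = MulAut.conj x • H) (hB : ∃ y : G, B = MulAut.conj y • K) : (∀ g : G, ∃ a ∈ A, ∃ b ∈ B, g = a * b) ∧ ∃ g : G, A = MulAut.conj g • H ∧ B = MulAut.conj g • K := by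
  obtain ⟨x, rfl⟩ := hA
  obtain ⟨y, rfl⟩ := hB
  obtain ⟨h, hh, k, hk, hxy⟩ := hHK (x⁻¹ * y)
  have hg1 : MulAut.conj x • H = MulAut.conj (x * h) • H := by
    rw [map_mul, mul_smul, smul_eq_of_mem H h hh]
  have hg2 : MulAut.conj y • K = MulAut.conj (x * h) • K := by
    have : x * h = y * k⁻¹ := by
      have : y = x * (h * k) := by rw [← hxy]; simp
      rw [this]; simp [mul_assoc]
    rw [this, map_mul, mul_smul, smul_eq_of_mem K k⁻¹ (K.inv_mem hk)]
  refine ⟨?_, x * h, hg1, hg2⟩
  intro t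
  rw [hg1, hg2]
  set g := x * h
  obtain ⟨h', hh', k', hk', ht⟩ := hHK (g⁻¹ * t * g)
  refine ⟨g * h' * g⁻¹, ?_, g * k' * g⁻¹, ?_, ?_⟩
  · rw [Subgroup.mem_pointwise_smul_iff_inv_smul_mem]
    simpa [MulAut.smul_def, mul_assoc] using hh'
  · rw [Subgroup.mem_pointwise_smul_iff_inv_smul_mem]
    simpa [MulAut.smul_def, mul_assoc] using hk'
  · have : t = g * (h' * k') * g⁻¹ := by rw [← ht]; simp [mul_assoc]
    rw [this]; simp [mul_assoc]

end Cfsg.Agent.S0559
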