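import Cfsg.Statements.S0561
import Mathlib
import Cfsg.Agent.S0559
import Cfsg.Agent.Lead.Hall
import Cfsg.Agent.Lead.Compl
import Cfsg.Agent.Helper3.ProdCard

set_option autoImplicit false
open Pointwise
open Cfsg

namespace Cfsg.Agent.S0561


universe u

open Cfsg.Agent.Lead (mem_conj_smul_iff card_conj_smul)
open scoped Pointwise

theorem index_conj_smul {G : Type*} [Group G] [Finite G] (g : G) (A : Subgroup G) :
    (MulAut.conj g • A : Subgroup G).index = A.index := by
  have a1 := Subgroup.index_mul_card (MulAut.conj g • A : Subgroup G)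
  have a2 := Subgroup.index_mul_card A
  rw [card_conj_smul] at a1
  exact Nat.eq_of_mul_eq_mul_right Nat.card_pos (a1.trans a2.symm)

theorem prod_hall_subgroup {G : Type u} [Group G] [Finite G] [Group.IsSolvable G]
    (H K A B : Subgroup G) (hHK : ∀ g : G, ∃ h ∈ H, ∃ k ∈ K, g = h * k)
    (hAn : ∀ h ∈ H, ∀ a ∈ A, h * a * h⁻¹ ∈ A) (hBn : ∀ k ∈ K, ∀ b ∈ B, k * b * k⁻¹ ∈ B)
    (hAh : (Nat.card A).Coprime A.index) (hBh : (Nat.card B).Coprime B.index) :
    ∃ S : Subgroup G, (S : Set G) = (A : Set G) * (B : Set G) := by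
  set a := Nat.card A with ha
  set b := Nat.card B with hb
  set N := Nat.card G with hN
  have haN : A.index * a = N := Subgroup.index_mul_card A
  have hbN : B.index * b = N := Subgroup.index_mul_card B
  have hapos : 0 < a := Nat.card_pos
  have hbpos : 0 < b := Nat.card_pos
  set m := Nat.lcm a b with hm
  have hmN : m ∣ N := Nat.lcm_dvd ⟨A.index, by rw [← haN, mul_comm]⟩ ⟨B.index, by rw [← hbN, mul_comm]⟩
  obtain ⟨n, hn⟩ := hmN
  have hmpos : 0 < m := Nat.lcm_pos hapos hbpos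
  have hcop : m.Coprime n := by
    apply Nat.coprime_of_dvd
    intro r hr hrm hrn
    have hrab : r ∣ a ∨ r ∣ b := by
      have : r ∣ a * b := hrm.trans (Nat.lcm_dvd_mul a b)
      exact (Nat.Prime.dvd_mul hr).mp this
    rcases hrab with h | h
    · -- r ∣ a and r ∣ A.index
      obtain ⟨t, ht⟩ := Nat.dvd_lcm_left a b
      have h1 : r ∣ A.index := by
        have h2 : A.index * a = a * t * n := by rw [haN, hn, hm, ht]
        have h3 : A.index = t * n := by
          have : A.index * a = (t * n) * a := by rw [h2]; ring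
          exact Nat.eq_of_mul_eq_mul_right hapos this
        rw [h3]; exact dvd_mul_of_dvd_right hrn t
      exact hr.one_lt.ne' (Nat.Coprime.eq_one_of_dvd (Nat.Coprime.coprime_dvd_left h hAh) h1)
    · obtain ⟨t, ht⟩ := Nat.dvd_lcm_right a b
      have h1 : r ∣ B.index := by
        have h2 : B.index * b = b * t * n := by rw [hbN, hn, hm, ht]
        have h3 : B.index = t * n := by
          have : B.index * b = (t * n) * b := by rw [h2]; ring
          exact Nat.eq_of_mul_eq_mul_right hbpos this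
        rw [h3]; exact dvd_mul_of_dvd_right hrn t
      exact hr.one_lt.ne' (Nat.Coprime.eq_one_of_dvd (Nat.Coprime.coprime_dvd_left h hBh) h1)
  have hAcop : (Nat.card A).Coprime n := Nat.Coprime.coprime_dvd_left (Nat.dvd_lcm_left a b) hcop
  have hBcop : (Nat.card B).Coprime n := Nat.Coprime.coprime_dvd_left (Nat.dvd_lcm_right a b) hcop
  obtain ⟨S₁, hS₁, hAS₁⟩ := Cfsg.Agent.Lead.hall_exists_ge_aux _ rfl m n hn hcop A hAcop
  obtain ⟨S₂, hS₂, hBS₂⟩ := Cfsg.Agent.Lead.hall_exists_ge_aux _ rfl m n hn hcop B hBcop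
  obtain ⟨g, hg⟩ := Cfsg.Agent.Lead.hall_conj_aux _ rfl m n hn hcop S₁ S₂ hS₁ hS₂
  obtain ⟨h₀, hh₀, k₀, hk₀, hgk⟩ := hHK g⁻¹
  -- S = conj h₀⁻¹ • S₁ = conj k₀ • S₂
  set S : Subgroup G := MulAut.conj h₀⁻¹ • S₁ with hS
  have hS' : S = MulAut.conj k₀ • S₂ := by
    rw [hS, ← hg, ← mul_smul, ← map_mul]
    congr 2
    have : g = k₀⁻¹ * h₀⁻¹ := by rw [← inv_inv g, hgk]; group
    rw [this]; group
  have hAS : A ≤ S := by
    intro x hx
    rw [hS, mem_conj_smul_iff]
    apply hAS₁
    have := hAn h₀ hh₀ x hx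
    simpa using this
  have hBS : B ≤ S := by
    intro x hx
    rw [hS', mem_conj_smul_iff]
    apply hBS₂
    have := hBn k₀⁻¹ (K.inv_mem hk₀) x hx
    simpa using this
  have hScard : Nat.card S = m := by rw [hS, card_conj_smul, hS₁]
  refine ⟨S, ?_⟩
  symm
  have hsub : (A : Set G) * (B : Set G) ⊆ (S : Set G) := by
    rintro _ ⟨x, hx, y, hy, rfl⟩
    exact S.mul_mem (hAS hx) (hBS hy)
  apply Set.eq_of_subset_of_ncard_le hsub _ (Set.toFinite _)
  have hprod := Cfsg.Agent.Helper3.card_mul_set_mul_card_inf A B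
  have hinf : Nat.card (A ⊓ B : Subgroup G) ∣ Nat.gcd a b :=
    Nat.dvd_gcd (Subgroup.card_dvd_of_le inf_le_left) (Subgroup.card_dvd_of_le inf_le_right)
  obtain ⟨t, ht⟩ := hinf
  have hgl : Nat.gcd a b * Nat.lcm a b = a * b := Nat.gcd_mul_lcm a b
  have hipos : 0 < Nat.card (A ⊓ B : Subgroup G) := Nat.card_pos
  have htpos : 0 < t := by
    rcases Nat.eq_zero_or_pos t with h0 | h0
    · rw [h0, mul_zero] at ht
      have := Nat.gcd_pos_of_pos_left b hapos
      omega
    · exact h0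
  have hcard : Nat.card ((A : Set G) * (B : Set G) : Set G) = t * m := by
    have h1 : Nat.card ((A : Set G) * (B : Set G) : Set G) * Nat.card (A ⊓ B : Subgroup G)
        = (t * m) * Nat.card (A ⊓ B : Subgroup G) := by
      rw [hprod, ← hgl, ht, ← hm]; ring
    exact Nat.eq_of_mul_eq_mul_right hipos h1
  rw [← Nat.card_coe_set_eq, ← Nat.card_coe_set_eq, hcard]
  show Nat.card S ≤ _
  rw [hScard]
  nlinarith

/-- Let the finite solvable group G be the product HK of subgroups, and let A be normal in H and B normal in K, where A and B are Hall subgroups of G (order coprime to index). Then for all x, y the product set of xAx⁻¹ and yBy⁻¹ is a subgroup of G. -/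
theorem result {G : Type*} [Group G] [Finite G] [Group.IsSolvable G] (H K A B : Subgroup G) (hHK : ∀ g : G, ∃ h ∈ H, ∃ k ∈ K, g = h * k) (hA : A ≤ H) (hAn : (A.subgroupOf H).Normal) (hB : B ≤ K) (hBn : (B.subgroupOf K).Normal) (hAh : (Nat.card A).Coprime A.index) (hBh : (Nat.card B).Coprime B.index) (x y : G) : ∃ S : Subgroup G, (S : Set G) = ((MulAut.conj x • A : Subgroup G) : Set G) * ((MulAut.conj y • B : Subgroup G) : Set G) := by
  obtain ⟨hHK', -⟩ := Cfsg.Agent.S0559.result H K (MulAut.conj x • H) (MulAut.conj y • K) hHK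
    ⟨x, rfl⟩ ⟨y, rfl⟩
  apply prod_hall_subgroup (MulAut.conj x • H) (MulAut.conj y • K) _ _ hHK'
  · intro h hh a ha
    rw [mem_conj_smul_iff] at hh ha ⊢
    have := hAn.conj_mem ⟨x⁻¹ * a * x, hA ha⟩ ha ⟨x⁻¹ * h * x, hh⟩
    have h2 : x⁻¹ * h * x * (x⁻¹ * a * x) * (x⁻¹ * h * x)⁻¹ ∈ A := this
    convert h2 using 1; group
  · intro k hk b hb
    rw [mem_conj_smul_iff] at hk hb ⊢
    have := hBn.conj_mem ⟨y⁻¹ * b * y, hB hb⟩ hb ⟨y⁻¹ * k * y, hk⟩
    have h2 : y⁻¹ * k * y * (y⁻¹ * b * y) * (y⁻¹ * k * y)⁻¹ ∈ B := this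
    convert h2 using 1; group
  · rw [card_conj_smul, index_conj_smul]; exact hAh
  · rw [card_conj_smul, index_conj_smul]; exact hBh

end Cfsg.Agent.S0561
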