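import Cfsg.Statements.S0558
import Mathlib
import Cfsg.Agent.Helper9.Frobenius
import Cfsg.Agent.Helper9.PGroup
import Cfsg.Agent.Helper29.Schmidt

set_option autoImplicit false
open Cfsg

namespace Cfsg.Agent.S0558


universe u

open scoped Pointwise

open Cfsg.Agent.Helper29 (eq_top_of_forall_sylow_le mem_normalizer_of_conj_smul_eq' mem_conj_smul_iff')

theorem main {G : Type u} [Group G] [Finite G] (H : Subgroup G)
    (hnot : ∀ p : ℕ, p.Prime → ∀ P : Sylow p G, (P : Subgroup G) ≠ H)
    (hnorm : ∀ p : ℕ, p.Prime → p ∣ Nat.card H → ∀ P : Sylow p H,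
      Subgroup.normalizer (((P : Subgroup H).map H.subtype : Subgroup G) : Set G) = H) :
    ∃ N : Subgroup G, N.Normal ∧ Subgroup.IsComplement' N H := by
  classical
  -- Sylow subgroups of H are normal in H
  have hSylNormal : ∀ (p : ℕ) [Fact p.Prime] (P : Sylow p H), (P : Subgroup H).Normal := by
    intro p _ P
    by_cases hp : p ∣ Nat.card H
    · have hN := hnorm p Fact.out hp P
      refine ⟨fun x hx h => ?_⟩
      have hh : (h : G) ∈ Subgroup.normalizer
          (((P : Subgroup H).map H.subtype : Subgroup G) : Set G) := by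
        rw [hN]; exact h.2
      rw [Subgroup.mem_normalizer_iff] at hh
      obtain ⟨y, hy, hyx⟩ := (hh (x : G)).mp ⟨x, hx, rfl⟩
      have : y = h * x * h⁻¹ := Subtype.ext hyx
      rw [← this]; exact hy
    · have : (P : Subgroup H) = ⊥ := by
        rw [← Subgroup.card_eq_one, P.card_eq_multiplicity,
          Nat.factorization_eq_zero_of_not_dvd hp, pow_zero]
      rw [this]; infer_instance
  -- p-parts
  have hfac : ∀ p : ℕ, p.Prime → p ∣ Nat.card H →
      (Nat.card G).factorization p = (Nat.card H).factorization p := by
    intro p hp hpd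
    have : Fact p.Prime := ⟨hp⟩
    let P : Sylow p H := default
    have hPmcard : Nat.card ((P : Subgroup H).map H.subtype) =
        p ^ (Nat.card H).factorization p := by
      rw [Subgroup.card_map_of_injective H.subtype_injective, P.card_eq_multiplicity]
    have hN := hnorm p hp hpd P
    apply le_antisymm
    · by_contra hlt
      push Not at hlt
      have hdvd : p ^ ((Nat.card H).factorization p + 1) ∣ Nat.card G :=
        (Nat.Prime.pow_dvd_iff_le_factorization hp Nat.card_pos.ne').mpr hlt
      have h1 := Sylow.prime_pow_dvd_card_normalizer hdvd hPmcard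
      rw [hN] at h1
      have h2 := (Nat.Prime.pow_dvd_iff_le_factorization hp Nat.card_pos.ne').mp h1
      omega
    · exact (Nat.factorization_le_iff_dvd Nat.card_pos.ne' Nat.card_pos.ne').mpr
        (Subgroup.card_subgroup_dvd_card H) p
  have hHall : (Nat.card H).Coprime H.index := by
    apply Nat.coprime_of_dvd
    intro r hr hrH hrI
    have h1 := hfac r hr hrH
    have h2 : (Nat.card G).factorization r =
        H.index.factorization r + (Nat.card H).factorization r := by
      rw [← Subgroup.index_mul_card H,
        Nat.factorization_mul Subgroup.index_ne_zero_of_finite Nat.card_pos.ne']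
      rfl
    have h3 : 0 < H.index.factorization r :=
      hr.factorization_pos_of_dvd Subgroup.index_ne_zero_of_finite hrI
    omega
  -- per prime
  set n := Nat.card H with hn
  have hn0 : n ≠ 0 := Nat.card_pos.ne'
  have key : ∀ i : n.primeFactors, ∃ N : Subgroup G, N.Normal ∧
      N.index = (i : ℕ) ^ n.factorization i ∧ ¬ (i : ℕ) ∣ Nat.card N := by
    rintro ⟨p, hpmem⟩
    have hp := Nat.prime_of_mem_primeFactors hpmem
    have hpd : p ∣ Nat.card H := Nat.dvd_of_mem_primeFactors hpmem
    have : Fact p.Prime := ⟨hp⟩
    let P : Sylow p H := default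
    set Pm : Subgroup G := (P : Subgroup H).map H.subtype with hPm
    have hPmH : Pm ≤ H := Subgroup.map_subtype_le _
    have hPmcard : Nat.card Pm = p ^ (Nat.card H).factorization p := by
      rw [hPm, Subgroup.card_map_of_injective H.subtype_injective, P.card_eq_multiplicity]
    have hPmcard' : Nat.card Pm = p ^ (Nat.card G).factorization p := by
      rw [hPmcard, hfac p hp hpd]
    let PG : Sylow p G := Sylow.ofCard Pm hPmcard'
    have hcf : Cfsg.Agent.Helper9.ControlsFusion (PG : Subgroup G) := by
      intro x hx g hy
      have hx : x ∈ Pm := hx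
      have hy : g * x * g⁻¹ ∈ Pm := hy
      set y := g * x * g⁻¹ with hydef
      -- another prime
      obtain ⟨q, hq, hqH, hqp⟩ : ∃ q : ℕ, q.Prime ∧ q ∣ Nat.card H ∧ q ≠ p := by
        by_contra hno
        push Not at hno
        have hpow := Nat.eq_prime_pow_of_unique_prime_dvd (Nat.card_pos.ne' : Nat.card H ≠ 0)
          (fun {d} hd hdd => hno d hd hdd)
        obtain ⟨k, hk⟩ : ∃ k, Nat.card H = p ^ k := ⟨_, hpow⟩
        have hfk : (Nat.card H).factorization p = k := by
          rw [hk, Nat.Prime.factorization_pow hp]; simp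
        have hPH : Pm = H := by
          apply Subgroup.eq_of_le_of_card_ge hPmH
          rw [hPmcard, hfk, hk]
        exact hnot p hp PG hPH
      have : Fact q.Prime := ⟨hq⟩
      let Q : Sylow q H := default
      set Qm : Subgroup G := (Q : Subgroup H).map H.subtype with hQm
      have hNQ := hnorm q hq hqH Q
      have hQmcard : Nat.card Qm = q ^ (Nat.card G).factorization q := by
        rw [hQm, Subgroup.card_map_of_injective H.subtype_injective, Q.card_eq_multiplicity,
          hfac q hq hqH]
      have hcomm : ∀ a ∈ Pm, ∀ b ∈ Qm, a * b = b * a := by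
        rintro _ ⟨a, ha, rfl⟩ _ ⟨b, hb, rfl⟩
        have hPn := hSylNormal p P
        have hQn := hSylNormal q Q
        have hdisj : Disjoint (P : Subgroup H) (Q : Subgroup H) :=
          IsPGroup.disjoint_of_ne p q (Ne.symm hqp) _ _ P.isPGroup' Q.isPGroup'
        have := Subgroup.commute_of_normal_of_disjoint _ _ hPn hQn hdisj a b ha hb
        exact congrArg Subtype.val this.eq
      set C : Subgroup G := Subgroup.centralizer ({y} : Set G) with hC
      have hQC : Qm ≤ C := by
        intro b hb
        rw [hC, Subgroup.mem_centralizer_iff]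
        intro z hz
        rw [Set.mem_singleton_iff.mp hz]
        exact hcomm y hy b hb
      set Q' : Subgroup G := MulAut.conj g • Qm with hQ'
      have hQ'C : Q' ≤ C := by
        intro b' hb'
        rw [hQ', mem_conj_smul_iff'] at hb'
        rw [hC, Subgroup.mem_centralizer_iff]
        intro z hz
        rw [Set.mem_singleton_iff.mp hz]
        have h1 := hcomm x hx _ hb'
        calc y * b' = g * (x * (g⁻¹ * b' * g)) * g⁻¹ := by rw [hydef]; group
          _ = g * ((g⁻¹ * b' * g) * x) * g⁻¹ := by rw [h1]
          _ = b' * y := by rw [hydef]; group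
      have hQ'card : Nat.card Q' = q ^ (Nat.card G).factorization q := by
        rw [← hQmcard]
        exact Nat.card_congr (Subgroup.equivSMul (MulAut.conj g) Qm).toEquiv.symm
      have hfacC : (Nat.card C).factorization q = (Nat.card G).factorization q := by
        apply le_antisymm
        · exact (Nat.factorization_le_iff_dvd Nat.card_pos.ne' Nat.card_pos.ne').mpr
            (Subgroup.card_subgroup_dvd_card C) q
        · have h1 : Nat.card Qm ∣ Nat.card C := Subgroup.card_dvd_of_le hQC
          rw [hQmcard] at h1
          exact (Nat.Prime.pow_dvd_iff_le_factorization hq Nat.card_pos.ne').mp h1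
      have hc1 : Nat.card (Qm.subgroupOf C) = q ^ (Nat.card C).factorization q := by
        rw [hfacC, ← hQmcard]
        exact Nat.card_congr (Subgroup.subgroupOfEquivOfLe hQC).toEquiv
      have hc2 : Nat.card (Q'.subgroupOf C) = q ^ (Nat.card C).factorization q := by
        rw [hfacC, ← hQ'card]
        exact Nat.card_congr (Subgroup.subgroupOfEquivOfLe hQ'C).toEquiv
      let S₁ : Sylow q C := Sylow.ofCard (Qm.subgroupOf C) hc1
      let S₂ : Sylow q C := Sylow.ofCard (Q'.subgroupOf C) hc2
      obtain ⟨c, hc⟩ := MulAction.exists_smul_eq C S₂ S₁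
      have hcQ : ∀ b' ∈ Q', (c : G) * b' * (c : G)⁻¹ ∈ Qm := by
        intro b' hb'
        have hmem : (⟨b', hQ'C hb'⟩ : C) ∈ (S₂ : Subgroup C) := hb'
        have h1 : c * ⟨b', hQ'C hb'⟩ * c⁻¹ ∈ (S₁ : Subgroup C) := by
          rw [← hc, Sylow.coe_subgroup_smul, mem_conj_smul_iff']
          convert hmem using 1
          group
        exact h1
      have hh : (c : G) * g ∈ H := by
        rw [← hNQ]
        apply mem_normalizer_of_conj_smul_eq'
        apply Subgroup.eq_of_le_of_card_ge
        · intro z hz
          rw [mem_conj_smul_iff'] at hz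
          have h1 : g * (((c : G) * g)⁻¹ * z * ((c : G) * g)) * g⁻¹ ∈ Q' := by
            rw [hQ', mem_conj_smul_iff']
            convert hz using 1
            group
          have h2 := hcQ _ h1
          convert h2 using 1
          group
        · rw [Nat.card_congr (Subgroup.equivSMul (MulAut.conj ((c : G) * g)) Qm).toEquiv.symm]
      have hxy : ((c : G) * g) * x * ((c : G) * g)⁻¹ = y := by
        have hcc : (c : G) ∈ Subgroup.centralizer ({y} : Set G) := c.2
        rw [Subgroup.mem_centralizer_iff] at hcc
        have h1 := hcc y (Set.mem_singleton y)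
        calc ((c : G) * g) * x * ((c : G) * g)⁻¹ = (c : G) * y * (c : G)⁻¹ := by
              rw [hydef]; group
          _ = y := by rw [← h1]; group
      -- decompose c * g in H
      have hK : (P : Subgroup H) ⊔ Subgroup.centralizer ((P : Subgroup H) : Set H) = ⊤ := by
        apply eq_top_of_forall_sylow_le
        intro r hr
        by_cases hrp : r = p
        · subst hrp
          exact ⟨P, le_sup_left⟩
        · let R : Sylow r H := default
          refine ⟨R, le_trans ?_ le_sup_right⟩
          intro b hb
          rw [Subgroup.mem_centralizer_iff]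
          intro a ha
          have hPn := hSylNormal p P
          have hRn := hSylNormal r R
          have hdisj : Disjoint (P : Subgroup H) (R : Subgroup H) :=
            IsPGroup.disjoint_of_ne p r (Ne.symm hrp) _ _ P.isPGroup' R.isPGroup'
          exact (Subgroup.commute_of_normal_of_disjoint _ _ hPn hRn hdisj a b ha hb).eq
      have hmemK : (⟨(c : G) * g, hh⟩ : H) ∈
          (P : Subgroup H) ⊔ Subgroup.centralizer ((P : Subgroup H) : Set H) := by
        rw [hK]; exact Subgroup.mem_top _
      have hPn := hSylNormal p P
      obtain ⟨u, hu, w, hw, huw⟩ := Subgroup.mem_sup_of_normal_left.mp hmemK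
      refine ⟨(u : G), ⟨u, hu, rfl⟩, ?_⟩
      obtain ⟨x', hx', rfl⟩ := hx
      rw [Subgroup.mem_centralizer_iff] at hw
      have h1 := hw x' hx'
      have h2 : ((c : G) * g) = (u : G) * (w : G) := by
        have := congrArg Subtype.val huw
        simpa using this.symm
      rw [← hxy, h2]
      have h3 : (x' : G) * (w : G) = (w : G) * (x' : G) := congrArg Subtype.val h1
      show (u : G) * (x' : G) * (u : G)⁻¹ = (u : G) * (w : G) * (x' : G) * ((u : G) * (w : G))⁻¹
      calc (u : G) * (x' : G) * (u : G)⁻¹
          = (u : G) * ((x' : G) * (w : G)) * (w : G)⁻¹ * (u : G)⁻¹ := by group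
        _ = (u : G) * ((w : G) * (x' : G)) * (w : G)⁻¹ * (u : G)⁻¹ := by rw [h3]
        _ = (u : G) * (w : G) * (x' : G) * ((u : G) * (w : G))⁻¹ := by group
    obtain ⟨N, hNn, hNc⟩ :=
      Cfsg.Agent.Helper9.exists_normal_complement_of_controlsFusion _ G p PG rfl hcf
    refine ⟨N, hNn, ?_, ?_⟩
    · rw [hNc.symm.index_eq_card]
      exact hPmcard
    · rw [← hNc.index_eq_card]
      exact PG.not_dvd_index
  choose f hf1 hf2 hf3 using key
  set N : Subgroup G := ⨅ i, f i with hNdef
  have hNn : N.Normal := Subgroup.normal_iInf_normal hf1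
  have hidx : N.index ≤ n := by
    calc N.index ≤ ∏ i, (f i).index := Subgroup.index_iInf_le f
      _ = ∏ i : n.primeFactors, (i : ℕ) ^ n.factorization i :=
        Finset.prod_congr rfl (fun i _ => hf2 i)
      _ = n := (Nat.prod_primeFactors_coe_pow_factorization hn0).symm
  have hcop : Nat.Coprime (Nat.card N) n := by
    apply Nat.Coprime.symm
    apply Nat.coprime_of_dvd
    intro q hq hqn hqN
    have hqmem : q ∈ n.primeFactors := Nat.mem_primeFactors.mpr ⟨hq, hqn, hn0⟩
    have hle : N ≤ f ⟨q, hqmem⟩ := iInf_le f ⟨q, hqmem⟩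
    exact hf3 ⟨q, hqmem⟩ (hqN.trans (Subgroup.card_dvd_of_le hle))
  have hdisj : N ⊓ H = ⊥ := (Subgroup.disjoint_of_coprime_natCard hcop).eq_bot
  have h1 : Nat.card N * Nat.card H ≤ Nat.card G := by
    have := Cfsg.Agent.Helper9.card_mul_le_of_disjoint N H ⊤ le_top le_top hdisj
    rwa [Subgroup.card_top] at this
  have h2 : Nat.card G ≤ Nat.card N * Nat.card H := by
    rw [← Subgroup.card_mul_index N]
    exact Nat.mul_le_mul_left _ hidx
  exact ⟨N, hNn, Subgroup.isComplement'_of_coprime (le_antisymm h1 h2) hcop⟩

/-- Let H be a subgroup of a finite group G that is not a Sylow subgroup of G for any prime, and suppose that for every prime p dividing the order of H and every Sylow p-subgroup P of H the normalizer of P in G is exactly H. Then some normal subgroup of G is a complement to H. -/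
theorem result {G : Type*} [Group G] [Finite G] (H : Subgroup G) (hnot : ∀ p : ℕ, p.Prime → ∀ P : Sylow p G, (P : Subgroup G) ≠ H) (hnorm : ∀ p : ℕ, p.Prime → p ∣ Nat.card H → ∀ P : Sylow p H, Subgroup.normalizer (((P : Subgroup H).map H.subtype : Subgroup G) : Set G) = H) : ∃ N : Subgroup G, N.Normal ∧ Subgroup.IsComplement' N H := by
  exact main H hnot hnorm

end Cfsg.Agent.S0558
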