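import Cfsg.Statements.S0562
import Mathlib

set_option autoImplicit false
open Cfsg

namespace Cfsg.Agent.S0562

theorem result {G : Type*} [Group G] [Finite G] (H K A B : Subgroup G) (hHK : ∀ g : G, ∃ h ∈ H, ∃ k ∈ K, g = h * k) (hA : A ≤ H) (hAn : (A.subgroupOf H).Normal) (hB : B ≤ K) (hBn : (B.subgroupOf K).Normal) : ∀ g ∈ Subgroup.normalizer ((A ⊔ B : Subgroup G) : Set G), ∃ h ∈ Subgroup.normalizer ((A ⊔ B : Subgroup G) : Set G) ⊓ H, ∃ k ∈ Subgroup.normalizer ((A ⊔ B : Subgroup G) : Set G) ⊓ K, g = h * k := by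
  intro g hg
  set J : Subgroup G := A ⊔ B with hJ
  obtain ⟨h, hh, k, hk, rfl⟩ := hHK g
  -- conjugation facts
  have hAconj : ∀ x ∈ H, ∀ a ∈ A, x * a * x⁻¹ ∈ A := by
    intro x hx a ha
    have := hAn.conj_mem ⟨a, hA ha⟩ ha ⟨x, hx⟩
    exact this
  have hBconj : ∀ x ∈ K, ∀ b ∈ B, x * b * x⁻¹ ∈ B := by
    intro x hx b hb
    have := hBn.conj_mem ⟨b, hB hb⟩ hb ⟨x, hx⟩
    exact this
  -- X = k J k⁻¹
  set X : Subgroup G := J.map (MulAut.conj k).toMonoidHom with hX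
  have hXmem : ∀ x, x ∈ X ↔ k⁻¹ * x * k ∈ J := by
    intro x
    rw [hX, Subgroup.mem_map]
    constructor
    · rintro ⟨y, hy, rfl⟩
      simp only [MulEquiv.coe_toMonoidHom, MulAut.conj_apply]
      have : k⁻¹ * (k * y * k⁻¹) * k = y := by group
      rwa [this]
    · intro hx
      refine ⟨_, hx, ?_⟩
      simp only [MulEquiv.coe_toMonoidHom, MulAut.conj_apply]
      group
  -- from g ∈ N(J): x ∈ X ↔ h x h⁻¹ ∈ J
  have hXmem' : ∀ x, x ∈ X ↔ h * x * h⁻¹ ∈ J := by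
    intro x
    rw [hXmem]
    rw [Subgroup.mem_normalizer_iff] at hg
    rw [hg (k⁻¹ * x * k)]
    have : h * k * (k⁻¹ * x * k) * (h * k)⁻¹ = h * x * h⁻¹ := by group
    rw [this]
  have hJX : J ≤ X := by
    rw [hJ]
    refine sup_le (fun a ha => ?_) (fun b hb => ?_)
    · rw [hXmem']
      exact (le_sup_left : A ≤ A ⊔ B) (hAconj h hh a ha)
    · rw [hXmem]
      have := hBconj k⁻¹ (K.inv_mem hk) b hb
      rw [inv_inv] at this
      exact (le_sup_right : B ≤ A ⊔ B) this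
  have hcard : Nat.card X = Nat.card J := by
    rw [hX]
    exact Subgroup.card_map_of_injective (MulAut.conj k).injective
  have hXJ : J = X := Subgroup.eq_of_le_of_card_ge hJX (le_of_eq hcard)
  have hkN : k ∈ Subgroup.normalizer (J : Set G) := by
    rw [Subgroup.mem_normalizer_iff]
    intro x
    constructor
    · intro hx
      rw [hXJ, hXmem]
      have : k⁻¹ * (k * x * k⁻¹) * k = x := by group
      rwa [this]
    · intro hx
      rw [hXJ, hXmem] at hx
      have : k⁻¹ * (k * x * k⁻¹) * k = x := by group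
      rwa [this] at hx
  have hhN : h ∈ Subgroup.normalizer (J : Set G) := by
    have : h = (h * k) * k⁻¹ := by group
    rw [this]
    exact Subgroup.mul_mem _ hg (Subgroup.inv_mem _ hkN)
  exact ⟨h, ⟨hhN, hh⟩, k, ⟨hkN, hk⟩, rfl⟩

end Cfsg.Agent.S0562
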