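import Cfsg.Statements.S0566
import Mathlib
import Cfsg.Agent.Lead.Compl

set_option autoImplicit false
open Pointwise
open Cfsg

namespace Cfsg.Agent.S0566

open Subgroup
open Cfsg.Agent.Lead (mem_conj_smul_iff card_conj_smul)

section
variable {G : Type*} [Group G]

/-- `C * A ⊆ A * C` elementwise. -/
def Perm (A C : Subgroup G) : Prop :=
  ∀ c ∈ C, ∀ a ∈ A, ∃ a' ∈ A, ∃ c' ∈ C, c * a = a' * c'

theorem perm_of_coe_eq {A C S : Subgroup G} (h : (S : Set G) = (A : Set G) * (C : Set G)) :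
    Perm A C := by
  intro c hc a ha
  have hcS : c ∈ (S : Set G) := by rw [h]; exact ⟨1, A.one_mem, c, hc, one_mul c⟩
  have haS : a ∈ (S : Set G) := by rw [h]; exact ⟨a, ha, 1, C.one_mem, mul_one a⟩
  have : c * a ∈ (S : Set G) := S.mul_mem hcS haS
  rw [h] at this
  obtain ⟨a', ha', c', hc', e⟩ := this
  exact ⟨a', ha', c', hc', e.symm⟩

/-- The product subgroup of two permuting subgroups. -/
def mulSub (A C : Subgroup G) (h : Perm A C) : Subgroup G where
  carrier := (A : Set G) * (C : Set G)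
  one_mem' := ⟨1, A.one_mem, 1, C.one_mem, one_mul 1⟩
  mul_mem' := by
    rintro _ _ ⟨a₁, ha₁, c₁, hc₁, rfl⟩ ⟨a₂, ha₂, c₂, hc₂, rfl⟩
    obtain ⟨a', ha', c', hc', e⟩ := h c₁ hc₁ a₂ ha₂
    refine ⟨a₁ * a', A.mul_mem ha₁ ha', c' * c₂, C.mul_mem hc' hc₂, ?_⟩
    calc a₁ * a' * (c' * c₂) = a₁ * (a' * c') * c₂ := by group
      _ = a₁ * (c₁ * a₂) * c₂ := by rw [e]
      _ = a₁ * c₁ * (a₂ * c₂) := by group
  inv_mem' := by
    rintro _ ⟨a, ha, c, hc, rfl⟩
    obtain ⟨a', ha', c', hc', e⟩ := h c⁻¹ (C.inv_mem hc) a⁻¹ (A.inv_mem ha)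
    refine ⟨a', ha', c', hc', ?_⟩
    change a' * c' = (a * c)⁻¹
    rw [← e]; group

theorem coe_mulSub (A C : Subgroup G) (h : Perm A C) :
    ((mulSub A C h : Subgroup G) : Set G) = (A : Set G) * (C : Set G) := rfl

theorem perm_sup {A A' C : Subgroup G} (h : Perm A C) (h' : Perm A' C) : Perm (A ⊔ A') C := by
  have key : ∀ w ∈ A ⊔ A', (∀ c ∈ C, ∃ w' ∈ A ⊔ A', ∃ c' ∈ C, c * w = w' * c') ∧
      (∀ c ∈ C, ∃ w' ∈ A ⊔ A', ∃ c' ∈ C, w * c = c' * w') := by
    intro w hw
    rw [sup_eq_closure] at hw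
    induction hw using closure_induction with
    | mem x hx =>
      rcases hx with hx | hx
      · constructor
        · intro c hc
          obtain ⟨a', ha', c', hc', e⟩ := h c hc x hx
          exact ⟨a', (le_sup_left : A ≤ A ⊔ A') ha', c', hc', e⟩
        · intro c hc
          obtain ⟨a', ha', c', hc', e⟩ := h c⁻¹ (C.inv_mem hc) x⁻¹ (A.inv_mem hx)
          refine ⟨a'⁻¹, (le_sup_left : A ≤ A ⊔ A') (A.inv_mem ha'), c'⁻¹, C.inv_mem hc', ?_⟩
          have : (x * c)⁻¹ = (c'⁻¹ * a'⁻¹)⁻¹ := by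
            rw [mul_inv_rev, e]; group
          exact inv_injective this
      · constructor
        · intro c hc
          obtain ⟨a', ha', c', hc', e⟩ := h' c hc x hx
          exact ⟨a', (le_sup_right : A' ≤ A ⊔ A') ha', c', hc', e⟩
        · intro c hc
          obtain ⟨a', ha', c', hc', e⟩ := h' c⁻¹ (C.inv_mem hc) x⁻¹ (A'.inv_mem hx)
          refine ⟨a'⁻¹, (le_sup_right : A' ≤ A ⊔ A') (A'.inv_mem ha'), c'⁻¹, C.inv_mem hc', ?_⟩
          have : (x * c)⁻¹ = (c'⁻¹ * a'⁻¹)⁻¹ := by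
            rw [mul_inv_rev, e]; group
          exact inv_injective this
    | one =>
      constructor
      · intro c hc; exact ⟨1, one_mem _, c, hc, by simp⟩
      · intro c hc; exact ⟨1, one_mem _, c, hc, by simp⟩
    | mul x y _ _ hx hy =>
      constructor
      · intro c hc
        obtain ⟨x', hx', c', hc', e⟩ := hx.1 c hc
        obtain ⟨y', hy', c'', hc'', e'⟩ := hy.1 c' hc'
        refine ⟨x' * y', mul_mem hx' hy', c'', hc'', ?_⟩
        calc c * (x * y) = (c * x) * y := by group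
          _ = x' * (c' * y) := by rw [e]; group
          _ = x' * y' * c'' := by rw [e']; group
      · intro c hc
        obtain ⟨y', hy', c', hc', e⟩ := hy.2 c hc
        obtain ⟨x', hx', c'', hc'', e'⟩ := hx.2 c' hc'
        refine ⟨x' * y', mul_mem hx' hy', c'', hc'', ?_⟩
        calc x * y * c = x * (y * c) := by group
          _ = (x * c') * y' := by rw [e]; group
          _ = c'' * (x' * y') := by rw [e']; group
    | inv x _ hx =>
      constructor
      · intro c hc
        obtain ⟨x', hx', c', hc', e⟩ := hx.2 c⁻¹ (C.inv_mem hc)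
        refine ⟨x'⁻¹, inv_mem hx', c'⁻¹, C.inv_mem hc', ?_⟩
        have : (c * x⁻¹)⁻¹ = (x'⁻¹ * c'⁻¹)⁻¹ := by
          rw [mul_inv_rev, inv_inv, e]; group
        exact inv_injective this
      · intro c hc
        obtain ⟨x', hx', c', hc', e⟩ := hx.1 c⁻¹ (C.inv_mem hc)
        refine ⟨x'⁻¹, inv_mem hx', c'⁻¹, C.inv_mem hc', ?_⟩
        have : (x⁻¹ * c)⁻¹ = (c'⁻¹ * x'⁻¹)⁻¹ := by
          rw [mul_inv_rev, inv_inv, e]; group
        exact inv_injective this
  intro c hc w hw
  exact (key w hw).1 c hc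

theorem perm_conj {A C : Subgroup G} (h : Perm A C) (g : G) :
    Perm (MulAut.conj g • A) (MulAut.conj g • C) := by
  intro c hc a ha
  rw [mem_conj_smul_iff] at hc ha
  obtain ⟨a', ha', c', hc', e⟩ := h _ hc _ ha
  refine ⟨g * a' * g⁻¹, ?_, g * c' * g⁻¹, ?_, ?_⟩
  · rw [mem_conj_smul_iff]; simpa [mul_assoc] using ha'
  · rw [mem_conj_smul_iff]; simpa [mul_assoc] using hc'
  · have : g * a' * g⁻¹ * (g * c' * g⁻¹) = g * (a' * c') * g⁻¹ := by group
    rw [this, ← e]; group

theorem mem_normalizer_of_conj_smul_eq {A : Subgroup G} {y : G} (h : MulAut.conj y • A = A) :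
    y ∈ normalizer (A : Set G) := by
  rw [mem_normalizer_iff]
  intro a
  constructor
  · intro ha
    have : y * a * y⁻¹ ∈ MulAut.conj y • A := by
      rw [mem_conj_smul_iff]; simpa [mul_assoc] using ha
    rwa [h] at this
  · intro ha
    rw [← h, mem_conj_smul_iff] at ha
    simpa [mul_assoc] using ha

theorem main [Finite G] (k : ℕ) : ∀ (A B : Subgroup G),
    2 * Nat.card G - Nat.card A - Nat.card B = k →
    (∀ x : G, ∃ S : Subgroup G, S ≠ ⊤ ∧
      (S : Set G) = (A : Set G) * ((MulAut.conj x • B : Subgroup G) : Set G)) →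
    normalClosure (A : Set G) ≠ ⊤ ∨ normalClosure (B : Set G) ≠ ⊤ := by
  induction k using Nat.strong_induction_on with
  | _ k ih =>
  intro A B hk h
  by_contra hcon
  push Not at hcon
  obtain ⟨hAtop, hBtop⟩ := hcon
  have hex : ∃ x : G, ∃ b₀ ∈ (MulAut.conj x • B : Subgroup G), MulAut.conj b₀ • A ≠ A := by
    by_contra hno
    push Not at hno
    have hle : normalClosure (B : Set G) ≤ normalizer (A : Set G) := by
      rw [normalClosure, closure_le]
      intro y hy
      rw [Group.mem_conjugatesOfSet_iff] at hy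
      obtain ⟨b, hb, hconj⟩ := hy
      rw [isConj_iff] at hconj
      obtain ⟨c, hc⟩ := hconj
      have hy' : y ∈ (MulAut.conj c • B : Subgroup G) := by
        rw [mem_conj_smul_iff, ← hc]
        have : c⁻¹ * (c * b * c⁻¹) * c = b := by group
        rw [this]; exact hb
      exact mem_normalizer_of_conj_smul_eq (hno c y hy')
    rw [hBtop, top_le_iff, normalizer_eq_top_iff] at hle
    have hA : A = ⊤ := by rw [← hAtop]; exact (normalClosure_eq_self A).symm
    obtain ⟨S, hS, e⟩ := h 1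
    apply hS
    rw [eq_top_iff]
    intro g _
    have : g ∈ (S : Set G) := by
      rw [e]
      exact ⟨g, by rw [hA]; trivial, 1, one_mem _, mul_one g⟩
    exact this
  obtain ⟨x, b₀, hb₀, hne⟩ := hex
  set B₁ : Subgroup G := MulAut.conj x • B with hB₁
  have hH1 : ∀ z : G, ∃ S : Subgroup G, S ≠ ⊤ ∧
      (S : Set G) = (A : Set G) * ((MulAut.conj z • B₁ : Subgroup G) : Set G) := by
    intro z
    obtain ⟨S, hS, e⟩ := h (z * x)
    refine ⟨S, hS, ?_⟩
    rw [e, hB₁, ← mul_smul, ← map_mul]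
  obtain ⟨H, hHtop, hH⟩ := hH1 1
  have hH' : (H : Set G) = (A : Set G) * (B₁ : Set G) := by
    rw [hH, map_one, one_smul]
  have hAH : A ≤ H := by
    intro a ha
    have : a ∈ (H : Set G) := by rw [hH']; exact ⟨a, ha, 1, one_mem _, mul_one a⟩
    exact this
  have hB₁H : B₁ ≤ H := by
    intro b hb
    have : b ∈ (H : Set G) := by rw [hH']; exact ⟨1, one_mem _, b, hb, one_mul b⟩
    exact this
  set A' : Subgroup G := MulAut.conj b₀ • A with hA'
  have hA'H : A' ≤ H := by
    intro a ha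
    rw [hA', mem_conj_smul_iff] at ha
    have hb₀H : b₀ ∈ H := hB₁H hb₀
    have : a = b₀ * (b₀⁻¹ * a * b₀) * b₀⁻¹ := by group
    rw [this]
    exact H.mul_mem (H.mul_mem hb₀H (hAH ha)) (H.inv_mem hb₀H)
  have hAsH : A ⊔ A' ≤ H := sup_le hAH hA'H
  have hperm : ∀ y : G, Perm (A ⊔ A') (MulAut.conj y • B₁) := by
    intro y
    apply perm_sup
    · obtain ⟨S, -, e⟩ := hH1 y
      exact perm_of_coe_eq e
    · obtain ⟨S, -, e⟩ := hH1 (b₀⁻¹ * y)
      have := perm_conj (perm_of_coe_eq e) b₀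
      rwa [← mul_smul, ← map_mul, mul_inv_cancel_left] at this
  have hlt : Nat.card A < Nat.card (A ⊔ A' : Subgroup G) := by
    have hle : A ≤ A ⊔ A' := le_sup_left
    rcases eq_or_lt_of_le (Subgroup.card_le_of_le hle) with he | hl
    · exfalso
      have hAA : A = A ⊔ A' := Subgroup.eq_of_le_of_card_ge hle he.ge
      have hA'A : A' ≤ A := by rw [hAA]; exact le_sup_right
      have hc : Nat.card A' = Nat.card A := card_conj_smul b₀ A
      exact hne (Subgroup.eq_of_le_of_card_ge hA'A hc.ge)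
    · exact hl
  have hcardB₁ : Nat.card B₁ = Nat.card B := card_conj_smul x B
  by_cases hall : ∀ y : G, mulSub (A ⊔ A') (MulAut.conj y • B₁) (hperm y) ≠ ⊤
  · have h1 := Subgroup.card_le_card_group (A ⊔ A')
    have h2 := Subgroup.card_le_card_group B
    have hk' : 2 * Nat.card G - Nat.card (A ⊔ A' : Subgroup G) - Nat.card B₁ < k := by
      omega
    have := ih _ hk' (A ⊔ A') B₁ rfl (fun y => ⟨mulSub _ _ (hperm y), hall y, rfl⟩)
    rcases this with h3 | h3
    · apply h3
      rw [eq_top_iff, ← hAtop]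
      exact normalClosure_mono (le_sup_left : A ≤ A ⊔ A')
    · apply h3
      rw [eq_top_iff, ← hBtop]
      apply normalClosure_le_normal
      intro b hb
      have h4 : x * b * x⁻¹ ∈ normalClosure (B₁ : Set G) := by
        apply subset_normalClosure
        change x * b * x⁻¹ ∈ B₁
        rw [hB₁, mem_conj_smul_iff]
        have : x⁻¹ * (x * b * x⁻¹) * x = b := by group
        rw [this]; exact hb
      have := (normalClosure_normal (s := (B₁ : Set G))).conj_mem _ h4 x⁻¹
      simpa [mul_assoc] using this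
  · push Not at hall
    obtain ⟨y, hy⟩ := hall
    have hyinv : y⁻¹ ∈ mulSub (A ⊔ A') (MulAut.conj y • B₁) (hperm y) := hy ▸ mem_top _
    obtain ⟨a, ha, c, hc, e⟩ := hyinv
    have hc' : y⁻¹ * c * y ∈ B₁ := (mem_conj_smul_iff y c B₁).mp hc
    have hyH : y ∈ H := by
      have e' : a * c = y⁻¹ := e
      have hcc : c = a⁻¹ * y⁻¹ := by rw [← e']; group
      have : y = a⁻¹ * (y⁻¹ * c * y)⁻¹ := by
        rw [hcc]; group
      rw [this]
      exact H.mul_mem (H.inv_mem (hAsH ha)) (H.inv_mem (hB₁H hc'))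
    apply hHtop
    rw [eq_top_iff, ← hy]
    rintro _ ⟨a₁, ha₁, c₁, hc₁, rfl⟩
    refine H.mul_mem (hAsH ha₁) ?_
    have hc₁' : y⁻¹ * c₁ * y ∈ B₁ := (mem_conj_smul_iff y c₁ B₁).mp hc₁
    have : c₁ = y * (y⁻¹ * c₁ * y) * y⁻¹ := by group
    rw [this]
    exact H.mul_mem (H.mul_mem hyH (hB₁H hc₁')) (H.inv_mem hyH)

end

/-- Let A and B be nontrivial subgroups of a finite group G such that for every x the product set of A and xBx⁻¹ is a proper subgroup of G. Then there is a proper normal subgroup of G containing A or containing B. -/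
theorem result {G : Type*} [Group G] [Finite G] (A B : Subgroup G) (hA : A ≠ ⊥) (hB : B ≠ ⊥) (h : ∀ x : G, ∃ S : Subgroup G, S ≠ ⊤ ∧ (S : Set G) = (A : Set G) * ((MulAut.conj x • B : Subgroup G) : Set G)) : ∃ N : Subgroup G, N.Normal ∧ N ≠ ⊤ ∧ (A ≤ N ∨ B ≤ N) := by
  rcases main _ A B rfl h with h1 | h1
  · exact ⟨Subgroup.normalClosure (A : Set G), Subgroup.normalClosure_normal, h1,
      Or.inl Subgroup.le_normalClosure⟩
  · exact ⟨Subgroup.normalClosure (B : Set G), Subgroup.normalClosure_normal, h1,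
      Or.inr Subgroup.le_normalClosure⟩

end Cfsg.Agent.S0566
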