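import Cfsg.Statements.S0560
import Cfsg.Agent.Helper3.SylowProd

set_option autoImplicit false
open Cfsg
open scoped Pointwise

namespace Cfsg.Agent.S0560

open Cfsg.Agent.Helper3

/-- Let the finite group G be the product HK of two subgroups and p a prime. Then there are Sylow p-subgroups P of H and Q of K and a Sylow p-subgroup R of G whose underlying set is the product set of P and Q. -/
theorem result {G : Type*} [Group G] [Finite G] (H K : Subgroup G) (hHK : ∀ g : G, ∃ h ∈ H, ∃ k ∈ K, g = h * k) (p : ℕ) [Fact p.Prime] : ∃ (P : Sylow p H) (Q : Sylow p K) (R : Sylow p G), ((R : Subgroup G) : Set G) = (((P : Subgroup H).map H.subtype : Subgroup G) : Set G) * (((Q : Subgroup K).map K.subtype : Subgroup G) : Set G) := by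
  obtain ⟨R, hRH, hRK, hset⟩ := exists_sylow_factorization (p := p) H K hHK
  have hcH : Nat.card (((R : Subgroup G) ⊓ H).subgroupOf H) = p ^ (Nat.card H).factorization p := by
    rw [← hRH]
    exact Nat.card_congr (Subgroup.subgroupOfEquivOfLe inf_le_right).toEquiv
  have hcK : Nat.card (((R : Subgroup G) ⊓ K).subgroupOf K) = p ^ (Nat.card K).factorization p := by
    rw [← hRK]
    exact Nat.card_congr (Subgroup.subgroupOfEquivOfLe inf_le_right).toEquiv
  refine ⟨Sylow.ofCard _ hcH, Sylow.ofCard _ hcK, R, ?_⟩
  have e1 : ((Sylow.ofCard _ hcH : Sylow p H) : Subgroup H).map H.subtype = (R : Subgroup G) ⊓ H :=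
    Subgroup.map_subgroupOf_eq_of_le inf_le_right
  have e2 : ((Sylow.ofCard _ hcK : Sylow p K) : Subgroup K).map K.subtype = (R : Subgroup G) ⊓ K :=
    Subgroup.map_subgroupOf_eq_of_le inf_le_right
  rw [e1, e2]
  exact hset

end Cfsg.Agent.S0560
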