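import Cfsg.Statements.S0572
import Mathlib

set_option autoImplicit false
open Cfsg
open scoped commutatorElement

namespace Cfsg.Agent.S0572

variable {G : Type*} [Group G]

theorem comm_of_mem (A : Subgroup G) [IsMulCommutative A] {x y : G} (hx : x ∈ A) (hy : y ∈ A) :
    x * y = y * x := by
  have := mul_comm' (⟨x, hx⟩ : A) ⟨y, hy⟩
  exact congrArg Subtype.val this

theorem commElt_eq_one_of_mem (A : Subgroup G) [IsMulCommutative A] {x y : G} (hx : x ∈ A)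
    (hy : y ∈ A) : ⁅x, y⁆ = 1 :=
  commutatorElement_eq_one_iff_mul_comm.mpr (comm_of_mem A hx hy)

theorem conj_eq_of_mem (A : Subgroup G) [IsMulCommutative A] {x y : G} (hx : x ∈ A) (hy : y ∈ A) :
    x * y * x⁻¹ = y := by
  rw [comm_of_mem A hx hy]; simp

theorem stepA (A B : Subgroup G) [IsMulCommutative A] [IsMulCommutative B]
    {α a' a₂ b b₂ : G} (hα : α ∈ A) (ha' : a' ∈ A) (ha₂ : a₂ ∈ A)
    (h : α * b * α⁻¹ = b₂ * a₂) : α * ⁅a', b⁆ * α⁻¹ = ⁅a', b₂⁆ := by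
  rw [conjugate_commutatorElement, conj_eq_of_mem A hα ha', h,
    commutatorElement_mul_right_eq_mul_conj, commElt_eq_one_of_mem A ha' ha₂]
  simp

theorem stepB (A B : Subgroup G) [IsMulCommutative A] [IsMulCommutative B]
    {β a a₃ b' b₃ : G} (hβ : β ∈ B) (hb' : b' ∈ B) (hb₃ : b₃ ∈ B)
    (h : β * a * β⁻¹ = a₃ * b₃) : β * ⁅a, b'⁆ * β⁻¹ = ⁅a₃, b'⁆ := by
  rw [conjugate_commutatorElement, conj_eq_of_mem B hβ hb', h,
    commutatorElement_mul_left_eq_conj_mul, commElt_eq_one_of_mem B hb₃ hb']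
  simp

theorem key (A B : Subgroup G) [IsMulCommutative A] [IsMulCommutative B]
    (hAB : ∀ g : G, ∃ a ∈ A, ∃ b ∈ B, g = a * b)
    {a α b β : G} (ha : a ∈ A) (hα : α ∈ A) (hb : b ∈ B) (hβ : β ∈ B) :
    Commute ⁅a, b⁆ ⁅α, β⁆ := by
  -- it suffices to treat inverses
  suffices H : ∀ α ∈ A, ∀ β ∈ B, Commute ⁅a, b⁆ ⁅β⁻¹, α⁻¹⁆ by
    have h1 := H α⁻¹ (A.inv_mem hα) β⁻¹ (B.inv_mem hβ)
    rw [inv_inv, inv_inv] at h1
    have h2 := h1.inv_right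
    rwa [commutatorElement_inv] at h2
  intro α hα β hβ
  -- decompositions
  obtain ⟨a₂', ha₂', b₂', hb₂', h₂⟩ := hAB (α * b * α⁻¹)⁻¹
  have h₂' : α * b * α⁻¹ = b₂'⁻¹ * a₂'⁻¹ := by
    rw [← mul_inv_rev, ← h₂, inv_inv]
  obtain ⟨a₃, ha₃, b₃, hb₃, h₃⟩ := hAB (β * a * β⁻¹)
  have e1 : (β * α) * ⁅a, b⁆ * (β * α)⁻¹ = ⁅a₃, b₂'⁻¹⁆ := by
    have : (β * α) * ⁅a, b⁆ * (β * α)⁻¹ = β * (α * ⁅a, b⁆ * α⁻¹) * β⁻¹ := by
      simp [mul_assoc]
    rw [this, stepA A B hα ha (A.inv_mem ha₂') h₂', stepB A B hβ (B.inv_mem hb₂') hb₃ h₃]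
  have e2 : (α * β) * ⁅a, b⁆ * (α * β)⁻¹ = ⁅a₃, b₂'⁻¹⁆ := by
    have : (α * β) * ⁅a, b⁆ * (α * β)⁻¹ = α * (β * ⁅a, b⁆ * β⁻¹) * α⁻¹ := by
      simp [mul_assoc]
    rw [this, stepB A B hβ hb hb₃ h₃, stepA A B hα ha₃ (A.inv_mem ha₂') h₂']
  have e3 : (β * α) * ⁅a, b⁆ * (β * α)⁻¹ = (α * β) * ⁅a, b⁆ * (α * β)⁻¹ := by rw [e1, e2]
  -- c commutes with (αβ)⁻¹ (βα) = ⁅β⁻¹, α⁻¹⁆
  show ⁅a, b⁆ * ⁅β⁻¹, α⁻¹⁆ = ⁅β⁻¹, α⁻¹⁆ * ⁅a, b⁆
  have e4 : ⁅β⁻¹, α⁻¹⁆ = (α * β)⁻¹ * (β * α) := by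
    simp [commutatorElement_def, mul_assoc]
  rw [e4]
  have e5 : (α * β)⁻¹ * ((β * α) * ⁅a, b⁆ * (β * α)⁻¹) * (β * α) = (α * β)⁻¹ * ((α * β) * ⁅a, b⁆ * (α * β)⁻¹) * (β * α) := by
    rw [e3]
  have l : (α * β)⁻¹ * ((β * α) * ⁅a, b⁆ * (β * α)⁻¹) * (β * α) = (α * β)⁻¹ * (β * α) * ⁅a, b⁆ := by
    simp only [mul_assoc]
    simp
  have r : (α * β)⁻¹ * ((α * β) * ⁅a, b⁆ * (α * β)⁻¹) * (β * α) = ⁅a, b⁆ * ((α * β)⁻¹ * (β * α)) := by
    simp only [mul_assoc]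
    simp
  rw [l, r] at e5
  exact e5.symm

/-- Itô's Theorem: if a group G is the product AB of two abelian subgroups, then the commutator subgroup of G is abelian, i.e. the second term of the derived series is trivial. -/
theorem result {G : Type*} [Group G] (A B : Subgroup G) [IsMulCommutative A] [IsMulCommutative B] (hAB : ∀ g : G, ∃ a ∈ A, ∃ b ∈ B, g = a * b) : derivedSeries G 2 = ⊥ := by
  -- ⁅A, B⁆ is commutative
  have hcomm : IsMulCommutative (⁅A, B⁆ : Subgroup G) := by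
    rw [Subgroup.commutator_def]
    apply Subgroup.isMulCommutative_closure
    rintro x ⟨a, ha, b, hb, rfl⟩ y ⟨α, hα, β, hβ, rfl⟩
    exact key A B hAB ha hα hb hβ
  -- ⁅A, B⁆ is normal
  have hnorm : (⁅A, B⁆ : Subgroup G).Normal := by
    rw [← Subgroup.normalizer_eq_top_iff, eq_top_iff]
    intro g _
    obtain ⟨a, ha, b, hb, rfl⟩ := hAB g
    exact Subgroup.mul_mem _ (Subgroup.normalizer_commutator_ge_left A B ha)
      (Subgroup.normalizer_commutator_ge_right A B hb)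
  -- commutator G ≤ ⁅A, B⁆
  have hle : commutator G ≤ ⁅A, B⁆ := by
    rw [commutator_def, Subgroup.commutator_le]
    intro g _ h _
    obtain ⟨a, ha, b, hb, rfl⟩ := hAB g
    obtain ⟨a', ha', b', hb', rfl⟩ := hAB h
    rw [commutatorElement_mul_left_eq_conj_mul]
    apply Subgroup.mul_mem
    · apply hnorm.conj_mem
      rw [commutatorElement_mul_right_eq_mul_conj, commElt_eq_one_of_mem B hb hb']
      have : ⁅b, a'⁆ * a' * 1 * a'⁻¹ = ⁅b, a'⁆ := by simp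
      rw [this, ← commutatorElement_inv]
      exact Subgroup.inv_mem _ (Subgroup.commutator_mem_commutator ha' hb)
    · rw [commutatorElement_mul_right_eq_mul_conj, commElt_eq_one_of_mem A ha ha', one_mul]
      exact hnorm.conj_mem _ (Subgroup.commutator_mem_commutator ha hb') a'
  have h2 : derivedSeries G 2 = ⁅commutator G, commutator G⁆ := by
    rw [derivedSeries_succ, derivedSeries_one]
  rw [h2, eq_bot_iff]
  calc ⁅commutator G, commutator G⁆ ≤ ⁅(⁅A, B⁆ : Subgroup G), ⁅A, B⁆⁆ := Subgroup.commutator_mono hle hle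
    _ = ⊥ := Subgroup.commutator_self_eq_bot_iff.mpr hcomm

end Cfsg.Agent.S0572
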