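import Cfsg.Statements.S1443
import Mathlib
import Cfsg.Agent.Helper23.OmegaOne
import Cfsg.Agent.Lead.ThompsonPQ

set_option autoImplicit false
open Cfsg

namespace Cfsg.Agent.S1443

/-- Let G be a finite group, p an odd prime, H a p-subgroup, E an elementary abelian subgroup of H, and A a subgroup of order coprime to p normalizing H. If A centralizes every element of order p in H ∩ C_G(E), then A centralizes H. -/
theorem result {G : Type*} [Group G] [Finite G] (p : ℕ) [Fact p.Prime] (hp : p ≠ 2) (H E A : Subgroup G) (hH : IsPGroup p H) (hE : E ≤ H) (hEe : Cfsg.IsElementaryAbelian p E)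
    (hA : (A ≤ Subgroup.normalizer (H : Set G))) (hcop : (Nat.card A).Coprime p)
    (hfix : ∀ x ∈ (H ⊓ Subgroup.centralizer (E : Set G)), orderOf x = p → A ≤ Subgroup.centralizer ({x} : Set G)) :
    A ≤ Subgroup.centralizer (H : Set G) := by
  obtain ⟨hEc, hEp⟩ := hEe
  have hEcomm : ∀ a ∈ E, ∀ b ∈ E, a * b = b * a := by
    intro a ha b hb
    have := hEc.is_comm.comm (⟨a, ha⟩ : E) ⟨b, hb⟩
    exact congrArg Subtype.val this
  -- A centralizes E
  have hAE : A ≤ Subgroup.centralizer (E : Set G) := by
    intro a ha
    rw [Subgroup.mem_centralizer_iff]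
    intro e he
    by_cases he1 : e = 1
    · rw [he1]; simp
    · have hord : orderOf e = p := orderOf_eq_prime (hEp e he) he1
      have heK : e ∈ H ⊓ Subgroup.centralizer (E : Set G) := by
        refine ⟨hE he, ?_⟩
        show e ∈ Subgroup.centralizer (E : Set G)
        rw [Subgroup.mem_centralizer_iff]
        intro b hb
        exact hEcomm b hb e he
      have := hfix e heK hord ha
      exact (Subgroup.mem_centralizer_iff.mp this) e rfl
  have hEA : E ≤ Subgroup.centralizer (A : Set G) := Subgroup.le_centralizer_iff.mp hAE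
  set K : Subgroup G := H ⊓ Subgroup.centralizer (E : Set G) with hK
  have hKp : IsPGroup p K := hH.to_le inf_le_left
  have hAK : A ≤ Subgroup.normalizer (K : Set G) := by
    intro a ha
    rw [Subgroup.mem_normalizer_iff]
    intro x
    have hcent : ∀ y : G, y ∈ Subgroup.centralizer (E : Set G) →
        a * y * a⁻¹ ∈ Subgroup.centralizer (E : Set G) := by
      intro y hy
      rw [Subgroup.mem_centralizer_iff] at hy ⊢
      intro e he
      have hae : a * e = e * a := ((Subgroup.mem_centralizer_iff.mp (hAE ha)) e he).symm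
      have haie : a⁻¹ * e = e * a⁻¹ := by
        have := congrArg (fun t => a⁻¹ * t * a⁻¹) hae
        beta_reduce at this
        rw [show a⁻¹ * (a * e) * a⁻¹ = e * a⁻¹ by group,
          show a⁻¹ * (e * a) * a⁻¹ = a⁻¹ * e by group] at this
        exact this.symm
      have hye := hy e he
      calc e * (a * y * a⁻¹) = a * (e * y) * a⁻¹ := by
            rw [← mul_assoc, ← mul_assoc, ← hae]; group
        _ = a * (y * e) * a⁻¹ := by rw [hye]
        _ = a * y * a⁻¹ * e := by
            rw [mul_assoc a (y * e), mul_assoc y e, ← haie]; group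
    constructor
    · rintro ⟨hxH, hxE⟩
      exact ⟨(Subgroup.mem_normalizer_iff.mp (hA ha) x).mp hxH, hcent x hxE⟩
    · rintro ⟨hxH, hxE⟩
      refine ⟨(Subgroup.mem_normalizer_iff.mp (hA ha) x).mpr hxH, ?_⟩
      -- x = a⁻¹ (a x a⁻¹) a
      have hai : a⁻¹ ∈ A := A.inv_mem ha
      have hcent' : ∀ y : G, y ∈ Subgroup.centralizer (E : Set G) →
          a⁻¹ * y * a⁻¹⁻¹ ∈ Subgroup.centralizer (E : Set G) := by
        intro y hy
        rw [Subgroup.mem_centralizer_iff] at hy ⊢
        intro e he
        have hae : a⁻¹ * e = e * a⁻¹ := ((Subgroup.mem_centralizer_iff.mp (hAE hai)) e he).symm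
        have haie : a * e = e * a := by
          have := congrArg (fun t => a * t * a) hae
          beta_reduce at this
          rw [show a * (a⁻¹ * e) * a = e * a by group,
            show a * (e * a⁻¹) * a = a * e by group] at this
          exact this.symm
        have hye := hy e he
        calc e * (a⁻¹ * y * a⁻¹⁻¹) = a⁻¹ * (e * y) * a := by
              rw [inv_inv, ← mul_assoc, ← mul_assoc, ← hae]; group
          _ = a⁻¹ * (y * e) * a := by rw [hye]
          _ = a⁻¹ * y * a⁻¹⁻¹ * e := by
              rw [inv_inv, mul_assoc a⁻¹ (y * e), mul_assoc y e, ← haie]; group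
      have := hcent' _ hxE
      have e2 : a⁻¹ * (a * x * a⁻¹) * a⁻¹⁻¹ = x := by group
      rwa [e2] at this
  have hAcK : A ≤ Subgroup.centralizer (K : Set G) :=
    Cfsg.Agent.Helper23.le_centralizer_of_centralizes_omega hp K A hKp hAK hcop hfix
  have hKA : K ≤ Subgroup.centralizer (A : Set G) := Subgroup.le_centralizer_iff.mp hAcK
  have hEpg : IsPGroup p E := by
    intro ⟨e, he⟩
    refine ⟨1, ?_⟩
    apply Subtype.ext
    simpa using hEp e he
  exact Cfsg.Agent.Lead.thompson_PQ p E A H hEpg hcop hH hEA
    (hE.trans Subgroup.le_normalizer) hA hKA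

end Cfsg.Agent.S1443
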