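import Mathlib
import Cfsg.Statements.S1449
import Cfsg.Agent.Helper19.RankTwoAut
import Cfsg.Agent.Helper10.Trace

set_option autoImplicit false
open Cfsg

namespace Cfsg.Agent.S1449

/-- Let G be a finite group, p an odd prime, R a p-subgroup with no elementary abelian subgroup of order p ^ 3, and A a solvable subgroup of odd order normalizing R with A ∩ C_G(R) = 1. Then the derived subgroup [A, A] is a p-group. -/
theorem result {G : Type*} [Group G] [Finite G] (p : ℕ) [Fact p.Prime] (hp : p ≠ 2) (R A : Subgroup G) (hR : IsPGroup p R) (hr : Cfsg.PRankLE p 2 R)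
    (hA : (A ≤ Subgroup.normalizer (R : Set G))) (hAs : Group.IsSolvable A) (hAodd : Odd (Nat.card A)) (hfaith : A ⊓ Subgroup.centralizer (R : Set G) = ⊥) :
    IsPGroup p ↥⁅A, A⁆ := by
  let ρ : ↥A →* MulAut ↥R := Cfsg.Agent.Helper10.conjOn R A hA
  have key := Cfsg.Agent.Helper19.RankTwoAut.commutator_pow_eq_one p hp hR hr hAodd ρ
  intro g
  have hg : (g : G) ∈ (commutator ↥A).map A.subtype := by
    rw [Subgroup.map_subtype_commutator]; exact g.2
  obtain ⟨x, hx, hxg⟩ := hg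
  obtain ⟨k, hk⟩ := key x hx
  refine ⟨k, ?_⟩
  rw [← map_pow] at hk
  have hmem : ((x ^ p ^ k : ↥A) : G) ∈ A ⊓ Subgroup.centralizer (R : Set G) := by
    refine ⟨(x ^ p ^ k).2, ?_⟩
    change ((x ^ p ^ k : ↥A) : G) ∈ Subgroup.centralizer (R : Set G)
    rw [Subgroup.mem_centralizer_iff]
    intro r hr'
    have h1 := congrArg (fun f : MulAut ↥R => ((f ⟨r, hr'⟩ : ↥R) : G)) hk
    have h2 : ((x ^ p ^ k : ↥A) : G) * r * ((x ^ p ^ k : ↥A) : G)⁻¹ = r := h1
    calc r * ((x ^ p ^ k : ↥A) : G)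
        = (((x ^ p ^ k : ↥A) : G) * r * ((x ^ p ^ k : ↥A) : G)⁻¹) * ((x ^ p ^ k : ↥A) : G) := by
          rw [h2]
      _ = ((x ^ p ^ k : ↥A) : G) * r := by group
  rw [hfaith, Subgroup.mem_bot] at hmem
  apply Subtype.ext
  rw [Subgroup.coe_pow, Subgroup.coe_one, ← hxg]
  have h3 : ((x ^ p ^ k : ↥A) : G) = (A.subtype x) ^ p ^ k := by
    rw [Subgroup.coe_pow]; rfl
  rw [← h3]
  exact hmem

end Cfsg.Agent.S1449
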