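import Mathlib
import Cfsg.Statements.S1454
import Cfsg.Agent.Helper19.NarrowAut
import Cfsg.Agent.Helper19.CubeCard
import Cfsg.Agent.Helper10.Trace
import Cfsg.Agent.Helper14.PCore
import Cfsg.Agent.Helper26.Thompson
import Cfsg.Agent.Helper29.Schmidt2
import Cfsg.Agent.S1449
import Cfsg.Agent.S0640

set_option autoImplicit false
open Cfsg

namespace Cfsg.Agent.S1454

open Subgroup Cfsg.Agent.Helper19.NarrowAut Cfsg.Agent.Helper26
open scoped commutatorElement

/-- homomorphisms map `commPow` into `commPow` -/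
theorem commPow_map_le {X Y : Type*} [Group X] [Group Y] (p : ℕ) (f : X →* Y) :
    (commPow p X).map f ≤ commPow p Y := by
  rw [Subgroup.map_le_iff_le_comap]
  unfold commPow
  rw [closure_le]
  rintro z (⟨x, y, rfl⟩ | ⟨x, rfl⟩)
  · rw [SetLike.mem_coe, Subgroup.mem_comap, map_commutatorElement]
    exact Subgroup.subset_closure (Or.inl ⟨f x, f y, rfl⟩)
  · rw [SetLike.mem_coe, Subgroup.mem_comap, map_pow]
    exact Subgroup.subset_closure (Or.inr ⟨f x, rfl⟩)

/-- Let G be a finite group, p an odd prime, R a narrow p-subgroup and A a solvable subgroup of odd order normalizing R with A ∩ C_G(R) = 1. Then [A, A] ≤ O_p(A) and the index of O_p(A) in A is coprime to p; if R has an elementary abelian subgroup of order p ^ 3 then the order of every element of A of order coprime to p divides p − 1; and if the order of A is a prime not dividing p(p − 1), then 2·#A divides p + 1, and if in addition [R, A] = R and R is non-abelian then #R = p ^ 3. -/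
theorem result {G : Type*} [Group G] [Finite G] (p : ℕ) [Fact p.Prime] (hp : p ≠ 2) (R A : Subgroup G) (hR : IsPGroup p R) (hRn : Cfsg.IsNarrow p R)
    (hA : (A ≤ Subgroup.normalizer (R : Set G))) (hAs : Group.IsSolvable A) (hAodd : Odd (Nat.card A)) (hfaith : A ⊓ Subgroup.centralizer (R : Set G) = ⊥) :
    (commutator ↥A ≤ Cfsg.pCore p ↥A ∧ ((Cfsg.pCore p ↥A).index).Coprime p) ∧
      (¬ Cfsg.PRankLE p 2 R → ∀ a ∈ A, (orderOf a).Coprime p → orderOf a ∣ p - 1) ∧
      ((Nat.card A).Prime → ¬ Nat.card A ∣ p * (p - 1) →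
        2 * Nat.card A ∣ p + 1 ∧ (⁅R, A⁆ = R → ¬ IsMulCommutative R → Nat.card R = p ^ 3)) := by
  classical
  have hpp : p.Prime := Fact.out
  -- the ambient group `X = N_G(R)`
  set Nr : Subgroup G := Subgroup.normalizer (R : Set G) with hNrdef
  have hRNr : R ≤ Nr := Subgroup.le_normalizer
  let φ : ↥R →* ↥Nr := Subgroup.inclusion hRNr
  have hφinj : Function.Injective φ := Subgroup.inclusion_injective hRNr
  have hφrange : φ.range = R.subgroupOf Nr := by
    ext y
    constructor
    · rintro ⟨s, rfl⟩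
      exact Subgroup.mem_subgroupOf.mpr s.2
    · intro hy
      exact ⟨⟨y, Subgroup.mem_subgroupOf.mp hy⟩, Subtype.ext rfl⟩
  have hPn : (R.subgroupOf Nr).Normal := Subgroup.normal_in_normalizer
  have hφnorm : φ.range.Normal := by rw [hφrange]; exact hPn
  let ι : ↥A →* ↥Nr := Subgroup.inclusion hA
  -- in the rank `≥ 3` case `commPow p A` is a `p`-group
  have hCP : ¬ Cfsg.PRankLE p 2 R → IsPGroup p ↥(commPow p ↥A) := by
    intro hrk
    rintro ⟨y, hy⟩
    have hy' : ι y ∈ commPow p ↥Nr := commPow_map_le p ι ⟨y, hy, rfl⟩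
    obtain ⟨a, ha⟩ := exists_pow_centralizes_of_isNarrow hp hR hRn hrk φ hφinj hφnorm (ι y) hy'
    refine ⟨a, ?_⟩
    apply Subtype.ext
    apply Subtype.ext
    have h0 : ((y : G) ^ p ^ a) ∈ Subgroup.centralizer (R : Set G) := by
      rw [Subgroup.mem_centralizer_iff]
      intro s hs
      have h2 : s * (y : G) ^ p ^ a = (y : G) ^ p ^ a * s := congrArg Subtype.val (ha ⟨s, hs⟩)
      exact h2
    have h1 : ((y : G) ^ p ^ a) ∈ A ⊓ Subgroup.centralizer (R : Set G) :=
      ⟨A.pow_mem y.2 _, h0⟩
    rw [hfaith, Subgroup.mem_bot] at h1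
    simpa using h1
  -- the derived group of `A` is a `p`-group
  have hcommP : IsPGroup p ↥(commutator ↥A) := by
    by_cases hrk : Cfsg.PRankLE p 2 R
    · have h1 := Cfsg.Agent.S1449.result p hp R A hR hrk hA hAs hAodd hfaith
      rintro ⟨g, hg⟩
      have hg' : (g : G) ∈ ⁅A, A⁆ := by
        rw [← Subgroup.map_subtype_commutator]
        exact ⟨g, hg, rfl⟩
      obtain ⟨k, hk⟩ := h1 ⟨_, hg'⟩
      refine ⟨k, ?_⟩
      apply Subtype.ext
      apply Subtype.ext
      have h2 := congrArg Subtype.val hk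
      simpa using h2
    · apply (hCP hrk).to_le
      rw [_root_.commutator_def, Subgroup.commutator_le]
      intro x _ y _
      exact Subgroup.subset_closure (Or.inl ⟨x, y, rfl⟩)
  have hcommle : commutator ↥A ≤ Cfsg.pCore p ↥A :=
    Cfsg.Agent.Helper14.le_pCore p inferInstance hcommP
  refine ⟨⟨hcommle, ?_⟩, ?_, ?_⟩
  · obtain ⟨S⟩ : Nonempty (Sylow p ↥A) := inferInstance
    have hRS : Cfsg.pCore p ↥A ≤ (S : Subgroup ↥A) := Cfsg.Agent.Helper14.pCore_le_sylow p S
    have hSn : (S : Subgroup ↥A).Normal :=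
      Cfsg.Agent.Helper29.normal_of_commutator_le (hcommle.trans hRS)
    have hSR : (S : Subgroup ↥A) ≤ Cfsg.pCore p ↥A := Cfsg.Agent.Helper14.le_pCore p hSn S.2
    have hEq : Cfsg.pCore p ↥A = (S : Subgroup ↥A) := le_antisymm hRS hSR
    rw [hEq]
    exact ((Nat.Prime.coprime_iff_not_dvd hpp).mpr S.not_dvd_index).symm
  · intro hrk a ha hcop
    have h1 : (⟨a, ha⟩ : ↥A) ^ (p - 1) ∈ commPow p ↥A :=
      Subgroup.subset_closure (Or.inr ⟨⟨a, ha⟩, rfl⟩)
    obtain ⟨j, hj⟩ := hCP hrk ⟨_, h1⟩
    have h2 : (a ^ (p - 1)) ^ p ^ j = 1 := by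
      have := congrArg Subtype.val (congrArg Subtype.val hj)
      simpa using this
    have h3 : (a ^ (p - 1)) ^ orderOf a = 1 := by
      rw [← pow_mul, mul_comm, pow_mul, pow_orderOf_eq_one, one_pow]
    have h4 := pow_gcd_eq_one.mpr ⟨h2, h3⟩
    have h5 : Nat.gcd (p ^ j) (orderOf a) = 1 := (Nat.Coprime.pow_right j hcop).symm
    rw [h5, pow_one] at h4
    exact orderOf_dvd_of_pow_eq_one h4
  · intro hq hqn
    set q := Nat.card A with hqdef
    have hqp : q ≠ p := by
      intro h
      apply hqn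
      rw [h]; exact dvd_mul_right p (p - 1)
    have hqp1 : ¬ q ∣ p - 1 := fun h => hqn (h.mul_left p)
    have hqcop : q.Coprime p := (Nat.coprime_primes hq hpp).mpr hqp
    -- the rank of `R` is at most two
    have hrk : Cfsg.PRankLE p 2 R := by
      by_contra hrk
      have hne : ∃ a ∈ A, a ≠ 1 := by
        by_contra hcon
        push Not at hcon
        have h1 : A = ⊥ := by
          rw [eq_bot_iff]
          intro a ha
          rw [Subgroup.mem_bot]; exact hcon a ha
        have h2 : Nat.card A = 1 := by rw [h1]; exact Subgroup.card_bot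
        rw [← hqdef] at h2
        rw [h2] at hq
        exact Nat.not_prime_one hq
      obtain ⟨a, ha, ha1⟩ := hne
      have hord : orderOf a = q := by
        have h1 : orderOf a ∣ q := Subgroup.orderOf_dvd_natCard A ha
        rcases (Nat.dvd_prime hq).mp h1 with h | h
        · exact absurd (orderOf_eq_one_iff.mp h) ha1
        · exact h
      have h2 : orderOf a ∣ p - 1 := by
        have hCPrk := hCP hrk
        have h1 : (⟨a, ha⟩ : ↥A) ^ (p - 1) ∈ commPow p ↥A :=
          Subgroup.subset_closure (Or.inr ⟨⟨a, ha⟩, rfl⟩)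
        obtain ⟨j, hj⟩ := hCPrk ⟨_, h1⟩
        have h2 : (a ^ (p - 1)) ^ p ^ j = 1 := by
          have := congrArg Subtype.val (congrArg Subtype.val hj)
          simpa using this
        have h3 : (a ^ (p - 1)) ^ orderOf a = 1 := by
          rw [← pow_mul, mul_comm, pow_mul, pow_orderOf_eq_one, one_pow]
        have h4 := pow_gcd_eq_one.mpr ⟨h2, h3⟩
        have h5 : Nat.gcd (p ^ j) (orderOf a) = 1 := by
          rw [hord]; exact (Nat.Coprime.pow_right j hqcop).symm
        rw [h5, pow_one] at h4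
        exact orderOf_dvd_of_pow_eq_one h4
      rw [hord] at h2
      exact hqp1 h2
    -- `q ∣ p + 1`
    have hqdvd : q ∣ p + 1 := by
      let ρ : ↥A →* MulAut ↥R := Cfsg.Agent.Helper10.conjOn R A hA
      have hρinj : Function.Injective ρ := by
        rw [injective_iff_map_eq_one]
        intro a ha
        have h0 : (a : G) ∈ Subgroup.centralizer (R : Set G) := by
          rw [Subgroup.mem_centralizer_iff]
          intro r hr
          have h2 := congrArg (fun f : MulAut ↥R => ((f ⟨r, hr⟩ : ↥R) : G)) ha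
          have h3 : (a : G) * r * (a : G)⁻¹ = r := h2
          calc r * (a : G) = ((a : G) * r * (a : G)⁻¹) * (a : G) := by rw [h3]
            _ = (a : G) * r := by group
        have h1 : (a : G) ∈ A ⊓ Subgroup.centralizer (R : Set G) := ⟨a.2, h0⟩
        rw [hfaith, Subgroup.mem_bot] at h1
        exact Subtype.ext h1
      have h1 : q ∣ Nat.card (MulAut ↥R) := Subgroup.card_dvd_of_injective ρ hρinj
      have h2 := (Cfsg.Agent.S0640.result hp hR hrk q hq hqp h1).1
      have h3 : p ^ 2 - 1 = (p - 1) * (p + 1) := by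
        have h4 : 1 ≤ p := hpp.one_le
        zify [h4, Nat.one_le_pow 2 p h4]
        ring
      rw [h3] at h2
      rcases (Nat.Prime.dvd_mul hq).mp h2 with h | h
      · exact absurd h hqp1
      · exact h
    have hqodd : Odd q := hAodd
    have h2q : 2 * q ∣ p + 1 := by
      apply Nat.Coprime.mul_dvd_of_dvd_of_dvd
      · exact (Nat.coprime_primes Nat.prime_two hq).mpr (by
          intro h; rw [← h] at hqodd; exact absurd hqodd (by decide))
      · have hpodd : Odd p := hpp.odd_of_ne_two hp
        exact even_iff_two_dvd.mp (hpodd.add_one)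
      · exact hqdvd
    refine ⟨h2q, ?_⟩
    intro hRA hnonab
    -- `p > 3`
    have hp3 : 3 < p := by
      have hq3 : 3 ≤ q := by
        have := hq.two_le
        rcases hqodd with ⟨m, hm⟩
        omega
      have h6 : 2 * q ≤ p + 1 := Nat.le_of_dvd (by omega) h2q
      omega
    -- work in `X = N_G(R)`
    set P : Subgroup ↥Nr := R.subgroupOf Nr with hPdef
    set A' : Subgroup ↥Nr := A.subgroupOf Nr with hA'def
    haveI : P.Normal := hPn
    have hPp : IsPGroup p ↥P := hR.comap_subtype
    have hA'card : Nat.card A' = q :=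
      Nat.card_congr (Subgroup.subgroupOfEquivOfLe hA).toEquiv
    have hPcard : Nat.card P = Nat.card R :=
      Nat.card_congr (Subgroup.subgroupOfEquivOfLe hRNr).toEquiv
    have hrk' : ∀ E : Subgroup ↥Nr, E ≤ P → (∀ a ∈ E, ∀ b ∈ E, a * b = b * a) →
        (∀ a ∈ E, a ^ p = 1) → Nat.card E ≤ p ^ 2 := by
      intro E hEP hEc hEe
      have hEel : IsElementaryAbelian p E := isElementaryAbelian_iff.mpr ⟨hEc, hEe⟩
      have h1 : IsElementaryAbelian p (E.map Nr.subtype) := isElementaryAbelian_map _ hEel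
      have h2 : E.map Nr.subtype ≤ R := by
        rintro _ ⟨e, he, rfl⟩
        exact Subgroup.mem_subgroupOf.mp (hEP he)
      have h3 := isElementaryAbelian_subgroupOf R h1
      have h4 := hrk _ h3.1 h3.2
      rw [card_subgroupOf_of_le h2, Subgroup.card_map_of_injective Nr.subtype_injective] at h4
      exact h4
    have hsec : ∀ a ∈ A', ∀ N N₀ : Subgroup ↥Nr, N.Normal → N₀.Normal → N₀ ≤ N → N ≤ P →
        Nat.card N = p * Nat.card N₀ → ∀ n ∈ N, ⁅n, a⁆ ∈ N₀ := by
      intro a ha N N₀ hNn hN₀n hle _ hcard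
      haveI := hNn
      haveI := hN₀n
      apply commutator_mem_of_mem_commPow N N₀ hle hcard a
      -- `a` is a power of `a ^ (p - 1)`
      have haq : a ^ q = 1 := by
        have h1 : (⟨a, ha⟩ : ↥A') ^ Nat.card A' = 1 := pow_card_eq_one'
        rw [hA'card] at h1
        have h2 := congrArg Subtype.val h1
        simpa using h2
      have hcop1 : Nat.Coprime (p - 1) q := ((Nat.Prime.coprime_iff_not_dvd hq).mpr hqp1).symm
      obtain ⟨m, -, hm⟩ := Nat.exists_mul_mod_eq_one_of_coprime hcop1 hq.one_lt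
      have h3 : (a ^ (p - 1)) ^ m = a := by
        rw [← pow_mul]
        have h4 : (p - 1) * m = q * ((p - 1) * m / q) + 1 := by
          have := Nat.div_add_mod ((p - 1) * m) q
          omega
        rw [h4, pow_succ, pow_mul, haq, one_pow, one_mul]
      rw [← h3]
      exact (commPow p ↥Nr).pow_mem (Subgroup.subset_closure (Or.inr ⟨a, rfl⟩)) m
    have hPA' : ⁅P, A'⁆ = P := by
      apply Subgroup.map_injective Nr.subtype_injective
      rw [Subgroup.map_commutator, hPdef, hA'def, Subgroup.subgroupOf_map_subtype,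
        Subgroup.subgroupOf_map_subtype, inf_eq_left.mpr hRNr, inf_eq_left.mpr hA, hRA]
    have hnonab' : ∃ x ∈ P, ∃ y ∈ P, x * y ≠ y * x := by
      by_contra hcon
      push Not at hcon
      apply hnonab
      refine ⟨⟨fun x y => ?_⟩⟩
      have h1 := hcon ⟨x, hRNr x.2⟩ (Subgroup.mem_subgroupOf.mpr x.2) ⟨y, hRNr y.2⟩
        (Subgroup.mem_subgroupOf.mpr y.2)
      apply Subtype.ext
      have h2 := congrArg Subtype.val h1
      simpa using h2
    have hfin := Cfsg.Agent.Helper19.CubeCard.card_eq_cube hp3 P hPp hrk' A'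
      (by rw [hA'card]; exact hqcop) hsec hPA' hnonab'
    rw [← hPcard]; exact hfin

end Cfsg.Agent.S1454
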