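import Cfsg.Statements.S4143
import Cfsg.Agent.Helper9.MaxClass
import Cfsg.Agent.Helper21.MinClass

set_option autoImplicit false
open Cfsg
open scoped commutatorElement
set_option linter.style.haveILetI false

namespace Cfsg.Agent.S4143

/-- Let X be a finite p-group of order p^n containing a non-abelian subgroup B of order p³ with C_X(B) ≤ B. Then X has nilpotency class n − 1 (maximal class). -/
theorem result {X : Type*} [Group X] [Finite X] {p : ℕ} [Fact p.Prime] (n : ℕ) (hX : Nat.card X = p ^ n)
    (B : Subgroup X) (hB : Nat.card B = p ^ 3) (hBna : ¬ IsMulCommutative B) (hC : Subgroup.centralizer (B : Set X) ≤ B) :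
    Group.nilpotencyClass X = n - 1 := by
  classical
  have hp : p.Prime := Fact.out
  have hXp : IsPGroup p X := IsPGroup.of_card hX
  haveI hnil : Group.IsNilpotent X := hXp.isNilpotent
  have hBp : IsPGroup p B := hXp.to_subgroup B
  have hBnt : Nontrivial B := by
    rw [← Finite.one_lt_card_iff_nontrivial, hB]
    exact Nat.one_lt_pow (by norm_num) hp.one_lt
  haveI hXnt : Nontrivial X := by
    obtain ⟨a, b, hab⟩ := hBnt
    exact ⟨⟨a, b, fun h => hab (Subtype.ext h)⟩⟩
  have hn3 : 3 ≤ n := by
    have := Subgroup.card_subgroup_dvd_card B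
    rw [hB, hX] at this
    exact (Nat.pow_dvd_pow_iff_le_right hp.one_lt).mp this
  set Z := Subgroup.center X with hZ
  have hZB : Z ≤ B := le_trans (Subgroup.center_le_centralizer _) hC
  -- order of the centre of B
  have hcB : Nat.card (Subgroup.center B) = p := by
    obtain ⟨j, hj3, hj⟩ := (Nat.dvd_prime_pow hp).mp
      (hB ▸ Subgroup.card_subgroup_dvd_card (Subgroup.center B))
    have hj0 : j ≠ 0 := by
      rintro rfl
      rw [pow_zero] at hj
      have := hBp.center_nontrivial
      rw [← Finite.one_lt_card_iff_nontrivial] at this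
      omega
    have hj3' : j ≠ 3 := by
      rintro rfl
      apply hBna
      have htop : Subgroup.center B = ⊤ := Subgroup.eq_top_of_card_eq _ (by rw [hj, hB])
      refine ⟨⟨fun a b => ?_⟩⟩
      have : b ∈ Subgroup.center B := htop ▸ Subgroup.mem_top b
      exact (Subgroup.mem_center_iff.mp this a)
    have hj2 : j ≠ 2 := by
      rintro rfl
      apply hBna
      have hq : Nat.card (↥B ⧸ Subgroup.center B) = p := by
        have := Subgroup.card_eq_card_quotient_mul_card_subgroup (Subgroup.center B)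
        rw [hB, hj] at this
        have h2 : p ^ 3 = p * p ^ 2 := by ring
        rw [h2] at this
        exact (Nat.eq_of_mul_eq_mul_right (pow_pos hp.pos 2) this).symm
      haveI : IsCyclic (↥B ⧸ Subgroup.center B) := isCyclic_of_prime_card hq
      exact MonoidHom.isMulCommutative_of_isCyclic_of_ker_le_center
        (QuotientGroup.mk' (Subgroup.center B)) (by rw [QuotientGroup.ker_mk'])
    have : j = 1 := by omega
    rw [hj, this, pow_one]
  -- Z has order p and Z.subgroupOf B is the centre of B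
  have hZ'le : Z.subgroupOf B ≤ Subgroup.center B := by
    intro b hb
    rw [Subgroup.mem_subgroupOf] at hb
    rw [Subgroup.mem_center_iff]
    intro g
    apply Subtype.ext
    exact Subgroup.mem_center_iff.mp hb g
  have hZcard' : Nat.card (Z.subgroupOf B) = Nat.card Z :=
    Nat.card_congr (Subgroup.subgroupOfEquivOfLe hZB).toEquiv
  have hZnt : Nontrivial Z := hXp.center_nontrivial
  have hZcard : Nat.card Z = p := by
    have h1 : Nat.card Z ∣ p := by
      rw [← hZcard', ← hcB]; exact Subgroup.card_dvd_of_le hZ'le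
    rcases (Nat.dvd_prime hp).mp h1 with h | h
    · rw [← Finite.one_lt_card_iff_nontrivial] at hZnt; omega
    · exact h
  have hZ'eq : Z.subgroupOf B = Subgroup.center B :=
    Subgroup.eq_of_le_of_card_ge hZ'le (by rw [hZcard', hZcard, hcB])
  have hCZ : Subgroup.centralizer (B : Set X) ≤ Z := by
    intro c hc
    have hcB' : c ∈ B := hC hc
    have : (⟨c, hcB'⟩ : B) ∈ Subgroup.center B := by
      rw [Subgroup.mem_center_iff]
      intro g
      apply Subtype.ext
      exact (Subgroup.mem_centralizer_iff.mp hc g g.2)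
    rw [← hZ'eq, Subgroup.mem_subgroupOf] at this
    exact this
  -- the image of B in X ⧸ Z
  set f := QuotientGroup.mk' Z with hf
  have hker : f.ker = Z := QuotientGroup.ker_mk' Z
  set Bbar := B.map f with hBbar
  have hBbarcard : Nat.card Bbar = p ^ 2 := by
    have h1 := Subgroup.relIndex_ker f (K := B)
    rw [hker] at h1
    have h2 := Cfsg.Agent.Helper21.MinClass.card_mul_relIndex_of_le hZB
    rw [hZcard, hB, h1] at h2
    have h3 : p ^ 3 = p * p ^ 2 := by ring
    rw [h3] at h2
    exact Nat.eq_of_mul_eq_mul_left hp.pos h2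
  have hBbarcomm : ∀ x ∈ Bbar, ∀ y ∈ Bbar, x * y = y * x := by
    intro x hx y hy
    have := (IsPGroup.isMulCommutative_of_card_eq_prime_sq hBbarcard).is_comm.comm
      ⟨x, hx⟩ ⟨y, hy⟩
    exact congrArg Subtype.val this
  have hBle : Bbar ≤ Subgroup.centralizer (Bbar : Set (X ⧸ Z)) := by
    intro x hx
    rw [Subgroup.mem_centralizer_iff]
    intro y hy
    exact hBbarcomm y hy x hx
  -- commutators of elements of B lie in Z
  have hcomm_mem : ∀ c : X, f c ∈ Subgroup.centralizer (Bbar : Set (X ⧸ Z)) → ∀ a ∈ B,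
      ⁅c, a⁆ ∈ Z := by
    intro c hc a ha
    rw [← hker, MonoidHom.mem_ker, map_commutatorElement, commutatorElement_eq_one_iff_mul_comm]
    exact (Subgroup.mem_centralizer_iff.mp hc (f a) (Subgroup.mem_map_of_mem f ha)).symm
  -- noncommuting generators of B
  obtain ⟨a₁, ha₁, a₂, ha₂, hne⟩ : ∃ a₁ ∈ B, ∃ a₂ ∈ B, a₁ * a₂ ≠ a₂ * a₁ := by
    by_contra hcon
    push Not at hcon
    apply hBna
    exact ⟨⟨fun a b => Subtype.ext (hcon a a.2 b b.2)⟩⟩
  have hclos : Subgroup.closure ({a₁, a₂} : Set X) = B := by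
    have hle : Subgroup.closure ({a₁, a₂} : Set X) ≤ B := by
      rw [Subgroup.closure_le]
      rintro x (rfl | rfl)
      · exact ha₁
      · exact ha₂
    apply Subgroup.eq_of_le_of_card_ge hle
    obtain ⟨j, hj3, hj⟩ := (Nat.dvd_prime_pow hp).mp (hB ▸ Subgroup.card_dvd_of_le hle)
    rw [hB, hj]
    apply Nat.pow_le_pow_right hp.pos
    by_contra hj'
    have hj2 : j ≤ 2 := by omega
    have hm1 : a₁ ∈ Subgroup.closure ({a₁, a₂} : Set X) :=
      Subgroup.subset_closure (by simp)
    have hm2 : a₂ ∈ Subgroup.closure ({a₁, a₂} : Set X) :=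
      Subgroup.subset_closure (by simp)
    have hcommK : ∀ x y : Subgroup.closure ({a₁, a₂} : Set X), x * y = y * x := by
      rcases Nat.lt_or_ge j 2 with h | h
      · -- order 1 or p: cyclic
        have hj1 : j ≤ 1 := by omega
        interval_cases j
        · rw [pow_zero] at hj
          haveI : Subsingleton (Subgroup.closure ({a₁, a₂} : Set X)) :=
            (Nat.card_eq_one_iff_unique.mp hj).1
          intro x y
          exact Subsingleton.elim _ _
        · rw [pow_one] at hj
          haveI : IsCyclic (Subgroup.closure ({a₁, a₂} : Set X)) := isCyclic_of_prime_card hj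
          intro x y
          exact (IsCyclic.isMulCommutative).is_comm.comm x y
      · have hj2' : j = 2 := by omega
        rw [hj2'] at hj
        exact (IsPGroup.isMulCommutative_of_card_eq_prime_sq hj).is_comm.comm
    exact hne (congrArg Subtype.val (hcommK ⟨a₁, hm1⟩ ⟨a₂, hm2⟩))
  set Cs := (Subgroup.centralizer (Bbar : Set (X ⧸ Z))).comap f with hCs
  have hBCs : B ≤ Cs := fun b hb => hBle (Subgroup.mem_map_of_mem f hb)
  have hcent : ∀ g : X, g * a₁ = a₁ * g → g * a₂ = a₂ * g → g ∈ Z := by
    intro g h1 h2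
    apply hCZ
    rw [← hclos, Subgroup.centralizer_closure, Subgroup.mem_centralizer_iff]
    rintro x (rfl | rfl)
    · exact h1.symm
    · exact h2.symm
  have hconj_of_comm : ∀ c d a : X, ⁅d, a⁆ = ⁅c, a⁆ → d⁻¹ * c * a = a * (d⁻¹ * c) := by
    intro c d a h
    rw [commutatorElement_def, commutatorElement_def] at h
    have h' : d * a * d⁻¹ = c * a * c⁻¹ := mul_right_cancel h
    calc d⁻¹ * c * a = d⁻¹ * (c * a * c⁻¹) * c := by group
      _ = d⁻¹ * (d * a * d⁻¹) * c := by rw [h']
      _ = a * (d⁻¹ * c) := by group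
  have hCscard : Nat.card Cs ≤ p ^ 3 := by
    let pair : X → X × X := fun c => (⁅c, a₁⁆, ⁅c, a₂⁆)
    let c₀ : X × X → X := fun y =>
      if h : ∃ c ∈ Cs, pair c = y then Classical.choose h else 1
    have hc₀ : ∀ c ∈ Cs, c₀ (pair c) ∈ Cs ∧ pair (c₀ (pair c)) = pair c := by
      intro c hc
      have h : ∃ c' ∈ Cs, pair c' = pair c := ⟨c, hc, rfl⟩
      simp only [c₀, dif_pos h]
      exact Classical.choose_spec h
    have hmemZ : ∀ c : Cs, (c₀ (pair c))⁻¹ * (c : X) ∈ Z := by
      intro c
      obtain ⟨h1, h2⟩ := hc₀ c c.2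
      have e1 : ⁅c₀ (pair c), a₁⁆ = ⁅(c : X), a₁⁆ := congrArg Prod.fst h2
      have e2 : ⁅c₀ (pair c), a₂⁆ = ⁅(c : X), a₂⁆ := congrArg Prod.snd h2
      exact hcent _ (hconj_of_comm _ _ _ e1) (hconj_of_comm _ _ _ e2)
    let g : Cs → (Z × Z) × Z := fun c =>
      ((⟨⁅(c : X), a₁⁆, hcomm_mem c c.2 a₁ ha₁⟩, ⟨⁅(c : X), a₂⁆, hcomm_mem c c.2 a₂ ha₂⟩),
        ⟨(c₀ (pair c))⁻¹ * (c : X), hmemZ c⟩)
    have hg : Function.Injective g := by
      intro c c' hcc
      have h1 : ⁅(c : X), a₁⁆ = ⁅(c' : X), a₁⁆ :=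
        congrArg (fun t : (Z × Z) × Z => ((t.1.1 : Z) : X)) hcc
      have h2 : ⁅(c : X), a₂⁆ = ⁅(c' : X), a₂⁆ :=
        congrArg (fun t : (Z × Z) × Z => ((t.1.2 : Z) : X)) hcc
      have h3 : (c₀ (pair c))⁻¹ * (c : X) = (c₀ (pair c'))⁻¹ * (c' : X) :=
        congrArg (fun t : (Z × Z) × Z => ((t.2 : Z) : X)) hcc
      have hp' : pair c = pair c' := Prod.ext h1 h2
      rw [hp'] at h3
      exact Subtype.ext (mul_left_cancel h3)
    have := Nat.card_le_card_of_injective g hg
    rw [Nat.card_prod, Nat.card_prod, hZcard] at this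
    calc Nat.card Cs ≤ p * p * p := this
      _ = p ^ 3 := by ring
  have hCsB : Cs = B := (Subgroup.eq_of_le_of_card_ge hBCs (by rw [hB]; exact hCscard)).symm
  have hcentBbar : Subgroup.centralizer (Bbar : Set (X ⧸ Z)) = Bbar := by
    have hsurj : Function.Surjective f := QuotientGroup.mk'_surjective Z
    calc Subgroup.centralizer (Bbar : Set (X ⧸ Z))
        = ((Subgroup.centralizer (Bbar : Set (X ⧸ Z))).comap f).map f :=
          (Subgroup.map_comap_eq_self_of_surjective hsurj _).symm
      _ = Cs.map f := rfl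
      _ = B.map f := by rw [hCsB]
  -- apply Suzuki's lemma to X ⧸ Z
  have hQcard : Nat.card (X ⧸ Z) = p ^ (n - 1) := by
    have := Subgroup.card_eq_card_quotient_mul_card_subgroup Z
    rw [hX, hZcard] at this
    have h2 : p ^ n = p ^ (n - 1) * p := by
      rw [← pow_succ]; congr 1; omega
    rw [h2] at this
    exact (Nat.eq_of_mul_eq_mul_right hp.pos this).symm
  have hQclass : Group.nilpotencyClass (X ⧸ Z) = n - 1 - 1 :=
    Cfsg.Agent.Helper9.nilpotencyClass_of_self_centralizing_sq (n - 1) hQcard Bbar hBbarcard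
      hcentBbar
  have := Group.nilpotencyClass_eq_quotient_center_plus_one (G := X)
  rw [this]
  have h3 : Group.nilpotencyClass (X ⧸ Subgroup.center X) = n - 1 - 1 := hQclass
  rw [h3]
  omega

end Cfsg.Agent.S4143
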