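import Cfsg.Statements.S1246
import Cfsg.Agent.Helper10.CharP

set_option autoImplicit false
open Cfsg

namespace Cfsg.Agent.S1246

/-- Let V ≤ U be p-subgroups of the finite group G. If the generalized Fitting subgroup of C_G(V) is a p-group, then so is that of C_G(U). -/
theorem result {G : Type*} [Group G] [Finite G] {p : ℕ} [Fact p.Prime] (U V : Subgroup G) (hVU : V ≤ U) (hU : IsPGroup p U) (hV : IsPGroup p ↥(Cfsg.generalizedFittingSubgroup ↥(Subgroup.centralizer (V : Set G)))) : IsPGroup p ↥(Cfsg.generalizedFittingSubgroup ↥(Subgroup.centralizer (U : Set G))) := by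
  classical
  -- strong induction on the index
  suffices key : ∀ n : ℕ, ∀ V : Subgroup G, V ≤ U → Nat.card U - Nat.card V = n →
      Cfsg.generalizedFittingSubgroup ↥(Subgroup.centralizer (V : Set G)) =
        Cfsg.pCore p ↥(Subgroup.centralizer (V : Set G)) →
      Cfsg.generalizedFittingSubgroup ↥(Subgroup.centralizer (U : Set G)) =
        Cfsg.pCore p ↥(Subgroup.centralizer (U : Set G)) by
    exact Cfsg.Agent.Helper10.isPGroup_fstar_of_eq
      (key _ V hVU rfl (Cfsg.Agent.Helper10.fstar_eq_pCore_of_isPGroup hV))
  intro n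
  induction n using Nat.strong_induction_on with
  | _ n ih =>
    intro V hVU hn hV
    by_cases hEq : V = U
    · subst hEq; exact hV
    · have hlt : V < U := lt_of_le_of_ne hVU hEq
      have hlt' := Cfsg.Agent.Helper11.lt_inf_normalizer U V hU hlt
      have hV1U : U ⊓ Subgroup.normalizer (V : Set G) ≤ U := inf_le_left
      have hV1p : IsPGroup p ↥(U ⊓ Subgroup.normalizer (V : Set G)) := hU.to_le hV1U
      have hstep := Cfsg.Agent.Helper10.charP_centralizer_step hV1p
        (M := Subgroup.centralizer (V : Set G))
        (Cfsg.Agent.Helper10.le_normalizer_centralizer_of_le inf_le_right)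
        (Subgroup.centralizer_le (by exact_mod_cast hlt'.le)) hV
      have hcard : Nat.card ↥V < Nat.card ↥(U ⊓ Subgroup.normalizer (V : Set G)) := by
        apply Set.ncard_lt_ncard (show (V : Set G) ⊂ _ from hlt') (Set.toFinite _)
      have hcard2 : Nat.card ↥(U ⊓ Subgroup.normalizer (V : Set G)) ≤ Nat.card ↥U :=
        Subgroup.card_le_of_le hV1U
      exact ih (Nat.card U - Nat.card ↥(U ⊓ Subgroup.normalizer (V : Set G))) (by omega)
        _ hV1U rfl hstep

end Cfsg.Agent.S1246
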