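import Mathlib
import Cfsg.Statements.S0938
import Cfsg.Agent.Helper5.BlockSupport
import Cfsg.Agent.Helper5.PPrimeNormal
import Cfsg.Agent.Helper5.CharKer

set_option autoImplicit false
open Cfsg

namespace Cfsg.Agent.S0938

open Cfsg.Agent.Helper5 Cfsg.Agent.Helper5.CC Cfsg.Agent.Helper5.Loc Cfsg.Agent.Helper24

/-- The coefficient of `1` in a nonempty block idempotent is nonzero. -/
theorem blockCoeff_one_ne_zero {G : Type*} [Group G] [Fintype G] [Fintype (IrrCharacter G)]
    (B : Set (IrrCharacter G)) (χ : IrrCharacter G) (hχ : χ ∈ B) : blockCoeff B 1 ≠ 0 := by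
  classical
  rw [blockCoeff_eq]
  have hcard : (Nat.card G : ℂ)⁻¹ ≠ 0 := by
    apply inv_ne_zero
    have : 0 < Nat.card G := Nat.card_pos
    exact_mod_cast this.ne'
  apply mul_ne_zero hcard
  have h1 : ∑ ψ : IrrCharacter G, (if ψ ∈ B then (1 : ℂ) else 0) *
      ((ψ : G → ℂ) 1 * (starRingEnd ℂ) ((ψ : G → ℂ) 1)) =
      ((∑ ψ : IrrCharacter G, (if ψ ∈ B then irrDeg ψ * irrDeg ψ else 0) : ℕ) : ℂ) := by
    push_cast
    refine Finset.sum_congr rfl fun ψ _ => ?_
    rw [irrDeg_spec]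
    split_ifs <;> simp
  rw [h1]
  have h2 : 0 < ∑ ψ : IrrCharacter G, (if ψ ∈ B then irrDeg ψ * irrDeg ψ else 0) := by
    apply lt_of_lt_of_le _ (Finset.single_le_sum (f := fun ψ : IrrCharacter G =>
      if ψ ∈ B then irrDeg ψ * irrDeg ψ else 0) (fun _ _ => Nat.zero_le _) (Finset.mem_univ χ))
    simp only [if_pos hχ]
    exact Nat.mul_pos (irrDeg_pos χ) (irrDeg_pos χ)
  exact_mod_cast h2.ne'

/-- Let B be a block of the finite group G relative to a maximal ideal M of the algebraic integers containing the prime p, and let χ ∈ B. Then the kernel of B (the set of g with ψ g = ψ 1 for all ψ ∈ B) is a normal subgroup of order prime to p contained in the kernel of χ, and it contains every normal subgroup of order prime to p on which χ takes the value χ(1); that is, it is O_p' of the kernel of χ. -/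
theorem result {G : Type*} [Group G] [Finite G] (p : ℕ) [Fact p.Prime] (M : Ideal Cfsg.AlgInt) (hM : Cfsg.IsPModular p M) (B : Set (Cfsg.IrrCharacter G)) (hB : Cfsg.IsPBlock M B) (χ : Cfsg.IrrCharacter G) (hχ : χ ∈ B) : ∃ K : Subgroup G, K.Normal ∧ (K : Set G) = Cfsg.blockKer B ∧ ¬ p ∣ Nat.card K ∧ (∀ g ∈ K, (χ : G → ℂ) g = (χ : G → ℂ) 1) ∧ ∀ N : Subgroup G, N.Normal → ¬ p ∣ Nat.card N → (∀ g ∈ N, (χ : G → ℂ) g = (χ : G → ℂ) 1) → N ≤ K := by
  classical
  have : Fintype G := Fintype.ofFinite G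
  have : Fintype (IrrCharacter G) := Fintype.ofFinite _
  have hMp := isPrime_of_isPModular hM
  have hmemK : ∀ g : G, g ∈ (⨅ ψ : B, charKer (ψ : IrrCharacter G)) ↔
      ∀ ψ ∈ B, (ψ : G → ℂ) g = (ψ : G → ℂ) 1 := by
    intro g
    rw [Subgroup.mem_iInf]
    constructor
    · intro h ψ hψ
      exact h ⟨ψ, hψ⟩
    · intro h ψ
      exact h ψ.1 ψ.2
  refine ⟨⨅ ψ : B, charKer (ψ : IrrCharacter G), Subgroup.normal_iInf_normal (fun ψ => inferInstance),
    ?_, ?_, ?_, ?_⟩
  · ext g
    rw [SetLike.mem_coe, hmemK]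
    rfl
  · intro hdvd
    obtain ⟨z, hz⟩ := exists_prime_orderOf_dvd_card' p hdvd
    have hzK := (hmemK (z : G)).mp z.2
    have hzord : orderOf (z : G) = p := by
      rw [Subgroup.orderOf_coe, hz]
    have h0 := blockCoeff_eq_zero_of_singular hM hB (z : G) (by rw [hzord])
    have h1 : blockCoeff B (z : G) = blockCoeff B 1 := by
      unfold blockCoeff
      congr 1
      apply finsum_mem_congr rfl
      intro ψ hψ
      rw [hzK ψ hψ]
    rw [h1] at h0
    exact blockCoeff_one_ne_zero B χ hχ h0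
  · intro g hg
    exact (hmemK g).mp hg χ hχ
  · intro N hN hpN hχN g hg
    rw [hmemK]
    intro ψ hψ
    have : Fintype N := Fintype.ofFinite _
    have h1 := classInner_restrict_triv_ne_zero N χ hχN
    have h2 := constituent_of_sameBlock hM N hpN χ ψ (sameBlock_of_mem hMp hB hχ hψ)
      (trivIrr N) h1
    exact eq_one_of_trivial_constituent N ψ h2 g hg

end Cfsg.Agent.S0938
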