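import Cfsg.Statements.S4691
import Cfsg.Agent.Helper23.ThirdMain
import Cfsg.Agent.Helper9.NPCSub
import Cfsg.Agent.S0071

set_option autoImplicit false
open Cfsg

namespace Cfsg.Agent.S4691

/-- Fix a prime p and a maximal ideal M of the algebraic integers containing p. A finite group G has a normal p-complement if and only if its principal p-block is nilpotent. -/
theorem result {G : Type*} [Group G] [Fintype G] (p : ℕ) [Fact p.Prime] (M : Ideal Cfsg.AlgInt) (hM : Cfsg.IsPModular p M) : Cfsg.HasNormalPComplement p G ↔ Cfsg.IsNilpotentBlock p M (Cfsg.principalBlock M G) := by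
  classical
  have hMp := Cfsg.Agent.Helper5.Loc.isPrime_of_isPModular hM
  have hp : p.Prime := Fact.out
  constructor
  · rintro ⟨P, N, hN, hc⟩
    refine ⟨⟨Cfsg.Agent.Helper24.trivIrr G, rfl⟩, ?_⟩
    intro Q e hQe g hgQ _ hreg
    have hQp : IsPGroup p Q := hQe.1.1
    have hcop : Nat.Coprime (orderOf g) p := (hp.coprime_iff_not_dvd.mpr hreg).symm
    have hNeq : N = Cfsg.pResidual p G := Cfsg.Agent.Helper9.normal_complement_eq_pResidual P N hc
    have hgN : g ∈ N := by rw [hNeq]; exact Cfsg.Agent.Helper9.mem_pResidual_of_coprime p hcop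
    rw [Subgroup.mem_centralizer_iff]
    intro x hx
    have hxQ : x ∈ Q := hx
    have h1 : g * x * g⁻¹ * x⁻¹ ∈ Q :=
      Q.mul_mem ((Subgroup.mem_normalizer_iff.mp hgQ x).mp hxQ) (Q.inv_mem hxQ)
    have h2 : g * x * g⁻¹ * x⁻¹ ∈ N := by
      have : x * g⁻¹ * x⁻¹ ∈ N := hN.conj_mem g⁻¹ (N.inv_mem hgN) x
      have e : g * x * g⁻¹ * x⁻¹ = g * (x * g⁻¹ * x⁻¹) := by group
      rw [e]
      exact N.mul_mem hgN this
    obtain ⟨k, hk⟩ := hQp ⟨_, h1⟩
    have hk' : (g * x * g⁻¹ * x⁻¹) ^ p ^ k = 1 := by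
      have := congrArg (fun z : Q => (z : G)) hk
      simpa using this
    have h3 := Cfsg.Agent.Helper9.eq_one_of_mem_complement_of_pow P N hc h2 hk'
    have e : g * x = (g * x * g⁻¹ * x⁻¹) * (x * g) := by group
    rw [e, h3, one_mul]
  · rintro ⟨_, h⟩
    obtain ⟨P⟩ : Nonempty (Sylow p G) := inferInstance
    obtain ⟨N, hN, hc⟩ := (Cfsg.Agent.S0071.result P).mpr (by
      intro Q hQP g hg hcop
      have hQp : IsPGroup p Q := P.2.to_le hQP
      refine h Q _ (Cfsg.Agent.Helper23.TM.isBrauerPairOf_principalBlock hM Q hQp) g hg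
        (Cfsg.Agent.Helper23.TM.stabilizesBlock_principalBlock _ g ?_) ?_
      · -- g normalizes the centralizer
        rw [Subgroup.mem_normalizer_iff]
        intro h
        have := Cfsg.Agent.Helper5.CC.conj_mem_centralizer_iff (P := Q) (h := h) hg
        exact this.symm
      · exact hp.coprime_iff_not_dvd.mp hcop.symm)
    exact ⟨P, N, hN, hc⟩

end Cfsg.Agent.S4691
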