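import Cfsg.Statements.S4646
import Cfsg.Agent.S4691
import Cfsg.Agent.S0938
import Cfsg.Agent.Helper23.PrincipalBlock
import Cfsg.Agent.Helper9.NPC

set_option autoImplicit false
open Cfsg

namespace Cfsg.Agent.S4646

/-- For a finite group G, a prime p and a maximal ideal M of the algebraic integers containing p: the principal block of G is nilpotent if and only if its p-regular rank is 1 (the trivial Brauer character is its only irreducible Brauer character). -/
theorem result {G : Type*} [Group G] [Finite G] (p : ℕ) [Fact p.Prime] (M : Ideal Cfsg.AlgInt) (hM : Cfsg.IsPModular p M) : Cfsg.IsNilpotentBlock p M (Cfsg.principalBlock M G) ↔ Cfsg.blockRank p (Cfsg.principalBlock M G) = 1 := by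
  classical
  have : Fintype G := Fintype.ofFinite _
  have hMp := Cfsg.Agent.Helper5.Loc.isPrime_of_isPModular hM
  have hp : p.Prime := Fact.out
  rw [← Cfsg.Agent.S4691.result p M hM]
  -- the p-regular part of the trivial character
  set v₀ : G → ℂ := Cfsg.pRegularPart p (fun _ : G => (1 : ℂ)) with hv₀
  have hv₀1 : v₀ 1 = 1 := by
    rw [hv₀, Cfsg.pRegularPart, if_pos]
    show ¬ p ∣ orderOf (1 : G)
    rw [orderOf_one]
    exact hp.one_lt.ne' ∘ Nat.dvd_one.mp
  have hv₀ne : v₀ ≠ 0 := fun h => by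
    have := congrFun h 1
    rw [hv₀1] at this
    exact one_ne_zero this
  have htriv : Cfsg.Agent.Helper24.trivIrr G ∈ Cfsg.principalBlock M G :=
    Cfsg.Agent.Helper5.CC.sameBlock_refl hMp _
  have hv₀mem : v₀ ∈ Submodule.span ℂ ((fun χ : Cfsg.IrrCharacter G =>
      Cfsg.pRegularPart p (χ : G → ℂ)) '' Cfsg.principalBlock M G) :=
    Submodule.subset_span ⟨Cfsg.Agent.Helper24.trivIrr G, htriv, rfl⟩
  constructor
  · -- normal p-complement ⇒ rank one
    rintro ⟨P, N, hN, hc⟩
    have hNeq : N = Cfsg.pResidual p G := Cfsg.Agent.Helper9.normal_complement_eq_pResidual P N hc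
    have hNcop : (Nat.card N).Coprime p := by
      rw [← hc.index_eq_card]
      exact (hp.coprime_iff_not_dvd.mpr P.not_dvd_index).symm
    have hNle : N ≤ Cfsg.pPrimeCore p G := le_sSup ⟨hN, hNcop⟩
    have hspan : Submodule.span ℂ ((fun χ : Cfsg.IrrCharacter G =>
        Cfsg.pRegularPart p (χ : G → ℂ)) '' Cfsg.principalBlock M G) = Submodule.span ℂ {v₀} := by
      apply le_antisymm
      · rw [Submodule.span_le]
        rintro _ ⟨χ, hχ, rfl⟩
        rw [SetLike.mem_coe, Submodule.mem_span_singleton]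
        refine ⟨(χ : G → ℂ) 1, ?_⟩
        funext g
        rw [Pi.smul_apply, smul_eq_mul, hv₀]
        simp only [Cfsg.pRegularPart]
        by_cases hg : Cfsg.IsPRegular p g
        · rw [if_pos hg, if_pos hg, mul_one]
          have hcop : Nat.Coprime (orderOf g) p := (hp.coprime_iff_not_dvd.mpr hg).symm
          have hgN : g ∈ N := by
            rw [hNeq]; exact Cfsg.Agent.Helper9.mem_pResidual_of_coprime p hcop
          exact (Cfsg.Agent.Helper23.PB.eq_one_of_mem_principalBlock hM χ hχ g (hNle hgN)).symm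
        · rw [if_neg hg, if_neg hg, mul_zero]
      · rw [Submodule.span_le]
        intro w hw
        rw [Set.mem_singleton_iff] at hw
        rw [hw]
        exact hv₀mem
    unfold Cfsg.blockRank
    rw [hspan]
    exact finrank_span_singleton hv₀ne
  · -- rank one ⇒ normal p-complement
    intro hrank
    unfold Cfsg.blockRank at hrank
    have hconst : ∀ χ ∈ Cfsg.principalBlock M G, ∀ g : G, Cfsg.IsPRegular p g →
        (χ : G → ℂ) g = (χ : G → ℂ) 1 := by
      intro χ hχ g hg
      have hvmem : Cfsg.pRegularPart p (χ : G → ℂ) ∈ Submodule.span ℂ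
          ((fun χ : Cfsg.IrrCharacter G => Cfsg.pRegularPart p (χ : G → ℂ)) ''
            Cfsg.principalBlock M G) := Submodule.subset_span ⟨χ, hχ, rfl⟩
      have hne : (⟨v₀, hv₀mem⟩ : ↥(Submodule.span ℂ ((fun χ : Cfsg.IrrCharacter G =>
          Cfsg.pRegularPart p (χ : G → ℂ)) '' Cfsg.principalBlock M G))) ≠ 0 := by
        intro h
        exact hv₀ne (congrArg Subtype.val h)
      obtain ⟨c, hc⟩ := (finrank_eq_one_iff_of_nonzero' _ hne).mp hrank
        ⟨Cfsg.pRegularPart p (χ : G → ℂ), hvmem⟩
      have hc' : c • v₀ = Cfsg.pRegularPart p (χ : G → ℂ) := congrArg Subtype.val hc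
      have h1 := congrFun hc' 1
      have hg1 := congrFun hc' g
      have hreg1 : Cfsg.IsPRegular p (1 : G) := by
        show ¬ p ∣ orderOf (1 : G)
        rw [orderOf_one]
        exact hp.one_lt.ne' ∘ Nat.dvd_one.mp
      rw [Pi.smul_apply, smul_eq_mul, hv₀1, mul_one] at h1
      rw [Pi.smul_apply, smul_eq_mul, hv₀] at hg1
      simp only [Cfsg.pRegularPart] at h1 hg1
      rw [if_pos hreg1] at h1
      rw [if_pos hg, if_pos hg, mul_one] at hg1
      rw [← hg1, h1]
    obtain ⟨K, hKn, hKker, hKp, -, -⟩ := Cfsg.Agent.S0938.result p M hM (Cfsg.principalBlock M G)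
      ⟨Cfsg.Agent.Helper24.trivIrr G, rfl⟩ (Cfsg.Agent.Helper24.trivIrr G) htriv
    have hres : Cfsg.pResidual p G ≤ K := by
      unfold Cfsg.pResidual
      rw [Subgroup.closure_le]
      intro g hg
      have hg' : Nat.Coprime (orderOf g) p := hg
      have hreg : Cfsg.IsPRegular p g := hp.coprime_iff_not_dvd.mp hg'.symm
      show g ∈ (K : Set G)
      rw [hKker]
      intro χ hχ
      exact hconst χ hχ g hreg
    obtain ⟨P⟩ : Nonempty (Sylow p G) := inferInstance
    rw [Cfsg.Agent.Helper9.hasNormalPComplement_iff_inf_pResidual P, eq_bot_iff]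
    intro x hx
    rw [Subgroup.mem_bot]
    have hxK : x ∈ K := hres hx.2
    obtain ⟨k, hk⟩ := P.2 ⟨x, hx.1⟩
    have hk' : x ^ p ^ k = 1 := by
      have := congrArg (fun z : P => (z : G)) hk
      simpa using this
    have h1 : orderOf x ∣ p ^ k := orderOf_dvd_of_pow_eq_one hk'
    have h2 : orderOf x ∣ Nat.card K := by
      have := orderOf_dvd_natCard (⟨x, hxK⟩ : K)
      rwa [Subgroup.orderOf_mk] at this
    have hcop : Nat.Coprime (p ^ k) (Nat.card K) :=
      Nat.Coprime.pow_left k (hp.coprime_iff_not_dvd.mpr hKp)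
    exact orderOf_eq_one_iff.mp (Nat.eq_one_of_dvd_coprimes hcop h1 h2)

end Cfsg.Agent.S4646
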