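import Cfsg.Statements.S4479
import Cfsg.Agent.Helper8.KleinOrder
import Cfsg.Agent.Helper8.KleinNoComplement

set_option autoImplicit false
open Cfsg

namespace Cfsg.Agent.S4479

/-- An order formula from the principal 2-block. Let G be a finite group of order 4·g₀ with g₀ odd having no normal 2-complement (no normal subgroup of order g₀); let P be a Sylow 2-subgroup, J an involution of P, and fix a maximal ideal M of the algebraic integers containing 2. Suppose the principal 2-block consists of the principal character and three further distinct characters χ₁, χ₂, χ₃ of degrees x₁, x₂, x₃, with χ_i(J) = ε_i = ±1. Then, writing c(J) and c(P) for the orders of the centralizers of J and of P, the order of G equals 8·α·c(J)³/c(P)² with α = x₁x₂x₃ / ((x₁ + ε₁)(x₂ + ε₂)(x₃ + ε₃)). -/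
theorem result {G : Type*} [Group G] [Finite G] (M : Ideal Cfsg.AlgInt) (hM : Cfsg.IsPModular 2 M) (g₀ : ℕ) (hg₀ : Odd g₀) (hG : Nat.card G = 4 * g₀) (hnc : ¬ ∃ N : Subgroup G, N.Normal ∧ Nat.card N = g₀) (P : Sylow 2 G) (J : G) (hJ : J ∈ (P : Subgroup G)) (hJ2 : orderOf J = 2) (χ₁ χ₂ χ₃ : Cfsg.IrrCharacter G) (ε₁ ε₂ ε₃ : ℤ) (hB : Cfsg.principalBlock M G = {χ : Cfsg.IrrCharacter G | (χ : G → ℂ) = (fun _ => 1) ∨ χ = χ₁ ∨ χ = χ₂ ∨ χ = χ₃}) (hdist : (χ₁ : G → ℂ) ≠ (fun _ => 1) ∧ (χ₂ : G → ℂ) ≠ (fun _ => 1) ∧ (χ₃ : G → ℂ) ≠ (fun _ => 1) ∧ χ₁ ≠ χ₂ ∧ χ₁ ≠ χ₃ ∧ χ₂ ≠ χ₃) (hε : (ε₁ = 1 ∨ ε₁ = -1) ∧ (ε₂ = 1 ∨ ε₂ = -1) ∧ (ε₃ = 1 ∨ ε₃ = -1)) (hval : (χ₁ : G → ℂ) J = ε₁ ∧ (χ₂ : G → ℂ) J = ε₂ ∧ (χ₃ : G → ℂ) J = ε₃) : (Nat.card G : ℚ) = 8 * (((Cfsg.charDegree (χ₁ : G → ℂ) : ℚ) * Cfsg.charDegree (χ₂ : G → ℂ) * Cfsg.charDegree (χ₃ : G → ℂ)) / ((Cfsg.charDegree (χ₁ : G → ℂ) + ε₁)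 * (Cfsg.charDegree (χ₂ : G → ℂ) + ε₂) * (Cfsg.charDegree (χ₃ : G → ℂ) + ε₃))) * (Nat.card (Subgroup.centralizer ({J} : Set G)) : ℚ) ^ 3 / (Nat.card (Subgroup.centralizer ((P : Subgroup G) : Set G)) : ℚ) ^ 2 := by
  classical
  haveI : Fintype G := Fintype.ofFinite _
  haveI : Fintype (Cfsg.IrrCharacter G) := Fintype.ofFinite _
  haveI : Fact (Nat.Prime 2) := ⟨Nat.prime_two⟩
  have hMp := Cfsg.Agent.Helper5.Loc.isPrime_of_isPModular hM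
  obtain ⟨hK, hone⟩ := Cfsg.Agent.Helper8.KleinNC.klein_of_no_complement g₀ hg₀ hG hnc P
  have hJ1 : J ≠ 1 := by
    intro h; rw [h, orderOf_one] at hJ2; norm_num at hJ2
  have hmain := Cfsg.Agent.Helper8.KleinOrd.main_aux hM P hK J hJ hJ1 hone
    (Subgroup.centralizer ({J} : Set G)) rfl
  have horth := Cfsg.Agent.Helper5.CC.block_orthogonality hM
    (Cfsg.Agent.Helper5.CC.isPBlock_principalBlock (M := M) (G := G)) 1 J
    (by rw [orderOf_one]; norm_num) (by rw [hJ2])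
  -- the principal block as a finset
  have htriv : ∀ χ : Cfsg.IrrCharacter G, (χ : G → ℂ) = (fun _ => 1) ↔
      χ = Cfsg.Agent.Helper24.trivIrr G := by
    intro χ
    constructor
    · intro h; exact Subtype.ext h
    · intro h; rw [h]; rfl
  have h1ne : ∀ χ : Cfsg.IrrCharacter G, (χ : G → ℂ) ≠ (fun _ => 1) →
      Cfsg.Agent.Helper24.trivIrr G ≠ χ := by
    intro χ h h'
    exact h ((htriv χ).mpr h'.symm)
  have hsum4 : ∀ f : Cfsg.IrrCharacter G → ℂ,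
      ∑ χ : Cfsg.IrrCharacter G, (if χ ∈ Cfsg.principalBlock M G then f χ else 0) =
      f (Cfsg.Agent.Helper24.trivIrr G) + f χ₁ + f χ₂ + f χ₃ := by
    intro f
    rw [← Finset.sum_filter]
    have hfil : Finset.univ.filter (fun χ : Cfsg.IrrCharacter G => χ ∈ Cfsg.principalBlock M G) =
        {Cfsg.Agent.Helper24.trivIrr G, χ₁, χ₂, χ₃} := by
      ext χ
      rw [Finset.mem_filter, hB]
      simp only [Finset.mem_univ, true_and, Set.mem_ofPred_eq, Finset.mem_insert,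
        Finset.mem_singleton, htriv]
    rw [hfil, Finset.sum_insert, Finset.sum_insert, Finset.sum_insert, Finset.sum_singleton]
    · ring
    · rw [Finset.mem_singleton]; exact hdist.2.2.2.2.2
    · rw [Finset.mem_insert, Finset.mem_singleton]
      rintro (h | h)
      · exact hdist.2.2.2.1 h
      · exact hdist.2.2.2.2.1 h
    · rw [Finset.mem_insert, Finset.mem_insert, Finset.mem_singleton]
      rintro (h | h | h)
      · exact h1ne χ₁ hdist.1 h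
      · exact h1ne χ₂ hdist.2.1 h
      · exact h1ne χ₃ hdist.2.2.1 h
  -- degrees
  have hdeg : ∀ χ : Cfsg.IrrCharacter G, (χ : G → ℂ) 1 = (Cfsg.charDegree (χ : G → ℂ) : ℂ) := by
    intro χ
    rw [Cfsg.Agent.Helper5.CC.charDegree_eq_irrDeg, Cfsg.Agent.Helper24.irrDeg_spec]
  have hpos : ∀ χ : Cfsg.IrrCharacter G, 0 < Cfsg.charDegree (χ : G → ℂ) := by
    intro χ
    rw [Cfsg.Agent.Helper5.CC.charDegree_eq_irrDeg]
    exact Cfsg.Agent.Helper24.irrDeg_pos χ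
  set x₁ := Cfsg.charDegree (χ₁ : G → ℂ) with hx₁
  set x₂ := Cfsg.charDegree (χ₂ : G → ℂ) with hx₂
  set x₃ := Cfsg.charDegree (χ₃ : G → ℂ) with hx₃
  have hx₁0 : (x₁ : ℚ) ≠ 0 := by exact_mod_cast (hpos χ₁).ne'
  have hx₂0 : (x₂ : ℚ) ≠ 0 := by exact_mod_cast (hpos χ₂).ne'
  have hx₃0 : (x₃ : ℚ) ≠ 0 := by exact_mod_cast (hpos χ₃).ne'
  have hε₁ : (ε₁ : ℚ) ^ 2 = 1 := by
    rcases hε.1 with h | h <;> rw [h] <;> norm_num
  have hε₂ : (ε₂ : ℚ) ^ 2 = 1 := by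
    rcases hε.2.1 with h | h <;> rw [h] <;> norm_num
  have hε₃ : (ε₃ : ℚ) ^ 2 = 1 := by
    rcases hε.2.2 with h | h <;> rw [h] <;> norm_num
  -- block orthogonality: `1 + ∑ εᵢ xᵢ = 0`
  have hE2 : (1 : ℚ) + x₁ * ε₁ + x₂ * ε₂ + x₃ * ε₃ = 0 := by
    have h1 : ∑ χ : Cfsg.IrrCharacter G, (if χ ∈ Cfsg.principalBlock M G then
        (χ : G → ℂ) 1 * (starRingEnd ℂ) ((χ : G → ℂ) J) else 0) = 0 := by
      refine Eq.trans ?_ horth
      refine Finset.sum_congr rfl fun χ _ => ?_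
      split_ifs <;> simp
    rw [hsum4] at h1
    rw [hdeg χ₁, hdeg χ₂, hdeg χ₃, hval.1, hval.2.1, hval.2.2] at h1
    have h2 : ((Cfsg.Agent.Helper24.trivIrr G : Cfsg.IrrCharacter G) : G → ℂ) 1 = 1 := rfl
    have h3 : ((Cfsg.Agent.Helper24.trivIrr G : Cfsg.IrrCharacter G) : G → ℂ) J = 1 := rfl
    rw [h2, h3] at h1
    simp only [map_one, map_intCast, mul_one] at h1
    apply (Rat.cast_injective (α := ℂ))
    push_cast
    exact h1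
  -- the main formula
  have hE1 : ((1 : ℚ) + ε₁ / x₁ + ε₂ / x₂ + ε₃ / x₃) * (Nat.card G : ℚ) *
      (Nat.card (Subgroup.centralizer ((P : Subgroup G) : Set G)) : ℚ) ^ 2 =
      8 * (Nat.card (Subgroup.centralizer ({J} : Set G)) : ℚ) ^ 3 := by
    rw [hsum4] at hmain
    rw [hdeg χ₁, hdeg χ₂, hdeg χ₃, hval.1, hval.2.1, hval.2.2] at hmain
    have h2 : ((Cfsg.Agent.Helper24.trivIrr G : Cfsg.IrrCharacter G) : G → ℂ) 1 = 1 := rfl
    have h3 : ((Cfsg.Agent.Helper24.trivIrr G : Cfsg.IrrCharacter G) : G → ℂ) J = 1 := rfl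
    rw [h2, h3] at hmain
    simp only [map_one, map_intCast, mul_one, one_pow, div_one] at hmain
    have hc1 : (ε₁ : ℂ) ^ 2 = 1 := by exact_mod_cast hε₁
    have hc2 : (ε₂ : ℂ) ^ 2 = 1 := by exact_mod_cast hε₂
    have hc3 : (ε₃ : ℂ) ^ 2 = 1 := by exact_mod_cast hε₃
    rw [hc1, hc2, hc3] at hmain
    simp only [one_mul] at hmain
    apply (Rat.cast_injective (α := ℂ))
    push_cast
    exact hmain
  have hg0 : (Nat.card G : ℚ) ≠ 0 := by exact_mod_cast (Nat.card_pos (α := G)).ne'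
  have hcP0 : (Nat.card (Subgroup.centralizer ((P : Subgroup G) : Set G)) : ℚ) ≠ 0 := by
    exact_mod_cast (Nat.card_pos (α := (Subgroup.centralizer ((P : Subgroup G) : Set G)))).ne'
  have hcJ0 : (Nat.card (Subgroup.centralizer ({J} : Set G)) : ℚ) ≠ 0 := by
    exact_mod_cast (Nat.card_pos (α := (Subgroup.centralizer ({J} : Set G)))).ne'
  set g : ℚ := (Nat.card G : ℚ) with hg
  set cP : ℚ := (Nat.card (Subgroup.centralizer ((P : Subgroup G) : Set G)) : ℚ) with hcP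
  set cJ : ℚ := (Nat.card (Subgroup.centralizer ({J} : Set G)) : ℚ) with hcJ
  have hE1' : ((x₁ : ℚ) * x₂ * x₃ + ε₁ * x₂ * x₃ + ε₂ * x₁ * x₃ + ε₃ * x₁ * x₂) * g * cP ^ 2 =
      8 * ((x₁ : ℚ) * x₂ * x₃) * cJ ^ 3 := by
    have h1 : ((x₁ : ℚ) * x₂ * x₃ + ε₁ * x₂ * x₃ + ε₂ * x₁ * x₃ + ε₃ * x₁ * x₂) =
        ((1 : ℚ) + ε₁ / x₁ + ε₂ / x₂ + ε₃ / x₃) * ((x₁ : ℚ) * x₂ * x₃) := by
      field_simp
    rw [h1]
    linear_combination ((x₁ : ℚ) * x₂ * x₃) * hE1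
  have hD : ((x₁ : ℚ) + ε₁) * (x₂ + ε₂) * (x₃ + ε₃) =
      (x₁ : ℚ) * x₂ * x₃ + ε₁ * x₂ * x₃ + ε₂ * x₁ * x₃ + ε₃ * x₁ * x₂ := by
    linear_combination ((ε₁ : ℚ) * ε₂ * ε₃) * hE2 - ((ε₂ : ℚ) * ε₃ * x₁) * hε₁ -
      ((ε₁ : ℚ) * ε₃ * x₂) * hε₂ - ((ε₁ : ℚ) * ε₂ * x₃) * hε₃
  have hD0 : ((x₁ : ℚ) + ε₁) * (x₂ + ε₂) * (x₃ + ε₃) ≠ 0 := by
    intro h
    rw [hD] at h
    rw [h, zero_mul, zero_mul] at hE1'
    have : 8 * ((x₁ : ℚ) * x₂ * x₃) * cJ ^ 3 ≠ 0 := by positivity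
    exact this hE1'.symm
  rw [← hD] at hE1'
  have hf1 : ((x₁ : ℚ) + ε₁) ≠ 0 := fun h => hD0 (by rw [h, zero_mul, zero_mul])
  have hf2 : ((x₂ : ℚ) + ε₂) ≠ 0 := fun h => hD0 (by rw [h, mul_zero, zero_mul])
  have hf3 : ((x₃ : ℚ) + ε₃) ≠ 0 := fun h => hD0 (by rw [h, mul_zero])
  field_simp
  linear_combination hE1'

end Cfsg.Agent.S4479
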