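import Cfsg.Statements.S4480
import Cfsg.Agent.S4479
import Cfsg.Agent.S0895
import Cfsg.Agent.Helper8.KleinFS
import Cfsg.Agent.Helper8.KleinPSLArith
import Cfsg.Agent.Helper8.KleinNoComplement
import Cfsg.Agent.Helper8.RealOdd

set_option autoImplicit false
open Cfsg

namespace Cfsg.Agent.S4480

/-- Same setting as the Klein-four order formula: G of order 4·g₀ (g₀ odd) with no normal 2-complement, P a Sylow 2-subgroup, J an involution of P, M over 2, principal 2-block {1, χ₁, χ₂, χ₃} with χ_i(J) = ε_i = ±1. Suppose ε₁ε₂ε₃ = −1 and ε₃ = −1, and put q = x₃ = χ₃(1). Then there is a natural number m with 4·c(J) = m·c(P)·(q + 1), and the order of G equals (m³·c(P)/4)·(q³ − q)/2, that is 8·#G = m³·c(P)·(q³ − q). -/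
theorem result {G : Type*} [Group G] [Finite G] (M : Ideal Cfsg.AlgInt) (hM : Cfsg.IsPModular 2 M) (g₀ : ℕ) (hg₀ : Odd g₀) (hG : Nat.card G = 4 * g₀) (hnc : ¬ ∃ N : Subgroup G, N.Normal ∧ Nat.card N = g₀) (P : Sylow 2 G) (J : G) (hJ : J ∈ (P : Subgroup G)) (hJ2 : orderOf J = 2) (χ₁ χ₂ χ₃ : Cfsg.IrrCharacter G) (ε₁ ε₂ ε₃ : ℤ) (hB : Cfsg.principalBlock M G = {χ : Cfsg.IrrCharacter G | (χ : G → ℂ) = (fun _ => 1) ∨ χ = χ₁ ∨ χ = χ₂ ∨ χ = χ₃}) (hdist : (χ₁ : G → ℂ) ≠ (fun _ => 1) ∧ (χ₂ : G → ℂ) ≠ (fun _ => 1) ∧ (χ₃ : G → ℂ) ≠ (fun _ => 1) ∧ χ₁ ≠ χ₂ ∧ χ₁ ≠ χ₃ ∧ χ₂ ≠ χ₃) (hε : (ε₁ = 1 ∨ ε₁ = -1) ∧ (ε₂ = 1 ∨ ε₂ = -1) ∧ (ε₃ = 1 ∨ ε₃ = -1)) (hval : (χ₁ : G → ℂ) J = ε₁ ∧ (χ₂ : G → ℂ) J = ε₂ ∧ (χ₃ : G → ℂ) J = ε₃) (hprod : ε₁ * ε₂ * ε₃ = -1) (hε₃ : ε₃ = -1) : ∃ m : ℕ, 4 * Nat.card (Subgroup.centralizer ({J} : Set G)) = m * Nat.card (Subgroup.centralizer ((P : Subgroup G) : Set G)) * (Cfsg.charDegree (χ₃ : G → ℂ) + 1) ∧ 8 * Nat.card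 G = m ^ 3 * Nat.card (Subgroup.centralizer ((P : Subgroup G) : Set G)) * (Cfsg.charDegree (χ₃ : G → ℂ) ^ 3 - Cfsg.charDegree (χ₃ : G → ℂ)) := by
  classical
  haveI : Fintype G := Fintype.ofFinite _
  haveI : Fintype (Cfsg.IrrCharacter G) := Fintype.ofFinite _
  haveI : Fact (Nat.Prime 2) := ⟨Nat.prime_two⟩
  have hMp := Cfsg.Agent.Helper5.Loc.isPrime_of_isPModular hM
  obtain ⟨hK, hone⟩ := Cfsg.Agent.Helper8.KleinNC.klein_of_no_complement g₀ hg₀ hG hnc P
  have hform := Cfsg.Agent.S4479.result M hM g₀ hg₀ hG hnc P J hJ hJ2 χ₁ χ₂ χ₃ ε₁ ε₂ ε₃ hB hdist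
    hε hval
  have horth := Cfsg.Agent.Helper5.CC.block_orthogonality hM
    (Cfsg.Agent.Helper5.CC.isPBlock_principalBlock (M := M) (G := G)) 1 J
    (by rw [orderOf_one]; norm_num) (by rw [hJ2])
  have hfs := Cfsg.Agent.Helper8.KleinFS.fs_relation hM P hK J hJ2 (Cfsg.principalBlock M G)
    (Cfsg.Agent.Helper5.CC.isPBlock_principalBlock (M := M) (G := G))
  -- the principal block as a finset
  have htriv : ∀ χ : Cfsg.IrrCharacter G, (χ : G → ℂ) = (fun _ => 1) ↔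
      χ = Cfsg.Agent.Helper24.trivIrr G := by
    intro χ
    constructor
    · intro h; exact Subtype.ext h
    · intro h; rw [h]; rfl
  have h1ne : ∀ χ : Cfsg.IrrCharacter G, (χ : G → ℂ) ≠ (fun _ => 1) →
      Cfsg.Agent.Helper24.trivIrr G ≠ χ := by
    intro χ h h'
    exact h ((htriv χ).mpr h'.symm)
  have hsum4 : ∀ f : Cfsg.IrrCharacter G → ℂ,
      ∑ χ : Cfsg.IrrCharacter G, (if χ ∈ Cfsg.principalBlock M G then f χ else 0) =
      f (Cfsg.Agent.Helper24.trivIrr G) + f χ₁ + f χ₂ + f χ₃ := by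
    intro f
    rw [← Finset.sum_filter]
    have hfil : Finset.univ.filter (fun χ : Cfsg.IrrCharacter G => χ ∈ Cfsg.principalBlock M G) =
        {Cfsg.Agent.Helper24.trivIrr G, χ₁, χ₂, χ₃} := by
      ext χ
      rw [Finset.mem_filter, hB]
      simp only [Finset.mem_univ, true_and, Set.mem_ofPred_eq, Finset.mem_insert,
        Finset.mem_singleton, htriv]
    rw [hfil, Finset.sum_insert, Finset.sum_insert, Finset.sum_insert, Finset.sum_singleton]
    · ring
    · rw [Finset.mem_singleton]; exact hdist.2.2.2.2.2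
    · rw [Finset.mem_insert, Finset.mem_singleton]
      rintro (h | h)
      · exact hdist.2.2.2.1 h
      · exact hdist.2.2.2.2.1 h
    · rw [Finset.mem_insert, Finset.mem_insert, Finset.mem_singleton]
      rintro (h | h | h)
      · exact h1ne χ₁ hdist.1 h
      · exact h1ne χ₂ hdist.2.1 h
      · exact h1ne χ₃ hdist.2.2.1 h
  -- degrees
  have hdeg : ∀ χ : Cfsg.IrrCharacter G, (χ : G → ℂ) 1 = (Cfsg.charDegree (χ : G → ℂ) : ℂ) := by
    intro χ
    rw [Cfsg.Agent.Helper5.CC.charDegree_eq_irrDeg, Cfsg.Agent.Helper24.irrDeg_spec]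
  have hpos : ∀ χ : Cfsg.IrrCharacter G, 0 < Cfsg.charDegree (χ : G → ℂ) := by
    intro χ
    rw [Cfsg.Agent.Helper5.CC.charDegree_eq_irrDeg]
    exact Cfsg.Agent.Helper24.irrDeg_pos χ
  have hmem : ∀ χ : Cfsg.IrrCharacter G, χ ∈ Cfsg.principalBlock M G ↔
      ((χ : G → ℂ) = (fun _ => 1) ∨ χ = χ₁ ∨ χ = χ₂ ∨ χ = χ₃) := by
    intro χ; rw [hB]; rfl
  have hm1 : χ₁ ∈ Cfsg.principalBlock M G := (hmem χ₁).mpr (Or.inr (Or.inl rfl))
  have hm2 : χ₂ ∈ Cfsg.principalBlock M G := (hmem χ₂).mpr (Or.inr (Or.inr (Or.inl rfl)))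
  have hm3 : χ₃ ∈ Cfsg.principalBlock M G := (hmem χ₃).mpr (Or.inr (Or.inr (Or.inr rfl)))
  set x₁ := Cfsg.charDegree (χ₁ : G → ℂ) with hx₁
  set x₂ := Cfsg.charDegree (χ₂ : G → ℂ) with hx₂
  set x₃ := Cfsg.charDegree (χ₃ : G → ℂ) with hx₃
  have hp1 : 0 < x₁ := hpos χ₁
  have hp2 : 0 < x₂ := hpos χ₂
  have hp3 : 0 < x₃ := hpos χ₃
  -- block orthogonality: `1 + ∑ εᵢ xᵢ = 0`
  have hE2 : (1 : ℤ) + x₁ * ε₁ + x₂ * ε₂ + x₃ * ε₃ = 0 := by
    have h1 : ∑ χ : Cfsg.IrrCharacter G, (if χ ∈ Cfsg.principalBlock M G then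
        (χ : G → ℂ) 1 * (starRingEnd ℂ) ((χ : G → ℂ) J) else 0) = 0 := by
      refine Eq.trans ?_ horth
      refine Finset.sum_congr rfl fun χ _ => ?_
      split_ifs <;> simp
    rw [hsum4] at h1
    rw [hdeg χ₁, hdeg χ₂, hdeg χ₃, hval.1, hval.2.1, hval.2.2] at h1
    have h2 : ((Cfsg.Agent.Helper24.trivIrr G : Cfsg.IrrCharacter G) : G → ℂ) 1 = 1 := rfl
    have h3 : ((Cfsg.Agent.Helper24.trivIrr G : Cfsg.IrrCharacter G) : G → ℂ) J = 1 := rfl
    rw [h2, h3] at h1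
    simp only [map_one, map_intCast, mul_one] at h1
    have : (((1 : ℤ) + x₁ * ε₁ + x₂ * ε₂ + x₃ * ε₃ : ℤ) : ℂ) = ((0 : ℤ) : ℂ) := by
      push_cast
      exact h1
    exact_mod_cast this
  -- the signs
  have he12 : ε₁ = 1 ∧ ε₂ = 1 := by
    subst hε₃
    rcases hε.1 with h1 | h1 <;> rcases hε.2.1 with h2 | h2 <;> subst h1 <;> subst h2
    · exact ⟨rfl, rfl⟩
    · norm_num at hprod
    · norm_num at hprod
    · exfalso
      have : (1 : ℤ) ≤ x₁ := by exact_mod_cast hp1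
      have : (1 : ℤ) ≤ x₂ := by exact_mod_cast hp2
      have : (1 : ℤ) ≤ x₃ := by exact_mod_cast hp3
      linarith
  obtain ⟨he1, he2⟩ := he12
  subst he1 he2 hε₃
  have hx3 : x₃ = 1 + x₁ + x₂ := by
    have : (x₃ : ℤ) = 1 + x₁ + x₂ := by linarith
    exact_mod_cast this
  -- irrDeg
  have hid : ∀ χ : Cfsg.IrrCharacter G, Cfsg.Agent.Helper24.irrDeg χ =
      Cfsg.charDegree (χ : G → ℂ) := fun χ =>
    (Cfsg.Agent.Helper5.CC.charDegree_eq_irrDeg χ).symm
  have hstardeg : ∀ χ : Cfsg.IrrCharacter G,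
      Cfsg.charDegree ((Cfsg.Agent.Helper24.irrStar χ : Cfsg.IrrCharacter G) : G → ℂ) =
        Cfsg.charDegree (χ : G → ℂ) := by
    intro χ
    rw [← hid, ← hid, Cfsg.Agent.Helper24.irrDeg_irrStar]
  have hreal_of : ∀ χ : Cfsg.IrrCharacter G, Cfsg.Agent.Helper24.irrStar χ = χ →
      ∀ g : G, ((χ : G → ℂ) g).im = 0 := by
    intro χ h g
    have h1 := congrArg (fun ψ : Cfsg.IrrCharacter G => (ψ : G → ℂ) g) h
    simp only [Cfsg.Agent.Helper24.irrStar_apply] at h1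
    exact Complex.conj_eq_iff_im.mp h1
  have hstar_ne_triv : ∀ χ : Cfsg.IrrCharacter G, (χ : G → ℂ) ≠ (fun _ => 1) →
      ((Cfsg.Agent.Helper24.irrStar χ : Cfsg.IrrCharacter G) : G → ℂ) ≠ (fun _ => 1) := by
    intro χ h h'
    apply h
    funext g
    have h1 := congrFun h' g
    rw [Cfsg.Agent.Helper24.irrStar_apply] at h1
    have h2 := congrArg (starRingEnd ℂ) h1
    simpa using h2
  -- `x₁ = x₂`
  have hx12 : x₁ = x₂ := by
    by_contra hne
    have hν := Cfsg.Agent.Helper8.KleinB.factorization_card P hK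
    have hodd : ∀ χ : Cfsg.IrrCharacter G, χ ∈ Cfsg.principalBlock M G →
        Odd (Cfsg.charDegree (χ : G → ℂ)) := by
      intro χ hχ
      have := Cfsg.Agent.Helper8.KleinB.odd_irrDeg hM hν χ hχ
      rw [hid] at this
      exact Nat.odd_iff.mpr (by omega)
    have hr1 : ∀ g : G, ((χ₁ : G → ℂ) g).im = 0 := by
      apply hreal_of
      have hs := (hmem _).mp
        (Cfsg.Agent.Helper8.RealBlock2.irrStar_mem_principalBlock (M := M) hm1)
      rcases hs with h | h | h | h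
      · exact absurd h (hstar_ne_triv χ₁ hdist.1)
      · exact h
      · exfalso
        have := hstardeg χ₁
        rw [h] at this
        exact hne this.symm
      · exfalso
        have := hstardeg χ₁
        rw [h] at this
        change x₃ = x₁ at this
        omega
    have hr2 : ∀ g : G, ((χ₂ : G → ℂ) g).im = 0 := by
      apply hreal_of
      have hs := (hmem _).mp
        (Cfsg.Agent.Helper8.RealBlock2.irrStar_mem_principalBlock (M := M) hm2)
      rcases hs with h | h | h | h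
      · exact absurd h (hstar_ne_triv χ₂ hdist.2.1)
      · exfalso
        have := hstardeg χ₂
        rw [h] at this
        exact hne this
      · exact h
      · exfalso
        have := hstardeg χ₂
        rw [h] at this
        change x₃ = x₂ at this
        omega
    have hr3 : ∀ g : G, ((χ₃ : G → ℂ) g).im = 0 := by
      apply hreal_of
      have hs := (hmem _).mp
        (Cfsg.Agent.Helper8.RealBlock2.irrStar_mem_principalBlock (M := M) hm3)
      rcases hs with h | h | h | h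
      · exact absurd h (hstar_ne_triv χ₃ hdist.2.2.1)
      · exfalso
        have := hstardeg χ₃
        rw [h] at this
        change x₁ = x₃ at this
        omega
      · exfalso
        have := hstardeg χ₃
        rw [h] at this
        change x₂ = x₃ at this
        omega
      · exact h
    have hnu : ∀ χ : Cfsg.IrrCharacter G, χ ∈ Cfsg.principalBlock M G →
        (∀ g : G, ((χ : G → ℂ) g).im = 0) →
        (Nat.card G : ℂ)⁻¹ * ∑ s : G, (starRingEnd ℂ) ((χ : G → ℂ) (s * s)) = 1 := by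
      intro χ hχ hr
      have h := Cfsg.Agent.S0895.result (χ : G → ℂ) χ.2 hr (Cfsg.charDegree (χ : G → ℂ))
        (hdeg χ) (hodd χ hχ)
      rw [← h]
      congr 1
      refine Finset.sum_congr rfl fun s _ => ?_
      exact Complex.conj_eq_iff_im.mpr (hr (s * s))
    rw [hsum4] at hfs
    rw [hnu χ₁ hm1 hr1, hnu χ₂ hm2 hr2, hnu χ₃ hm3 hr3, hval.1, hval.2.1, hval.2.2] at hfs
    have htr : (Nat.card G : ℂ)⁻¹ * ∑ s : G, (starRingEnd ℂ)
        (((Cfsg.Agent.Helper24.trivIrr G : Cfsg.IrrCharacter G) : G → ℂ) (s * s)) = 1 := by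
      have h2 : ∀ s : G, ((Cfsg.Agent.Helper24.trivIrr G : Cfsg.IrrCharacter G) : G → ℂ)
          (s * s) = 1 := fun s => rfl
      simp only [h2, map_one, Finset.sum_const, Finset.card_univ, nsmul_eq_mul, mul_one]
      rw [Nat.card_eq_fintype_card]
      have : (Fintype.card G : ℂ) ≠ 0 := by exact_mod_cast Fintype.card_ne_zero
      field_simp
    have h3 : ((Cfsg.Agent.Helper24.trivIrr G : Cfsg.IrrCharacter G) : G → ℂ) J = 1 := rfl
    rw [htr, h3] at hfs
    norm_num at hfs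
  -- arithmetic
  have hcPpos : 0 < Nat.card (Subgroup.centralizer ((P : Subgroup G) : Set G)) := Nat.card_pos
  have hcJpos : 0 < Nat.card (Subgroup.centralizer ({J} : Set G)) := Nat.card_pos
  have hdvd1 : Nat.card (Subgroup.centralizer ((P : Subgroup G) : Set G)) ∣
      Nat.card (Subgroup.centralizer ({J} : Set G)) := by
    apply Subgroup.card_dvd_of_le
    apply Subgroup.centralizer_le
    rw [Set.singleton_subset_iff]
    exact hJ
  have hdvd2 : Nat.card (Subgroup.centralizer ({J} : Set G)) ∣ Nat.card G :=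
    Subgroup.card_subgroup_dvd_card _
  have hx3' : x₃ = 2 * x₁ + 1 := by omega
  have hformN : Nat.card G * (x₁ + 1) ^ 2 *
      Nat.card (Subgroup.centralizer ((P : Subgroup G) : Set G)) ^ 2 =
      4 * x₁ * (2 * x₁ + 1) * Nat.card (Subgroup.centralizer ({J} : Set G)) ^ 3 := by
    rw [← hx12, hx3'] at hform
    have hcP0 : (Nat.card (Subgroup.centralizer ((P : Subgroup G) : Set G)) : ℚ) ≠ 0 := by
      exact_mod_cast hcPpos.ne'
    have hx0 : (x₁ : ℚ) ≠ 0 := by exact_mod_cast hp1.ne'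
    have hx1 : (x₁ : ℚ) + 1 ≠ 0 := by positivity
    have : (Nat.card G : ℚ) * ((x₁ : ℚ) + 1) ^ 2 *
        (Nat.card (Subgroup.centralizer ((P : Subgroup G) : Set G)) : ℚ) ^ 2 =
        4 * x₁ * (2 * x₁ + 1) * (Nat.card (Subgroup.centralizer ({J} : Set G)) : ℚ) ^ 3 := by
      rw [hform]
      push_cast
      have e : ((2 : ℚ) * x₁ + 1 + -1) = 2 * x₁ := by ring
      rw [e]
      field_simp
      ring
    exact_mod_cast this
  have hres := Cfsg.Agent.Helper8.KleinPSLArith.arith (Nat.card G)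
    (Nat.card (Subgroup.centralizer ({J} : Set G)))
    (Nat.card (Subgroup.centralizer ((P : Subgroup G) : Set G))) x₁ hcPpos hcJpos hdvd1 hdvd2
    hformN
  rw [hx3']
  exact hres

end Cfsg.Agent.S4480
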