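import Cfsg.Statements.S0630
import Cfsg.Agent.Helper7.PConstrained
import Cfsg.Agent.Helper7.PPrimeCore
import Cfsg.Agent.Helper14.PCore

set_option autoImplicit false
open Cfsg

namespace Cfsg.Agent.S0630

theorem centralizer_pCore_le_of_equiv {X Y : Type*} [Group X] [Group Y] [Finite X] (p : ℕ) [Fact p.Prime]
    (e : X ≃* Y)
    (h : Subgroup.centralizer (Cfsg.pCore p X : Set X) ≤ Cfsg.pCore p X) :
    Subgroup.centralizer (Cfsg.pCore p Y : Set Y) ≤ Cfsg.pCore p Y := by
  have : Finite Y := Finite.of_equiv X e.toEquiv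
  intro y hy
  have hx : e.symm y ∈ Subgroup.centralizer (Cfsg.pCore p X : Set X) := by
    rw [Subgroup.mem_centralizer_iff]
    intro q hq
    have hq' : e q ∈ Cfsg.pCore p Y := by
      rw [← Cfsg.Agent.Helper14.pCore_map_equiv p e]
      exact ⟨q, hq, rfl⟩
    have h1 := Subgroup.mem_centralizer_iff.mp hy (e q) hq'
    have h2 := congrArg e.symm h1
    simpa using h2
  have h3 := h hx
  rw [← Cfsg.Agent.Helper14.pCore_map_equiv p e]
  exact ⟨e.symm y, h3, by simp⟩


/-- p-constraint passes to and from the quotient by the largest normal subgroup of order prime to p. -/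
theorem result {G : Type*} [Group G] [Finite G] {p : ℕ} [Fact p.Prime] : Cfsg.IsPConstrained p G ↔ Cfsg.IsPConstrained p (G ⧸ Cfsg.pPrimeCore p G) := by
  have h1 : ∀ (X : Type _) [Group X] [Finite X], Cfsg.IsPConstrained p X ↔
      Subgroup.centralizer (Cfsg.pCore p (X ⧸ Cfsg.pPrimeCore p X) : Set (X ⧸ Cfsg.pPrimeCore p X)) ≤
        Cfsg.pCore p (X ⧸ Cfsg.pPrimeCore p X) := by
    intro X _ _
    rw [Cfsg.Agent.Helper7.isPConstrained_iff, Cfsg.Agent.Helper7.pLayer_eq_bot_iff,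
      Cfsg.Agent.Helper7.layer_quotient_eq_bot_iff]
  rw [h1 G, h1 (G ⧸ Cfsg.pPrimeCore p G)]
  have hbot : Cfsg.pPrimeCore p (G ⧸ Cfsg.pPrimeCore p G) = ⊥ :=
    Cfsg.Agent.Helper7.pPrimeCore_quotient_eq_bot p
  let e : (G ⧸ Cfsg.pPrimeCore p G) ⧸ Cfsg.pPrimeCore p (G ⧸ Cfsg.pPrimeCore p G) ≃*
      G ⧸ Cfsg.pPrimeCore p G :=
    (QuotientGroup.quotientMulEquivOfEq hbot).trans (QuotientGroup.quotientBot)
  constructor
  · intro h
    exact centralizer_pCore_le_of_equiv p e.symm h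
  · intro h
    exact centralizer_pCore_le_of_equiv p e h

end Cfsg.Agent.S0630
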