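import Cfsg.Statements.S1969
import Cfsg.Agent.Helper10.SecFusion3
import Cfsg.Agent.Helper10.SecClass
import Cfsg.Agent.S0630

set_option autoImplicit false
universe u
open Cfsg

namespace Cfsg.Agent.S1969

/-- Let p be a prime, G a finite group and W an isomorphism-invariant p-group functor (W assigns to every group Q a subgroup W(Q), nontrivial whenever Q is a nontrivial finite p-group, and every isomorphism from a finite p-group Q onto a group R carries W(Q) onto W(R)). Suppose that W(S*) is normal in G* whenever G* = K/R is a section of G with C_{G*}(O_p(G*)) ≤ O_p(G*) and S* is a Sylow p-subgroup of G*. Then W controls strong fusion in every section of G: for every section K/R and every Sylow p-subgroup T of K/R, the subgroup W(T) controls strong fusion in K/R. -/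
theorem result {G : Type u} [Group G] [Finite G] {p : ℕ} [Fact p.Prime] (W : ∀ (Q : Type u) [Group Q], Subgroup Q) (hW : Cfsg.IsCharPFunctor.{u} p W) (hloc : ∀ (K R : Subgroup G) [hR : (R.subgroupOf K).Normal], Subgroup.centralizer ((Cfsg.pCore p (↥K ⧸ R.subgroupOf K) : Subgroup (↥K ⧸ R.subgroupOf K)) : Set (↥K ⧸ R.subgroupOf K)) ≤ Cfsg.pCore p (↥K ⧸ R.subgroupOf K) → ∀ T : Sylow p (↥K ⧸ R.subgroupOf K), (Cfsg.inducedFunctor (G := (↥K ⧸ R.subgroupOf K)) W ((T : Subgroup (↥K ⧸ R.subgroupOf K)))).Normal) : ∀ (K R : Subgroup G) [hR : (R.subgroupOf K).Normal], ∀ T : Sylow p (↥K ⧸ R.subgroupOf K), Cfsg.ControlsStrongFusion p (Cfsg.inducedFunctor (G := (↥K ⧸ R.subgroupOf K)) W ((T : Subgroup (↥K ⧸ R.subgroupOf K)))) := by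
  classical
  have h𝓦 : ∀ W' ∈ ({W} : Set (∀ (Q : Type u) [Group Q], Subgroup Q)), Cfsg.IsCharPFunctor.{u} p W' := by
    intro W' hW'
    rw [Set.mem_singleton_iff] at hW'
    rw [hW']; exact hW
  have Hc : ∀ (Y : Type u) [Group Y] [Finite Y], Cfsg.Agent.Helper10.IsSec G Y →
      Subgroup.centralizer ((Cfsg.pCore p Y : Subgroup Y) : Set Y) ≤ Cfsg.pCore p Y →
      Cfsg.Agent.Helper10.Claim p ({W} : Set (∀ (Q : Type u) [Group Q], Subgroup Q)) Y := by
    intro Y _ _ hY hcent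
    obtain ⟨K, R, hR, ⟨e⟩⟩ := hY.exists_equiv
    have hcentZ := Cfsg.Agent.S0630.centralizer_pCore_le_of_equiv p e hcent
    have h1 := hloc K R hcentZ
    apply Cfsg.Agent.Helper10.claim_of_equiv h𝓦 e
    intro T A g hA hgA
    have hn := h1 T
    refine ⟨g, Cfsg.Agent.Helper10.FChain.single (W := Cfsg.inducedFunctor W)
      ⟨W, rfl, rfl⟩ ⟨Subgroup.mem_top g, ?_⟩ hA hgA, fun _ _ => rfl⟩
    rw [Subgroup.normalizer_eq_top_iff.2 hn]
    exact Subgroup.mem_top g
  intro K R hR T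
  have h2 := Cfsg.Agent.Helper10.claim_all h𝓦 (fun Y _ => Cfsg.Agent.Helper10.IsSec G Y)
    (fun Y _ hY M => hY.subgroup M) (fun Y _ hY N _ => hY.quotient N) Hc
    (Nat.card (↥K ⧸ R.subgroupOf K)) (↥K ⧸ R.subgroupOf K) rfl
    (Cfsg.Agent.Helper10.isSec_section K R)
  refine ⟨T, Cfsg.Agent.Helper10.iF_le _, ?_⟩
  intro A hA
  refine ⟨hA, ?_⟩
  intro g hgA
  obtain ⟨z, hz, hzA⟩ := h2 T A g hA hgA
  refine ⟨z, ?_, fun a ha => (hzA a ha).symm⟩
  have key : ∀ z' : (↥K ⧸ R.subgroupOf K), Cfsg.Agent.Helper10.FChain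
      (Cfsg.Agent.Helper10.iFam ({W} : Set (∀ (Q : Type u) [Group Q], Subgroup Q)) (↥K ⧸ R.subgroupOf K)) ⊤
      (T : Subgroup (↥K ⧸ R.subgroupOf K)) A z' →
      z' ∈ Subgroup.normalizer ((Cfsg.inducedFunctor W (T : Subgroup (↥K ⧸ R.subgroupOf K)) :
        Subgroup (↥K ⧸ R.subgroupOf K)) : Set (↥K ⧸ R.subgroupOf K)) := by
    intro z' hch
    induction hch with
    | nil _ => exact Subgroup.one_mem _
    | step z'' m W' _ hW' hm _ ih =>
      obtain ⟨W'', hW'', rfl⟩ := hW'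
      rw [Set.mem_singleton_iff] at hW''
      subst hW''
      exact Subgroup.mul_mem _ hm.2 ih
  exact key z hz

end Cfsg.Agent.S1969
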