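import Cfsg.Statements.S0646
import Mathlib
import Cfsg.Agent.Helper1.CyclicMax2

set_option autoImplicit false
open Cfsg

namespace Cfsg.Agent.S0646

/-- Classification of non-abelian 2-groups with a cyclic maximal subgroup: dihedral, generalized quaternion, and for order at least 16 the modular group and the semidihedral group, each given by generators a (of index 2) and b with the stated relations. -/
theorem result {G : Type*} [Group G] [Finite G] (n : ℕ) (hn : 3 ≤ n) (hG : Nat.card G = 2 ^ n) (C : Subgroup G) (hC : IsCyclic C) (hCi : C.index = 2) (hna : ∃ x y : G, x * y ≠ y * x) : ∃ a b : G, orderOf a = 2 ^ (n - 1) ∧ b ∉ Subgroup.zpowers a ∧ ((b ^ 2 = 1 ∧ b * a * b⁻¹ = a⁻¹) ∨ (b ^ 2 = a ^ (2 ^ (n - 2)) ∧ b * a * b⁻¹ = a⁻¹) ∨ (4 ≤ n ∧ b ^ 2 = 1 ∧ b * a * b⁻¹ = a ^ (1 + 2 ^ (n - 2))) ∨ (4 ≤ n ∧ b ^ 2 = 1 ∧ b * a * b⁻¹ = a ^ (2 ^ (n - 2) - 1))) := by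
  obtain ⟨a, ha⟩ := (Subgroup.isCyclic_iff_exists_zpowers_eq_top C).mp hC
  obtain ⟨m, rfl⟩ : ∃ m, n = m + 3 := ⟨n - 3, by omega⟩
  have e1 : m + 3 - 1 = (m + 1) + 1 := by omega
  have e2 : m + 3 - 2 = m + 1 := by omega
  rw [e1, e2]
  have hCcard : Nat.card C = 2 ^ ((m + 1) + 1) := by
    have h1 := Subgroup.card_mul_index C
    rw [hCi, hG] at h1
    have h2 : (2 : ℕ) ^ (m + 3) = 2 ^ ((m + 1) + 1) * 2 := by rw [← pow_succ]
    rw [h2] at h1
    exact Nat.eq_of_mul_eq_mul_right (by norm_num) h1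
  have hoa : orderOf a = 2 ^ ((m + 1) + 1) := by
    rw [← Nat.card_zpowers, ha, hCcard]
  have hCn : C.Normal := Subgroup.normal_of_index_eq_two hCi
  obtain ⟨x, hx⟩ : ∃ x : G, x ∉ C := by
    by_contra hcon
    push Not at hcon
    have : C = ⊤ := eq_top_iff.mpr fun g _ => hcon g
    rw [this, Subgroup.index_top] at hCi
    omega
  have hx2 : x ^ 2 ∈ Subgroup.zpowers a := by rw [ha]; exact Subgroup.sq_mem_of_index_two hCi x
  have haC : a ∈ C := by rw [← ha]; exact Subgroup.mem_zpowers a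
  have hnorm : x * a * x⁻¹ ∈ Subgroup.zpowers a := by rw [ha]; exact hCn.conj_mem a haC x
  have hcoset : ∀ g : G, g ∉ C → x⁻¹ * g ∈ C := by
    intro g hg
    rw [Subgroup.mul_mem_iff_of_index_two hCi]
    constructor
    · intro h; exact absurd (C.inv_mem_iff.mp h) hx
    · intro h; exact absurd h hg
  have hnc : x * a * x⁻¹ ≠ a := by
    intro hcomm
    obtain ⟨u, v, huv⟩ := hna
    apply huv
    have hxa : x * a = a * x := by
      calc x * a = (x * a * x⁻¹) * x := by group
        _ = a * x := by rw [hcomm]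
    have hxc : ∀ c ∈ C, x * c = c * x := by
      intro c hc
      rw [← ha] at hc
      obtain ⟨t, rfl⟩ := hc
      exact (Commute.zpow_right (show Commute x a from hxa) t).eq
    have hcc : ∀ c ∈ C, ∀ c' ∈ C, c * c' = c' * c := by
      intro c hc c' hc'
      rw [← ha] at hc hc'
      obtain ⟨t, rfl⟩ := hc
      obtain ⟨t', rfl⟩ := hc'
      exact (Commute.zpow_zpow_self a t t').eq
    -- every element is `c` or `x * c`
    have hform : ∀ g : G, ∃ c ∈ C, g = c ∨ g = x * c := by
      intro g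
      by_cases hg : g ∈ C
      · exact ⟨g, hg, Or.inl rfl⟩
      · exact ⟨x⁻¹ * g, hcoset g hg, Or.inr (by group)⟩
    obtain ⟨c, hc, hu⟩ := hform u
    obtain ⟨c', hc', hv⟩ := hform v
    rcases hu with rfl | rfl <;> rcases hv with rfl | rfl
    · exact hcc _ hc _ hc'
    · calc u * (x * c') = (u * x) * c' := by group
        _ = (x * u) * c' := by rw [hxc u hc]
        _ = x * (u * c') := by group
        _ = x * (c' * u) := by rw [hcc u hc c' hc']
        _ = x * c' * u := by group
    · calc x * c * v = x * (c * v) := by group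
        _ = x * (v * c) := by rw [hcc c hc v hc']
        _ = (x * v) * c := by group
        _ = (v * x) * c := by rw [hxc v hc']
        _ = v * (x * c) := by group
    · calc x * c * (x * c') = x * (c * x) * c' := by group
        _ = x * (x * c) * c' := by rw [hxc c hc]
        _ = x * x * (c * c') := by group
        _ = x * x * (c' * c) := by rw [hcc c hc c' hc']
        _ = x * (x * c') * c := by group
        _ = x * (c' * x) * c := by rw [hxc c' hc']
        _ = x * c' * (x * c) := by group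
  obtain ⟨j, hj⟩ := Cfsg.Agent.Helper1.CyclicMax2.structure_of_sq_mem a x (m + 1) (by omega) hoa
    hx2 hnorm hnc
  refine ⟨a, x * a ^ j, hoa, ?_, ?_⟩
  · intro hb
    apply hx
    rw [ha] at hb
    have : x = (x * a ^ j) * (a ^ j)⁻¹ := by group
    rw [this]
    exact C.mul_mem hb (C.inv_mem (C.zpow_mem haC j))
  · rw [Cfsg.Agent.Helper1.CyclicMax2.conj_mul_zpow]
    rcases hj with h | h | ⟨h1, h2, h3⟩ | ⟨h1, h2, h3⟩
    · exact Or.inl h
    · exact Or.inr (Or.inl h)
    · exact Or.inr (Or.inr (Or.inl ⟨by omega, h2, h3⟩))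
    · exact Or.inr (Or.inr (Or.inr ⟨by omega, h2, h3⟩))

end Cfsg.Agent.S0646
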