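import Cfsg.Statements.S4399
import Mathlib
import Cfsg.Agent.S0646
import Cfsg.Agent.S0113
import Cfsg.Agent.Helper9.MaxClassTwoC
import Cfsg.Agent.Helper9.AbelianIndexTwo
import Cfsg.Agent.Helper2.QuaternionLift
import Cfsg.Agent.Helper11.DihedralLift
-- import your own Cfsg.Agent.* helpers here

set_option autoImplicit false
set_option linter.style.haveILetI false
open Cfsg

namespace Cfsg.Agent.S4399

/-- Let S be a finite 2-group whose commutator quotient S/[S,S] is a Klein four-group (order 4 and exponent 2). Then S itself has order 4, or S is dihedral of order at least 8, semidihedral of order at least 16 (order 2^(k+4) with an element a of order 2^(k+3) and an involution b with b a b⁻¹ = a^(2^(k+2)−1)), or generalized quaternion of order at least 8. -/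
theorem result {S : Type*} [Group S] [Finite S] (h2 : IsPGroup 2 S) (hab : Nat.card (Abelianization S) = 4)
    (hexp : ∀ x : Abelianization S, x ^ 2 = 1) :
    Nat.card S = 4 ∨
    ((∃ k : ℕ, Nonempty (S ≃* DihedralGroup (2 ^ (k + 2)))) ∨
      (∃ k : ℕ, Nat.card S = 2 ^ (k + 4) ∧ ∃ a b : S, orderOf a = 2 ^ (k + 3) ∧ orderOf b = 2 ∧ b * a * b⁻¹ = a ^ (2 ^ (k + 2) - 1)) ∨
      (∃ k : ℕ, Nonempty (S ≃* QuaternionGroup (2 ^ (k + 1))))) := by
  classical
  haveI : Fact (Nat.Prime 2) := ⟨Nat.prime_two⟩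
  obtain ⟨n, hn⟩ := IsPGroup.iff_card.mp h2
  have hidx : (commutator S).index = 4 := by
    rw [Subgroup.index_eq_card]; exact hab
  have hcm : Nat.card (commutator S) * 4 = 2 ^ n := by
    rw [← hidx, ← hn]; exact Subgroup.card_mul_index _
  have hn2 : 2 ≤ n := by
    by_contra h
    push Not at h
    have hc0 : 0 < Nat.card (commutator S) := Nat.card_pos
    interval_cases n <;> omega
  rcases Nat.lt_or_ge n 3 with hlt | hge
  · left
    have h2' : n = 2 := by omega
    rw [hn, h2']; norm_num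
  right
  obtain ⟨k, rfl⟩ : ∃ k, n = k + 3 := ⟨n - 3, by omega⟩
  have hc : Group.nilpotencyClass S = k + 3 - 1 :=
    Cfsg.Agent.Helper9.maxClass_of_index_commutator_aux (k + 3) hge S hn hidx
  obtain ⟨C, hC, hCi⟩ := Cfsg.Agent.S0113.result (k + 3) hge hn hc
  have hnc : ¬ IsMulCommutative S := by
    intro hcomm
    have hbot := Cfsg.Agent.Helper9.commutator_eq_bot_of_comm hcomm
    rw [hbot, Subgroup.card_bot] at hcm
    have : (2 : ℕ) ^ (k + 3) = 8 * 2 ^ k := by ring
    have hk : 0 < 2 ^ k := Nat.pos_of_ne_zero (by positivity)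
    omega
  have hna : ∃ x y : S, x * y ≠ y * x := by
    by_contra h
    push Not at h
    exact hnc ⟨⟨h⟩⟩
  obtain ⟨a, b, ha, hba, hcases⟩ := Cfsg.Agent.S0646.result (k + 3) hge hn C hC hCi hna
  have e1 : k + 3 - 1 = k + 2 := by omega
  have e2 : k + 3 - 2 = k + 1 := by omega
  rw [e1] at ha
  rw [e2] at hcases
  rcases hcases with ⟨hb2, hrel⟩ | ⟨hb2, hrel⟩ | ⟨h4, hb2, hrel⟩ | ⟨h4, hb2, hrel⟩
  · -- dihedral
    left
    refine ⟨k, ?_⟩
    have hbb : b * b = 1 := by rw [← pow_two]; exact hb2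
    have hbinv : b⁻¹ = b := inv_eq_of_mul_eq_one_left hbb
    apply Cfsg.Agent.Helper11.nonempty_mulEquiv_dihedralGroup (2 ^ (k + 2)) _ a b ha hbb _ hba
    · rw [hn]; ring
    · rw [← hrel, hbinv]
  · -- quaternion
    right; right
    refine ⟨k, ?_⟩
    haveI : NeZero (2 ^ (k + 1)) := ⟨by positivity⟩
    apply Cfsg.Agent.Helper2.QLift.nonempty_mulEquiv_quaternionGroup (2 ^ (k + 1)) _ a b _ _ hrel hba
    · rw [hn]; ring
    · rw [ha]; ring
    · rw [← pow_two]; exact hb2
  · -- modular: impossible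
    exfalso
    have hCcomm : ∀ s ∈ C, ∀ t ∈ C, s * t = t * s := by
      intro s hs t ht
      have hc' : IsMulCommutative ↥C := IsCyclic.isMulCommutative
      exact congrArg Subtype.val (hc'.is_comm.comm ⟨s, hs⟩ ⟨t, ht⟩)
    have hform := Cfsg.Agent.Helper9.card_eq_of_commutative_index_two C hCi hCcomm hnc
    rw [hn] at hform
    have hc0 : 0 < Nat.card (commutator S) := Nat.card_pos
    have hZ2 : Nat.card (Subgroup.center S) = 2 := by
      have h5 : Nat.card (commutator S) * 4 =
          Nat.card (commutator S) * (2 * Nat.card (Subgroup.center S)) := by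
        rw [hcm, hform]; ring
      have := Nat.eq_of_mul_eq_mul_left hc0 h5
      omega
    -- index of zpowers a
    have hAcard : Nat.card (Subgroup.zpowers a) = 2 ^ (k + 2) := by
      rw [Nat.card_zpowers, ha]
    have hAidx : (Subgroup.zpowers a).index = 2 := by
      have h6 := Subgroup.card_mul_index (Subgroup.zpowers a)
      rw [hAcard, hn] at h6
      have h7 : (2 : ℕ) ^ (k + 3) = 2 ^ (k + 2) * 2 := by ring
      rw [h7] at h6
      exact Nat.eq_of_mul_eq_mul_left (by positivity) h6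
    -- a^2 commutes with b
    have hpow : a ^ (2 ^ (k + 2)) = 1 := by rw [← ha]; exact pow_orderOf_eq_one a
    have hcb : Commute (a ^ 2) b := by
      have h8 : b * a ^ 2 * b⁻¹ = a ^ 2 := by
        rw [← conj_pow, hrel, ← pow_mul]
        have h9 : (1 + 2 ^ (k + 1)) * 2 = 2 + 2 ^ (k + 2) := by ring
        rw [h9, pow_add, hpow, mul_one]
      have h10 : b * a ^ 2 = a ^ 2 * b := by
        calc b * a ^ 2 = (b * a ^ 2 * b⁻¹) * b := by group
          _ = a ^ 2 * b := by rw [h8]
      exact h10.symm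
    have hbinvA : b⁻¹ ∉ Subgroup.zpowers a := fun h => hba (by simpa using inv_mem h)
    have ha2 : a ^ 2 ∈ Subgroup.center S := by
      rw [Subgroup.mem_center_iff]
      intro x
      by_cases hx : x ∈ Subgroup.zpowers a
      · obtain ⟨i, rfl⟩ := Subgroup.mem_zpowers_iff.mp hx
        exact ((Commute.refl a).pow_right 2 |>.zpow_left i).eq
      · have h11 : b⁻¹ * x ∈ Subgroup.zpowers a := by
          rw [Subgroup.mul_mem_iff_of_index_two hAidx]
          exact ⟨fun h => absurd h hbinvA, fun h => absurd h hx⟩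
        obtain ⟨i, hi⟩ := Subgroup.mem_zpowers_iff.mp h11
        have hx' : x = b * a ^ i := by rw [hi]; group
        rw [hx']
        have hc1 : Commute (a ^ 2) (a ^ i) := ((Commute.refl a).pow_left 2).zpow_right i
        exact (hcb.mul_right hc1).eq.symm
    have h12 : (⟨a ^ 2, ha2⟩ : Subgroup.center S) ^ 2 = 1 := by
      have := pow_card_eq_one' (G := Subgroup.center S) (x := ⟨a ^ 2, ha2⟩)
      rwa [hZ2] at this
    have h13 : a ^ 4 = 1 := by
      have := congrArg Subtype.val h12
      simpa [← pow_mul] using this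
    have h14 : orderOf a ∣ 4 := orderOf_dvd_of_pow_eq_one h13
    rw [ha] at h14
    have h15 : (2 : ℕ) ^ (k + 2) ≤ 4 := Nat.le_of_dvd (by norm_num) h14
    have h16 : (2 : ℕ) ^ (k + 2) = 4 * 2 ^ k := by ring
    have h17 : 2 ≤ 2 ^ k := by
      have : 1 ≤ k := by omega
      calc 2 = 2 ^ 1 := by norm_num
        _ ≤ 2 ^ k := Nat.pow_le_pow_right (by norm_num) this
    omega
  · -- semidihedral
    right; left
    obtain ⟨j, rfl⟩ : ∃ j, k = j + 1 := ⟨k - 1, by omega⟩
    refine ⟨j, hn, a, b, ha, ?_, hrel⟩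
    have hb1 : b ≠ 1 := fun h => hba (h ▸ one_mem _)
    exact orderOf_eq_prime hb2 hb1

end Cfsg.Agent.S4399
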