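import Cfsg.Statements.S1896
import Cfsg.Agent.Helper21.MetaAut

set_option autoImplicit false
set_option linter.style.haveILetI false
open Cfsg
open scoped commutatorElement

namespace Cfsg.Agent.S1896

/-- A finite metacyclic 2-group whose automorphism group is not a 2-group is isomorphic to the quaternion group of order 8 or to a homocyclic abelian group Z_{2^n} × Z_{2^n}. -/
theorem result {X : Type*} [Group X] [Finite X] (hX : IsPGroup 2 X)
    (hm : Cfsg.IsMetacyclic X) (hA : ¬ IsPGroup 2 (MulAut X)) :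
    Nonempty (X ≃* QuaternionGroup 2) ∨
      ∃ n : ℕ, Nonempty (X ≃* Multiplicative (ZMod (2 ^ n)) × Multiplicative (ZMod (2 ^ n))) := by
  haveI : Fact (Nat.Prime 2) := ⟨Nat.prime_two⟩
  -- an automorphism of order three
  have hex : ∃ γ : MulAut X, γ ^ 3 = 1 ∧ γ ≠ 1 := by
    have hA' := hA
    unfold IsPGroup at hA'
    push Not at hA'
    obtain ⟨α, hα⟩ := hA'
    have hord : orderOf α ≠ 0 := (orderOf_pos α).ne'
    obtain ⟨k, m, hmodd, hkm⟩ := Nat.exists_eq_two_pow_mul_odd hord
    have hm1 : m ≠ 1 := by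
      intro h
      apply hα k
      rw [h, mul_one] at hkm
      rw [← hkm]; exact pow_orderOf_eq_one α
    set r := m.minFac with hr
    have hrp : r.Prime := Nat.minFac_prime hm1
    haveI : Fact r.Prime := ⟨hrp⟩
    have hrm : r ∣ m := Nat.minFac_dvd m
    have hr2 : r ≠ 2 := by
      intro h
      rw [h] at hrm
      exact (Nat.not_even_iff_odd.mpr hmodd) (even_iff_two_dvd.mpr hrm)
    obtain ⟨s, hs⟩ := hrm
    have hs0 : 2 ^ k * s ≠ 0 := by
      intro h
      apply hord
      rw [hkm, hs]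
      rcases Nat.mul_eq_zero.mp h with h | h
      · rw [h, zero_mul]
      · rw [h, mul_zero, mul_zero]
    set γ := α ^ (2 ^ k * s) with hγ
    have hγo : orderOf γ = r := by
      rw [hγ, orderOf_pow_of_dvd hs0 (by rw [hkm, hs]; exact ⟨r, by ring⟩), hkm, hs]
      have : 2 ^ k * (r * s) = r * (2 ^ k * s) := by ring
      rw [this, Nat.mul_div_cancel _ (Nat.pos_of_ne_zero hs0)]
    have hγ1 : γ ≠ 1 := by
      intro h
      rw [h, orderOf_one] at hγo
      exact hrp.one_lt.ne hγo
    have hγr : γ ^ r ^ 1 = 1 := by rw [pow_one, ← hγo]; exact pow_orderOf_eq_one γ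
    have hr3 : r ∣ 2 ^ 2 - 1 := by
      by_contra hnd
      exact hγ1 (Cfsg.Agent.Helper21.MetaNPC.aut_eq_one hr2 hX hm hnd γ 1 hγr)
    have hr3' : r = 3 := by
      have h3 : (2 : ℕ) ^ 2 - 1 = 3 := by norm_num
      rw [h3] at hr3
      exact (Nat.prime_dvd_prime_iff_eq hrp (by norm_num)).mp hr3
    refine ⟨γ, ?_, hγ1⟩
    rw [← hr3', ← hγo]; exact pow_orderOf_eq_one γ
  obtain ⟨γ, hγ3, hγ1⟩ := hex
  by_cases hab : ∀ x y : X, x * y = y * x
  · right
    exact Cfsg.Agent.Helper21.MetaAut.exists_mulEquiv_of_abelian hab hX hm γ hγ3 hγ1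
  · left
    have hna : ¬ IsMulCommutative X := by
      intro h
      apply hab
      intro x y
      exact h.is_comm.comm x y
    have hne : commutator X ≠ ⊥ := by
      intro h
      apply hab
      intro x y
      have h1 : ⁅x, y⁆ ∈ commutator X :=
        Subgroup.commutator_mem_commutator (Subgroup.mem_top x) (Subgroup.mem_top y)
      rw [h, Subgroup.mem_bot, commutatorElement_eq_one_iff_mul_comm] at h1
      exact h1
    have h4 := Cfsg.Agent.Helper21.MetaAut.index_commutator_eq_four hX hm hne γ hγ3 hγ1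
    exact Cfsg.Agent.Helper11.Q8Aut.q8_of_aut hX hna h4 hA

end Cfsg.Agent.S1896
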