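import Mathlib
import Cfsg.Statements.S3780
import Cfsg.Agent.Helper19.Subnormal
import Cfsg.Agent.Helper1.PGroup

set_option autoImplicit false
open Cfsg

namespace Cfsg.Agent.S3780

open Subgroup Cfsg.Agent.Helper19

/-- Greedy generation modulo a subgroup `Φ` of a finite `p`-group: if `|G : Φ| ≤ p^r` then `r`
elements generate `G` modulo `Φ`. -/
lemma exists_finset_closure_sup_eq_top {G : Type*} [Group G] [Finite G] {p : ℕ}
    [hp : Fact p.Prime] (hG : IsPGroup p G) (Φ : Subgroup G) (r : ℕ)
    (hcard : Nat.card G ≤ p ^ r * Nat.card Φ) :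
    ∃ S : Finset G, S.card ≤ r ∧ closure (S : Set G) ⊔ Φ = ⊤ := by
  classical
  have key : ∀ i : ℕ, ∃ S : Finset G, S.card ≤ i ∧ (closure (S : Set G) ⊔ Φ = ⊤ ∨
      p ^ i * Nat.card Φ ≤ Nat.card ↥(closure (S : Set G) ⊔ Φ)) := by
    intro i
    induction i with
    | zero =>
      refine ⟨∅, le_rfl, Or.inr ?_⟩
      simp
    | succ i ih =>
      obtain ⟨S, hS, h⟩ := ih
      by_cases htop : closure (S : Set G) ⊔ Φ = ⊤
      · exact ⟨S, hS.trans (Nat.le_succ i), Or.inl htop⟩
      · have h' := h.resolve_left htop
        obtain ⟨x, hx⟩ : ∃ x, x ∉ closure (S : Set G) ⊔ Φ := by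
          by_contra hall
          push Not at hall
          exact htop (eq_top_iff.mpr fun x _ => hall x)
        refine ⟨insert x S, (Finset.card_insert_le x S).trans (Nat.succ_le_succ hS), Or.inr ?_⟩
        have hle : closure (S : Set G) ⊔ Φ ≤ closure ((insert x S : Finset G) : Set G) ⊔ Φ := by
          apply sup_le_sup_right
          apply Subgroup.closure_mono
          intro y hy
          exact Finset.mem_insert_of_mem hy
        have hxmem : x ∈ closure ((insert x S : Finset G) : Set G) ⊔ Φ :=
          (le_sup_left : closure ((insert x S : Finset G) : Set G) ≤ _)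
            (subset_closure (Finset.mem_insert_self x S))
        have hlt : closure (S : Set G) ⊔ Φ < closure ((insert x S : Finset G) : Set G) ⊔ Φ :=
          lt_of_le_of_ne hle (fun heq => hx (heq ▸ hxmem))
        obtain ⟨a, ha⟩ := IsPGroup.iff_card.mp (hG.to_subgroup (closure (S : Set G) ⊔ Φ))
        obtain ⟨b, hb⟩ := IsPGroup.iff_card.mp
          (hG.to_subgroup (closure ((insert x S : Finset G) : Set G) ⊔ Φ))
        have hcl := card_lt_card_of_lt hlt
        rw [ha, hb] at hcl
        have hab : a < b := (Nat.pow_lt_pow_iff_right hp.out.one_lt).mp hcl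
        rw [ha] at h'
        rw [hb]
        calc p ^ (i + 1) * Nat.card Φ = p * (p ^ i * Nat.card Φ) := by ring
          _ ≤ p * p ^ a := Nat.mul_le_mul_left p h'
          _ = p ^ (a + 1) := by ring
          _ ≤ p ^ b := Nat.pow_le_pow_right hp.out.pos hab
  obtain ⟨S, hS, h⟩ := key r
  refine ⟨S, hS, ?_⟩
  rcases h with h | h
  · exact h
  · exact Subgroup.eq_top_of_le_card _ (hcard.trans h)

/-- The kernel of the `k`-th iterate of an endomorphism. -/
def kerIter {W : Type*} [AddCommGroup W] (f : W →+ W) (k : ℕ) : AddSubgroup W where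
  carrier := {x | f^[k] x = 0}
  zero_mem' := iterate_map_zero f k
  add_mem' := by
    intro x y hx hy
    simp only [Set.mem_ofPred_eq] at hx hy ⊢
    rw [iterate_map_add, hx, hy, add_zero]
  neg_mem' := by
    intro x hx
    simp only [Set.mem_ofPred_eq] at hx ⊢
    rw [iterate_map_neg, hx, neg_zero]

lemma mem_kerIter {W : Type*} [AddCommGroup W] (f : W →+ W) (k : ℕ) (x : W) :
    x ∈ kerIter f k ↔ f^[k] x = 0 := Iff.rfl

/-- For an endomorphism `f` of a finite abelian group, `|ker f^k| ≤ |ker f|^k`. -/
lemma card_kerIter_le {W : Type*} [AddCommGroup W] [Finite W] (f : W →+ W) (k : ℕ) :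
    Nat.card (kerIter f k) ≤ Nat.card (kerIter f 1) ^ k := by
  induction k with
  | zero =>
    have : kerIter f 0 = ⊥ := by
      rw [eq_bot_iff]
      intro x hx
      rw [mem_kerIter, Function.iterate_zero, id] at hx
      exact hx
    rw [this, pow_zero]
    simp
  | succ k ih =>
    have hmem : ∀ x : W, x ∈ kerIter f (k + 1) → f x ∈ kerIter f k := by
      intro x hx
      rw [mem_kerIter, Function.iterate_succ_apply] at hx
      exact hx
    let g : kerIter f (k + 1) →+ kerIter f k :=
      { toFun := fun x => ⟨f x.1, hmem x.1 x.2⟩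
        map_zero' := by ext; simp
        map_add' := by intro x y; ext; simp }
    have h1 : Nat.card g.ker * Nat.card g.range = Nat.card (kerIter f (k + 1)) := by
      rw [← AddSubgroup.index_ker, AddSubgroup.card_mul_index]
    have h2 : Nat.card g.range ≤ Nat.card (kerIter f k) := Finite.card_subtype_le _
    have h3 : Nat.card g.ker ≤ Nat.card (kerIter f 1) := by
      apply Nat.card_le_card_of_injective
        (fun x : g.ker => (⟨x.1.1, by
          have := x.2
          rw [AddMonoidHom.mem_ker] at this
          rw [mem_kerIter, Function.iterate_one]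
          exact congrArg Subtype.val this⟩ : kerIter f 1))
      intro x y hxy
      have : x.1.1 = y.1.1 := by
        have h := congrArg Subtype.val hxy
        exact h
      exact Subtype.ext (Subtype.ext this)
    calc Nat.card (kerIter f (k + 1)) = Nat.card g.ker * Nat.card g.range := h1.symm
      _ ≤ Nat.card (kerIter f 1) * Nat.card (kerIter f k) := Nat.mul_le_mul h3 h2
      _ ≤ Nat.card (kerIter f 1) * Nat.card (kerIter f 1) ^ k := Nat.mul_le_mul_left _ ih
      _ = Nat.card (kerIter f 1) ^ (k + 1) := by ring


/-- Let V be a finite abelian p-group and α an automorphism of V of order p whose fixed-point subgroup has order p^n. Then V can be generated by pn elements: some subset of V with at most pn elements generates V. -/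
theorem result {V : Type*} [CommGroup V] [Finite V] {p : ℕ} [Fact p.Prime] (hV : IsPGroup p V) (α : MulAut V) (hα : orderOf α = p) (n : ℕ) (hfix : Nat.card {v : V // α v = v} = p ^ n) : ∃ S : Finset V, S.card ≤ p * n ∧ Subgroup.closure (S : Set V) = ⊤ := by
  classical
  have hp : p.Prime := Fact.out
  let φ : V →* V := powMonoidHom p
  have hcard : Nat.card φ.ker * Nat.card φ.range = Nat.card V := by
    rw [← Subgroup.index_ker, Subgroup.card_mul_index]
  obtain ⟨r, hr⟩ := IsPGroup.iff_card.mp (hV.to_subgroup φ.ker)
  have hΦ : φ.range ≤ frattini V := by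
    rintro _ ⟨v, rfl⟩
    exact Helper1.IsPGroup.pow_mem_frattini hV v
  obtain ⟨S, hS, hgen⟩ := exists_finset_closure_sup_eq_top hV φ.range r (by rw [← hcard, hr])
  have hgen' : closure (S : Set V) = ⊤ := by
    apply frattini_nongenerating
    rw [eq_top_iff, ← hgen]
    exact sup_le_sup_left hΦ _
  refine ⟨S, hS.trans ?_, hgen'⟩
  -- the bound `r ≤ p * n`
  let a : AddMonoid.End (Additive V) := MonoidHom.toAdditive α.toMonoidHom
  have ha_apply : ∀ w : Additive V, a w = Additive.ofMul (α w.toMul) := fun w => rfl
  have ha_pow : ∀ (k : ℕ) (w : Additive V), (a ^ k) w = Additive.ofMul ((α ^ k) w.toMul) := by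
    intro k
    induction k with
    | zero => intro w; simp
    | succ k ih =>
      intro w
      rw [pow_succ, AddMonoid.End.coe_mul, Function.comp_apply, ih, ha_apply, pow_succ,
        MulAut.mul_apply]
      rfl
  have hαp : α ^ p = 1 := by rw [← hα]; exact pow_orderOf_eq_one α
  have hap : a ^ p = 1 := by
    ext w
    rw [ha_pow, hαp]
    rfl
  have hcomm : Commute a (-1 : AddMonoid.End (Additive V)) := (Commute.one_right a).neg_right
  obtain ⟨r', hr'⟩ := hcomm.exists_add_pow_prime_eq hp
  have hone : ∃ c : AddMonoid.End (Additive V), 1 + (-1) ^ p = (p : AddMonoid.End (Additive V)) * c := by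
    rcases hp.eq_two_or_odd' with h2 | hodd
    · refine ⟨1, ?_⟩
      subst h2
      norm_num
    · refine ⟨0, ?_⟩
      have h1 : (-1 : AddMonoid.End (Additive V)) ^ p = -1 := by
        convert hodd.neg_one_pow (α := AddMonoid.End (Additive V)) using 1
      rw [h1]
      simp
  obtain ⟨c, hc⟩ := hone
  have hNp : (a + -1) ^ p = (p : AddMonoid.End (Additive V)) * (c + a * (-1) * r') := by
    rw [hr', hap, hc, mul_add]
    simp only [mul_assoc]
  let N : Additive V →+ Additive V := (a + -1 : AddMonoid.End (Additive V))
  have hker_le : Nat.card φ.ker ≤ Nat.card (kerIter N p) := by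
    apply Nat.card_le_card_of_injective (fun v : φ.ker => (⟨Additive.ofMul v.1, by
      rw [mem_kerIter]
      have h1 : N^[p] (Additive.ofMul v.1) = ((a + -1) ^ p : AddMonoid.End (Additive V))
          (Additive.ofMul v.1) := by
        rw [AddMonoid.End.coe_pow]
        rfl
      rw [h1, hNp, AddMonoid.End.coe_mul, Function.comp_apply, AddMonoid.End.natCast_apply,
        ← map_nsmul]
      have h2 : p • (Additive.ofMul (v.1 : V)) = 0 := by
        have := v.2
        rw [MonoidHom.mem_ker] at this
        exact congrArg Additive.ofMul this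
      rw [h2, map_zero]⟩ : kerIter N p))
    intro x y hxy
    have : Additive.ofMul x.1 = Additive.ofMul y.1 := by
      have h := congrArg Subtype.val hxy
      exact h
    exact Subtype.ext (Additive.ofMul.injective this)
  have hker1 : Nat.card (kerIter N 1) = p ^ n := by
    rw [← hfix]
    apply Nat.card_congr
    refine Equiv.subtypeEquiv Additive.toMul (fun w => ?_)
    rw [mem_kerIter, Function.iterate_one]
    change a w + (-1 : AddMonoid.End (Additive V)) w = 0 ↔ _
    rw [ha_apply]
    constructor
    · intro h
      have h' : Additive.ofMul (α w.toMul) = w := by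
        have : (-1 : AddMonoid.End (Additive V)) w = -w := rfl
        rw [this] at h
        exact add_neg_eq_zero.mp h
      exact congrArg Additive.toMul h'
    · intro h
      have : (-1 : AddMonoid.End (Additive V)) w = -w := rfl
      rw [this, add_neg_eq_zero]
      exact congrArg Additive.ofMul h
  have hbound := (hker_le.trans (card_kerIter_le N p))
  rw [hr, hker1, ← pow_mul] at hbound
  have := (Nat.pow_le_pow_iff_right hp.one_lt).mp hbound
  rw [mul_comm]; exact this

end Cfsg.Agent.S3780
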