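import Cfsg.Statements.S5089
import Cfsg.Agent.Helper25.FusionChar

set_option autoImplicit false
open Cfsg

namespace Cfsg.Agent.S5089

open Cfsg.Agent.Helper25 Cfsg.FusionSystem
open scoped commutatorElement

/-- `O_p(F)` is normal in the system. -/
theorem core_isNormal {Ω : Type*} [Group Ω] {S : Subgroup Ω} [Finite S]
    (F : Cfsg.FusionSystem S) : F.IsNormal F.core :=
  sSup_mem_of_sup_closed (C := {Q : Subgroup Ω | F.IsNormal Q}) (bot_isNormal F)
    (fun _ hQ => hQ.1) (fun _ h₁ _ h₂ => isNormal_sup F h₁ h₂)

/-- An abelian strongly closed subgroup is normal in a saturated system. -/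
theorem isNormal_of_abelian_stronglyClosed {Ω : Type*} [Group Ω] {S : Subgroup Ω} [Finite S]
    (p : ℕ) [Fact p.Prime] (hS : IsPGroup p S) (F : Cfsg.FusionSystem S) (hF : F.IsSaturated p)
    (Q : Subgroup Ω) (hQc : ∀ a ∈ Q, ∀ b ∈ Q, a * b = b * a) (hQ : F.StronglyClosed Q) :
    F.IsNormal Q := by
  refine isNormal_of_chain p hS F hF Q (fun i => if i = 0 then ⊥ else Q) 1 ?_ ?_ ?_ ?_
  · simp
  · simp
  · intro i hi
    have : i = 0 := by omega
    subst this
    simp
  · intro i hi
    have : i = 0 := by omega
    subst this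
    simp only [zero_add, one_ne_zero, if_false, if_true]
    refine ⟨hQ, ?_⟩
    rw [Subgroup.commutator_le]
    intro a ha b hb
    rw [Subgroup.mem_bot, commutatorElement_def, hQc a ha b hb]
    group

/-- A saturated fusion system over a finite p-group has a nontrivial subgroup that is normal in the system (O_p(F) ≠ 1) if and only if some nontrivial abelian subgroup is strongly closed in the system. -/
theorem result {Ω : Type*} [Group Ω] {S : Subgroup Ω} [Finite S] (p : ℕ) [Fact p.Prime] (hS : IsPGroup p S) (F : Cfsg.FusionSystem S) (hF : F.IsSaturated p) : F.core ≠ ⊥ ↔ ∃ Q : Subgroup Ω, Q ≠ ⊥ ∧ IsMulCommutative Q ∧ F.StronglyClosed Q := by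
  constructor
  · intro hne
    have hN := core_isNormal F
    have hcS : F.core ≤ S := hN.1
    have hfin : Finite F.core := finite_of_le hcS
    have hcp : IsPGroup p F.core := isPGroup_of_le hS hcS
    have hnt : Nontrivial F.core := by
      rw [Subgroup.nontrivial_iff_ne_bot]
      exact hne
    have hZN : F.IsNormal ((Subgroup.center F.core).map F.core.subtype) :=
      isNormal_of_characteristic F hN (Subgroup.center F.core)
    refine ⟨(Subgroup.center F.core).map F.core.subtype, ?_, ?_, stronglyClosed_of_isNormal F hZN⟩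
    · have hlt := hcp.bot_lt_center
      obtain ⟨z, hz, hz1⟩ := SetLike.exists_of_lt hlt
      intro hbot
      have hzmem : (z : Ω) ∈ (Subgroup.center F.core).map F.core.subtype := ⟨z, hz, rfl⟩
      rw [hbot, Subgroup.mem_bot] at hzmem
      apply hz1
      rw [Subgroup.mem_bot]
      exact Subtype.ext hzmem
    · refine ⟨⟨?_⟩⟩
      rintro ⟨_, a, ha, rfl⟩ ⟨_, b, hb, rfl⟩
      apply Subtype.ext
      show (a : Ω) * (b : Ω) = (b : Ω) * (a : Ω)
      have := Subgroup.mem_center_iff.mp ha b
      exact (congrArg Subtype.val this).symm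
  · rintro ⟨Q, hQne, hQc, hQsc⟩
    have hQN : F.IsNormal Q := by
      apply isNormal_of_abelian_stronglyClosed p hS F hF Q _ hQsc
      intro a ha b hb
      have := hQc.is_comm.comm (⟨a, ha⟩ : Q) ⟨b, hb⟩
      exact congrArg Subtype.val this
    have hle : Q ≤ F.core := le_sSup hQN
    intro hbot
    apply hQne
    rw [hbot] at hle
    exact le_bot_iff.mp hle

end Cfsg.Agent.S5089
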