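import Cfsg.Statements.S5102
import Mathlib

set_option autoImplicit false
open Cfsg

namespace Cfsg.Agent.S5102

open Cfsg.FusionSystem

theorem normal_pgroup_le_sylow {G : Type*} [Group G] [Finite G] (p : ℕ) [Fact p.Prime] (S : Sylow p G)
    (R : Subgroup G) [hn : R.Normal] (hR : IsPGroup p R) : R ≤ (S : Subgroup G) := by
  obtain ⟨Q, hQ⟩ := hR.exists_le_sylow
  obtain ⟨g, rfl⟩ := MulAction.exists_smul_eq G Q S
  intro x hx
  rw [Sylow.coe_subgroup_smul, Subgroup.mem_pointwise_smul_iff_inv_smul_mem]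
  apply hQ
  have := hn.conj_mem x hx g⁻¹
  simpa [MulAut.smul_def] using this

/-- A normal p-subgroup of a finite group G is normal in the fusion system of G on a Sylow p-subgroup. -/
theorem result {G : Type*} [Group G] [Finite G] (p : ℕ) [Fact p.Prime] (S : Sylow p G) (R : Subgroup G) [R.Normal] (hR : IsPGroup p R) : (Cfsg.groupFusionSystem (S : Subgroup G)).IsNormal R := by
  have hRS : R ≤ (S : Subgroup G) := normal_pgroup_le_sylow p S R hR
  refine ⟨hRS, ?_⟩
  rintro P φ ⟨hPS, hφS, g, hg⟩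
  have hval : ∀ x : ↥(P ⊔ R), g * (x : G) * g⁻¹ ∈ (S : Subgroup G) := by
    have hle : P ⊔ R ≤ (S : Subgroup G).comap (MulAut.conj g).toMonoidHom := by
      apply sup_le
      · intro x hx
        show g * x * g⁻¹ ∈ (S : Subgroup G)
        have := hφS ⟨x, hx⟩
        rw [hg] at this
        exact this
      · intro x hx
        show g * x * g⁻¹ ∈ (S : Subgroup G)
        exact hRS (Subgroup.Normal.conj_mem inferInstance x hx g)
    intro x
    exact hle x.2
  refine ⟨conjHom (P ⊔ R) g, ⟨sup_le hPS hRS, hval, g, fun x => rfl⟩, ?_, ?_⟩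
  · intro x
    rw [hg]
    rfl
  · ext y
    constructor
    · rintro ⟨x, hx, rfl⟩
      have hxR : (x : G) ∈ R := hx
      show g * (x : G) * g⁻¹ ∈ R
      exact Subgroup.Normal.conj_mem inferInstance _ hxR g
    · intro hy
      have h1 : g⁻¹ * y * g⁻¹⁻¹ ∈ R := Subgroup.Normal.conj_mem inferInstance _ hy g⁻¹
      refine ⟨⟨g⁻¹ * y * g⁻¹⁻¹, (le_sup_right : R ≤ P ⊔ R) h1⟩, h1, ?_⟩
      show g * (g⁻¹ * y * g⁻¹⁻¹) * g⁻¹ = y
      group

end Cfsg.Agent.S5102
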