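import Cfsg.Statements.S5092
import Cfsg.Agent.Helper25.FusionHyperfocal

set_option autoImplicit false
open Cfsg

namespace Cfsg.Agent.S5092

open Cfsg.Agent.Helper25 Cfsg.FusionSystem
open scoped commutatorElement

/-- The subsystem of maps `φ` with `x⁻¹ φ(x) ∈ D` for all `x`, where `D ≥ [S,S]` is normalized by
`S`. -/
def quotientTrivialSystem {Ω : Type*} [Group Ω] {S : Subgroup Ω} (F : Cfsg.FusionSystem S)
    (D : Subgroup Ω) (hD : ⁅S, S⁆ ≤ D) : Cfsg.FusionSystem S where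
  Hom P := {φ | φ ∈ F.Hom P ∧ ∀ x : P, (x : Ω)⁻¹ * φ x ∈ D}
  le_of_mem := fun h => F.le_of_mem h.1
  injective_of_mem := fun h => F.injective_of_mem h.1
  conj_mem := by
    intro P g hP hg
    refine ⟨F.conj_mem hP hg, fun x => hD ?_⟩
    have h1 : ⁅(x : Ω)⁻¹, g⁆ ∈ ⁅S, S⁆ :=
      Subgroup.commutator_mem_commutator (S.inv_mem (hP x.2)) hg
    have e : ⁅(x : Ω)⁻¹, g⁆ = (x : Ω)⁻¹ * conjHom P g x := by
      rw [commutatorElement_def]
      show (x : Ω)⁻¹ * g * (x : Ω)⁻¹⁻¹ * g⁻¹ = (x : Ω)⁻¹ * (g * (x : Ω) * g⁻¹)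
      group
    rwa [e] at h1
  comp_mem := by
    rintro P Q φ ψ ⟨hφ, hφD⟩ ⟨hψ, hψD⟩ h
    refine ⟨F.comp_mem hφ hψ h, fun x => ?_⟩
    have h1 := D.mul_mem (hφD x) (hψD ⟨φ x, h x⟩)
    have e : (x : Ω)⁻¹ * φ x * ((φ x)⁻¹ * ψ ⟨φ x, h x⟩) = (x : Ω)⁻¹ * ψ ⟨φ x, h x⟩ := by group
    rw [e] at h1
    exact h1
  inv_mem := by
    rintro P φ ⟨hφ, hφD⟩
    obtain ⟨ψ, hψ, hinv⟩ := F.inv_mem hφ
    refine ⟨ψ, ⟨hψ, ?_⟩, hinv⟩
    rintro ⟨_, x, rfl⟩
    rw [hinv x]
    have := D.inv_mem (hφD x)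
    rwa [mul_inv_rev, inv_inv] at this

/-- For a saturated fusion system over a finite p-group S, the focal subgroup is the product of the hyperfocal subgroup and the derived subgroup of S. -/
theorem result {Ω : Type*} [Group Ω] {S : Subgroup Ω} [Finite S] (p : ℕ) [Fact p.Prime] (hS : IsPGroup p S) (F : Cfsg.FusionSystem S) (hF : F.IsSaturated p) : F.focalSubgroup = F.hyperfocalSubgroup p ⊔ ⁅(S : Subgroup Ω), (S : Subgroup Ω)⁆ := by
  set H := F.hyperfocalSubgroup p with hH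
  set D := H ⊔ ⁅(S : Subgroup Ω), (S : Subgroup Ω)⁆ with hD
  have hHD : H ≤ D := le_sup_left
  have hSD : ⁅(S : Subgroup Ω), (S : Subgroup Ω)⁆ ≤ D := le_sup_right
  apply le_antisymm
  · -- focal ≤ D via Alperin
    set E := quotientTrivialSystem F D hSD with hE
    have hle : F ≤ E := by
      apply alperin_le p hS F hF E
      intro R hR
      have hFN : F.IsFullyNormalized R := by
        rcases hR with rfl | hR
        · refine ⟨le_rfl, fun Q _ => ?_⟩
          have h1 : normalizerIn R Q ≤ normalizerIn R R := fun x hx =>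
            ⟨hx.1, Subgroup.le_normalizer hx.1⟩
          have : Finite (normalizerIn R R) := finite_of_le inf_le_left
          exact Nat.card_le_card_of_injective (Subgroup.inclusion h1)
            (Subgroup.inclusion_injective _)
        · exact hR.2.1
      have hRS : R ≤ S := hFN.1
      have hfinR : Finite R := finite_of_le hRS
      obtain ⟨-, -, T, hT⟩ := Cfsg.Agent.S5077.sylow_axiom p hS F hF R hFN
      intro α hα
      rw [mem_autGroup_iff E hRS]
      refine ⟨(mem_autGroup_iff F hRS α).mp hα, fun x => ?_⟩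
      obtain ⟨t, ht, u, hu, htu⟩ := Cfsg.Agent.Helper10.exists_sylow_mul_pResidual T ⟨α, hα⟩
      rw [hT] at ht
      have ht' : (t : MulAut R) ∈ autInducedBy S R := ht
      rw [mem_autInducedBy_iff] at ht'
      obtain ⟨s, hs, hst⟩ := ht'
      have hαx : ((α x : R) : Ω) = s * (((u : MulAut R) x : R) : Ω) * s⁻¹ := by
        have h1 : α = (t : MulAut R) * (u : MulAut R) := congrArg Subtype.val htu
        rw [h1, MulAut.mul_apply, hst]
      show (x : Ω)⁻¹ * ((α x : R) : Ω) ∈ D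
      rw [hαx]
      have hgen : (x : Ω)⁻¹ * (((u : MulAut R) x : R) : Ω) ∈ H :=
        Subgroup.subset_closure ⟨R, u, x, hRS, hu, rfl⟩
      have hcomm : ⁅(((u : MulAut R) x : R) : Ω)⁻¹, s⁆ ∈ ⁅(S : Subgroup Ω), (S : Subgroup Ω)⁆ :=
        Subgroup.commutator_mem_commutator (S.inv_mem (hRS ((u : MulAut R) x).2)) hs
      have h2 := D.mul_mem (hHD hgen) (hSD hcomm)
      have e : (x : Ω)⁻¹ * (((u : MulAut R) x : R) : Ω) * ⁅(((u : MulAut R) x : R) : Ω)⁻¹, s⁆ =
          (x : Ω)⁻¹ * (s * (((u : MulAut R) x : R) : Ω) * s⁻¹) := by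
        rw [commutatorElement_def]; group
      rwa [e] at h2
    unfold focalSubgroup
    rw [Subgroup.closure_le]
    rintro _ ⟨P, φ, x, hφ, rfl⟩
    exact (hle P hφ).2 x
  · apply sup_le
    · -- hyperfocal ≤ focal
      rw [hH]
      unfold hyperfocalSubgroup focalSubgroup
      apply Subgroup.closure_mono
      rintro _ ⟨P, α, x, hPS, -, rfl⟩
      refine ⟨P, autHom (α : MulAut P), x, (mem_autGroup_iff F hPS _).mp α.2, rfl⟩
    · rw [Subgroup.commutator_le]
      intro a ha b hb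
      unfold focalSubgroup
      apply Subgroup.subset_closure
      have hle : Subgroup.zpowers a⁻¹ ≤ S := by
        rw [Subgroup.zpowers_le]; exact S.inv_mem ha
      refine ⟨Subgroup.zpowers a⁻¹, conjHom _ b, ⟨a⁻¹, Subgroup.mem_zpowers _⟩,
        F.conj_mem hle hb, ?_⟩
      rw [commutatorElement_def]
      show a * b * a⁻¹ * b⁻¹ = a⁻¹⁻¹ * (b * a⁻¹ * b⁻¹)
      group

end Cfsg.Agent.S5092
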