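import Cfsg.Statements.S5083
import Cfsg.Agent.Helper25.FusionAlperin2

set_option autoImplicit false
open Cfsg

namespace Cfsg.Agent.S5083

open Cfsg.Agent.Helper25 Cfsg.FusionSystem

/-- Antisymmetry of containment of fusion systems. -/
theorem fs_le_antisymm {Ω : Type*} [Group Ω] {S : Subgroup Ω} (F E : Cfsg.FusionSystem S)
    (h1 : F ≤ E) (h2 : E ≤ F) : F = E := by
  have hHom : F.Hom = E.Hom := by
    funext P
    exact Set.Subset.antisymm (h1 P) (h2 P)
  cases F
  cases E
  cases hHom
  rfl

/-- The inner fusion system is contained in every fusion system. -/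
theorem inner_le {Ω : Type*} [Group Ω] {S : Subgroup Ω} (F : Cfsg.FusionSystem S) :
    Cfsg.innerFusionSystem S ≤ F := by
  rintro P φ ⟨hP, g, hg, h⟩
  have : φ = Cfsg.conjHom P g := by
    ext x
    exact h x
  rw [this]
  exact F.conj_mem hP hg

/-- If `Aut_F(P)` is a `p`-group then `P` is not essential. -/
theorem not_essential_of_isPGroup {Ω : Type*} [Group Ω] {S : Subgroup Ω} (p : ℕ) [Fact p.Prime]
    (F : Cfsg.FusionSystem S) (P : Subgroup Ω) (h : IsPGroup p (F.autGroup P)) :
    ¬ F.IsEssential p P := by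
  rintro ⟨-, -, hN, E, hE⟩
  have hq : IsPGroup p (F.autGroup P ⧸ (Cfsg.Inn P).subgroupOf (F.autGroup P)) :=
    h.to_quotient _
  have htop : IsPGroup p (⊤ : Subgroup (F.autGroup P ⧸ (Cfsg.Inn P).subgroupOf (F.autGroup P))) :=
    hq.to_subgroup _
  have h1 := normal_pSubgroup_eq_bot_of_stronglyPEmbedded p hE ⊤ htop
  have h2 : Nat.card (F.autGroup P ⧸ (Cfsg.Inn P).subgroupOf (F.autGroup P)) = 1 := by
    rw [← Subgroup.card_top, h1, Subgroup.card_bot]
  have h3 := hE.1
  rw [h2] at h3
  exact (Nat.Prime.one_lt Fact.out).ne' (Nat.dvd_one.mp h3)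

/-- If F is a saturated fusion system over a finite p-group S in which Aut_F(P) is a p-group for every P ≤ S, then F is the inner fusion system of S (all its maps are conjugations by elements of S). -/
theorem result {Ω : Type*} [Group Ω] {S : Subgroup Ω} [Finite S] (p : ℕ) [Fact p.Prime] (hS : IsPGroup p S) (F : Cfsg.FusionSystem S) (hF : F.IsSaturated p) (h : ∀ P : Subgroup Ω, P ≤ S → IsPGroup p (F.autGroup P)) : F = Cfsg.innerFusionSystem S := by
  apply fs_le_antisymm _ _ _ (inner_le F)
  apply alperin_le p hS F hF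
  rintro P (rfl | hess)
  · -- `P = S`
    have hFN : F.IsFullyNormalized P := by
      refine ⟨le_rfl, fun Q _ => ?_⟩
      have h1 : normalizerIn P Q ≤ normalizerIn P P := by
        intro x hx
        exact ⟨hx.1, Subgroup.le_normalizer hx.1⟩
      have : Finite (normalizerIn P P) := finite_of_le inf_le_left
      exact Nat.card_le_card_of_injective (Subgroup.inclusion h1) (Subgroup.inclusion_injective _)
    obtain ⟨-, -, R, hR⟩ := Cfsg.Agent.S5077.sylow_axiom p hS F hF P hFN
    have hp := h P le_rfl
    have hRtop : (R : Subgroup (F.autGroup P)) = ⊤ := by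
      have htop : IsPGroup p (⊤ : Subgroup (F.autGroup P)) := hp.to_subgroup ⊤
      exact (R.is_maximal' htop le_top).symm
    intro α hα
    have h1 : (⟨α, hα⟩ : F.autGroup P) ∈ (R : Subgroup (F.autGroup P)) := by
      rw [hRtop]; exact Subgroup.mem_top _
    rw [hR] at h1
    have h2 : α ∈ autInducedBy P P := h1
    exact autInducedBy_le_autGroup (Cfsg.innerFusionSystem P) le_rfl h2
  · exact absurd hess (not_essential_of_isPGroup p F P (h P hess.2.1.1))

end Cfsg.Agent.S5083
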