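import Cfsg.Statements.S5090
import Cfsg.Agent.Helper26.ModelFusion
import Cfsg.Agent.Helper25.FusionIso8
import Cfsg.Agent.Helper25.FusionIso7


set_option autoImplicit false
universe u
open Cfsg
open Cfsg.Agent.Helper25 Cfsg.FusionSystem

namespace Cfsg.Agent.S5090

/-- Model Theorem, existence: a constrained saturated fusion system over a finite p-group S has a model — a finite group G with an injective homomorphism of S onto a Sylow p-subgroup realizing the system and with C_G(O_p(G)) ≤ O_p(G). -/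
theorem result {Ω : Type u} [Group Ω] {S : Subgroup Ω} [Finite S] (p : ℕ) [Fact p.Prime] (hS : IsPGroup p S) (F : Cfsg.FusionSystem S) (hF : F.IsConstrained p) : ∃ (G : Type u) (_ : Group G) (ι : S →* G), F.IsModel p G ι := by
  classical
  have main : ∀ (R : Subgroup ↥S) (hR : R = ⊤) (F' : Cfsg.FusionSystem R),
      F.IsFactorSystem ⊥ (MonoidHom.id ↥S) F' →
      ∃ (G : Type u) (_ : Group G) (ι : S →* G), F.IsModel p G ι := by
    intro R hR
    subst hR
    intro F' hF'
    have hS' : IsPGroup p ↥(⊤ : Subgroup ↥S) :=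
      hS.of_injective (⊤ : Subgroup ↥S).subtype (Subgroup.subtype_injective _)
    obtain ⟨hsat, Q, hQn, hQc⟩ := iso_isConstrained p hS hF' hF
    let C : Cfsg.Agent.Helper26.ModelFusion.Ctx ↥S p := ⟨F', Q, hS', hsat, hQn, hQc⟩
    obtain ⟨G, instG, ι', hmodel⟩ := C.model_top
    obtain ⟨finG, hreal, ⟨T, hT⟩, hcen⟩ := hmodel
    let θ' : ↥S →* ↥(⊤ : Subgroup ↥S) :=
      (MonoidHom.id ↥S).codRestrict ⊤ (fun s => Subgroup.mem_top s)
    let γ : S →* G := ι'.comp θ'
    have h₂ := isFactorSystem_of_isRealizedBy hreal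
    have h₃ := iso_comp_factor hF' h₂ (γ := γ) (fun s => rfl)
    rw [preimageAlong_bot_of_injective _ (fun _ _ h => h)] at h₃
    have hγ : F.IsRealizedBy γ := isRealizedBy_of_iso h₃
    have hrange : γ.range = ι'.range := by
      ext g
      constructor
      · rintro ⟨s, rfl⟩
        exact ⟨θ' s, rfl⟩
      · rintro ⟨s, rfl⟩
        exact ⟨s.1, rfl⟩
    exact ⟨G, instG, γ, finG, hγ, ⟨T, hT.trans hrange.symm⟩, hcen⟩
  obtain ⟨F', hF'⟩ := exists_iso_image F (MonoidHom.id ↥S) (fun _ _ h => h)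
  exact main _ (MonoidHom.range_eq_top.mpr Function.surjective_id) F' hF'

end Cfsg.Agent.S5090
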