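import Cfsg.Statements.S3838
import Mathlib
import Cfsg.Agent.Helper9.QuotientNPC
import Cfsg.Agent.Helper9.NPCSub

set_option autoImplicit false
open Cfsg

namespace Cfsg.Agent.S3838
open scoped Pointwise commutatorElement

/-- Let G be a finite group with Sylow p-subgroup P such that N_G(P) has a normal p-complement. Then N_G(Q) has a normal p-complement for every subgroup Q with [P, P] ≤ Q ≤ Φ(P). -/
theorem result {G : Type*} [Group G] [Finite G] {p : ℕ} [Fact p.Prime] (P : Sylow p G) (hN : Cfsg.HasNormalPComplement p ↥(Subgroup.normalizer ((P : Subgroup G) : Set G))) (Q : Subgroup G) (h1 : (commutator ↥(P : Subgroup G)).map (P : Subgroup G).subtype ≤ Q) (h2 : Q ≤ (frattini ↥(P : Subgroup G)).map (P : Subgroup G).subtype) : Cfsg.HasNormalPComplement p ↥(Subgroup.normalizer (Q : Set G)) := by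
  classical
  have hQP : Q ≤ (P : Subgroup G) := h2.trans (Subgroup.map_subtype_le _)
  have hcomm : ∀ x ∈ (P : Subgroup G), ∀ y ∈ (P : Subgroup G), x * y * x⁻¹ * y⁻¹ ∈ Q := by
    intro x hx y hy
    apply h1
    refine ⟨⁅(⟨x, hx⟩ : (P : Subgroup G)), ⟨y, hy⟩⁆, ?_, ?_⟩
    · rw [SetLike.mem_coe, commutator_def]
      exact Subgroup.commutator_mem_commutator (Subgroup.mem_top _) (Subgroup.mem_top _)
    · simp [commutatorElement_def]
  have hPN : (P : Subgroup G) ≤ Subgroup.normalizer (Q : Set G) := by
    intro x hx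
    rw [Subgroup.mem_normalizer_iff]
    intro q
    constructor
    · intro hq
      have := Q.mul_mem (hcomm x hx q (hQP hq)) hq
      simpa using this
    · intro hq
      have hq' : x * q * x⁻¹ ∈ (P : Subgroup G) := hQP hq
      have := Q.mul_mem (hcomm x⁻¹ (inv_mem hx) _ hq') hq
      have e : x⁻¹ * (x * q * x⁻¹) * x⁻¹⁻¹ * (x * q * x⁻¹)⁻¹ * (x * q * x⁻¹) = q := by group
      rwa [e] at this
  generalize hNdef : Subgroup.normalizer (Q : Set G) = N at hPN
  have hQHn : (Q.subgroupOf N).Normal := by
    rw [← hNdef]; exact Subgroup.normal_in_normalizer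
  have hPHcoe : ((P.subtype hPN : Sylow p N) : Subgroup N) = (P : Subgroup G).subgroupOf N :=
    Sylow.coe_subtype P hPN
  have hQPH : Q.subgroupOf N ≤ ((P.subtype hPN : Sylow p N) : Subgroup N) := by
    intro x hx
    rw [hPHcoe, Subgroup.mem_subgroupOf]
    exact hQP (Subgroup.mem_subgroupOf.mp hx)
  have hmemPH : ∀ x : N, x ∈ ((P.subtype hPN : Sylow p N) : Subgroup N) ↔ (x : G) ∈ (P : Subgroup G) := by
    intro x
    rw [hPHcoe, Subgroup.mem_subgroupOf]
  apply Cfsg.Agent.Helper9.hasNormalPComplement_of_quotient_nongenerating (P.subtype hPN)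
    (Q.subgroupOf N) hQPH
  · -- non-generation
    intro X hXP hsup
    apply le_antisymm hXP
    have hmul : (((Q.subgroupOf N) ⊔ X : Subgroup N) : Set N) =
        ((Q.subgroupOf N : Subgroup N) : Set N) * (X : Set N) := Subgroup.normal_mul _ _
    -- the subgroup of `P` corresponding to `X`
    have htop : ((X.map N.subtype).subgroupOf (P : Subgroup G)) ⊔ frattini ↥(P : Subgroup G) = ⊤ := by
      rw [eq_top_iff]
      intro y _
      have hyN : (y : G) ∈ N := hPN y.2
      have hyPH : (⟨(y : G), hyN⟩ : N) ∈ ((P.subtype hPN : Sylow p N) : Subgroup N) :=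
        (hmemPH _).mpr y.2
      rw [← hsup] at hyPH
      have hy' : (⟨(y : G), hyN⟩ : N) ∈ (((Q.subgroupOf N) ⊔ X : Subgroup N) : Set N) := hyPH
      rw [hmul, Set.mem_mul] at hy'
      obtain ⟨q, hq, x, hx, hqx⟩ := hy'
      have hqQ : (q : G) ∈ Q := Subgroup.mem_subgroupOf.mp hq
      obtain ⟨f, hf, hfq⟩ := h2 hqQ
      have hxP : (x : G) ∈ (P : Subgroup G) := (hmemPH x).mp (hXP hx)
      have hy_eq : y = f * ⟨(x : G), hxP⟩ := by
        apply Subtype.ext
        have := congrArg Subtype.val hqx
        simp only [Subgroup.coe_mul] at this ⊢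
        rw [← this]
        change (q : G) * x = (f : G) * x
        rw [← hfq]
        rfl
      rw [hy_eq]
      refine Subgroup.mul_mem _ ((le_sup_right : frattini ↥(P : Subgroup G) ≤ _) hf)
        ((le_sup_left : (X.map N.subtype).subgroupOf (P : Subgroup G) ≤ _) ?_)
      rw [Subgroup.mem_subgroupOf]
      exact ⟨x, hx, rfl⟩
    have hXtop := frattini_nongenerating htop
    intro y hy
    have hyP : (y : G) ∈ (P : Subgroup G) := (hmemPH y).mp hy
    have : (⟨(y : G), hyP⟩ : (P : Subgroup G)) ∈ (X.map N.subtype).subgroupOf (P : Subgroup G) := by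
      rw [hXtop]; exact Subgroup.mem_top _
    rw [Subgroup.mem_subgroupOf] at this
    obtain ⟨x, hx, hxy⟩ := this
    have : x = y := Subtype.ext hxy
    rwa [← this]
  · -- Burnside in the quotient
    apply Cfsg.Agent.Helper9.hasNormalPComplement_quotient_of_abelian (P.subtype hPN)
      (Q.subgroupOf N) hQPH
    · intro x hx y hy
      rw [Subgroup.mem_subgroupOf]
      exact hcomm x ((hmemPH x).mp hx) y ((hmemPH y).mp hy)
    · intro g hg hgcop x hx
      have hgN : (g : G) ∈ Subgroup.normalizer ((P : Subgroup G) : Set G) := by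
        rw [Subgroup.mem_normalizer_iff]
        intro y
        constructor
        · intro hy
          have h3 := (Subgroup.mem_normalizer_iff.mp hg ⟨y, hPN hy⟩).mp ((hmemPH _).mpr hy)
          exact (hmemPH _).mp h3
        · intro hy
          have hyN : y ∈ N := by
            have h4 : (g : G)⁻¹ * ((g : G) * y * (g : G)⁻¹) * (g : G) ∈ N :=
              N.mul_mem (N.mul_mem (N.inv_mem g.2) (hPN hy)) g.2
            have e : (g : G)⁻¹ * ((g : G) * y * (g : G)⁻¹) * (g : G) = y := by group
            rwa [e] at h4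
          have h3 := (Subgroup.mem_normalizer_iff.mp hg ⟨y, hyN⟩).mpr ((hmemPH _).mpr hy)
          exact (hmemPH _).mp h3
      have hxP : (x : G) ∈ (P : Subgroup G) := (hmemPH x).mp hx
      have hDn : ((P : Subgroup G).subgroupOf (Subgroup.normalizer ((P : Subgroup G) : Set G))).Normal :=
        Subgroup.normal_in_normalizer
      have hDp : IsPGroup p ((P : Subgroup G).subgroupOf
          (Subgroup.normalizer ((P : Subgroup G) : Set G))) := P.2.comap_subtype
      have hcop' : Nat.Coprime (orderOf (⟨(g : G), hgN⟩ :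
          Subgroup.normalizer ((P : Subgroup G) : Set G))) p := by
        rw [Subgroup.orderOf_mk, Subgroup.orderOf_coe]
        exact hgcop
      have key := Cfsg.Agent.Helper9.commute_of_hasNormalPComplement hN
        ((P : Subgroup G).subgroupOf (Subgroup.normalizer ((P : Subgroup G) : Set G))) hDp
        ⟨(g : G), hgN⟩ hcop' ⟨(x : G), Subgroup.le_normalizer hxP⟩
        (Subgroup.mem_subgroupOf.mpr hxP)
      apply Subtype.ext
      have := congrArg Subtype.val key
      simpa using this

end Cfsg.Agent.S3838
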