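import Cfsg.Statements.S5091
import Cfsg.Agent.Helper26.ModelUnique
import Cfsg.Agent.Helper25.FusionIso8
import Cfsg.Agent.Helper25.FusionIso7


set_option autoImplicit false
open Cfsg
open Cfsg.Agent.Helper25 Cfsg.FusionSystem

namespace Cfsg.Agent.S5091


/-- transport of a model along the identification of `S` with `⊤ : Subgroup S` -/
theorem model_transport {Ω : Type*} [Group Ω] {S : Subgroup Ω} [Finite S] (p : ℕ) [Fact p.Prime]
    (F : Cfsg.FusionSystem S) (F' : Cfsg.FusionSystem (⊤ : Subgroup ↥S))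
    (hF' : F.IsFactorSystem ⊥ (MonoidHom.id ↥S) F') {G : Type*} [Group G] (ι : S →* G)
    (h : F.IsModel p G ι) : F'.IsModel p G (ι.comp (⊤ : Subgroup ↥S).subtype) := by
  obtain ⟨hfin, hreal, ⟨T, hT⟩, hC⟩ := h
  have h₁ := iso_symm hF'
  have h₂ := isFactorSystem_of_isRealizedBy hreal
  have h₃ := iso_comp_factor h₁ h₂ (γ := ι.comp (⊤ : Subgroup ↥S).subtype) (by
    intro s
    show ι s.1 = ι ⟨_, _⟩
    congr 1
    apply Subtype.ext
    have := invHom_apply (MonoidHom.id ↥S) (iso_injective hF') (iso_range hF') s.1 s.2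
    exact this.symm)
  rw [preimageAlong_bot_of_injective _ (invHom_injective _ (iso_injective hF') (iso_range hF'))]
    at h₃
  refine ⟨hfin, isRealizedBy_of_iso h₃, ⟨T, ?_⟩, hC⟩
  rw [hT]
  ext g
  constructor
  · rintro ⟨s, rfl⟩
    exact ⟨⟨s, Subgroup.mem_top s⟩, rfl⟩
  · rintro ⟨s, rfl⟩
    exact ⟨s.1, rfl⟩


/-- Model Theorem, uniqueness: two models of a constrained saturated fusion system over a finite p-group S are isomorphic by an isomorphism compatible with the two embeddings of S. -/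
theorem result {Ω : Type*} [Group Ω] {S : Subgroup Ω} [Finite S] (p : ℕ) [Fact p.Prime] (hS : IsPGroup p S) (F : Cfsg.FusionSystem S) (hF : F.IsConstrained p) {G₁ G₂ : Type*} [Group G₁] [Group G₂] (ι₁ : S →* G₁) (ι₂ : S →* G₂) (h₁ : F.IsModel p G₁ ι₁) (h₂ : F.IsModel p G₂ ι₂) : ∃ φ : G₁ ≃* G₂, ∀ x : S, φ (ι₁ x) = ι₂ x := by
  classical
  have main : ∀ (R : Subgroup ↥S) (hR : R = ⊤) (F' : Cfsg.FusionSystem R),
      F.IsFactorSystem ⊥ (MonoidHom.id ↥S) F' →
      ∃ φ : G₁ ≃* G₂, ∀ x : S, φ (ι₁ x) = ι₂ x := by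
    intro R hR
    subst hR
    intro F' hF'
    have hS' : IsPGroup p ↥(⊤ : Subgroup ↥S) :=
      hS.of_injective (⊤ : Subgroup ↥S).subtype (Subgroup.subtype_injective _)
    have hsat := (iso_isConstrained p hS hF' hF).1
    have m₁ := model_transport p F F' hF' ι₁ h₁
    have m₂ := model_transport p F F' hF' ι₂ h₂
    obtain ⟨φ, hφ⟩ := Cfsg.Agent.Helper26.ModelFusion.unique_top hS' F' hsat _ _ m₁ m₂
    exact ⟨φ, fun x => hφ ⟨x, Subgroup.mem_top x⟩⟩
  obtain ⟨F', hF'⟩ := exists_iso_image F (MonoidHom.id ↥S) (fun _ _ h => h)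
  exact main _ (MonoidHom.range_eq_top.mpr Function.surjective_id) F' hF'

end Cfsg.Agent.S5091
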