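import Cfsg.Statements.S5187
import Cfsg.Agent.Helper25.EssentialAut
import Cfsg.Agent.Helper25.AbRank2e

set_option autoImplicit false
universe u
open Cfsg

namespace Cfsg.Agent.S5187

/-- Let F be a saturated fusion system over a finite p-group S and H an abelian essential subgroup that can be generated by two elements (its Frattini quotient has order at most p²). Then H is elementary abelian of order p², or p ≤ 3 and H is homocyclic of rank two, that is isomorphic to C_{pᵏ} × C_{pᵏ} for some k. -/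
theorem result {Ω : Type u} [Group Ω] {S : Subgroup Ω} [Finite S] (p : ℕ) [Fact p.Prime] (hS : IsPGroup p S)
    (F : Cfsg.FusionSystem S) (hF : F.IsSaturated p) (H : Subgroup Ω) (hH : F.IsEssential p H) (hab : IsMulCommutative ↥H) (hrk : (frattini ↥H).index ≤ p ^ 2) :
    (Cfsg.IsElementaryAbelian p H ∧ Nat.card H = p ^ 2) ∨
      (p ≤ 3 ∧ ∃ k : ℕ, Nonempty (↥H ≃* Multiplicative (ZMod (p ^ k) × ZMod (p ^ k)))) := by
  obtain ⟨hcen, hfn, hnorm, E, hE⟩ := id hH
  have hHS : H ≤ S := hcen.1
  have hfin : Finite H := Finite.of_injective (Subgroup.inclusion hHS) (Subgroup.inclusion_injective hHS)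
  have hA := Cfsg.Agent.Helper25.not_isPGroup_commutator_mulAut_of_isEssential p F H hH
  have hcomm : ∀ a b : ↥H, a * b = b * a := fun a b => hab.is_comm.comm a b
  have hHp : IsPGroup p ↥H := hS.to_le hHS
  set A := F.autGroup H with hAdef
  have hInn : (Inn ↥H) = ⊥ := by
    rw [eq_bot_iff]
    rintro _ ⟨g, rfl⟩
    rw [Subgroup.mem_bot]
    apply MulEquiv.ext
    intro x
    show g * x * g⁻¹ = x
    rw [hcomm g x, mul_inv_cancel_right]
  have hpA : p ∣ Nat.card A := by
    have h1 : p ∣ Nat.card (A ⧸ (Inn ↥H).subgroupOf A) := hE.1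
    exact h1.trans (Subgroup.card_quotient_dvd_card _)
  have hOp : ∀ N : Subgroup A, N.Normal → IsPGroup p N → N = ⊥ := by
    intro N hNn hNp
    have hmapn : (N.map (QuotientGroup.mk' ((Inn ↥H).subgroupOf A))).Normal :=
      hNn.map _ (QuotientGroup.mk'_surjective _)
    have h1 := Cfsg.Agent.Helper25.normal_pSubgroup_eq_bot_of_stronglyPEmbedded p hE
      (N.map (QuotientGroup.mk' ((Inn ↥H).subgroupOf A))) (hNp.map _)
    rw [eq_bot_iff]
    intro x hx
    have h2 : QuotientGroup.mk' ((Inn ↥H).subgroupOf A) x ∈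
        N.map (QuotientGroup.mk' ((Inn ↥H).subgroupOf A)) := Subgroup.mem_map_of_mem _ hx
    rw [h1, Subgroup.mem_bot, QuotientGroup.mk'_apply, QuotientGroup.eq_one_iff] at h2
    rw [hInn] at h2
    rw [Subgroup.mem_bot]
    have h3 : (x : MulAut ↥H) = 1 := h2
    exact Subtype.ext h3
  rcases Cfsg.Agent.Helper25.AbRank2.main p hHp hcomm hrk hA A hpA hOp with ⟨hexp, hcard⟩ | ⟨hp3, k, hk⟩
  · left
    refine ⟨⟨hab, fun a ha => ?_⟩, hcard⟩
    exact congrArg Subtype.val (hexp ⟨a, ha⟩)
  · right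
    exact ⟨hp3, k, hk⟩

end Cfsg.Agent.S5187
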