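import Mathlib
import Cfsg.Statements.S1024
import Cfsg.Agent.Helper6.Chev.Tables

set_option autoImplicit false
open Cfsg

namespace Cfsg.Agent.S1024

open Cfsg.Lie Cfsg.Agent.Helper6

theorem chainCoeff_fst_ne_zero (D : ChevalleyDatum) (r s u : ℕ) :
    ∀ km ∈ D.chainCoeff r s u, km.1 ≠ 0 := by
  intro km hkm
  unfold ChevalleyDatum.chainCoeff at hkm
  simp only [List.mem_flatMap, List.mem_map, List.mem_filter] at hkm
  obtain ⟨e, _, q, _, rfl⟩ := hkm
  simp

theorem xMat_zero {F : Type*} [Field F] (D : ChevalleyDatum) (r : Fin D.nroots) :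
    D.xMat F r 0 = 1 := by
  ext row col
  simp only [ChevalleyDatum.xMat, Matrix.of_apply, Matrix.one_apply]
  rcases col with i | s
  · rcases row with i' | u
    · simp
    · simp
  · by_cases h1 : s = r
    · rcases row with i' | u
      · simp [h1]
      · simp [h1]
    · by_cases h2 : s.val = D.negIdx.getD r.val 0
      · rcases row with i' | u
        · simp [h1]
        · simp only [h1, h2, if_true, if_false]
          by_cases h3 : u = s
          · simp [h3]
          · simp [h3]
      · rcases row with i' | u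
        · simp [h1, h2]
        · simp only [h1, h2, if_false]
          have : ((D.chainCoeff r.val s.val u.val).map fun km => ((km.2 : ℤ) : F) * (0 : F) ^ km.1).sum = 0 := by
            apply List.sum_eq_zero
            intro x hx
            simp only [List.mem_map] at hx
            obtain ⟨km, hkm, rfl⟩ := hx
            rw [zero_pow (chainCoeff_fst_ne_zero D _ _ _ km hkm), mul_zero]
          rw [this, add_zero]
          by_cases h3 : u = s
          · simp [h3]
          · simp [h3]

/-- `x_r(0) = 1`, and `x_r(t) = 1` forces `t = 0`: the map `t ↦ x_r(t)` is injective. -/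
theorem result {F : Type*} [Field F] (D : Cfsg.Lie.ChevalleyDatum) (hD : D ∈ [Cfsg.Lie.chevG2, Cfsg.Lie.chevB2, Cfsg.Lie.chevD4, Cfsg.Lie.chevF4, Cfsg.Lie.chevE6, Cfsg.Lie.chevE7, Cfsg.Lie.chevE8]) (r : ℕ) (hr : r < D.nroots) (t : F) :
    D.x F r t = 1 ↔ t = 0 := by
  have hneg := negOK_of_tabulated hD r hr
  unfold ChevalleyDatum.x
  rw [dif_pos hr]
  constructor
  · intro h
    have h1 := congrFun (congrFun h (Sum.inr ⟨r, hr⟩)) (Sum.inr ⟨D.neg r, hneg.1⟩)
    simp only [ChevalleyDatum.xMat, Matrix.of_apply, Matrix.one_apply] at h1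
    have hm : D.negIdx[r]?.getD 0 ≠ r := by simpa [ChevalleyDatum.neg] using hneg.2.1
    have hm' : r ≠ D.negIdx[r]?.getD 0 := fun h => hm h.symm
    simp [ChevalleyDatum.neg, hm, hm'] at h1
    exact h1
  · rintro rfl
    exact xMat_zero D ⟨r, hr⟩

end Cfsg.Agent.S1024
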