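import Mathlib
import Cfsg.Statements.S1053
import Cfsg.Agent.Helper6.Chev.TablesW0

set_option autoImplicit false
open Cfsg

namespace Cfsg.Agent.S1053

open Cfsg.Lie Cfsg.Agent.Helper6

/-- There is `n₀ ∈ N` with `n₀ U n₀⁻¹ = V` (a representative of the longest element of the Weyl group). -/
theorem result {F : Type*} [Field F] (D : Cfsg.Lie.ChevalleyDatum) (hD : D ∈ [Cfsg.Lie.chevG2, Cfsg.Lie.chevB2, Cfsg.Lie.chevD4, Cfsg.Lie.chevF4, Cfsg.Lie.chevE6, Cfsg.Lie.chevE7, Cfsg.Lie.chevE8]) :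
    ∃ n ∈ D.monomialSubgroup F, (D.posUnipotent F).map (MulAut.conj n).toMonoidHom = D.negUnipotent F := by
  have hB := basicOK_of_tabulated hD
  have hAll : ∀ i < D.rank, SimpleAll D i := fun i hi => simpleAll_of_tabulated hD hi
  have hsign := sign_iff_of_tabulated hD
  refine map_conj_posUnipotent hB (fastOK_of_tabulated hD) (nroots_le_of_tabulated hD) hAll
    (N := D.nroots / 2) ?_ ?_ (w0Chk_of_tabulated hD)
  · intro r
    constructor
    · intro h; exact ⟨h.1, (hsign r h.1).1.1 h⟩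
    · rintro ⟨h1, h2⟩; exact (hsign r h1).1.2 h2
  · intro r
    constructor
    · intro h; exact ⟨h.1, (hsign r h.1).2.1 h⟩
    · rintro ⟨h1, h2⟩; exact (hsign r h1).2.2 h2

end Cfsg.Agent.S1053
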