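import Mathlib
import Cfsg.Statements.S1051
import Cfsg.Agent.Helper6.Chev.Core
import Cfsg.Agent.Helper6.Chev.TablesReach
import Cfsg.Agent.Helper6.Chev.TablesAddC
import Cfsg.Agent.S1053

set_option autoImplicit false
open Cfsg

namespace Cfsg.Agent.S1051

open Cfsg.Lie Cfsg.Agent.Helper6

/-- `⋂_g g B g⁻¹ = 1`: the normal core of `B` in the Chevalley group is trivial. -/
theorem result {F : Type*} [Field F] (D : Cfsg.Lie.ChevalleyDatum) (hD : D ∈ [Cfsg.Lie.chevG2, Cfsg.Lie.chevB2, Cfsg.Lie.chevD4, Cfsg.Lie.chevF4, Cfsg.Lie.chevE6, Cfsg.Lie.chevE7, Cfsg.Lie.chevE8]) : ((D.borelSubgroup F).subgroupOf (D.group F)).normalCore = ⊥ := by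
  have hB := basicOK_of_tabulated hD
  have hAll : ∀ i < D.rank, SimpleAll D i := fun i hi => simpleAll_of_tabulated hD hi
  have hAdd : ∀ i < D.rank, AddOK D i := fun i hi => addOK_of_tabulated hD hi
  have hH : ∀ r < D.nroots, HDiag D F r (aOf D r) := fun r hr => hDiag_of_tabulated hD hr
  have hReach : ∀ r < D.nroots, Reach D r := fun r hr => reach_of_tabulated hD hr
  have hG := Chev.good2_of_mem hD
  exact borel_normalCore hB hAll hAdd hH hReach hG (Cfsg.Agent.S1053.result D hD)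

end Cfsg.Agent.S1051
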