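import Cfsg.Statements.S0991
import Mathlib

set_option autoImplicit false
open Cfsg

namespace Cfsg.Agent.S0991

theorem result {G : Type*} [Group G] [Finite G] [IsSimpleGroup G] (hG : ¬ IsMulCommutative G) (H : Subgroup G) (hH : H ≠ ⊤) : ∃ f : G →* ↥(alternatingGroup (Fin H.index)), Function.Injective f := by
  classical
  have hcard : Nat.card (G ⧸ H) = H.index := rfl
  have e : (G ⧸ H) ≃ Fin H.index := by
    have : Finite (G ⧸ H) := inferInstance
    exact (Finite.equivFinOfCardEq hcard)
  let φ : G →* Equiv.Perm (Fin H.index) :=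
    (e.permCongrHom.toMonoidHom).comp (MulAction.toPermHom G (G ⧸ H))
  have hφinj : Function.Injective φ := by
    rw [← MonoidHom.ker_eq_bot_iff]
    rcases (φ.normal_ker).eq_bot_or_eq_top with h | h
    · exact h
    · exfalso
      apply hH
      rw [eq_top_iff]
      intro g _
      have hg : g ∈ φ.ker := by rw [h]; trivial
      rw [MonoidHom.mem_ker] at hg
      have h1 : (MulAction.toPermHom G (G ⧸ H)) g = 1 := by
        have : e.permCongrHom ((MulAction.toPermHom G (G ⧸ H)) g) = e.permCongrHom 1 := by
          rw [map_one]; exact hg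
        exact e.permCongrHom.injective this
      have h2 : g • ((1 : G) : G ⧸ H) = ((1 : G) : G ⧸ H) := by
        have := congrArg (fun σ : Equiv.Perm (G ⧸ H) => σ ((1 : G) : G ⧸ H)) h1
        simpa using this
      have h3 : ((g * 1 : G) : G ⧸ H) = ((1 : G) : G ⧸ H) := h2
      rw [QuotientGroup.eq] at h3
      simpa using H.inv_mem h3
  have hsign : ∀ g : G, φ g ∈ alternatingGroup (Fin H.index) := by
    intro g
    rw [Equiv.Perm.mem_alternatingGroup]
    let ψ : G →* ℤˣ := Equiv.Perm.sign.comp φ
    rcases (ψ.normal_ker).eq_bot_or_eq_top with h | h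
    · exfalso
      apply hG
      have hinj : Function.Injective ψ := (MonoidHom.ker_eq_bot_iff ψ).mp h
      refine ⟨⟨fun a b => hinj ?_⟩⟩
      rw [map_mul, map_mul, mul_comm]
    · have : g ∈ ψ.ker := by rw [h]; trivial
      exact this
  refine ⟨φ.codRestrict _ hsign, ?_⟩
  intro a b hab
  apply hφinj
  exact congrArg Subtype.val hab

end Cfsg.Agent.S0991
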