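import Cfsg.Statements.S1019
import Mathlib

set_option autoImplicit false
open Cfsg

namespace Cfsg.Agent.S1019

theorem fix_conj {G : Type*} [Group G] (H : Subgroup G) (x g : G) :
    Nat.card {c : G ⧸ H // (g * x * g⁻¹) • c = c} = Nat.card {c : G ⧸ H // x • c = c} := by
  refine Nat.card_congr ?_
  refine
    { toFun := fun c => ⟨g⁻¹ • c.1, ?_⟩
      invFun := fun c => ⟨g • c.1, ?_⟩
      left_inv := fun c => by simp
      right_inv := fun c => by simp }
  · have hc := c.2
    calc x • g⁻¹ • c.1 = g⁻¹ • ((g * x * g⁻¹) • c.1) := by simp [mul_smul]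
      _ = g⁻¹ • c.1 := by rw [hc]
  · have hc := c.2
    calc (g * x * g⁻¹) • g • c.1 = g • (x • c.1) := by simp [mul_smul]
      _ = g • c.1 := by rw [hc]

theorem smul_mk_eq_iff {G : Type*} [Group G] (H : Subgroup G) (y g : G) :
    y • (g : G ⧸ H) = (g : G ⧸ H) ↔ g⁻¹ * y * g ∈ H := by
  change ((y * g : G) : G ⧸ H) = (g : G ⧸ H) ↔ _
  rw [QuotientGroup.eq]
  constructor
  · intro h
    have : g⁻¹ * y * g = ((y * g)⁻¹ * g)⁻¹ := by group
    rw [this]; exact H.inv_mem h
  · intro h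
    have : (y * g)⁻¹ * g = (g⁻¹ * y * g)⁻¹ := by group
    rw [this]; exact H.inv_mem h

theorem conj_in_stab {G : Type*} [Group G] (H : Subgroup G) (x g : G) :
    Nat.card {y : G // IsConj x y ∧ y • (g : G ⧸ H) = (g : G ⧸ H)} = Nat.card {y : G // IsConj x y ∧ y ∈ H} := by
  refine Nat.card_congr ?_
  refine
    { toFun := fun y => ⟨g⁻¹ * y.1 * g, ?_, ?_⟩
      invFun := fun y => ⟨g * y.1 * g⁻¹, ?_, ?_⟩
      left_inv := fun y => by apply Subtype.ext; simp [mul_assoc]
      right_inv := fun y => by apply Subtype.ext; simp [mul_assoc] }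
  · exact y.2.1.trans (isConj_iff.mpr ⟨g⁻¹, by simp⟩)
  · exact (smul_mk_eq_iff H y.1 g).mp y.2.2
  · exact y.2.1.trans (isConj_iff.mpr ⟨g, rfl⟩)
  · rw [smul_mk_eq_iff]
    have : g⁻¹ * (g * y.1 * g⁻¹) * g = y.1 := by group
    rw [this]; exact y.2.2

theorem result {G : Type*} [Group G] [Finite G] (H : Subgroup G) (x : G) (hx : x ∈ H) : Nat.card (MulAction.fixedBy (G ⧸ H) x) * Nat.card {g : G // IsConj x g} = H.index * Nat.card {g : G // IsConj x g ∧ g ∈ H} := by
  classical
  have : Fintype G := Fintype.ofFinite G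
  have : Fintype (G ⧸ H) := Fintype.ofFinite _
  let T1 := Σ y : {y : G // IsConj x y}, {c : G ⧸ H // y.1 • c = c}
  let T2 := Σ c : G ⧸ H, {y : G // IsConj x y ∧ y • c = c}
  have e12 : T1 ≃ T2 :=
    { toFun := fun p => ⟨p.2.1, ⟨p.1.1, p.1.2, p.2.2⟩⟩
      invFun := fun p => ⟨⟨p.2.1, p.2.2.1⟩, ⟨p.1, p.2.2.2⟩⟩
      left_inv := fun p => rfl
      right_inv := fun p => rfl }
  have c1 : Nat.card T1 = Nat.card {g : G // IsConj x g} * Nat.card (MulAction.fixedBy (G ⧸ H) x) := by
    rw [Nat.card_sigma]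
    have : ∀ y : {y : G // IsConj x y}, Nat.card {c : G ⧸ H // y.1 • c = c} = Nat.card (MulAction.fixedBy (G ⧸ H) x) := by
      rintro ⟨y, hy⟩
      obtain ⟨g, hg⟩ := isConj_iff.mp hy
      subst hg
      exact fix_conj H x g
    simp only [this]
    simp [Finset.sum_const, Nat.card_eq_fintype_card]
  have c2 : Nat.card T2 = H.index * Nat.card {g : G // IsConj x g ∧ g ∈ H} := by
    rw [Nat.card_sigma]
    have : ∀ c : G ⧸ H, Nat.card {y : G // IsConj x y ∧ y • c = c} = Nat.card {g : G // IsConj x g ∧ g ∈ H} := by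
      intro c
      induction c using QuotientGroup.induction_on with
      | H g => exact conj_in_stab H x g
    simp only [this]
    simp [Finset.sum_const, Nat.card_eq_fintype_card, Subgroup.index]
  rw [mul_comm, ← c1, ← c2]
  exact Nat.card_congr e12

end Cfsg.Agent.S1019
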