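import Cfsg.Statements.S1018
-- import your own Cfsg.Agent.* helpers here
import Mathlib
import Cfsg.Agent.Helper11.OrderP
import Cfsg.Agent.S1019

set_option autoImplicit false
open Cfsg

namespace Cfsg.Agent.S1018

open Cfsg.Agent.Helper11

/-- A `p`-subgroup normalizing a Sylow `p`-subgroup `P` lies in `P`. -/
theorem pgroup_le_of_le_normalizer {G : Type*} [Group G] {p : ℕ} [Fact p.Prime] (P : Sylow p G)
    (Q : Subgroup G) (hQ : IsPGroup p ↥Q) (hQN : Q ≤ Subgroup.normalizer ((P : Subgroup G) : Set G)) :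
    Q ≤ (P : Subgroup G) := by
  have h1 : IsPGroup p ↥(Q ⊔ (P : Subgroup G)) := hQ.to_sup_of_normal_right' P.2 hQN
  have h2 := P.3 h1 le_sup_right
  rw [← h2]
  exact le_sup_left

/-- An element of order `p` normalizing a Sylow `p`-subgroup `P` lies in `P`. -/
theorem mem_sylow_of_mem_normalizer {G : Type*} [Group G] {p : ℕ} [Fact p.Prime] (P : Sylow p G)
    (y : G) (hy : orderOf y = p) (hyN : y ∈ Subgroup.normalizer ((P : Subgroup G) : Set G)) :
    y ∈ (P : Subgroup G) := by
  have hpg : IsPGroup p ↥(Subgroup.zpowers y) := by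
    apply IsPGroup.of_card (n := 1)
    rw [Nat.card_zpowers, hy, pow_one]
  exact pgroup_le_of_le_normalizer P _ hpg ((Subgroup.zpowers_le).2 hyN) (Subgroup.mem_zpowers y)

/-- If the Sylow `p`-subgroups have order `p`, two Sylow `p`-subgroups sharing a non-identity
element are equal. -/
theorem sylow_eq_of_mem_of_mem {G : Type*} [Group G] [Finite G] {p : ℕ} [Fact p.Prime]
    (P : Sylow p G) (hP : Nat.card ↥(P : Subgroup G) = p) (Q R : Sylow p G) (y : G) (hy1 : y ≠ 1)
    (hQ : y ∈ (Q : Subgroup G)) (hR : y ∈ (R : Subgroup G)) : Q = R := by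
  apply Sylow.ext
  rw [eq_zpowers_of_card_prime _ ((sylow_card_eq Q P).trans hP) y hQ hy1,
    eq_zpowers_of_card_prime _ ((sylow_card_eq R P).trans hP) y hR hy1]

theorem conj_ne_one {G : Type*} [Group G] (g y : G) (hy : y ≠ 1) : g⁻¹ * y * g ≠ 1 := by
  intro h
  apply hy
  have : y = g * (g⁻¹ * y * g) * g⁻¹ := by group
  rw [this, h]; group

theorem orderOf_conj' {G : Type*} [Group G] (g y : G) : orderOf (g⁻¹ * y * g) = orderOf y := by
  have h : SemiconjBy g⁻¹ y (g⁻¹ * y * g) := by
    unfold SemiconjBy; group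
  exact (h.orderOf_eq).symm

/-- Let P be a Sylow p-subgroup of order p of a finite group G, and consider the action of G on the left cosets of the normalizer N of P. Then every element of order p fixes exactly one coset, and an element of N that does not centralize P fixes at most as many cosets as there are orbits of P. -/
theorem result {G : Type*} [Group G] [Finite G] (p : ℕ) [Fact p.Prime] (P : Sylow p G) (hP : Nat.card ↥(P : Subgroup G) = p) : (∀ y : G, orderOf y = p → Nat.card (MulAction.fixedBy (G ⧸ Subgroup.normalizer ((P : Subgroup G) : Set G)) y) = 1) ∧ ∀ x : G, x ∈ Subgroup.normalizer ((P : Subgroup G) : Set G) → x ∉ Subgroup.centralizer ((P : Subgroup G) : Set G) → Nat.card (MulAction.fixedBy (G ⧸ Subgroup.normalizer ((P : Subgroup G) : Set G)) x) ≤ Nat.card (MulAction.orbitRel.Quotient ↥(P : Subgroup G) (G ⧸ Subgroup.normalizer ((P : Subgroup G) : Set G))) := by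
  classical
  have hp : p.Prime := Fact.out
  set N : Subgroup G := Subgroup.normalizer ((P : Subgroup G) : Set G) with hN
  have hPN : (P : Subgroup G) ≤ N := Subgroup.le_normalizer
  constructor
  · intro y hy
    have hy1 : y ≠ 1 := by
      rintro rfl
      rw [orderOf_one] at hy
      exact hp.one_lt.ne hy
    have hpg : IsPGroup p ↥(Subgroup.zpowers y) := by
      apply IsPGroup.of_card (n := 1)
      rw [Nat.card_zpowers, hy, pow_one]
    obtain ⟨Q, hQ⟩ := hpg.exists_le_sylow
    have hyQ : y ∈ (Q : Subgroup G) := hQ (Subgroup.mem_zpowers y)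
    obtain ⟨g₀, hg₀⟩ := MulAction.exists_smul_eq G P Q
    rw [Nat.card_eq_one_iff_unique]
    constructor
    · constructor
      rintro ⟨c₁, h₁⟩ ⟨c₂, h₂⟩
      apply Subtype.ext
      change c₁ = c₂
      rw [MulAction.mem_fixedBy] at h₁ h₂
      induction c₁ using QuotientGroup.induction_on with
      | H g₁ =>
      induction c₂ using QuotientGroup.induction_on with
      | H g₂ =>
      rw [Cfsg.Agent.S1019.smul_mk_eq_iff] at h₁ h₂
      have k₁ : g₁⁻¹ * y * g₁ ∈ (P : Subgroup G) :=
        mem_sylow_of_mem_normalizer P _ ((orderOf_conj' g₁ y).trans hy) h₁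
      have k₂ : g₂⁻¹ * y * g₂ ∈ (P : Subgroup G) :=
        mem_sylow_of_mem_normalizer P _ ((orderOf_conj' g₂ y).trans hy) h₂
      rw [← mem_smul_sylow_iff] at k₁ k₂
      have heq : g₁ • P = g₂ • P := sylow_eq_of_mem_of_mem P hP _ _ y hy1 k₁ k₂
      rw [QuotientGroup.eq]
      have h3 : (g₁⁻¹ * g₂) • P = P := by
        rw [mul_smul, ← heq, inv_smul_smul]
      have h4 : g₁⁻¹ * g₂ ∈ MulAction.stabilizer G P := h3
      rw [Sylow.stabilizer_eq_normalizer] at h4
      exact h4
    · refine ⟨⟨(g₀ : G ⧸ N), ?_⟩⟩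
      rw [MulAction.mem_fixedBy, Cfsg.Agent.S1019.smul_mk_eq_iff]
      apply hPN
      rw [← mem_smul_sylow_iff, hg₀]
      exact hyQ
  · intro x hxN hxC
    have : Finite (MulAction.orbitRel.Quotient ↥(P : Subgroup G) (G ⧸ N)) := Quotient.finite _
    let f : MulAction.fixedBy (G ⧸ N) x → MulAction.orbitRel.Quotient ↥(P : Subgroup G) (G ⧸ N) :=
      fun c => Quotient.mk'' c.1
    apply Nat.card_le_card_of_injective f
    rintro ⟨c₁, h₁⟩ ⟨c₂, h₂⟩ h
    apply Subtype.ext
    change c₁ = c₂
    rw [MulAction.mem_fixedBy] at h₁ h₂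
    have h' : (Quotient.mk'' c₁ : MulAction.orbitRel.Quotient ↥(P : Subgroup G) (G ⧸ N)) = Quotient.mk'' c₂ := h
    rw [Quotient.eq'', MulAction.orbitRel_apply] at h'
    obtain ⟨⟨u, huP⟩, hu⟩ := h'
    have hu' : u • c₂ = c₁ := hu
    by_contra hne
    have hu1 : u ≠ 1 := by
      rintro rfl
      rw [one_smul] at hu'
      exact hne hu'.symm
    have hPu : (P : Subgroup G) = Subgroup.zpowers u := eq_zpowers_of_card_prime _ hP u huP hu1
    -- v = u⁻¹ * (x⁻¹ * u * x) lies in P and fixes c₂
    have hxinv : x⁻¹ ∈ N := N.inv_mem hxN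
    have hconj : x⁻¹ * u * x ∈ (P : Subgroup G) := by
      have := (Subgroup.mem_normalizer_iff.1 hxinv u).1 huP
      simpa using this
    set v : G := u⁻¹ * (x⁻¹ * u * x) with hv
    have hvP : v ∈ (P : Subgroup G) := (P : Subgroup G).mul_mem ((P : Subgroup G).inv_mem huP) hconj
    have hvfix : v • c₂ = c₂ := by
      have e1 : x⁻¹ • c₁ = c₁ := by
        conv_lhs => rw [← h₁]
        rw [inv_smul_smul]
      rw [hv, mul_smul, mul_smul, mul_smul, h₂, hu', e1, ← hu', inv_smul_smul]
    by_cases hv1 : v = 1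
    · -- then x commutes with u, so x centralizes P
      apply hxC
      have hcomm : u * x = x * u := by
        have : x⁻¹ * u * x = u := by
          have h5 : u * v = u := by rw [hv1, mul_one]
          rw [hv] at h5
          simpa using h5
        calc u * x = x * (x⁻¹ * u * x) := by group
          _ = x * u := by rw [this]
      rw [Subgroup.mem_centralizer_iff]
      intro w hw
      have hw' : w ∈ Subgroup.zpowers u := by rw [← hPu]; exact hw
      obtain ⟨k, rfl⟩ := Subgroup.mem_zpowers_iff.1 hw'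
      have hc : Commute u x := hcomm
      exact (hc.zpow_left k).eq
    · -- then P = ⟨v⟩ fixes c₂, so u fixes c₂
      have hPv : (P : Subgroup G) = Subgroup.zpowers v := eq_zpowers_of_card_prime _ hP v hvP hv1
      have hu'' : u ∈ Subgroup.zpowers v := by rw [← hPv]; exact huP
      obtain ⟨k, hk⟩ := Subgroup.mem_zpowers_iff.1 hu''
      have hvk : ∀ k : ℤ, (v ^ k) • c₂ = c₂ := by
        intro k
        have hmem : v ∈ MulAction.stabilizer G c₂ := hvfix
        exact (MulAction.stabilizer G c₂).zpow_mem hmem k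
      apply hne
      rw [← hu', ← hk, hvk]

end Cfsg.Agent.S1018
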