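import Cfsg.Statements.S2270
import Mathlib

set_option autoImplicit false
open Cfsg

namespace Cfsg.Agent.S2270

/-- If `P` is an abelian Sylow subgroup and some `x ∈ P` is conjugate in `G` to `x⁻¹ ≠ x`,
then `[N(P) : C(P)]` is even. -/
theorem even_automizer {G : Type*} [Group G] [Finite G] {p : ℕ} [Fact p.Prime] (P : Sylow p G)
    (hP : IsMulCommutative (P : Subgroup G)) (x g : G) (hx : x ∈ (P : Subgroup G))
    (hg : g⁻¹ * x * g = x⁻¹) (hne : x⁻¹ ≠ x) :
    2 ∣ ((Subgroup.centralizer ((P : Subgroup G) : Set G)).subgroupOf (Subgroup.normalizer ((P : Subgroup G) : Set G))).index := by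
  classical
  haveI : IsMulCommutative ↥P := hP
  have hy : g⁻¹ * x * g ∈ P := by rw [hg]; exact P.inv_mem hx
  obtain ⟨n, hn, hnx⟩ := P.conj_eq_normalizer_conj_of_mem x g hx hy
  rw [hg] at hnx
  -- n⁻¹ x n = x⁻¹
  have hnx' : n⁻¹ * x * n = x⁻¹ := hnx.symm
  have hn2 : ∀ j : ℕ, (n ^ (2 * j))⁻¹ * x * n ^ (2 * j) = x := by
    intro j
    induction j with
    | zero => simp
    | succ j ih =>
      have e : n ^ (2 * (j + 1)) = n ^ (2 * j) * n * n := by
        rw [show 2 * (j + 1) = 2 * j + 1 + 1 by ring, pow_succ, pow_succ]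
      rw [e]
      have : (n ^ (2 * j) * n * n)⁻¹ * x * (n ^ (2 * j) * n * n)
          = n⁻¹ * (n⁻¹ * ((n ^ (2 * j))⁻¹ * x * n ^ (2 * j)) * n) * n := by group
      rw [this, ih, hnx']
      have : n⁻¹ * x⁻¹ * n = (n⁻¹ * x * n)⁻¹ := by group
      rw [this, hnx', inv_inv]
  have hodd : ∀ j : ℕ, (n ^ (2 * j + 1))⁻¹ * x * n ^ (2 * j + 1) = x⁻¹ := by
    intro j
    have : (n ^ (2 * j + 1))⁻¹ * x * n ^ (2 * j + 1)
        = n⁻¹ * ((n ^ (2 * j))⁻¹ * x * n ^ (2 * j)) * n := by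
      rw [pow_succ]; group
    rw [this, hn2 j, hnx']
  set N := Subgroup.normalizer ((P : Subgroup G) : Set G) with hN
  set C' := (Subgroup.centralizer ((P : Subgroup G) : Set G)).subgroupOf N with hC'
  haveI : C'.Normal := by rw [hC', hN]; infer_instance
  set a : N ⧸ C' := QuotientGroup.mk ⟨n, hn⟩ with ha
  have hdvd : orderOf a ∣ C'.index := by
    rw [Subgroup.index]
    exact orderOf_dvd_natCard a
  refine Dvd.dvd.trans ?_ hdvd
  -- orderOf a is even
  have hpow : a ^ orderOf a = 1 := pow_orderOf_eq_one a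
  have hpos : 0 < orderOf a := orderOf_pos a
  rcases Nat.even_or_odd' (orderOf a) with ⟨j, hj | hj⟩
  · exact ⟨j, hj⟩
  · exfalso
    rw [hj, ha, ← QuotientGroup.mk_pow, QuotientGroup.eq_one_iff, hC', Subgroup.mem_subgroupOf] at hpow
    have hc : n ^ (2 * j + 1) ∈ Subgroup.centralizer ((P : Subgroup G) : Set G) := by
      simpa using hpow
    rw [Subgroup.mem_centralizer_iff] at hc
    have h1 := hc x hx
    have h2 := hodd j
    apply hne
    rw [← h2, mul_assoc, h1]
    group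

theorem result (n : ℕ) (hn : 3 ≤ n) {p : ℕ} [Fact p.Prime] (hp : p ≠ 2) (hpn : p ≤ n)
    (P : Sylow p (Equiv.Perm (Fin n))) (hP : IsMulCommutative (P : Subgroup (Equiv.Perm (Fin n)))) :
    2 ∣ ((Subgroup.centralizer ((P : Subgroup (Equiv.Perm (Fin n))) : Set (Equiv.Perm (Fin n)))).subgroupOf (Subgroup.normalizer ((P : Subgroup (Equiv.Perm (Fin n))) : Set (Equiv.Perm (Fin n))))).index := by
  classical
  have hpp : p.Prime := Fact.out
  have hdvd : p ∣ Nat.card (Equiv.Perm (Fin n)) := by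
    rw [Nat.card_eq_fintype_card, Fintype.card_perm, Fintype.card_fin]
    exact (hpp.dvd_factorial).mpr hpn
  have hPdvd : p ∣ Nat.card ↥(P : Subgroup (Equiv.Perm (Fin n))) := by
    have hne := P.ne_bot_of_dvd_card hdvd
    obtain ⟨k, hk⟩ := P.2.exists_card_eq
    rw [hk]
    rcases k with _ | k
    · exfalso
      apply hne
      rw [pow_zero] at hk
      exact Subgroup.card_eq_one.mp hk
    · exact dvd_pow_self p (Nat.succ_ne_zero k)
  obtain ⟨x, hx⟩ := exists_prime_orderOf_dvd_card' (G := ↥(P : Subgroup (Equiv.Perm (Fin n)))) p hPdvd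
  have hxo : orderOf (x : Equiv.Perm (Fin n)) = p := by rw [Subgroup.orderOf_coe]; exact hx
  have hconj : IsConj (x : Equiv.Perm (Fin n)) (x : Equiv.Perm (Fin n))⁻¹ := by
    rw [Equiv.Perm.isConj_iff_cycleType_eq, Equiv.Perm.cycleType_inv]
  obtain ⟨c, hc⟩ := isConj_iff.mp hconj
  have hne : (x : Equiv.Perm (Fin n))⁻¹ ≠ (x : Equiv.Perm (Fin n)) := by
    intro h
    have h2 : (x : Equiv.Perm (Fin n)) ^ 2 = 1 := by
      rw [pow_two]
      nth_rewrite 1 [← h]
      exact inv_mul_cancel _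
    have h3 : p ∣ 2 := hxo ▸ orderOf_dvd_of_pow_eq_one h2
    have := (Nat.prime_dvd_prime_iff_eq hpp Nat.prime_two).mp h3
    exact hp this
  exact even_automizer P hP (x : Equiv.Perm (Fin n)) c⁻¹ x.2 (by simpa using hc) hne

end Cfsg.Agent.S2270
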