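import Cfsg.Statements.S1012
-- import your own Cfsg.Agent.* helpers here
import Mathlib
import Cfsg.Agent.Helper11.OrderP
import Cfsg.Agent.Helper11.SylowCount
import Cfsg.Agent.Helper11.PermSylow
import Cfsg.Agent.Helper11.Transfer
import Cfsg.Agent.Helper11.NoSimple
import Cfsg.Agent.S1018

set_option autoImplicit false
open Cfsg

namespace Cfsg.Agent.S1012

open Cfsg.Agent.Helper11

/-- A group of order 24 containing no element of order 6 is isomorphic to the symmetric group of degree 4. -/
theorem result {G : Type*} [Group G] [Finite G] (h : Nat.card G = 24) (h6 : ∀ g : G, orderOf g ≠ 6) : Nonempty (G ≃* Equiv.Perm (Fin 4)) := by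
  classical
  have : Fact (Nat.Prime 3) := ⟨Nat.prime_three⟩
  have : Fact (Nat.Prime 2) := ⟨Nat.prime_two⟩
  have hG3 : Nat.card G = 8 * 3 := by rw [h]
  have hS : ∀ P : Sylow 3 G, Nat.card ↥(P : Subgroup G) = 3 :=
    fun P => (sylow_card_of_card_eq 8 hG3 (by norm_num) P).1
  -- no involution commutes with an element of order 3
  have hno : ∀ x t : G, orderOf x = 3 → orderOf t = 2 → ¬ Commute t x := by
    intro x t hx ht hc
    have := hc.orderOf_mul_eq_mul_orderOf_of_coprime (by rw [hx, ht]; norm_num)
    rw [hx, ht] at this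
    exact h6 _ this
  -- every Sylow 3-subgroup has a generator
  have hgen : ∀ P : Sylow 3 G, ∃ x : G, x ∈ (P : Subgroup G) ∧ orderOf x = 3 ∧
      (P : Subgroup G) = Subgroup.zpowers x := by
    intro P
    have h3 : 3 ∣ Nat.card ↥(P : Subgroup G) := by rw [hS P]
    obtain ⟨x, hx⟩ := exists_prime_orderOf_dvd_card' 3 h3
    have hx' : orderOf (x : G) = 3 := by rw [Subgroup.orderOf_coe]; exact hx
    have hx1 : (x : G) ≠ 1 := by
      intro h1
      rw [h1, orderOf_one] at hx'
      norm_num at hx'
    exact ⟨x, x.2, hx', eq_zpowers_of_card_prime _ (hS P) _ x.2 hx1⟩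
  -- the centralizer of a Sylow 3-subgroup has order 3
  have hC : ∀ P : Sylow 3 G, Nat.card ↥(Subgroup.centralizer ((P : Subgroup G) : Set G)) = 3 := by
    intro P
    obtain ⟨x, hxP, hx3, hPx⟩ := hgen P
    set C := Subgroup.centralizer ((P : Subgroup G) : Set G) with hCdef
    have hPC : (P : Subgroup G) ≤ C := by
      rw [hPx]
      rw [Subgroup.zpowers_le, hCdef, Subgroup.mem_centralizer_iff]
      intro y hy
      have hy' : y ∈ Subgroup.zpowers x := by rw [← hPx]; exact hy
      obtain ⟨k, rfl⟩ := Subgroup.mem_zpowers_iff.1 hy'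
      exact ((Commute.refl x).zpow_left k).eq
    have h3C : 3 ∣ Nat.card ↥C := by
      rw [← hS P]; exact Subgroup.card_dvd_of_le hPC
    have hodd : ¬ 2 ∣ Nat.card ↥C := by
      intro h2
      obtain ⟨t, ht⟩ := exists_prime_orderOf_dvd_card' 2 h2
      have ht' : orderOf (t : G) = 2 := by rw [Subgroup.orderOf_coe]; exact ht
      have htC : (t : G) ∈ Subgroup.centralizer ((P : Subgroup G) : Set G) := t.2
      rw [Subgroup.mem_centralizer_iff] at htC
      have := htC x hxP
      exact hno x t hx3 ht' this.symm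
    have hC24 : Nat.card ↥C ∣ 24 := h ▸ Subgroup.card_subgroup_dvd_card C
    have hdec : ∀ d ∈ Nat.divisors 24, ¬ 2 ∣ d → 3 ∣ d → d = 3 := by decide
    exact hdec _ (Nat.mem_divisors.2 ⟨hC24, by norm_num⟩) hodd h3C
  -- the normalizer has order dividing 6
  have hN6 : ∀ P : Sylow 3 G, Nat.card ↥(Subgroup.normalizer ((P : Subgroup G) : Set G)) ∣ 6 := by
    intro P
    have h1 := relIndex_centralizer_normalizer_dvd_card_mulAut (P : Subgroup G)
    have h2 := card_mulAut_dvd_factorial ↥(P : Subgroup G)
    rw [hS P] at h2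
    have h3 : (Subgroup.centralizer ((P : Subgroup G) : Set G)).relIndex
        (Subgroup.normalizer ((P : Subgroup G) : Set G)) ∣ 2 := h1.trans h2
    have h4 := relIndex_mul_card (Subgroup.centralizer_le_normalizer ((P : Subgroup G) : Set G))
    rw [hC P] at h4
    rw [← h4]
    exact Nat.mul_dvd_mul_right h3 3
  -- n_3 = 4
  have hn3 : Nat.card (Sylow 3 G) = 4 := by
    have hG' : Nat.card G = 8 * 3 ^ 1 := by rw [h]; norm_num
    have hmem := card_sylow_mem_filter 8 1 hG' (by norm_num)
    have hfilt : (Nat.divisors 8).filter (fun d => d % 3 = 1) = {1, 4} := by decide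
    rw [hfilt] at hmem
    simp only [Finset.mem_insert, Finset.mem_singleton] at hmem
    rcases hmem with h1 | h1
    · exfalso
      obtain ⟨P⟩ : Nonempty (Sylow 3 G) := inferInstance
      have h2 := card_sylow_mul_card_normalizer P
      rw [h1, one_mul, h] at h2
      have h3 := hN6 P
      rw [h2] at h3
      norm_num at h3
    · exact h1
  have hN : ∀ P : Sylow 3 G, Nat.card ↥(Subgroup.normalizer ((P : Subgroup G) : Set G)) = 6 := by
    intro P
    have h2 := card_sylow_mul_card_normalizer P
    rw [hn3, h] at h2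
    omega
  -- the action on the Sylow 3-subgroups
  let φ : G →* Equiv.Perm (Sylow 3 G) := MulAction.toPermHom G (Sylow 3 G)
  have hkerN : ∀ k ∈ φ.ker, ∀ P : Sylow 3 G, k ∈ Subgroup.normalizer ((P : Subgroup G) : Set G) := by
    intro k hk P
    have h1 : k • P = P := by
      have := congrArg (fun σ : Equiv.Perm (Sylow 3 G) => σ P) (MonoidHom.mem_ker.1 hk)
      simpa [φ] using this
    have h2 : k ∈ MulAction.stabilizer G P := h1
    rw [Sylow.stabilizer_eq_normalizer] at h2
    exact h2
  have hnontriv : ∃ P Q : Sylow 3 G, P ≠ Q := by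
    have : 1 < Nat.card (Sylow 3 G) := by rw [hn3]; norm_num
    have := (Finite.one_lt_card_iff_nontrivial).1 this
    exact exists_pair_ne _
  -- no element of order 3 in the kernel
  have hker3 : ∀ k ∈ φ.ker, orderOf k ≠ 3 := by
    intro k hk h3
    obtain ⟨P, Q, hPQ⟩ := hnontriv
    have hk1 : k ≠ 1 := by
      rintro rfl
      rw [orderOf_one] at h3
      norm_num at h3
    have hkP : k ∈ (P : Subgroup G) :=
      Cfsg.Agent.S1018.mem_sylow_of_mem_normalizer P k h3 (hkerN k hk P)
    have hkQ : k ∈ (Q : Subgroup G) :=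
      Cfsg.Agent.S1018.mem_sylow_of_mem_normalizer Q k h3 (hkerN k hk Q)
    exact hPQ (Cfsg.Agent.S1018.sylow_eq_of_mem_of_mem P (hS P) P Q k hk1 hkP hkQ)
  have hkercard : Nat.card ↥φ.ker ∣ 2 := by
    obtain ⟨P⟩ : Nonempty (Sylow 3 G) := inferInstance
    have hle : φ.ker ≤ Subgroup.normalizer ((P : Subgroup G) : Set G) := fun k hk => hkerN k hk P
    have h1 : Nat.card ↥φ.ker ∣ 6 := (hN P) ▸ Subgroup.card_dvd_of_le hle
    have h2 : ¬ 3 ∣ Nat.card ↥φ.ker := by
      intro h3
      obtain ⟨k, hk⟩ := exists_prime_orderOf_dvd_card' 3 h3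
      have hk' : orderOf (k : G) = 3 := by rw [Subgroup.orderOf_coe]; exact hk
      exact hker3 k k.2 hk'
    have hdec : ∀ d ∈ Nat.divisors 6, ¬ 3 ∣ d → d ∣ 2 := by decide
    exact hdec _ (Nat.mem_divisors.2 ⟨h1, by norm_num⟩) h2
  have hkerbot : φ.ker = ⊥ := by
    rcases (Nat.dvd_prime Nat.prime_two).1 hkercard with h1 | h2
    · exact Subgroup.card_eq_one.1 h1
    · exfalso
      -- the kernel has order 2, so its non-identity element is central
      obtain ⟨k, hk⟩ := exists_prime_orderOf_dvd_card' 2 (dvd_of_eq h2.symm)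
      have hk' : orderOf (k : G) = 2 := by rw [Subgroup.orderOf_coe]; exact hk
      have hk1 : k ≠ 1 := by
        rintro rfl
        rw [orderOf_one] at hk
        norm_num at hk
      obtain ⟨y, _, hy⟩ := (Nat.card_eq_two_iff' (1 : ↥φ.ker)).1 h2
      have hcentral : ∀ g : G, g * (k : G) * g⁻¹ = k := by
        intro g
        have hmem : g * (k : G) * g⁻¹ ∈ φ.ker := (φ.normal_ker).conj_mem _ k.2 g
        have hne : (⟨g * (k : G) * g⁻¹, hmem⟩ : ↥φ.ker) ≠ 1 := by
          intro h1
          apply hk1
          have h3 : g * (k : G) * g⁻¹ = 1 := congrArg Subtype.val h1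
          have h4 : (k : G) = 1 := by
            have : (k : G) = g⁻¹ * (g * (k : G) * g⁻¹) * g := by group
            rw [this, h3]; group
          exact Subtype.ext h4
        have e1 := hy _ hne
        have e2 := hy k hk1
        have := e1.trans e2.symm
        exact congrArg Subtype.val this
      obtain ⟨P⟩ : Nonempty (Sylow 3 G) := inferInstance
      obtain ⟨x, _, hx3, _⟩ := hgen P
      apply hno x k hx3 hk'
      have := hcentral x
      change (k : G) * x = x * (k : G)
      calc (k : G) * x = (x * (k : G) * x⁻¹) * x := by rw [this]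
        _ = x * (k : G) := by group
  have hinj : Function.Injective φ := (MonoidHom.ker_eq_bot_iff φ).1 hkerbot
  have hcardperm : Nat.card (Equiv.Perm (Sylow 3 G)) = 24 := by
    have : Fintype (Sylow 3 G) := Fintype.ofFinite _
    rw [Nat.card_eq_fintype_card, Fintype.card_perm, ← Nat.card_eq_fintype_card, hn3]
    rfl
  have hbij : Function.Bijective φ := hinj.bijective_of_nat_card_le (by rw [hcardperm, h])
  let e : Sylow 3 G ≃ Fin 4 := Finite.equivFinOfCardEq hn3
  exact ⟨(MulEquiv.ofBijective φ hbij).trans e.permCongrHom⟩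

end Cfsg.Agent.S1012
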