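import Mathlib
import Cfsg.Statements.S0495
import Cfsg.Agent.Helper3.P168
import Cfsg.Agent.S0243

set_option autoImplicit false
set_option linter.style.haveILetI false
open Cfsg

namespace Cfsg.Agent.S0495

/-- A simple group of order 168 is isomorphic to the projective special linear group of dimension 2 over the field with
7 elements. -/
theorem result {G : Type*} [Group G] [Finite G] [IsSimpleGroup G]
    (h : Nat.card G = 168) {F : Type*} [Field F] [Fintype F] (hF : Fintype.card F = 7) :
    Nonempty (G ≃* Matrix.ProjectiveSpecialLinearGroup (Fin 2) F) := by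
  have hcard := Cfsg.Agent.S0243.result hF 2 le_rfl
  haveI : IsSimpleGroup (Matrix.ProjectiveSpecialLinearGroup (Fin 2) F) :=
    Matrix.ProjectiveSpecialLinearGroup.rank_two_simple (by rw [Nat.card_eq_fintype_card, hF]; norm_num)
  have hc : Nat.card (Matrix.ProjectiveSpecialLinearGroup (Fin 2) F) = 168 := by
    rw [Fin.prod_univ_two] at hcard
    norm_num at hcard
    omega
  obtain ⟨e1⟩ := Cfsg.Agent.Helper3.P168.nonempty_mulEquiv_H0 h
  obtain ⟨e2⟩ := Cfsg.Agent.Helper3.P168.nonempty_mulEquiv_H0 hc
  exact ⟨e1.trans e2.symm⟩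

end Cfsg.Agent.S0495
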