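import Mathlib
import Cfsg.Statements.S2941

set_option autoImplicit false
open Cfsg

namespace Cfsg.Agent.S2941

open scoped commutatorElement

variable {G : Type*} [Group G]

/-- A subgroup `Q` all of whose elements conjugate `S` into itself normalizes `S`. -/
theorem le_normalizer_of_conj_mem (Q S : Subgroup G)
    (h : ∀ q ∈ Q, ∀ x ∈ S, q * x * q⁻¹ ∈ S) : Q ≤ Subgroup.normalizer (S : Set G) := by
  intro q hq
  rw [Subgroup.mem_normalizer_iff]
  intro x
  constructor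
  · exact h q hq x
  · intro hx
    have := h q⁻¹ (inv_mem hq) _ hx
    simpa [mul_assoc] using this

/-- To check that conjugation by `q` maps `closure s` into `S`, check it on generators. -/
theorem conj_closure_mem (S : Subgroup G) (s : Set G) (q : G)
    (h : ∀ x ∈ s, q * x * q⁻¹ ∈ S) : ∀ x ∈ Subgroup.closure s, q * x * q⁻¹ ∈ S := by
  intro x hx
  induction hx using Subgroup.closure_induction with
  | mem x hx => exact h x hx
  | one => simp
  | mul x y _ _ hx hy =>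
    have : q * (x * y) * q⁻¹ = (q * x * q⁻¹) * (q * y * q⁻¹) := by group
    rw [this]; exact mul_mem hx hy
  | inv x _ hx =>
    have : q * x⁻¹ * q⁻¹ = (q * x * q⁻¹)⁻¹ := by group
    rw [this]; exact inv_mem hx

/-- `B` normalizes `⁅A, B⁆`. -/
theorem right_le_normalizer_commutator (A B : Subgroup G) :
    B ≤ Subgroup.normalizer ((⁅A, B⁆ : Subgroup G) : Set G) := by
  apply le_normalizer_of_conj_mem
  intro b hb x hx
  rw [Subgroup.commutator_def] at hx
  refine conj_closure_mem _ _ b ?_ x hx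
  rintro _ ⟨a, ha, b', hb', rfl⟩
  have : b * ⁅a, b'⁆ * b⁻¹ = ⁅a, b⁆⁻¹ * ⁅a, b * b'⁆ := by
    simp only [commutatorElement_def]; group
  rw [this]
  exact mul_mem (inv_mem (Subgroup.commutator_mem_commutator ha hb))
    (Subgroup.commutator_mem_commutator ha (mul_mem hb hb'))

/-- If `J` is a `2`-group normalizing `K`, then every odd-order element of `K ⊔ J` lies in `K`. -/
theorem odd_mem_of_mem_sup (K J : Subgroup G) (hJ : IsPGroup 2 ↥J)
    (hJK : J ≤ Subgroup.normalizer (K : Set G)) (g : G) (hg : g ∈ K ⊔ J)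
    (hodd : Odd (orderOf g)) : g ∈ K := by
  obtain ⟨N, hN⟩ : ∃ N : Subgroup G, N = Subgroup.normalizer (K : Set G) := ⟨_, rfl⟩
  have hKN : K ≤ N := hN ▸ Subgroup.le_normalizer
  have hJN : J ≤ N := hN ▸ hJK
  have hXN : K ⊔ J ≤ N := sup_le hKN hJN
  have : (K.subgroupOf N).Normal := by
    rw [hN]; exact Subgroup.normal_in_normalizer
  let π := QuotientGroup.mk' (K.subgroupOf N)
  have hgN : g ∈ N := hXN hg
  have hπg : π ⟨g, hgN⟩ ∈ (J.subgroupOf N).map π := by
    have h1 : (⟨g, hgN⟩ : N) ∈ (K ⊔ J).subgroupOf N := by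
      rw [Subgroup.mem_subgroupOf]; exact hg
    rw [Subgroup.subgroupOf_sup hKN hJN] at h1
    have h2 : π ⟨g, hgN⟩ ∈ (K.subgroupOf N ⊔ J.subgroupOf N).map π :=
      Subgroup.mem_map_of_mem _ h1
    rw [Subgroup.map_sup, QuotientGroup.map_mk'_self, bot_sup_eq] at h2
    exact h2
  have hJ' : IsPGroup 2 ↥((J.subgroupOf N).map π) := by
    apply IsPGroup.map
    exact hJ.comap_of_injective (N.subtype) (Subgroup.subtype_injective N)
  obtain ⟨n, hn⟩ := hJ' ⟨_, hπg⟩
  have hn' : (π ⟨g, hgN⟩) ^ (2 ^ n) = 1 := by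
    have := congrArg Subtype.val hn
    simpa using this
  have hd1 : orderOf (π ⟨g, hgN⟩) ∣ 2 ^ n := orderOf_dvd_of_pow_eq_one hn'
  have hd2 : orderOf (π ⟨g, hgN⟩) ∣ orderOf g := by
    have h3 : orderOf (π ⟨g, hgN⟩) ∣ orderOf (⟨g, hgN⟩ : N) := orderOf_map_dvd π _
    have h4 : orderOf (⟨g, hgN⟩ : N) = orderOf g := by
      rw [← Subgroup.orderOf_coe]
    rwa [h4] at h3
  have hcop : Nat.Coprime (2 ^ n) (orderOf g) := by
    apply Nat.Coprime.pow_left
    exact (Nat.coprime_two_left).mpr hodd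
  have h1 : orderOf (π ⟨g, hgN⟩) = 1 := Nat.eq_one_of_dvd_coprimes hcop hd1 hd2
  rw [orderOf_eq_one_iff] at h1
  have h5 : (⟨g, hgN⟩ : N) ∈ K.subgroupOf N := by
    rw [← QuotientGroup.eq_one_iff]; exact h1
  rw [Subgroup.mem_subgroupOf] at h5
  exact h5

theorem thompsonSubgroupOf_le (p : ℕ) (T : Subgroup G) : Cfsg.thompsonSubgroupOf p T ≤ T := by
  unfold Cfsg.thompsonSubgroupOf
  intro x hx
  obtain ⟨y, _, rfl⟩ := hx
  exact y.2

/-- Let G be a finite group of characteristic 2 type in which every 2-local subgroup is solvable and the centralizer of Ω₁(Z(S)) lies in N_G(S) for every Sylow 2-subgroup S, and let T be a nontrivial 2-subgroup and K a J(T)-component (J the Thompson subgroup generated by the elementary abelian 2-subgroups of largest order). If a subgroup Q is normalized by ⟨K, J(T)⟩ and normalizes J(T), then Q normalizes K. -/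
theorem result {G : Type*} [Group G] [Finite G] (hL : Cfsg.IsCharacteristicTwoType G) (hN : ∀ N : Subgroup G, Cfsg.IsTwoLocal N → Group.IsSolvable ↥N)
    (hZ : ∀ S : Sylow 2 G, Subgroup.centralizer (Cfsg.omegaCenterOf (S : Subgroup G) : Set G) ≤ Subgroup.normalizer ((S : Subgroup G) : Set G)) (T : Subgroup G) (hT : IsPGroup 2 ↥T) (hT1 : T ≠ ⊥) (K : Subgroup G) (hK : Cfsg.IsJComponent T K)
    (Q : Subgroup G) (hQ1 : K ⊔ Cfsg.thompsonSubgroupOf 2 T ≤ Subgroup.normalizer (Q : Set G)) (hQ2 : Q ≤ Subgroup.normalizer (Cfsg.thompsonSubgroupOf 2 T : Set G)) :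
    Q ≤ Subgroup.normalizer (K : Set G) := by
  obtain ⟨J, hJdef⟩ : ∃ J : Subgroup G, J = Cfsg.thompsonSubgroupOf 2 T := ⟨_, rfl⟩
  rw [← hJdef] at hQ1 hQ2
  obtain ⟨hgen, hcomm, -⟩ := hK
  rw [← hJdef] at hcomm
  have hJ2 : IsPGroup 2 ↥J := by
    rw [hJdef]; exact hT.to_le (thompsonSubgroupOf_le 2 T)
  have hJK : J ≤ Subgroup.normalizer (K : Set G) := by
    have := right_le_normalizer_commutator K J
    rwa [hcomm] at this
  -- conjugation by `Q` keeps `K` inside `K ⊔ J`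
  have hKX : ∀ q ∈ Q, ∀ x ∈ K, q * x * q⁻¹ ∈ K ⊔ J := by
    intro q hq x hx
    rw [← hcomm, Subgroup.commutator_def] at hx
    refine conj_closure_mem _ _ q ?_ x hx
    rintro _ ⟨k, hk, j, hj, rfl⟩
    -- q' := k⁻¹ q k ∈ Q
    have hkN : k ∈ Subgroup.normalizer (Q : Set G) := hQ1 (Subgroup.mem_sup_left hk)
    have hq' : k⁻¹ * q * k ∈ Q := by
      have := (Subgroup.mem_normalizer_iff.mp (inv_mem hkN) q).mp hq
      simpa using this
    -- r := (k⁻¹ q k) q⁻¹ ∈ Q
    have hr : k⁻¹ * q * k * q⁻¹ ∈ Q := mul_mem hq' (inv_mem hq)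
    -- j' := q j q⁻¹ ∈ J
    have hj' : q * j * q⁻¹ ∈ J := (Subgroup.mem_normalizer_iff.mp (hQ2 hq) j).mp hj
    -- j'' := r j' r⁻¹ ∈ J
    have hj'' : (k⁻¹ * q * k * q⁻¹) * (q * j * q⁻¹) * (k⁻¹ * q * k * q⁻¹)⁻¹ ∈ J :=
      (Subgroup.mem_normalizer_iff.mp (hQ2 hr) _).mp hj'
    have hkj'' : ⁅k, (k⁻¹ * q * k * q⁻¹) * (q * j * q⁻¹) * (k⁻¹ * q * k * q⁻¹)⁻¹⁆ ∈ K := by
      rw [← hcomm]
      exact Subgroup.commutator_mem_commutator hk hj''
    have e : q * ⁅k, j⁆ * q⁻¹ =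
        ⁅k, (k⁻¹ * q * k * q⁻¹) * (q * j * q⁻¹) * (k⁻¹ * q * k * q⁻¹)⁻¹⁆ *
          ((k⁻¹ * q * k * q⁻¹) * (q * j * q⁻¹) * (k⁻¹ * q * k * q⁻¹)⁻¹) * (q * j * q⁻¹)⁻¹ := by
      simp only [commutatorElement_def]; group
    rw [e]
    exact mul_mem (mul_mem (Subgroup.mem_sup_left hkj'') (Subgroup.mem_sup_right hj''))
      (inv_mem (Subgroup.mem_sup_right hj'))
  apply le_normalizer_of_conj_mem
  intro q hq x hx
  rw [← hgen] at hx
  refine conj_closure_mem _ _ q ?_ x hx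
  rintro g ⟨hgK, hgodd⟩
  apply odd_mem_of_mem_sup K J hJ2 hJK _ (hKX q hq g hgK)
  have : orderOf (q * g * q⁻¹) = orderOf g :=
    orderOf_injective (MulAut.conj q).toMonoidHom (MulAut.conj q).injective g
  rw [this]; exact hgodd

end Cfsg.Agent.S2941
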