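import Mathlib
import Cfsg.Statements.S0944
import Cfsg.Agent.Helper24.CharBasic

set_option autoImplicit false
open Cfsg

namespace Cfsg.Agent.S0944

open Cfsg.Agent.Helper24 Module

theorem key {G : Type*} [Group G] [Finite G] {V : Type*} [AddCommGroup V] [Module ℂ V]
    [FiniteDimensional ℂ V] (ρ : Representation ℂ G V) (u : G) (hu : orderOf u = 2) :
    ∃ a b : ℕ, ρ.character u = (a : ℂ) - (b : ℂ) ∧ (finrank ℂ V : ℂ) = (a : ℂ) + (b : ℂ) := by
  classical
  have hsub : eigenFinset (ρ u) ⊆ ({1, -1} : Finset ℂ) := by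
    intro μ hμ
    have h := rho_eigenvalue_pow ρ u (mem_eigenFinset.mp hμ)
    rw [hu] at h
    rcases sq_eq_one_iff.mp h with h | h <;> simp [h]
  have hne : (1 : ℂ) ≠ -1 := by norm_num
  refine ⟨finrank ℂ (Module.End.eigenspace (ρ u) 1), finrank ℂ (Module.End.eigenspace (ρ u) (-1)), ?_, ?_⟩
  · rw [char_eq_sum_eigen ρ u, Finset.sum_subset hsub, Finset.sum_pair hne]
    · ring
    · intro μ _ hμ
      rw [mem_eigenFinset, not_not] at hμ
      rw [hμ, finrank_bot]; simp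
  · rw [finrank_eq_sum_eigen ρ u, Finset.sum_subset hsub, Finset.sum_pair hne]
    intro μ _ hμ
    rw [mem_eigenFinset, not_not] at hμ
    rw [hμ, finrank_bot]; simp

theorem result {G : Type*} [Group G] [Finite G] (χ : Cfsg.IrrCharacter G) (u : G) (hu : orderOf u = 2) : ∃ n : ℤ, (χ : G → ℂ) u = (n : ℂ) ∧ (2 : ℤ) ∣ (Cfsg.charDegree (χ : G → ℂ) : ℤ) - n := by
  obtain ⟨f, m, ρ, hirr, rfl⟩ := χ
  obtain ⟨a, b, h1, h2⟩ := key ρ u hu
  refine ⟨(a : ℤ) - (b : ℤ), ?_, ?_⟩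
  · show ρ.character u = _
    rw [h1]; push_cast; ring
  · have hdeg : Cfsg.charDegree ρ.character = a + b := by
      unfold Cfsg.charDegree
      rw [Representation.char_one, h2]
      have : ((a : ℂ) + (b : ℂ)).re = ((a + b : ℕ) : ℝ) := by simp
      rw [this, Nat.floor_natCast]
    show (2 : ℤ) ∣ (Cfsg.charDegree ρ.character : ℤ) - ((a : ℤ) - (b : ℤ))
    rw [hdeg]
    exact ⟨b, by push_cast; ring⟩

end Cfsg.Agent.S0944
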