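import Mathlib
import Cfsg.Statements.S0837
import Cfsg.Agent.Helper28.GU
import Cfsg.Agent.Helper28.HermFrame
import Cfsg.Agent.Helper28.UnitaryBlocks

set_option autoImplicit false

namespace Cfsg.Agent.S0837

open Matrix Cfsg.Agent.Helper28 Cfsg.Agent.Helper28.GUlib Cfsg.Agent.Helper28.HermFrame
  Cfsg.Agent.Helper28.UB

theorem frob_ne_id {F : Type*} [Field F] [Fintype F] {q : ℕ} (hF : Fintype.card F = q ^ 2)
    (σ : F →+* F) (hσ : ∀ x, σ x = x ^ q) : σ ≠ RingHom.id F := by
  classical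
  intro hid
  have hq2 : 2 ≤ q := by
    have h1 : 1 < Fintype.card F := Fintype.one_lt_card
    rw [hF] at h1
    by_contra hlt
    push Not at hlt
    interval_cases q <;> simp at h1
  have hall : ∀ x : F, x ^ q = x := fun x => by rw [← hσ, hid]; rfl
  have hdeg := FiniteField.X_pow_card_sub_X_natDegree_eq F (p := q) (by omega)
  have hne : (Polynomial.X ^ q - Polynomial.X : Polynomial F) ≠ 0 := by
    intro h0
    rw [h0, Polynomial.natDegree_zero] at hdeg
    omega
  have hsub : (Finset.univ : Finset F).val ⊆ (Polynomial.X ^ q - Polynomial.X : Polynomial F).roots := by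
    intro x _
    rw [Polynomial.mem_roots hne, Polynomial.IsRoot]
    simp [hall x]
  have := Polynomial.card_le_degree_of_subset_roots hsub
  rw [Finset.card_univ, hF, hdeg] at this
  nlinarith

theorem mem_stabilizing_of_forall {F : Type*} [Field F] [Finite F] {n : ℕ}
    (W : Submodule F (Fin n → F)) (g : Matrix.GeneralLinearGroup (Fin n) F)
    (h : ∀ v ∈ W, (g : Matrix (Fin n) (Fin n) F) *ᵥ v ∈ W) :
    g ∈ Cfsg.stabilizing (Cfsg.glToMat (Fin n) F) (W : Set (Fin n → F)) := by
  intro v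
  constructor
  · exact h v
  · intro hv
    have hv' : (g : Matrix (Fin n) (Fin n) F) *ᵥ v ∈ W := hv
    let f : W → W := fun w => ⟨(g : Matrix (Fin n) (Fin n) F) *ᵥ w, h w w.2⟩
    have hinjg : Function.Injective (fun x : Fin n → F => (g : Matrix (Fin n) (Fin n) F) *ᵥ x) := by
      intro x y hxy
      have := congrArg (fun z => ((g⁻¹ : Matrix.GeneralLinearGroup (Fin n) F) :
        Matrix (Fin n) (Fin n) F) *ᵥ z) hxy
      simp only [Matrix.mulVec_mulVec] at this
      rw [← Units.val_mul, inv_mul_cancel] at this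
      simpa using this
    have hinj : Function.Injective f := by
      intro a b hab
      apply Subtype.ext
      apply hinjg
      exact congrArg Subtype.val hab
    obtain ⟨w, hw⟩ := (Finite.injective_iff_surjective.mp hinj) ⟨_, hv'⟩
    have : (w : Fin n → F) = v := hinjg (congrArg Subtype.val hw)
    rw [← this]
    exact w.2

theorem result {F : Type*} [Field F] [Fintype F] {q : ℕ} (hF : Fintype.card F = q ^ 2) (n k : ℕ) (hk : k ≤ n) (W : Submodule F (Fin n → F)) (hWk : Module.finrank F W = k) (hW : ∀ u ∈ W, (∀ v ∈ W, Cfsg.hermForm n F q u v = 0) → u = 0) : Nonempty (↥((Cfsg.stabilizing (Cfsg.glToMat (Fin n) F) (W : Set (Fin n → F))).subgroupOf (Cfsg.GU n F q)) ≃* ↥(Cfsg.GU k F q) × ↥(Cfsg.GU (n - k) F q)) := by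
  classical
  obtain ⟨σ, hσ, hσ2⟩ := exists_frob hF
  have hσid := frob_ne_id hF σ hσ
  have hS := hB_isSymm σ hσ2 n
  obtain ⟨x, y, hxW, hyW, hxx, hyy⟩ := exists_frame σ hσid hσ2 n k W hWk (by
    intro u hu h
    apply hW u hu
    intro v hv
    rw [← hB_eq_herm σ hσ]
    exact h v hv)
  -- matrices
  set X : Matrix (Fin n) (Fin k) F := Matrix.of fun i j => x j i with hX
  set Y : Matrix (Fin n) (Fin (n - k)) F := Matrix.of fun i j => y j i with hY
  set Xs : Matrix (Fin k) (Fin n) F := Matrix.of fun j i => σ (x j i) with hXs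
  set Ys : Matrix (Fin (n - k)) (Fin n) F := Matrix.of fun j i => σ (y j i) with hYs
  have hXsv : ∀ (w : Fin n → F) (j : Fin k), (Xs *ᵥ w) j = hB σ n (x j) w := by
    intro w j
    simp only [hXs, mulVec, dotProduct, of_apply, hB_apply]
    apply Finset.sum_congr rfl; intro i _; ring
  have hYsv : ∀ (w : Fin n → F) (j : Fin (n - k)), (Ys *ᵥ w) j = hB σ n (y j) w := by
    intro w j
    simp only [hYs, mulVec, dotProduct, of_apply, hB_apply]
    apply Finset.sum_congr rfl; intro i _; ring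
  have hXv : ∀ c : Fin k → F, X *ᵥ c = ∑ j, c j • x j := by
    intro c
    ext i
    simp only [hX, mulVec, dotProduct, of_apply, Finset.sum_apply, Pi.smul_apply, smul_eq_mul]
    apply Finset.sum_congr rfl; intro j _; ring
  have hXW : ∀ c : Fin k → F, X *ᵥ c ∈ W := by
    intro c
    rw [hXv]
    exact W.sum_mem (fun j _ => W.smul_mem _ (hxW j))
  have hYsW : ∀ w ∈ W, Ys *ᵥ w = 0 := by
    intro w hw
    ext j
    rw [hYsv, ← hS.eq, hyW j w hw, map_zero]
    rfl
  have F1 : Xs * X = 1 := by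
    ext j j'
    have : (Xs * X) j j' = hB σ n (x j) (x j') := by
      simp only [hXs, hX, Matrix.mul_apply, of_apply, hB_apply]
      apply Finset.sum_congr rfl; intro i _; ring
    rw [this, hxx, Matrix.one_apply]
  have F2 : Ys * Y = 1 := by
    ext j j'
    have : (Ys * Y) j j' = hB σ n (y j) (y j') := by
      simp only [hYs, hY, Matrix.mul_apply, of_apply, hB_apply]
      apply Finset.sum_congr rfl; intro i _; ring
    rw [this, hyy, Matrix.one_apply]
  have F3 : Xs * Y = 0 := by
    ext j j'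
    have : (Xs * Y) j j' = hB σ n (x j) (y j') := by
      simp only [hXs, hY, Matrix.mul_apply, of_apply, hB_apply]
      apply Finset.sum_congr rfl; intro i _; ring
    rw [this, hyW j' (x j) (hxW j)]
    rfl
  have F4 : Ys * X = 0 := by
    ext j j'
    have : (Ys * X) j j' = hB σ n (y j) (x j') := by
      simp only [hYs, hX, Matrix.mul_apply, of_apply, hB_apply]
      apply Finset.sum_congr rfl; intro i _; ring
    rw [this, ← hS.eq, hyW j (x j') (hxW j'), map_zero]
    rfl
  set M : Matrix (Fin n) (Fin k ⊕ Fin (n - k)) F := Matrix.fromCols X Y with hM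
  set Ms : Matrix (Fin k ⊕ Fin (n - k)) (Fin n) F := Matrix.fromRows Xs Ys with hMs
  have F5 : Ms * M = 1 := by
    rw [hMs, hM, Matrix.fromRows_mul_fromCols, F1, F2, F3, F4, Matrix.fromBlocks_one]
  have e : Fin n ≃ Fin k ⊕ Fin (n - k) :=
    (finSumFinEquiv.trans (finCongr (by omega))).symm
  have F6 : M * Ms = 1 := (Matrix.fromCols_mul_fromRows_eq_one_comm e X Y Xs Ys).mpr F5
  have F7 : Ms = (M.map σ)ᵀ := by
    ext (j | j) i <;> simp [hMs, hM, hXs, hX, hYs, hY]
  -- block form of the conjugate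
  have hblock : ∀ G : Matrix (Fin n) (Fin n) F,
      Ms * G * M = fromBlocks (Xs * G * X) (Xs * G * Y) (Ys * G * X) (Ys * G * Y) := by
    intro G
    rw [hMs, hM, Matrix.fromRows_mul, Matrix.fromRows_mul_fromCols]
  have hU : ∀ g : Matrix.GeneralLinearGroup (Fin n) F, g ∈ Cfsg.GU n F q ↔
      IsU σ (g : Matrix (Fin n) (Fin n) F) := fun g => mem_GU_iff σ hσ g
  -- stabilising elements have block-diagonal conjugates
  have hstab0 : ∀ g : Matrix.GeneralLinearGroup (Fin n) F,
      g ∈ Cfsg.stabilizing (Cfsg.glToMat (Fin n) F) (W : Set (Fin n → F)) →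
      Ys * (g : Matrix (Fin n) (Fin n) F) * X = 0 := by
    intro g hg
    apply Matrix.ext_of_mulVec_single
    intro j
    rw [← Matrix.mulVec_mulVec, ← Matrix.mulVec_mulVec, Matrix.zero_mulVec]
    apply hYsW
    exact (hg _).mp (hXW _)
  have hdiag : ∀ g : Matrix.GeneralLinearGroup (Fin n) F, g ∈ Cfsg.GU n F q →
      g ∈ Cfsg.stabilizing (Cfsg.glToMat (Fin n) F) (W : Set (Fin n → F)) →
      Xs * (g : Matrix (Fin n) (Fin n) F) * Y = 0 ∧
        IsU σ (Xs * (g : Matrix (Fin n) (Fin n) F) * X) ∧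
        IsU σ (Ys * (g : Matrix (Fin n) (Fin n) F) * Y) ∧
        Ms * (g : Matrix (Fin n) (Fin n) F) * M =
          fromBlocks (Xs * (g : Matrix (Fin n) (Fin n) F) * X) 0 0
            (Ys * (g : Matrix (Fin n) (Fin n) F) * Y) := by
    intro g hgU hgS
    have h1 := isU_conj σ hσ2 M Ms F7 F5 F6 _ ((hU g).mp hgU)
    rw [hblock, hstab0 g hgS] at h1
    obtain ⟨hB0, hA, hD⟩ := isU_upper σ hσ2 _ _ _ h1
    refine ⟨hB0, hA, hD, ?_⟩
    rw [hblock, hstab0 g hgS, hB0]
  -- the inverse construction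
  have hinvU : ∀ (A : Matrix (Fin k) (Fin k) F) (D : Matrix (Fin (n - k)) (Fin (n - k)) F),
      IsU σ A → IsU σ D → IsU σ (M * fromBlocks A 0 0 D * Ms) := by
    intro A D hA hD
    exact isU_conj' σ hσ2 M Ms F7 F5 F6 _ (isU_blocks σ A D hA hD)
  have hinvW : ∀ (A : Matrix (Fin k) (Fin k) F) (D : Matrix (Fin (n - k)) (Fin (n - k)) F),
      ∀ w ∈ W, (M * fromBlocks A 0 0 D * Ms) *ᵥ w ∈ W := by
    intro A D w hw
    have e1 : M * fromBlocks A 0 0 D * Ms = X * A * Xs + Y * D * Ys := by
      rw [hM, hMs, Matrix.fromCols_mul_fromBlocks, Matrix.fromCols_mul_fromRows]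
      simp
    rw [e1, Matrix.add_mulVec, ← Matrix.mulVec_mulVec (M := Y * D), hYsW w hw, Matrix.mulVec_zero,
      add_zero, ← Matrix.mulVec_mulVec, ← Matrix.mulVec_mulVec]
    exact hXW _
  refine ⟨
    { toFun := fun g => (mkGU σ hσ _ (hdiag g.1.1 g.1.2 (Subgroup.mem_subgroupOf.mp g.2)).2.1,
        mkGU σ hσ _ (hdiag g.1.1 g.1.2 (Subgroup.mem_subgroupOf.mp g.2)).2.2.1)
      invFun := fun p =>
        ⟨mkGU σ hσ (M * fromBlocks (p.1.1 : Matrix (Fin k) (Fin k) F) 0 0
            (p.2.1 : Matrix (Fin (n - k)) (Fin (n - k)) F) * Ms)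
          (hinvU _ _ ((mem_GU_iff σ hσ p.1.1).mp p.1.2) ((mem_GU_iff σ hσ p.2.1).mp p.2.2)),
          Subgroup.mem_subgroupOf.mpr (mem_stabilizing_of_forall W _ (hinvW _ _))⟩
      left_inv := ?_
      right_inv := ?_
      map_mul' := ?_ }⟩
  · intro g
    apply Subtype.ext
    apply Subtype.ext
    apply Units.ext
    show M * fromBlocks (Xs * (g.1.1 : Matrix (Fin n) (Fin n) F) * X) 0 0
      (Ys * (g.1.1 : Matrix (Fin n) (Fin n) F) * Y) * Ms = (g.1.1 : Matrix (Fin n) (Fin n) F)
    rw [← (hdiag g.1.1 g.1.2 (Subgroup.mem_subgroupOf.mp g.2)).2.2.2]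
    calc M * (Ms * (g.1.1 : Matrix (Fin n) (Fin n) F) * M) * Ms
        = (M * Ms) * (g.1.1 : Matrix (Fin n) (Fin n) F) * (M * Ms) := by
          simp only [Matrix.mul_assoc]
      _ = _ := by rw [F6, Matrix.one_mul, Matrix.mul_one]
  · rintro ⟨A, D⟩
    have key : Ms * (M * fromBlocks (A.1 : Matrix (Fin k) (Fin k) F) 0 0
        (D.1 : Matrix (Fin (n - k)) (Fin (n - k)) F) * Ms) * M
        = fromBlocks (A.1 : Matrix (Fin k) (Fin k) F) 0 0
          (D.1 : Matrix (Fin (n - k)) (Fin (n - k)) F) := by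
      calc Ms * (M * fromBlocks (A.1 : Matrix (Fin k) (Fin k) F) 0 0
            (D.1 : Matrix (Fin (n - k)) (Fin (n - k)) F) * Ms) * M
          = (Ms * M) * fromBlocks (A.1 : Matrix (Fin k) (Fin k) F) 0 0
            (D.1 : Matrix (Fin (n - k)) (Fin (n - k)) F) * (Ms * M) := by
            simp only [Matrix.mul_assoc]
        _ = _ := by rw [F5, Matrix.one_mul, Matrix.mul_one]
    rw [hblock, fromBlocks_inj] at key
    apply Prod.ext
    · apply Subtype.ext
      apply Units.ext
      exact key.1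
    · apply Subtype.ext
      apply Units.ext
      exact key.2.2.2
  · intro g g'
    have h1 := (hdiag g.1.1 g.1.2 (Subgroup.mem_subgroupOf.mp g.2)).2.2.2
    have h2 := (hdiag g'.1.1 g'.1.2 (Subgroup.mem_subgroupOf.mp g'.2)).2.2.2
    have key : Ms * ((g.1.1 : Matrix (Fin n) (Fin n) F) * (g'.1.1 : Matrix (Fin n) (Fin n) F)) * M
        = fromBlocks ((Xs * (g.1.1 : Matrix (Fin n) (Fin n) F) * X) *
              (Xs * (g'.1.1 : Matrix (Fin n) (Fin n) F) * X)) 0 0
            ((Ys * (g.1.1 : Matrix (Fin n) (Fin n) F) * Y) *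
              (Ys * (g'.1.1 : Matrix (Fin n) (Fin n) F) * Y)) := by
      calc Ms * ((g.1.1 : Matrix (Fin n) (Fin n) F) * (g'.1.1 : Matrix (Fin n) (Fin n) F)) * M
          = (Ms * (g.1.1 : Matrix (Fin n) (Fin n) F) * M) *
              (Ms * (g'.1.1 : Matrix (Fin n) (Fin n) F) * M) := by
            have : Ms * (g.1.1 : Matrix (Fin n) (Fin n) F) * M *
                (Ms * (g'.1.1 : Matrix (Fin n) (Fin n) F) * M)
                = Ms * (g.1.1 : Matrix (Fin n) (Fin n) F) * (M * Ms) *
                  (g'.1.1 : Matrix (Fin n) (Fin n) F) * M := by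
              simp only [Matrix.mul_assoc]
            rw [this, F6, Matrix.mul_one]
            simp only [Matrix.mul_assoc]
        _ = _ := by
            rw [h1, h2, fromBlocks_multiply]
            simp
    rw [hblock, fromBlocks_inj] at key
    apply Prod.ext
    · apply Subtype.ext
      apply Units.ext
      exact key.1
    · apply Subtype.ext
      apply Units.ext
      exact key.2.2.2

end Cfsg.Agent.S0837
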