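import Mathlib
import Cfsg.Statements.S2594
import Cfsg.Agent.S0245
import Cfsg.Agent.Helper28.SympTrans

set_option autoImplicit false
set_option linter.style.haveILetI false
open Cfsg

namespace Cfsg.Agent.S2594

open Matrix Module Cfsg.Agent.Helper28

variable {F : Type*} [Field F]

theorem rank_one_decomp {ι : Type*} [Fintype ι] [DecidableEq ι] (N : Matrix ι ι F)
    (h : N.rank = 1) : ∃ u w : ι → F, N = vecMulVec u w := by
  unfold Matrix.rank at h
  obtain ⟨v, hv0, hv⟩ := finrank_eq_one_iff'.mp h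
  have : ∀ j, ∃ c : F, c • (v : ι → F) = N *ᵥ Pi.single j 1 := by
    intro j
    obtain ⟨c, hc⟩ := hv ⟨N *ᵥ Pi.single j 1, ⟨Pi.single j 1, rfl⟩⟩
    exact ⟨c, by simpa using congrArg Subtype.val hc⟩
  choose w hw using this
  refine ⟨v, w, ?_⟩
  ext i j
  have := congrFun (hw j) i
  rw [Matrix.mulVec_single_one] at this
  simp only [vecMulVec_apply]
  rw [mul_comm]
  simpa using this.symm

variable {m : ℕ}

/-- a symplectic matrix with `t - 1` of rank one is a symplectic transvection. -/
theorem eq_sympTransvection (t : Matrix (Fin m ⊕ Fin m) (Fin m ⊕ Fin m) F)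
    (ht : t ∈ Matrix.symplecticGroup (Fin m) F) (hr : (t - 1).rank = 1) :
    ∃ (a : Fin m ⊕ Fin m → F) (c : F), a ≠ 0 ∧ c ≠ 0 ∧ t = Cfsg.sympTransvection m a c := by
  classical
  obtain ⟨a, b, hN⟩ := rank_one_decomp (t - 1) hr
  have hN0 : t - 1 ≠ 0 := by
    intro h0
    rw [h0, Matrix.rank_zero] at hr
    exact zero_ne_one hr
  have ha0 : a ≠ 0 := by
    rintro rfl
    apply hN0
    rw [hN]
    ext i j
    simp [vecMulVec_apply]
  have htx : ∀ x, t *ᵥ x = x + (b ⬝ᵥ x) • a := by
    intro x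
    have h1 : t = 1 + vecMulVec a b := by rw [← hN]; abel
    rw [h1, Matrix.add_mulVec, Matrix.one_mulVec, Matrix.vecMulVec_mulVec]
    ext i
    simp only [Pi.add_apply, Pi.smul_apply, MulOpposite.smul_eq_mul_unop, MulOpposite.unop_op,
      smul_eq_mul]
    rw [dotProduct_comm, mul_comm]
  have hpres := (mem_symplecticGroup_iff_preserves t).mp ht
  have hrel : ∀ x y, (b ⬝ᵥ y) * Cfsg.sympForm m F x a + (b ⬝ᵥ x) * Cfsg.sympForm m F a y = 0 := by
    intro x y
    have := hpres x y
    rw [htx, htx] at this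
    simp only [sympForm_add_left, sympForm_add_right, sympForm_smul_left, sympForm_smul_right,
      sympForm_self, mul_zero, add_zero] at this
    linear_combination this
  obtain ⟨y₀, hy₀⟩ := sympForm_exists_ne_zero ha0
  set c : F := -(b ⬝ᵥ y₀) / Cfsg.sympForm m F a y₀ with hc
  have hβ : ∀ x, b ⬝ᵥ x = c * Cfsg.sympForm m F x a := by
    intro x
    have := hrel x y₀
    rw [hc]
    field_simp
    linear_combination this
  have hteq : t = Cfsg.sympTransvection m a c := by
    apply Matrix.toLin'.injective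
    apply LinearMap.ext
    intro x
    rw [Matrix.toLin'_apply, Matrix.toLin'_apply, htx, sympTransvection_mulVec, hβ]
  refine ⟨a, c, ha0, ?_, hteq⟩
  rintro hc0
  apply hN0
  rw [hteq, hc0, sympTransvection_zero, sub_self]

/-- in characteristic two the centraliser of a symplectic transvection is the stabiliser of its
centre. -/
theorem commute_iff [CharP F 2] (a : Fin m ⊕ Fin m → F) (c : F) (ha0 : a ≠ 0) (hc0 : c ≠ 0)
    (g : Matrix (Fin m ⊕ Fin m) (Fin m ⊕ Fin m) F) (hg : g ∈ Matrix.symplecticGroup (Fin m) F) :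
    Cfsg.sympTransvection m a c * g = g * Cfsg.sympTransvection m a c ↔ g *ᵥ a = a := by
  have hpres := (mem_symplecticGroup_iff_preserves g).mp hg
  constructor
  · intro hcomm
    have h1 : ∀ x, (c * Cfsg.sympForm m F (g *ᵥ x) a) • a =
        (c * Cfsg.sympForm m F x a) • (g *ᵥ a) := by
      intro x
      have := congrArg (fun M => M *ᵥ x) hcomm
      simp only [← Matrix.mulVec_mulVec, sympTransvection_mulVec, Matrix.mulVec_add,
        Matrix.mulVec_smul] at this
      exact add_left_cancel this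
    obtain ⟨w, hw⟩ := sympForm_exists_ne_zero ha0
    have hw' : Cfsg.sympForm m F w a ≠ 0 := by
      rw [sympForm_swap]; exact neg_ne_zero.mpr hw
    set x : Fin m ⊕ Fin m → F := (Cfsg.sympForm m F w a)⁻¹ • w with hx
    have hxa : Cfsg.sympForm m F x a = 1 := by
      rw [hx, sympForm_smul_left, inv_mul_cancel₀ hw']
    set μ : F := Cfsg.sympForm m F (g *ᵥ x) a with hμ
    have hga : g *ᵥ a = μ • a := by
      have := h1 x
      rw [hxa, mul_one, ← hμ, mul_smul] at this
      exact (smul_right_injective _ hc0 this).symm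
    have hμ2 : μ * μ = 1 := by
      have := hpres x a
      rw [hxa, hga, sympForm_smul_right, ← hμ] at this
      exact this
    have hμ1 : μ = 1 := by
      have h2 : (2 : F) = 0 := CharTwo.two_eq_zero
      have : (μ - 1) * (μ - 1) = 0 := by
        linear_combination hμ2 - μ * h2 + h2
      have := mul_self_eq_zero.mp this
      linear_combination this
    rw [hga, hμ1, one_smul]
  · intro hga
    apply Matrix.toLin'.injective
    apply LinearMap.ext
    intro x
    simp only [Matrix.toLin'_mul, LinearMap.comp_apply, Matrix.toLin'_apply,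
      sympTransvection_mulVec, Matrix.mulVec_add, Matrix.mulVec_smul, hga]
    have : Cfsg.sympForm m F (g *ᵥ x) a = Cfsg.sympForm m F x a := by
      conv_lhs => rw [← hga]
      exact hpres x a
    rw [this]

theorem result {F : Type*} [Field F] [Fintype F] [CharP F 2] {q : ℕ} (hF : Fintype.card F = q) {m : ℕ} (hm : 1 ≤ m) (t : Matrix.symplecticGroup (Fin m) F) (ht : ((t : Matrix (Fin m ⊕ Fin m) (Fin m ⊕ Fin m) F) - 1).rank = 1) : Nat.card ↥(Subgroup.centralizer ({t} : Set ↥(Matrix.symplecticGroup (Fin m) F))) = q ^ (2 * m - 1) * (q ^ ((m - 1) ^ 2) * ∏ i : Fin (m - 1), (q ^ (2 * ((i : ℕ) + 1)) - 1)) := by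
  classical
  obtain ⟨a, c, ha0, hc0, hteq⟩ := eq_sympTransvection t.1 t.2 ht
  letI : MulAction (Matrix.symplecticGroup (Fin m) F) (Fin m ⊕ Fin m → F) :=
    { smul := fun g v => (g : Matrix (Fin m ⊕ Fin m) (Fin m ⊕ Fin m) F) *ᵥ v
      one_smul := fun v => by
        show (1 : Matrix (Fin m ⊕ Fin m) (Fin m ⊕ Fin m) F) *ᵥ v = v
        simp
      mul_smul := fun g h v => by
        show ((g * h : Matrix.symplecticGroup (Fin m) F) :
          Matrix (Fin m ⊕ Fin m) (Fin m ⊕ Fin m) F) *ᵥ v = g.1 *ᵥ (h.1 *ᵥ v)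
        rw [symp_coe_mul, Matrix.mulVec_mulVec] }
  have hsmul : ∀ (g : Matrix.symplecticGroup (Fin m) F) (v : Fin m ⊕ Fin m → F),
      g • v = g.1 *ᵥ v := fun _ _ => rfl
  have hCS : Subgroup.centralizer ({t} : Set ↥(Matrix.symplecticGroup (Fin m) F)) =
      MulAction.stabilizer (Matrix.symplecticGroup (Fin m) F) a := by
    ext g
    rw [Subgroup.mem_centralizer_iff, MulAction.mem_stabilizer_iff]
    show (∀ h ∈ ({t} : Set ↥(Matrix.symplecticGroup (Fin m) F)), h * g = g * h) ↔ g.1 *ᵥ a = a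
    constructor
    · intro h
      have h1 := h t (Set.mem_singleton t)
      apply (commute_iff a c ha0 hc0 g.1 g.2).mp
      rw [← hteq]
      have h2 := congrArg Subtype.val h1
      rw [symp_coe_mul, symp_coe_mul] at h2
      exact h2
    · intro h x hx
      rw [Set.mem_singleton_iff] at hx
      subst hx
      apply Subtype.ext
      rw [symp_coe_mul, symp_coe_mul, hteq]
      exact (commute_iff a c ha0 hc0 g.1 g.2).mpr h
  have horb : MulAction.orbit (Matrix.symplecticGroup (Fin m) F) a = {v | v ≠ 0} := by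
    ext v
    constructor
    · rintro ⟨g, rfl⟩
      intro h0
      apply ha0
      have h1 : g⁻¹ • (g • a) = a := inv_smul_smul g a
      have h2 : (fun v => g • v) a = 0 := h0
      simp only at h2
      rw [h2, hsmul, Matrix.mulVec_zero] at h1
      exact h1.symm
    · intro hv
      obtain ⟨A, _, hA⟩ := sympTrans_transitive ha0 hv
      exact ⟨A, hA⟩
  have hq2 : 2 ≤ q := by rw [← hF]; exact Fintype.one_lt_card
  have horbcard : Nat.card (MulAction.orbit (Matrix.symplecticGroup (Fin m) F) a) =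
      q ^ (2 * m) - 1 := by
    rw [horb, Nat.card_eq_fintype_card, Set.card_ne_eq, Fintype.card_fun, Fintype.card_sum,
      Fintype.card_fin, hF]
    congr 2
    ring
  have hcount : Nat.card (Matrix.symplecticGroup (Fin m) F) =
      (q ^ (2 * m) - 1) * Nat.card (MulAction.stabilizer (Matrix.symplecticGroup (Fin m) F) a) := by
    rw [Subgroup.card_eq_card_quotient_mul_card_subgroup
      (MulAction.stabilizer (Matrix.symplecticGroup (Fin m) F) a), ← horbcard]
    congr 1
    exact (Nat.card_congr (MulAction.orbitEquivQuotientStabilizer _ a)).symm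
  rw [hCS]
  have hSp := Cfsg.Agent.S0245.result hF m
  obtain ⟨k, rfl⟩ : ∃ k, m = k + 1 := ⟨m - 1, by omega⟩
  rw [hSp, Finset.prod_range_succ] at hcount
  have hpos : 0 < q ^ (2 * (k + 1)) - 1 := by
    have : 2 ^ (2 * (k + 1)) ≤ q ^ (2 * (k + 1)) := Nat.pow_le_pow_left hq2 _
    have h4 : 4 ≤ 2 ^ (2 * (k + 1)) := by
      calc 4 = 2 ^ 2 := by norm_num
        _ ≤ 2 ^ (2 * (k + 1)) := Nat.pow_le_pow_right (by norm_num) (by omega)
    omega
  have h3 : (q ^ (2 * (k + 1)) - 1) *
      Nat.card (MulAction.stabilizer (Matrix.symplecticGroup (Fin (k + 1)) F) a) =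
      (q ^ (2 * (k + 1)) - 1) * (q ^ ((k + 1) ^ 2) *
        ∏ i ∈ Finset.range k, (q ^ (2 * (i + 1)) - 1)) := by
    rw [← hcount]; ring
  have h4 := Nat.eq_of_mul_eq_mul_left hpos h3
  rw [h4]
  simp only [Nat.add_sub_cancel]
  have hprod : ∏ i : Fin (k + 1 - 1), (q ^ (2 * ((i : ℕ) + 1)) - 1) =
      ∏ i ∈ Finset.range k, (q ^ (2 * (i + 1)) - 1) :=
    Fin.prod_univ_eq_prod_range (fun i => q ^ (2 * (i + 1)) - 1) k
  rw [hprod, ← mul_assoc, ← pow_add]
  congr 2
  have : 2 * (k + 1) - 1 = 2 * k + 1 := by omega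
  rw [this]
  ring

end Cfsg.Agent.S2594
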