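import Mathlib
import Cfsg.Statements.S2644
import Cfsg.Agent.Helper28.Herm
import Cfsg.Agent.Helper28.GU
import Cfsg.Agent.Helper28.HermWitt
import Cfsg.Agent.Helper28.HermFrame
import Cfsg.Agent.Helper28.Norm
import Cfsg.Agent.S2594
import Cfsg.Agent.S0837

set_option autoImplicit false
open Cfsg

namespace Cfsg.Agent.S2644

open Matrix Module Cfsg.Agent.Helper28 Cfsg.Agent.Helper28.GUlib Cfsg.Agent.Helper28.HermFrame

variable {K : Type*} [Field K] {q n : ℕ}

local notation "h" => Cfsg.hermForm n K q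
local notation "T" => Cfsg.unitaryTransvection n q

/-- preserving the Hermitian form -/
def Pres (M : Matrix (Fin n) (Fin n) K) : Prop :=
  ∀ x y : Fin n → K, Cfsg.hermForm n K q (M *ᵥ x) (M *ᵥ y) = Cfsg.hermForm n K q x y

theorem mat_ext {M M' : Matrix (Fin n) (Fin n) K} (H : ∀ x, M *ᵥ x = M' *ᵥ x) : M = M' := by
  ext i j
  have := congrFun (H (Pi.single j 1)) i
  simpa using this

theorem Pres.mul {M M' : Matrix (Fin n) (Fin n) K} (hM : Pres (q := q) M) (hM' : Pres (q := q) M') :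
    Pres (q := q) (M * M') := by
  intro x y
  rw [← Matrix.mulVec_mulVec, ← Matrix.mulVec_mulVec, hM, hM']

section frob

variable (σ : K →+* K) (hσ : ∀ x, σ x = x ^ q) (hσ2 : ∀ x, σ (σ x) = x)

include hσ in
theorem herm_single_right (v : Fin n → K) (i : Fin n) : h v (Pi.single i 1) = v i := by
  classical
  rw [hermForm_eq_dot σ hσ]
  have hs : σ ∘ (Pi.single i (1 : K) : Fin n → K) = Pi.single i 1 := by
    ext k
    simp only [Function.comp_apply, Pi.single_apply]
    split_ifs <;> simp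
  rw [hs, dotProduct_single_one]

include hσ in
theorem herm_nondeg (v : Fin n → K) (hv : ∀ y, h v y = 0) : v = 0 := by
  funext i
  rw [← herm_single_right σ hσ v i]
  exact hv _

include hσ in
theorem herm_zero_right (x : Fin n → K) : h x 0 = 0 := by
  rw [hermForm_eq_dot σ hσ]
  have : σ ∘ (0 : Fin n → K) = 0 := by
    ext k
    simp
  rw [this, dotProduct_zero]

/-- rescaling the vector of a unitary transvection -/
theorem T_smul (v : Fin n → K) (c l : K) : T (l • v) c = T v (c * l ^ (q + 1)) := by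
  apply mat_ext
  intro x
  rw [unitaryTransvection_mulVec, unitaryTransvection_mulVec, hermForm_smul_right, smul_smul]
  congr 2
  ring

/-- conjugating a unitary transvection -/
theorem T_conj (G : Matrix (Fin n) (Fin n) K) (hG : Pres (q := q) G) (v : Fin n → K) (c : K) :
    G * T v c = T (G *ᵥ v) c * G := by
  apply mat_ext
  intro x
  rw [← Matrix.mulVec_mulVec, ← Matrix.mulVec_mulVec, unitaryTransvection_mulVec,
    unitaryTransvection_mulVec, hG, Matrix.mulVec_add, Matrix.mulVec_smul]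

include hσ hσ2 in
/-- structure of the transvections preserving the form -/
theorem transvection_structure (M : Matrix (Fin n) (Fin n) K) (hM : Pres (q := q) M)
    (ht : Cfsg.IsTransvection M) :
    ∃ (v : Fin n → K) (c : K), v ≠ 0 ∧ h v v = 0 ∧ c ≠ 0 ∧ c ^ q = -c ∧ M = T v c := by
  classical
  obtain ⟨hrank, hsq⟩ := ht
  obtain ⟨u, w, hN⟩ := Cfsg.Agent.S2594.rank_one_decomp (M - 1) hrank
  have hMx : ∀ x, M *ᵥ x = x + (w ⬝ᵥ x) • u := by
    intro x
    have : M = 1 + vecMulVec u w := by rw [← hN]; abel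
    rw [this, Matrix.add_mulVec, Matrix.one_mulVec, Matrix.vecMulVec_mulVec]
    congr 1
    ext j
    simp only [Pi.smul_apply, MulOpposite.smul_eq_mul_unop, MulOpposite.unop_op, smul_eq_mul]
    ring
  have hN0 : M - 1 ≠ 0 := by
    intro h0
    rw [h0, Matrix.rank_zero] at hrank
    exact zero_ne_one hrank
  have hu : u ≠ 0 := by
    rintro rfl
    apply hN0
    rw [hN]
    ext i j
    simp [vecMulVec_apply]
  have hw : w ≠ 0 := by
    rintro rfl
    apply hN0
    rw [hN]
    ext i j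
    simp [vecMulVec_apply]
  obtain ⟨i, hi⟩ : ∃ i, w i ≠ 0 := by
    by_contra hcon
    push Not at hcon
    exact hw (funext hcon)
  set x0 : Fin n → K := (w i)⁻¹ • Pi.single i 1 with hx0
  have hφx0 : w ⬝ᵥ x0 = 1 := by
    rw [hx0, dotProduct_smul, dotProduct_single_one, smul_eq_mul, inv_mul_cancel₀ hi]
  -- φ(u) = 0
  have hφu : w ⬝ᵥ u = 0 := by
    have h1 : (M - 1) *ᵥ ((M - 1) *ᵥ x0) = 0 := by
      rw [Matrix.mulVec_mulVec, hsq, Matrix.zero_mulVec]
    have h2 : ∀ x, (M - 1) *ᵥ x = (w ⬝ᵥ x) • u := by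
      intro x
      rw [Matrix.sub_mulVec, Matrix.one_mulVec, hMx]
      abel
    rw [h2, h2, hφx0, one_smul] at h1
    rcases smul_eq_zero.mp h1 with h3 | h3
    · exact h3
    · exact absurd h3 hu
  -- the unitarity identity
  have key : ∀ x y, (w ⬝ᵥ y) ^ q * h x u + (w ⬝ᵥ x) * h u y +
      (w ⬝ᵥ x) * (w ⬝ᵥ y) ^ q * h u u = 0 := by
    intro x y
    have h1 := hM x y
    rw [hMx, hMx, hermForm_add_left, hermForm_add_right σ hσ, hermForm_add_right σ hσ,
      hermForm_smul_left, hermForm_smul_left, hermForm_smul_right, hermForm_smul_right] at h1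
    linear_combination h1
  have huu : h u u = 0 := by
    have h1 := key x0 u
    rw [hφu, hφx0] at h1
    have hq : q ≠ 0 := by
      rintro rfl
      have := hσ2 0
      have h2 := hσ (0 : K)
      simp at h2
    rw [zero_pow hq] at h1
    simpa using h1
  set a : K := h x0 u with ha
  have huy : ∀ y, h u y = -a * (w ⬝ᵥ y) ^ q := by
    intro y
    have h1 := key x0 y
    rw [hφx0, huu] at h1
    linear_combination h1
  have ha0 : a ≠ 0 := by
    intro h0
    apply hu
    apply herm_nondeg σ hσ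
    intro y
    rw [huy, h0]
    ring
  have haq : a ^ q = -a := by
    have h1 := huy x0
    rw [hφx0, one_pow, mul_one, ← hermForm_conj σ hσ hσ2 u x0] at h1
    exact h1
  have hyu : ∀ y, w ⬝ᵥ y = a⁻¹ * h y u := by
    intro y
    have h1 : h y u = a * (w ⬝ᵥ y) := by
      have e1 : h y u = σ (h u y) := by rw [hσ, hermForm_conj σ hσ hσ2]
      rw [e1, huy, ← hσ (w ⬝ᵥ y), map_mul, map_neg, hσ2, hσ a, haq]
      ring
    rw [h1]
    field_simp
  refine ⟨u, a⁻¹, hu, huu, inv_ne_zero ha0, ?_, ?_⟩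
  · rw [inv_pow, haq]
    field_simp
  · apply mat_ext
    intro x
    rw [hMx, unitaryTransvection_mulVec, hyu]


include hσ hσ2 in
/-- a standard isotropic vector with stabilizer elements of every admissible determinant -/
theorem exists_std [Finite K] (hσid : σ ≠ RingHom.id K) (hn : 3 ≤ n) :
    ∃ v0 : Fin n → K, v0 ≠ 0 ∧ h v0 v0 = 0 ∧ ∀ d : K, d ^ (q + 1) = 1 →
      ∃ D : Matrix (Fin n) (Fin n) K, Pres (q := q) D ∧ D *ᵥ v0 = v0 ∧ D.det = d := by
  classical
  obtain ⟨a, ha⟩ := exists_norm_eq σ hσid hσ2 (-1) (neg_ne_zero.mpr one_ne_zero) (by simp)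
  set i0 : Fin n := ⟨0, by omega⟩ with hi0
  set i1 : Fin n := ⟨1, by omega⟩ with hi1
  set i2 : Fin n := ⟨2, by omega⟩ with hi2
  have h01 : i0 ≠ i1 := by simp [hi0, hi1, Fin.ext_iff]
  have h02 : i0 ≠ i2 := by simp [hi0, hi2, Fin.ext_iff]
  have h12 : i1 ≠ i2 := by simp [hi1, hi2, Fin.ext_iff]
  set v0 : Fin n → K := fun i => if i = i0 then 1 else if i = i1 then a else 0 with hv0
  have v00 : v0 i0 = 1 := by simp [hv0]
  have v01 : v0 i1 = a := by simp [hv0, h01.symm]
  have v02 : v0 i2 = 0 := by simp [hv0, h02.symm, h12.symm]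
  have v0r : ∀ i, i ≠ i0 ∧ i ≠ i1 → v0 i = 0 := by
    intro i hi
    simp [hv0, hi.1, hi.2]
  refine ⟨v0, ?_, ?_, ?_⟩
  · intro h0
    have := congrFun h0 i0
    rw [v00] at this
    exact one_ne_zero this
  · unfold Cfsg.hermForm
    rw [Fintype.sum_eq_add i0 i1 h01]
    · rw [v00, v01, ← hσ a, ha]
      simp
    · intro i hi
      rw [v0r i hi, zero_mul]
  · intro d hd
    set d' : Fin n → K := Function.update (fun _ => (1 : K)) i2 d with hd'
    refine ⟨Matrix.diagonal d', ?_, ?_, ?_⟩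
    · apply (preserves_iff σ hσ _).mpr
      apply diagonal_unitary σ hσ
      intro i
      by_cases hi : i = i2
      · subst hi
        rw [hd', Function.update_self]
        exact hd
      · rw [hd', Function.update_of_ne hi]
        exact one_pow _
    · funext i
      rw [Matrix.mulVec_diagonal]
      by_cases hi : i = i2
      · subst hi
        rw [v02, mul_zero]
      · rw [hd', Function.update_of_ne hi, one_mul]
    · rw [Matrix.det_diagonal, hd', Finset.prod_update_of_mem (Finset.mem_univ _)]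
      simp

include hσ hσ2 in
/-- Witt transitivity with determinant one -/
theorem exists_SU_map [Finite K] (hσid : σ ≠ RingHom.id K) (v0 : Fin n → K) (hv0 : v0 ≠ 0)
    (hv00 : h v0 v0 = 0)
    (hD : ∀ d : K, d ^ (q + 1) = 1 →
      ∃ D : Matrix (Fin n) (Fin n) K, Pres (q := q) D ∧ D *ᵥ v0 = v0 ∧ D.det = d)
    (v : Fin n → K) (hv : v ≠ 0) (hvv : h v v = 0) :
    ∃ G : Matrix (Fin n) (Fin n) K, Pres (q := q) G ∧ G.det = 1 ∧ G *ᵥ v = v0 := by
  classical
  obtain ⟨i, hi⟩ : ∃ i, v i ≠ 0 := by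
    by_contra hcon
    push Not at hcon
    exact hv (funext hcon)
  set l : (Fin n → K) →ₗ[K] K := (v i)⁻¹ • LinearMap.proj i with hl
  have hlv : l v = 1 := by simp [hl, inv_mul_cancel₀ hi]
  set g : (Fin n → K) →ₗ[K] (Fin n → K) := l.smulRight v0 with hg
  have hgv : g v = v0 := by simp [hg, hlv]
  obtain ⟨g', hg'X, hg'⟩ := HW.exists_isometry_ext (B := hB σ n) hσid hσ2 (hB_isSymm σ hσ2 n)
    (hB_nondeg σ hσ2 n) n (Submodule.span K {v}) g (by
      rw [Module.finrank_fin_fun]; omega) (by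
      intro x hx x' hx'
      obtain ⟨c, rfl⟩ := Submodule.mem_span_singleton.mp hx
      obtain ⟨c', rfl⟩ := Submodule.mem_span_singleton.mp hx'
      simp only [map_smul, hgv, LinearMap.map_smulₛₗ, LinearMap.smul_apply, hB_eq_herm σ hσ, hvv,
        hv00, smul_zero]) (by
      intro x hx hgx
      obtain ⟨c, rfl⟩ := Submodule.mem_span_singleton.mp hx
      rw [map_smul, hgv, smul_eq_zero] at hgx
      rcases hgx with h0 | h0
      · rw [h0, zero_smul]
      · exact absurd h0 hv0)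
  have hg'v : g' v = v0 := by
    rw [hg'X v (Submodule.mem_span_singleton_self v), hgv]
  set G' : Matrix (Fin n) (Fin n) K := LinearMap.toMatrix' g' with hG'
  have hG'x : ∀ x, G' *ᵥ x = g' x := fun x => LinearMap.toMatrix'_mulVec g' x
  have hP : Pres (q := q) G' := by
    intro x y
    rw [hG'x, hG'x, ← hB_eq_herm σ hσ, ← hB_eq_herm σ hσ, hg']
  have hdet : G'.det ^ (q + 1) = 1 := det_pow_of_unitary σ hσ G' ((preserves_iff σ hσ G').mp hP)
  have hdet0 : G'.det ≠ 0 := by
    intro h0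
    rw [h0, zero_pow (Nat.succ_ne_zero q)] at hdet
    exact zero_ne_one hdet
  obtain ⟨D, hDP, hDv, hDd⟩ := hD (G'.det)⁻¹ (by rw [inv_pow, hdet, inv_one])
  refine ⟨D * G', hDP.mul hP, ?_, ?_⟩
  · rw [Matrix.det_mul, hDd, inv_mul_cancel₀ hdet0]
  · rw [← Matrix.mulVec_mulVec, hG'x, hg'v, hDv]

end frob

/-- the matrix of an element of `SU` -/
def toM (K : Type*) [Field K] (n q : ℕ) : ↥(Cfsg.SU n K q) →* Matrix (Fin n) (Fin n) K :=
  (Cfsg.slToMat n K).comp (Subgroup.subtype _)

theorem toM_injective : Function.Injective (toM K n q) := by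
  intro g g' hgg
  apply Subtype.ext
  apply Subtype.ext
  exact hgg

theorem toM_pres (g : ↥(Cfsg.SU n K q)) : Pres (q := q) (toM K n q g) := g.2

/-- build an element of `SU` from a matrix -/
def mkSU (G : Matrix (Fin n) (Fin n) K) (hdet : G.det = 1) (hP : Pres (q := q) G) :
    ↥(Cfsg.SU n K q) := ⟨⟨G, hdet⟩, hP⟩

theorem toM_mkSU (G : Matrix (Fin n) (Fin n) K) (hdet : G.det = 1) (hP : Pres (q := q) G) :
    toM K n q (mkSU G hdet hP) = G := rfl

theorem result {K : Type*} [Field K] [Fintype K] {q n : ℕ} (hK : Fintype.card K = q ^ 2) (hn : 3 ≤ n) (s t : ↥(Cfsg.SU n K q)) (hs : Cfsg.IsTransvection (((s : GL (Fin n) K) : Matrix (Fin n) (Fin n) K))) (ht : Cfsg.IsTransvection (((t : GL (Fin n) K) : Matrix (Fin n) (Fin n) K))) : IsConj s t := by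
  classical
  obtain ⟨σ, hσ, hσ2⟩ := exists_frob hK
  have hσid := Cfsg.Agent.S0837.frob_ne_id hK σ hσ
  have hs' : Cfsg.IsTransvection (toM K n q s) := hs
  have ht' : Cfsg.IsTransvection (toM K n q t) := ht
  obtain ⟨v1, c1, hv1, hv11, hc1, hc1q, hMs⟩ :=
    transvection_structure σ hσ hσ2 _ (toM_pres s) hs'
  obtain ⟨v2, c2, hv2, hv22, hc2, hc2q, hMt⟩ :=
    transvection_structure σ hσ hσ2 _ (toM_pres t) ht'
  -- rescale the second
  obtain ⟨l, hl⟩ := exists_norm_eq σ hσid hσ2 (c2 / c1) (div_ne_zero hc2 hc1) (by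
    rw [map_div₀, hσ, hσ, hc1q, hc2q, neg_div_neg_eq])
  have hl0 : l ≠ 0 := by
    rintro rfl
    rw [zero_mul] at hl
    exact div_ne_zero hc2 hc1 hl.symm
  have hMt' : toM K n q t = Cfsg.unitaryTransvection n q (l • v2) c1 := by
    rw [hMt, T_smul, pow_succ', ← hσ, hl]
    congr 1
    field_simp
  have hv2' : l • v2 ≠ 0 := smul_ne_zero hl0 hv2
  have hv22' : Cfsg.hermForm n K q (l • v2) (l • v2) = 0 := by
    rw [hermForm_smul_left, hermForm_smul_right, hv22, mul_zero, mul_zero]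
  obtain ⟨v0, hv0, hv00, hD⟩ := exists_std σ hσ hσ2 hσid hn
  obtain ⟨G1, hG1P, hG1d, hG1v⟩ := exists_SU_map σ hσ hσ2 hσid v0 hv0 hv00 hD v1 hv1 hv11
  obtain ⟨G2, hG2P, hG2d, hG2v⟩ := exists_SU_map σ hσ hσ2 hσid v0 hv0 hv00 hD (l • v2) hv2' hv22'
  set g1 := mkSU G1 hG1d hG1P with hg1
  set g2 := mkSU G2 hG2d hG2P with hg2
  have key : g1 * s * g1⁻¹ = g2 * t * g2⁻¹ := by
    apply toM_injective
    have e1 : toM K n q (g1 * s * g1⁻¹) * toM K n q g1 =
        Cfsg.unitaryTransvection n q v0 c1 * toM K n q g1 := by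
      rw [← map_mul, inv_mul_cancel_right, map_mul, toM_mkSU, hMs, T_conj G1 hG1P, hG1v]
    have e2 : toM K n q (g2 * t * g2⁻¹) * toM K n q g2 =
        Cfsg.unitaryTransvection n q v0 c1 * toM K n q g2 := by
      rw [← map_mul, inv_mul_cancel_right, map_mul, toM_mkSU, hMt', T_conj G2 hG2P, hG2v]
    have i1 : toM K n q g1 * toM K n q g1⁻¹ = 1 := by rw [← map_mul, mul_inv_cancel, map_one]
    have i2 : toM K n q g2 * toM K n q g2⁻¹ = 1 := by rw [← map_mul, mul_inv_cancel, map_one]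
    have f1 : toM K n q (g1 * s * g1⁻¹) = Cfsg.unitaryTransvection n q v0 c1 := by
      have := congrArg (fun X => X * toM K n q g1⁻¹) e1
      simp only [Matrix.mul_assoc, i1, Matrix.mul_one] at this
      exact this
    have f2 : toM K n q (g2 * t * g2⁻¹) = Cfsg.unitaryTransvection n q v0 c1 := by
      have := congrArg (fun X => X * toM K n q g2⁻¹) e2
      simp only [Matrix.mul_assoc, i2, Matrix.mul_one] at this
      exact this
    rw [f1, f2]
  rw [isConj_iff]
  refine ⟨g2⁻¹ * g1, ?_⟩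
  have : g2⁻¹ * g1 * s * (g2⁻¹ * g1)⁻¹ = g2⁻¹ * (g1 * s * g1⁻¹) * g2 := by group
  rw [this, key]
  group

end Cfsg.Agent.S2644
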