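import Mathlib
import Cfsg.Statements.S0781
import Cfsg.Agent.S2644

set_option autoImplicit false
set_option linter.style.haveILetI false
open Cfsg

namespace Cfsg.Agent.S0781

open Matrix Module Cfsg.Agent.Helper28 Cfsg.Agent.Helper28.GUlib Cfsg.Agent.Helper28.HermFrame
  Cfsg.Agent.S2644

variable {K : Type*} [Field K] {q n : ℕ}

local notation "h" => Cfsg.hermForm n K q
local notation "T" => Cfsg.unitaryTransvection n q

/-- determinant of a unitary transvection. -/
theorem det_T (v : Fin n → K) (c : K) (hvv : h v v = 0) : (T v c).det = 1 := by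
  unfold Cfsg.unitaryTransvection
  rw [← Matrix.smul_vecMulVec, Matrix.vecMulVec_eq Unit,
    Matrix.det_one_add_replicateCol_mul_replicateRow]
  have : (fun j => v j ^ q) ⬝ᵥ (c • v) = c * h v v := by
    simp only [dotProduct, Cfsg.hermForm, Pi.smul_apply, smul_eq_mul, Finset.mul_sum]
    apply Finset.sum_congr rfl
    intro i _
    ring
  rw [this, hvv, mul_zero, add_zero]

/-- Siegel element. -/
def E (a b : Fin n → K) (s : K) : Matrix (Fin n) (Fin n) K :=
  1 + s • Matrix.vecMulVec a (fun j => b j ^ q) + (-(s ^ q)) • Matrix.vecMulVec b (fun j => a j ^ q)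

theorem E_mulVec (a b : Fin n → K) (s : K) (x : Fin n → K) :
    E (q := q) a b s *ᵥ x = x + (s * h x b) • a + (-(s ^ q) * h x a) • b := by
  unfold E
  rw [Matrix.add_mulVec, Matrix.add_mulVec, Matrix.one_mulVec, Matrix.smul_mulVec,
    Matrix.smul_mulVec, Matrix.vecMulVec_mulVec, Matrix.vecMulVec_mulVec]
  have e1 : (fun j => b j ^ q) ⬝ᵥ x = h x b := by
    simp only [dotProduct, Cfsg.hermForm]
    apply Finset.sum_congr rfl
    intro i _
    ring
  have e2 : (fun j => a j ^ q) ⬝ᵥ x = h x a := by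
    simp only [dotProduct, Cfsg.hermForm]
    apply Finset.sum_congr rfl
    intro i _
    ring
  rw [e1, e2]
  ext i
  simp only [Pi.add_apply, Pi.smul_apply, MulOpposite.smul_eq_mul_unop, MulOpposite.unop_op,
    smul_eq_mul]
  ring

theorem det_E (a b : Fin n → K) (s : K) (haa : h a a = 0) (hab : h a b = 0) (hba : h b a = 0)
    (hbb : h b b = 0) : (E (q := q) a b s).det = 1 := by
  set U : Matrix (Fin n) (Fin 2) K :=
    Matrix.of (fun k (j : Fin 2) => if j = 0 then s * a k else -(s ^ q) * b k) with hU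
  set V : Matrix (Fin 2) (Fin n) K :=
    Matrix.of (fun (i : Fin 2) k => if i = 0 then b k ^ q else a k ^ q) with hV
  have h1 : E (q := q) a b s = 1 + U * V := by
    unfold E
    rw [add_assoc]
    congr 1
    ext k l
    simp [hU, hV, Matrix.mul_apply, Fin.sum_univ_two, Matrix.vecMulVec_apply]
    ring
  have h2 : V * U = 0 := by
    ext i j
    rw [Matrix.mul_apply]
    fin_cases i <;> fin_cases j
    · simp only [hU, hV, Matrix.of_apply, Fin.zero_eta, if_true, Matrix.zero_apply]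
      have : ∑ k, b k ^ q * (s * a k) = s * h a b := by
        simp only [Cfsg.hermForm, Finset.mul_sum]
        apply Finset.sum_congr rfl; intro i _; ring
      rw [this, hab, mul_zero]
    · simp only [hU, hV, Matrix.of_apply, Fin.zero_eta, Fin.mk_one, if_true, Matrix.zero_apply,
        one_ne_zero, if_false]
      have : ∑ k, b k ^ q * (-(s ^ q) * b k) = -(s ^ q) * h b b := by
        simp only [Cfsg.hermForm, Finset.mul_sum]
        apply Finset.sum_congr rfl; intro i _; ring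
      rw [this, hbb, mul_zero]
    · simp only [hU, hV, Matrix.of_apply, Fin.zero_eta, Fin.mk_one, if_true, Matrix.zero_apply,
        one_ne_zero, if_false]
      have : ∑ k, a k ^ q * (s * a k) = s * h a a := by
        simp only [Cfsg.hermForm, Finset.mul_sum]
        apply Finset.sum_congr rfl; intro i _; ring
      rw [this, haa, mul_zero]
    · simp only [hU, hV, Matrix.of_apply, Fin.mk_one, Matrix.zero_apply,
        one_ne_zero, if_false]
      have : ∑ k, a k ^ q * (-(s ^ q) * b k) = -(s ^ q) * h b a := by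
        simp only [Cfsg.hermForm, Finset.mul_sum]
        apply Finset.sum_congr rfl; intro i _; ring
      rw [this, hba, mul_zero]
  rw [h1, Matrix.det_one_add_mul_comm, h2, add_zero, Matrix.det_one]

section frob

variable (σ : K →+* K) (hσ : ∀ x, σ x = x ^ q) (hσ2 : ∀ x, σ (σ x) = x)

include hσ in
/-- expansion of the form on `x + α a + β b`. -/
theorem herm_expand_left (x a b y : Fin n → K) (α β : K) :
    h (x + α • a + β • b) y = h x y + α * h a y + β * h b y := by
  rw [hermForm_add_left, hermForm_add_left, hermForm_smul_left, hermForm_smul_left]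

include hσ in
theorem herm_expand_right (x a b y : Fin n → K) (α β : K) :
    h y (x + α • a + β • b) = h y x + α ^ q * h y a + β ^ q * h y b := by
  rw [hermForm_add_right σ hσ, hermForm_add_right σ hσ, hermForm_smul_right, hermForm_smul_right]

include hσ hσ2 in
theorem Pres_E (a b : Fin n → K) (s : K) (haa : h a a = 0) (hab : h a b = 0) (hba : h b a = 0)
    (hbb : h b b = 0) : Pres (q := q) (E (q := q) a b s) := by
  intro x y
  rw [E_mulVec, E_mulVec, herm_expand_left σ hσ, herm_expand_right σ hσ, herm_expand_right σ hσ,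
    herm_expand_right σ hσ, haa, hab, hba, hbb]
  have c1 : (s * h y b) ^ q = s ^ q * h b y := by
    rw [mul_pow, hermForm_conj σ hσ hσ2]
  have c2 : (-(s ^ q) * h y a) ^ q = -s * h a y := by
    rw [mul_pow, hermForm_conj σ hσ hσ2, ← hσ, map_neg, hσ, ← hσ, ← hσ, hσ2]
  rw [c1, c2]
  ring

theorem E_conj (G : Matrix (Fin n) (Fin n) K) (hG : Pres (q := q) G) (a b : Fin n → K) (s : K) :
    G * E (q := q) a b s = E (q := q) (G *ᵥ a) (G *ᵥ b) s * G := by
  apply mat_ext
  intro x
  rw [← Matrix.mulVec_mulVec, ← Matrix.mulVec_mulVec, E_mulVec, E_mulVec, hG, hG,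
    Matrix.mulVec_add, Matrix.mulVec_add, Matrix.mulVec_smul, Matrix.mulVec_smul]

include hσ in
theorem E_mul_neg (a b : Fin n → K) (s : K) (haa : h a a = 0) (hab : h a b = 0) (hba : h b a = 0)
    (hbb : h b b = 0) : E (q := q) a b (-s) * E (q := q) a b s = 1 := by
  apply mat_ext
  intro x
  rw [← Matrix.mulVec_mulVec, E_mulVec, E_mulVec, herm_expand_left σ hσ, herm_expand_left σ hσ,
    haa, hab, hba, hbb, Matrix.one_mulVec]
  have : (-s) ^ q = -(s ^ q) := by rw [← hσ, map_neg, hσ]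
  rw [this]
  module

include hσ in
/-- the commutator identity. -/
theorem E_key (a b : Fin n → K) (s : K) (haa : h a a = 0) (hab : h a b = 0) (hba : h b a = 0)
    (hbb : h b b = 0) :
    E (q := q) a (a + b) s * E (q := q) a b (-s) = T a (s - s ^ q) := by
  apply mat_ext
  intro x
  rw [← Matrix.mulVec_mulVec, E_mulVec, E_mulVec, herm_expand_left σ hσ, herm_expand_left σ hσ,
    hermForm_add_right σ hσ, hermForm_add_right σ hσ, hermForm_add_right σ hσ,
    haa, hab, hba, hbb, unitaryTransvection_mulVec]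
  have : (-s) ^ q = -(s ^ q) := by rw [← hσ, map_neg, hσ]
  rw [this]
  module

include hσ in
theorem T_mul (v : Fin n → K) (c c' : K) (hvv : h v v = 0) : T v c * T v c' = T v (c + c') := by
  apply mat_ext
  intro x
  rw [← Matrix.mulVec_mulVec, unitaryTransvection_mulVec, unitaryTransvection_mulVec,
    unitaryTransvection_mulVec, hermForm_add_left, hermForm_smul_left, hvv]
  module

include hσ hσ2 in
theorem Pres_T (v : Fin n → K) (c : K) (hvv : h v v = 0) (hc : c ^ q = -c) :
    Pres (q := q) (T v c) := by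
  intro x y
  rw [unitaryTransvection_mulVec, unitaryTransvection_mulVec, hermForm_add_left,
    hermForm_add_right σ hσ, hermForm_add_right σ hσ, hermForm_smul_left, hermForm_smul_left,
    hermForm_smul_right, hermForm_smul_right, hvv, mul_pow, hc, hermForm_conj σ hσ hσ2]
  ring

include hσ hσ2 in
theorem skew_of_Pres (v : Fin n → K) (c : K) (hv : v ≠ 0) (hvv : h v v = 0)
    (hP : Pres (q := q) (T v c)) : c ^ q = -c := by
  obtain ⟨y, hy⟩ : ∃ y, h v y ≠ 0 := by
    by_contra hcon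
    push Not at hcon
    exact hv (herm_nondeg σ hσ v hcon)
  have h1 := hP y y
  rw [unitaryTransvection_mulVec, hermForm_add_left,
    hermForm_add_right σ hσ, hermForm_add_right σ hσ, hermForm_smul_left, hermForm_smul_left,
    hermForm_smul_right, hermForm_smul_right, hvv, mul_pow, hermForm_conj σ hσ hσ2] at h1
  have hy' : h y v ≠ 0 := by
    intro h0
    apply hy
    rw [← hermForm_conj σ hσ hσ2, h0, zero_pow]
    intro hq0
    have := hσ 0
    subst hq0
    simp at this
  have h2 : (c ^ q + c) * (h v y * h y v) = 0 := by linear_combination h1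
  rcases mul_eq_zero.mp h2 with h3 | h3
  · exact eq_neg_of_add_eq_zero_left h3
  · exact absurd h3 (mul_ne_zero hy hy')

/-- a vector supported on two coordinates. -/
def pv (i j : Fin n) (x y : K) : Fin n → K := fun k => if k = i then x else if k = j then y else 0

theorem pv_i (i j : Fin n) (x y : K) : pv i j x y i = x := by simp [pv]

theorem pv_j (i j : Fin n) (hij : i ≠ j) (x y : K) : pv i j x y j = y := by
  simp [pv, hij.symm]

theorem pv_other (i j k : Fin n) (hi : k ≠ i) (hj : k ≠ j) (x y : K) : pv i j x y k = 0 := by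
  simp [pv, hi, hj]

theorem herm_pv_same (i j : Fin n) (hij : i ≠ j) (x y x' y' : K) :
    h (pv i j x y) (pv i j x' y') = x * x' ^ q + y * y' ^ q := by
  unfold Cfsg.hermForm
  rw [Fintype.sum_eq_add i j hij]
  · rw [pv_i, pv_i, pv_j _ _ hij, pv_j _ _ hij]
  · intro k hk
    rw [pv_other i j k hk.1 hk.2, zero_mul]

theorem herm_pv_disj (hq : q ≠ 0) (i j i' j' : Fin n) (h1 : i ≠ i') (h2 : i ≠ j') (h3 : j ≠ i')
    (h4 : j ≠ j') (x y x' y' : K) : h (pv i j x y) (pv i' j' x' y') = 0 := by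
  unfold Cfsg.hermForm
  apply Finset.sum_eq_zero
  intro k _
  by_cases hki : k = i
  · subst hki
    rw [pv_other i' j' k h1 h2, zero_pow hq, mul_zero]
  · by_cases hkj : k = j
    · subst hkj
      rw [pv_other i' j' k h3 h4, zero_pow hq, mul_zero]
    · rw [pv_other i j k hki hkj, zero_mul]

include hσ hσ2 in
/-- the standard isotropic vector with stabilizer elements of every admissible determinant -/
theorem std_vec (hn : 3 ≤ n) (a : K) (ha : a ^ (q + 1) = -1) :
    pv (⟨0, by omega⟩ : Fin n) ⟨1, by omega⟩ 1 a ≠ 0 ∧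
    h (pv (⟨0, by omega⟩ : Fin n) ⟨1, by omega⟩ 1 a) (pv (⟨0, by omega⟩ : Fin n) ⟨1, by omega⟩ 1 a) = 0 ∧
    ∀ d : K, d ^ (q + 1) = 1 →
      ∃ D : Matrix (Fin n) (Fin n) K, Pres (q := q) D ∧
        D *ᵥ (pv (⟨0, by omega⟩ : Fin n) ⟨1, by omega⟩ 1 a) = pv (⟨0, by omega⟩ : Fin n) ⟨1, by omega⟩ 1 a ∧
        D.det = d := by
  classical
  set i0 : Fin n := ⟨0, by omega⟩ with hi0
  set i1 : Fin n := ⟨1, by omega⟩ with hi1
  set i2 : Fin n := ⟨2, by omega⟩ with hi2
  have h01 : i0 ≠ i1 := by simp [hi0, hi1, Fin.ext_iff]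
  have h02 : i0 ≠ i2 := by simp [hi0, hi2, Fin.ext_iff]
  have h12 : i1 ≠ i2 := by simp [hi1, hi2, Fin.ext_iff]
  refine ⟨?_, ?_, ?_⟩
  · intro h0
    have := congrFun h0 i0
    rw [pv_i] at this
    exact one_ne_zero this
  · rw [herm_pv_same i0 i1 h01, one_pow, one_mul, ← pow_succ', ha]
    ring
  · intro d hd
    set d' : Fin n → K := Function.update (fun _ => (1 : K)) i2 d with hd'
    refine ⟨Matrix.diagonal d', ?_, ?_, ?_⟩
    · apply (preserves_iff σ hσ _).mpr
      apply diagonal_unitary σ hσ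
      intro i
      by_cases hi : i = i2
      · subst hi
        rw [hd', Function.update_self]
        exact hd
      · rw [hd', Function.update_of_ne hi]
        exact one_pow _
    · funext i
      rw [Matrix.mulVec_diagonal]
      by_cases hi : i = i2
      · subst hi
        rw [pv_other i0 i1 _ h02.symm h12.symm, mul_zero]
      · rw [hd', Function.update_of_ne hi, one_mul]
    · rw [Matrix.det_diagonal, hd', Finset.prod_update_of_mem (Finset.mem_univ _)]
      simp

end frob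

/-- a commutator from the relation `B C = A C B`. -/
theorem comm_of_rel {G : Type*} [Group G] (A B C : G) (hrel : B * C = A * C * B) :
    A ∈ commutatorSet G := by
  rw [mem_commutatorSet_iff]
  refine ⟨B, C, ?_⟩
  rw [commutatorElement_def, hrel]
  group

section cases

variable (σ : K →+* K) (hσ : ∀ x, σ x = x ^ q) (hσ2 : ∀ x, σ (σ x) = x)

include hσ hσ2 in
/-- the case `n ≥ 4`. -/
theorem comm_big (hn : 4 ≤ n) (hq : q ≠ 0) (θ : K) (hθ : σ θ ≠ θ) (a : K) (ha : a ^ (q + 1) = -1)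
    (c : K) (hc : c ^ q = -c) (A : ↥(Cfsg.SU n K q))
    (hA : toM K n q A = T (pv (⟨0, by omega⟩ : Fin n) ⟨1, by omega⟩ 1 a) c) :
    A ∈ commutatorSet ↥(Cfsg.SU n K q) := by
  classical
  set i0 : Fin n := ⟨0, by omega⟩ with hi0
  set i1 : Fin n := ⟨1, by omega⟩ with hi1
  set i2 : Fin n := ⟨2, by omega⟩ with hi2
  set i3 : Fin n := ⟨3, by omega⟩ with hi3
  have h01 : i0 ≠ i1 := by simp [hi0, hi1, Fin.ext_iff]
  have h02 : i0 ≠ i2 := by simp [hi0, hi2, Fin.ext_iff]
  have h03 : i0 ≠ i3 := by simp [hi0, hi3, Fin.ext_iff]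
  have h12 : i1 ≠ i2 := by simp [hi1, hi2, Fin.ext_iff]
  have h13 : i1 ≠ i3 := by simp [hi1, hi3, Fin.ext_iff]
  have h23 : i2 ≠ i3 := by simp [hi2, hi3, Fin.ext_iff]
  have hθ0 : θ ≠ 0 := by
    rintro rfl
    exact hθ (map_zero σ)
  set ξ : K := σ θ / θ with hξ
  have hξ1 : ξ ≠ 1 := by
    intro h1
    rw [hξ, div_eq_one_iff_eq hθ0] at h1
    exact hθ h1
  have hσθ0 : σ θ ≠ 0 := by
    intro h0
    apply hθ0
    have := hσ2 θ
    rw [h0, map_zero] at this
    exact this.symm
  have hξN : ξ ^ (q + 1) = 1 := by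
    rw [pow_succ, ← hσ, hξ, map_div₀, hσ2]
    field_simp
  set a' : K := a * ξ with ha'
  have ha'N : a' ^ (q + 1) = -1 := by
    rw [ha', mul_pow, ha, hξN, mul_one]
  have ha0 : a ≠ 0 := by
    rintro rfl
    rw [zero_pow (Nat.succ_ne_zero q)] at ha
    exact one_ne_zero (neg_eq_zero.mp ha.symm)
  set u1 : Fin n → K := pv i0 i1 1 a with hu1
  set u2 : Fin n → K := pv i2 i3 1 a with hu2
  set w2 : Fin n → K := pv i2 i3 1 a' with hw2
  have e11 : h u1 u1 = 0 := by
    rw [herm_pv_same i0 i1 h01, one_pow, one_mul, ← pow_succ', ha]; ring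
  have e22 : h u2 u2 = 0 := by
    rw [herm_pv_same i2 i3 h23, one_pow, one_mul, ← pow_succ', ha]; ring
  have eww : h w2 w2 = 0 := by
    rw [herm_pv_same i2 i3 h23, one_pow, one_mul, ← pow_succ', ha'N]; ring
  have e12 : h u1 u2 = 0 := herm_pv_disj hq _ _ _ _ h02 h03 h12 h13 _ _ _ _
  have e21 : h u2 u1 = 0 := herm_pv_disj hq _ _ _ _ h02.symm h12.symm h03.symm h13.symm _ _ _ _
  have e1w : h u1 w2 = 0 := herm_pv_disj hq _ _ _ _ h02 h03 h12 h13 _ _ _ _
  have ew1 : h w2 u1 = 0 := herm_pv_disj hq _ _ _ _ h02.symm h12.symm h03.symm h13.symm _ _ _ _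
  have e2w : h u2 w2 = 1 + a * a' ^ q := by
    rw [herm_pv_same i2 i3 h23, one_pow, one_mul]
  have e2w0 : h u2 w2 ≠ 0 := by
    rw [e2w]
    intro h0
    have h1 : a ^ q - a' ^ q = 0 := by
      have : a ^ q * (1 + a * a' ^ q) = 0 := by rw [h0, mul_zero]
      have e : a ^ q * a = a ^ (q + 1) := by rw [pow_succ]
      linear_combination this - a' ^ q * e - a' ^ q * ha
    have h2 : σ a = σ a' := by rw [hσ, hσ]; exact sub_eq_zero.mp h1
    have h3 : a = a' := by
      have := congrArg σ h2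
      rwa [hσ2, hσ2] at this
    apply hξ1
    have : a * ξ = a * 1 := by rw [mul_one]; exact h3.symm
    exact mul_left_cancel₀ ha0 this
  set s1 : K := (h u2 w2)⁻¹ with hs1
  set κ : K := θ / (θ - σ θ) with hκ
  have hsub : θ - σ θ ≠ 0 := sub_ne_zero.mpr (Ne.symm hθ)
  have hκ1 : κ + σ κ = 1 := by
    rw [hκ, map_div₀, map_sub, hσ2]
    have : σ θ - θ ≠ 0 := sub_ne_zero.mpr hθ
    field_simp
    ring
  set s : K := κ * c with hs
  have hsc : s - s ^ q = c := by
    rw [hs, mul_pow, hc, ← hσ]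
    linear_combination c * hκ1
  set B := mkSU (E (q := q) u1 w2 s1) (det_E u1 w2 s1 e11 e1w ew1 eww)
    (Pres_E σ hσ hσ2 u1 w2 s1 e11 e1w ew1 eww) with hB
  set C := mkSU (E (q := q) u1 u2 s) (det_E u1 u2 s e11 e12 e21 e22)
    (Pres_E σ hσ hσ2 u1 u2 s e11 e12 e21 e22) with hC
  apply comm_of_rel A B C
  apply toM_injective
  rw [map_mul, map_mul, map_mul, hA, hB, hC, toM_mkSU, toM_mkSU,
    E_conj _ (Pres_E σ hσ hσ2 u1 w2 s1 e11 e1w ew1 eww)]
  have hB1 : E (q := q) u1 w2 s1 *ᵥ u1 = u1 := by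
    rw [E_mulVec, e1w, e11]
    simp
  have hB2 : E (q := q) u1 w2 s1 *ᵥ u2 = u1 + u2 := by
    rw [E_mulVec, e2w, e21, ← e2w, hs1, inv_mul_cancel₀ e2w0]
    simp [add_comm]
  rw [hB1, hB2]
  congr 1
  have hkey := E_key σ hσ u1 u2 s e11 e12 e21 e22
  rw [hsc] at hkey
  rw [← hkey, Matrix.mul_assoc, E_mul_neg σ hσ u1 u2 s e11 e12 e21 e22, Matrix.mul_one]

include hσ hσ2 in
/-- the case `q ≥ 3`. -/
theorem comm_small [Finite K] (hσid : σ ≠ RingHom.id K) (hn : 3 ≤ n) (l : K) (hl0 : l ≠ 0)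
    (hl : l ^ (q + 1) ≠ 1) (a : K) (ha : a ^ (q + 1) = -1)
    (c : K) (hc : c ^ q = -c) (A : ↥(Cfsg.SU n K q))
    (hA : toM K n q A = T (pv (⟨0, by omega⟩ : Fin n) ⟨1, by omega⟩ 1 a) c) :
    A ∈ commutatorSet ↥(Cfsg.SU n K q) := by
  classical
  obtain ⟨hv0, hv00, hD⟩ := std_vec σ hσ hσ2 hn a ha
  set v0 : Fin n → K := pv (⟨0, by omega⟩ : Fin n) ⟨1, by omega⟩ 1 a with hv0def
  have hlv : l⁻¹ • v0 ≠ 0 := smul_ne_zero (inv_ne_zero hl0) hv0
  have hlvv : h (l⁻¹ • v0) (l⁻¹ • v0) = 0 := by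
    rw [hermForm_smul_left, hermForm_smul_right, hv00, mul_zero, mul_zero]
  obtain ⟨G, hGP, hGd, hGv⟩ := exists_SU_map σ hσ hσ2 hσid v0 hv0 hv00 hD (l⁻¹ • v0) hlv hlvv
  have hGv0 : G *ᵥ v0 = l • v0 := by
    rw [Matrix.mulVec_smul] at hGv
    have := congrArg (fun w => l • w) hGv
    simp only [smul_smul, mul_inv_cancel₀ hl0, one_smul] at this
    exact this
  have hN : l ^ (q + 1) - 1 ≠ 0 := sub_ne_zero.mpr hl
  have hNq : (l ^ (q + 1)) ^ q = l ^ (q + 1) := by
    rw [← hσ, map_pow, hσ, pow_succ, ← hσ, ← hσ, hσ2, pow_succ, ← hσ]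
    ring
  set c' : K := c / (l ^ (q + 1) - 1) with hc'
  have hc'q : c' ^ q = -c' := by
    rw [hc', div_pow, hc, ← hσ (l ^ (q + 1) - 1), map_sub, map_one, hσ, hNq]
    ring
  set B := mkSU G hGd hGP with hB
  set C := mkSU (T v0 c') (det_T v0 c' hv00) (Pres_T σ hσ hσ2 v0 c' hv00 hc'q) with hC
  apply comm_of_rel A B C
  apply toM_injective
  rw [map_mul, map_mul, map_mul, hA, hB, hC, toM_mkSU, toM_mkSU, T_conj G hGP, hGv0, T_smul,
    T_mul σ hσ v0 c c' hv00]
  congr 2
  rw [hc']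
  field_simp
  ring

end cases

theorem T_zero_vec (c : K) : T (0 : Fin n → K) c = 1 := by
  apply mat_ext
  intro x
  rw [unitaryTransvection_mulVec, smul_zero, add_zero, Matrix.one_mulVec]

theorem T_zero_coeff (v : Fin n → K) : T v (0 : K) = 1 := by
  apply mat_ext
  intro x
  rw [unitaryTransvection_mulVec, zero_mul, zero_smul, add_zero, Matrix.one_mulVec]

/-- In SU_n(q) with n ≥ 4, or n = 3 and q > 2, every element whose matrix is a unitary transvection x ↦ x + c h(x, v) v (v isotropic) is a commutator ⁅B, C⁆ of two elements of SU_n(q). -/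
theorem result {F : Type*} [Field F] [Fintype F] {q : ℕ} (hF : Fintype.card F = q ^ 2) (n : ℕ) (hn : 4 ≤ n ∨ (n = 3 ∧ 3 ≤ q)) (A : ↥(Cfsg.SU n F q)) (v : Fin n → F) (c : F) (hv0 : Cfsg.hermForm n F q v v = 0) (hA : ((A : Matrix.SpecialLinearGroup (Fin n) F) : Matrix (Fin n) (Fin n) F) = Cfsg.unitaryTransvection n q v c) : A ∈ commutatorSet ↥(Cfsg.SU n F q) := by
  classical
  obtain ⟨σ, hσ, hσ2⟩ := exists_frob hF
  have hσid := Cfsg.Agent.S0837.frob_ne_id hF σ hσ
  have hn3 : 3 ≤ n := by omega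
  have hq0 : q ≠ 0 := by
    rintro rfl
    have := hσ 0
    simp at this
  have hA' : toM F n q A = Cfsg.unitaryTransvection n q v c := hA
  have hone : (1 : ↥(Cfsg.SU n F q)) ∈ commutatorSet ↥(Cfsg.SU n F q) :=
    mem_commutatorSet_iff.mpr ⟨1, 1, commutatorElement_self 1⟩
  by_cases hv : v = 0
  · have : A = 1 := by
      apply toM_injective
      rw [hA', hv, T_zero_vec, map_one]
    rw [this]; exact hone
  by_cases hc0 : c = 0
  · have : A = 1 := by
      apply toM_injective
      rw [hA', hc0, T_zero_coeff, map_one]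
    rw [this]; exact hone
  have hPT : Pres (q := q) (Cfsg.unitaryTransvection n q v c) := by
    rw [← hA']; exact toM_pres A
  have hc : c ^ q = -c := skew_of_Pres σ hσ hσ2 v c hv hv0 hPT
  obtain ⟨a, ha⟩ := exists_norm_eq σ hσid hσ2 (-1) (neg_ne_zero.mpr one_ne_zero) (by simp)
  have ha' : a ^ (q + 1) = -1 := by
    rw [pow_succ', ← hσ]
    exact ha
  obtain ⟨hw0, hw00, hD⟩ := std_vec σ hσ hσ2 hn3 a ha'
  obtain ⟨G1, hG1P, hG1d, hG1v⟩ := exists_SU_map σ hσ hσ2 hσid _ hw0 hw00 hD v hv hv0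
  set g1 := mkSU G1 hG1d hG1P with hg1
  -- the conjugate
  have hconj : toM F n q (g1 * A * g1⁻¹) =
      Cfsg.unitaryTransvection n q (pv (⟨0, by omega⟩ : Fin n) ⟨1, by omega⟩ 1 a) c := by
    have e1 : toM F n q (g1 * A * g1⁻¹) * toM F n q g1 =
        Cfsg.unitaryTransvection n q (pv (⟨0, by omega⟩ : Fin n) ⟨1, by omega⟩ 1 a) c *
          toM F n q g1 := by
      rw [← map_mul, inv_mul_cancel_right, map_mul, toM_mkSU, hA', T_conj G1 hG1P, hG1v]
    have i1 : toM F n q g1 * toM F n q g1⁻¹ = 1 := by rw [← map_mul, mul_inv_cancel, map_one]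
    have := congrArg (fun X => X * toM F n q g1⁻¹) e1
    simp only [Matrix.mul_assoc, i1, Matrix.mul_one] at this
    exact this
  have hmem : g1 * A * g1⁻¹ ∈ commutatorSet ↥(Cfsg.SU n F q) := by
    rcases hn with hn4 | ⟨-, hq3⟩
    · obtain ⟨θ, hθ⟩ : ∃ θ, σ θ ≠ θ := by
        by_contra hcon
        push Not at hcon
        exact hσid (RingHom.ext hcon)
      exact comm_big σ hσ hσ2 hn4 hq0 θ hθ a ha' c hc _ hconj
    · obtain ⟨ζ, hζ⟩ := IsCyclic.exists_ofOrder_eq_natCard (α := Fˣ)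
      have hcardU : Nat.card Fˣ = q ^ 2 - 1 := by
        rw [Nat.card_eq_fintype_card, Fintype.card_units, hF]
      have hlt : q + 1 < orderOf ζ := by
        rw [hζ, hcardU]
        have : q * 3 ≤ q * q := Nat.mul_le_mul_left q hq3
        have h2 : q ^ 2 = q * q := sq q
        omega
      have hne : ζ ^ (q + 1) ≠ 1 := pow_ne_one_of_lt_orderOf (Nat.succ_ne_zero q) hlt
      refine comm_small σ hσ hσ2 hσid hn3 (ζ : F) (Units.ne_zero ζ) ?_ a ha' c hc _ hconj
      intro h1
      apply hne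
      apply Units.ext
      rw [Units.val_pow_eq_pow_val, h1, Units.val_one]
  rw [mem_commutatorSet_iff] at hmem ⊢
  obtain ⟨B, C, hBC⟩ := hmem
  refine ⟨g1⁻¹ * B * g1, g1⁻¹ * C * g1, ?_⟩
  have : A = g1⁻¹ * (g1 * A * g1⁻¹) * g1 := by group
  rw [this, ← hBC, commutatorElement_def, commutatorElement_def]
  group

end Cfsg.Agent.S0781
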