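import Cfsg.Statements.S2385
import Cfsg.Agent.Helper12.SpCountA
import Cfsg.Agent.Helper12.SpCountD

set_option autoImplicit false
open Cfsg

namespace Cfsg.Agent.S2385

/-- In the symplectic group `Sp_{2n}(q)`, `q` a power of the prime `p`, the number of conjugacy classes of elements of order prime to `p` is `q^n`. -/
theorem result {F : Type*} [Field F] [Fintype F] {q : ℕ} (hq : Fintype.card F = q) (p : ℕ) [Fact p.Prime] [CharP F p] (n : ℕ) :
    Nat.card {c : ConjClasses ↥(Matrix.symplecticGroup (Fin n) F) //
      ∃ g : ↥(Matrix.symplecticGroup (Fin n) F), ConjClasses.mk g = c ∧ (orderOf g).Coprime p} = q ^ n := by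
  classical
  have hfinG : Finite ↥(Matrix.symplecticGroup (Fin n) F) := Subtype.finite
  set S := {c : ConjClasses ↥(Matrix.symplecticGroup (Fin n) F) //
      ∃ g : ↥(Matrix.symplecticGroup (Fin n) F), ConjClasses.mk g = c ∧ (orderOf g).Coprime p}
    with hS
  have hfinS : Finite S := Subtype.finite
  have hcardV : Nat.card (Fin n → F) = q ^ n := by
    rw [Nat.card_fun, Nat.card_fin, Nat.card_eq_fintype_card, hq]
  have hpow : ∀ a : ↥(Matrix.symplecticGroup (Fin n) F),
      (a : Matrix (Fin n ⊕ Fin n) (Fin n ⊕ Fin n) F) ^ orderOf a = 1 := by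
    intro a
    have h1 := pow_orderOf_eq_one a
    have h2 := congrArg (fun x : ↥(Matrix.symplecticGroup (Fin n) F) =>
      (x : Matrix (Fin n ⊕ Fin n) (Fin n ⊕ Fin n) F)) h1
    simpa only [SubmonoidClass.coe_pow, OneMemClass.coe_one] using h2
  -- upper bound
  have hupper : Nat.card S ≤ q ^ n := by
    rw [← hcardV]
    let Ψ : S → (Fin n → F) := fun c i =>
      ((Classical.choose c.2 : ↥(Matrix.symplecticGroup (Fin n) F)) :
        Matrix (Fin n ⊕ Fin n) (Fin n ⊕ Fin n) F).charpoly.coeff ((i : ℕ) + 1)
    apply Nat.card_le_card_of_injective Ψ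
    intro c c' hcc
    have hc := Classical.choose_spec c.2
    have hc' := Classical.choose_spec c'.2
    set g := Classical.choose c.2 with hg
    set g' := Classical.choose c'.2 with hg'
    have hcp : (g : Matrix (Fin n ⊕ Fin n) (Fin n ⊕ Fin n) F).charpoly =
        (g' : Matrix (Fin n ⊕ Fin n) (Fin n ⊕ Fin n) F).charpoly := by
      apply Cfsg.Agent.Helper12.SpCount.eq_of_palindromic (n := n) (Matrix.charpoly_monic _)
        (Matrix.charpoly_monic _) (Cfsg.Agent.Helper12.SpCount.charpoly_natDegree g)
        (Cfsg.Agent.Helper12.SpCount.charpoly_natDegree g')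
        (Cfsg.Agent.Helper12.SpCount.charpoly_reverse g)
        (Cfsg.Agent.Helper12.SpCount.charpoly_reverse g')
      intro i
      exact congrFun hcc i
    have hconj : IsConj g g' :=
      Cfsg.Agent.Helper12.SympConj.sp_isConj_of_semisimple n g g'
        (Cfsg.Agent.Helper12.SympConj.isSemisimple_toLin'_of_pow_eq_one _ (orderOf g)
          (Cfsg.Agent.Helper12.SympConj.natCast_ne_zero_of_coprime p hc.2) (hpow g))
        (Cfsg.Agent.Helper12.SympConj.isSemisimple_toLin'_of_pow_eq_one _ (orderOf g')
          (Cfsg.Agent.Helper12.SympConj.natCast_ne_zero_of_coprime p hc'.2) (hpow g')) hcp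
    apply Subtype.ext
    rw [← hc.1, ← hc'.1]
    exact ConjClasses.mk_eq_mk_iff_isConj.2 hconj
  -- lower bound
  have hlower : q ^ n ≤ Nat.card S := by
    rw [← hcardV]
    by_cases hn : n = 0
    · subst hn
      have : Nat.card (Fin 0 → F) = 1 := by
        rw [Nat.card_fun, Nat.card_fin, pow_zero]
      rw [this]
      have : Nonempty S := ⟨⟨ConjClasses.mk 1, 1, rfl, by rw [orderOf_one]; exact Nat.coprime_one_left p⟩⟩
      exact Nat.card_pos
    · have hn' : 0 < n := Nat.pos_of_ne_zero hn
      have hex : ∀ a : Fin n → F, ∃ s : ↥(Matrix.symplecticGroup (Fin n) F),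
          (orderOf s).Coprime p ∧ Cfsg.Agent.Helper12.SpCount.kap s =
            (Cfsg.Agent.Helper12.polyOf a) ^ 2 := fun a =>
        Cfsg.Agent.Helper12.SpCount.exists_coprime_elt p hn' _
          (Cfsg.Agent.Helper12.polyOf_monic a) (Cfsg.Agent.Helper12.polyOf_natDegree a)
      let Λ : (Fin n → F) → S := fun a =>
        ⟨ConjClasses.mk (Classical.choose (hex a)), Classical.choose (hex a), rfl,
          (Classical.choose_spec (hex a)).1⟩
      apply Nat.card_le_card_of_injective Λ
      intro a a' haa
      have h1 : ConjClasses.mk (Classical.choose (hex a)) =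
          ConjClasses.mk (Classical.choose (hex a')) := congrArg Subtype.val haa
      have h2 := Cfsg.Agent.Helper12.SpCount.kap_eq_of_isConj
        (ConjClasses.mk_eq_mk_iff_isConj.1 h1)
      rw [(Classical.choose_spec (hex a)).2, (Classical.choose_spec (hex a')).2] at h2
      apply Cfsg.Agent.Helper12.polyOf_injective
      rcases sq_eq_sq_iff_eq_or_eq_neg.1 h2 with h3 | h3
      · exact h3
      · have h4 := congrArg Polynomial.leadingCoeff h3
        rw [Polynomial.leadingCoeff_neg, (Cfsg.Agent.Helper12.polyOf_monic a).leadingCoeff,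
          (Cfsg.Agent.Helper12.polyOf_monic a').leadingCoeff] at h4
        have h5 : (-1 : Polynomial F) = 1 := by
          have := congrArg (Polynomial.C : F → Polynomial F) h4
          simpa using this.symm
        rw [h3, neg_eq_neg_one_mul, h5, one_mul]
  exact le_antisymm hupper hlower

end Cfsg.Agent.S2385
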