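import Cfsg.Statements.S1952
import Mathlib
import Cfsg.Agent.Helper1.WreathQuot

set_option autoImplicit false
set_option linter.style.haveILetI false
open Cfsg

namespace Cfsg.Agent.S1952

/-- Let P be a finite p-group with a normal elementary abelian subgroup A of index p, and let x ∈ A and y ∈ P with y outside A. If the product of the p conjugates y^(-i) x y^i (i = 0, …, p−1) is not the identity, then the wreath product Z_p ≀ Z_p, realised as a Sylow p-subgroup of the symmetric group of degree p², is a homomorphic image of P. -/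
theorem result {P : Type*} [Group P] [Finite P] {p : ℕ} [Fact p.Prime] (hP : IsPGroup p P) (A : Subgroup P) [A.Normal]
    (hA : Cfsg.IsElementaryAbelian p A) (hidx : A.index = p) (x y : P) (hx : x ∈ A) (hy : y ∉ A)
    (hprod : ((List.range p).map (fun i => (y ^ i)⁻¹ * x * y ^ i)).prod ≠ 1) :
    ∃ (Q : Sylow p (Equiv.Perm (Fin (p ^ 2)))) (f : P →* ↥(Q : Subgroup (Equiv.Perm (Fin (p ^ 2))))), Function.Surjective f := by
  classical
  have hp : p.Prime := Fact.out
  haveI : NeZero p := ⟨hp.ne_zero⟩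
  obtain ⟨hAc, hAexp⟩ := hA
  have hcommP : ∀ u ∈ A, ∀ v ∈ A, u * v = v * u := fun u hu v hv =>
    congrArg Subtype.val (hAc.is_comm.comm (⟨u, hu⟩ : A) ⟨v, hv⟩)
  letI instC : CommGroup A :=
    { (inferInstance : Group A) with mul_comm := fun a b => hAc.is_comm.comm a b }
  have hexp : ∀ a : A, a ^ p = 1 := fun a => Subtype.ext (by simpa using hAexp a a.2)
  -- the automorphism
  let σ : A ≃* A := MulAut.conjNormal y⁻¹
  have hσapp : ∀ (n : ℕ) (a : A), (((σ ^ n) a : A) : P) = (y ^ n)⁻¹ * a * y ^ n := by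
    intro n a
    have : σ ^ n = MulAut.conjNormal ((y⁻¹) ^ n) := (map_pow MulAut.conjNormal y⁻¹ n).symm
    rw [this, MulAut.conjNormal_apply, inv_pow, inv_inv]
  have hσp : σ ^ p = 1 := by
    ext a
    rw [hσapp, MulAut.one_apply]
    have hyp : y ^ p ∈ A := hidx ▸ A.pow_index_mem y
    rw [hcommP _ (A.inv_mem hyp) _ a.2]
    group
  -- the norm
  set xA : A := ⟨x, hx⟩ with hxA
  have hnorm : ((∏ i : ZMod p, Cfsg.Agent.Helper1.WreathQuot.xs σ xA i : A) : P)
      = ((List.range p).map (fun i => (y ^ i)⁻¹ * x * y ^ i)).prod := by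
    have h1 : (∏ i : ZMod p, Cfsg.Agent.Helper1.WreathQuot.xs σ xA i)
        = ∏ k ∈ Finset.range p, (σ ^ k) xA := by
      apply Finset.prod_bij (fun i _ => i.val)
      · intro i _; exact Finset.mem_range.mpr (ZMod.val_lt i)
      · intro i _ j _ h; exact ZMod.val_injective p h
      · intro k hk
        exact ⟨(k : ZMod p), Finset.mem_univ _, ZMod.val_natCast_of_lt (Finset.mem_range.mp hk)⟩
      · intro i _; rfl
    have h2 : ∏ k ∈ Finset.range p, (σ ^ k) xA = ((List.range p).map (fun k => (σ ^ k) xA)).prod := by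
      rw [Finset.prod, Finset.range_val, Multiset.range, Multiset.map_coe, Multiset.prod_coe]
    rw [h1, h2, SubmonoidClass.coe_list_prod, List.map_map]
    congr 1
    apply List.map_congr_left
    intro k _
    simp only [Function.comp_apply]
    rw [hσapp]
  have hz1 : (∏ i : ZMod p, Cfsg.Agent.Helper1.WreathQuot.xs σ xA i) ≠ 1 := by
    intro h
    apply hprod
    rw [← hnorm, h]
    rfl
  obtain ⟨H, hzH, hHi⟩ := Cfsg.Agent.Helper1.WreathQuot.exists_index_p_not_mem hexp _ hz1
  set H' : Subgroup P := H.map A.subtype with hH'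
  have hH'i : H'.index = p * p := by rw [hH', Subgroup.index_map_subtype, hHi, hidx]
  set Kc : Subgroup P := H'.normalCore with hKc
  have hKcH' : Kc ≤ H' := Subgroup.normalCore_le H'
  have hKcA : Kc ≤ A := hKcH'.trans (Subgroup.map_subtype_le H)
  have hcount : p ^ p ≤ (Kc.subgroupOf A).index := by
    apply Cfsg.Agent.Helper1.WreathQuot.pow_le_index hexp σ hσp xA H (Kc.subgroupOf A) _ _ hzH
    · intro a ha
      rw [Subgroup.mem_subgroupOf] at ha
      obtain ⟨b, hb, hba⟩ := hKcH' ha
      have : a = b := Subtype.ext hba.symm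
      rw [this]; exact hb
    · intro a ha
      rw [Subgroup.mem_subgroupOf] at ha ⊢
      rw [MulAut.conjNormal_apply]
      exact (inferInstance : Kc.Normal).conj_mem _ ha _
  have hKidx : p ^ (p + 1) ≤ Kc.index := by
    have h1 := Subgroup.relIndex_mul_index hKcA
    have h2 : (Kc.subgroupOf A).index = Kc.relIndex A := rfl
    rw [← h1, ← h2, hidx, pow_succ]
    exact Nat.mul_le_mul_right _ hcount
  -- the permutation representation
  let f₀ : P →* Equiv.Perm (P ⧸ H') := MulAction.toPermHom P (P ⧸ H')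
  have hker : f₀.ker = Kc := (Subgroup.normalCore_eq_ker H').symm
  have hcardQ : Nat.card (P ⧸ H') = p ^ 2 := by rw [← Subgroup.index_eq_card, hH'i, pow_two]
  let e : (P ⧸ H') ≃ Fin (p ^ 2) := Finite.equivFinOfCardEq hcardQ
  let g₀ : P →* Equiv.Perm (Fin (p ^ 2)) := (e.permCongrHom).toMonoidHom.comp f₀
  have hkerg : g₀.ker = Kc := by
    rw [← hker]
    ext a
    rw [MonoidHom.mem_ker, MonoidHom.mem_ker]
    show (e.permCongrHom) (f₀ a) = 1 ↔ f₀ a = 1
    rw [← map_one e.permCongrHom]
    exact e.permCongrHom.injective.eq_iff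
  have hrange : Nat.card g₀.range = Kc.index := by rw [← hkerg, Subgroup.index_ker]
  have hpg : IsPGroup p g₀.range :=
    hP.of_surjective g₀.rangeRestrict g₀.rangeRestrict_surjective
  obtain ⟨Q, hQ⟩ := hpg.exists_le_sylow
  have hQcard : Nat.card Q = p ^ (p + 1) := by
    rw [Sylow.card_eq_multiplicity, Nat.card_eq_fintype_card, Fintype.card_perm, Fintype.card_fin]
    congr 1
    rw [pow_two, Nat.factorization_factorial_mul hp]
    have h1 : (p.factorial).factorization p = 1 := by
      have := Nat.factorization_factorial_mul (n := 1) hp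
      rw [mul_one] at this
      rw [this]; simp
    rw [h1, add_comm]
  have heq : g₀.range = Q :=
    Subgroup.eq_of_le_of_card_ge hQ (by rw [hQcard, hrange]; exact hKidx)
  refine ⟨Q, g₀.codRestrict (Q : Subgroup _) (fun a => hQ (MonoidHom.mem_range.mpr ⟨a, rfl⟩)), ?_⟩
  rintro ⟨q, hq⟩
  have hq' : q ∈ g₀.range := heq ▸ hq
  obtain ⟨a, rfl⟩ := hq'
  exact ⟨a, rfl⟩

end Cfsg.Agent.S1952
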