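import Mathlib
import Cfsg.Statements.S1027
import Cfsg.Agent.Helper6.Chev.UProdMain

set_option autoImplicit false
open Cfsg

namespace Cfsg.Agent.S1027

open Cfsg.Lie Cfsg.Agent.Helper6

/-- `|U| = q^N`, `N` the number of positive roots. -/
theorem result {F : Type*} [Field F] [Fintype F] (D : Cfsg.Lie.ChevalleyDatum) (hD : D ∈ [Cfsg.Lie.chevG2, Cfsg.Lie.chevB2, Cfsg.Lie.chevD4, Cfsg.Lie.chevF4, Cfsg.Lie.chevE6, Cfsg.Lie.chevE7, Cfsg.Lie.chevE8]) :
    Nat.card (D.posUnipotent F) = Fintype.card F ^ (D.nroots / 2) := by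
  classical
  have hB := basicOK_of_tabulated hD
  have hO := ordOK_of_tabulated hD
  obtain ⟨hex, huniq, hmem⟩ := uprod_of_tabulated (F := F) hD
  have heven := hO.even
  set N := D.nroots / 2 with hN
  -- extension of a parameter vector to a function on all indices
  let ext : (Fin N → F) → ℕ → F := fun t r => if h : N ≤ r ∧ r < N + N then t ⟨r - N, by omega⟩ else 0
  let Φ : (Fin N → F) → D.posUnipotent F := fun t =>
    ⟨wordU hB ((List.range' N N).map fun r => (r, ext t r)), hmem (ext t)⟩
  have hinj : Function.Injective Φ := by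
    intro t t' h
    have h' := congrArg Subtype.val h
    have := huniq (ext t) (ext t') h'
    funext i
    have hi := this (N + i.val) (by omega) (by have := i.isLt; omega)
    simp only [ext] at hi
    rw [dif_pos ⟨by omega, by have := i.isLt; omega⟩, dif_pos ⟨by omega, by have := i.isLt; omega⟩] at hi
    have e : (⟨N + i.val - N, by have := i.isLt; omega⟩ : Fin N) = i := Fin.ext (by simp)
    rwa [e] at hi
  have hsurj : Function.Surjective Φ := by
    rintro ⟨g, hg⟩
    obtain ⟨t, ht⟩ := hex g hg
    refine ⟨fun i => t (N + i.val), ?_⟩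
    apply Subtype.ext
    simp only [Φ]
    rw [ht]
    congr 1
    apply List.map_congr_left
    intro r hr
    rw [List.mem_range'_1] at hr
    simp only [ext]
    rw [dif_pos ⟨hr.1, hr.2⟩]
    congr 2
    omega
  rw [← Nat.card_congr (Equiv.ofBijective Φ ⟨hinj, hsurj⟩), Nat.card_eq_fintype_card,
    Fintype.card_fun, Fintype.card_fin]

end Cfsg.Agent.S1027
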