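import Mathlib
import Cfsg.Statements.S1036
import Cfsg.Agent.Helper6.Chev.Borel
import Cfsg.Agent.Helper6.Chev.TablesReach
import Cfsg.Agent.Helper6.Chev.TablesAddC

set_option autoImplicit false
open Cfsg

namespace Cfsg.Agent.S1036

open Cfsg.Lie Cfsg.Agent.Helper6

/-- `H` normalises `U` and `U ∩ H = 1`; thus `B = UH` is the semidirect product of `U` by `H`. -/
theorem result {F : Type*} [Field F] (D : Cfsg.Lie.ChevalleyDatum) (hD : D ∈ [Cfsg.Lie.chevG2, Cfsg.Lie.chevB2, Cfsg.Lie.chevD4, Cfsg.Lie.chevF4, Cfsg.Lie.chevE6, Cfsg.Lie.chevE7, Cfsg.Lie.chevE8]) :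
    D.diagonalSubgroup F ≤ Subgroup.normalizer (D.posUnipotent F : Set (GL D.Idx F)) ∧
      D.posUnipotent F ⊓ D.diagonalSubgroup F = ⊥ := by
  have hB := basicOK_of_tabulated hD
  have hAll : ∀ i < D.rank, SimpleAll D i := fun i hi => simpleAll_of_tabulated hD hi
  have hAdd : ∀ i < D.rank, AddOK D i := fun i hi => addOK_of_tabulated hD hi
  have hH : ∀ r < D.nroots, HDiag D F r (aOf D r) := fun r hr => hDiag_of_tabulated hD hr
  exact ⟨diagonal_le_normalizer_posUnipotent hB hAll hAdd hH,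
    posUnipotent_inf_diagonal hB hH (Chev.good_of_mem hD)⟩

end Cfsg.Agent.S1036
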