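import Mathlib
import Cfsg.Statements.S1035
import Cfsg.Agent.Helper6.Chev.TablesTorus
import Cfsg.Agent.Helper6.Chev.TablesReach
import Cfsg.Agent.Helper6.Chev.TablesConj

set_option autoImplicit false
open Cfsg

namespace Cfsg.Agent.S1035

open Cfsg.Lie Cfsg.Agent.Helper6

theorem key {F : Type*} [Field F] [Fintype F] {D : ChevalleyDatum} (hD : IsTabulated D) :
    Nat.card (powHom Fˣ (cartanMat D)).ker * Nat.card (D.diagonalSubgroup F) =
      (Fintype.card F - 1) ^ D.rank :=
  card_ker_mul_card_diagonal (basicOK_of_tabulated hD) (fun i hi => simpleAll_of_tabulated hD hi)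
    (fun r hr => hDiag_of_tabulated hD hr) (fun r hr => reach_of_tabulated hD hr)

/-- `d · |H| = (q - 1)^rank` over a field with `q` elements, with `d = 1` (G₂, F₄, E₈), `gcd(3, q-1)` (E₆), `gcd(2, q-1)` (E₇, B₂), `gcd(2, q-1)²` (D₄). -/
theorem result {F : Type*} [Field F] [Fintype F] {q : ℕ} (hq : Fintype.card F = q)
    (p : Cfsg.Lie.ChevalleyDatum × ℕ)
    (hp : p ∈ [(Cfsg.Lie.chevG2, 1), (Cfsg.Lie.chevF4, 1), (Cfsg.Lie.chevE8, 1), (Cfsg.Lie.chevE6, Nat.gcd 3 (q - 1)),
      (Cfsg.Lie.chevE7, Nat.gcd 2 (q - 1)), (Cfsg.Lie.chevB2, Nat.gcd 2 (q - 1)), (Cfsg.Lie.chevD4, Nat.gcd 2 (q - 1) ^ 2)]) :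
    p.2 * Nat.card (p.1.diagonalSubgroup F) = (q - 1) ^ p.1.rank := by
  have hcard : Nat.card Fˣ = q - 1 := by
    rw [Nat.card_units, Nat.card_eq_fintype_card, hq]
  simp only [List.mem_cons, List.not_mem_nil, or_false] at hp
  rcases hp with rfl | rfl | rfl | rfl | rfl | rfl | rfl
  · have h := key (F := F) (D := chevG2) (by simp [IsTabulated])
    rw [card_ker_G2, hq] at h
    simpa [Fin.prod_univ_succ] using h
  · have h := key (F := F) (D := chevF4) (by simp [IsTabulated])
    rw [card_ker_F4, hq] at h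
    simpa [Fin.prod_univ_succ] using h
  · have h := key (F := F) (D := chevE8) (by simp [IsTabulated])
    rw [card_ker_E8, hq] at h
    simpa [Fin.prod_univ_succ] using h
  · have h := key (F := F) (D := chevE6) (by simp [IsTabulated])
    rw [card_ker_E6, hq, hcard] at h
    simpa [Fin.prod_univ_succ, Nat.gcd_comm] using h
  · have h := key (F := F) (D := chevE7) (by simp [IsTabulated])
    rw [card_ker_E7, hq, hcard] at h
    simpa [Fin.prod_univ_succ, Nat.gcd_comm] using h
  · have h := key (F := F) (D := chevB2) (by simp [IsTabulated])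
    rw [card_ker_B2, hq, hcard] at h
    simpa [Fin.prod_univ_succ, Nat.gcd_comm] using h
  · have h := key (F := F) (D := chevD4) (by simp [IsTabulated])
    rw [card_ker_D4, hq, hcard] at h
    simpa [Fin.prod_univ_succ, Nat.gcd_comm, sq] using h

end Cfsg.Agent.S1035
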