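import Cfsg.Statements.S0780
import Mathlib
import Cfsg.Agent.Helper2.SU.Main

set_option autoImplicit false
open Cfsg

namespace Cfsg.Agent.S0780

/-- Generation of SU_n(q), n ≥ 3, (n, q) ≠ (3, 2), by unitary transvections: the subgroup generated by the elements whose matrix is x ↦ x + c h(x, v) v with v isotropic is all of SU_n(q). -/
theorem result {F : Type*} [Field F] [Fintype F] {q : ℕ} (hF : Fintype.card F = q ^ 2) (n : ℕ) (hn : 3 ≤ n) (h32 : ¬ (n = 3 ∧ q = 2)) : Subgroup.closure {A : ↥(Cfsg.SU n F q) | ∃ (v : Fin n → F) (c : F), Cfsg.hermForm n F q v v = 0 ∧ ((A : Matrix.SpecialLinearGroup (Fin n) F) : Matrix (Fin n) (Fin n) F) = Cfsg.unitaryTransvection n q v c} = ⊤ := by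
  classical
  obtain ⟨σ, hσ, hσ2⟩ := Cfsg.Agent.Helper28.exists_frob hF
  have hσid := Cfsg.Agent.S0837.frob_ne_id hF σ hσ
  let D : Cfsg.Agent.Helper2.SUGen.Frob F q := ⟨σ, hσ, hσ2, hσid⟩
  rw [eq_top_iff]
  intro g _
  have hM := Cfsg.Agent.Helper2.SUGen.SU_le_TT D hF hn h32 (Cfsg.Agent.S2644.toM_pres g) g.1.2
  have key : ∀ M ∈ Cfsg.Agent.Helper2.SUGen.TT D (⊤ : Submodule F (Fin n → F)),
      ∃ g' : ↥(Cfsg.SU n F q), Cfsg.Agent.S2644.toM F n q g' = M ∧
        g' ∈ Subgroup.closure {A : ↥(Cfsg.SU n F q) | ∃ (v : Fin n → F) (c : F), Cfsg.hermForm n F q v v = 0 ∧ ((A : Matrix.SpecialLinearGroup (Fin n) F) : Matrix (Fin n) (Fin n) F) = Cfsg.unitaryTransvection n q v c} := by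
    intro M hM
    induction hM using Submonoid.closure_induction with
    | mem M hM =>
      obtain ⟨x, c, -, hxx, hc, rfl⟩ := hM
      refine ⟨Cfsg.Agent.S2644.mkSU (Cfsg.unitaryTransvection n q x c) (Cfsg.Agent.S0781.det_T x c hxx)
        (Cfsg.Agent.S0781.Pres_T σ hσ hσ2 x c hxx (by rw [← hσ]; exact hc)), rfl,
        Subgroup.subset_closure ⟨x, c, hxx, rfl⟩⟩
    | one => exact ⟨1, map_one _, Subgroup.one_mem _⟩
    | mul A B _ _ hA hB =>
      obtain ⟨a, rfl, ha⟩ := hA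
      obtain ⟨b, rfl, hb⟩ := hB
      exact ⟨a * b, map_mul _ _ _, Subgroup.mul_mem _ ha hb⟩
  obtain ⟨g', hg', hmem⟩ := key _ hM
  rw [← Cfsg.Agent.S2644.toM_injective hg']
  exact hmem

end Cfsg.Agent.S0780
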