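import Mathlib
import Cfsg.Statements.S1067
import Cfsg.Agent.Helper6.Chev.TwOrderMain
import Cfsg.Agent.S1106

set_option autoImplicit false
open Cfsg

namespace Cfsg.Agent.S1067

open Cfsg.Lie Cfsg.Agent.Helper6

/-- `|³D₄(q)| = q¹² (q² - 1)(q⁶ - 1)(q⁸ + q⁴ + 1)`, the group being realised inside D₄ over the field with `q³` elements. -/
theorem result {K : Type*} [Field K] [Fintype K] {q : ℕ} (hq : IsPrimePow q) (hK : Fintype.card K = q ^ 3) :
    Nat.card ↥(Cfsg.Lie.twistedD4 K q) = q ^ 12 * (q ^ 2 - 1) * (q ^ 6 - 1) * (q ^ 8 + q ^ 4 + 1) := by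
  have hH := Cfsg.Agent.S1106.result hq hK
  have hq1 : 1 ≤ q := hq.one_lt.le
  have hpoly := poly_identity_tw q hq1 2 [[1, 1, 1]] [[1, 0, 0, 0, 1, 0, 0, 0, 1]]
    [tX_3D4_1, tX_3D4_0] [2, 6] poly_3D4
  rw [card_twistedD4 hq hK]
  generalize (([tX_3D4_1, tX_3D4_0] : List (List (List ℕ))).map fun X =>
        (X.map fun x => q ^ x.length).sum).prod = P at hpoly ⊢
  simp only [List.map_cons, List.map_nil, List.prod_cons, List.prod_nil, plEvalN] at hpoly
  calc q ^ 12 * (P * Nat.card ↥(chevD4.diagonalSubgroup K ⊓ twistedD4 K q))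
      = q ^ 12 * ((q - 1) ^ 2 * ((1 + q * (1 + q * (1 + q * 0))) * 1) * P) := by
        rw [hH]; ring
    _ = _ := by rw [hpoly]; ring

end Cfsg.Agent.S1067
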