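import Mathlib
import Cfsg.Statements.S0836

set_option autoImplicit false
open Cfsg

namespace Cfsg.Agent.S0836

open Matrix

theorem mem_commutatorSet_of_mul_eq {G : Type*} [Group G] (t g₁ g₂ : G)
    (h : t * g₂ * g₁ = g₁ * g₂) : t ∈ commutatorSet G := by
  refine ⟨g₁, g₂, ?_⟩
  rw [commutatorElement_def, ← h]
  group

theorem three_case {F : Type*} [Field F] (n : ℕ) (i j k : Fin n) (hij : i ≠ j) (_hik : i ≠ k)
    (hjk : j ≠ k) (c : F) :
    Matrix.transvection i j c * Matrix.transvection k j (1 : F) * Matrix.transvection i k c =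
      Matrix.transvection i k c * Matrix.transvection k j (1 : F) := by
  simp only [Matrix.transvection, Matrix.mul_add, Matrix.add_mul, Matrix.one_mul,
    Matrix.single_mul_single_of_ne _ _ _ _ hjk,
    Matrix.single_mul_single_of_ne _ _ _ _ hij.symm,
    Matrix.single_mul_single_same, add_zero, mul_one]
  abel

/-- For i ≠ j and any scalar c, the elementary transvection 1 + c E_ij is a commutator ⁅g, h⁆ of two elements of SL_n(F) provided n ≥ 3, or n = 2 and F contains x ≠ 0 with x² ≠ 1. -/
theorem result {F : Type*} [Field F] (n : ℕ) (hn : 3 ≤ n ∨ (n = 2 ∧ ∃ x : F, x ≠ 0 ∧ x ^ 2 ≠ 1)) (i j : Fin n) (hij : i ≠ j) (c : F) (t : Matrix.SpecialLinearGroup (Fin n) F) (ht : (t : Matrix (Fin n) (Fin n) F) = Matrix.transvection i j c) : t ∈ commutatorSet (Matrix.SpecialLinearGroup (Fin n) F) := by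
  rcases hn with hn | ⟨rfl, x, hx0, hx1⟩
  · -- pick k different from i and j
    obtain ⟨k, hki, hkj⟩ : ∃ k : Fin n, k ≠ i ∧ k ≠ j := by
      by_contra hcon
      push Not at hcon
      have : (Finset.univ : Finset (Fin n)) ⊆ {i, j} := by
        intro k _
        by_cases hk : k = i
        · simp [hk]
        · simp [hcon k hk]
      have := Finset.card_le_card this
      have h2 : ({i, j} : Finset (Fin n)).card ≤ 2 := Finset.card_le_two
      simp at this
      omega
    let g₁ : Matrix.SpecialLinearGroup (Fin n) F :=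
      ⟨Matrix.transvection i k c, Matrix.det_transvection_of_ne _ _ hki.symm c⟩
    let g₂ : Matrix.SpecialLinearGroup (Fin n) F :=
      ⟨Matrix.transvection k j 1, Matrix.det_transvection_of_ne _ _ hkj 1⟩
    apply mem_commutatorSet_of_mul_eq t g₁ g₂
    apply Subtype.ext
    simp only [Matrix.SpecialLinearGroup.coe_mul, ht]
    exact three_case n i j k hij hki.symm hkj.symm c
  · have hx1' : x ^ 2 - 1 ≠ 0 := sub_ne_zero.mpr hx1
    set b : F := c / (x ^ 2 - 1) with hb
    have hbc : c = (x ^ 2 - 1) * b := by rw [hb]; field_simp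
    -- two cases
    have hcases : (i = 0 ∧ j = 1) ∨ (i = 1 ∧ j = 0) := by
      fin_cases i <;> fin_cases j <;> simp_all
    rcases hcases with ⟨rfl, rfl⟩ | ⟨rfl, rfl⟩
    · let g₁ : Matrix.SpecialLinearGroup (Fin 2) F :=
        ⟨!![x, 0; 0, x⁻¹], by rw [Matrix.det_fin_two_of]; simp [hx0]⟩
      let g₂ : Matrix.SpecialLinearGroup (Fin 2) F :=
        ⟨!![1, b; 0, 1], by rw [Matrix.det_fin_two_of]; ring⟩
      apply mem_commutatorSet_of_mul_eq t g₁ g₂
      apply Subtype.ext
      simp only [Matrix.SpecialLinearGroup.coe_mul, ht]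
      have : Matrix.transvection (0 : Fin 2) 1 c = !![1, c; 0, 1] := by
        ext a d
        fin_cases a <;> fin_cases d <;> simp [Matrix.transvection, Matrix.single]
      rw [this]
      show !![1, c; 0, 1] * !![1, b; 0, 1] * !![x, 0; 0, x⁻¹] = !![x, 0; 0, x⁻¹] * !![1, b; 0, 1]
      rw [Matrix.mul_fin_two, Matrix.mul_fin_two, Matrix.mul_fin_two]
      congr 1
      ext a d
      fin_cases a <;> fin_cases d <;> simp <;> (try field_simp) <;> (try rw [hbc]) <;> ring
    · let g₁ : Matrix.SpecialLinearGroup (Fin 2) F :=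
        ⟨!![x⁻¹, 0; 0, x], by rw [Matrix.det_fin_two_of]; simp [hx0]⟩
      let g₂ : Matrix.SpecialLinearGroup (Fin 2) F :=
        ⟨!![1, 0; b, 1], by rw [Matrix.det_fin_two_of]; ring⟩
      apply mem_commutatorSet_of_mul_eq t g₁ g₂
      apply Subtype.ext
      simp only [Matrix.SpecialLinearGroup.coe_mul, ht]
      have : Matrix.transvection (1 : Fin 2) 0 c = !![1, 0; c, 1] := by
        ext a d
        fin_cases a <;> fin_cases d <;> simp [Matrix.transvection, Matrix.single]
      rw [this]
      show !![1, 0; c, 1] * !![1, 0; b, 1] * !![x⁻¹, 0; 0, x] = !![x⁻¹, 0; 0, x] * !![1, 0; b, 1]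
      rw [Matrix.mul_fin_two, Matrix.mul_fin_two, Matrix.mul_fin_two]
      congr 1
      ext a d
      fin_cases a <;> fin_cases d <;> simp <;> (try field_simp) <;> (try rw [hbc]) <;> ring

end Cfsg.Agent.S0836
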