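import Cfsg.Statements.S0265
import Cfsg.Agent.Helper2.SLCard

set_option autoImplicit false
open Cfsg

namespace Cfsg.Agent.S0265

open Cfsg.Agent.Helper2 Matrix

/-- |PGL_n(q)| = |SL_n(q)|: GL_n modulo its centre (the q-1 non-zero scalars) has the same order as the kernel of det. -/
theorem result {F : Type*} [Field F] [Fintype F] (n : ℕ) : Nat.card (Matrix.ProjGenLinGroup (Fin n) F) = Nat.card (Matrix.SpecialLinearGroup (Fin n) F) := by
  rcases Nat.eq_zero_or_pos n with rfl | hn
  · have h1 : Subsingleton (GL (Fin 0) F) := inferInstance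
    have h2 : Subsingleton (Matrix.ProjGenLinGroup (Fin 0) F) :=
      (QuotientGroup.mk_surjective (s := Subgroup.center (GL (Fin 0) F))).subsingleton
    rw [Nat.card_of_subsingleton (1 : Matrix.ProjGenLinGroup (Fin 0) F),
      Nat.card_of_subsingleton (1 : SpecialLinearGroup (Fin 0) F)]
  · have : Nonempty (Fin n) := ⟨⟨0, hn⟩⟩
    have h1 := card_SL_mul_card_units (ι := Fin n) (F := F)
    have h2 := Subgroup.card_eq_card_quotient_mul_card_subgroup (Subgroup.center (GL (Fin n) F))
    have h3 : Nat.card (Subgroup.center (GL (Fin n) F)) = Nat.card Fˣ := by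
      rw [GeneralLinearGroup.center_eq_range_scalar]
      have hinj : Function.Injective (GeneralLinearGroup.scalar (Fin n) : Fˣ →* GL (Fin n) F) := by
        intro a b hab
        have := congrArg (fun g : GL (Fin n) F => (g : Matrix (Fin n) (Fin n) F)) hab
        simp only [GeneralLinearGroup.coe_scalar] at this
        exact Units.ext (Matrix.scalar_inj.mp this)
      exact (Nat.card_congr (MonoidHom.ofInjective hinj).toEquiv).symm
    rw [h3, ← h1] at h2
    have hpos : 0 < Nat.card Fˣ := Nat.card_pos
    exact (Nat.eq_of_mul_eq_mul_right hpos h2).symm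

end Cfsg.Agent.S0265
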