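import Cfsg.Statements.S1230
-- import your own Cfsg.Agent.* helpers here
import Cfsg.Agent.Helper11.CITD
import Cfsg.Agent.S0727

set_option autoImplicit false
open Cfsg

namespace Cfsg.Agent.S1230

/-- Let G be a finite group with a Sylow 2-subgroup T that is neither cyclic nor normal, such that the centralizer of every involution is an elementary abelian 2-group. Then G ≅ PSL(2,F) for a finite field F with |F| = |T|. -/
theorem result {G : Type*} [Group G] [Finite G] (T : Sylow 2 G) (hnc : ¬ IsCyclic (T : Subgroup G)) (hnn : ¬ (T : Subgroup G).Normal) (hC : ∀ t : G, orderOf t = 2 → IsMulCommutative (Subgroup.centralizer ({t} : Set G)) ∧ ∀ c ∈ Subgroup.centralizer ({t} : Set G), c ^ 2 = 1) : ∃ (F : Type) (_ : Field F) (_ : Fintype F), Fintype.card F = Nat.card T ∧ Nonempty (G ≃* Matrix.ProjectiveSpecialLinearGroup (Fin 2) F) := by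
  classical
  have : Fintype G := Fintype.ofFinite G
  have : Fintype (Sylow 2 G) := Fintype.ofFinite _
  have hyp : Cfsg.Agent.Helper11.CIT.Hyp G := by
    intro t c ht hc
    refine (hC t ht).2 c ?_
    rw [Subgroup.mem_centralizer_iff]
    intro y hy
    rw [Set.mem_singleton_iff] at hy
    subst hy
    exact hc.eq.symm
  obtain ⟨k, hk⟩ := IsPGroup.iff_card.mp T.2
  have hk2 : 2 ≤ k := by
    by_contra hlt
    rw [not_le] at hlt
    apply hnc
    interval_cases k
    · rw [pow_zero] at hk
      have : Subsingleton ↥(T : Subgroup G) := (Nat.card_eq_one_iff_unique.mp hk).1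
      exact isCyclic_of_subsingleton
    · rw [pow_one] at hk
      have : Fact (Nat.Prime 2) := ⟨Nat.prime_two⟩
      exact isCyclic_of_prime_card hk
  have hcard : ∀ P : Sylow 2 G, Nat.card P = 2 ^ k := by
    intro P
    rw [← hk, Sylow.card_eq_multiplicity, Sylow.card_eq_multiplicity]
  have hq4 : 4 ≤ 2 ^ k := by
    calc 4 = 2 ^ 2 := by norm_num
      _ ≤ 2 ^ k := Nat.pow_le_pow_right (by norm_num) hk2
  have D : Cfsg.Agent.Helper11.CIT.Data G (2 ^ k) :=
    ⟨hyp, hcard, hq4, (Nat.even_pow' (by omega)).mpr even_two⟩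
  -- a second Sylow subgroup
  obtain ⟨β, hβ⟩ : ∃ β : Sylow 2 G, T ≠ β := by
    by_contra hcon
    rw [not_exists] at hcon
    apply hnn
    have hsub : Subsingleton (Sylow 2 G) := ⟨fun a b => by
      have h1 := not_not.mp (hcon a)
      have h2 := not_not.mp (hcon b)
      rw [← h1, ← h2]⟩
    exact Sylow.normal_of_subsingleton T
  have hn := Cfsg.Agent.Helper11.CIT.card_sylow_eq D hβ
  -- the permutation representation
  set φ : G →* Equiv.Perm (Sylow 2 G) := MulAction.toPermHom G (Sylow 2 G) with hφ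
  have hφapp : ∀ (g : G) (P : Sylow 2 G), φ g P = g • P := fun g P => rfl
  obtain ⟨x₀⟩ : Nonempty (Fin 3 ↪ Sylow 2 G) := by
    apply Function.Embedding.nonempty_of_card_le
    rw [Fintype.card_fin, hn]
    omega
  have hinj : Function.Injective φ := by
    rw [injective_iff_map_eq_one]
    intro g hg
    refine Cfsg.Agent.Helper11.CIT.eq_one_of_fix D x₀ (fun i => ?_)
    rw [← hφapp, hg]
    rfl
  have h3 : MulAction.IsMultiplyPretransitive φ.range (Sylow 2 G) 3 := by
    rw [MulAction.isMultiplyPretransitive_iff]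
    intro x y
    obtain ⟨g, hg⟩ := Cfsg.Agent.Helper11.CIT.exists_smul_eq D hβ x y
    refine ⟨⟨φ g, MonoidHom.mem_range.mpr ⟨g, rfl⟩⟩, ?_⟩
    exact DFunLike.ext _ _ (fun i => hg i)
  have hsharp : ∀ x : Fin 3 ↪ Sylow 2 G, MulAction.stabilizer φ.range x = ⊥ := by
    intro x
    rw [eq_bot_iff]
    rintro ⟨g', hg'⟩ hstab
    obtain ⟨g, rfl⟩ := MonoidHom.mem_range.mp hg'
    rw [MulAction.mem_stabilizer_iff] at hstab
    have hg1 : g = 1 := by
      refine Cfsg.Agent.Helper11.CIT.eq_one_of_fix D x (fun i => ?_)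
      have := congrArg (fun e : Fin 3 ↪ Sylow 2 G => e i) hstab
      exact this
    rw [Subgroup.mem_bot]
    apply Subtype.ext
    show φ g = 1
    rw [hg1, map_one]
  obtain ⟨F, instF, instFin, hFcard, ⟨e⟩⟩ :=
    Cfsg.Agent.S0727.result (α := Sylow 2 G) (f := k) (by omega) hn φ.range h3 hsharp
  have hchar : ringChar F = 2 := by
    have h2 : (2 : F) = 0 := by
      have h1 : ((Fintype.card F : ℕ) : F) = 0 := Nat.cast_card_eq_zero F
      rw [hFcard] at h1
      push_cast at h1
      exact (pow_eq_zero_iff (by omega)).mp h1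
    have : CharP F 2 := CharTwo.of_one_ne_zero_of_two_eq_zero one_ne_zero h2
    exact ringChar.eq F 2
  obtain ⟨e2⟩ := Cfsg.Agent.Helper11.CIT.nonempty_pgl_equiv_psl hchar
  refine ⟨F, instF, instFin, ?_, ⟨((MonoidHom.ofInjective hinj).trans e).trans e2⟩⟩
  rw [hFcard, hk]

end Cfsg.Agent.S1230
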