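import Mathlib
import Cfsg.Statements.S0742
import Cfsg.Agent.Helper3.ZassPSLd
import Cfsg.Agent.Helper3.ZassPSLe
import Cfsg.Agent.Helper4.RecogPSL2
import Cfsg.Agent.Helper5.Zassenhaus2

set_option autoImplicit false
set_option linter.style.haveILetI false
open Cfsg

namespace Cfsg.Agent.S0742

/-- A finite Zassenhaus group of degree `n + 1` with two-point stabilisers of even order `d` satisfying `2d ≤ n - 1` has `n = p^f` for an odd prime `p` and is isomorphic to `PSL(2, p^f)`. -/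
theorem result {G Ω : Type*} [Group G] [Finite G] [MulAction G Ω] [Fintype Ω] (hZ : Cfsg.IsZassenhausGroup G Ω) {a b : Ω} (hab : a ≠ b) (heven : Even (Nat.card ↥(MulAction.stabilizer G a ⊓ MulAction.stabilizer G b))) (hd : 2 * Nat.card ↥(MulAction.stabilizer G a ⊓ MulAction.stabilizer G b) ≤ Fintype.card Ω - 2) : ∃ (p f : ℕ) (K : Type) (_ : Field K) (_ : Fintype K), p.Prime ∧ p ≠ 2 ∧ Fintype.card K = p ^ f ∧ Fintype.card Ω = p ^ f + 1 ∧ Nonempty (G ≃* Matrix.ProjectiveSpecialLinearGroup (Fin 2) K) := by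
  classical
  obtain ⟨p, f, K, fK, ftK, j, hp, hp2, hKp, hΩ, hKd, hjinj, hja, hjcov, hj0, h2K, hm1, hA, hA',
    hB⟩ := Cfsg.Agent.Helper3.ZassPSL.coordinatize hZ hab heven hd
  refine ⟨p, f, K, fK, ftK, hp, hp2, hKp, hΩ, ?_⟩
  have hC : ∃ g : G, g • a = j 0 ∧ g • j 0 = a := by
    rw [hj0]
    exact Cfsg.Agent.Helper5.Zassenhaus.two_trans hZ hab hab.symm
  obtain ⟨g₀, hg₀1, hg₀2, hg₀⟩ := Cfsg.Agent.Helper3.ZassPSL.exists_neg_inv a j hjinj hja hjcov
    h2K hm1 hA hA' hB hC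
  haveI hfaith : FaithfulSMul G Ω := hZ.1
  let φ : G →* Equiv.Perm Ω := MulAction.toPermHom G Ω
  have hφinj : Function.Injective φ := MulAction.toPerm_injective
  let G' : Subgroup (Equiv.Perm Ω) := φ.range
  let e : G ≃* G' := MonoidHom.ofInjective hφinj
  have hB' : ∀ g ∈ G', g a = a →
      ∃ s c : K, s ≠ 0 ∧ IsSquare s ∧ ∀ x, g (j x) = j (s * x + c) := by
    rintro _ ⟨g, rfl⟩ hga
    exact hA g hga
  have htrans : ∀ y, y ≠ a → ∃ g ∈ G', g a = a ∧ g (j 0) = y := by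
    intro y hy
    obtain ⟨x, rfl⟩ := hjcov y hy
    obtain ⟨g, hga, hg⟩ := hA' 1 x one_ne_zero ⟨1, by simp⟩
    refine ⟨φ g, ⟨g, rfl⟩, hga, ?_⟩
    show g • j 0 = j x
    rw [hg, mul_zero, zero_add]
  have hcard : 2 * Nat.card G' = Fintype.card K * (Fintype.card K ^ 2 - 1) := by
    have h1 : Nat.card G' = Nat.card G := (Nat.card_congr e.toEquiv).symm
    rw [h1, Cfsg.Agent.Helper5.Zassenhaus.card_group hZ hab, hΩ, ← hKp, hKd]
    generalize Nat.card ↥(MulAction.stabilizer G a ⊓ MulAction.stabilizer G b) = d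
    have h3 : (2 * d + 1) ^ 2 - 1 = 2 * d * (2 * d + 2) := by
      have : (2 * d + 1) ^ 2 = 2 * d * (2 * d + 2) + 1 := by ring
      omega
    rw [h3]
    have h4 : 2 * d + 1 + 1 - 1 = 2 * d + 1 := by omega
    rw [h4]
    ring
  obtain ⟨e'⟩ := Cfsg.Agent.Helper4.RecogPSL2.nonempty_mulEquiv_psl G' a j hjinj hja hjcov h2K
    hB' (φ g₀) ⟨g₀, rfl⟩ hg₀1 hg₀2 hg₀ htrans hcard
  exact ⟨e.trans e'⟩

end Cfsg.Agent.S0742
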