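import Mathlib
import Cfsg.Statements.S0850
import Cfsg.Agent.Helper5.PermChar
import Cfsg.Agent.Helper5.ConjAct

set_option autoImplicit false
open Cfsg

namespace Cfsg.Agent.S0850

open Cfsg.Agent.Helper5

theorem part1 {G : Type*} [Group G] [Finite G] (K : Subgroup G)
    (hTI : ∀ g : G, g ∉ Subgroup.normalizer (K : Set G) → ∀ k ∈ K, g * k * g⁻¹ ∈ K → k = 1)
    (hC : ∀ k ∈ K, k ≠ 1 → Subgroup.centralizer ({k} : Set G) ≤ K) :
    ∀ x ∈ Subgroup.normalizer (K : Set G), x ∉ K → ∀ g : G, g * x * g⁻¹ ∉ K := by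
  intro x hxN hxK g hgx
  have hx1 : x ≠ 1 := fun h => hxK (h ▸ K.one_mem)
  have hgN : g ∉ Subgroup.normalizer (K : Set G) := by
    intro hg
    have := (Subgroup.mem_normalizer_iff.mp ((Subgroup.normalizer (K : Set G)).inv_mem hg) _).mp hgx
    apply hxK
    simpa [mul_assoc] using this
  have hox : orderOf x ≠ 1 := by
    rw [Ne, orderOf_eq_one_iff]; exact hx1
  set q := (orderOf x).minFac with hq
  have hqp : q.Prime := Nat.minFac_prime hox
  have : Fact q.Prime := ⟨hqp⟩
  have hqd : q ∣ orderOf x := Nat.minFac_dvd _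
  set y := x ^ (orderOf x / q) with hy
  have hyo : orderOf y = q := orderOf_pow_orderOf_div (orderOf_pos x).ne' hqd
  have hyN : y ∈ Subgroup.normalizer (K : Set G) := Subgroup.pow_mem _ hxN _
  have hgy : g * y * g⁻¹ ∈ K := by
    have : g * y * g⁻¹ = (g * x * g⁻¹) ^ (orderOf x / q) := by
      rw [hy, conj_pow]
    rw [this]; exact K.pow_mem hgx _
  have hy1 : y ≠ 1 := by
    intro h
    rw [h, orderOf_one] at hyo
    exact hqp.one_lt.ne hyo
  have hfix : ∀ k ∈ K, y * k = k * y → k = 1 := by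
    intro k hk hcomm
    by_contra hk1
    have hyK : y ∈ K := by
      apply hC k hk hk1
      rw [Subgroup.mem_centralizer_iff]
      intro z hz
      rw [Set.mem_singleton_iff] at hz
      rw [hz]; exact hcomm.symm
    exact hy1 (hTI g hgN y hyK hgy)
  have h1 := card_modEq_one_of_fixedPointFree K q y hyo hyN hfix
  have h2 : q ∣ Nat.card K := by
    have hsc : SemiconjBy g y (g * y * g⁻¹) := by unfold SemiconjBy; group
    have : orderOf (g * y * g⁻¹) = q := by rw [← hsc.orderOf_eq, hyo]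
    rw [← this]
    exact Subgroup.orderOf_dvd_natCard K hgy
  have h3 : q ∣ 1 := by
    have := (Nat.modEq_zero_iff_dvd.mpr h2).symm.trans h1
    exact (Nat.modEq_zero_iff_dvd.mp this.symm)
  exact hqp.one_lt.ne' (Nat.dvd_one.mp h3)

theorem part2 {G : Type*} [Group G] [Fintype G] (K N : Subgroup G)
    (hTI : ∀ g : G, g ∉ N → ∀ k ∈ K, g * k * g⁻¹ ∈ K → k = 1)
    (p1 : ∀ x ∈ N, x ∉ K → ∀ g : G, g * x * g⁻¹ ∉ K)
    (ϑ : N → ℂ) (hcf : Cfsg.IsClassFunction N ϑ) (hvan : ∀ x : N, (x : G) ∉ K → ϑ x = 0)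
    (h1 : ϑ 1 = 0) (x : N) : Cfsg.indFun N ϑ x = ϑ x := by
  classical
  unfold Cfsg.indFun
  have hNcard : (Nat.card N : ℂ) ≠ 0 := by
    exact_mod_cast Nat.card_pos.ne'
  by_cases hx1 : x = 1
  · subst hx1
    have : ∀ g : G, Cfsg.extendByZero N ϑ (g⁻¹ * ((1 : N) : G) * g) = 0 := by
      intro g
      have h2 : g⁻¹ * ((1 : N) : G) * g = 1 := by simp
      rw [h2, extendByZero_apply_mem N ϑ N.one_mem]
      exact h1
    rw [Finset.sum_congr rfl (fun g _ => this g), Finset.sum_const_zero, mul_zero, h1]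
  by_cases hxK : (x : G) ∈ K
  · -- x ∈ K \ {1}
    have hterm : ∀ g : G, Cfsg.extendByZero N ϑ (g⁻¹ * (x : G) * g) = if g ∈ N then ϑ x else 0 := by
      intro g
      by_cases hg : g ∈ N
      · rw [if_pos hg]
        have hmem : g⁻¹ * (x : G) * g ∈ N := N.mul_mem (N.mul_mem (N.inv_mem hg) x.2) hg
        rw [extendByZero_apply_mem N ϑ hmem]
        have := hcf x (⟨g, hg⟩⁻¹ : N)
        rw [← this]
        congr 1
        apply Subtype.ext
        simp
      · rw [if_neg hg]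
        by_cases hmem : g⁻¹ * (x : G) * g ∈ N
        · rw [extendByZero_apply_mem N ϑ hmem]
          apply hvan
          intro hK
          have hg' : g⁻¹ ∉ N := fun h => hg (by simpa using N.inv_mem h)
          have := hTI g⁻¹ hg' x hxK (by simpa using hK)
          exact hx1 (Subtype.ext this)
        · exact extendByZero_apply_not_mem N ϑ hmem
    rw [Finset.sum_congr rfl (fun g _ => hterm g), ← Finset.sum_filter, Finset.sum_const,
      nsmul_eq_mul, ← mul_assoc]
    have hc : ((Finset.univ.filter (fun g : G => g ∈ N)).card : ℂ) = (Nat.card N : ℂ) := by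
      congr 1
      rw [Nat.card_eq_fintype_card, Fintype.card_subtype]
    rw [hc, inv_mul_cancel₀ hNcard, one_mul]
  · -- x ∉ K
    have : ∀ g : G, Cfsg.extendByZero N ϑ (g⁻¹ * (x : G) * g) = 0 := by
      intro g
      by_cases hmem : g⁻¹ * (x : G) * g ∈ N
      · rw [extendByZero_apply_mem N ϑ hmem]
        apply hvan
        have := p1 x x.2 hxK g⁻¹
        simpa using this
      · exact extendByZero_apply_not_mem N ϑ hmem
    rw [Finset.sum_congr rfl (fun g _ => this g), Finset.sum_const_zero, mul_zero, hvan x hxK]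

theorem result {G : Type*} [Group G] [Fintype G] (K : Subgroup G) (hTI : ∀ g : G, g ∉ Subgroup.normalizer (K : Set G) → ∀ k ∈ K, g * k * g⁻¹ ∈ K → k = 1) (hlt : K < Subgroup.normalizer (K : Set G)) (hC : ∀ k ∈ K, k ≠ 1 → Subgroup.centralizer ({k} : Set G) ≤ K) : (∀ x ∈ Subgroup.normalizer (K : Set G), x ∉ K → ∀ g : G, g * x * g⁻¹ ∉ K) ∧ ∀ (ϑ : Subgroup.normalizer (K : Set G) → ℂ), Cfsg.IsClassFunction (Subgroup.normalizer (K : Set G)) ϑ → (∀ x : Subgroup.normalizer (K : Set G), (x : G) ∉ K → ϑ x = 0) → ϑ 1 = 0 → ∀ x : Subgroup.normalizer (K : Set G), Cfsg.indFun (Subgroup.normalizer (K : Set G)) ϑ x = ϑ x := by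
  have p1 := part1 K hTI hC
  exact ⟨p1, fun ϑ hcf hvan h1 x => part2 K _ hTI p1 ϑ hcf hvan h1 x⟩

end Cfsg.Agent.S0850
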