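import Cfsg.Statements.S1487
import Cfsg.Agent.Helper8.Ind
import Cfsg.Agent.Helper8.CharVal

set_option autoImplicit false
open Cfsg

namespace Cfsg.Agent.S1487

open scoped ComplexConjugate
open Cfsg.Agent.Helper8

/-- Let A ≤ H be normal subgroups of the finite group G and θ an irreducible character of H. Then θ takes the value θ 1 on all of A if and only if the function induced from θ to G takes its value at 1 on all of A. -/
theorem result {G : Type*} [Group G] [Fintype G] (A H : Subgroup G) [A.Normal] [H.Normal] (hAH : A ≤ H) (θ : H → ℂ) (hθ : Cfsg.IsIrrCharacter H θ) : (∀ a : H, (a : G) ∈ A → θ a = θ 1) ↔ (∀ a : G, a ∈ A → Cfsg.indFun H θ a = Cfsg.indFun H θ 1) := by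
  have hN : H.Normal := inferInstance
  have hAN : A.Normal := inferInstance
  have hχ : Cfsg.IsCharacter H θ := Cfsg.Agent.Helper24.IsIrrCharacter.isCharacter hθ
  have hone : Cfsg.indFun H θ 1 = (Nat.card H : ℂ)⁻¹ * ∑ _x : G, θ 1 := by
    have := indFun_normal_apply H θ (1 : H)
    change Cfsg.indFun H θ ((1 : H) : G) = _
    rw [this]
    congr 1
    apply Finset.sum_congr rfl
    intro x _
    congr 1
    apply Subtype.ext
    simp
  have hH : (Nat.card H : ℂ) ≠ 0 := Nat.cast_ne_zero.mpr Nat.card_pos.ne'
  constructor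
  · intro h a ha
    have := indFun_normal_apply H θ (⟨a, hAH ha⟩ : H)
    simp only at this
    rw [this, hone]
    congr 1
    apply Finset.sum_congr rfl
    intro x _
    apply h
    exact hAN.conj_mem a ha x
  · intro h a ha
    have h1 := h a ha
    rw [indFun_normal_apply H θ a, hone] at h1
    have h2 := mul_left_cancel₀ (inv_ne_zero hH) h1
    have h3 : ∑ x : G, (θ ⟨x * a * x⁻¹, hN.conj_mem a a.2 x⟩).re = ∑ _x : G, (θ 1).re := by
      have := congrArg Complex.re h2
      simpa only [Complex.re_sum] using this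
    have h4 := (Finset.sum_eq_sum_iff_of_le (fun x _ => char_re_le hχ _)).mp h3 1 (Finset.mem_univ _)
    have h5 : (⟨1 * (a : G) * 1⁻¹, hN.conj_mem a a.2 1⟩ : H) = a := by
      apply Subtype.ext
      simp
    rw [h5] at h4
    exact char_eq_of_re_eq hχ a h4

end Cfsg.Agent.S1487
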