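import Cfsg.Statements.S1514
import Cfsg.Agent.Helper8.Virtual
import Cfsg.Agent.Helper23.CharOrtho

set_option autoImplicit false
open Cfsg

namespace Cfsg.Agent.S1514

open scoped ComplexConjugate
open Cfsg.Agent.Helper24

theorem conjFun_conjFun {X : Type*} (f : X → ℂ) : Cfsg.conjFun (Cfsg.conjFun f) = f := by
  funext x
  simp [Cfsg.conjFun]

theorem classInner_conjFun {L : Type*} [Group L] [Fintype L] (f g : L → ℂ) :
    Cfsg.classInner (Cfsg.conjFun f) (Cfsg.conjFun g) = conj (Cfsg.classInner f g) := by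
  unfold Cfsg.classInner Cfsg.conjFun
  rw [map_mul, map_inv₀, Complex.conj_natCast, map_sum]
  congr 1
  apply Finset.sum_congr rfl
  intro x _
  rw [map_mul]

/-- the data attached to a member of `S` -/
theorem exists_pair {L : Type*} [Group L] [Fintype L] {G : Type*} [Group G] [Fintype G]
    (S : Set (L → ℂ)) (hirr : ∀ χ ∈ S, Cfsg.IsIrrCharacter L χ)
    (hconj : ∀ χ ∈ S, Cfsg.conjFun χ ∈ S ∧ Cfsg.conjFun χ ≠ χ) (τ : (L → ℂ) → (G → ℂ))
    (hτ : Cfsg.IsLinearIsometryOn (Cfsg.zspanOn S {1}ᶜ) τ)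
    (hτ1 : ∀ α ∈ Cfsg.zspanOn S {1}ᶜ, τ α 1 = 0) (χ : L → ℂ) (hχ : χ ∈ S) :
    (χ - Cfsg.conjFun χ) ∈ Cfsg.zspanOn S {1}ᶜ ∧
    ∃ a b : Cfsg.IrrCharacter G, a ≠ b ∧ τ (χ - Cfsg.conjFun χ) = (a : G → ℂ) - (b : G → ℂ) := by
  have hmem : (χ - Cfsg.conjFun χ) ∈ Cfsg.zspanOn S {1}ᶜ := by
    refine ⟨Submodule.sub_mem _ (Submodule.subset_span hχ)
      (Submodule.subset_span (hconj χ hχ).1), ?_⟩
    intro x hx
    have hx1 : x = 1 := by
      by_contra h
      exact hx h
    subst hx1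
    obtain ⟨d, _, hd⟩ := isIrrCharacter_one (hirr χ hχ)
    simp [Cfsg.conjFun, hd]
  refine ⟨hmem, ?_⟩
  obtain ⟨_, _, hinner, hgen⟩ := hτ
  apply Cfsg.Agent.Helper8.exists_irr_sub_irr_of_norm_two (hgen _ hmem)
  · rw [hinner _ hmem _ hmem, classInner_sub_left, classInner_sub_right, classInner_sub_right,
      Cfsg.Agent.Helper23.classInner_irrCharacter χ χ (hirr χ hχ) (hirr χ hχ), if_pos rfl,
      Cfsg.Agent.Helper23.classInner_irrCharacter χ _ (hirr χ hχ) (hirr _ (hconj χ hχ).1),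
      if_neg (Ne.symm (hconj χ hχ).2),
      Cfsg.Agent.Helper23.classInner_irrCharacter _ χ (hirr _ (hconj χ hχ).1) (hirr χ hχ),
      if_neg (hconj χ hχ).2,
      Cfsg.Agent.Helper23.classInner_irrCharacter _ _ (hirr _ (hconj χ hχ).1)
        (hirr _ (hconj χ hχ).1), if_pos rfl]
    ring
  · exact hτ1 _ hmem

/-- Let S be a nonempty set of irreducible characters of the finite group L, closed under complex conjugation and containing no real-valued member, and τ a linear isometry on the integer combinations of S vanishing at 1, with values virtual characters of G vanishing at 1. Then there is a choice R making (S, τ, R) a coherence system. -/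
theorem result {L : Type*} [Group L] [Fintype L] {G : Type*} [Group G] [Fintype G] (S : Set (L → ℂ)) (hS : S.Nonempty) (hirr : ∀ χ ∈ S, Cfsg.IsIrrCharacter L χ) (hconj : ∀ χ ∈ S, Cfsg.conjFun χ ∈ S ∧ Cfsg.conjFun χ ≠ χ) (τ : (L → ℂ) → (G → ℂ)) (hτ : Cfsg.IsLinearIsometryOn (Cfsg.zspanOn S {1}ᶜ) τ) (hτ1 : ∀ α ∈ Cfsg.zspanOn S {1}ᶜ, τ α 1 = 0) : ∃ R : (L → ℂ) → Finset (G → ℂ), Cfsg.IsCoherenceSystem S τ R := by
  classical
  have hex := exists_pair S hirr hconj τ hτ hτ1
  -- choose the two constituents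
  have hex' : ∀ χ : L → ℂ, ∃ a b : Cfsg.IrrCharacter G, χ ∈ S →
      (a ≠ b ∧ τ (χ - Cfsg.conjFun χ) = (a : G → ℂ) - (b : G → ℂ)) := by
    intro χ
    by_cases hχ : χ ∈ S
    · obtain ⟨_, a, b, hab, h⟩ := hex χ hχ
      exact ⟨a, b, fun _ => ⟨hab, h⟩⟩
    · obtain ⟨χ₀, hχ₀⟩ := hS
      obtain ⟨_, a, b, _, _⟩ := hex χ₀ hχ₀
      exact ⟨a, a, fun h => absurd h hχ⟩
  choose a b hab using hex'
  have hne : ∀ χ ∈ S, ((a χ : Cfsg.IrrCharacter G) : G → ℂ) ≠ -((b χ : Cfsg.IrrCharacter G) : G → ℂ) :=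
    fun χ _ => Cfsg.Agent.Helper8.irr_ne_neg_irr (a χ).2 (b χ).2
  have hab' : ∀ χ ∈ S, ((a χ : Cfsg.IrrCharacter G) : G → ℂ) ≠ ((b χ : Cfsg.IrrCharacter G) : G → ℂ) :=
    fun χ hχ h => (hab χ hχ).1 (Subtype.ext h)
  have horth : ∀ x y : Cfsg.IrrCharacter G, (x : G → ℂ) ≠ (y : G → ℂ) →
      Cfsg.classInner (x : G → ℂ) (y : G → ℂ) = 0 := by
    intro x y hxy
    rw [Cfsg.Agent.Helper23.classInner_irrCharacter _ _ x.2 y.2, if_neg hxy]
  have hself : ∀ x : Cfsg.IrrCharacter G, Cfsg.classInner (x : G → ℂ) (x : G → ℂ) = 1 := by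
    intro x
    rw [Cfsg.Agent.Helper23.classInner_irrCharacter _ _ x.2 x.2, if_pos rfl]
  refine ⟨fun χ => {((a χ : Cfsg.IrrCharacter G) : G → ℂ), -((b χ : Cfsg.IrrCharacter G) : G → ℂ)}, ?_⟩
  refine
    { nonempty := hS
      isCharacter := fun χ hχ => IsIrrCharacter.isCharacter (hirr χ hχ)
      conj_mem := fun χ hχ => (hconj χ hχ).1
      conj_ne := fun χ hχ => (hconj χ hχ).2
      isometry := hτ
      map_one := hτ1
      orthogonal := ?_
      orthonormal := ?_
      virtual := ?_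
      sum_eq := ?_
      disjoint := ?_ }
  · intro χ hχ φ hφ hne'
    rw [Cfsg.Agent.Helper23.classInner_irrCharacter _ _ (hirr χ hχ) (hirr φ hφ), if_neg hne']
  · intro χ hχ α hα β hβ
    simp only [Finset.mem_insert, Finset.mem_singleton] at hα hβ
    rcases hα with rfl | rfl <;> rcases hβ with rfl | rfl
    · rw [if_pos rfl, hself]
    · rw [if_neg (hne χ hχ), classInner_neg_right, horth _ _ (hab' χ hχ), neg_zero]
    · rw [if_neg (Ne.symm (hne χ hχ)), classInner_neg_left, horth _ _ (Ne.symm (hab' χ hχ)),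
        neg_zero]
    · rw [if_pos rfl, classInner_neg_left, classInner_neg_right, hself, neg_neg]
  · intro χ hχ α hα
    simp only [Finset.mem_insert, Finset.mem_singleton] at hα
    rcases hα with rfl | rfl
    · exact IsIrrCharacter.isGeneralizedCharacter (a χ).2
    · exact IsGeneralizedCharacter.neg (IsIrrCharacter.isGeneralizedCharacter (b χ).2)
  · intro χ hχ
    rw [Finset.sum_pair (hne χ hχ), (hab χ hχ).2, sub_eq_add_neg]
  · intro χ hχ φ hφ h1 h2 α hα β hβ
    obtain ⟨_, _, hinner, _⟩ := hτ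
    have hmχ := (hex χ hχ).1
    have hmφ := (hex φ hφ).1
    -- the images are orthogonal
    have h3 : Cfsg.classInner (τ (φ - Cfsg.conjFun φ)) (τ (χ - Cfsg.conjFun χ)) = 0 := by
      rw [hinner _ hmφ _ hmχ, classInner_sub_left, classInner_sub_right, classInner_sub_right, h1, h2]
      have e1 : Cfsg.classInner (Cfsg.conjFun φ) (Cfsg.conjFun χ) = 0 := by
        rw [classInner_conjFun, h1, map_zero]
      have e2 : Cfsg.classInner (Cfsg.conjFun φ) χ = 0 := by
        have := classInner_conjFun φ (Cfsg.conjFun χ)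
        rw [conjFun_conjFun, h2, map_zero] at this
        exact this
      rw [e1, e2]; ring
    rw [(hab χ hχ).2, (hab φ hφ).2, classInner_sub_left, classInner_sub_right,
      classInner_sub_right] at h3
    -- all four constituents are distinct
    have key : ∀ x y : Cfsg.IrrCharacter G, Cfsg.classInner (x : G → ℂ) (y : G → ℂ) = 0 ∨
        ((x : G → ℂ) = (y : G → ℂ) ∧ Cfsg.classInner (x : G → ℂ) (y : G → ℂ) = 1) := by
      intro x y
      by_cases hxy : (x : G → ℂ) = (y : G → ℂ)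
      · right
        refine ⟨hxy, ?_⟩
        rw [hxy, hself]
      · left; exact horth x y hxy
    have hχab := hab' χ hχ
    have hφab := hab' φ hφ
    have d1 : Cfsg.classInner ((a φ : Cfsg.IrrCharacter G) : G → ℂ) (a χ : G → ℂ) = 0 := by
      rcases key (a φ) (a χ) with h | ⟨e, h⟩
      · exact h
      · exfalso
        have e2 : Cfsg.classInner ((a φ : Cfsg.IrrCharacter G) : G → ℂ) (b χ : G → ℂ) = 0 :=
          horth _ _ (by rw [e]; exact hχab)
        have e3 : Cfsg.classInner ((b φ : Cfsg.IrrCharacter G) : G → ℂ) (a χ : G → ℂ) = 0 :=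
          horth _ _ (by rw [← e]; exact Ne.symm hφab)
        rw [h, e2, e3] at h3
        rcases key (b φ) (b χ) with h' | ⟨_, h'⟩ <;> rw [h'] at h3 <;> norm_num at h3
    have d4 : Cfsg.classInner ((b φ : Cfsg.IrrCharacter G) : G → ℂ) (b χ : G → ℂ) = 0 := by
      rcases key (b φ) (b χ) with h | ⟨e, h⟩
      · exact h
      · exfalso
        have e2 : Cfsg.classInner ((a φ : Cfsg.IrrCharacter G) : G → ℂ) (b χ : G → ℂ) = 0 :=
          horth _ _ (by rw [← e]; exact hφab)
        have e3 : Cfsg.classInner ((b φ : Cfsg.IrrCharacter G) : G → ℂ) (a χ : G → ℂ) = 0 :=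
          horth _ _ (by rw [e]; exact Ne.symm hχab)
        rw [h, e2, e3, d1] at h3
        norm_num at h3
    rw [d1, d4] at h3
    have d2 : Cfsg.classInner ((a φ : Cfsg.IrrCharacter G) : G → ℂ) (b χ : G → ℂ) = 0 := by
      rcases key (a φ) (b χ) with h | ⟨_, h⟩
      · exact h
      · exfalso
        rw [h] at h3
        rcases key (b φ) (a χ) with h' | ⟨_, h'⟩ <;> rw [h'] at h3 <;> norm_num at h3
    have d3 : Cfsg.classInner ((b φ : Cfsg.IrrCharacter G) : G → ℂ) (a χ : G → ℂ) = 0 := by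
      rcases key (b φ) (a χ) with h | ⟨_, h⟩
      · exact h
      · exfalso
        rw [h, d2] at h3
        norm_num at h3
    simp only [Finset.mem_insert, Finset.mem_singleton] at hα hβ
    rcases hα with rfl | rfl <;> rcases hβ with rfl | rfl
    · exact d1
    · rw [classInner_neg_right, d2, neg_zero]
    · rw [classInner_neg_left, d3, neg_zero]
    · rw [classInner_neg_left, classInner_neg_right, d4, neg_zero, neg_zero]

end Cfsg.Agent.S1514
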