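import Cfsg.Statements.S1529
import Cfsg.Agent.Helper24.Generalized
import Cfsg.Agent.Helper23.CharOrtho

set_option autoImplicit false
open Cfsg

namespace Cfsg.Agent.S1529

open scoped ComplexConjugate
open Cfsg.Agent.Helper24

/-- Let N be a subgroup of the finite group G, S a set of irreducible characters of N with at least two members, and τ₁ a linear isometry on the integer combinations of S with virtual-character values such that τ₁ α vanishes at 1 whenever α ∈ ℤ[S] does. Then there is ε ∈ {1, −1} such that ε • τ₁ χ is an irreducible character of G for every χ ∈ S, and distinct members of S give distinct characters. -/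
theorem result {G : Type*} [Group G] [Fintype G] (N : Subgroup G) [Fintype N] (S : Set (N → ℂ)) (hirr : ∀ χ ∈ S, Cfsg.IsIrrCharacter N χ) (htwo : ∃ χ ∈ S, ∃ ψ ∈ S, χ ≠ ψ) (τ₁ : (N → ℂ) → (G → ℂ)) (hτ₁ : Cfsg.IsLinearIsometryOn (Cfsg.zspan S) τ₁) (h0 : ∀ α ∈ Cfsg.zspan S, α 1 = 0 → τ₁ α 1 = 0) : ∃ ε : ℂ, (ε = 1 ∨ ε = -1) ∧ (∀ χ ∈ S, Cfsg.IsIrrCharacter G (ε • τ₁ χ)) ∧ (∀ χ ∈ S, ∀ ψ ∈ S, τ₁ χ = τ₁ ψ → χ = ψ) := by
  classical
  have : Fintype (IrrCharacter G) := Fintype.ofFinite _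
  obtain ⟨hadd, hsmul, hinner, hgen⟩ := hτ₁
  have hmem : ∀ χ ∈ S, χ ∈ Cfsg.zspan S := fun χ hχ => Submodule.subset_span hχ
  have hnorm : ∀ χ ∈ S, Cfsg.classInner (τ₁ χ) (τ₁ χ) = 1 := by
    intro χ hχ
    rw [hinner χ (hmem χ hχ) χ (hmem χ hχ),
      Cfsg.Agent.Helper23.classInner_irrCharacter χ χ (hirr χ hχ) (hirr χ hχ), if_pos rfl]
  -- each image is plus or minus an irreducible character, with a well defined sign
  have hsign : ∀ χ ∈ S, ∃ (s : ℂ) (m : ℕ), (s = 1 ∨ s = -1) ∧ 0 < m ∧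
      Cfsg.IsIrrCharacter G (s • τ₁ χ) ∧ τ₁ χ 1 = s * m := by
    intro χ hχ
    obtain ⟨ψ, hψ | hψ⟩ := IsGeneralizedCharacter.eq_or_eq_neg_of_classInner_self
      (hgen χ (hmem χ hχ)) (hnorm χ hχ)
    · obtain ⟨m, hm, hm1⟩ := isIrrCharacter_one ψ.2
      refine ⟨1, m, Or.inl rfl, hm, ?_, ?_⟩
      · rw [one_smul, hψ]; exact ψ.2
      · rw [hψ, hm1, one_mul]
    · obtain ⟨m, hm, hm1⟩ := isIrrCharacter_one ψ.2
      refine ⟨-1, m, Or.inr rfl, hm, ?_, ?_⟩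
      · rw [hψ]; simp only [neg_smul, one_smul, neg_neg]; exact ψ.2
      · rw [hψ, Pi.neg_apply, hm1]; ring
  obtain ⟨χ₀, hχ₀, _, _, _⟩ := htwo
  obtain ⟨ε, m₀, hε, hm₀, hirr₀, hval₀⟩ := hsign χ₀ hχ₀
  obtain ⟨d₀, hd₀, hd₀1⟩ := isIrrCharacter_one (hirr χ₀ hχ₀)
  refine ⟨ε, hε, ?_, ?_⟩
  · intro χ hχ
    obtain ⟨s, m, hs, hm, hirrχ, hval⟩ := hsign χ hχ
    obtain ⟨d, hd, hd1⟩ := isIrrCharacter_one (hirr χ hχ)
    -- the combination vanishing at one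
    have hα1 : ((d : ℤ) • χ₀) ∈ Cfsg.zspan S := Submodule.smul_mem _ _ (hmem χ₀ hχ₀)
    have hα2 : ((-(d₀ : ℤ)) • χ) ∈ Cfsg.zspan S := Submodule.smul_mem _ _ (hmem χ hχ)
    have hα : ((d : ℤ) • χ₀ + (-(d₀ : ℤ)) • χ) ∈ Cfsg.zspan S := Submodule.add_mem _ hα1 hα2
    have hz : ((d : ℤ) • χ₀ + (-(d₀ : ℤ)) • χ) 1 = 0 := by
      show (d : ℤ) • χ₀ 1 + (-(d₀ : ℤ)) • χ 1 = 0
      rw [hd₀1, hd1, zsmul_eq_mul, zsmul_eq_mul]
      push_cast
      ring
    have h1 := h0 _ hα hz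
    rw [hadd _ hα1 _ hα2, hsmul _ (hmem χ₀ hχ₀), hsmul _ (hmem χ hχ)] at h1
    have h1' : (d : ℤ) • τ₁ χ₀ 1 + (-(d₀ : ℤ)) • τ₁ χ 1 = 0 := h1
    rw [hval₀, hval, zsmul_eq_mul, zsmul_eq_mul] at h1'
    push_cast at h1'
    -- compare signs
    have hse : s = ε := by
      have hd' : (0 : ℝ) < d := by exact_mod_cast hd
      have hd₀' : (0 : ℝ) < d₀ := by exact_mod_cast hd₀
      have hm' : (0 : ℝ) < m := by exact_mod_cast hm
      have hm₀' : (0 : ℝ) < m₀ := by exact_mod_cast hm₀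
      rcases hs with rfl | rfl <;> rcases hε with rfl | rfl
      · rfl
      · exfalso
        have h2 := congrArg Complex.re h1'
        simp at h2
        nlinarith
      · exfalso
        have h2 := congrArg Complex.re h1'
        simp at h2
        nlinarith
      · rfl
    rw [← hse]; exact hirrχ
  · intro χ hχ ψ hψ h
    by_contra hne
    have h1 := hinner χ (hmem χ hχ) ψ (hmem ψ hψ)
    rw [← h, hnorm χ hχ, Cfsg.Agent.Helper23.classInner_irrCharacter χ ψ (hirr χ hχ) (hirr ψ hψ),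
      if_neg hne] at h1
    exact one_ne_zero h1

end Cfsg.Agent.S1529
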