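import Cfsg.Statements.S1531
import Cfsg.Agent.Helper8.ZSpan2
import Cfsg.Agent.S1529

set_option autoImplicit false
open Cfsg

namespace Cfsg.Agent.S1531

open Cfsg.Agent.Helper8

/-- pick a second element -/
theorem exists_ne_of_two {A : Type*} {X : Set A} (h : ∃ a ∈ X, ∃ b ∈ X, a ≠ b) (x : A) :
    ∃ y ∈ X, y ≠ x := by
  obtain ⟨a, ha, b, hb, hab⟩ := h
  by_cases hax : a = x
  · exact ⟨b, hb, fun hbx => hab (hax.trans hbx.symm)⟩
  · exact ⟨a, ha, hax⟩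

section Part1

variable {G : Type*} [Group G] [Fintype G] (N : Subgroup G) [Fintype N]

/-- the combination `c' χ - c χ'` of two irreducible characters with `c = χ 1`, `c' = χ' 1` -/
theorem part1 (S X Y : Set (N → ℂ)) (hirr : ∀ ξ ∈ S, Cfsg.IsIrrCharacter N ξ) (hXS : X ⊆ S)
    (hYS : Y ⊆ S) (hXY : Disjoint X Y) (hX2 : ∃ a ∈ X, ∃ b ∈ X, a ≠ b)
    (hY2 : ∃ a ∈ Y, ∃ b ∈ Y, a ≠ b) (α : (N → ℂ) → (G → ℂ))
    (hα : Cfsg.IsLinearIsometryOn (Cfsg.zspanOn S {1}ᶜ) α)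
    (hα1 : ∀ θ ∈ Cfsg.zspanOn S {1}ᶜ, α θ 1 = 0) (σ τ : (N → ℂ) → (G → ℂ))
    (hσ : Cfsg.IsLinearIsometryOn (Cfsg.zspan X) σ)
    (hσα : ∀ θ ∈ Cfsg.zspanOn X {1}ᶜ, σ θ = α θ)
    (hτ : Cfsg.IsLinearIsometryOn (Cfsg.zspan Y) τ)
    (hτα : ∀ θ ∈ Cfsg.zspanOn Y {1}ᶜ, τ θ = α θ) :
    ∀ χ ∈ X, ∀ η ∈ Y, Cfsg.classInner (σ χ) (τ η) = 0 := by
  classical
  have hirrX : ∀ ξ ∈ X, Cfsg.IsIrrCharacter N ξ := fun ξ hξ => hirr ξ (hXS hξ)
  have hirrY : ∀ ξ ∈ Y, Cfsg.IsIrrCharacter N ξ := fun ξ hξ => hirr ξ (hYS hξ)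
  have h0X : ∀ a ∈ Cfsg.zspan X, a 1 = 0 → σ a 1 = 0 := by
    intro a ha ha1
    rw [hσα a (mem_zspanOn_compl_one.mpr ⟨ha, ha1⟩)]
    exact hα1 a (mem_zspanOn_compl_one.mpr ⟨zspan_mono hXS ha, ha1⟩)
  have h0Y : ∀ a ∈ Cfsg.zspan Y, a 1 = 0 → τ a 1 = 0 := by
    intro a ha ha1
    rw [hτα a (mem_zspanOn_compl_one.mpr ⟨ha, ha1⟩)]
    exact hα1 a (mem_zspanOn_compl_one.mpr ⟨zspan_mono hYS ha, ha1⟩)
  obtain ⟨εX, hεX, hXirr, hXinj⟩ := Cfsg.Agent.S1529.result N X hirrX hX2 σ hσ h0X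
  obtain ⟨εY, hεY, hYirr, hYinj⟩ := Cfsg.Agent.S1529.result N Y hirrY hY2 τ hτ h0Y
  intro χ hχ η hη
  obtain ⟨χ', hχ', hχne⟩ := exists_ne_of_two hX2 χ
  obtain ⟨η', hη', hηne⟩ := exists_ne_of_two hY2 η
  obtain ⟨c, hc, hc1⟩ := irr_degree_pos (hirrX χ hχ)
  obtain ⟨c', hc', hc'1⟩ := irr_degree_pos (hirrX χ' hχ')
  obtain ⟨e, he, he1⟩ := irr_degree_pos (hirrY η hη)
  obtain ⟨e', he', he'1⟩ := irr_degree_pos (hirrY η' hη')
  -- the two combinations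
  have hχz := mem_zspan_of_mem hχ
  have hχ'z := mem_zspan_of_mem hχ'
  have hηz := mem_zspan_of_mem hη
  have hη'z := mem_zspan_of_mem hη'
  have ha1 : ((c' : ℤ) • χ) ∈ Cfsg.zspan X := zspan_zsmul_mem _ hχz
  have ha2 : ((-(c : ℤ)) • χ') ∈ Cfsg.zspan X := zspan_zsmul_mem _ hχ'z
  have ha : ((c' : ℤ) • χ + (-(c : ℤ)) • χ') ∈ Cfsg.zspan X := zspan_add_mem ha1 ha2
  have hb1 : ((e' : ℤ) • η) ∈ Cfsg.zspan Y := zspan_zsmul_mem _ hηz
  have hb2 : ((-(e : ℤ)) • η') ∈ Cfsg.zspan Y := zspan_zsmul_mem _ hη'z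
  have hb : ((e' : ℤ) • η + (-(e : ℤ)) • η') ∈ Cfsg.zspan Y := zspan_add_mem hb1 hb2
  have haone : ((c' : ℤ) • χ + (-(c : ℤ)) • χ') 1 = 0 := by
    show (c' : ℤ) • χ 1 + (-(c : ℤ)) • χ' 1 = 0
    rw [hc1, hc'1, zsmul_eq_mul, zsmul_eq_mul]
    push_cast
    ring
  have hbone : ((e' : ℤ) • η + (-(e : ℤ)) • η') 1 = 0 := by
    show (e' : ℤ) • η 1 + (-(e : ℤ)) • η' 1 = 0
    rw [he1, he'1, zsmul_eq_mul, zsmul_eq_mul]
    push_cast
    ring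
  have haS := mem_zspanOn_compl_one.mpr ⟨zspan_mono hXS ha, haone⟩
  have hbS := mem_zspanOn_compl_one.mpr ⟨zspan_mono hYS hb, hbone⟩
  -- images
  have hσa : α ((c' : ℤ) • χ + (-(c : ℤ)) • χ') = (c' : ℤ) • σ χ + (-(c : ℤ)) • σ χ' := by
    rw [← hσα _ (mem_zspanOn_compl_one.mpr ⟨ha, haone⟩), hσ.1 _ ha1 _ ha2, hσ.2.1 _ hχz,
      hσ.2.1 _ hχ'z]
  have hτb : α ((e' : ℤ) • η + (-(e : ℤ)) • η') = (e' : ℤ) • τ η + (-(e : ℤ)) • τ η' := by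
    rw [← hτα _ (mem_zspanOn_compl_one.mpr ⟨hb, hbone⟩), hτ.1 _ hb1 _ hb2, hτ.2.1 _ hηz,
      hτ.2.1 _ hη'z]
  -- inner product of the two combinations
  have horthXY : ∀ ξ ∈ X, ∀ ζ ∈ Y, Cfsg.classInner ξ ζ = 0 := by
    intro ξ hξ ζ hζ
    rw [Cfsg.Agent.Helper23.classInner_irrCharacter ξ ζ (hirrX ξ hξ) (hirrY ζ hζ), if_neg]
    rintro rfl
    exact (Set.disjoint_left.mp hXY hξ) hζ
  have hinner := hα.2.2.1 _ haS _ hbS
  have hzero : Cfsg.classInner ((c' : ℤ) • χ + (-(c : ℤ)) • χ') ((e' : ℤ) • η + (-(e : ℤ)) • η')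
      = 0 := by
    simp only [← Int.cast_smul_eq_zsmul ℂ]
    rw [Cfsg.Agent.Helper24.classInner_add_left, classInner_add_right, classInner_add_right,
      Cfsg.Agent.Helper24.classInner_smul_left, Cfsg.Agent.Helper24.classInner_smul_left,
      Cfsg.Agent.Helper24.classInner_smul_left, Cfsg.Agent.Helper24.classInner_smul_left,
      classInner_smul_right, classInner_smul_right, classInner_smul_right, classInner_smul_right,
      horthXY χ hχ η hη, horthXY χ hχ η' hη', horthXY χ' hχ' η hη, horthXY χ' hχ' η' hη']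
    ring
  rw [hzero, hσa, hτb] at hinner
  -- inner products of the images
  have hAB : ∀ ξ ∈ X, ∀ ζ ∈ Y, Cfsg.classInner (σ ξ) (τ ζ)
      = εX * εY * (if εX • σ ξ = εY • τ ζ then 1 else 0) := by
    intro ξ hξ ζ hζ
    have h1 := Cfsg.Agent.Helper23.classInner_irrCharacter _ _ (hXirr ξ hξ) (hYirr ζ hζ)
    rw [Cfsg.Agent.Helper24.classInner_smul_left, classInner_smul_right] at h1
    have hεX2 : εX * εX = 1 := by rcases hεX with h | h <;> rw [h] <;> norm_num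
    have hεYc : (starRingEnd ℂ) εY = εY := by
      rcases hεY with h | h <;> rw [h] <;> simp
    have hεY2 : εY * εY = 1 := by rcases hεY with h | h <;> rw [h] <;> norm_num
    rw [hεYc] at h1
    calc Cfsg.classInner (σ ξ) (τ ζ)
        = εX * εY * (εX * (εY * Cfsg.classInner (σ ξ) (τ ζ))) := by
          have : εX * εY * (εX * (εY * Cfsg.classInner (σ ξ) (τ ζ)))
              = (εX * εX) * (εY * εY) * Cfsg.classInner (σ ξ) (τ ζ) := by ring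
          rw [this, hεX2, hεY2]; ring
      _ = εX * εY * (if εX • σ ξ = εY • τ ζ then 1 else 0) := by rw [h1]
  have hεX0 : εX ≠ 0 := by rcases hεX with h | h <;> rw [h] <;> norm_num
  have hεY0 : εY ≠ 0 := by rcases hεY with h | h <;> rw [h] <;> norm_num
  have hAne : εX • σ χ ≠ εX • σ χ' := by
    intro h
    have : σ χ = σ χ' := by
      have := congrArg (fun f => εX⁻¹ • f) h
      simpa [smul_smul, inv_mul_cancel₀ hεX0] using this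
    exact hχne (hXinj χ hχ χ' hχ' this).symm
  have hBne : εY • τ η ≠ εY • τ η' := by
    intro h
    have : τ η = τ η' := by
      have := congrArg (fun f => εY⁻¹ • f) h
      simpa [smul_smul, inv_mul_cancel₀ hεY0] using this
    exact hηne (hYinj η hη η' hη' this).symm
  rw [hAB χ hχ η hη]
  by_contra hne
  have h11 : εX • σ χ = εY • τ η := by
    by_contra h
    rw [if_neg h, mul_zero] at hne
    exact hne rfl
  have h12 : ¬ (εX • σ χ = εY • τ η') := fun h => hBne (h11.symm.trans h)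
  have h21 : ¬ (εX • σ χ' = εY • τ η) := fun h => hAne (h11.trans h.symm)
  -- expand the inner product
  simp only [← Int.cast_smul_eq_zsmul ℂ] at hinner
  rw [Cfsg.Agent.Helper24.classInner_add_left, classInner_add_right, classInner_add_right,
    Cfsg.Agent.Helper24.classInner_smul_left, Cfsg.Agent.Helper24.classInner_smul_left,
    Cfsg.Agent.Helper24.classInner_smul_left, Cfsg.Agent.Helper24.classInner_smul_left,
    classInner_smul_right, classInner_smul_right, classInner_smul_right, classInner_smul_right,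
    hAB χ hχ η hη, hAB χ hχ η' hη', hAB χ' hχ' η hη, hAB χ' hχ' η' hη', if_pos h11, if_neg h12,
    if_neg h21] at hinner
  have hs0 : εX * εY ≠ 0 := mul_ne_zero hεX0 hεY0
  have hcpos : (0 : ℝ) < c := by exact_mod_cast hc
  have hc'pos : (0 : ℝ) < c' := by exact_mod_cast hc'
  have hepos : (0 : ℝ) < e := by exact_mod_cast he
  have he'pos : (0 : ℝ) < e' := by exact_mod_cast he'
  by_cases h22 : εX • σ χ' = εY • τ η'
  · rw [if_pos h22] at hinner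
    simp only [map_neg, Int.cast_natCast, Int.cast_neg, Complex.conj_natCast] at hinner
    have h3 : (εX * εY) * ((c' : ℂ) * e' + (c : ℂ) * e) = 0 := by
      rw [← hinner]; ring
    rcases mul_eq_zero.mp h3 with h | h
    · exact hs0 h
    · have h4 : ((c' : ℝ) * e' + (c : ℝ) * e : ℝ) = 0 := by exact_mod_cast h
      nlinarith
  · rw [if_neg h22] at hinner
    simp only [map_neg, Int.cast_natCast, Int.cast_neg, Complex.conj_natCast] at hinner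
    have h3 : (εX * εY) * ((c' : ℂ) * e') = 0 := by
      rw [← hinner]; ring
    rcases mul_eq_zero.mp h3 with h | h
    · exact hs0 h
    · have h4 : ((c' : ℝ) * e' : ℝ) = 0 := by exact_mod_cast h
      nlinarith

end Part1

section Part2

variable {G : Type*} [Group G] [Fintype G] (N : Subgroup G) [Fintype N]

theorem part2 (S X Y : Set (N → ℂ)) (hirr : ∀ ξ ∈ S, Cfsg.IsIrrCharacter N ξ) (hXS : X ⊆ S)
    (hYS : Y ⊆ S) (hXY : Disjoint X Y) (hX2 : ∃ a ∈ X, ∃ b ∈ X, a ≠ b)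
    (α : (N → ℂ) → (G → ℂ))
    (hα : Cfsg.IsLinearIsometryOn (Cfsg.zspanOn S {1}ᶜ) α)
    (σ τ : (N → ℂ) → (G → ℂ))
    (hσ : Cfsg.IsLinearIsometryOn (Cfsg.zspan X) σ)
    (hσα : ∀ θ ∈ Cfsg.zspanOn X {1}ᶜ, σ θ = α θ)
    (hτ : Cfsg.IsLinearIsometryOn (Cfsg.zspan Y) τ)
    (hτα : ∀ θ ∈ Cfsg.zspanOn Y {1}ᶜ, τ θ = α θ)
    (hp1 : ∀ χ ∈ X, ∀ η ∈ Y, Cfsg.classInner (σ χ) (τ η) = 0)
    (χ₀ : N → ℂ) (hχ₀ : χ₀ ∈ X) (η₀ : N → ℂ) (hη₀ : η₀ ∈ Y)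
    (hkey : α (χ₀ 1 • η₀ - η₀ 1 • χ₀) = χ₀ 1 • τ η₀ - η₀ 1 • σ χ₀) :
    Cfsg.IsCoherent (X ∪ Y) {1}ᶜ α := by
  classical
  have fI : Fintype (Cfsg.IrrCharacter N) := Fintype.ofFinite _
  have hirrX : ∀ ξ ∈ X, Cfsg.IsIrrCharacter N ξ := fun ξ hξ => hirr ξ (hXS hξ)
  have hirrY : ∀ ξ ∈ Y, Cfsg.IsIrrCharacter N ξ := fun ξ hξ => hirr ξ (hYS hξ)
  have hirrXY : ∀ ξ ∈ X ∪ Y, Cfsg.IsIrrCharacter N ξ := by
    rintro ξ (hξ | hξ)
    · exact hirrX ξ hξ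
    · exact hirrY ξ hξ
  have hXYS : X ∪ Y ⊆ S := Set.union_subset hXS hYS
  have hnotX : ∀ ξ ∈ Y, ξ ∉ X := fun ξ hξY hξX => (Set.disjoint_left.mp hXY hξX) hξY
  -- the glued map on the basis
  let e' : (N → ℂ) → (G → ℂ) := fun ξ => if ξ ∈ X then σ ξ else τ ξ
  have he'X : ∀ ξ ∈ X, e' ξ = σ ξ := fun ξ hξ => if_pos hξ
  have he'Y : ∀ ξ ∈ Y, e' ξ = τ ξ := fun ξ hξ => if_neg (hnotX ξ hξ)
  have horth : ∀ ξ ∈ X ∪ Y, ∀ η ∈ X ∪ Y,
      Cfsg.classInner (e' ξ) (e' η) = if ξ = η then 1 else 0 := by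
    rintro ξ (hξ | hξ) η (hη | hη)
    · rw [he'X ξ hξ, he'X η hη]
      exact orthonormal_of_isLinearIsometryOn hirrX hσ ξ hξ η hη
    · rw [he'X ξ hξ, he'Y η hη, hp1 ξ hξ η hη, if_neg]
      rintro rfl
      exact hnotX ξ hη hξ
    · rw [he'Y ξ hξ, he'X η hη, classInner_conj_symm (σ η) (τ ξ), hp1 η hη ξ hξ, map_zero, if_neg]
      rintro rfl
      exact hnotX ξ hξ hη
    · rw [he'Y ξ hξ, he'Y η hη]
      exact orthonormal_of_isLinearIsometryOn hirrY hτ ξ hξ η hη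
  have hgen : ∀ ξ ∈ X ∪ Y, Cfsg.IsGeneralizedCharacter G (e' ξ) := by
    rintro ξ (hξ | hξ)
    · rw [he'X ξ hξ]
      exact hσ.2.2.2 ξ (mem_zspan_of_mem hξ)
    · rw [he'Y ξ hξ]
      exact hτ.2.2.2 ξ (mem_zspan_of_mem hξ)
  have hτ₁ := isLinearIsometryOn_coordExt hirrXY e' horth hgen
  -- the glued map restricted to the two spans
  have hτ₁X : ∀ f ∈ Cfsg.zspan X, coordExt (X ∪ Y) e' f = σ f := by
    intro f hf
    rw [coordExt_eq_of_subset Set.subset_union_left hirrX e' σ he'X hf,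
      ← eq_coordExt_of_isLinearIsometryOn hirrX hσ hf]
  have hτ₁Y : ∀ f ∈ Cfsg.zspan Y, coordExt (X ∪ Y) e' f = τ f := by
    intro f hf
    rw [coordExt_eq_of_subset Set.subset_union_right hirrY e' τ he'Y hf,
      ← eq_coordExt_of_isLinearIsometryOn hirrY hτ hf]
  refine ⟨?_, coordExt (X ∪ Y) e', hτ₁, ?_⟩
  · -- a nonzero member vanishing at one
    obtain ⟨χ, hχ, χ', hχ', hne⟩ := hX2
    obtain ⟨c, hc, hc1⟩ := irr_degree_pos (hirrX χ hχ)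
    obtain ⟨c', hc', hc'1⟩ := irr_degree_pos (hirrX χ' hχ')
    refine ⟨(c' : ℤ) • χ + (-(c : ℤ)) • χ', ?_, ?_⟩
    · rw [mem_zspanOn_compl_one]
      refine ⟨zspan_add_mem (zspan_zsmul_mem _ (mem_zspan_of_mem (Or.inl hχ)))
        (zspan_zsmul_mem _ (mem_zspan_of_mem (Or.inl hχ'))), ?_⟩
      show (c' : ℤ) • χ 1 + (-(c : ℤ)) • χ' 1 = 0
      rw [hc1, hc'1, zsmul_eq_mul, zsmul_eq_mul]
      push_cast
      ring
    · intro h0
      have h1 : Cfsg.classInner ((c' : ℤ) • χ + (-(c : ℤ)) • χ') χ = (c' : ℂ) := by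
        simp only [← Int.cast_smul_eq_zsmul ℂ]
        rw [Cfsg.Agent.Helper24.classInner_add_left, Cfsg.Agent.Helper24.classInner_smul_left,
          Cfsg.Agent.Helper24.classInner_smul_left,
          Cfsg.Agent.Helper23.classInner_irrCharacter χ χ (hirrX χ hχ) (hirrX χ hχ), if_pos rfl,
          Cfsg.Agent.Helper23.classInner_irrCharacter χ' χ (hirrX χ' hχ') (hirrX χ hχ),
          if_neg (fun h => hne h.symm)]
        push_cast
        ring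
      rw [h0, Cfsg.Agent.Helper24.classInner_zero_left] at h1
      exact hc'.ne' (by exact_mod_cast h1.symm)
  · -- agreement with α
    intro θ hθ
    rw [mem_zspanOn_compl_one] at hθ
    obtain ⟨hθz, hθ1⟩ := hθ
    have hsup : θ ∈ (Submodule.span ℤ X ⊔ Submodule.span ℤ Y : Submodule ℤ (N → ℂ)) := by
      rw [← Submodule.span_union]
      exact hθz
    obtain ⟨θX, hθX, θY, hθY, hsum⟩ := Submodule.mem_sup.mp hsup
    have hθX' : θX ∈ Cfsg.zspan X := hθX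
    have hθY' : θY ∈ Cfsg.zspan Y := hθY
    have hgX : ∀ ξ ∈ X, Cfsg.IsGeneralizedCharacter N ξ := fun ξ hξ =>
      Cfsg.Agent.Helper24.IsIrrCharacter.isGeneralizedCharacter (hirrX ξ hξ)
    obtain ⟨x, hx⟩ := apply_one_int_of_mem_zspan hgX hθX'
    have hy : θY 1 = -(x : ℂ) := by
      have := congrFun hsum 1
      simp only [Pi.add_apply] at this
      rw [hθ1, hx] at this
      linear_combination this
    obtain ⟨c, hc, hc1⟩ := irr_degree_pos (hirrX χ₀ hχ₀)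
    obtain ⟨e, he, he1⟩ := irr_degree_pos (hirrY η₀ hη₀)
    have hχ₀z := mem_zspan_of_mem hχ₀
    have hη₀z := mem_zspan_of_mem hη₀
    -- the three pieces
    have hA1 : ((c : ℤ) • θX) ∈ Cfsg.zspan X := zspan_zsmul_mem _ hθX'
    have hA2 : ((-x) • χ₀) ∈ Cfsg.zspan X := zspan_zsmul_mem _ hχ₀z
    have hA : ((c : ℤ) • θX + (-x) • χ₀) ∈ Cfsg.zspan X := zspan_add_mem hA1 hA2
    have hAone : ((c : ℤ) • θX + (-x) • χ₀) 1 = 0 := by
      show (c : ℤ) • θX 1 + (-x) • χ₀ 1 = 0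
      rw [hx, hc1, zsmul_eq_mul, zsmul_eq_mul]
      push_cast
      ring
    have hB1 : ((e : ℤ) • θY) ∈ Cfsg.zspan Y := zspan_zsmul_mem _ hθY'
    have hB2 : (x • η₀) ∈ Cfsg.zspan Y := zspan_zsmul_mem _ hη₀z
    have hB : ((e : ℤ) • θY + x • η₀) ∈ Cfsg.zspan Y := zspan_add_mem hB1 hB2
    have hBone : ((e : ℤ) • θY + x • η₀) 1 = 0 := by
      show (e : ℤ) • θY 1 + x • η₀ 1 = 0
      rw [hy, he1, zsmul_eq_mul, zsmul_eq_mul]
      push_cast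
      ring
    have hDeq : χ₀ 1 • η₀ - η₀ 1 • χ₀ = (c : ℤ) • η₀ + (-(e : ℤ)) • χ₀ := by
      rw [hc1, he1]
      simp only [← Int.cast_smul_eq_zsmul ℂ]
      push_cast
      rw [neg_smul, sub_eq_add_neg]
    have hD : ((c : ℤ) • η₀ + (-(e : ℤ)) • χ₀) ∈ Cfsg.zspan S :=
      zspan_add_mem (zspan_zsmul_mem _ (zspan_mono hYS hη₀z))
        (zspan_zsmul_mem _ (zspan_mono hXS hχ₀z))
    have hDone : ((c : ℤ) • η₀ + (-(e : ℤ)) • χ₀) 1 = 0 := by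
      show (c : ℤ) • η₀ 1 + (-(e : ℤ)) • χ₀ 1 = 0
      rw [hc1, he1, zsmul_eq_mul, zsmul_eq_mul]
      push_cast
      ring
    have hAS := mem_zspanOn_compl_one.mpr ⟨zspan_mono hXS hA, hAone⟩
    have hBS := mem_zspanOn_compl_one.mpr ⟨zspan_mono hYS hB, hBone⟩
    have hDS := mem_zspanOn_compl_one.mpr ⟨hD, hDone⟩
    have hθS : θ ∈ Cfsg.zspanOn S {1}ᶜ :=
      mem_zspanOn_compl_one.mpr ⟨zspan_mono hXYS hθz, hθ1⟩
    -- closure of zspanOn under the operations we need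
    have hzs : ∀ (n : ℤ) (f : N → ℂ), f ∈ Cfsg.zspanOn S {1}ᶜ → n • f ∈ Cfsg.zspanOn S {1}ᶜ := by
      intro n f hf
      rw [mem_zspanOn_compl_one] at hf ⊢
      refine ⟨zspan_zsmul_mem n hf.1, ?_⟩
      show n • f 1 = 0
      rw [hf.2, smul_zero]
    have hzadd : ∀ (f g : N → ℂ), f ∈ Cfsg.zspanOn S {1}ᶜ → g ∈ Cfsg.zspanOn S {1}ᶜ →
        f + g ∈ Cfsg.zspanOn S {1}ᶜ := by
      intro f g hf hg
      rw [mem_zspanOn_compl_one] at hf hg ⊢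
      refine ⟨zspan_add_mem hf.1 hg.1, ?_⟩
      show f 1 + g 1 = 0
      rw [hf.2, hg.2, add_zero]
    -- the identity
    have hid : ((c : ℤ) * (e : ℤ)) • θ
        = ((e : ℤ) • ((c : ℤ) • θX + (-x) • χ₀) + (c : ℤ) • ((e : ℤ) • θY + x • η₀))
          + (-x) • ((c : ℤ) • η₀ + (-(e : ℤ)) • χ₀) := by
      rw [← hsum]
      module
    -- apply α
    have hα_id : ((c : ℤ) * (e : ℤ)) • α θ
        = ((e : ℤ) • σ ((c : ℤ) • θX + (-x) • χ₀) + (c : ℤ) • τ ((e : ℤ) • θY + x • η₀))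
          + (-x) • (χ₀ 1 • τ η₀ - η₀ 1 • σ χ₀) := by
      rw [← hα.2.1 θ hθS, hid,
        hα.1 _ (hzadd _ _ (hzs _ _ hAS) (hzs _ _ hBS)) _ (hzs _ _ hDS),
        hα.1 _ (hzs _ _ hAS) _ (hzs _ _ hBS), hα.2.1 _ hAS, hα.2.1 _ hBS, hα.2.1 _ hDS,
        ← hDeq, hkey, hσα _ (mem_zspanOn_compl_one.mpr ⟨hA, hAone⟩),
        hτα _ (mem_zspanOn_compl_one.mpr ⟨hB, hBone⟩)]
    -- apply the glued map
    have hτ_id : ((c : ℤ) * (e : ℤ)) • coordExt (X ∪ Y) e' θ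
        = ((e : ℤ) • σ ((c : ℤ) • θX + (-x) • χ₀) + (c : ℤ) • τ ((e : ℤ) • θY + x • η₀))
          + (-x) • (χ₀ 1 • τ η₀ - η₀ 1 • σ χ₀) := by
      rw [← coordExt_zsmul, hid, coordExt_add, coordExt_add, coordExt_zsmul, coordExt_zsmul,
        coordExt_zsmul, hτ₁X _ hA, hτ₁Y _ hB, ← hDeq, coordExt_sub, coordExt_smul, coordExt_smul,
        hτ₁Y _ hη₀z, hτ₁X _ hχ₀z]
    have hce : ((c : ℤ) * (e : ℤ)) ≠ 0 := by
      have h1 : (c : ℤ) ≠ 0 := by exact_mod_cast hc.ne'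
      have h2 : (e : ℤ) ≠ 0 := by exact_mod_cast he.ne'
      exact mul_ne_zero h1 h2
    exact zsmul_left_cancel_fun hce (hτ_id.trans hα_id.symm)

end Part2

/-- Let N be a subgroup of the finite group G, S a set of irreducible characters of N, and α a linear isometry on the integer combinations of S vanishing at 1 with values virtual characters of G vanishing at 1. Let X, Y ⊆ S be disjoint, each with at least two members, and σ, τ linear isometries on ℤ[X], ℤ[Y] into virtual characters agreeing with α on the members vanishing at 1. Then ⟨σ χ, τ η⟩ = 0 for χ ∈ X, η ∈ Y; and if for some χ₀ ∈ X, η₀ ∈ Y with degrees c = χ₀ 1, e = η₀ 1 one has α (c • η₀ − e • χ₀) = c • τ η₀ − e • σ χ₀, then (X ∪ Y, N minus 1, α) is coherent. -/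
theorem result {G : Type*} [Group G] [Fintype G] (N : Subgroup G) [Fintype N] (S X Y : Set (N → ℂ)) (hirr : ∀ ξ ∈ S, Cfsg.IsIrrCharacter N ξ) (hXS : X ⊆ S) (hYS : Y ⊆ S) (hXY : Disjoint X Y) (hX2 : ∃ a ∈ X, ∃ b ∈ X, a ≠ b) (hY2 : ∃ a ∈ Y, ∃ b ∈ Y, a ≠ b) (α : (N → ℂ) → (G → ℂ)) (hα : Cfsg.IsLinearIsometryOn (Cfsg.zspanOn S {1}ᶜ) α) (hα1 : ∀ θ ∈ Cfsg.zspanOn S {1}ᶜ, α θ 1 = 0) (σ τ : (N → ℂ) → (G → ℂ)) (hσ : Cfsg.IsLinearIsometryOn (Cfsg.zspan X) σ) (hσα : ∀ θ ∈ Cfsg.zspanOn X {1}ᶜ, σ θ = α θ) (hτ : Cfsg.IsLinearIsometryOn (Cfsg.zspan Y) τ) (hτα : ∀ θ ∈ Cfsg.zspanOn Y {1}ᶜ, τ θ = α θ) : (∀ χ ∈ X, ∀ η ∈ Y, Cfsg.classInner (σ χ) (τ η) = 0) ∧ ((∃ χ₀ ∈ X, ∃ η₀ ∈ Y, α (χ₀ 1 • η₀ - η₀ 1 • χ₀) = χ₀ 1 • τ η₀ - η₀ 1 • σ χ₀) → Cfsg.IsCoherent (X ∪ Y) {1}ᶜ α) := by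
  have hp1 := part1 N S X Y hirr hXS hYS hXY hX2 hY2 α hα hα1 σ τ hσ hσα hτ hτα
  refine ⟨hp1, ?_⟩
  rintro ⟨χ₀, hχ₀, η₀, hη₀, hkey⟩
  exact part2 N S X Y hirr hXS hYS hXY hX2 α hα σ τ hσ hσα hτ hτα hp1 χ₀ hχ₀ η₀ hη₀ hkey

end Cfsg.Agent.S1531
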