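import Cfsg.Statements.S1535
import Cfsg.Agent.Helper8.FS10
import Cfsg.Agent.Helper5.PartG

set_option autoImplicit false
open Cfsg

namespace Cfsg.Agent.S1535

/-- Let N be a finite group with a proper nontrivial normal subgroup H such that every element commuting with a non-identity element of H lies in H (N is a Frobenius group with kernel H); let e be the index of H and suppose Nat.card H ≠ e + 1. Let S be the set of irreducible characters χ of N with χ h ≠ χ 1 for some h ∈ H, and τ a linear isometry on the integer combinations of S vanishing at 1, with values virtual characters of a finite group G vanishing at 1. Then (S, N minus 1, τ) is coherent, or there is a prime p with Nat.card H a power of p, H non-abelian and [H : [H,H]] ≤ 4e² + 1. -/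
theorem result {N : Type*} [Group N] [Fintype N] {G : Type*} [Group G] [Fintype G] (H : Subgroup N) [H.Normal] (hH1 : H ≠ ⊥) (hH2 : H ≠ ⊤) (hC : ∀ h ∈ H, h ≠ 1 → Subgroup.centralizer ({h} : Set N) ≤ H) (he : Nat.card H ≠ H.index + 1) (τ : (N → ℂ) → (G → ℂ)) (hτ : Cfsg.IsLinearIsometryOn (Cfsg.zspanOn {χ : N → ℂ | Cfsg.IsIrrCharacter N χ ∧ ∃ h ∈ H, χ h ≠ χ 1} {1}ᶜ) τ) (hτ1 : ∀ α ∈ Cfsg.zspanOn {χ : N → ℂ | Cfsg.IsIrrCharacter N χ ∧ ∃ h ∈ H, χ h ≠ χ 1} {1}ᶜ, τ α 1 = 0) : Cfsg.IsCoherent {χ : N → ℂ | Cfsg.IsIrrCharacter N χ ∧ ∃ h ∈ H, χ h ≠ χ 1} {1}ᶜ τ ∨ ∃ p : ℕ, p.Prime ∧ (∃ m : ℕ, Nat.card H = p ^ m) ∧ ¬ IsMulCommutative H ∧ (⁅H, H⁆.subgroupOf H).index ≤ 4 * H.index ^ 2 + 1 := by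
  classical
  open Cfsg.Agent.Helper8.FS in
  have hF : ∀ n : N, n ∉ H → ∀ k ∈ H, k * n = n * k → k = 1 := frobF_of_centralizer H hC
  have hnil : Group.IsNilpotent H := by
    refine Cfsg.Agent.Helper5.Part.frob_kernel_nilpotent H ⊤ (lt_top_iff_ne_top.mpr hH2)
      (fun x _ h hh => ‹H.Normal›.conj_mem h hh x) ?_
    intro x _ hx h hh hxh
    exact hF x hx h hh hxh.symm
  haveI := hnil
  have he0 : 0 < H.index := Nat.pos_of_ne_zero Subgroup.index_ne_zero_of_finite
  rw [← Cfsg.Agent.Helper8.FS.coe_SA_bot H] at hτ hτ1 ⊢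
  have hcardH : Nat.card H ≠ 1 := fun h => hH1 (Subgroup.card_eq_one.mp h)
  by_cases hbig : 4 * H.index ^ 2 + 2 ≤ (⁅H, H⁆ : Subgroup N).relIndex H
  · left
    obtain ⟨hcoh0, ψ, hψ⟩ := Cfsg.Agent.Helper8.FS.coh_base H hF τ hτ hτ1 ⁅H, H⁆
      (Subgroup.commutator_le_self H)
      (fun ξ hξ => Cfsg.Agent.Helper8.FS.charDegree_eq_index H hF hξ)
      (by omega) (by nlinarith)
    exact Cfsg.Agent.Helper8.FS.coh_chain_I H hF τ hτ hτ1 hbig ψ hψ hcoh0
  · by_cases hp : ∃ p : ℕ, p.Prime ∧ ∃ m : ℕ, Nat.card H = p ^ m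
    · by_cases hab : IsMulCommutative H
      · left
        have hbot : (⁅H, H⁆ : Subgroup N) = ⊥ := by
          rw [Subgroup.commutator_eq_bot_iff_le_centralizer]
          intro x hx
          rw [Subgroup.mem_centralizer_iff]
          intro y hy
          have := hab.is_comm.comm (⟨y, hy⟩ : H) ⟨x, hx⟩
          exact congrArg Subtype.val this
        have := Cfsg.Agent.Helper8.FS.coh_base H hF τ hτ hτ1 ⁅H, H⁆
          (Subgroup.commutator_le_self H)
          (fun ξ hξ => Cfsg.Agent.Helper8.FS.charDegree_eq_index H hF hξ)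
          (by rw [hbot, Subgroup.relIndex_bot_left]; exact hcardH)
          (by rw [hbot, Subgroup.relIndex_bot_left]; exact he)
        rw [hbot] at this
        exact this.1
      · right
        obtain ⟨p, hp, m, hm⟩ := hp
        refine ⟨p, hp, ⟨m, hm⟩, hab, ?_⟩
        change (⁅H, H⁆ : Subgroup N).relIndex H ≤ _
        omega
    · left
      obtain ⟨T, C, hTn, hCn, hsup, hinf, hT, hC'⟩ :=
        Cfsg.Agent.Helper8.FS.exists_TC H hnil hH1 hp
      exact Cfsg.Agent.Helper8.FS.coh_chain_II H hF τ hτ hτ1 T C hsup hinf hT hC'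

end Cfsg.Agent.S1535
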