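import Mathlib
import Cfsg.Statements.S0878
import Cfsg.Agent.Helper5.Zassenhaus

set_option autoImplicit false
open Cfsg

namespace Cfsg.Agent.S0878

open Cfsg.Agent.Helper5.Zassenhaus MulAction

/-- Let G be a Zassenhaus group on the finite set Ω, a a point, and let H be the subgroup of the stabilizer of a consisting of the identity and the elements fixing no point other than a (given here as a subgroup of the stabilizer of order one less than the number of points whose non-identity elements fix only a; it is the Frobenius kernel of the stabilizer). Then an element outside the stabilizer of a conjugates no non-identity element of H into H, and the normalizer of H is exactly the stabilizer of a. -/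
theorem result {G Ω : Type*} [Group G] [Finite G] [MulAction G Ω] [Fintype Ω] (hZ : Cfsg.IsZassenhausGroup G Ω) (a : Ω) (H : Subgroup G) (hHa : H ≤ MulAction.stabilizer G a) (hHcard : Nat.card H + 1 = Fintype.card Ω) (hHfix : ∀ u ∈ H, u ≠ 1 → ∀ c : Ω, u • c = c → c = a) : (∀ g : G, g ∉ MulAction.stabilizer G a → ∀ u ∈ H, g * u * g⁻¹ ∈ H → u = 1) ∧ Subgroup.normalizer (H : Set G) = MulAction.stabilizer G a := by
  have part1 : ∀ g : G, g ∉ MulAction.stabilizer G a → ∀ u ∈ H, g * u * g⁻¹ ∈ H → u = 1 := by
    intro g hg u hu hgu
    by_contra hu1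
    apply hg
    have hne : g * u * g⁻¹ ≠ 1 := by
      intro h
      apply hu1
      have h2 : g * u = g := by
        have := congrArg (fun x => x * g) h
        simpa [mul_assoc] using this
      exact mul_left_cancel (a := g) (by rw [h2, mul_one])
    have hua : u • a = a := hHa hu
    have := hHfix _ hgu hne (g • a) (by
      rw [mul_smul, mul_smul, inv_smul_smul, hua])
    exact this
  refine ⟨part1, ?_⟩
  -- H is the whole kernel set
  let K : Set (stabilizer G a) := {g | g = 1 ∨ ∀ c : Ω, (g : G) • c = c → c = a}
  let HA : Set (stabilizer G a) := {x | (x : G) ∈ H}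
  have hsub : HA ⊆ K := by
    intro x hx
    by_cases h1 : x = 1
    · exact Or.inl h1
    · right
      intro c hc
      exact hHfix _ hx (fun h => h1 (Subtype.ext h)) c hc
  have hcardHA : HA.ncard = Nat.card H := by
    rw [← Nat.card_coe_set_eq]
    apply Nat.card_congr
    exact {
      toFun := fun x => ⟨x.1.1, x.2⟩
      invFun := fun u => ⟨⟨u.1, hHa u.2⟩, u.2⟩
      left_inv := fun x => rfl
      right_inv := fun u => rfl }
  have hcardK : K.ncard + 1 = Fintype.card Ω := by
    rw [← Nat.card_coe_set_eq]
    exact card_kernel_set hZ a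
  have hHK : HA = K := by
    apply Set.eq_of_subset_of_ncard_le hsub _ (Set.toFinite K)
    omega
  have claim : ∀ g ∈ stabilizer G a, ∀ u ∈ H, g * u * g⁻¹ ∈ H := by
    intro g hg u hu
    have hxK : (⟨g, hg⟩ * ⟨u, hHa hu⟩ * ⟨g, hg⟩⁻¹ : stabilizer G a) ∈ K := by
      by_cases hu1 : u = 1
      · left
        apply Subtype.ext
        simp [hu1]
      · right
        intro c hc
        have hc' : g • u • g⁻¹ • c = c := by
          simpa [mul_smul] using hc
        have h2 : u • (g⁻¹ • c) = g⁻¹ • c := by
          have := congrArg (fun x => g⁻¹ • x) hc'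
          simpa using this
        have h3 := hHfix u hu hu1 _ h2
        have hga : g • a = a := hg
        rw [← hga, ← h3, smul_inv_smul]
    rw [← hHK] at hxK
    exact hxK
  ext g
  constructor
  · intro hg
    by_contra hga
    -- pick a nonidentity element of H
    have hcard3 : 2 ≤ Nat.card H := by
      obtain ⟨g0, hg0, a', b', hab', -⟩ := hZ.2.2.2.1
      obtain ⟨c, hca, hcb⟩ := exists_third hZ hab'
      have : 2 < Fintype.card Ω := by
        rw [Fintype.two_lt_card_iff]
        exact ⟨a', b', c, hab', hca.symm, hcb.symm⟩
      omega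
    have : Nontrivial H := by
      rw [← Finite.one_lt_card_iff_nontrivial]
      omega
    obtain ⟨u, hu⟩ := exists_ne (1 : H)
    have hgu : g * u * g⁻¹ ∈ H := (Subgroup.mem_normalizer_iff.mp hg u).mp u.2
    have := part1 g hga u u.2 hgu
    exact hu (Subtype.ext this)
  · intro hg
    rw [Subgroup.mem_normalizer_iff]
    intro h
    constructor
    · exact claim g hg h
    · intro hh
      have hg' : g⁻¹ ∈ stabilizer G a := inv_mem hg
      have := claim g⁻¹ hg' _ hh
      simpa [mul_assoc] using this

end Cfsg.Agent.S0878
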