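import Mathlib
import Cfsg.Statements.S0754

set_option autoImplicit false
open Cfsg

namespace Cfsg.Agent.S0754

/-- In a field F with q^2 elements, every non-zero μ with μ^q = μ (that is, μ in the subfield of order q) has exactly q + 1 solutions λ of λ^(q+1) = μ. -/
theorem result {F : Type*} [Field F] [Fintype F] {q : ℕ} (hF : Fintype.card F = q ^ 2) (μ : F) (hμ : μ ≠ 0) (hμq : μ ^ q = μ) : Nat.card {x : F // x ^ (q + 1) = μ} = q + 1 := by
  classical
  have hq2 : 2 ≤ q := by
    have h1 : 1 < Fintype.card F := Fintype.one_lt_card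
    rw [hF] at h1
    by_contra h
    have : q ≤ 1 := by omega
    interval_cases q <;> simp at h1
  have hcard : Nat.card Fˣ = (q + 1) * (q - 1) := by
    rw [Nat.card_eq_fintype_card, Fintype.card_units, hF]
    have : q ^ 2 = (q + 1) * (q - 1) + 1 := by
      obtain ⟨k, rfl⟩ : ∃ k, q = k + 2 := ⟨q - 2, by omega⟩
      have : k + 2 - 1 = k + 1 := by omega
      rw [this]; ring
    omega
  set φ : Fˣ →* Fˣ := powMonoidHom (q + 1) with hφ
  set ψ : Fˣ →* Fˣ := powMonoidHom (q - 1) with hψ
  have hkerφ : Nat.card φ.ker = q + 1 := by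
    rw [IsCyclic.card_powMonoidHom_ker, hcard]
    exact Nat.gcd_eq_right (Dvd.intro _ rfl)
  have hrangeφ : Nat.card φ.range = q - 1 := by
    rw [IsCyclic.card_powMonoidHom_range, hcard, Nat.gcd_eq_right (Dvd.intro _ rfl)]
    exact Nat.mul_div_cancel_left _ (by omega)
  have hkerψ : Nat.card ψ.ker = q - 1 := by
    rw [IsCyclic.card_powMonoidHom_ker, hcard]
    exact Nat.gcd_eq_right (Dvd.intro_left _ rfl)
  have hle : φ.range ≤ ψ.ker := by
    rintro _ ⟨x, rfl⟩
    rw [MonoidHom.mem_ker]
    simp only [hφ, hψ, powMonoidHom_apply]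
    rw [← pow_mul, ← hcard]
    exact pow_card_eq_one'
  have heq : φ.range = ψ.ker := by
    apply Subgroup.eq_of_le_of_card_ge hle
    rw [hkerψ, hrangeφ]
  set u : Fˣ := Units.mk0 μ hμ with hu
  have humem : u ∈ ψ.ker := by
    rw [MonoidHom.mem_ker]
    simp only [hψ, powMonoidHom_apply]
    ext
    simp only [Units.val_pow_eq_pow_val, hu, Units.val_mk0, Units.val_one]
    have : μ ^ (q - 1) * μ = 1 * μ := by
      rw [← pow_succ, one_mul]
      have : q - 1 + 1 = q := by omega
      rw [this, hμq]
    exact mul_right_cancel₀ hμ this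
  rw [← heq] at humem
  obtain ⟨x0, hx0⟩ := humem
  simp only [hφ, powMonoidHom_apply] at hx0
  -- bijection between solutions and the kernel
  have e : {x : F // x ^ (q + 1) = μ} ≃ φ.ker :=
    { toFun := fun x =>
        ⟨Units.mk0 x.1 (by
            intro h
            have := x.2
            rw [h, zero_pow (by omega)] at this
            exact hμ this.symm) * x0⁻¹, by
          rw [MonoidHom.mem_ker]
          simp only [hφ, powMonoidHom_apply, mul_pow, inv_pow, hx0]
          ext
          simp only [Units.val_mul, Units.val_pow_eq_pow_val, Units.val_mk0, x.2, hu, Units.val_inv_eq_inv_val,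
            Units.val_one]
          exact mul_inv_cancel₀ hμ⟩
      invFun := fun k => ⟨((k.1 * x0 : Fˣ) : F), by
          have hk := k.2
          rw [MonoidHom.mem_ker] at hk
          simp only [hφ, powMonoidHom_apply] at hk
          rw [← Units.val_pow_eq_pow_val, mul_pow, hk, one_mul, hx0, hu, Units.val_mk0]⟩
      left_inv := fun x => by
        ext
        simp
      right_inv := fun k => by
        ext
        simp }
  rw [Nat.card_congr e, hkerφ]

end Cfsg.Agent.S0754
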