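import Cfsg.Statements.S0985
import Mathlib

set_option autoImplicit false
open Cfsg

namespace Cfsg.Agent.S0985

/-- The stabilizer of a Sylow subgroup `R` under the conjugation action of the Sylow subgroup `P`. -/
theorem stab_eq {G : Type*} [Group G] (p : ℕ) [Fact p.Prime] (P R : Sylow p G) :
    MulAction.stabilizer (↥(P : Subgroup G)) R = (R : Subgroup G).subgroupOf (P : Subgroup G) := by
  ext x
  rw [MulAction.mem_stabilizer_iff, Subgroup.mem_subgroupOf]
  have h1 : x • R = R ↔ (x : G) • R = R := Iff.rfl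
  rw [h1, Sylow.smul_eq_iff_mem_normalizer]
  have h2 := P.2.inf_normalizer_sylow R
  constructor
  · intro hx
    have h3 : (x : G) ∈ (P : Subgroup G) ⊓ Subgroup.normalizer (R : Set G) := ⟨x.2, hx⟩
    rw [h2] at h3
    exact h3.2
  · intro hx
    exact Subgroup.le_normalizer hx

theorem result {G : Type*} [Group G] [Finite G] (p k : ℕ) [Fact p.Prime] (h : ¬ Nat.card (Sylow p G) ≡ 1 [MOD p ^ k]) : ∃ P R : Sylow p G, P ≠ R ∧ ((R : Subgroup G).subgroupOf (P : Subgroup G)).index ≤ p ^ (k - 1) := by
  classical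
  by_contra hcon
  push Not at hcon
  apply h
  obtain ⟨P⟩ : Nonempty (Sylow p G) := inferInstance
  have : Fintype G := Fintype.ofFinite G
  have : Fintype (Sylow p G) := Fintype.ofFinite _
  have : Fintype (Quotient (MulAction.orbitRel (↥(P : Subgroup G)) (Sylow p G))) := Fintype.ofFinite _
  have key := MulAction.card_eq_sum_card_group_div_card_stabilizer (↥(P : Subgroup G)) (Sylow p G)
  rw [Nat.card_eq_fintype_card, key]
  -- the term of a Sylow subgroup R
  have hterm : ∀ R : Sylow p G, Fintype.card ↥(P : Subgroup G) / Fintype.card (MulAction.stabilizer (↥(P : Subgroup G)) R)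
      = ((R : Subgroup G).subgroupOf (P : Subgroup G)).index := by
    intro R
    rw [← stab_eq p P R]
    have := Subgroup.index_mul_card (MulAction.stabilizer (↥(P : Subgroup G)) R)
    rw [Nat.card_eq_fintype_card, Nat.card_eq_fintype_card] at this
    rw [← this, Nat.mul_div_cancel]
    exact Fintype.card_pos
  -- the distinguished orbit
  set ω₀ : Quotient (MulAction.orbitRel (↥(P : Subgroup G)) (Sylow p G)) := Quotient.mk'' P with hω₀
  have hout : ∀ ω : Quotient (MulAction.orbitRel (↥(P : Subgroup G)) (Sylow p G)), ω.out = P ↔ ω = ω₀ := by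
    intro ω
    constructor
    · intro h1
      calc ω = Quotient.mk'' ω.out := (Quotient.out_eq' ω).symm
        _ = ω₀ := by rw [h1]
    · intro h1
      have h2 : Quotient.mk'' ω.out = (Quotient.mk'' P : Quotient (MulAction.orbitRel (↥(P : Subgroup G)) (Sylow p G))) := by
        rw [Quotient.out_eq', h1]
      have h3 := Quotient.exact' h2
      change ω.out ∈ MulAction.orbit (↥(P : Subgroup G)) P at h3
      obtain ⟨x, hx⟩ := h3
      have hx' : (x : G) • P = ω.out := hx
      rw [← hx', Sylow.smul_eq_iff_mem_normalizer]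
      exact Subgroup.le_normalizer x.2
  set F : Quotient (MulAction.orbitRel (↥(P : Subgroup G)) (Sylow p G)) → ℕ :=
    fun ω => Fintype.card ↥(P : Subgroup G) / Fintype.card (MulAction.stabilizer (↥(P : Subgroup G)) ω.out) with hF
  have hsplit : ∑ ω, F ω = F ω₀ + ∑ ω ∈ Finset.univ.erase ω₀, F ω :=
    (Finset.add_sum_erase _ _ (Finset.mem_univ ω₀)).symm
  have h0 : F ω₀ = 1 := by
    simp only [hF]
    rw [(hout ω₀).mpr rfl, hterm P]
    simp
  have hrest : p ^ k ∣ ∑ ω ∈ Finset.univ.erase ω₀, F ω := by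
    apply Finset.dvd_sum
    intro ω hω
    have hne : ω.out ≠ P := fun h1 => (Finset.ne_of_mem_erase hω) ((hout ω).mp h1)
    simp only [hF]
    rw [hterm]
    have hlt := hcon P ω.out hne.symm
    -- the index is a power of p
    have hdvd : ((ω.out : Subgroup G).subgroupOf (P : Subgroup G)).index ∣ Nat.card ↥(P : Subgroup G) :=
      Subgroup.index_dvd_card _
    obtain ⟨n, hn⟩ := IsPGroup.iff_card.mp P.2
    rw [hn] at hdvd
    obtain ⟨j, hj, hj'⟩ := (Nat.dvd_prime_pow (Fact.out : p.Prime)).mp hdvd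
    rw [hj'] at hlt ⊢
    apply pow_dvd_pow
    by_contra hkj
    push Not at hkj
    have : p ^ j ≤ p ^ (k - 1) := Nat.pow_le_pow_right (Fact.out : p.Prime).pos (by omega)
    omega
  obtain ⟨c, hc⟩ := hrest
  change ∑ ω, F ω ≡ 1 [MOD p ^ k]
  rw [hsplit, h0, hc]
  unfold Nat.ModEq
  rw [Nat.add_mul_mod_self_left]

end Cfsg.Agent.S0985
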