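import Mathlib
import Cfsg.Statements.S1050
import Cfsg.Agent.Helper6.Chev.Borel
import Cfsg.Agent.Helper6.Chev.TablesReach
import Cfsg.Agent.Helper6.Chev.TablesAddC

set_option autoImplicit false
open Cfsg

namespace Cfsg.Agent.S1050

open Cfsg.Lie Cfsg.Agent.Helper6

/-- a group with a solvable normal subgroup `U` and a commutative-elementwise subgroup `H` with `U ⊔ H = ⊤` is solvable -/
theorem solvable_of_sup {G : Type*} [Group G] (U H : Subgroup G) [U.Normal]
    (hU : Group.IsSolvable U) (hH : ∀ a ∈ H, ∀ b ∈ H, a * b = b * a) (hsup : U ⊔ H = ⊤) :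
    Group.IsSolvable G := by
  have hQ : Group.IsSolvable (G ⧸ U) := by
    apply Group.isSolvable_of_comm
    have hsurj : ∀ q : G ⧸ U, ∃ h ∈ H, (QuotientGroup.mk h : G ⧸ U) = q := by
      intro q
      obtain ⟨g, rfl⟩ := QuotientGroup.mk_surjective q
      have hg : g ∈ U ⊔ H := by rw [hsup]; trivial
      rw [← SetLike.mem_coe, Subgroup.normal_mul, Set.mem_mul] at hg
      obtain ⟨u, hu, h, hh, rfl⟩ := hg
      refine ⟨h, hh, ?_⟩
      rw [QuotientGroup.eq]
      have : h⁻¹ * (u * h) = h⁻¹ * u * h := by group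
      rw [this]
      have := Subgroup.Normal.conj_mem ‹U.Normal› u hu h⁻¹
      simpa using this
    intro a b
    obtain ⟨h₁, hh₁, rfl⟩ := hsurj a
    obtain ⟨h₂, hh₂, rfl⟩ := hsurj b
    rw [← QuotientGroup.mk_mul, ← QuotientGroup.mk_mul, hH h₁ hh₁ h₂ hh₂]
  exact Group.isSolvable_of_ker_le_range U.subtype (QuotientGroup.mk' U)
    (by rw [QuotientGroup.ker_mk', Subgroup.range_subtype])

/-- `B = UH` is solvable (U nilpotent, H abelian, U ⊴ B). -/
theorem result {F : Type*} [Field F] (D : Cfsg.Lie.ChevalleyDatum) (hD : D ∈ [Cfsg.Lie.chevG2, Cfsg.Lie.chevB2, Cfsg.Lie.chevD4, Cfsg.Lie.chevF4, Cfsg.Lie.chevE6, Cfsg.Lie.chevE7, Cfsg.Lie.chevE8]) : Group.IsSolvable ↥(D.borelSubgroup F) := by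
  have hB := basicOK_of_tabulated hD
  have hAll : ∀ i < D.rank, SimpleAll D i := fun i hi => simpleAll_of_tabulated hD hi
  have hAdd : ∀ i < D.rank, AddOK D i := fun i hi => addOK_of_tabulated hD hi
  have hH : ∀ r < D.nroots, HDiag D F r (aOf D r) := fun r hr => hDiag_of_tabulated hD hr
  have hUB : D.posUnipotent F ≤ D.borelSubgroup F := by
    unfold ChevalleyDatum.borelSubgroup; exact le_sup_left
  have hHB : D.diagonalSubgroup F ≤ D.borelSubgroup F := by
    unfold ChevalleyDatum.borelSubgroup; exact le_sup_right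
  have hnorm : ((D.posUnipotent F).subgroupOf (D.borelSubgroup F)).Normal := by
    rw [Subgroup.normal_subgroupOf_iff_le_normalizer hUB]
    unfold ChevalleyDatum.borelSubgroup
    exact sup_le Subgroup.le_normalizer (diagonal_le_normalizer_posUnipotent hB hAll hAdd hH)
  have hnil : Group.IsNilpotent (D.posUnipotent F) := Chev.nilpotent_of_good (Chev.good_of_mem hD)
  have hsolvU : Group.IsSolvable ((D.posUnipotent F).subgroupOf (D.borelSubgroup F)) := by
    have : Group.IsSolvable (D.posUnipotent F) := inferInstance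
    exact Group.isSolvable_of_isSolvable_injective
      (f := (Subgroup.subgroupOfEquivOfLe hUB).toMonoidHom) (Subgroup.subgroupOfEquivOfLe hUB).injective
  apply solvable_of_sup ((D.posUnipotent F).subgroupOf (D.borelSubgroup F))
    ((D.diagonalSubgroup F).subgroupOf (D.borelSubgroup F)) hsolvU
  · intro a ha b hb
    rw [Subgroup.mem_subgroupOf] at ha hb
    obtain ⟨c, _, hc⟩ := exists_torMat_of_mem_diagonal hB hH ha
    obtain ⟨d, _, hd⟩ := exists_torMat_of_mem_diagonal hB hH hb
    apply Subtype.ext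
    apply Units.ext
    simp only [Subgroup.coe_mul, Units.val_mul]
    rw [hc, hd, torMat_mul, torMat_mul]
    congr 1
    funext i
    exact mul_comm _ _
  · rw [← Subgroup.subgroupOf_sup hUB hHB]
    unfold ChevalleyDatum.borelSubgroup
    exact Subgroup.subgroupOf_self _

end Cfsg.Agent.S1050
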