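import Mathlib
import Cfsg.Statements.S2618
import Cfsg.Agent.Helper13.QuadWitt

set_option autoImplicit false
open Cfsg

namespace Cfsg.Agent.S2618

open Module Cfsg.Agent.Helper13

theorem result {F V : Type*} [Field F] [Finite F] [AddCommGroup V] [Module F V] [FiniteDimensional F V] {m : ℕ} (hV : Module.finrank F V = 2 * m + 1) (Q : QuadraticForm F V) (hQ : (QuadraticMap.polarBilin Q).Nondegenerate) : ∃ b : Module.Basis (Unit ⊕ (Fin m ⊕ Fin m)) F V, Q (b (Sum.inl ())) ≠ 0 ∧ (∀ i, QuadraticMap.polar ⇑Q (b (Sum.inl ())) (b (Sum.inr (Sum.inl i))) = 0 ∧ QuadraticMap.polar ⇑Q (b (Sum.inl ())) (b (Sum.inr (Sum.inr i))) = 0) ∧ (∀ i, Q (b (Sum.inr (Sum.inl i))) = 0 ∧ Q (b (Sum.inr (Sum.inr i))) = 0) ∧ (∀ i j, QuadraticMap.polar ⇑Q (b (Sum.inr (Sum.inl i))) (b (Sum.inr (Sum.inr j))) = if i = j then 1 else 0) ∧ (∀ i j, QuadraticMap.polar ⇑Q (b (Sum.inr (Sum.inl i))) (b (Sum.inr (Sum.inl j))) = 0 ∧ QuadraticMap.polar ⇑Q (b (Sum.inr (Sum.inr i))) (b (Sum.inr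 (Sum.inr j))) = 0) := by
  classical
  have hQ' : ∀ v : V, (∀ w : V, QuadraticMap.polar Q v w = 0) → v = 0 := fun v hv => hQ.1 v hv
  obtain ⟨m₀, e, f, A, h⟩ := exists_wittDecomp (finrank F V) Q rfl hQ'
  have hr := h.rank
  have hA := h.rankA
  have hA1 : finrank F A = 1 := by omega
  have hm : m₀ = m := by omega
  subst hm
  obtain ⟨⟨x, hxA⟩, hx0⟩ := finrank_pos_iff_exists_ne_zero.mp (by omega : 0 < finrank F A)
  have hxne : x ≠ 0 := fun h0 => hx0 (Subtype.ext h0)
  have hQx : Q x ≠ 0 := fun h0 => hxne (h.aniso x hxA h0)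
  have hBxx : QuadraticMap.polar Q x x ≠ 0 := by
    intro h0
    apply hxne
    apply h.nondegA x hxA
    intro a' ha'
    obtain ⟨c, hc⟩ := (finrank_eq_one_iff_of_nonzero' (⟨x, hxA⟩ : A) hx0).mp hA1 ⟨a', ha'⟩
    have : a' = c • x := by
      have := congrArg Subtype.val hc
      simpa using this.symm
    rw [this, QuadraticMap.polar_smul_right, h0, smul_zero]
  have hxe : ∀ i, QuadraticMap.polar Q x (e i) = 0 := fun i => by
    rw [QuadraticMap.polar_comm]; exact h.eA x hxA i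
  have hxf : ∀ i, QuadraticMap.polar Q x (f i) = 0 := fun i => by
    rw [QuadraticMap.polar_comm]; exact h.fA x hxA i
  have hfe : ∀ i j, QuadraticMap.polar Q (f i) (e j) = if i = j then 1 else 0 := fun i j => by
    rw [QuadraticMap.polar_comm, h.ef j i]
    simp only [eq_comm]
  set v : Unit ⊕ (Fin m₀ ⊕ Fin m₀) → V := Sum.elim (fun _ => x) (Sum.elim e f) with hv
  set w : Unit ⊕ (Fin m₀ ⊕ Fin m₀) → V := Sum.elim (fun _ => x) (Sum.elim f e) with hw
  have hLI : LinearIndependent F v := by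
    apply linearIndependent_of_dual_polar Q v w
    · rintro (⟨⟩ | i | i) (⟨⟩ | j | j) hij
      · exact absurd rfl hij
      · exact hxf j
      · exact hxe j
      · exact h.eA x hxA i
      · simp only [hv, hw, Sum.elim_inr, Sum.elim_inl]
        rw [h.ef, if_neg]
        intro hij'; exact hij (by rw [hij'])
      · exact h.ee i j
      · exact h.fA x hxA i
      · exact h.ff i j
      · simp only [hv, hw, Sum.elim_inr]
        rw [hfe, if_neg]
        intro hij'; exact hij (by rw [hij'])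
    · rintro (⟨⟩ | i | i)
      · exact hBxx
      · simp only [hv, hw, Sum.elim_inr, Sum.elim_inl]
        rw [h.ef, if_pos rfl]; exact one_ne_zero
      · simp only [hv, hw, Sum.elim_inr]
        rw [hfe, if_pos rfl]; exact one_ne_zero
  have hcard : Fintype.card (Unit ⊕ (Fin m₀ ⊕ Fin m₀)) = finrank F V := by
    simp only [Fintype.card_sum, Fintype.card_unit, Fintype.card_fin]
    omega
  refine ⟨basisOfLinearIndependentOfCardEqFinrank hLI hcard, ?_⟩
  rw [coe_basisOfLinearIndependentOfCardEqFinrank]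
  refine ⟨hQx, fun i => ⟨hxe i, hxf i⟩, fun i => ⟨h.Qe i, h.Qf i⟩, fun i j => h.ef i j,
    fun i j => ⟨h.ee i j, h.ff i j⟩⟩

end Cfsg.Agent.S2618
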