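import Mathlib
import Cfsg.Statements.S0955
import Cfsg.Agent.S0920
import Cfsg.Agent.S0912

set_option autoImplicit false
open Cfsg

namespace Cfsg.Agent.S0955

open Cfsg.Agent.Helper5.CC Cfsg.Agent.Helper5.Loc Cfsg.Agent.Helper14 Cfsg.Agent.Helper24

theorem result {G : Type*} [Group G] [Finite G] (p : ℕ) [Fact p.Prime] (M : Ideal Cfsg.AlgInt) (hM : Cfsg.IsPModular p M) (B : Set (Cfsg.IrrCharacter G)) (hB : Cfsg.IsPBlock M B) (D : Subgroup G) (hD : Cfsg.IsDefectGroup p M B D) : (Cfsg.pCore p (Subgroup.normalizer (D : Set G))).map (Subgroup.normalizer (D : Set G)).subtype = D := by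
  classical
  obtain ⟨g, hg, hgS⟩ := isDefectGroup_iff.mp hD
  have hDp : IsPGroup p D := hgS.2.1
  have hDN : D ≤ Subgroup.normalizer (D : Set G) := Subgroup.le_normalizer
  have hQn : (D.subgroupOf (Subgroup.normalizer (D : Set G))).Normal :=
    (Subgroup.normal_subgroupOf_iff_le_normalizer hDN).mpr le_rfl
  have hQ : IsPGroup p (D.subgroupOf (Subgroup.normalizer (D : Set G))) := hDp.comap_subtype
  obtain ⟨b, ⟨hb, hbD, -⟩, -⟩ := (Cfsg.Agent.S0920.result p M hM D hDp).2 B hB hD
  have hcore := Cfsg.Agent.S0912.result p M hM b hb _ hbD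
  have hle : D.subgroupOf (Subgroup.normalizer (D : Set G)) ≤
      Cfsg.pCore p (Subgroup.normalizer (D : Set G)) :=
    le_sSup (show D.subgroupOf (Subgroup.normalizer (D : Set G)) ∈
      {N : Subgroup (Subgroup.normalizer (D : Set G)) | N.Normal ∧ IsPGroup p N} from ⟨hQn, hQ⟩)
  have heq : Cfsg.pCore p (Subgroup.normalizer (D : Set G)) =
      D.subgroupOf (Subgroup.normalizer (D : Set G)) := le_antisymm hcore hle
  rw [heq, map_subtype_subgroupOf hDN]

end Cfsg.Agent.S0955
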