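import Cfsg.Statements.S0953
import Cfsg.Agent.Helper5.SylowBlocks
import Cfsg.Agent.S0920

set_option autoImplicit false
open Cfsg

namespace Cfsg.Agent.S0953

/-- Let P be a Sylow p-subgroup of the finite group G with normalizer N, and fix a maximal ideal M of the algebraic integers containing p. The number of blocks of G having P as a defect group equals the number of conjugacy classes of N consisting of elements of order prime to p that centralize P. -/
theorem result {G : Type*} [Group G] [Finite G] (p : ℕ) [Fact p.Prime] (M : Ideal Cfsg.AlgInt) (hM : Cfsg.IsPModular p M) (P : Sylow p G) : Nat.card {B : Set (Cfsg.IrrCharacter G) // Cfsg.IsPBlock M B ∧ Cfsg.IsDefectGroup p M B (P : Subgroup G)} = Nat.card {C : ConjClasses (Subgroup.normalizer ((P : Subgroup G) : Set G)) // ∀ n : Subgroup.normalizer ((P : Subgroup G) : Set G), ConjClasses.mk n = C → ¬ p ∣ orderOf n ∧ (n : G) ∈ Subgroup.centralizer ((P : Subgroup G) : Set G)} := by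
  classical
  have : Fintype G := Fintype.ofFinite G
  have hMp := Cfsg.Agent.Helper5.Loc.isPrime_of_isPModular hM
  obtain ⟨h1, h2⟩ := Cfsg.Agent.S0920.result p M hM (P : Subgroup G) P.isPGroup'
  -- uniqueness of the induced block
  have huniq : ∀ (b : Set (IrrCharacter (Subgroup.normalizer ((P : Subgroup G) : Set G))))
      (B B' : Set (IrrCharacter G)),
      IsInducedBlock M (Subgroup.normalizer ((P : Subgroup G) : Set G)) b B →
      IsInducedBlock M (Subgroup.normalizer ((P : Subgroup G) : Set G)) b B' → B = B' := by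
    intro b B B' hB hB'
    obtain ⟨ξ, hξ⟩ := Cfsg.Agent.Helper5.CC.IsPBlock.nonempty hMp hB.1
    obtain ⟨χ, hχ⟩ := Cfsg.Agent.Helper5.CC.IsPBlock.nonempty hMp hB.2.1
    obtain ⟨χ', hχ'⟩ := Cfsg.Agent.Helper5.CC.IsPBlock.nonempty hMp hB'.2.1
    have hmem : χ' ∈ blockOf M (χ : G → ℂ) := by
      intro g
      have e1 := hB.2.2 ξ hξ χ hχ g
      have e2 := hB'.2.2 ξ hξ χ' hχ' g
      have := Cfsg.Agent.Helper5.Loc.li_sub hMp e2 e1
      rwa [sub_sub_sub_cancel_left] at this
    rw [Cfsg.Agent.Helper5.CC.IsPBlock_eq_blockOf hMp hB.2.1 hχ,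
      Cfsg.Agent.Helper5.CC.IsPBlock_eq_blockOf hMp hB'.2.1 hχ',
      Cfsg.Agent.Helper5.CC.IsPBlock_eq_blockOf hMp
        (Cfsg.Agent.Helper5.CC.isPBlock_blockOf χ) hmem]
  have hstep1 : Nat.card {B : Set (IrrCharacter G) // IsPBlock M B ∧
      IsDefectGroup p M B (P : Subgroup G)} =
      Nat.card {b : Set (IrrCharacter (Subgroup.normalizer ((P : Subgroup G) : Set G))) //
        IsPBlock M b ∧ IsDefectGroup p M b
          ((P : Subgroup G).subgroupOf (Subgroup.normalizer ((P : Subgroup G) : Set G)))} := by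
    apply Nat.card_congr
    refine Equiv.ofBijective (fun B => ⟨(h2 B.1 B.2.1 B.2.2).choose,
      (h2 B.1 B.2.1 B.2.2).choose_spec.1.1, (h2 B.1 B.2.1 B.2.2).choose_spec.1.2.1⟩) ⟨?_, ?_⟩
    · intro B B' hBB'
      have e := congrArg Subtype.val hBB'
      simp only at e
      have i1 := (h2 B.1 B.2.1 B.2.2).choose_spec.1.2.2
      have i2 := (h2 B'.1 B'.2.1 B'.2.2).choose_spec.1.2.2
      rw [← e] at i2
      exact Subtype.ext (huniq _ _ _ i1 i2)
    · intro b
      obtain ⟨B, hB1, hB2, hB3⟩ := h1 b.1 b.2.1 b.2.2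
      refine ⟨⟨B, hB1, hB2⟩, ?_⟩
      apply Subtype.ext
      exact ((h2 B hB1 hB2).choose_spec.2 b.1 ⟨b.2.1, b.2.2, hB3⟩).symm
  have hSeq : ((P.subtype (Subgroup.le_normalizer) :
      Sylow p (Subgroup.normalizer ((P : Subgroup G) : Set G))) :
        Subgroup (Subgroup.normalizer ((P : Subgroup G) : Set G))) =
      (P : Subgroup G).subgroupOf (Subgroup.normalizer ((P : Subgroup G) : Set G)) :=
    Sylow.coe_subtype _ _
  have : ((P.subtype (Subgroup.le_normalizer) :
      Sylow p (Subgroup.normalizer ((P : Subgroup G) : Set G))) :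
        Subgroup (Subgroup.normalizer ((P : Subgroup G) : Set G))).Normal := by
    rw [hSeq]
    exact Subgroup.normal_in_normalizer
  have : Fintype (IrrCharacter (Subgroup.normalizer ((P : Subgroup G) : Set G))) :=
    Fintype.ofFinite _
  have hmain := Cfsg.Agent.Helper5.Rob.card_blocks_normal_sylow (M := M) hM
    (P.subtype (Subgroup.le_normalizer) :
      Sylow p (Subgroup.normalizer ((P : Subgroup G) : Set G)))
  rw [hstep1, ← hSeq, hmain]
  apply Nat.card_congr
  apply Equiv.subtypeEquivRight
  intro C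
  apply forall_congr'
  intro n
  apply imp_congr_right
  intro _
  apply and_congr_right
  intro _
  rw [hSeq, Subgroup.mem_centralizer_iff, Subgroup.mem_centralizer_iff]
  constructor
  · intro h u hu
    have hu' : u ∈ Subgroup.normalizer ((P : Subgroup G) : Set G) := Subgroup.le_normalizer hu
    have := h ⟨u, hu'⟩ (Subgroup.mem_subgroupOf.mpr hu)
    exact congrArg Subtype.val this
  · intro h u hu
    apply Subtype.ext
    exact h u.1 (Subgroup.mem_subgroupOf.mp hu)

end Cfsg.Agent.S0953
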