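import Cfsg.Statements.S2420
import Cfsg.Agent.Helper12.FlagCountE

set_option autoImplicit false
open scoped MatrixGroups
open Cfsg

namespace Cfsg.Agent.S2420

/-- The number of partial flags of a given type: for a composition `μ` of `n` (with `n` parts, zeros allowed) and a field with `q` elements, the index of the standard parabolic subgroup `P_μ` in `GL_n(q)` times `∏_i {μ_i}` equals `{n}`, where `{r}` denotes the product over `k = 1, …, r` of the q-integers `1 + q + ⋯ + q^(k−1)`. -/
theorem result {F : Type*} [Field F] [Fintype F] {q : ℕ} (hq : Fintype.card F = q) {n : ℕ} (μ : Fin n → ℕ) (hμ : ∑ i, μ i = n) :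
    Nat.card (GL (Fin n) F ⧸ Cfsg.parabolicGL n F μ) * ∏ i : Fin n, ∏ j ∈ Finset.range (μ i), ∑ l ∈ Finset.range (j + 1), q ^ l =
      ∏ j ∈ Finset.range n, ∑ l ∈ Finset.range (j + 1), q ^ l := by
  classical
  subst hq
  have hq1 : 1 ≤ Fintype.card F := Fintype.card_pos
  have hlag := Subgroup.card_eq_card_quotient_mul_card_subgroup (Cfsg.parabolicGL n F μ)
  have hP := Cfsg.Agent.Helper12.FlagCount.card_parabolicGL (F := F) μ hμ
  have hG := Matrix.card_GL_field (𝔽 := F) n
  have hPpos : 0 < Nat.card (Cfsg.parabolicGL n F μ) := Nat.card_pos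
  -- rewrite both orders with q-integers
  have hG' : Nat.card (GL (Fin n) F) =
      (∏ j : Fin n, Fintype.card F ^ j.val * (Fintype.card F - 1)) *
        ∏ j : Fin n, Cfsg.Agent.Helper12.FlagCount.qint (Fintype.card F) (n - j.val) := by
    rw [hG, ← Finset.prod_mul_distrib]
    apply Finset.prod_congr rfl
    intro j _
    rw [Cfsg.Agent.Helper12.FlagCount.pow_sub_pow _ _ _ hq1 (Nat.le_of_lt j.2), mul_assoc]
  have hP' : Nat.card (Cfsg.parabolicGL n F μ) =
      (∏ j : Fin n, Fintype.card F ^ j.val * (Fintype.card F - 1)) *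
        ∏ j : Fin n, Cfsg.Agent.Helper12.FlagCount.qint (Fintype.card F)
          (Cfsg.Agent.Helper12.FlagCount.cut μ j.val - j.val) := by
    rw [hP, ← Finset.prod_mul_distrib]
    apply Finset.prod_congr rfl
    intro j _
    rw [Cfsg.Agent.Helper12.FlagCount.pow_sub_pow _ _ _ hq1
      (Nat.le_of_lt (Cfsg.Agent.Helper12.FlagCount.lt_cut μ hμ j)), mul_assoc]
  rw [Cfsg.Agent.Helper12.FlagCount.prod_cut μ hμ] at hP'
  rw [Cfsg.Agent.Helper12.FlagCount.prod_top] at hG'
  have hX : (∏ i : Fin n, ∏ j ∈ Finset.range (μ i), ∑ l ∈ Finset.range (j + 1), Fintype.card F ^ l) =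
      ∏ a : Fin n, ∏ k ∈ Finset.range (μ a),
        Cfsg.Agent.Helper12.FlagCount.qint (Fintype.card F) (k + 1) := rfl
  have hY : (∏ j ∈ Finset.range n, ∑ l ∈ Finset.range (j + 1), Fintype.card F ^ l) =
      ∏ j ∈ Finset.range n, Cfsg.Agent.Helper12.FlagCount.qint (Fintype.card F) (j + 1) := rfl
  rw [hX, hY]
  apply Nat.eq_of_mul_eq_mul_right hPpos
  calc Nat.card (GL (Fin n) F ⧸ Cfsg.parabolicGL n F μ) *
        (∏ a : Fin n, ∏ k ∈ Finset.range (μ a),
          Cfsg.Agent.Helper12.FlagCount.qint (Fintype.card F) (k + 1)) *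
        Nat.card (Cfsg.parabolicGL n F μ)
      = Nat.card (GL (Fin n) F) * (∏ a : Fin n, ∏ k ∈ Finset.range (μ a),
          Cfsg.Agent.Helper12.FlagCount.qint (Fintype.card F) (k + 1)) := by
        rw [hlag]; ring
    _ = (∏ j ∈ Finset.range n, Cfsg.Agent.Helper12.FlagCount.qint (Fintype.card F) (j + 1)) *
        Nat.card (Cfsg.parabolicGL n F μ) := by
        rw [hG']
        conv_rhs => rw [hP']
        ring

end Cfsg.Agent.S2420
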