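import Cfsg.Statements.S2424
import Cfsg.Agent.S2420

set_option autoImplicit false
open scoped MatrixGroups
open Cfsg

namespace Cfsg.Agent.S2424

open Finset Polynomial

/-- q-integers. -/
def qn (q m : ℕ) : ℕ := ∑ l ∈ range m, q ^ l

theorem qn_add (q k d : ℕ) : qn q (k + d) = qn q k + q ^ k * qn q d := by
  unfold qn
  rw [sum_range_add, mul_sum]
  congr 1
  apply sum_congr rfl
  intro l _
  rw [pow_add]

theorem qn_pos (q m : ℕ) (hm : 1 ≤ m) : 1 ≤ qn q m := by
  obtain ⟨d, rfl⟩ : ∃ d, m = 1 + d := ⟨m - 1, by omega⟩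
  rw [qn_add]
  simp [qn]

/-- q-integers as complex numbers. -/
noncomputable def Q (q m : ℕ) : ℂ := ((qn q m : ℕ) : ℂ)

theorem Q_zero (q : ℕ) : Q q 0 = 0 := by simp [Q, qn]

theorem Q_ne_zero (q m : ℕ) (hm : 1 ≤ m) : Q q m ≠ 0 := by
  have := qn_pos q m hm
  unfold Q
  exact_mod_cast (by omega : qn q m ≠ 0)

theorem Q_sub (q a k : ℕ) (hk : k ≤ a) : Q q a - Q q k = (q : ℂ) ^ k * Q q (a - k) := by
  obtain ⟨d, rfl⟩ : ∃ d, a = k + d := ⟨a - k, by omega⟩
  rw [Nat.add_sub_cancel_left]
  unfold Q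
  rw [qn_add]
  push_cast
  ring

/-- q-factorials. -/
noncomputable def Qf (q m : ℕ) : ℂ := ∏ j ∈ range m, Q q (j + 1)

theorem Qf_ne_zero (q m : ℕ) : Qf q m ≠ 0 := by
  unfold Qf
  rw [prod_ne_zero_iff]
  intro j _
  exact Q_ne_zero q (j + 1) (by omega)

theorem Qf_falling (q a j : ℕ) (hj : j ≤ a) :
    Qf q a = Qf q (a - j) * ∏ k ∈ range j, Q q (a - k) := by
  induction j with
  | zero => simp
  | succ j ih =>
    rw [ih (by omega), prod_range_succ]
    have h1 : a - j = (a - (j + 1)) + 1 := by omega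
    have h2 : Qf q (a - j) = Qf q (a - (j + 1)) * Q q (a - j) := by
      conv_lhs => rw [h1]
      unfold Qf
      rw [prod_range_succ, ← h1]
    rw [h2]
    ring

theorem sum_tri (n : ℕ) : ∑ j ∈ range n, (j * (j - 1) / 2) = n * (n - 1) * (n - 2) / 6 := by
  have key : ∀ n : ℕ, 6 * ∑ j ∈ range n, (j * (j - 1) / 2) = n * (n - 1) * (n - 2) := by
    intro n
    induction n with
    | zero => simp
    | succ n ih =>
      rw [sum_range_succ, mul_add, ih]
      have h2 : n * (n - 1) / 2 * 2 = n * (n - 1) :=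
        Nat.div_mul_cancel (Nat.even_mul_pred_self n).two_dvd
      rcases n with _ | _ | n
      · simp
      · simp
      · simp only [Nat.add_sub_cancel] at *
        have e1 : n + 1 + 1 - 1 = n + 1 := by omega
        have e2 : n + 1 + 1 - 2 = n := by omega
        have e3 : n + 1 + 1 + 1 - 2 = n + 1 := by omega
        rw [e2, e3]
        set t := (n + 1 + 1) * (n + 1) / 2 with ht
        nlinarith [h2]
  rw [← key n, Nat.mul_div_cancel_left _ (by norm_num : 0 < 6)]

variable {F : Type*} [Field F] [Fintype F]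

theorem fixedPointCharacter_one {G : Type*} [Group G] (H : Subgroup G) :
    Cfsg.fixedPointCharacter H 1 = (Nat.card (G ⧸ H) : ℂ) := by
  unfold Cfsg.fixedPointCharacter
  rw [MulAction.fixedBy_one_eq_univ, Nat.card_congr (Equiv.Set.univ _)]

/-- The index formula of S2420 in complex form. -/
theorem index_formula {q : ℕ} (hq : Fintype.card F = q) {n : ℕ} (μ : Fin n → ℕ)
    (hμ : ∑ i, μ i = n) :
    (Nat.card (GL (Fin n) F ⧸ Cfsg.parabolicGL n F μ) : ℂ) * ∏ i : Fin n, Qf q (μ i) = Qf q n := by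
  have h := Cfsg.Agent.S2420.result hq μ hμ
  have h2 := congrArg (fun x : ℕ => (x : ℂ)) h
  simp only [Nat.cast_mul, Nat.cast_prod] at h2
  exact h2

/-- Degrees of the partition-indexed irreducible characters of `GL_n(q)`: for `ν` a partition of `n` with `n` non-decreasing parts `ν_0 ≤ ⋯ ≤ ν_{n−1}` (zeros allowed; positions counted from 0) and `λ_i = ν_i + i`, write `Q(r)` for the q-integer `1 + q + ⋯ + q^(r−1)` and `Q!(r)` for `Q(1)Q(2)⋯Q(r)`; then the degree `γ(ν)` of the character satisfies `γ(ν) · q^(n(n−1)(n−2)/6) · ∏_i Q!(λ_i) = Q!(n) · ∏_{i<j} (Q(λ_j) − Q(λ_i))`. For `ν = (1,…,1)` this gives the Steinberg degree `q^(n(n−1)/2)`, for `ν = (0,…,0,n)` degree 1. -/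
theorem result {F : Type*} [Field F] [Fintype F] {q : ℕ} (hq : Fintype.card F = q) {n : ℕ} (ν : Fin n → ℕ) (hmono : Monotone ν) (hsum : ∑ i, ν i = n) :
    Cfsg.unipotentCharacterGL n F ν 1 * (q : ℂ) ^ (n * (n - 1) * (n - 2) / 6) *
        ∏ i : Fin n, ∏ j ∈ Finset.range (ν i + i.val), ((∑ l ∈ Finset.range (j + 1), q ^ l : ℕ) : ℂ) =
      (∏ j ∈ Finset.range n, ((∑ l ∈ Finset.range (j + 1), q ^ l : ℕ) : ℂ)) *
        ∏ i : Fin n, ∏ j ∈ Finset.univ.filter (fun j : Fin n => i < j),
          (((∑ l ∈ Finset.range (ν j + j.val), q ^ l : ℕ) : ℂ) - ((∑ l ∈ Finset.range (ν i + i.val), q ^ l : ℕ) : ℂ)) := by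
  classical
  set lam : Fin n → ℕ := fun i => ν i + i.val with hlam
  set M : Matrix (Fin n) (Fin n) ℂ :=
    Matrix.of fun i j => ∏ k ∈ range j.val, Q q (lam i - k) with hM
  show Cfsg.unipotentCharacterGL n F ν 1 * (q : ℂ) ^ (n * (n - 1) * (n - 2) / 6) *
      ∏ i : Fin n, Qf q (lam i) =
    Qf q n * ∏ i : Fin n, ∏ j ∈ Finset.univ.filter (fun j : Fin n => i < j),
      (Q q (lam j) - Q q (lam i))
  have key1 : ∀ κ : Equiv.Perm (Fin n),
      (if ∀ i : Fin n, (κ i).val ≤ ν i + i.val then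
        ((Equiv.Perm.sign κ : ℤ) : ℂ) *
          Cfsg.fixedPointCharacter (Cfsg.parabolicGL n F fun i => ν i + i.val - (κ i).val) 1
        else 0) * ∏ i, Qf q (lam i) =
      Qf q n * (((Equiv.Perm.sign κ : ℤ) : ℂ) * ∏ i, M i (κ i)) := by
    intro κ
    split_ifs with hv
    · have hμ : ∑ i, (ν i + i.val - (κ i).val) = n := by
        have h1 : ∑ i, (ν i + i.val - (κ i).val) + ∑ i, (κ i).val = ∑ i, (ν i + i.val) := by
          rw [← sum_add_distrib]
          apply sum_congr rfl
          intro i _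
          exact Nat.sub_add_cancel (hv i)
        have h2 : ∑ i, (κ i).val = ∑ i : Fin n, i.val := Equiv.sum_comp κ (fun i => i.val)
        rw [sum_add_distrib, hsum, h2] at h1
        omega
      rw [fixedPointCharacter_one]
      have hidx := index_formula (F := F) hq _ hμ
      have hfall : ∏ i, Qf q (lam i) = (∏ i, Qf q (lam i - (κ i).val)) * ∏ i, M i (κ i) := by
        rw [← prod_mul_distrib]
        apply prod_congr rfl
        intro i _
        exact Qf_falling q (lam i) (κ i).val (hv i)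
      rw [hfall, ← hidx]
      ring
    · push Not at hv
      obtain ⟨i, hi⟩ := hv
      have hz : ∏ i, M i (κ i) = 0 := by
        apply prod_eq_zero (mem_univ i)
        simp only [hM, Matrix.of_apply]
        apply prod_eq_zero (mem_range.2 hi)
        rw [Nat.sub_self, Q_zero]
      rw [hz]
      simp
  have hsumκ : Cfsg.unipotentCharacterGL n F ν 1 * ∏ i, Qf q (lam i) = Qf q n * M.det := by
    unfold Cfsg.unipotentCharacterGL
    rw [sum_mul, sum_congr rfl (fun κ _ => key1 κ), ← mul_sum, ← Matrix.det_transpose,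
      Matrix.det_apply']
    simp only [Matrix.transpose_apply]
  set x : Fin n → ℂ := fun i => Q q (lam i) with hx
  set p : Fin n → ℂ[X] := fun j => ∏ k ∈ range j.val, (X - C (Q q k)) with hp
  have hdeg : ∀ j : Fin n, (p j).natDegree = j := by
    intro j
    simp only [hp, natDegree_finsetProd_X_sub_C_eq_card, card_range]
  have hmonic : ∀ j, (p j).Monic := fun j => monic_prod_of_monic _ _ (fun k _ => monic_X_sub_C _)
  have hV := Matrix.det_eval_matrixOfPolynomials_eq_det_vandermonde x p hdeg hmonic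
  have hentry : ∀ i j : Fin n,
      (p j).eval (x i) = (q : ℂ) ^ (j.val * (j.val - 1) / 2) * M i j := by
    intro i j
    simp only [hp, hx, eval_prod, eval_sub, eval_X, eval_C, hM, Matrix.of_apply]
    rw [← Finset.sum_range_id, ← prod_pow_eq_pow_sum, ← prod_mul_distrib]
    by_cases hj : j.val ≤ lam i + 1
    · apply prod_congr rfl
      intro k hk
      rw [mem_range] at hk
      exact Q_sub q (lam i) k (by omega)
    · push Not at hj
      rw [prod_eq_zero (mem_range.2 (by omega : lam i < j.val)) (by rw [sub_self]),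
        prod_eq_zero (mem_range.2 (by omega : lam i < j.val))
          (by rw [Nat.sub_self, Q_zero, mul_zero])]
  have hN : (Matrix.of fun i j => (p j).eval (x i)) =
      Matrix.of fun i j => (q : ℂ) ^ (j.val * (j.val - 1) / 2) * M i j := by
    ext i j
    exact hentry i j
  rw [hN, Matrix.det_mul_row] at hV
  have hpow : ∏ j : Fin n, (q : ℂ) ^ (j.val * (j.val - 1) / 2) =
      (q : ℂ) ^ (n * (n - 1) * (n - 2) / 6) := by
    rw [prod_pow_eq_pow_sum, Fin.sum_univ_eq_sum_range (fun j => j * (j - 1) / 2) n, sum_tri]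
  calc Cfsg.unipotentCharacterGL n F ν 1 * (q : ℂ) ^ (n * (n - 1) * (n - 2) / 6) *
        ∏ i : Fin n, Qf q (lam i)
      = (q : ℂ) ^ (n * (n - 1) * (n - 2) / 6) *
          (Cfsg.unipotentCharacterGL n F ν 1 * ∏ i : Fin n, Qf q (lam i)) := by ring
    _ = (q : ℂ) ^ (n * (n - 1) * (n - 2) / 6) * (Qf q n * M.det) := by rw [hsumκ]
    _ = Qf q n * (Matrix.vandermonde x).det := by rw [hV, hpow]; ring
    _ = _ := by
        rw [Matrix.det_vandermonde]
        congr 1
        apply prod_congr rfl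
        intro i _
        rw [Finset.filter_lt_eq_Ioi]

end Cfsg.Agent.S2424
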