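import Cfsg.Statements.S2392
import Cfsg.Agent.Helper12.CrossCharA
import Cfsg.Agent.Helper12.CrossCharC

set_option autoImplicit false
open scoped MatrixGroups
open Cfsg

namespace Cfsg.Agent.Helper12

open Matrix

theorem natCast_card_ne_zero {F : Type*} [Field F] [Fintype F] {K : Type*} [Field K]
    (hK : ringChar K ≠ ringChar F) : ((Fintype.card F : ℕ) : K) ≠ 0 := by
  obtain ⟨k, hp, hk⟩ := FiniteField.card F (ringChar F)
  rw [hk, Nat.cast_pow]
  apply pow_ne_zero
  intro h
  have h1 : ringChar K ∣ ringChar F := (ringChar.spec K _).1 h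
  rcases (Nat.dvd_prime hp).1 h1 with h2 | h2
  · exact CharP.ringChar_ne_one h2
  · exact hK h2

theorem glMap_eq_one {K K' : Type*} [Field K] [Field K'] {d : ℕ} (φ : K →+* K')
    (u : GL (Fin d) K) (h : Matrix.GeneralLinearGroup.map φ u = 1) : u = 1 := by
  apply Units.ext
  have h1 := congrArg (fun x : GL (Fin d) K' => (x : Matrix (Fin d) (Fin d) K')) h
  simp only [Units.val_one] at h1
  apply Matrix.map_injective φ.injective
  show (u : Matrix (Fin d) (Fin d) K).map φ = (1 : Matrix (Fin d) (Fin d) K).map φ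
  rw [Matrix.map_one _ (map_zero φ) (map_one φ)]
  exact h1

theorem crossChar_bound {F : Type*} [Field F] [Fintype F] [DecidableEq F] {m : ℕ} (hm : 2 ≤ m)
    {K : Type*} [Field K] (hK : ringChar K ≠ ringChar F) {d : ℕ}
    (ρ : Matrix.SpecialLinearGroup (Fin (m + 1)) F →* GL (Fin d) K)
    (hker : ρ.ker ≤ Subgroup.center (Matrix.SpecialLinearGroup (Fin (m + 1)) F)) :
    Fintype.card F ^ (m + 1 - 1) - 1 ≤ d := by
  rw [Nat.add_sub_cancel]
  let P := AddChar.FiniteField.primitiveChar F K hK
  let φ : K →+* CyclotomicField P.n K := algebraMap K _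
  let ρ' : Matrix.SpecialLinearGroup (Fin (m + 1)) F →* GL (Fin d) (CyclotomicField P.n K) :=
    (Matrix.GeneralLinearGroup.map φ).comp ρ
  have hρ' : ∀ g, ρ' g = 1 → g ∈ Subgroup.center (Matrix.SpecialLinearGroup (Fin (m + 1)) F) := by
    intro g hg
    apply hker
    rw [MonoidHom.mem_ker]
    exact glMap_eq_one φ _ hg
  have hq' : ((Fintype.card F : ℕ) : CyclotomicField P.n K) ≠ 0 := by
    apply natCast_card_ne_zero
    rw [← Algebra.ringChar_eq K (CyclotomicField P.n K)]
    exact hK
  refine card_pow_sub_one_le P.char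
    (fun a => ((ρ' (uSL a) : GL (Fin d) (CyclotomicField P.n K)) :
      Matrix (Fin d) (Fin d) (CyclotomicField P.n K))) P.prim hq' hm ?_ ?_ ?_
    (fun g => ((ρ' (blockSL m F g) : GL (Fin d) (CyclotomicField P.n K)) :
      Matrix (Fin d) (Fin d) (CyclotomicField P.n K))) ?_ ?_
  · simp only [uSL_zero, map_one, Units.val_one]
  · intro a b
    simp only [uSL_add, map_mul, Units.val_mul]
  · refine ⟨Pi.single ⟨0, by omega⟩ 1, ?_⟩
    intro h
    have h1 : ρ' (uSL (Pi.single (⟨0, by omega⟩ : Fin m) (1 : F))) = 1 := Units.ext h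
    have h2 := hρ' _ h1
    refine uSL_not_mem_center ?_ h2
    intro h3
    have := congrFun h3 ⟨0, by omega⟩
    simp at this
  · intro g v hv
    have h1 := congrArg (fun w => ((ρ' (blockSL m F g))⁻¹ : GL (Fin d) (CyclotomicField P.n K)).1 *ᵥ w) hv
    simp only [Matrix.mulVec_mulVec, Matrix.mulVec_zero] at h1
    rw [← Units.val_mul, inv_mul_cancel, Units.val_one, Matrix.one_mulVec] at h1
    exact h1
  · intro g a
    simp only [← Units.val_mul, ← map_mul, uSL_mul_blockSL]

end Cfsg.Agent.Helper12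

namespace Cfsg.Agent.S2392

/-- A lower bound for representations in cross characteristic: for `n ≥ 3` and a field `F` with `q` elements, every homomorphism from `SL_n(F)` to `GL_d(K)`, `K` a field of characteristic different from that of `F`, whose kernel is central has `d ≥ q^(n-1) - 1`. -/
theorem result {F : Type*} [Field F] [Fintype F] {q : ℕ} (hq : Fintype.card F = q) (n : ℕ) (hn : 3 ≤ n)
    {K : Type*} [Field K] (hK : ringChar K ≠ ringChar F) {d : ℕ}
    (ρ : Matrix.SpecialLinearGroup (Fin n) F →* GL (Fin d) K) (hker : ρ.ker ≤ Subgroup.center (Matrix.SpecialLinearGroup (Fin n) F)) :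
    q ^ (n - 1) - 1 ≤ d := by
  classical
  obtain ⟨m, rfl⟩ : ∃ m, n = m + 1 := ⟨n - 1, by omega⟩
  have hm : 2 ≤ m := by omega
  subst hq
  exact Helper12.crossChar_bound hm hK ρ hker

end Cfsg.Agent.S2392
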