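import Cfsg.Statements.S0268
import Cfsg.Agent.Helper2.FieldBasics

set_option autoImplicit false
open Cfsg

namespace Cfsg.Agent.S0268

open Cfsg.Agent.Helper2 Matrix

/-- For q odd, -1 is the unique involution of SL_2(q). -/
theorem result {F : Type*} [Field F] [Fintype F] (hF : Odd (Fintype.card F)) (g : Matrix.SpecialLinearGroup (Fin 2) F) (h1 : g ≠ 1) (h2 : g * g = 1) : (g : Matrix (Fin 2) (Fin 2) F) = -1 := by
  have h2ne := two_ne_zero_of_odd_card hF
  have hdet := g.det_coe
  rw [Matrix.det_fin_two] at hdet
  have hm : (g : Matrix (Fin 2) (Fin 2) F) * (g : Matrix (Fin 2) (Fin 2) F) = 1 := by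
    have := congrArg (fun x : SpecialLinearGroup (Fin 2) F => (x : Matrix (Fin 2) (Fin 2) F)) h2
    simpa using this
  have e00 := congrFun (congrFun hm 0) 0
  have e01 := congrFun (congrFun hm 0) 1
  have e10 := congrFun (congrFun hm 1) 0
  have e11 := congrFun (congrFun hm 1) 1
  simp only [Matrix.mul_apply, Fin.sum_univ_two, Matrix.one_apply_eq, Matrix.one_apply_ne,
    ne_eq, zero_ne_one, one_ne_zero, not_false_eq_true] at e00 e01 e10 e11
  set a := (g : Matrix (Fin 2) (Fin 2) F) 0 0 with ha
  set b := (g : Matrix (Fin 2) (Fin 2) F) 0 1 with hb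
  set c := (g : Matrix (Fin 2) (Fin 2) F) 1 0 with hc
  set d := (g : Matrix (Fin 2) (Fin 2) F) 1 1 with hd
  have htr : a + d ≠ 0 := by
    intro h
    have hd' : d = -a := by linear_combination h
    rw [hd'] at hdet
    apply h2ne
    linear_combination -(e00 + hdet)
  have hb0 : b = 0 := by
    have : b * (a + d) = 0 := by linear_combination e01
    rcases mul_eq_zero.mp this with h | h
    · exact h
    · exact absurd h htr
  have hc0 : c = 0 := by
    have : c * (a + d) = 0 := by linear_combination e10
    rcases mul_eq_zero.mp this with h | h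
    · exact h
    · exact absurd h htr
  rw [hb0, hc0] at hdet e00 e11
  have had : a = d := by
    have : a * (a - d) = 0 := by linear_combination e00 - hdet
    rcases mul_eq_zero.mp this with h | h
    · rw [h] at e00; simp at e00
    · linear_combination h
  have ha2 : (a - 1) * (a + 1) = 0 := by linear_combination e00
  have ha1 : a = -1 := by
    rcases mul_eq_zero.mp ha2 with h | h
    · exfalso
      apply h1
      ext i j
      fin_cases i <;> fin_cases j
      · show a = 1
        linear_combination h
      · show b = 0
        exact hb0
      · show c = 0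
        exact hc0
      · show d = 1
        rw [← had]; linear_combination h
    · linear_combination h
  ext i j
  fin_cases i <;> fin_cases j
  · show a = -1
    exact ha1
  · show b = -0
    rw [hb0]; simp
  · show c = -0
    rw [hc0]; simp
  · show d = -1
    rw [← had]; exact ha1

end Cfsg.Agent.S0268
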