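import Cfsg.Statements.S2336
import Cfsg.Agent.Helper12.SLPermChar
import Cfsg.Agent.Helper24.TwoTransitive
import Cfsg.Agent.Helper24.Expansion
import Cfsg.Agent.Helper24.Generalized
import Cfsg.Agent.Helper24.Orthogonality
import Cfsg.Agent.Helper5.IndFun

set_option autoImplicit false
open Cfsg

namespace Cfsg.Agent.S2336

open Cfsg.Agent.Helper12 Cfsg.Agent.Helper24 MulAction

theorem eq_zero_of_classInner_self_eq_zero {G : Type*} [Group G] [Fintype G] (f : G → ℂ)
    (h : Cfsg.classInner f f = 0) : f = 0 := by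
  unfold Cfsg.classInner at h
  have hG : (Nat.card G : ℂ)⁻¹ ≠ 0 := inv_ne_zero (Nat.cast_ne_zero.2 Nat.card_pos.ne')
  have h1 : ∑ g : G, f g * (starRingEnd ℂ) (f g) = 0 := (mul_eq_zero.1 h).resolve_left hG
  have h2 : ∑ g : G, Complex.normSq (f g) = 0 := by
    have : ∑ g : G, f g * (starRingEnd ℂ) (f g) = ((∑ g : G, Complex.normSq (f g) : ℝ) : ℂ) := by
      push_cast
      apply Finset.sum_congr rfl
      intro g _
      rw [Complex.mul_conj]
    rw [this] at h1
    exact_mod_cast h1
  funext g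
  have := (Finset.sum_eq_zero_iff_of_nonneg (fun g _ => Complex.normSq_nonneg (f g))).1 h2 g
    (Finset.mem_univ g)
  exact Complex.normSq_eq_zero.1 this

theorem classInner_permChar_self {G : Type*} [Group G] [Fintype G] (X : Type*) [MulAction G X]
    [Finite X] :
    Cfsg.classInner (fun g : G => (Nat.card (fixedBy X g) : ℂ))
      (fun g : G => (Nat.card (fixedBy X g) : ℂ)) =
      (Nat.card (orbitRel.Quotient G (X × X)) : ℂ) := by
  unfold Cfsg.classInner
  have h1 : ∀ g : G, (Nat.card (fixedBy X g) : ℂ) * (starRingEnd ℂ) (Nat.card (fixedBy X g) : ℂ) =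
      (Nat.card (fixedBy (X × X) g) : ℂ) := by
    intro g
    rw [Complex.conj_natCast, Cfsg.Agent.Helper5.card_fixedBy_prod]
    push_cast
    ring
  simp_rw [h1]
  rw [sum_card_fixedBy_complex]
  have hG : (Nat.card G : ℂ) ≠ 0 := Nat.cast_ne_zero.2 Nat.card_pos.ne'
  field_simp

/-- Let F be a finite field with q elements and n ≥ 3. The permutation character of SL_n(F) on the non-zero vectors of F^n (the function sending a matrix to the number of non-zero vectors it fixes) is the sum of the principal character and q − 1 pairwise distinct irreducible complex characters. -/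
theorem result {F : Type*} [Field F] [Fintype F] [DecidableEq F] (n : ℕ) (hn : 3 ≤ n) :
    ∃ χ : Fin (Fintype.card F - 1) → (Matrix.SpecialLinearGroup (Fin n) F → ℂ),
      (∀ i, Cfsg.IsIrrCharacter (Matrix.SpecialLinearGroup (Fin n) F) (χ i)) ∧ Function.Injective χ ∧
      ∀ g : Matrix.SpecialLinearGroup (Fin n) F,
        (Nat.card {v : Fin n → F // v ≠ 0 ∧ (g : Matrix (Fin n) (Fin n) F).mulVec v = v} : ℂ) = 1 + ∑ i, χ i g := by
  classical
  have hn2 : 2 ≤ n := by omega
  let i0 : Fin n := ⟨0, by omega⟩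
  let i1 : Fin n := ⟨1, by omega⟩
  have h01 : i0 ≠ i1 := by
    intro h
    have := congrArg Fin.val h
    simp [i0, i1] at this
  have : Fintype (MulChar F ℂ) := Fintype.ofFinite _
  have : Fintype (Cfsg.IrrCharacter (Matrix.SpecialLinearGroup (Fin n) F)) := Fintype.ofFinite _
  let π : Matrix.SpecialLinearGroup (Fin n) F → ℂ :=
    fun g => (Nat.card (fixedBy (NzVec n F) g) : ℂ)
  have hsum : ∀ g, ∑ θ : MulChar F ℂ, lineChar i0 θ g = π g := sum_lineChar hn2 i0 i1 h01
  have hsumf : π = ∑ θ : MulChar F ℂ, lineChar i0 θ := by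
    funext g
    rw [Finset.sum_apply]
    exact (hsum g).symm
  have hchar : ∀ θ : MulChar F ℂ, Cfsg.IsCharacter (Matrix.SpecialLinearGroup (Fin n) F)
      (lineChar i0 θ) := lineChar_isCharacter i0
  have hnorm : Cfsg.classInner π π = (Fintype.card F : ℂ) := by
    rw [classInner_permChar_self, card_orbits_pairs hn]
  have hnat : ∀ θ θ' : MulChar F ℂ, ∃ m : ℕ,
      Cfsg.classInner (lineChar i0 θ) (lineChar i0 θ') = m :=
    fun θ θ' => IsCharacter.classInner_nat (hchar θ) (hchar θ')
  choose N hN using hnat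
  have hexp : ∑ θ, ∑ θ', N θ θ' = Fintype.card F := by
    have h1 : ((∑ θ, ∑ θ', N θ θ' : ℕ) : ℂ) = (Fintype.card F : ℂ) := by
      rw [← hnorm, hsumf, classInner_sum_left]
      push_cast
      apply Finset.sum_congr rfl
      intro θ _
      rw [classInner_sum_right]
      apply Finset.sum_congr rfl
      intro θ' _
      exact (hN θ θ').symm
    exact_mod_cast h1
  -- the principal line character is a permutation character
  have hπ1 : lineChar i0 (1 : MulChar F ℂ) =
      fun g => (Nat.card (fixedBy (Matrix.SpecialLinearGroup (Fin n) F ⧸ lineStab (F := F) i0) g) : ℂ) := by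
    funext g
    rw [← Cfsg.Agent.Helper5.indFun_one_eq_card_fixedBy]
    unfold lineChar
    congr 1
    funext h
    exact MulChar.one_apply (Ne.isUnit (lamF_ne_zero i0 h))
  have hindex : 2 ≤ (lineStab (F := F) i0).index := by
    have h0 : (lineStab (F := F) i0).index ≠ 0 := Subgroup.index_ne_zero_of_finite
    have h1 : (lineStab (F := F) i0).index ≠ 1 := by
      rw [Ne, Subgroup.index_eq_one]
      intro htop
      let t : Matrix.SpecialLinearGroup (Fin n) F :=
        ⟨Matrix.transvection i1 i0 (1 : F), Matrix.det_transvection_of_ne i1 i0 h01.symm 1⟩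
      have hmem : t ∈ lineStab (F := F) i0 := by
        rw [htop]; exact Subgroup.mem_top _
      obtain ⟨c, hc⟩ := hmem
      have := congrFun hc i1
      rw [mulVec_stdVec] at this
      simp [t, Matrix.transvection, stdVec, Pi.single_eq_of_ne h01.symm,
        Matrix.one_apply_ne h01.symm] at this
    omega
  have hX2 : 2 ≤ Nat.card (Matrix.SpecialLinearGroup (Fin n) F ⧸ lineStab (F := F) i0) := hindex
  have hr2 : 2 ≤ Nat.card (orbitRel.Quotient (Matrix.SpecialLinearGroup (Fin n) F)
      ((Matrix.SpecialLinearGroup (Fin n) F ⧸ lineStab (F := F) i0) ×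
        (Matrix.SpecialLinearGroup (Fin n) F ⧸ lineStab (F := F) i0))) := by
    have := Nat.card_le_card_of_surjective _
      (diagOrbit_surjective (G := Matrix.SpecialLinearGroup (Fin n) F) hX2)
    simpa using this
  have hN11 : N 1 1 = Nat.card (orbitRel.Quotient (Matrix.SpecialLinearGroup (Fin n) F)
      ((Matrix.SpecialLinearGroup (Fin n) F ⧸ lineStab (F := F) i0) ×
        (Matrix.SpecialLinearGroup (Fin n) F ⧸ lineStab (F := F) i0))) := by
    have := hN 1 1
    rw [hπ1, classInner_permChar_self] at this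
    exact_mod_cast this.symm
  have hdiag : ∀ θ, 1 ≤ N θ θ := by
    intro θ
    by_contra h
    have h0 : N θ θ = 0 := by omega
    have hz : lineChar i0 θ = 0 :=
      eq_zero_of_classInner_self_eq_zero _ (by rw [hN, h0]; simp)
    have h1 := congrFun hz 1
    rw [lineChar, Cfsg.Agent.Helper5.indFun_apply_one, map_one, map_one, mul_one,
      Pi.zero_apply] at h1
    have : (lineStab (F := F) i0).index = 0 := by exact_mod_cast h1
    omega
  have hcard : Fintype.card (MulChar F ℂ) = Fintype.card F - 1 := by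
    rw [← Nat.card_eq_fintype_card, card_mulChar]
  have hq2 : 2 ≤ Fintype.card F := by
    have := Fintype.one_lt_card (α := F)
    omega
  -- split the double sum
  have hsplit : ∑ θ, ∑ θ', N θ θ' =
      (∑ θ, N θ θ) + ∑ θ, ∑ θ' ∈ Finset.univ.erase θ, N θ θ' := by
    rw [← Finset.sum_add_distrib]
    apply Finset.sum_congr rfl
    intro θ _
    exact (Finset.add_sum_erase _ _ (Finset.mem_univ θ)).symm
  have hA : ∑ θ, N θ θ = N 1 1 + ∑ θ ∈ Finset.univ.erase (1 : MulChar F ℂ), N θ θ :=
    (Finset.add_sum_erase _ _ (Finset.mem_univ _)).symm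
  have hA2 : ∑ _θ ∈ Finset.univ.erase (1 : MulChar F ℂ), 1 ≤
      ∑ θ ∈ Finset.univ.erase (1 : MulChar F ℂ), N θ θ :=
    Finset.sum_le_sum (fun θ _ => hdiag θ)
  have hA3 : ∑ _θ ∈ Finset.univ.erase (1 : MulChar F ℂ), 1 = Fintype.card F - 2 := by
    rw [Finset.sum_const, Finset.card_erase_of_mem (Finset.mem_univ _), Finset.card_univ, hcard]
    simp
    omega
  have h11 : 2 ≤ N 1 1 := by rw [hN11]; exact hr2
  have hN11' : N 1 1 = 2 := by omega
  have hoff0 : ∑ θ, ∑ θ' ∈ Finset.univ.erase θ, N θ θ' = 0 := by omega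
  have hdiag1 : ∑ θ ∈ Finset.univ.erase (1 : MulChar F ℂ), N θ θ =
      ∑ _θ ∈ Finset.univ.erase (1 : MulChar F ℂ), 1 := by omega
  have hone : ∀ θ : MulChar F ℂ, θ ≠ 1 → N θ θ = 1 := by
    intro θ hθ
    have := (Finset.sum_eq_sum_iff_of_le (fun θ _ => hdiag θ)).1 hdiag1.symm θ
      (Finset.mem_erase.2 ⟨hθ, Finset.mem_univ _⟩)
    exact this.symm
  have hoff : ∀ θ θ' : MulChar F ℂ, θ ≠ θ' → N θ θ' = 0 := by
    intro θ θ' hne
    have h1 := (Finset.sum_eq_zero_iff.1 hoff0) θ (Finset.mem_univ _)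
    exact (Finset.sum_eq_zero_iff.1 h1) θ' (Finset.mem_erase.2 ⟨hne.symm, Finset.mem_univ _⟩)
  -- irreducibility
  have hirr : ∀ θ : MulChar F ℂ, θ ≠ 1 →
      Cfsg.IsIrrCharacter (Matrix.SpecialLinearGroup (Fin n) F) (lineChar i0 θ) := by
    intro θ hθ
    rw [isIrrCharacter_iff_classInner_self]
    exact ⟨hchar θ, by rw [hN, hone θ hθ]; simp⟩
  have hirr0 : Cfsg.IsIrrCharacter (Matrix.SpecialLinearGroup (Fin n) F)
      (lineChar i0 (1 : MulChar F ℂ) - 1) := by
    have hgen : Cfsg.IsGeneralizedCharacter (Matrix.SpecialLinearGroup (Fin n) F)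
        (lineChar i0 (1 : MulChar F ℂ) - 1) :=
      ⟨_, _, hchar 1, isCharacter_const_one, rfl⟩
    refine IsGeneralizedCharacter.isIrrCharacter_of_classInner_self hgen ?_ ?_
    · have h1 := classInner_permChar_sub_one (G := Matrix.SpecialLinearGroup (Fin n) F)
        (Matrix.SpecialLinearGroup (Fin n) F ⧸ lineStab (F := F) i0)
      have h2 : (lineChar i0 (1 : MulChar F ℂ) - 1) = fun g =>
          (Nat.card (fixedBy (Matrix.SpecialLinearGroup (Fin n) F ⧸ lineStab (F := F) i0) g) : ℂ) - 1 := by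
        rw [hπ1]; rfl
      rw [h2, h1, ← hN11, hN11']
      norm_num
    · rw [Pi.sub_apply, lineChar, Cfsg.Agent.Helper5.indFun_apply_one, map_one, map_one, mul_one]
      simp only [Pi.one_apply, Complex.sub_re, Complex.natCast_re, Complex.one_re]
      have : (2 : ℝ) ≤ ((lineStab (F := F) i0).index : ℝ) := by exact_mod_cast hindex
      linarith
  -- the family
  let e : Fin (Fintype.card F - 1) ≃ MulChar F ℂ := (Fintype.equivFinOfCardEq hcard).symm
  let χ : Fin (Fintype.card F - 1) → (Matrix.SpecialLinearGroup (Fin n) F → ℂ) :=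
    fun i => if e i = 1 then lineChar i0 (1 : MulChar F ℂ) - 1 else lineChar i0 (e i)
  have hcross : ∀ θ' : MulChar F ℂ, θ' ≠ 1 →
      lineChar i0 (1 : MulChar F ℂ) - 1 ≠ lineChar i0 θ' := by
    intro θ' hθ' heq
    have h1 : Cfsg.classInner (lineChar i0 (1 : MulChar F ℂ) - 1) (lineChar i0 θ') = 1 := by
      rw [heq, hN, hone θ' hθ']; simp
    obtain ⟨m, hm⟩ := IsCharacter.classInner_nat
      (isCharacter_const_one (G := Matrix.SpecialLinearGroup (Fin n) F)) (hchar θ')
    have h2 : Cfsg.classInner (lineChar i0 (1 : MulChar F ℂ) - 1) (lineChar i0 θ') = -(m : ℂ) := by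
      rw [classInner_sub_left, hN, hoff 1 θ' (Ne.symm hθ')]
      have : Cfsg.classInner (1 : Matrix.SpecialLinearGroup (Fin n) F → ℂ) (lineChar i0 θ') = m := hm
      rw [this]
      simp
    rw [h2] at h1
    have h3 : ((m + 1 : ℕ) : ℂ) = 0 := by push_cast; linear_combination -h1
    have : m + 1 = 0 := by exact_mod_cast h3
    omega
  refine ⟨χ, ?_, ?_, ?_⟩
  · intro i
    simp only [χ]
    split_ifs with h
    · exact hirr0
    · exact hirr (e i) h
  · intro i j hij
    by_contra hne
    have hθ : e i ≠ e j := fun h => hne (e.injective h)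
    simp only [χ] at hij
    split_ifs at hij with h1 h2 h2
    · exact hθ (h1.trans h2.symm)
    · exact hcross (e j) h2 hij
    · exact hcross (e i) h1 hij.symm
    · have h3 : N (e i) (e j) = 1 := by
        have := hN (e i) (e j)
        rw [← hij, hN, hone (e i) h1] at this
        exact_mod_cast this.symm
      rw [hoff _ _ hθ] at h3
      exact zero_ne_one h3
  · intro g
    have hcount : (Nat.card {v : Fin n → F // v ≠ 0 ∧
        (g : Matrix (Fin n) (Fin n) F).mulVec v = v} : ℂ) = π g := by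
      simp only [π]
      congr 1
      apply Nat.card_congr
      exact ⟨fun v => ⟨⟨v.1, v.2.1⟩, Subtype.ext v.2.2⟩,
        fun w => ⟨w.1.1, w.1.2, congrArg Subtype.val w.2⟩, fun v => rfl, fun w => rfl⟩
    rw [hcount, ← hsum g, ← Equiv.sum_comp e]
    have h1 : ∀ i, χ i g = lineChar i0 (e i) g - (if e i = 1 then 1 else 0) := by
      intro i
      simp only [χ]
      split_ifs with h
      · rw [h]; rfl
      · simp
    simp only [h1]
    rw [Finset.sum_sub_distrib, Equiv.sum_comp e (fun θ => if θ = 1 then (1 : ℂ) else 0),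
      Finset.sum_ite_eq' Finset.univ (1 : MulChar F ℂ) (fun _ => (1 : ℂ))]
    simp

end Cfsg.Agent.S2336
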