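import Cfsg.Statements.S2332
import Cfsg.Agent.Helper8.CharComp
import Cfsg.Agent.Helper12.LSLDefs
import Cfsg.Agent.Helper12.LSLCommon
import Cfsg.Agent.Helper18.LSLN3B
import Cfsg.Agent.Helper12.LSLMainB

set_option autoImplicit false
open Cfsg

namespace Cfsg.Agent.S2332

open Cfsg.Agent.Helper12.LSL

theorem arith_n3 (q : ℕ) (hq : 2 ≤ q) : (q ^ 3 - q) / (q - 1) = q ^ 2 + q := by
  obtain ⟨r, rfl⟩ : ∃ r, q = r + 2 := ⟨q - 2, by omega⟩
  apply Nat.div_eq_of_eq_mul_left (by omega)
  have h1 : r + 2 - 1 = r + 1 := by omega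
  rw [h1]
  apply Nat.sub_eq_of_eq_add
  ring

/-- Smallest degree of a non-linear irreducible complex representation of SL_n over a finite field with q elements, for n ≥ 3 and (n, q) not one of (3, 2), (3, 4), (4, 2), (4, 3): every irreducible complex representation of SL_n(F) of degree at least 2 has degree at least (q^n − q)/(q − 1), and there is an irreducible complex representation of exactly that degree. -/
theorem result {F : Type*} [Field F] [Fintype F] [DecidableEq F] (n : ℕ) (hn : 3 ≤ n)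
    (hex : (n, Fintype.card F) ≠ (3, 2) ∧ (n, Fintype.card F) ≠ (3, 4) ∧ (n, Fintype.card F) ≠ (4, 2) ∧ (n, Fintype.card F) ≠ (4, 3)) :
    (∀ (k : ℕ) (ρ : Representation ℂ (Matrix.SpecialLinearGroup (Fin n) F) (Fin k → ℂ)), ρ.IsIrreducible → 2 ≤ k → (Fintype.card F ^ n - Fintype.card F) / (Fintype.card F - 1) ≤ k) ∧
    (∃ ρ : Representation ℂ (Matrix.SpecialLinearGroup (Fin n) F) (Fin ((Fintype.card F ^ n - Fintype.card F) / (Fintype.card F - 1)) → ℂ), ρ.IsIrreducible) := by
  classical
  have hq1 : 1 < Fintype.card F := Fintype.one_lt_card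
  obtain ⟨hex1, hex2, hex3, hex4⟩ := hex
  refine ⟨?_, ?_⟩
  · intro k ρ hρ hk
    obtain ⟨m, rfl⟩ : ∃ m, n = m + 1 := ⟨n - 1, by omega⟩
    have hcard : Fintype.card (Unit ⊕ Fin m) = m + 1 := by
      rw [Fintype.card_sum, Fintype.card_unit, Fintype.card_fin, add_comm]
    let e : Unit ⊕ Fin m ≃ Fin (m + 1) := Fintype.equivFinOfCardEq hcard
    have hρ' : Representation.IsIrreducible
        (MonoidHom.comp ρ (slRe F e).toMonoidHom : Representation ℂ (GG m F) (Fin k → ℂ)) :=
      Cfsg.Agent.Helper8.isIrreducible_comp_surjective ρ (slRe F e).toMonoidHom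
        (slRe F e).surjective hρ
    by_cases hm2 : m = 2
    · subst hm2
      have h2 : Fintype.card F ≠ 2 := fun h => hex1 (by rw [h])
      have h4 : Fintype.card F ≠ 4 := fun h => hex2 (by rw [h])
      obtain ⟨a, c, ha, hkc, htv, hmult⟩ := sl_mult le_rfl k _ hρ' hk
      have h := n3_bound_of_mult h2 h4 k _ hρ' hk a c ha hkc htv hmult
      rw [arith_n3 _ (by omega)]
      exact h
    · have hm : 3 ≤ m := by omega
      have hq : m = 3 → 4 ≤ Fintype.card F := by
        intro h3
        subst h3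
        have h2 : Fintype.card F ≠ 2 := fun h => hex3 (by rw [h])
        have h3 : Fintype.card F ≠ 3 := fun h => hex4 (by rw [h])
        omega
      exact slmain hm hq k _ hρ' hk
  · obtain ⟨ψ, hψ, hdeg⟩ := exists_irr_degree (F := F) (m := n) hn
    obtain ⟨k, ρ, hρ, hchar⟩ := hψ
    have hk : k = (Fintype.card F ^ n - Fintype.card F) / (Fintype.card F - 1) := by
      have h5 : ψ 1 = k := by
        rw [← hchar, Representation.char_one, Module.finrank_fin_fun]
      rw [hdeg] at h5
      exact_mod_cast h5.symm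
    subst hk
    exact ⟨ρ, hρ⟩

end Cfsg.Agent.S2332
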