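import Cfsg.Statements.S0293
import Cfsg.Agent.Helper28.POmegaCard
import Cfsg.Agent.S0287
import Cfsg.Agent.S0790

set_option autoImplicit false
open Cfsg

namespace Cfsg.Agent.S0293

open Cfsg.Agent.Helper28.Spin Cfsg.Agent.Helper28.OC

theorem gcd_four_of_mod_zero {k : ℕ} (h : k % 4 = 0) : Nat.gcd 4 k = 4 :=
  Nat.gcd_eq_left (Nat.dvd_of_mod_eq_zero h)

theorem gcd_four_of_mod_two {k : ℕ} (h : k % 4 = 2) : Nat.gcd 4 k = 2 := by
  rw [Nat.gcd_rec, h]
  decide

theorem gcd_four_of_odd {k : ℕ} (h : k % 2 = 1) : Nat.gcd 4 k = 1 := by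
  have h1 : k % 4 = 1 ∨ k % 4 = 3 := by omega
  rw [Nat.gcd_rec]
  rcases h1 with h1 | h1 <;> rw [h1] <;> decide

/-- gcd(4, q^m - 1) |PΩ^+_{2m}(q)| = q^(m(m-1)) (q^m - 1) prod_{i=1}^{m-1} (q^(2i) - 1), m at least 4 (type D_m). -/
theorem result {F : Type*} [Field F] [Fintype F] {q : ℕ} (hF : Fintype.card F = q) (m : ℕ) (hm : 4 ≤ m) : Nat.gcd 4 (q ^ m - 1) * Nat.card (Cfsg.POmega F (Cfsg.quadFormPlus m F)) = q ^ (m * (m - 1)) * (q ^ m - 1) * ∏ i ∈ Finset.range (m - 1), (q ^ (2 * (i + 1)) - 1) := by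
  have hO := Cfsg.Agent.S0287.result hF m (by omega)
  have hQ := QfPlus_nondeg (F := F) m
  have hcardι : Fintype.card (Fin m ⊕ Fin m) = 2 * m := by
    rw [Fintype.card_sum, Fintype.card_fin]; ring
  have h6 : 6 ≤ Fintype.card (Fin m ⊕ Fin m) := by rw [hcardι]; omega
  have hmul := card_POmega_mul (QfPlus m F)
  rw [QfPlus_coe] at hmul
  rw [hO] at hmul
  obtain ⟨X, hX⟩ : ∃ X, X = q ^ (m * (m - 1)) * (q ^ m - 1) *
    ∏ i ∈ Finset.range (m - 1), (q ^ (2 * (i + 1)) - 1) := ⟨_, rfl⟩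
  have hX2 : 2 * q ^ (m * (m - 1)) * (q ^ m - 1) *
      ∏ i ∈ Finset.range (m - 1), (q ^ (2 * (i + 1)) - 1) = 2 * X := by rw [hX]; ring
  rw [hX2] at hmul
  rw [← hX]
  have hqpos : 0 < q := by rw [← hF]; exact Fintype.card_pos
  have hqm : 0 < q ^ m := pow_pos hqpos m
  by_cases h2 : (2 : F) = 0
  · -- characteristic two
    have hidx := Cfsg.Agent.Helper28.CD2.index_Omega (QfPlus m F) h2 hQ (Or.inr (by rw [hcardι]; omega))
      ⟨Sum.inl ⟨0, by omega⟩⟩
    have hc := card_center_Omega_eq_one (QfPlus m F) hQ h6 (fun h => h.1 h2)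
    rw [QfPlus_coe] at hidx hc
    rw [hidx, hc] at hmul
    have hqeven : q % 2 = 0 := by
      have : ringChar F = 2 := by
        have := CharP.ringChar_of_prime_eq_zero Nat.prime_two (by exact_mod_cast h2 : ((2 : ℕ) : F) = 0)
        exact this
      have h3 := FiniteField.even_card_iff_char_two.1 this
      rw [hF] at h3
      exact h3
    have hqm2 : q ^ m % 2 = 0 := by
      have : Even (q ^ m) := (Nat.even_pow.2 ⟨Nat.even_iff.2 hqeven, by omega⟩)
      exact Nat.even_iff.1 this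
    rw [gcd_four_of_odd (by omega)]
    omega
  · -- odd characteristic
    have hodd : Odd q := by
      rw [← hF]
      exact card_odd h2
    have hidx := index_Omega_odd (QfPlus m F) h2 hQ (by omega)
    rw [QfPlus_coe] at hidx
    rw [hidx] at hmul
    have hcrit := Cfsg.Agent.S0790.result hF hodd m (by omega)
    have hoddm : Odd (q ^ m) := hodd.pow
    obtain ⟨k, hk⟩ := hoddm
    by_cases h1 : q ^ m % 4 = 1
    · have hc := card_center_Omega_eq_two (QfPlus m F) hQ h6 h2 (hcrit.2 h1)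
      rw [QfPlus_coe] at hc
      rw [hc] at hmul
      rw [gcd_four_of_mod_zero (by omega)]
      omega
    · have hc := card_center_Omega_eq_one (QfPlus m F) hQ h6 (fun h => h1 (hcrit.1 h.2))
      rw [QfPlus_coe] at hc
      rw [hc] at hmul
      rw [gcd_four_of_mod_two (by omega)]
      omega

end Cfsg.Agent.S0293
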