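import Cfsg.Statements.S0294
import Cfsg.Agent.Helper28.POmegaCard
import Cfsg.Agent.S0288
import Cfsg.Agent.S0791
import Cfsg.Agent.S2171
import Cfsg.Agent.S0293

set_option autoImplicit false
open Cfsg

namespace Cfsg.Agent.S0294

open Cfsg.Agent.Helper28.Spin Cfsg.Agent.Helper28.OC Cfsg.Agent.S0293

/-- gcd(4, q^m + 1) |PΩ^-_{2m}(q)| = q^(m(m-1)) (q^m + 1) prod_{i=1}^{m-1} (q^(2i) - 1), m at least 4 (type ²D_m). -/
theorem result {F : Type*} [Field F] [Fintype F] {q : ℕ} (hF : Fintype.card F = q) (m : ℕ) (hm : 4 ≤ m) (a b : F) (hab : ∀ z₁ z₂ : F, z₁ ^ 2 + a * z₁ * z₂ + b * z₂ ^ 2 = 0 → z₁ = 0 ∧ z₂ = 0) : Nat.gcd 4 (q ^ m + 1) * Nat.card (Cfsg.POmega F (Cfsg.quadFormMinus (m - 1) F a b)) = q ^ (m * (m - 1)) * (q ^ m + 1) * ∏ i ∈ Finset.range (m - 1), (q ^ (2 * (i + 1)) - 1) := by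
  have hO := Cfsg.Agent.S0288.result hF m (by omega) a b hab
  have hcardι : Fintype.card ((Fin (m - 1) ⊕ Fin (m - 1)) ⊕ Fin 2) = 2 * m := by
    rw [Fintype.card_sum, Fintype.card_sum, Fintype.card_fin, Fintype.card_fin]; omega
  have h6 : 6 ≤ Fintype.card ((Fin (m - 1) ⊕ Fin (m - 1)) ⊕ Fin 2) := by rw [hcardι]; omega
  have hmul := card_POmega_mul (QfMinus (m - 1) F a b)
  rw [QfMinus_coe] at hmul
  rw [hO] at hmul
  obtain ⟨X, hX⟩ : ∃ X, X = q ^ (m * (m - 1)) * (q ^ m + 1) *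
    ∏ i ∈ Finset.range (m - 1), (q ^ (2 * (i + 1)) - 1) := ⟨_, rfl⟩
  have hX2 : 2 * q ^ (m * (m - 1)) * (q ^ m + 1) *
      ∏ i ∈ Finset.range (m - 1), (q ^ (2 * (i + 1)) - 1) = 2 * X := by rw [hX]; ring
  rw [hX2] at hmul
  rw [← hX]
  by_cases h2 : (2 : F) = 0
  · -- characteristic two
    haveI : CharP F 2 := CharTwo.of_one_ne_zero_of_two_eq_zero one_ne_zero h2
    have ha := Cfsg.Agent.S2171.ne_zero_of_aniso a b hab
    have hQ : (QuadraticMap.polarBilin (QfMinus (m - 1) F a b)).Nondegenerate := by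
      apply Cfsg.Agent.S2171.QfMinus_nondeg_of
      rw [show (4 : F) = 2 * 2 by norm_num, h2]
      simpa using ha
    have hidx := Cfsg.Agent.Helper28.CD2.index_Omega (QfMinus (m - 1) F a b) h2 hQ
      (Or.inr (by rw [hcardι]; omega)) ⟨Sum.inr 0⟩
    have hc := card_center_Omega_eq_one (QfMinus (m - 1) F a b) hQ h6 (fun h => h.1 h2)
    rw [QfMinus_coe] at hidx hc
    rw [hidx, hc] at hmul
    have hqeven : q % 2 = 0 := by
      have : ringChar F = 2 := by
        have := CharP.ringChar_of_prime_eq_zero Nat.prime_two (by exact_mod_cast h2 : ((2 : ℕ) : F) = 0)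
        exact this
      have h3 := FiniteField.even_card_iff_char_two.1 this
      rw [hF] at h3
      exact h3
    have hqm2 : q ^ m % 2 = 0 := by
      have : Even (q ^ m) := (Nat.even_pow.2 ⟨Nat.even_iff.2 hqeven, by omega⟩)
      exact Nat.even_iff.1 this
    rw [gcd_four_of_odd (by omega)]
    omega
  · -- odd characteristic
    have hodd : Odd q := by
      rw [← hF]
      exact card_odd h2
    have hδ := Cfsg.Agent.S2621.not_isSquare_disc h2 a b hab
    have hQ : (QuadraticMap.polarBilin (QfMinus (m - 1) F a b)).Nondegenerate := by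
      apply Cfsg.Agent.S2171.QfMinus_nondeg_of
      intro h
      apply hδ
      have : a ^ 2 - 4 * b = 0 := by linear_combination -h
      rw [this]
      exact ⟨0, by simp⟩
    have hidx := index_Omega_odd (QfMinus (m - 1) F a b) h2 hQ (by omega)
    rw [QfMinus_coe] at hidx
    rw [hidx] at hmul
    have hcrit := Cfsg.Agent.S0791.result hF hodd m (by omega) a b hab
    have hoddm : Odd (q ^ m) := hodd.pow
    obtain ⟨k, hk⟩ := hoddm
    by_cases h1 : q ^ m % 4 = 3
    · have hc := card_center_Omega_eq_two (QfMinus (m - 1) F a b) hQ h6 h2 (hcrit.2 h1)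
      rw [QfMinus_coe] at hc
      rw [hc] at hmul
      rw [gcd_four_of_mod_zero (by omega)]
      omega
    · have hc := card_center_Omega_eq_one (QfMinus (m - 1) F a b) hQ h6 (fun h => h1 (hcrit.1 h.2))
      rw [QfMinus_coe] at hc
      rw [hc] at hmul
      rw [gcd_four_of_mod_two (by omega)]
      omega

end Cfsg.Agent.S0294
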