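import Mathlib
import Cfsg.Statements.S1066
import Cfsg.Agent.Helper6.Chev.TwOrderMain
import Cfsg.Agent.S1102

set_option autoImplicit false
open Cfsg

namespace Cfsg.Agent.S1066

open Cfsg.Lie Cfsg.Agent.Helper6

/-- `gcd(3, q+1) · |²E₆(q)| = q³⁶ (q² - 1)(q⁵ + 1)(q⁶ - 1)(q⁸ - 1)(q⁹ + 1)(q¹² - 1)`, the group being realised inside E₆ over the field with `q²` elements. -/
theorem result {K : Type*} [Field K] [Fintype K] {q : ℕ} (hq : IsPrimePow q) (hK : Fintype.card K = q ^ 2) :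
    Nat.gcd 3 (q + 1) * Nat.card ↥(Cfsg.Lie.twistedE6 K q) =
      q ^ 36 * (q ^ 2 - 1) * (q ^ 5 + 1) * (q ^ 6 - 1) * (q ^ 8 - 1) * (q ^ 9 + 1) * (q ^ 12 - 1) := by
  have hH := Cfsg.Agent.S1102.result hq hK
  have hq1 : 1 ≤ q := hq.one_lt.le
  have hpoly := poly_identity_tw q hq1 4 [[1, 1], [1, 1]]
    [[1, 0, 0, 0, 0, 1], [1, 0, 0, 0, 0, 0, 0, 0, 0, 1]]
    [tX_2E6_3, tX_2E6_2, tX_2E6_1, tX_2E6_0] [2, 6, 8, 12] poly_2E6
  rw [card_twistedE6 hq hK]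
  generalize (([tX_2E6_3, tX_2E6_2, tX_2E6_1, tX_2E6_0] : List (List (List ℕ))).map fun X =>
        (X.map fun x => q ^ x.length).sum).prod = P at hpoly ⊢
  simp only [List.map_cons, List.map_nil, List.prod_cons, List.prod_nil, plEvalN] at hpoly
  calc Nat.gcd 3 (q + 1) * (q ^ 36 * (P * Nat.card ↥(chevE6.diagonalSubgroup K ⊓ twistedE6 K q)))
      = q ^ 36 * (P * (Nat.gcd 3 (q + 1) *
          Nat.card ↥(chevE6.diagonalSubgroup K ⊓ twistedE6 K q))) := by ring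
    _ = q ^ 36 * ((q - 1) ^ 4 * ((1 + q * (1 + q * 0)) * ((1 + q * (1 + q * 0)) * 1)) * P) := by
        rw [hH]; ring
    _ = _ := by rw [hpoly]; ring

end Cfsg.Agent.S1066
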