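import Cfsg.Statements.S2302
import Cfsg.Agent.Helper12.SL2Conj

set_option autoImplicit false
open Cfsg

namespace Cfsg.Agent.S2302

open Cfsg.Agent.Helper12

variable {F : Type*} [Field F]

theorem two_eq_zero' [CharP F 2] : (2 : F) = 0 := by
  have := CharP.cast_eq_zero F 2
  exact_mod_cast this

/-- Elements of order two are exactly the non-scalar elements of trace zero. -/
theorem order_two_iff [CharP F 2] (g : Matrix.SpecialLinearGroup (Fin 2) F) :
    orderOf g = 2 ↔ ¬ IsScalar2 (g : Matrix (Fin 2) (Fin 2) F) ∧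
      (g : Matrix (Fin 2) (Fin 2) F).trace = 0 := by
  have h2 : (2 : F) = 0 := two_eq_zero'
  constructor
  · intro hg
    have h1 : g ^ 2 = 1 := by
      have := pow_orderOf_eq_one g
      rwa [hg] at this
    have hne : g ≠ 1 := by
      intro h
      rw [h, orderOf_one] at hg
      omega
    have hA : (g : Matrix (Fin 2) (Fin 2) F) * (g : Matrix (Fin 2) (Fin 2) F) = 1 := by
      have := congrArg (fun x : Matrix.SpecialLinearGroup (Fin 2) F =>
        (x : Matrix (Fin 2) (Fin 2) F)) h1
      simpa [pow_two] using this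
    have hA1 : (g : Matrix (Fin 2) (Fin 2) F) ≠ 1 := by
      intro h
      apply hne
      apply Subtype.ext
      simpa using h
    have hsq : ((g : Matrix (Fin 2) (Fin 2) F) - 1) ^ 2 = 0 := by
      rw [pow_two, sub_mul, mul_sub, mul_sub, hA]
      simp only [Matrix.mul_one, Matrix.one_mul]
      have : ∀ X : Matrix (Fin 2) (Fin 2) F, X + X = 0 := by
        intro X
        ext i j
        simp only [Matrix.add_apply, Matrix.zero_apply]
        linear_combination (X i j) * h2
      have h3 := this ((g : Matrix (Fin 2) (Fin 2) F))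
      have h4 := this (1 : Matrix (Fin 2) (Fin 2) F)
      have h5 : (g : Matrix (Fin 2) (Fin 2) F) = -(g : Matrix (Fin 2) (Fin 2) F) :=
        eq_neg_of_add_eq_zero_left h3
      calc (1 : Matrix (Fin 2) (Fin 2) F) - (g : Matrix (Fin 2) (Fin 2) F) -
            ((g : Matrix (Fin 2) (Fin 2) F) - 1)
          = (1 + 1) - ((g : Matrix (Fin 2) (Fin 2) F) + (g : Matrix (Fin 2) (Fin 2) F)) := by abel
        _ = 0 := by rw [h3, h4, sub_zero]
    obtain ⟨h6, h7, -⟩ := unipotent2_trace_det _ hsq hA1
    exact ⟨h6, by rw [h7, h2]⟩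
  · rintro ⟨hns, htr⟩
    have hdet : (g : Matrix (Fin 2) (Fin 2) F).det = 1 := g.2
    have hA := cayley2 (g : Matrix (Fin 2) (Fin 2) F)
    rw [htr, hdet, zero_smul, one_smul, zero_sub] at hA
    have h11 : (-1 : Matrix (Fin 2) (Fin 2) F) = 1 := by
      ext i j
      simp only [Matrix.neg_apply]
      by_cases hij : i = j
      · subst hij
        simp only [Matrix.one_apply_eq]
        linear_combination -h2
      · simp [Matrix.one_apply_ne hij]
    rw [h11] at hA
    have h1 : g ^ 2 = 1 := by
      apply Subtype.ext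
      simpa [pow_two] using hA
    have hne : g ≠ 1 := by
      intro h
      apply hns
      rw [h, isScalar2_iff]
      exact ⟨1, by simp⟩
    exact orderOf_eq_prime h1 hne

theorem card_order_two [Fintype F] [CharP F 2] :
    Nat.card {x : Matrix.SpecialLinearGroup (Fin 2) F // orderOf x = 2} = Fintype.card F ^ 2 - 1 := by
  classical
  have h2 : (2 : F) = 0 := two_eq_zero'
  have hneg : ∀ z : F, -z = z := by
    intro z
    linear_combination -z * h2
  let f : {x : Matrix.SpecialLinearGroup (Fin 2) F // orderOf x = 2} → {p : F × F | p ≠ (0, 0)} :=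
    fun x => ⟨((x.1 : Matrix (Fin 2) (Fin 2) F) 0 1, (x.1 : Matrix (Fin 2) (Fin 2) F) 1 0), by
      intro h
      obtain ⟨hns, htr⟩ := (order_two_iff x.1).1 x.2
      apply hns
      have hb : (x.1 : Matrix (Fin 2) (Fin 2) F) 0 1 = 0 := congrArg Prod.fst h
      have hc : (x.1 : Matrix (Fin 2) (Fin 2) F) 1 0 = 0 := congrArg Prod.snd h
      refine ⟨hb, hc, ?_⟩
      rw [Matrix.trace_fin_two] at htr
      rw [← hneg ((x.1 : Matrix (Fin 2) (Fin 2) F) 1 1)]
      linear_combination htr⟩
  have hbij : Function.Bijective f := by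
    constructor
    · rintro ⟨x, hx⟩ ⟨y, hy⟩ hxy
      have hb : (x : Matrix (Fin 2) (Fin 2) F) 0 1 = (y : Matrix (Fin 2) (Fin 2) F) 0 1 :=
        congrArg (fun p => p.1.1) hxy
      have hc : (x : Matrix (Fin 2) (Fin 2) F) 1 0 = (y : Matrix (Fin 2) (Fin 2) F) 1 0 :=
        congrArg (fun p => p.1.2) hxy
      obtain ⟨-, htx⟩ := (order_two_iff x).1 hx
      obtain ⟨-, hty⟩ := (order_two_iff y).1 hy
      rw [Matrix.trace_fin_two] at htx hty
      have hdx : (x : Matrix (Fin 2) (Fin 2) F).det = 1 := x.2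
      have hdy : (y : Matrix (Fin 2) (Fin 2) F).det = 1 := y.2
      rw [Matrix.det_fin_two] at hdx hdy
      have hx11 : (x : Matrix (Fin 2) (Fin 2) F) 1 1 = (x : Matrix (Fin 2) (Fin 2) F) 0 0 := by
        rw [← hneg ((x : Matrix (Fin 2) (Fin 2) F) 1 1)]; linear_combination -htx
      have hy11 : (y : Matrix (Fin 2) (Fin 2) F) 1 1 = (y : Matrix (Fin 2) (Fin 2) F) 0 0 := by
        rw [← hneg ((y : Matrix (Fin 2) (Fin 2) F) 1 1)]; linear_combination -hty
      have ha : (x : Matrix (Fin 2) (Fin 2) F) 0 0 = (y : Matrix (Fin 2) (Fin 2) F) 0 0 := by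
        rw [hx11] at hdx
        rw [hy11] at hdy
        have h3 : ((x : Matrix (Fin 2) (Fin 2) F) 0 0 - (y : Matrix (Fin 2) (Fin 2) F) 0 0) *
            ((x : Matrix (Fin 2) (Fin 2) F) 0 0 - (y : Matrix (Fin 2) (Fin 2) F) 0 0) = 0 := by
          rw [hb, hc] at hdx
          linear_combination hdx - hdy -
            ((x : Matrix (Fin 2) (Fin 2) F) 0 0 * (y : Matrix (Fin 2) (Fin 2) F) 0 0 -
              (y : Matrix (Fin 2) (Fin 2) F) 0 0 * (y : Matrix (Fin 2) (Fin 2) F) 0 0) * h2
        have := mul_self_eq_zero.1 h3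
        linear_combination this
      apply Subtype.ext
      apply Subtype.ext
      ext i j
      fin_cases i <;> fin_cases j
      · exact ha
      · exact hb
      · exact hc
      · show (x : Matrix (Fin 2) (Fin 2) F) 1 1 = (y : Matrix (Fin 2) (Fin 2) F) 1 1
        rw [hx11, hy11, ha]
    · rintro ⟨⟨b, c⟩, hbc⟩
      obtain ⟨a, ha⟩ := FiniteField.isSquare_of_char_two (ringChar.eq F 2) (1 + b * c)
      have hdet : (!![a, b; c, a] : Matrix (Fin 2) (Fin 2) F).det = 1 := by
        rw [Matrix.det_fin_two_of, ← ha]; ring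
      set m : Matrix.SpecialLinearGroup (Fin 2) F := ⟨!![a, b; c, a], hdet⟩ with hm
      have hmc : (m : Matrix (Fin 2) (Fin 2) F) = !![a, b; c, a] := rfl
      have hord : orderOf m = 2 := by
        rw [order_two_iff, hmc]
        constructor
        · rintro ⟨h3, h4, -⟩
          apply hbc
          simp only [Matrix.of_apply, Matrix.cons_val', Matrix.cons_val_zero, Matrix.cons_val_one,
            Matrix.empty_val', Matrix.cons_val_fin_one] at h3 h4
          rw [h3, h4]
        · simp only [Matrix.trace_fin_two_of]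
          linear_combination a * h2
      refine ⟨⟨m, hord⟩, ?_⟩
      apply Subtype.ext
      simp [f, hmc]
  rw [Nat.card_eq_of_bijective f hbij, Nat.card_eq_fintype_card, Set.card_ne_eq, Fintype.card_prod]
  ring_nf

theorem result {F : Type*} [Field F] [Fintype F] [CharP F 2] (g h : Matrix.SpecialLinearGroup (Fin 2) F) (hg : orderOf g = 2) (hh : orderOf h = 2) :
    IsConj g h ∧ Nat.card (ConjClasses.mk g).carrier = Fintype.card F ^ 2 - 1 := by
  have key : ∀ x y : Matrix.SpecialLinearGroup (Fin 2) F, orderOf x = 2 → orderOf y = 2 →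
      IsConj x y := by
    intro x y hx hy
    obtain ⟨h1, h2⟩ := (order_two_iff x).1 hx
    obtain ⟨h3, h4⟩ := (order_two_iff y).1 hy
    exact sl2_isConj_of_trace_eq x y h1 h3 (h2.trans h4.symm) (Or.inl (ringChar.eq F 2))
  refine ⟨key g h hg hh, ?_⟩
  have hset : (ConjClasses.mk g).carrier = {x : Matrix.SpecialLinearGroup (Fin 2) F | orderOf x = 2} := by
    ext x
    rw [ConjClasses.mem_carrier_iff_mk_eq, ConjClasses.mk_eq_mk_iff_isConj]
    show IsConj x g ↔ orderOf x = 2
    constructor
    · intro hx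
      obtain ⟨c, hc⟩ := isConj_iff.1 hx
      have h5 : orderOf (c * x * c⁻¹) = orderOf x := MulEquiv.orderOf_eq (MulAut.conj c) x
      rw [hc, hg] at h5
      exact h5.symm
    · intro hx
      exact key x g hx hg
  rw [hset]
  exact card_order_two

end Cfsg.Agent.S2302
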