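import Cfsg.Statements.S2012
import Mathlib
import Cfsg.Agent.Helper10.Alperin

set_option autoImplicit false
open Cfsg

namespace Cfsg.Agent.S2012

/-- Alperin's fusion Theorem with the factors taken to be p-elements: let P be a Sylow p-subgroup of a finite group G, A a subset of P and g an element with g⁻¹Ag ⊆ P. Then g = x_1 ⋯ x_n where, for each i, Q_i is a Sylow p-subgroup with P ∩ Q_i a tame intersection (the normalizers in P and in Q_i of P ∩ Q_i are Sylow in N_G(P ∩ Q_i)), x_i normalizes P ∩ Q_i, x_i has p-power order unless Q_i = P, A ⊆ P ∩ Q_1, and (x_1 ⋯ x_i)⁻¹ A (x_1 ⋯ x_i) lies in P ∩ Q_{i+1} for i < n. -/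
theorem result {G : Type*} [Group G] [Finite G] {p : ℕ} [Fact p.Prime] (P : Sylow p G) (A : Set G) (g : G) (hA : A ⊆ (P : Set G)) (hAg : (fun a => g⁻¹ * a * g) '' A ⊆ (P : Set G)) : ∃ (n : ℕ) (Q : Fin n → Sylow p G) (x : Fin n → G), (List.ofFn x).prod = g ∧ (∀ i : Fin n, x i ∈ Subgroup.normalizer ((((P : Subgroup G) ⊓ (Q i : Subgroup G)) : Subgroup G) : Set G) ∧ ¬ p ∣ ((P : Subgroup G) ⊓ Subgroup.normalizer ((((P : Subgroup G) ⊓ (Q i : Subgroup G)) : Subgroup G) : Set G)).relIndex (Subgroup.normalizer ((((P : Subgroup G) ⊓ (Q i : Subgroup G)) : Subgroup G) : Set G)) ∧ ¬ p ∣ ((Q i : Subgroup G) ⊓ Subgroup.normalizer ((((P : Subgroup G) ⊓ (Q i : Subgroup G)) : Subgroup G) : Set G)).relIndex (Subgroup.normalizer ((((P : Subgroup G) ⊓ (Q i : Subgroup G)) : Subgroup G) : Set G)) ∧ ((Q i : Subgroup G) = (P : Subgroup G) ∨ ∃ k : ℕ, orderOf (x i) = p ^ k)) ∧ (∀ h : 0 < n, A ⊆ (((P : Subgroup G) ⊓ (Q ⟨0, h⟩ :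 Subgroup G) : Subgroup G) : Set G)) ∧ ∀ i : Fin n, ∀ h : i.val + 1 < n, (fun a => (((List.ofFn x).take (i.val + 1)).prod)⁻¹ * a * ((List.ofFn x).take (i.val + 1)).prod) '' A ⊆ (((P : Subgroup G) ⊓ (Q ⟨i.val + 1, h⟩ : Subgroup G) : Subgroup G) : Set G) := by
  obtain ⟨l, hd, he, hl⟩ := Cfsg.Agent.Helper10.alperin_tame P A g hA hAg
  obtain ⟨h1, h2, h3⟩ := Cfsg.Agent.Helper10.Dec.aux hd
  have hx : List.ofFn (fun i : Fin l.length => (l[(i : ℕ)]).2) = l.map Prod.snd :=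
    List.ofFn_getElem_eq_map l Prod.snd
  have hQ : ∀ i : Fin l.length, ∃ Q : Sylow p G,
      (l[(i : ℕ)]).1 = (P : Subgroup G) ⊓ (Q : Subgroup G) ∧
      Cfsg.Agent.Helper10.IsExt p (P : Subgroup G) (l[(i : ℕ)]).1 ∧
      Cfsg.Agent.Helper10.IsExt p (Q : Subgroup G) (l[(i : ℕ)]).1 := fun i => (h1 i i.2).1
  choose Qf hQf using hQ
  refine ⟨l.length, Qf, fun i => (l[(i : ℕ)]).2, ?_, ?_, ?_, ?_⟩
  · rw [hx]; exact hl
  · intro i
    obtain ⟨e1, e2, e3⟩ := hQf i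
    refine ⟨?_, ?_, ?_, ?_⟩
    · rw [← e1]; exact (h1 i i.2).2
    · rw [← e1]; exact e2
    · rw [← e1]; exact e3
    · rcases he (l[(i : ℕ)]) (List.getElem_mem i.2) with h | h
      · left
        rw [e1] at h
        have hle : (P : Subgroup G) ≤ (Qf i : Subgroup G) := by
          rw [← h]; exact inf_le_right
        exact Cfsg.Agent.Helper10.sylow_coe_eq_of_le hle
      · right
        exact h
  · intro h
    rw [← (hQf ⟨0, h⟩).1]
    exact h2 h
  · intro i h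
    rw [← (hQf ⟨i.val + 1, h⟩).1, hx]
    exact h3 i h

end Cfsg.Agent.S2012
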