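import Cfsg.Statements.S0111
import Mathlib

set_option autoImplicit false
open Cfsg

namespace Cfsg.Agent.S0111

/-- The Thompson transfer lemma states that an involution of a Sylow 2-subgroup P lying outside a subgroup Q of index 2 in P either lies outside some normal subgroup of index 2 in G or is conjugate to an element of Q. -/
theorem result {G : Type*} [Group G] [Finite G] (P : Sylow 2 G) (Q : Subgroup G) (hQP : Q ≤ (P : Subgroup G)) (hQi : Q.relIndex (P : Subgroup G) = 2) (u : G) (hu : orderOf u = 2) (huP : u ∈ (P : Subgroup G)) (huQ : u ∉ Q) : (∃ M : Subgroup G, M.Normal ∧ M.index = 2 ∧ u ∉ M) ∨ ∃ g : G, g * u * g⁻¹ ∈ Q := by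
  classical
  by_cases hconj : ∃ g : G, g * u * g⁻¹ ∈ Q
  · right; exact hconj
  left
  rw [not_exists] at hconj
  have : Fact (Nat.Prime 2) := ⟨Nat.prime_two⟩
  -- the index-two subgroup Q' of P
  set Q' : Subgroup (P : Subgroup G) := Q.subgroupOf (P : Subgroup G) with hQ'
  have hidx : Q'.index = 2 := hQi
  -- the sign homomorphism P → ℤˣ with kernel Q'
  let ϕ : (P : Subgroup G) →* ℤˣ :=
    { toFun := fun x => if x ∈ Q' then 1 else -1
      map_one' := by simp [Q'.one_mem]
      map_mul' := fun a b => by
        have := Subgroup.mul_mem_iff_of_index_two hidx (a := a) (b := b)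
        by_cases ha : a ∈ Q' <;> by_cases hb : b ∈ Q' <;> simp [ha, hb, this] }
  have hϕ1 : ∀ x : (P : Subgroup G), x ∈ Q' → ϕ x = 1 := fun x hx => by simp [ϕ, hx]
  have hϕ2 : ∀ x : (P : Subgroup G), x ∉ Q' → ϕ x = -1 := fun x hx => by simp [ϕ, hx]
  have hu2 : u ^ 2 = 1 := by rw [← hu]; exact pow_orderOf_eq_one u
  -- compute the transfer of u
  have hV : MonoidHom.transfer ϕ u = -1 := by
    have : Fintype (Quotient (MulAction.orbitRel (Subgroup.zpowers u) (G ⧸ (P : Subgroup G)))) :=
      Fintype.ofFinite _
    rw [MonoidHom.transfer_eq_prod_quotient_orbitRel_zpowers_quot]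
    have hfac : ∀ q : Quotient (MulAction.orbitRel (Subgroup.zpowers u) (G ⧸ (P : Subgroup G))),
        ϕ ⟨q.out.out⁻¹ * u ^ Function.minimalPeriod (u • ·) q.out * q.out.out,
          QuotientGroup.out_conj_pow_minimalPeriod_mem (P : Subgroup G) u q.out⟩ =
        (-1 : ℤˣ) ^ Function.minimalPeriod (u • ·) q.out := by
      intro q
      have hdvd : Function.minimalPeriod (u • ·) q.out ∣ 2 := by
        rw [← MulAction.pow_smul_eq_iff_minimalPeriod_dvd, hu2, one_smul]
      rcases (Nat.dvd_prime Nat.prime_two).mp hdvd with h1 | h2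
      · -- fixed point
        have hmem := QuotientGroup.out_conj_pow_minimalPeriod_mem (P : Subgroup G) u q.out
        rw [hϕ2]
        · rw [h1, pow_one]
        · rw [hQ', Subgroup.mem_subgroupOf]
          simp only [h1, pow_one]
          have := hconj (q.out.out⁻¹)
          rwa [inv_inv] at this
      · rw [hϕ1]
        · rw [h2]; norm_num
        · rw [hQ', Subgroup.mem_subgroupOf]
          simp only [h2, hu2, mul_one, inv_mul_cancel]
          exact Q.one_mem
    rw [Finset.prod_congr rfl (fun q _ => hfac q), Finset.prod_pow_eq_pow_sum,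
      ← Subgroup.index_eq_sum_minimalPeriod (P : Subgroup G) u]
    have hodd : Odd (P : Subgroup G).index := by
      rw [← Nat.not_even_iff_odd, even_iff_two_dvd]
      exact P.not_dvd_index
    exact hodd.neg_one_pow
  refine ⟨(MonoidHom.transfer ϕ).ker, inferInstance, ?_, ?_⟩
  · rw [Subgroup.index_ker]
    have hle : Nat.card (MonoidHom.transfer ϕ).range ≤ 2 := by
      have h0 := Subgroup.card_le_card_group (MonoidHom.transfer ϕ).range
      have h1 : Nat.card ℤˣ = 2 := by
        rw [Nat.card_eq_fintype_card, Fintype.card_units_int]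
      rwa [h1] at h0
    have hge : 2 ≤ Nat.card (MonoidHom.transfer ϕ).range := by
      by_contra hlt
      rw [not_le] at hlt
      have hpos : 0 < Nat.card (MonoidHom.transfer ϕ).range := Nat.card_pos
      have h1 : Nat.card (MonoidHom.transfer ϕ).range = 1 := by omega
      rw [Subgroup.card_eq_one] at h1
      have hmem : (-1 : ℤˣ) ∈ (MonoidHom.transfer ϕ).range := ⟨u, hV⟩
      rw [h1, Subgroup.mem_bot] at hmem
      exact absurd hmem (by decide)
    omega
  · intro hmem
    rw [MonoidHom.mem_ker, hV] at hmem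
    exact absurd hmem (by decide)

end Cfsg.Agent.S0111
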