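import Cfsg.Statements.S2438
import Cfsg.Agent.Helper12.SL2OddCases

set_option autoImplicit false
open Cfsg Cfsg.Agent.Helper12 Cfsg.Agent.Helper24

namespace Cfsg.Agent.S2438

open scoped ComplexConjugate in
/-- The sum over the unipotent subgroup as a sum over the field. -/
theorem sum_unip_filter {F : Type*} [Field F] [Fintype F] [DecidableEq F]
    (χ : Matrix.SpecialLinearGroup (Fin 2) F → ℂ) :
    (∑ g : Matrix.SpecialLinearGroup (Fin 2) F, if (g : Matrix (Fin 2) (Fin 2) F) 1 0 = 0 ∧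
      (g : Matrix (Fin 2) (Fin 2) F) 0 0 = 1 ∧ (g : Matrix (Fin 2) (Fin 2) F) 1 1 = 1 then χ g else 0) =
      ∑ r : F, χ (borelMkSL (1 : Fˣ) r) := by
  rw [← Finset.sum_filter]
  have himg : Finset.univ.filter (fun g : Matrix.SpecialLinearGroup (Fin 2) F =>
      (g : Matrix (Fin 2) (Fin 2) F) 1 0 = 0 ∧
      (g : Matrix (Fin 2) (Fin 2) F) 0 0 = 1 ∧ (g : Matrix (Fin 2) (Fin 2) F) 1 1 = 1) =
      Finset.univ.image (fun r : F => borelMkSL (1 : Fˣ) r) := by
    ext g
    simp only [Finset.mem_filter, Finset.mem_univ, true_and, Finset.mem_image]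
    constructor
    · rintro ⟨h10, h00, h11⟩
      obtain ⟨u, hu, _, hg⟩ := eq_borelMkSL_of_upper g h10
      have hu1 : u = 1 := Units.ext (by rw [hu, h00]; rfl)
      rw [hu1] at hg
      exact ⟨_, hg.symm⟩
    · rintro ⟨r, rfl⟩
      simp [borelMkSL_coe]
  rw [himg, Finset.sum_image]
  intro r _ r' _ h
  have := congrArg (fun g : Matrix.SpecialLinearGroup (Fin 2) F =>
    (g : Matrix (Fin 2) (Fin 2) F) 0 1) h
  simpa [borelMkSL_coe] using this

open scoped ComplexConjugate in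
/-- The sum of a class function over the unipotent subgroup, from the multiplicities in the
principal series. -/
theorem sum_unip_of_mult {F : Type*} [Field F] [Fintype F] [DecidableEq F]
    (χ : Matrix.SpecialLinearGroup (Fin 2) F → ℂ)
    (hcf : IsClassFunction (Matrix.SpecialLinearGroup (Fin 2) F) χ) (N : ℕ)
    [Fintype (MulChar F ℂ)]
    (hN : ∑ α : MulChar F ℂ, classInner (psS α) χ = (N : ℂ)) :
    ∑ r : F, χ (borelMkSL (1 : Fˣ) r) = (N : ℂ) * (Fintype.card F : ℂ) := by
  have h := sum_conj_borelMkSL χ hcf 1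
  simp only [Units.val_one, map_one, one_mul] at h
  rw [hN] at h
  have h2 := congrArg conj h
  simp only [map_sum, Complex.conj_conj, map_mul, Complex.conj_natCast] at h2
  rw [h2]; ring

/-- Let F be a finite field with q elements, q odd, q ≥ 5, U the upper unitriangular subgroup of SL₂ over F, and χ an irreducible complex character. The sum of the values of χ over U equals 2q, q, 0, q, 0 according as the degree of χ is q + 1, q, q − 1, (q + 1)/2, (q − 1)/2; so among these five degrees the sum vanishes exactly for the degrees q − 1 and (q − 1)/2, i.e. the irreducible characters of those two degrees are the ones whose restriction to U does not contain the trivial character (the cuspidal characters), while those of degree q + 1, q and (q + 1)/2 are not cuspidal. -/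
theorem result {F : Type*} [Field F] [Fintype F] [DecidableEq F] (hodd : Odd (Fintype.card F)) (hq : 5 ≤ Fintype.card F)
    (χ : Matrix.SpecialLinearGroup (Fin 2) F → ℂ) (hχ : Cfsg.IsIrrCharacter (Matrix.SpecialLinearGroup (Fin 2) F) χ) :
    (χ 1 = (Fintype.card F : ℂ) + 1 →
      (∑ g : Matrix.SpecialLinearGroup (Fin 2) F, if (g : Matrix (Fin 2) (Fin 2) F) 1 0 = 0 ∧ (g : Matrix (Fin 2) (Fin 2) F) 0 0 = 1 ∧ (g : Matrix (Fin 2) (Fin 2) F) 1 1 = 1 then χ g else 0) = 2 * (Fintype.card F : ℂ)) ∧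
    (χ 1 = (Fintype.card F : ℂ) →
      (∑ g : Matrix.SpecialLinearGroup (Fin 2) F, if (g : Matrix (Fin 2) (Fin 2) F) 1 0 = 0 ∧ (g : Matrix (Fin 2) (Fin 2) F) 0 0 = 1 ∧ (g : Matrix (Fin 2) (Fin 2) F) 1 1 = 1 then χ g else 0) = (Fintype.card F : ℂ)) ∧
    (χ 1 = (Fintype.card F : ℂ) - 1 →
      (∑ g : Matrix.SpecialLinearGroup (Fin 2) F, if (g : Matrix (Fin 2) (Fin 2) F) 1 0 = 0 ∧ (g : Matrix (Fin 2) (Fin 2) F) 0 0 = 1 ∧ (g : Matrix (Fin 2) (Fin 2) F) 1 1 = 1 then χ g else 0) = 0) ∧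
    (χ 1 = (((Fintype.card F + 1) / 2 : ℕ) : ℂ) →
      (∑ g : Matrix.SpecialLinearGroup (Fin 2) F, if (g : Matrix (Fin 2) (Fin 2) F) 1 0 = 0 ∧ (g : Matrix (Fin 2) (Fin 2) F) 0 0 = 1 ∧ (g : Matrix (Fin 2) (Fin 2) F) 1 1 = 1 then χ g else 0) = (Fintype.card F : ℂ)) ∧
    (χ 1 = (((Fintype.card F - 1) / 2 : ℕ) : ℂ) →
      (∑ g : Matrix.SpecialLinearGroup (Fin 2) F, if (g : Matrix (Fin 2) (Fin 2) F) 1 0 = 0 ∧ (g : Matrix (Fin 2) (Fin 2) F) 0 0 = 1 ∧ (g : Matrix (Fin 2) (Fin 2) F) 1 1 = 1 then χ g else 0) = 0) := by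
  classical
  have : Fintype (MulChar F ℂ) := Fintype.ofFinite _
  have hF := ringChar_ne_two_of_odd hodd
  obtain ⟨ε, hε⟩ := FiniteField.exists_nonsquare hF
  obtain ⟨r, hr⟩ : ∃ r : ℕ, Fintype.card F = 2 * r + 5 := by
    obtain ⟨k, hk⟩ := hodd
    exact ⟨k - 2, by omega⟩
  have e1 : (Fintype.card F + 1) / 2 = r + 3 := by omega
  have e2 : (Fintype.card F - 1) / 2 = r + 2 := by omega
  have c2 : (Fintype.card F : ℂ) = ((2 * r + 5 : ℕ) : ℂ) := by rw [hr]
  have c3 : (Fintype.card F : ℂ) + 1 = ((2 * r + 6 : ℕ) : ℂ) := by rw [hr]; push_cast; ring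
  have c4 : (Fintype.card F : ℂ) - 1 = ((2 * r + 4 : ℕ) : ℂ) := by rw [hr]; push_cast; ring
  have hcf := IsCharacter.isClassFunction (IsIrrCharacter.isCharacter hχ)
  simp only [sum_unip_filter]
  rw [e1, e2, c3, c4]
  have ne1 : ∀ a b : ℕ, a ≠ b → ¬ ((a : ℂ) = (b : ℂ)) := by
    intro a b hab h
    exact hab (by exact_mod_cast h)
  -- the multiplicity sums
  have mult_ps : ∀ γ : MulChar F ℂ, γ ^ 2 ≠ 1 →
      ∑ α : MulChar F ℂ, classInner (psS α) (psS γ) = ((2 : ℕ) : ℂ) := by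
    intro γ _
    have h1 : ∀ α : MulChar F ℂ, classInner (psS α) (psS γ) =
        (if α = γ then 1 else 0) + (if α = γ⁻¹ then 1 else 0) := fun α =>
      classInner_indFun_borelChar α γ
    simp only [h1, Finset.sum_add_distrib, Finset.sum_ite_eq', Finset.mem_univ, if_true]
    norm_num
  have mult_st : ∑ α : MulChar F ℂ, classInner (psS α)
      (stS (F := F) : Matrix.SpecialLinearGroup (Fin 2) F → ℂ) = ((1 : ℕ) : ℂ) := by
    have h1 : ∀ α : MulChar F ℂ, classInner (psS α)
        (stS (F := F) : Matrix.SpecialLinearGroup (Fin 2) F → ℂ) = if α = 1 then 1 else 0 := by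
      intro α
      rcases pairS_one_cases (F := F) with ⟨_, h2⟩ | ⟨_, h2⟩
      · rw [← h2]; exact (classInner_psS_pair α 1 one_sq_mulChar).2
      · rw [← h2]; exact (classInner_psS_pair α 1 one_sq_mulChar).1
    simp only [h1, Finset.sum_ite_eq', Finset.mem_univ, if_true]
    norm_num
  have mult_xi1 : ∑ α : MulChar F ℂ, classInner (psS α)
      ((pairS (sgnC (F := F)) sgnC_sq).1 : Matrix.SpecialLinearGroup (Fin 2) F → ℂ) =
      ((1 : ℕ) : ℂ) := by
    simp only [(classInner_psS_pair _ sgnC sgnC_sq).1, Finset.sum_ite_eq', Finset.mem_univ, if_true]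
    norm_num
  have mult_xi2 : ∑ α : MulChar F ℂ, classInner (psS α)
      ((pairS (sgnC (F := F)) sgnC_sq).2 : Matrix.SpecialLinearGroup (Fin 2) F → ℂ) =
      ((1 : ℕ) : ℂ) := by
    simp only [(classInner_psS_pair _ sgnC sgnC_sq).2, Finset.sum_ite_eq', Finset.mem_univ, if_true]
    norm_num
  have mult_cusp : IsCuspS χ → ∑ α : MulChar F ℂ, classInner (psS α) χ = ((0 : ℕ) : ℂ) := by
    intro hc
    simp [hc _]
  rcases sl2_odd_cases_nat hodd r hr hε χ hχ with ⟨rfl, hd⟩ | ⟨rfl, hd⟩ | ⟨α, hα, rfl, hd⟩ |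
    ⟨h, hd⟩ | ⟨hc, hd, _⟩ | ⟨hc, hd, _⟩
  · rw [hd]
    refine ⟨fun h => absurd h (ne1 _ _ (by omega)), ?_, fun h => absurd h (ne1 _ _ (by omega)),
      fun h => absurd h (ne1 _ _ (by omega)), fun h => absurd h (ne1 _ _ (by omega))⟩
    rw [c2]
    exact fun h => absurd h (ne1 _ _ (by omega))
  · rw [hd]
    refine ⟨fun h => absurd h (ne1 _ _ (by omega)), ?_, fun h => absurd h (ne1 _ _ (by omega)),
      fun h => absurd h (ne1 _ _ (by omega)), fun h => absurd h (ne1 _ _ (by omega))⟩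
    intro _
    rw [sum_unip_of_mult _ hcf 1 mult_st]
    push_cast; ring
  · rw [hd]
    refine ⟨?_, ?_, fun h => absurd h (ne1 _ _ (by omega)),
      fun h => absurd h (ne1 _ _ (by omega)), fun h => absurd h (ne1 _ _ (by omega))⟩
    · intro _
      rw [sum_unip_of_mult _ hcf 2 (mult_ps α hα)]
      push_cast; ring
    · rw [c2]
      exact fun h => absurd h (ne1 _ _ (by omega))
  · rw [hd]
    refine ⟨fun h => absurd h (ne1 _ _ (by omega)), ?_, fun h => absurd h (ne1 _ _ (by omega)),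
      ?_, fun h => absurd h (ne1 _ _ (by omega))⟩
    · rw [c2]
      exact fun h => absurd h (ne1 _ _ (by omega))
    · intro _
      rcases h with rfl | rfl
      · rw [sum_unip_of_mult _ hcf 1 mult_xi1]
        push_cast; ring
      · rw [sum_unip_of_mult _ hcf 1 mult_xi2]
        push_cast; ring
  · rw [hd]
    refine ⟨fun h => absurd h (ne1 _ _ (by omega)), ?_, ?_,
      fun h => absurd h (ne1 _ _ (by omega)), fun h => absurd h (ne1 _ _ (by omega))⟩
    · rw [c2]
      exact fun h => absurd h (ne1 _ _ (by omega))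
    · intro _
      rw [sum_unip_of_mult _ hcf 0 (mult_cusp hc)]
      push_cast; ring
  · rw [hd]
    refine ⟨fun h => absurd h (ne1 _ _ (by omega)), ?_, fun h => absurd h (ne1 _ _ (by omega)),
      fun h => absurd h (ne1 _ _ (by omega)), ?_⟩
    · rw [c2]
      exact fun h => absurd h (ne1 _ _ (by omega))
    · intro _
      rw [sum_unip_of_mult _ hcf 0 (mult_cusp hc)]
      push_cast; ring

end Cfsg.Agent.S2438
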