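import Mathlib
import Cfsg.Statements.S0925
import Cfsg.Agent.Helper5.StrongOrth

set_option autoImplicit false
open Cfsg

namespace Cfsg.Agent.S0925

open Cfsg.Agent.Helper5.CC Cfsg.Agent.Helper5.Loc Cfsg.Agent.Helper24 Cfsg.Agent.Helper5

/-- Conjugating an element conjugates its `p`-part. -/
theorem isPPart_conj {G : Type*} [Group G] {p : ℕ} {h y : G} (hy : IsPPart p h y) (t : G) :
    IsPPart p (t * h * t⁻¹) (t * y * t⁻¹) := by
  obtain ⟨y', hyy, hc, ⟨k, hk⟩, hy'⟩ := hy
  refine ⟨t * y' * t⁻¹, ?_, ?_, ⟨k, ?_⟩, ?_⟩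
  · rw [← hyy]; group
  · have := hc.eq
    show t * y * t⁻¹ * (t * y' * t⁻¹) = t * y' * t⁻¹ * (t * y * t⁻¹)
    calc t * y * t⁻¹ * (t * y' * t⁻¹) = t * (y * y') * t⁻¹ := by group
      _ = t * (y' * y) * t⁻¹ := by rw [this]
      _ = t * y' * t⁻¹ * (t * y * t⁻¹) := by group
  · have : t * y * t⁻¹ = MulAut.conj t y := rfl
    rw [this, MulEquiv.orderOf_eq, hk]
  · have : t * y' * t⁻¹ = MulAut.conj t y' := rfl
    rw [this, MulEquiv.orderOf_eq]
    exact hy'

/-- The section form for an arbitrary element `u` with `p`-part `z`. -/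
theorem blockPart_eq_zero_of_pPart {G : Type*} [Group G] [Finite G] (p : ℕ) [Fact p.Prime]
    (M : Ideal Cfsg.AlgInt) (hM : Cfsg.IsPModular p M) (ϑ : G → ℂ) (hϑ : IsClassFunction G ϑ)
    (u z : G) (hz : IsPPart p u z) (hvan : ∀ u' : G, IsPPart p u' z → ϑ u' = 0)
    (B : Set (IrrCharacter G)) (hB : IsPBlock M B) : blockPart B ϑ u = 0 := by
  classical
  have : Fintype G := Fintype.ofFinite G
  have : Fintype (IrrCharacter G) := Fintype.ofFinite _
  have : Fintype (Subgroup.centralizer ({z} : Set G)) := Fintype.ofFinite _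
  obtain ⟨y0, hzy, hc, ⟨a, ha⟩, hy0⟩ := hz
  have hzC : z ∈ Subgroup.centralizer ({z} : Set G) := by
    rw [Subgroup.mem_centralizer_iff]
    intro h hh
    rw [Set.mem_singleton_iff] at hh
    rw [hh]
  have hcomm : ∀ c : Subgroup.centralizer ({z} : Set G), z * (c : G) = (c : G) * z := by
    intro c
    exact Subgroup.mem_centralizer_iff.mp c.2 z (Set.mem_singleton z)
  have hy0C : y0 ∈ Subgroup.centralizer ({z} : Set G) := by
    rw [Subgroup.mem_centralizer_iff]
    intro h hh
    rw [Set.mem_singleton_iff] at hh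
    rw [hh]
    exact hc.eq
  have key := blockPart_eq_zero_of_section hM z ⟨a, ha⟩ (Subgroup.centralizer ({z} : Set G)) hzC
    hcomm le_rfl hϑ ?_ B hB ⟨y0, hy0C⟩ (by rwa [← Subgroup.orderOf_coe] )
  · rw [← hzy]
    exact key
  · intro c hcr
    apply hvan
    refine ⟨(c : G), rfl, hcomm c, ⟨a, ha⟩, ?_⟩
    rwa [Subgroup.orderOf_coe]

/-- (i) Let ϑ be a class function on the finite group G and x a p-element, and suppose ϑ vanishes at every element whose p-part is conjugate to x. Then for every block B (relative to a maximal ideal M of the algebraic integers containing p) the B-part of ϑ — the sum over χ ∈ B of the inner product of ϑ with χ, times χ — also vanishes at every such element. (ii) Block orthogonality, its corollary: if the p-parts of g and h are not conjugate, then the sum over χ ∈ B of χ g * χ h⁻¹ is zero for every block B. -/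
theorem result {G : Type*} [Group G] [Finite G] (p : ℕ) [Fact p.Prime] (M : Ideal Cfsg.AlgInt) (hM : Cfsg.IsPModular p M) : (∀ (ϑ : G → ℂ), Cfsg.IsClassFunction G ϑ → ∀ x : G, (∃ k : ℕ, orderOf x = p ^ k) → (∀ u z : G, Cfsg.IsPPart p u z → IsConj x z → ϑ u = 0) → ∀ B : Set (Cfsg.IrrCharacter G), Cfsg.IsPBlock M B → ∀ u z : G, Cfsg.IsPPart p u z → IsConj x z → Cfsg.blockPart B ϑ u = 0) ∧ (∀ g h x y : G, Cfsg.IsPPart p g x → Cfsg.IsPPart p h y → ¬ IsConj x y → ∀ B : Set (Cfsg.IrrCharacter G), Cfsg.IsPBlock M B → ∑ᶠ χ ∈ B, (χ : G → ℂ) g * (χ : G → ℂ) h⁻¹ = 0) := by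
  classical
  have : Fintype G := Fintype.ofFinite G
  have : Fintype (IrrCharacter G) := Fintype.ofFinite _
  constructor
  · intro ϑ hϑ x _ hvan B hB u z hz hxz
    exact blockPart_eq_zero_of_pPart p M hM ϑ hϑ u z hz (fun u' hu' => hvan u' z hu' hxz) B hB
  · intro g h x y hgx hhy hxy B hB
    have key := blockPart_eq_zero_of_pPart p M hM (classIndicator h)
      (isClassFunction_classIndicator h) g x hgx ?_ B hB
    · have hinst : Fintype.ofFinite G = ‹Fintype G› := Subsingleton.elim _ _
      simp only [blockPart] at key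
      rw [hinst, finsum_mem_eq_sum_ite] at key
      rw [finsum_mem_eq_sum_ite]
      have hN : (Nat.card {t : G // IsConj h t} : ℂ) ≠ 0 := by
        have : Nonempty {t : G // IsConj h t} := ⟨⟨h, IsConj.refl h⟩⟩
        have : 0 < Nat.card {t : G // IsConj h t} := Nat.card_pos
        exact_mod_cast this.ne'
      have hG : (Nat.card G : ℂ) ≠ 0 := by
        have : 0 < Nat.card G := Nat.card_pos
        exact_mod_cast this.ne'
      have h1 : ∀ χ : IrrCharacter G,
          (if χ ∈ B then classInner (classIndicator h) (χ : G → ℂ) * (χ : G → ℂ) g else 0) =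
          ((Nat.card G : ℂ)⁻¹ * (Nat.card {t : G // IsConj h t} : ℂ)) *
            (if χ ∈ B then (χ : G → ℂ) g * (χ : G → ℂ) h⁻¹ else 0) := by
        intro χ
        by_cases hχ : χ ∈ B
        · rw [if_pos hχ, if_pos hχ, classInner_classIndicator h _ (isClassFunction_irr χ), Cfsg.Agent.Helper5.irr_inv]
          ring
        · rw [if_neg hχ, if_neg hχ, mul_zero]
      rw [Finset.sum_congr rfl (fun χ _ => h1 χ), ← Finset.mul_sum] at key
      rcases mul_eq_zero.mp key with h0 | h0
      · exfalso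
        rcases mul_eq_zero.mp h0 with h00 | h00
        · exact inv_ne_zero hG h00
        · exact hN h00
      · exact h0
    · intro u' hu'
      by_contra hne
      have hconj : IsConj h u' := by
        by_contra hnc
        exact hne (classIndicator_of_not_isConj hnc)
      obtain ⟨t, ht⟩ := isConj_iff.mp hconj
      have h2 := isPPart_conj hhy t
      rw [ht] at h2
      have h3 : x = t * y * t⁻¹ := Cfsg.Agent.Helper5.isPPart_unique hu' h2
      apply hxy
      rw [h3]
      exact (isConj_iff.mpr ⟨t, rfl⟩).symm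

end Cfsg.Agent.S0925
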