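import Mathlib
import Cfsg.Statements.S0840
import Cfsg.Agent.Helper24.ColumnOrth
import Cfsg.Agent.Helper5.CharFacts

set_option autoImplicit false
open scoped ComplexConjugate
open Cfsg

namespace Cfsg.Agent.S0840

open Cfsg.Agent.Helper24 Cfsg.Agent.Helper5

section aux

variable {G : Type*} [Group G]

/-- The triples counted are in bijection with the `x` in the class of `a` with `x⁻¹ c` in the
class of `b`. -/
def pairEquiv (a b c : G) :
    {p : G × G // IsConj a p.1 ∧ IsConj b p.2 ∧ p.1 * p.2 = c} ≃
      {x : G // IsConj a x ∧ IsConj b (x⁻¹ * c)} where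
  toFun p := ⟨p.1.1, p.2.1, by
    have h := p.2.2.2
    have : p.1.1⁻¹ * c = p.1.2 := inv_mul_eq_iff_eq_mul.mpr h.symm
    rw [this]; exact p.2.2.1⟩
  invFun x := ⟨(x.1, x.1⁻¹ * c), x.2.1, x.2.2, by simp⟩
  left_inv p := by
    apply Subtype.ext
    have h := p.2.2.2
    ext
    · rfl
    · change p.1.1⁻¹ * c = p.1.2
      exact inv_mul_eq_iff_eq_mul.mpr h.symm
  right_inv x := rfl

variable [Fintype G]

theorem card_pairs_eq_sum (a b c : G) :
    (Nat.card {p : G × G // IsConj a p.1 ∧ IsConj b p.2 ∧ p.1 * p.2 = c} : ℂ) =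
      ∑ x : G, classIndicator a x * classIndicator b (x⁻¹ * c) := by
  classical
  rw [Nat.card_congr (pairEquiv a b c), Nat.card_eq_fintype_card, Fintype.card_subtype,
    Finset.card_filter]
  push_cast
  refine Finset.sum_congr rfl ?_
  intro x _
  by_cases h1 : IsConj a x
  · by_cases h2 : IsConj b (x⁻¹ * c)
    · rw [if_pos ⟨h1, h2⟩, classIndicator_of_isConj h1, classIndicator_of_isConj h2, mul_one]
    · rw [if_neg (fun h => h2 h.2), classIndicator_of_not_isConj h2, mul_zero]
  · rw [if_neg (fun h => h1 h.1), classIndicator_of_not_isConj h1, zero_mul]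

/-- `Σ_x 1_{K_a}(x) χ(x⁻¹ c) = |K_a| conj χ(a) χ(c) / χ(1)`. -/
theorem sum_indicator_mul_irr (χ : IrrCharacter G) (a c : G) :
    ∑ x : G, classIndicator a x * (χ : G → ℂ) (x⁻¹ * c) =
      (Nat.card {x : G // IsConj a x} : ℂ) * conj ((χ : G → ℂ) a) * (χ : G → ℂ) c /
        (χ : G → ℂ) 1 := by
  have hcf : IsClassFunction G (fun g => classIndicator a g⁻¹) := by
    intro g x
    have := isClassFunction_classIndicator a g⁻¹ x
    simp only
    rw [← this]
    congr 1
    group
  have h := irr_sum_mul_char_mul χ (fun g => classIndicator a g⁻¹) hcf c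
  have e1 : ∑ g : G, classIndicator a g⁻¹ * (χ : G → ℂ) (g * c) =
      ∑ x : G, classIndicator a x * (χ : G → ℂ) (x⁻¹ * c) := by
    rw [← Equiv.sum_comp (Equiv.inv G)]
    simp
  have e2 : ∑ g : G, classIndicator a g⁻¹ * (χ : G → ℂ) g =
      (Nat.card {x : G // IsConj a x} : ℂ) * conj ((χ : G → ℂ) a) := by
    rw [← Equiv.sum_comp (Equiv.inv G)]
    simp only [Equiv.inv_apply, inv_inv]
    have : ∀ x : G, classIndicator a x * (χ : G → ℂ) x⁻¹ =
        classIndicator a x * conj ((χ : G → ℂ) a) := by
      intro x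
      rw [irr_inv]
      exact classIndicator_mul a (fun y => conj ((χ : G → ℂ) y))
        (isClassFunction_conj (isClassFunction_irr χ)) x
    simp_rw [this]
    rw [← Finset.sum_mul, sum_classIndicator]
  rw [e1, e2] at h
  rw [eq_div_iff (irr_one_ne_zero χ), mul_comm, h]
  ring

variable [Fintype (IrrCharacter G)]

theorem card_pairs_formula (a b c : G) :
    (Nat.card {p : G × G // IsConj a p.1 ∧ IsConj b p.2 ∧ p.1 * p.2 = c} : ℂ) =
      (Nat.card {x : G // IsConj a x} : ℂ) * (Nat.card {x : G // IsConj b x} : ℂ) /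
        (Nat.card G : ℂ) *
      ∑ χ : IrrCharacter G, conj ((χ : G → ℂ) a) * conj ((χ : G → ℂ) b) * (χ : G → ℂ) c /
        (χ : G → ℂ) 1 := by
  rw [card_pairs_eq_sum]
  have hexp := IsClassFunction.eq_sum_classInner (G := G) (isClassFunction_classIndicator b)
  have hb : ∀ y : G, classIndicator b y =
      ∑ χ : IrrCharacter G, ((Nat.card G : ℂ)⁻¹ * (Nat.card {x : G // IsConj b x} : ℂ) *
        conj ((χ : G → ℂ) b)) * (χ : G → ℂ) y := by
    intro y
    have hy := congrFun hexp y
    simp only [Finset.sum_apply, Pi.smul_apply, smul_eq_mul] at hy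
    simp_rw [classInner_classIndicator b _ (isClassFunction_irr _)] at hy
    exact hy
  calc ∑ x : G, classIndicator a x * classIndicator b (x⁻¹ * c)
      = ∑ x : G, ∑ χ : IrrCharacter G, ((Nat.card G : ℂ)⁻¹ *
          (Nat.card {x : G // IsConj b x} : ℂ) * conj ((χ : G → ℂ) b)) *
            (classIndicator a x * (χ : G → ℂ) (x⁻¹ * c)) := by
        refine Finset.sum_congr rfl ?_
        intro x _
        rw [hb (x⁻¹ * c), Finset.mul_sum]
        refine Finset.sum_congr rfl ?_
        intro χ _
        ring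
    _ = ∑ χ : IrrCharacter G, ((Nat.card G : ℂ)⁻¹ *
          (Nat.card {x : G // IsConj b x} : ℂ) * conj ((χ : G → ℂ) b)) *
            ∑ x : G, (classIndicator a x * (χ : G → ℂ) (x⁻¹ * c)) := by
        rw [Finset.sum_comm]
        refine Finset.sum_congr rfl ?_
        intro χ _
        rw [Finset.mul_sum]
    _ = _ := by
        rw [Finset.mul_sum]
        refine Finset.sum_congr rfl ?_
        intro χ _
        rw [sum_indicator_mul_irr]
        ring

end aux

/-- Class multiplication coefficients from the character table: for elements a, b, c of a finite group G, the number of ordered pairs (x, y) with x conjugate to a, y conjugate to b and x * y = c equals the product of the sizes of the conjugacy classes of a and b, divided by the order of G, times the sum over the irreducible characters χ of χ a * χ b * conj (χ c) / χ 1. -/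
theorem result {G : Type*} [Group G] [Finite G] (a b c : G) : (Nat.card {p : G × G // IsConj a p.1 ∧ IsConj b p.2 ∧ p.1 * p.2 = c} : ℂ) = (Nat.card {x : G // IsConj a x} : ℂ) * (Nat.card {x : G // IsConj b x} : ℂ) / (Nat.card G : ℂ) * ∑ᶠ χ : Cfsg.IrrCharacter G, (χ : G → ℂ) a * (χ : G → ℂ) b * conj ((χ : G → ℂ) c) / (χ : G → ℂ) 1 := by
  have : Fintype G := Fintype.ofFinite G
  have : Fintype (IrrCharacter G) := Fintype.ofFinite _
  rw [finsum_eq_sum_of_fintype]
  have h := card_pairs_formula a b c
  have h' := congrArg (starRingEnd ℂ) h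
  rw [Complex.conj_natCast] at h'
  rw [h']
  simp only [map_mul, map_div₀, map_sum, Complex.conj_natCast, Complex.conj_conj, irr_one_conj]

end Cfsg.Agent.S0840
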