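import Cfsg.Statements.S4709
import Cfsg.Agent.Helper8.AS11

set_option autoImplicit false
open Cfsg

namespace Cfsg.Agent.S4709

/-- Let p be a prime, M a maximal ideal of the algebraic integers containing p, and G a finite group with a nontrivial abelian Sylow p-subgroup P; put N = N_G(P), C = C_G(P). Suppose N/C is cyclic of order m with 1 < m < #P − 1 (C has index m in N and N is generated by C and one element), and C_G(y) ∩ N = C for every non-identity y ∈ P. Put r = (#P − 1)/m. Then there is s ≤ m such that the principal p-block is the disjoint union of a set X of s characters containing the principal character and a set Y of r characters, with integers a_χ ≠ 0 (χ ∈ X), d and a sign δ = ±1, such that: every χ ∈ X takes the value a_χ at every element whose p-part is a non-identity element of P; there is a map ζ from the non-principal linear characters ψ of P onto Y, constant on N-conjugacy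 classes, with ζ_ψ(z) = d + δ·Σ ψ'(y) for every z whose p-part y is a non-identity element of P, the sum running over the N-conjugates ψ' of ψ; (d − δ)^2 + (r − 1) d^2 + Σ_{χ ∈ X} a_χ^2 = m + 1; all members of Y agree on p-regular elements; and (r d − δ) η(g) + Σ_{χ ∈ X} a_χ χ(g) = 0 for every η ∈ Y and every p-regular g. -/
theorem result {G : Type*} [Group G] [Finite G] (p : ℕ) [Fact p.Prime] (M : Ideal Cfsg.AlgInt) (hM : Cfsg.IsPModular p M) (P : Sylow p G) (hab : IsMulCommutative P) (hP1 : Nat.card P ≠ 1) (m : ℕ) (hm1 : 1 < m) (hm2 : m + 1 < Nat.card P) (hCN : (Subgroup.centralizer ((P : Subgroup G) : Set G)).relIndex (Subgroup.normalizer ((P : Subgroup G) : Set G)) = m) (hcyc : ∃ g : G, g ∈ Subgroup.normalizer ((P : Subgroup G) : Set G) ∧ Subgroup.centralizer ((P : Subgroup G) : Set G) ⊔ Subgroup.zpowers g = Subgroup.normalizer ((P : Subgroup G) : Set G)) (hfrob : ∀ y : G, y ∈ (P :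 Subgroup G) → y ≠ 1 → Subgroup.centralizer ({y} : Set G) ⊓ Subgroup.normalizer ((P : Subgroup G) : Set G) = Subgroup.centralizer ((P : Subgroup G) : Set G)) : ∃ (s : ℕ) (X Y : Set (Cfsg.IrrCharacter G)), s ≤ m ∧ Cfsg.principalBlock M G = X ∪ Y ∧ Disjoint X Y ∧ Nat.card X = s ∧ Nat.card Y = (Nat.card P - 1) / m ∧ (∃ χ₁ ∈ X, (χ₁ : G → ℂ) = fun _ => 1) ∧ ∃ (a : Cfsg.IrrCharacter G → ℤ) (d δ : ℤ) (ζ : (↥(P : Subgroup G) →* ℂˣ) → Cfsg.IrrCharacter G), (δ = 1 ∨ δ = -1) ∧ (∀ χ ∈ X, a χ ≠ 0 ∧ ∀ z y : G, Cfsg.IsPPart p z y → y ∈ (P : Subgroup G) → y ≠ 1 → (χ : G → ℂ) z = (a χ : ℂ)) ∧ (∀ ψ : ↥(P : Subgroup G) →* ℂˣ, ψ ≠ 1 → ζ ψ ∈ Y) ∧ (∀ η ∈ Y, ∃ ψ : ↥(P : Subgroup G) →* ℂˣ, ψ ≠ 1 ∧ ζ ψ = η) ∧ (∀ ψ ψ' : ↥(P : Subgroup G) →* ℂˣ, ψ ≠ 1 → (∃ n : G, n ∈ Subgroup.normalizer ((P : Subgroup G) : Set G) ∧ ∀ w w' : ↥(P : Subgroup G), (w' : G) = n * w * n⁻¹ → ψ' w' = ψ w) → ζ ψ' = ζ ψ) ∧ (∀ ψ : ↥(P : Subgroup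 G) →* ℂˣ, ψ ≠ 1 → ∀ (z : G) (y : ↥(P : Subgroup G)), Cfsg.IsPPart p z (y : G) → (y : G) ≠ 1 → (ζ ψ : G → ℂ) z = (d : ℂ) + (δ : ℂ) * ∑ᶠ ψ' ∈ {ψ' : ↥(P : Subgroup G) →* ℂˣ | ∃ n : G, n ∈ Subgroup.normalizer ((P : Subgroup G) : Set G) ∧ ∀ w w' : ↥(P : Subgroup G), (w' : G) = n * w * n⁻¹ → ψ' w' = ψ w}, ((ψ' y : ℂˣ) : ℂ)) ∧ ((d - δ) ^ 2 + ((Nat.card P - 1) / m - 1 : ℤ) * d ^ 2 + ∑ᶠ χ ∈ X, a χ ^ 2 = (m : ℤ) + 1) ∧ (∀ η ∈ Y, ∀ η' ∈ Y, ∀ g : G, ¬ p ∣ orderOf g → (η : G → ℂ) g = (η' : G → ℂ) g) ∧ (∀ η ∈ Y, ∀ g : G, ¬ p ∣ orderOf g → ((((Nat.card P - 1) / m : ℕ) : ℂ) * d - δ) * (η : G → ℂ) g + ∑ᶠ χ ∈ X, (a χ : ℂ) * (χ : G → ℂ) g = 0) := by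
  classical
  haveI : Fintype G := Fintype.ofFinite G
  haveI : Fintype (IrrCharacter G) := Fintype.ofFinite _
  have hc : ∀ a b : (P : Subgroup G), a * b = b * a := fun a b => hab.is_comm.comm a b
  haveI : Finite ((P : Subgroup G) →* ℂˣ) := Cfsg.Agent.Helper8.finite_hom_units hc
  haveI : Fintype ((P : Subgroup G) →* ℂˣ) := Fintype.ofFinite _
  have hPc : Nat.card P = Nat.card (P : Subgroup G) := rfl
  rw [hPc] at hP1 hm2 ⊢
  have hm : (Subgroup.centralizer ((P : Subgroup G) : Set G)).relIndex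
      (Subgroup.normalizer ((P : Subgroup G) : Set G)) + 1 < Nat.card (P : Subgroup G) := by
    rw [hCN]; exact hm2
  obtain ⟨E⟩ := Cfsg.Agent.Helper8.AS.nonempty_exc hM P hab hfrob hm
  obtain ⟨ψ₀, hψ₀⟩ : ∃ ψ₀ : (P : Subgroup G) →* ℂˣ, ψ₀ ≠ 1 := by
    have h1 : 1 < Nat.card ((P : Subgroup G) →* ℂˣ) := by
      rw [Cfsg.Agent.Helper8.AS.card_dual hc]; omega
    have : Nontrivial ((P : Subgroup G) →* ℂˣ) := (Finite.one_lt_card_iff_nontrivial).mp h1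
    exact exists_ne 1
  have hcard := E.card_Yf_mul hab hfrob
  rw [hCN] at hcard
  have hm0 : 0 < m := by omega
  have hr : E.Yf.card = (Nat.card (P : Subgroup G) - 1) / m := by
    rw [← hcard]; exact (Nat.mul_div_cancel _ hm0).symm
  have hrZ : (((Nat.card (P : Subgroup G) : ℤ) - 1) / (m : ℤ)) = (E.Yf.card : ℤ) := by
    have h1 : ((Nat.card (P : Subgroup G) : ℤ) - 1) = (E.Yf.card : ℤ) * (m : ℤ) := by
      have : 1 ≤ Nat.card (P : Subgroup G) := by omega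
      rw [← Nat.cast_mul, hcard]
      push_cast [Nat.cast_sub this]
      ring
    rw [h1]
    exact Int.mul_ediv_cancel _ (by exact_mod_cast hm0.ne')
  have hle := E.card_Xf_le hM hab hP1 hfrob hm hψ₀
  rw [hCN] at hle
  refine ⟨E.Xf.card, (E.Xf : Set (IrrCharacter G)), (E.Yf : Set (IrrCharacter G)), hle, ?_, ?_, ?_, ?_, ?_, ?_⟩
  · ext χ
    rw [Set.mem_union, Finset.mem_coe, Finset.mem_coe]
    exact E.mem_block_iff χ
  · exact Finset.disjoint_coe.mpr E.disjoint_Xf_Yf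
  · rw [Nat.card_coe_set_eq, Set.ncard_coe_finset]
  · rw [Nat.card_coe_set_eq, Set.ncard_coe_finset, hr]
  · exact ⟨Cfsg.Agent.Helper24.trivIrr G, Finset.mem_coe.mpr (E.triv_mem_Xf hM hab hfrob hm), rfl⟩
  refine ⟨fun χ => -E.nV χ, E.dd ψ₀, E.ε, E.ζ, E.hε, ?_, ?_, ?_, ?_, ?_, ?_, ?_, ?_⟩
  · intro χ hχ
    rw [Finset.mem_coe] at hχ
    refine ⟨neg_ne_zero.mpr (E.nV_ne_zero hM hab hP1 χ hχ), ?_⟩
    intro z y hz hyP hy1
    rw [Cfsg.Agent.Helper8.AS.const_section hM P hab hfrob χ ((E.mem_Xf χ).mp hχ).1 z y hz hyP hy1]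
    have := E.apply_P_Xf hab χ hχ ⟨y, hyP⟩ (fun h => hy1 (congrArg Subtype.val h))
    rw [this]
    push_cast
    rfl
  · intro ψ hψ
    exact Finset.mem_coe.mpr ((E.mem_Yf _).mpr ⟨ψ, hψ, rfl⟩)
  · intro η hη
    exact (E.mem_Yf η).mp (Finset.mem_coe.mp hη)
  · intro ψ ψ' hψ hrel
    have hrel' : Cfsg.Agent.Helper8.AS.RelS (P : Subgroup G) ψ ψ' := hrel
    have hψ' : ψ' ≠ 1 := Cfsg.Agent.Helper8.AS.relS_ne_one (P : Subgroup G) hrel' hψ
    exact ((E.hζinj ψ ψ' hψ hψ').mpr hrel').symm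
  · intro ψ hψ z y hz hy1
    rw [Cfsg.Agent.Helper8.AS.const_section hM P hab hfrob (E.ζ ψ) (E.hζB ψ hψ) z (y : G) hz y.2 hy1]
    have := E.apply_P_ζ hab hψ y (fun h => hy1 (by rw [h]; rfl))
    rw [this, Cfsg.Agent.Helper5.CC.finsum_mem_eq_sum_ite', ← Finset.sum_filter]
    unfold Cfsg.Agent.Helper8.AS.Exc.dd
    rw [E.nV_ζ_const hM hab hfrob hψ hψ₀]
    push_cast
    congr 2
    apply Finset.sum_congr _ (fun _ _ => rfl)
    ext ψ'
    simp only [Finset.mem_filter, Finset.mem_univ, true_and]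
    rfl
  · have h1 := E.norm_split hM hab hfrob hψ₀
    rw [hCN] at h1
    have hε2 := E.eps_sq
    rw [finsum_mem_coe_finset]
    have : ((Nat.card (P : Subgroup G) - 1) / m - 1 : ℤ) = (E.Yf.card : ℤ) - 1 := by
      rw [hrZ]
    rw [this]
    linear_combination h1 + hε2
  · intro η hη η' hη' g hg
    exact E.Yf_agree hM (Finset.mem_coe.mp hη) (Finset.mem_coe.mp hη') g hg
  · intro η hη g hg
    have h1 := E.pRegular_split hM hab hfrob hψ₀ (Finset.mem_coe.mp hη) g hg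
    rw [finsum_mem_coe_finset, ← hr]
    exact h1

end Cfsg.Agent.S4709
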