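import Mathlib
import Cfsg.Statements.S0805
import Cfsg.Agent.S0243
import Cfsg.Agent.S0265
import Cfsg.Agent.Helper2.SLCard

set_option autoImplicit false
set_option linter.style.haveILetI false

namespace Cfsg.Agent.S0805

open Matrix

/-- a field with `r` elements embeds in a field with `r ^ m` elements. -/
theorem exists_ringHom_of_card_pow {K F : Type*} [Field K] [Fintype K] [Field F] [Fintype F] {m : ℕ}
    (hm : 1 ≤ m) (hKF : Fintype.card K ^ m = Fintype.card F) : Nonempty (K →+* F) := by
  obtain ⟨p, hp⟩ := CharP.exists K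
  haveI : CharP K p := hp
  have hpp : p.Prime := CharP.char_is_prime K p
  haveI : Fact p.Prime := ⟨hpp⟩
  obtain ⟨p', hp'⟩ := CharP.exists F
  haveI : CharP F p' := hp'
  have hpp' : p'.Prime := CharP.char_is_prime F p'
  obtain ⟨a, -, ha⟩ := FiniteField.card K p
  obtain ⟨b, -, hb⟩ := FiniteField.card F p'
  have hpeq : p' = p := by
    have h1 : p' ∣ p ^ ((a : ℕ) * m) := by
      have : p' ∣ p' ^ (b : ℕ) := dvd_pow_self _ b.ne_zero
      rw [← hb, ← hKF, ha, ← pow_mul] at this
      exact this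
    exact (Nat.prime_dvd_prime_iff_eq hpp' hpp).mp (hpp'.dvd_of_dvd_pow h1)
  subst hpeq
  letI : Algebra (ZMod p') K := ZMod.algebra K p'
  letI : Algebra (ZMod p') F := ZMod.algebra F p'
  have hfK : Module.finrank (ZMod p') K = a := by
    have h1 := FiniteField.pow_finrank_eq_card p' K
    rw [ha] at h1
    exact Nat.pow_right_injective hpp.two_le h1
  have hfF : Module.finrank (ZMod p') F = a * m := by
    have h1 := FiniteField.pow_finrank_eq_card p' F
    rw [← hKF, ha, ← pow_mul] at h1
    exact Nat.pow_right_injective hpp.two_le h1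
  obtain ⟨f⟩ := FiniteField.nonempty_algHom_of_finrank_dvd (F := ZMod p') (K := K) (L := F)
    (by rw [hfK, hfF]; exact dvd_mul_right _ _)
  exact ⟨f.toRingHom⟩

section part1
variable {K F : Type*} [Field K] [Field F] (ι : K →+* F)

/-- the map `SL₂(K) → PSL₂(F)`. -/
noncomputable def psi : Matrix.SpecialLinearGroup (Fin 2) K →* Matrix.ProjectiveSpecialLinearGroup (Fin 2) F :=
  (QuotientGroup.mk' (Subgroup.center (Matrix.SpecialLinearGroup (Fin 2) F))).comp
    (Matrix.SpecialLinearGroup.map ι)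

theorem map_entry (g : Matrix.SpecialLinearGroup (Fin 2) K) (i j : Fin 2) :
    (Matrix.SpecialLinearGroup.map ι g).1 i j = ι (g.1 i j) := rfl

theorem ker_psi : (psi ι).ker = Subgroup.center (Matrix.SpecialLinearGroup (Fin 2) K) := by
  ext g
  rw [MonoidHom.mem_ker, psi, MonoidHom.comp_apply, QuotientGroup.mk'_apply,
    QuotientGroup.eq_one_iff, Matrix.SpecialLinearGroup.mem_center_iff,
    Matrix.SpecialLinearGroup.mem_center_iff]
  constructor
  · rintro ⟨r, hr, hg⟩
    have h00 : ι (g.1 0 0) = r := by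
      have := congrFun (congrFun hg 0) 0
      rw [map_entry] at this
      simpa using this.symm
    have h11 : ι (g.1 1 1) = r := by
      have := congrFun (congrFun hg 1) 1
      rw [map_entry] at this
      simpa using this.symm
    have h01 : ι (g.1 0 1) = 0 := by
      have := congrFun (congrFun hg 0) 1
      rw [map_entry] at this
      simpa using this.symm
    have h10 : ι (g.1 1 0) = 0 := by
      have := congrFun (congrFun hg 1) 0
      rw [map_entry] at this
      simpa using this.symm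
    refine ⟨g.1 0 0, ?_, ?_⟩
    · apply ι.injective
      rw [map_pow, h00, map_one]; exact hr
    · ext i j
      fin_cases i <;> fin_cases j
      · simp
      · simp
        exact ((map_eq_zero ι).mp h01).symm
      · simp
        exact ((map_eq_zero ι).mp h10).symm
      · simp
        apply ι.injective
        rw [h00, h11]
  · rintro ⟨r, hr, hg⟩
    refine ⟨ι r, by rw [← map_pow, hr, map_one], ?_⟩
    ext i j
    have := congrFun (congrFun hg i) j
    rw [map_entry, ← this]
    simp only [Matrix.scalar_apply, Matrix.diagonal_apply]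
    split_ifs <;> simp

end part1

section part2
variable {K F : Type*} [Field K] [Field F] (ι : K →+* F)

/-- two elements of `SL₂(F)` differing by a sign have the same image in `PSL₂(F)`. -/
theorem mk_eq_of_smul (x y : Matrix.SpecialLinearGroup (Fin 2) F) (c : F) (hc : c ^ 2 = 1)
    (hxy : y.1 = c • x.1) :
    (QuotientGroup.mk' (Subgroup.center (Matrix.SpecialLinearGroup (Fin 2) F))) x =
      (QuotientGroup.mk' (Subgroup.center (Matrix.SpecialLinearGroup (Fin 2) F))) y := by
  rw [QuotientGroup.mk'_apply, QuotientGroup.mk'_apply, QuotientGroup.eq,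
    Matrix.SpecialLinearGroup.mem_center_iff]
  refine ⟨c, by simpa using hc, ?_⟩
  rw [Matrix.SpecialLinearGroup.coe_mul, hxy, Matrix.mul_smul, ← Matrix.SpecialLinearGroup.coe_mul,
    inv_mul_cancel]
  ext i j
  simp [Matrix.scalar_apply, Matrix.diagonal_apply, Matrix.one_apply]

variable (hsq : ∀ d : K, d ≠ 0 → ∃ e : F, e * e = ι d)

omit hsq in
theorem det_ne_zero' (g : GL (Fin 2) K) : g.1.det ≠ 0 :=
  IsUnit.ne_zero ((Matrix.isUnit_iff_isUnit_det _).mp g.isUnit)

/-- a chosen square root of the determinant. -/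
noncomputable def sqr (g : GL (Fin 2) K) : F :=
  Classical.choose (hsq (g.1.det) (det_ne_zero' g))

theorem sq_spec (g : GL (Fin 2) K) : sqr ι hsq g * sqr ι hsq g = ι (g.1.det) :=
  Classical.choose_spec (hsq (g.1.det) (det_ne_zero' g))

theorem sq_ne_zero (g : GL (Fin 2) K) : sqr ι hsq g ≠ 0 := by
  intro h0
  have := sq_spec ι hsq g
  rw [h0, zero_mul] at this
  exact det_ne_zero' g ((map_eq_zero ι).mp this.symm)

/-- the normalised lift to `SL₂(F)`. -/
noncomputable def lift (g : GL (Fin 2) K) : Matrix.SpecialLinearGroup (Fin 2) F :=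
  ⟨(sqr ι hsq g)⁻¹ • g.1.map ι, by
    rw [Matrix.det_smul, Fintype.card_fin, ← RingHom.mapMatrix_apply, ← RingHom.map_det,
      ← sq_spec ι hsq g]
    have := sq_ne_zero ι hsq g
    field_simp⟩

theorem lift_coe (g : GL (Fin 2) K) : (lift ι hsq g).1 = (sqr ι hsq g)⁻¹ • g.1.map ι := rfl

/-- the map `GL₂(K) → PSL₂(F)`. -/
noncomputable def psi2 : GL (Fin 2) K →* Matrix.ProjectiveSpecialLinearGroup (Fin 2) F :=
  MonoidHom.mk' (fun g => (QuotientGroup.mk' (Subgroup.center (Matrix.SpecialLinearGroup (Fin 2) F)))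
    (lift ι hsq g)) (by
    intro g g'
    rw [← map_mul]
    set c : F := sqr ι hsq g * sqr ι hsq g' / sqr ι hsq (g * g') with hc
    have h1 := sq_ne_zero ι hsq g
    have h2 := sq_ne_zero ι hsq g'
    have h3 := sq_ne_zero ι hsq (g * g')
    have hc2 : c ^ 2 = 1 := by
      have e1 := sq_spec ι hsq g
      have e2 := sq_spec ι hsq g'
      have e3 := sq_spec ι hsq (g * g')
      have e4 : (g * g').1.det = g.1.det * g'.1.det := by
        rw [Units.val_mul, Matrix.det_mul]
      rw [e4, map_mul, ← e1, ← e2] at e3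
      rw [hc, div_pow, pow_two, pow_two, div_eq_one_iff_eq (mul_ne_zero h3 h3)]
      rw [e3]; ring
    apply (mk_eq_of_smul _ _ c hc2 ?_).symm
    rw [lift_coe, Matrix.SpecialLinearGroup.coe_mul, lift_coe, lift_coe, Units.val_mul,
      Matrix.map_mul, Matrix.smul_mul, Matrix.mul_smul, smul_smul, smul_smul]
    congr 1
    rw [hc]
    field_simp)

theorem psi2_apply (g : GL (Fin 2) K) : psi2 ι hsq g =
    (QuotientGroup.mk' (Subgroup.center (Matrix.SpecialLinearGroup (Fin 2) F))) (lift ι hsq g) := rfl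

theorem ker_psi2 : (psi2 ι hsq).ker = Subgroup.center (GL (Fin 2) K) := by
  ext g
  rw [MonoidHom.mem_ker, psi2_apply, QuotientGroup.mk'_apply,
    QuotientGroup.eq_one_iff, Matrix.SpecialLinearGroup.mem_center_iff,
    Matrix.GeneralLinearGroup.center_eq_range_scalar, MonoidHom.mem_range]
  have h1 := sq_ne_zero ι hsq g
  constructor
  · rintro ⟨r, hr, hg⟩
    have hent : ∀ i j, (Matrix.scalar (Fin 2) r) i j = (sqr ι hsq g)⁻¹ * ι (g.1 i j) := by
      intro i j
      have := congrFun (congrFun hg i) j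
      rw [this, lift_coe]
      simp
    have h01 : g.1 0 1 = 0 := by
      have := hent 0 1
      have hz : (Matrix.scalar (Fin 2) r) 0 1 = 0 := by simp
      rw [hz] at this
      rcases mul_eq_zero.mp this.symm with h | h
      · exact absurd (inv_eq_zero.mp h) h1
      · exact (map_eq_zero ι).mp h
    have h10 : g.1 1 0 = 0 := by
      have := hent 1 0
      have hz : (Matrix.scalar (Fin 2) r) 1 0 = 0 := by simp
      rw [hz] at this
      rcases mul_eq_zero.mp this.symm with h | h
      · exact absurd (inv_eq_zero.mp h) h1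
      · exact (map_eq_zero ι).mp h
    have h00 : g.1 0 0 = g.1 1 1 := by
      have e0 := hent 0 0
      have e1 := hent 1 1
      simp only [Matrix.scalar_apply, Matrix.diagonal_apply] at e0 e1
      simp at e0 e1
      apply ι.injective
      have : (sqr ι hsq g)⁻¹ * ι (g.1 0 0) = (sqr ι hsq g)⁻¹ * ι (g.1 1 1) := by rw [← e0, ← e1]
      exact mul_left_cancel₀ (inv_ne_zero h1) this
    have hu : g.1 0 0 ≠ 0 := by
      intro h0
      apply det_ne_zero' g
      rw [Matrix.det_fin_two, h0, h01]
      ring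
    refine ⟨Units.mk0 _ hu, ?_⟩
    apply Units.ext
    ext i j
    fin_cases i <;> fin_cases j
    · simp [Matrix.GeneralLinearGroup.scalar]
    · simp [Matrix.GeneralLinearGroup.scalar, h01]
    · simp [Matrix.GeneralLinearGroup.scalar, h10]
    · simp [Matrix.GeneralLinearGroup.scalar, h00]
  · rintro ⟨u, rfl⟩
    have hdet : ((Matrix.GeneralLinearGroup.scalar (Fin 2)) u : GL (Fin 2) K).1.det = (u : K) ^ 2 := by
      simp [Matrix.GeneralLinearGroup.scalar]
    set e := sqr ι hsq ((Matrix.GeneralLinearGroup.scalar (Fin 2)) u) with he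
    have hee := sq_spec ι hsq ((Matrix.GeneralLinearGroup.scalar (Fin 2)) u)
    rw [hdet, ← he] at hee
    refine ⟨e⁻¹ * ι u, ?_, ?_⟩
    · rw [Fintype.card_fin, mul_pow, inv_pow, pow_two e, hee, map_pow]
      have : ι (u : K) ≠ 0 := (map_ne_zero ι).mpr (Units.ne_zero u)
      field_simp
    · rw [lift_coe, ← he]
      ext i j
      fin_cases i <;> fin_cases j <;> simp [Matrix.GeneralLinearGroup.scalar]

end part2

section arith

theorem odd_factor (x : ℕ) (hx : Odd x) (t : ℕ) : ∃ S, Odd S ∧ x ^ (2 * t + 1) = (x - 1) * S + 1 := by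
  obtain ⟨a, rfl⟩ := hx
  induction t with
  | zero => exact ⟨1, odd_one, by simp⟩
  | succ t ih =>
    obtain ⟨S, hS, hSe⟩ := ih
    refine ⟨(2 * a + 1) ^ 2 * S + (2 * a + 1) + 1, ?_, ?_⟩
    · have h1 : Odd ((2 * a + 1) ^ 2 * S) := (Odd.pow ⟨a, rfl⟩).mul hS
      obtain ⟨b, hb⟩ := h1
      exact ⟨b + a + 1, by rw [hb]; ring⟩
    · rw [show 2 * (t + 1) + 1 = (2 * t + 1) + 2 by ring, pow_add, hSe]
      simp only [Nat.add_sub_cancel]
      ring

theorem even_pow_factor (r : ℕ) (hr : Odd r) (t : ℕ) : ∃ w, r ^ (2 * t) = 2 * (r - 1) * w + 1 := by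
  obtain ⟨a, rfl⟩ := hr
  induction t with
  | zero => exact ⟨0, by simp⟩
  | succ t ih =>
    obtain ⟨w, hw⟩ := ih
    refine ⟨(2 * a + 1) ^ 2 * w + (a + 1), ?_⟩
    rw [show 2 * (t + 1) = 2 * t + 2 by ring, pow_add, hw]
    simp only [Nat.add_sub_cancel]
    ring

end arith

section squares
variable {K F : Type*} [Field K] [Fintype K] [Field F] [Fintype F] (ι : K →+* F)

theorem exists_sqrt (hodd : Odd (Fintype.card F)) (t : ℕ)
    (hKF : Fintype.card K ^ (2 * t) = Fintype.card F) (d : K) (hd : d ≠ 0) :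
    ∃ e : F, e * e = ι d := by
  have hr : Odd (Fintype.card K) := by
    by_contra hcon
    rw [Nat.not_odd_iff_even] at hcon
    rcases Nat.eq_zero_or_pos t with rfl | ht
    · simp only [mul_zero, pow_zero] at hKF
      have := Fintype.one_lt_card (α := F)
      omega
    · have : Even (Fintype.card K ^ (2 * t)) := (Nat.even_pow.mpr ⟨hcon, by omega⟩)
      rw [hKF] at this
      exact (Nat.not_even_iff_odd.mpr hodd) this
  obtain ⟨w, hw⟩ := even_pow_factor _ hr t
  have hchar : ringChar F ≠ 2 := by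
    intro h2
    have := FiniteField.even_card_of_char_two h2
    obtain ⟨k, hk⟩ := hodd
    omega
  have hd' : ι d ≠ 0 := (map_ne_zero ι).mpr hd
  have hsq : IsSquare (ι d) := by
    rw [FiniteField.isSquare_iff hchar hd']
    have h2 : Fintype.card F / 2 = (Fintype.card K - 1) * w := by
      rw [← hKF, hw]
      have : 2 * (Fintype.card K - 1) * w + 1 = 2 * ((Fintype.card K - 1) * w) + 1 := by ring
      rw [this]
      omega
    rw [h2, ← map_pow, pow_mul, FiniteField.pow_card_sub_one_eq_one d hd, one_pow, map_one]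
  obtain ⟨e, he⟩ := hsq
  exact ⟨e, he.symm⟩

end squares

section lagrange
variable {K F : Type*} [Field K] [Fintype K] [Field F] [Fintype F]

theorem card_SL2 : Nat.card (Matrix.SpecialLinearGroup (Fin 2) K) =
    (Fintype.card K ^ 2 - 1) * Fintype.card K := by
  have h1 := Cfsg.Agent.Helper2.card_SL_mul_card_units (ι := Fin 2) (F := K)
  rw [Cfsg.Agent.Helper2.card_units_field, Matrix.card_GL_field, Fin.prod_univ_two] at h1
  simp only [Fin.val_zero, Fin.val_one, pow_zero, pow_one] at h1
  have hr : 2 ≤ Fintype.card K := Fintype.one_lt_card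
  set r := Fintype.card K with hr'
  have h2 : r ^ 2 - r = r * (r - 1) := by
    rw [sq, Nat.mul_sub, mul_one]
  rw [h2, ← mul_assoc] at h1
  exact Nat.eq_of_mul_eq_mul_right (by omega) h1

theorem two_mul_card_PSL2 (hodd : Odd (Fintype.card F)) :
    2 * Nat.card (Matrix.ProjectiveSpecialLinearGroup (Fin 2) F) =
    (Fintype.card F ^ 2 - 1) * Fintype.card F := by
  have h1 := Cfsg.Agent.S0243.result (F := F) rfl 2 le_rfl
  rw [Fin.prod_univ_two] at h1
  simp only [Fin.val_zero, Fin.val_one, pow_zero, pow_one] at h1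
  have hq : 2 ≤ Fintype.card F := Fintype.one_lt_card
  set q := Fintype.card F with hq'
  have hg : Nat.gcd 2 (q - 1) = 2 := by
    obtain ⟨k, hk⟩ := hodd
    have : q - 1 = 2 * k := by omega
    rw [this]
    exact Nat.gcd_mul_right_right k 2 |> fun h => by simpa [Nat.gcd_comm] using Nat.gcd_mul_right_right k 2
  have h2 : q ^ 2 - q = q * (q - 1) := by
    rw [sq, Nat.mul_sub, mul_one]
  rw [hg, h2] at h1
  have h3 : (2 * Nat.card (Matrix.ProjectiveSpecialLinearGroup (Fin 2) F)) * (q - 1) =
      ((q ^ 2 - 1) * q) * (q - 1) := by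
    generalize q - 1 = a at *
    generalize q ^ 2 - 1 = b at *
    calc 2 * Nat.card (Matrix.ProjectiveSpecialLinearGroup (Fin 2) F) * a
        = 2 * (a * Nat.card (Matrix.ProjectiveSpecialLinearGroup (Fin 2) F)) := by ring
      _ = b * (q * a) := h1
      _ = b * q * a := by ring
  exact Nat.eq_of_mul_eq_mul_right (by omega) h3

theorem no_PGL_of_odd (hodd : Odd (Fintype.card F)) (t : ℕ)
    (hKF : Fintype.card K ^ (2 * t + 1) = Fintype.card F)
    (H : Subgroup (Matrix.ProjectiveSpecialLinearGroup (Fin 2) F))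
    (e : H ≃* Matrix.ProjGenLinGroup (Fin 2) K) : False := by
  have h1 : Nat.card H = Nat.card (Matrix.SpecialLinearGroup (Fin 2) K) := by
    rw [Nat.card_congr e.toEquiv, Cfsg.Agent.S0265.result]
  have h2 := Subgroup.card_subgroup_dvd_card H
  rw [h1, card_SL2] at h2
  obtain ⟨k, hk⟩ := h2
  have h3 := two_mul_card_PSL2 (F := F) hodd
  rw [hk] at h3
  set r := Fintype.card K with hr
  have hrodd : Odd r := by
    by_contra hcon
    rw [Nat.not_odd_iff_even] at hcon
    have : Even (r ^ (2 * t + 1)) := Nat.even_pow.mpr ⟨hcon, by omega⟩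
    rw [hKF] at this
    exact (Nat.not_even_iff_odd.mpr hodd) this
  have hr2 : 2 ≤ r := Fintype.one_lt_card
  obtain ⟨S, hS, hSe⟩ := odd_factor (r ^ 2) (Odd.pow hrodd) t
  have hq2 : Fintype.card F ^ 2 - 1 = (r ^ 2 - 1) * S := by
    rw [← hKF, ← pow_mul, mul_comm, pow_mul, hSe, Nat.add_sub_cancel]
  rw [hq2] at h3
  have hpos : 0 < r ^ 2 - 1 := by
    have : 4 ≤ r ^ 2 := by nlinarith
    omega
  have h4 : (r ^ 2 - 1) * (2 * (r * k)) = (r ^ 2 - 1) * (S * Fintype.card F) := by
    generalize r ^ 2 - 1 = b at *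
    calc b * (2 * (r * k)) = 2 * (b * r * k) := by ring
      _ = b * S * Fintype.card F := h3
      _ = b * (S * Fintype.card F) := by ring
  have h5 := Nat.eq_of_mul_eq_mul_left hpos h4
  have h6 : Odd (S * Fintype.card F) := hS.mul hodd
  rw [← h5] at h6
  exact (Nat.not_odd_iff_even.mpr ⟨r * k, by ring⟩) h6

end lagrange

/-- Subfield subgroups: let F be a finite field of odd order q and K a finite field with |K|^m = q, m ≥ 1. Then PSL_2(F) has a subgroup isomorphic to PSL_2(K), and has a subgroup isomorphic to PGL_2(K) if and only if m is even. -/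
theorem result {F K : Type*} [Field F] [Fintype F] [Field K] [Fintype K] {q : ℕ} (hF : Fintype.card F = q) (hodd : Odd q) (m : ℕ) (hm : 1 ≤ m) (hK : Fintype.card K ^ m = q) : (∃ H : Subgroup (Matrix.ProjectiveSpecialLinearGroup (Fin 2) F), Nonempty (H ≃* Matrix.ProjectiveSpecialLinearGroup (Fin 2) K)) ∧ ((∃ H : Subgroup (Matrix.ProjectiveSpecialLinearGroup (Fin 2) F), Nonempty (H ≃* Matrix.ProjGenLinGroup (Fin 2) K)) ↔ Even m) := by
  classical
  obtain ⟨ι⟩ := exists_ringHom_of_card_pow hm (hK.trans hF.symm)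
  have hodd' : Odd (Fintype.card F) := by rw [hF]; exact hodd
  refine ⟨⟨(psi ι).range, ⟨?_⟩⟩, ?_, ?_⟩
  · exact ((QuotientGroup.quotientKerEquivRange (psi ι)).symm.trans
      (QuotientGroup.quotientMulEquivOfEq (ker_psi ι)))
  · rintro ⟨H, ⟨e⟩⟩
    by_contra hm2
    rw [Nat.not_even_iff_odd] at hm2
    obtain ⟨t, rfl⟩ := hm2
    exact no_PGL_of_odd hodd' t (hK.trans hF.symm) H e
  · rintro ⟨t, rfl⟩
    have hsq := exists_sqrt ι hodd' t (by rw [two_mul]; exact hK.trans hF.symm)
    refine ⟨(psi2 ι hsq).range, ⟨?_⟩⟩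
    exact ((QuotientGroup.quotientKerEquivRange (psi2 ι hsq)).symm.trans
      (QuotientGroup.quotientMulEquivOfEq (ker_psi2 ι hsq)))

end Cfsg.Agent.S0805
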