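import Cfsg.Statements.S4242
import Mathlib
import Cfsg.Agent.S0071
import Cfsg.Agent.Lead.CoprimeSylow
import Cfsg.Agent.Helper29.Schmidt
import Cfsg.Agent.Helper29.NilpHall
import Cfsg.Agent.Helper23.CNGroup
import Cfsg.Agent.Helper19.Cores
import Cfsg.Agent.Helper8.Basic

set_option linter.style.haveILetI false

set_option autoImplicit false
open Cfsg

namespace Cfsg.Agent.S4242


theorem exists_coatom_ge {G : Type*} [Group G] [Finite G] (H : Subgroup G) (hH : H ≠ ⊤) :
    ∃ M : Subgroup G, IsCoatom M ∧ H ≤ M := by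
  rcases eq_top_or_exists_le_coatom H with h | h
  · exact absurd h hH
  · exact h

theorem isNilpotent_sup_of_commute {G : Type*} [Group G] {A B : Subgroup G}
    (comm : ∀ a ∈ A, ∀ b ∈ B, a * b = b * a) (hA : Group.IsNilpotent A)
    (hB : Group.IsNilpotent B) : Group.IsNilpotent ↥(A ⊔ B) := by
  obtain ⟨f, hr⟩ : ∃ f : A × B →* G, f.range = A ⊔ B :=
    ⟨MonoidHom.noncommCoprod A.subtype B.subtype
      (fun a b => (commute_iff_eq _ _).mpr (comm a a.2 b b.2)), by
      rw [MonoidHom.noncommCoprod_range, Subgroup.range_subtype, Subgroup.range_subtype]⟩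
  rw [← hr]
  exact Group.nilpotent_of_surjective f.rangeRestrict f.rangeRestrict_surjective

theorem backward {G : Type*} [Group G] [Finite G] (p : ℕ) (hp : p.Prime)
    (Z K : Subgroup G) (hZn : Z.Normal) (hKn : K.Normal) (hdisj : Z ⊓ K = ⊥) (hsup : Z ⊔ K = ⊤)
    (hZ : Nat.card Z = p) (hK : Cfsg.IsMinimalNonNilpotent K) (hpK : ¬ p ∣ Nat.card K)
    (M : Subgroup G) (hM : IsCoatom M) (hpM : p ∣ Nat.card M) : Group.IsNilpotent M := by
  haveI : Fact p.Prime := ⟨hp⟩
  have hcompl : Subgroup.IsComplement' Z K := by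
    apply Subgroup.isComplement'_of_disjoint_and_mul_eq_univ (disjoint_iff.mpr hdisj)
    rw [← Subgroup.normal_mul, hsup, Subgroup.coe_top]
  have hZidx : Z.index = Nat.card K := hcompl.symm.index_eq_card
  have hKc : (Nat.card K).Coprime p := ((Nat.Prime.coprime_iff_not_dvd hp).mpr hpK).symm
  obtain ⟨x, hx⟩ := exists_prime_orderOf_dvd_card' p hpM
  have hxcard : Nat.card (Subgroup.zpowers (x : G)) = p := by
    rw [Nat.card_zpowers, Subgroup.orderOf_coe, hx]
  have hxZ : Subgroup.zpowers (x : G) ≤ Z := by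
    apply Cfsg.Agent.Helper8.le_of_coprime_index Z
    rw [hxcard, hZidx]
    exact hKc.symm
  have hxZ' : Subgroup.zpowers (x : G) = Z :=
    Subgroup.eq_of_le_of_card_ge hxZ (by rw [hxcard, hZ])
  have hZM : Z ≤ M := by
    rw [← hxZ', Subgroup.zpowers_le]; exact x.2
  have hMeq : M = Z ⊔ (M ⊓ K) := by
    apply le_antisymm
    · intro m hm
      have hm' : m ∈ Z ⊔ K := by rw [hsup]; exact Subgroup.mem_top m
      obtain ⟨z, hz, k, hk, rfl⟩ := Subgroup.mem_sup_of_normal_right.mp hm'
      have hkM : k ∈ M := by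
        have : k = z⁻¹ * (z * k) := by group
        rw [this]; exact M.mul_mem (M.inv_mem (hZM hz)) hm
      exact Subgroup.mul_mem_sup hz ⟨hkM, hk⟩
    · exact sup_le hZM inf_le_left
  have hMK : M.subgroupOf K ≠ ⊤ := by
    intro htop
    rw [Subgroup.subgroupOf_eq_top] at htop
    apply hM.1
    rw [eq_top_iff, ← hsup]
    exact sup_le hZM htop
  have h1 : Group.IsNilpotent (M.subgroupOf K) := hK.2 _ hMK
  have h2 : Group.IsNilpotent ↥(M ⊓ K) := by
    have e : (M ⊓ K).subgroupOf K ≃* ↥(M ⊓ K) := Subgroup.subgroupOfEquivOfLe inf_le_right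
    rw [Subgroup.inf_subgroupOf_right] at e
    exact (Group.isNilpotent_congr e).mp h1
  have hZnil : Group.IsNilpotent Z :=
    (IsPGroup.of_card (p := p) (n := 1) (by rw [hZ, pow_one])).isNilpotent
  have h3 : Group.IsNilpotent ↥(Z ⊔ (M ⊓ K)) := by
    apply isNilpotent_sup_of_commute _ hZnil h2
    intro a ha b hb
    exact (Subgroup.commute_of_normal_of_disjoint Z K hZn hKn (disjoint_iff.mpr hdisj) a b ha
      hb.2).eq
  rw [hMeq]; exact h3

theorem forward {G : Type*} [Group G] [Finite G] (p : ℕ) (hp : p.Prime) (hpG : p ∣ Nat.card G)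
    (h : ∀ M : Subgroup G, IsCoatom M → p ∣ Nat.card M → Group.IsNilpotent M)
    (hnil : ¬ Group.IsNilpotent G) (hmin : ¬ Cfsg.IsMinimalNonNilpotent G) :
    ∃ Z K : Subgroup G, Z.Normal ∧ K.Normal ∧ Z ⊓ K = ⊥ ∧ Z ⊔ K = ⊤ ∧ Nat.card Z = p ∧
      Cfsg.IsMinimalNonNilpotent K ∧ ¬ p ∣ Nat.card K := by
  haveI : Fact p.Prime := ⟨hp⟩
  have h1 : ∃ H : Subgroup G, H ≠ ⊤ ∧ ¬ Group.IsNilpotent H := by
    by_contra hcon
    push Not at hcon
    exact hmin ⟨hnil, hcon⟩
  obtain ⟨H, hHtop, hHnil⟩ := h1
  obtain ⟨M₀, hM₀, hHM₀⟩ := exists_coatom_ge H hHtop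
  have hM₀nil : ¬ Group.IsNilpotent M₀ :=
    fun hn => hHnil (Cfsg.Agent.Helper23.isNilpotent_of_le hHM₀ hn)
  have hpM₀ : ¬ p ∣ Nat.card M₀ := fun hd => hM₀nil (h M₀ hM₀ hd)
  have hM₀c : (Nat.card M₀).Coprime p := ((Nat.Prime.coprime_iff_not_dvd hp).mpr hpM₀).symm
  have hprop : ∀ L : Subgroup G, L ≠ ⊤ → p ∣ Nat.card L → Group.IsNilpotent L := by
    intro L hL hpL
    obtain ⟨M, hM, hLM⟩ := exists_coatom_ge L hL
    exact Cfsg.Agent.Helper23.isNilpotent_of_le hLM
      (h M hM (hpL.trans (Subgroup.card_dvd_of_le hLM)))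
  obtain ⟨P⟩ : Nonempty (Sylow p G) := inferInstance
  obtain ⟨n, hn⟩ := IsPGroup.iff_card.mp P.2
  have hpP : p ∣ Nat.card P := by
    rw [P.card_eq_multiplicity]
    apply dvd_pow_self
    intro h0
    have := (Nat.factorization_eq_zero_iff (Nat.card G) p).mp h0
    rcases this with h' | h' | h'
    · exact h' hp
    · exact h' hpG
    · exact (Nat.card_pos (α := G)).ne' h'
  have hPne : (P : Subgroup G) ≠ ⊥ := by
    intro hbot
    rw [hbot, Subgroup.card_bot] at hpP
    exact hp.one_lt.ne' (Nat.dvd_one.mp hpP)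
  have hcopPM : (Nat.card P).Coprime (Nat.card M₀) := by
    rw [hn]; exact (hM₀c.pow_right n).symm
  have hdisjPM : Disjoint (P : Subgroup G) M₀ := Subgroup.disjoint_of_coprime_natCard hcopPM
  have hPM_top : (P : Subgroup G) ⊔ M₀ = ⊤ := by
    rcases hM₀.le_iff.mp (le_sup_right : M₀ ≤ (P : Subgroup G) ⊔ M₀) with h' | h'
    · exact h'
    · exfalso
      have hle : (P : Subgroup G) ≤ M₀ := by rw [← h']; exact le_sup_left
      exact hpM₀ (hpP.trans (Subgroup.card_dvd_of_le hle))
  -- the Sylow p-subgroup is normal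
  have hPn : (P : Subgroup G).Normal := by
    by_contra hPn
    have hstep1 : ∀ Q : Subgroup G, Q ≤ (P : Subgroup G) → Q ≠ ⊥ →
        Subgroup.normalizer (Q : Set G) ≠ ⊤ := by
      intro Q hQP hQne htop
      haveI hQn : Q.Normal := Subgroup.normalizer_eq_top_iff.mp htop
      have hQM : M₀ ⊔ Q = ⊤ := by
        rcases hM₀.le_iff.mp (le_sup_left : M₀ ≤ M₀ ⊔ Q) with h' | h'
        · exact h'
        · exfalso
          have hle : Q ≤ M₀ := by rw [← h']; exact le_sup_right
          apply hQne
          have hd : Disjoint Q M₀ := hdisjPM.mono_left hQP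
          exact (disjoint_self.mp (hd.mono_right hle))
      have hdvd : Nat.card G ∣ Nat.card M₀ * Nat.card Q := by
        have := Cfsg.Agent.Helper19.card_sup_dvd_mul M₀ Q
        rwa [hQM, Subgroup.card_top] at this
      have hPdvd : Nat.card P ∣ Nat.card Q := by
        have h2 : Nat.card P ∣ Nat.card M₀ * Nat.card Q :=
          (Subgroup.card_subgroup_dvd_card (P : Subgroup G)).trans hdvd
        exact hcopPM.dvd_of_dvd_mul_left h2
      have hQP' : Q = P := Subgroup.eq_of_le_of_card_ge hQP (Nat.le_of_dvd Nat.card_pos hPdvd)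
      exact hPn (hQP' ▸ hQn)
    have hfrob : ∀ Q : Subgroup G, Q ≤ (P : Subgroup G) →
        ∀ g ∈ Subgroup.normalizer (Q : Set G), Nat.Coprime (orderOf g) p →
          g ∈ Subgroup.centralizer (Q : Set G) := by
      intro Q hQP g hg hgp
      by_cases hQ : Q = ⊥
      · rw [hQ, Subgroup.mem_centralizer_iff]
        intro x hx
        rw [Subgroup.coe_bot, Set.mem_singleton_iff] at hx
        rw [hx, one_mul, mul_one]
      · have hNtop := hstep1 Q hQP hQ
        have hQp : IsPGroup p Q := P.2.to_le hQP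
        have hpQ : p ∣ Nat.card Q := by
          obtain ⟨k, hk⟩ := IsPGroup.iff_card.mp hQp
          rw [hk]
          apply dvd_pow_self
          rintro rfl
          rw [pow_zero] at hk
          exact hQ (Subgroup.card_eq_one.mp hk)
        have hNnil := hprop _ hNtop (hpQ.trans (Subgroup.card_dvd_of_le Subgroup.le_normalizer))
        have hcomm := Cfsg.Agent.Helper29.commute_of_le_nilpotent_of_coprime hNnil
          (Subgroup.le_normalizer : Q ≤ _)
          ((Subgroup.zpowers_le).mpr hg : Subgroup.zpowers g ≤ _) hQp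
          (by rw [Nat.card_zpowers]; exact hgp)
        rw [Subgroup.mem_centralizer_iff]
        intro x hx
        exact hcomm x hx g (Subgroup.mem_zpowers g)
    obtain ⟨K, hKn, hc⟩ := (Cfsg.Agent.S0071.result P).mpr hfrob
    have hKidx : K.index = Nat.card P := hc.symm.index_eq_card
    have hM₀K : M₀ ≤ K := by
      haveI := hKn
      apply Cfsg.Agent.Helper8.le_of_coprime_index K
      rw [hKidx]; exact hcopPM.symm
    have hKM₀ : K = M₀ := by
      rcases hM₀.le_iff.mp hM₀K with h' | h'
      · exfalso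
        rw [h', Subgroup.index_top] at hKidx
        exact hPne (Subgroup.card_eq_one.mp hKidx.symm)
      · exact h'
    subst hKM₀
    have hPsolv : Group.IsSolvable (P : Subgroup G) := by
      haveI := P.2.isNilpotent
      infer_instance
    have hPK : (P : Subgroup G) ≤ Subgroup.normalizer (K : Set G) := by
      rw [Subgroup.normalizer_eq_top_iff.mpr hKn]; exact le_top
    have hcent : K ≤ Subgroup.centralizer ((P : Subgroup G) : Set G) := by
      rw [← Subgroup.subgroupOf_eq_top]
      apply Cfsg.Agent.Helper29.eq_top_of_forall_sylow_le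
      intro r hr
      obtain ⟨R, hR⟩ := Cfsg.Agent.Lead.coprime_exists_invariant_sylow (P : Subgroup G) K hPK
        hcopPM (Or.inl hPsolv) r
      refine ⟨R, ?_⟩
      have hR'K : (R : Subgroup K).map K.subtype ≤ K := Subgroup.map_subtype_le _
      have hne : (P : Subgroup G) ⊔ (R : Subgroup K).map K.subtype ≠ ⊤ := by
        intro htop
        have hNR : Subgroup.normalizer (((R : Subgroup K).map K.subtype : Subgroup G) : Set G)
            = ⊤ := by
          rw [eq_top_iff, ← htop]
          exact sup_le hR Subgroup.le_normalizer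
        haveI hRn : ((R : Subgroup K).map K.subtype).Normal :=
          Subgroup.normalizer_eq_top_iff.mp hNR
        have hdvd : Nat.card G ∣ Nat.card P * Nat.card ((R : Subgroup K).map K.subtype) := by
          have := Cfsg.Agent.Helper19.card_sup_dvd_mul (P : Subgroup G)
            ((R : Subgroup K).map K.subtype)
          rwa [htop, Subgroup.card_top] at this
        rw [← hc.card_mul_card, mul_comm] at hdvd
        have hKdvd : Nat.card K ∣ Nat.card ((R : Subgroup K).map K.subtype) :=
          Nat.dvd_of_mul_dvd_mul_left Nat.card_pos hdvd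
        have hRK : (R : Subgroup K).map K.subtype = K :=
          Subgroup.eq_of_le_of_card_ge hR'K (Nat.le_of_dvd Nat.card_pos hKdvd)
        have hRp : IsPGroup r ((R : Subgroup K).map K.subtype) := R.2.map _
        rw [hRK] at hRp
        exact hM₀nil hRp.isNilpotent
      have hpR : p ∣ Nat.card ↥((P : Subgroup G) ⊔ (R : Subgroup K).map K.subtype) :=
        hpP.trans (Subgroup.card_dvd_of_le le_sup_left)
      have hnilPR := hprop _ hne hpR
      have hcomm := Cfsg.Agent.Helper29.commute_of_le_nilpotent_of_coprime hnilPR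
        (le_sup_left : (P : Subgroup G) ≤ _)
        (le_sup_right : (R : Subgroup K).map K.subtype ≤ _) P.2
        (Nat.Coprime.coprime_dvd_left (Subgroup.card_dvd_of_le hR'K) hM₀c)
      intro x hx
      rw [Subgroup.mem_subgroupOf, Subgroup.mem_centralizer_iff]
      intro y hy
      exact hcomm y hy (x : G) (Subgroup.mem_map_of_mem K.subtype hx)
    apply hPn
    rw [← Subgroup.normalizer_eq_top_iff, eq_top_iff, ← hPM_top]
    exact sup_le Subgroup.le_normalizer
      (hcent.trans (Subgroup.centralizer_le_normalizer _))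
  haveI := hPn
  have hcompl : Subgroup.IsComplement' (P : Subgroup G) M₀ := by
    apply Subgroup.isComplement'_of_disjoint_and_mul_eq_univ hdisjPM
    rw [← Subgroup.normal_mul, hPM_top, Subgroup.coe_top]
  have hcard : Nat.card P * Nat.card M₀ = Nat.card G := hcompl.card_mul_card
  -- proper subgroups of M₀ are nilpotent and centralize P
  have hA : ∀ L : Subgroup G, L ≤ M₀ → L ≠ M₀ →
      Group.IsNilpotent L ∧ ∀ x ∈ (P : Subgroup G), ∀ y ∈ L, x * y = y * x := by
    intro L hLM hLne
    have hne : (P : Subgroup G) ⊔ L ≠ ⊤ := by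
      intro htop
      have hdvd : Nat.card G ∣ Nat.card L * Nat.card P := by
        have := Cfsg.Agent.Helper19.card_sup_dvd_mul L (P : Subgroup G)
        rwa [sup_comm, htop, Subgroup.card_top] at this
      rw [← hcard, mul_comm] at hdvd
      have hdvd' : Nat.card M₀ ∣ Nat.card L := Nat.dvd_of_mul_dvd_mul_right Nat.card_pos hdvd
      exact hLne (Subgroup.eq_of_le_of_card_ge hLM (Nat.le_of_dvd Nat.card_pos hdvd'))
    have hnilPL := hprop _ hne (hpP.trans (Subgroup.card_dvd_of_le le_sup_left))
    refine ⟨Cfsg.Agent.Helper23.isNilpotent_of_le le_sup_right hnilPL, ?_⟩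
    exact Cfsg.Agent.Helper29.commute_of_le_nilpotent_of_coprime hnilPL
      (le_sup_left : (P : Subgroup G) ≤ _) (le_sup_right : L ≤ _) P.2
      (Nat.Coprime.coprime_dvd_left (Subgroup.card_dvd_of_le hLM) hM₀c)
  have hminM₀ : Cfsg.IsMinimalNonNilpotent M₀ := by
    refine ⟨hM₀nil, fun H hH => ?_⟩
    have hLne : H.map M₀.subtype ≠ M₀ := by
      intro heq
      apply hH
      apply Subgroup.eq_top_of_card_eq
      rw [← Subgroup.card_subtype, heq]
    have := (hA _ (Subgroup.map_subtype_le H) hLne).1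
    exact (Group.isNilpotent_congr (H.equivMapOfInjective M₀.subtype M₀.subtype_injective)).mpr this
  have hcomm : ∀ x ∈ (P : Subgroup G), ∀ g ∈ M₀, x * g = g * x := by
    intro x hx g hg
    have hle : Subgroup.zpowers g ≤ M₀ := (Subgroup.zpowers_le).mpr hg
    by_cases heq : Subgroup.zpowers g = M₀
    · exfalso
      apply hM₀nil
      rw [← heq]
      letI : CommGroup (Subgroup.zpowers g) := IsCyclic.commGroup
      infer_instance
    · exact (hA _ hle heq).2 x hx g (Subgroup.mem_zpowers g)
  have hM₀n : M₀.Normal := by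
    rw [← Subgroup.normalizer_eq_top_iff, eq_top_iff, ← hPM_top]
    refine sup_le ?_ Subgroup.le_normalizer
    refine le_trans ?_ (Subgroup.centralizer_le_normalizer _)
    intro x hx
    rw [Subgroup.mem_centralizer_iff]
    intro g hg
    exact (hcomm x hx g hg).symm
  have hPcard : Nat.card P = p := by
    obtain ⟨z, hz⟩ := exists_prime_orderOf_dvd_card' p hpP
    have hzcard : Nat.card (Subgroup.zpowers (z : G)) = p := by
      rw [Nat.card_zpowers, Subgroup.orderOf_coe, hz]
    have hsup : Subgroup.zpowers (z : G) ⊔ M₀ = ⊤ := by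
      rcases hM₀.le_iff.mp (le_sup_right : M₀ ≤ Subgroup.zpowers (z : G) ⊔ M₀) with h' | h'
      · exact h'
      · exfalso
        have hle : Subgroup.zpowers (z : G) ≤ M₀ := by rw [← h']; exact le_sup_left
        apply hpM₀
        rw [← hzcard]
        exact Subgroup.card_dvd_of_le hle
    have hdvd : Nat.card G ∣ p * Nat.card M₀ := by
      haveI := hM₀n
      have := Cfsg.Agent.Helper19.card_sup_dvd_mul (Subgroup.zpowers (z : G)) M₀
      rwa [hsup, Subgroup.card_top, hzcard] at this
    rw [← hcard] at hdvd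
    have hdvd' : Nat.card P ∣ p := Nat.dvd_of_mul_dvd_mul_right Nat.card_pos hdvd
    rcases (Nat.dvd_prime hp).mp hdvd' with h' | h'
    · exact absurd (Subgroup.card_eq_one.mp h') hPne
    · exact h'
  exact ⟨P, M₀, hPn, hM₀n, hdisjPM.eq_bot, hPM_top, hPcard, hminM₀, hpM₀⟩

/-- Let G be a finite group and p a prime dividing its order. Every maximal subgroup of G of order divisible by p is nilpotent if and only if G is nilpotent, or G is a minimal non-nilpotent group, or G is the internal direct product of a normal subgroup of order p and a normal minimal non-nilpotent subgroup of order prime to p. -/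
theorem result {G : Type*} [Group G] [Finite G] (p : ℕ) (hp : p.Prime) (hpG : p ∣ Nat.card G) :
    (∀ M : Subgroup G, IsCoatom M → p ∣ Nat.card M → Group.IsNilpotent M) ↔
      (Group.IsNilpotent G ∨ Cfsg.IsMinimalNonNilpotent G ∨
        ∃ Z K : Subgroup G, Z.Normal ∧ K.Normal ∧ Z ⊓ K = ⊥ ∧ Z ⊔ K = ⊤ ∧ Nat.card Z = p ∧
          Cfsg.IsMinimalNonNilpotent K ∧ ¬ p ∣ Nat.card K) := by
  constructor
  · intro h
    by_cases hnil : Group.IsNilpotent G
    · exact Or.inl hnil
    by_cases hmin : Cfsg.IsMinimalNonNilpotent G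
    · exact Or.inr (Or.inl hmin)
    exact Or.inr (Or.inr (forward p hp hpG h hnil hmin))
  · rintro (hnil | hmin | ⟨Z, K, hZn, hKn, hdisj, hsup, hZ, hK, hpK⟩) M hM hpM
    · infer_instance
    · exact hmin.2 M hM.1
    · exact backward p hp Z K hZn hKn hdisj hsup hZ hK hpK M hM hpM

end Cfsg.Agent.S4242
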