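import Cfsg.Statements.S1474
import Mathlib
import Cfsg.Agent.Helper23.CNFrobenius

set_option autoImplicit false
open Cfsg

namespace Cfsg.Agent.S1474

/-- Let G be a finite group in which every non-identity element has nilpotent centralizer, not itself nilpotent, and having a nontrivial normal Sylow p-subgroup for some prime p. Let H be the largest normal nilpotent Hall subgroup of G. Then H is a nontrivial proper normal subgroup with a complement E that is a Frobenius complement in G (no non-identity element of E centralizes a non-identity element of H), and G/H is nilpotent. -/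
theorem result {G : Type*} [Group G] [Finite G] (hCN : Cfsg.IsCNGroup G) (hnn : ¬ Group.IsNilpotent G) (p : ℕ) [Fact p.Prime] (P : Sylow p G)
    (hP1 : (P : Subgroup G) ≠ ⊥) (hPn : (P : Subgroup G).Normal) :
    Cfsg.fittingHall G ≠ ⊥ ∧ Cfsg.fittingHall G ≠ ⊤ ∧
      (∃ E : Subgroup G, Subgroup.IsComplement' (Cfsg.fittingHall G) E ∧ Cfsg.IsFrobeniusComplement E ∧
        ∀ e ∈ E, e ≠ 1 → Cfsg.fittingHall G ⊓ Subgroup.centralizer ({e} : Set G) = ⊥) ∧
      Group.IsNilpotent (G ⧸ Cfsg.fittingHall G) := by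
  classical
  open Cfsg.Agent.Helper23 in
  set H := Cfsg.fittingHall G with hH
  have hHn : H.Normal := inferInstance
  have hHnil : Group.IsNilpotent H := Cfsg.Agent.Helper23.fittingHall_isNilpotent
  have hHcop : (Nat.card H).Coprime H.index := Cfsg.Agent.Helper23.fittingHall_coprime G
  have hPH : (P : Subgroup G) ≤ H := Cfsg.Agent.Helper23.sylow_le_fittingHall P hPn
  have hH1 : H ≠ ⊥ := by
    intro hbot
    rw [hbot, le_bot_iff] at hPH
    exact hP1 hPH
  have hHtop : H ≠ ⊤ := by
    intro htop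
    apply hnn
    rw [htop] at hHnil
    exact Group.nilpotent_of_mulEquiv (Subgroup.topEquiv (G := G))
  obtain ⟨E, hE⟩ := Subgroup.exists_right_complement'_of_coprime hHcop
  have hdisj : H ⊓ E = ⊥ := hE.disjoint.eq_bot
  have hcardE : Nat.card E = H.index := by
    have h2 := hE.card_mul_card
    have h3 := H.card_mul_index
    have hpos : 0 < Nat.card H := Nat.card_pos
    apply Nat.eq_of_mul_eq_mul_left hpos
    rw [h3, h2]
  have hCH : Subgroup.centralizer (H : Set G) ≤ H :=
    Cfsg.Agent.Helper23.centralizer_fittingHall_le hCN hH1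
  -- fixed-point-freeness
  have hfpf : ∀ e ∈ E, e ≠ 1 → H ⊓ Subgroup.centralizer ({e} : Set G) = ⊥ := by
    intro e heE he1
    rw [eq_bot_iff]
    intro h hh
    rw [Subgroup.mem_bot]
    by_contra hh1
    obtain ⟨hhH, hhC⟩ := Subgroup.mem_inf.mp hh
    rw [Cfsg.Agent.Helper23.mem_centralizer_singleton] at hhC
    have hoe : orderOf e ≠ 1 := fun h => he1 (orderOf_eq_one_iff.mp h)
    obtain ⟨s, hs, hse⟩ := Nat.exists_prime_and_dvd hoe
    have : Fact s.Prime := ⟨hs⟩
    obtain ⟨m, hm⟩ := hse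
    have hmpos : 0 < m := by
      rcases Nat.eq_zero_or_pos m with h0 | h0
      · exfalso
        rw [h0, mul_zero] at hm
        exact (orderOf_pos e).ne' hm
      · exact h0
    have hoe' : orderOf (e ^ m) = s ^ 1 := by
      rw [pow_one, orderOf_pow' _ hmpos.ne', hm, Nat.gcd_eq_right (Dvd.intro_left s rfl)]
      exact Nat.mul_div_cancel _ hmpos
    have he'1 : e ^ m ≠ 1 := by
      intro h1
      rw [h1, orderOf_one, pow_one] at hoe'
      exact hs.one_lt.ne hoe'
    have he'E : e ^ m ∈ E := E.pow_mem heE m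
    have hsE : s ∣ Nat.card E := by
      have h1 : orderOf e ∣ Nat.card E := by
        have := orderOf_dvd_natCard (⟨e, heE⟩ : E)
        rwa [Subgroup.orderOf_mk] at this
      exact (Dvd.intro _ hm.symm).trans h1
    have hsH : (Nat.card H).Coprime s := by
      rw [hcardE] at hsE
      exact Nat.Coprime.coprime_dvd_right hsE hHcop
    have he'h : e ^ m * h = h * e ^ m := (Commute.pow_left (show Commute e h from hhC) m).eq
    have hcent := Cfsg.Agent.Helper23.cn_centralizes hCN H hHnil s (e ^ m) 1 hoe' hsH h hhH hh1 he'h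
    have he'C : e ^ m ∈ Subgroup.centralizer (H : Set G) := by
      rw [Subgroup.mem_centralizer_iff]
      intro u hu
      exact (hcent u hu).symm
    have : e ^ m ∈ H ⊓ E := Subgroup.mem_inf.mpr ⟨hCH he'C, he'E⟩
    rw [hdisj, Subgroup.mem_bot] at this
    exact he'1 this
  have hE1 : E ≠ ⊥ := by
    intro hbot
    apply hHtop
    rw [hbot] at hE
    exact Subgroup.isComplement'_bot_right.mp hE
  have hEtop : E ≠ ⊤ := by
    intro htop
    apply hH1
    rw [htop] at hE
    exact Subgroup.isComplement'_top_right.mp hE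
  refine ⟨hH1, hHtop, ⟨E, hE, ⟨hE1, hEtop, ?_⟩, hfpf⟩, ?_⟩
  · -- Frobenius complement
    intro g hgE
    rw [eq_bot_iff]
    intro x hx
    rw [Subgroup.mem_bot]
    by_contra hx1
    obtain ⟨hxE, hxg⟩ := Subgroup.mem_inf.mp hx
    obtain ⟨⟨⟨h, hh⟩, ⟨e₀, he₀⟩⟩, hg⟩ := hE.2 g
    simp only at hg
    have heE : g⁻¹ * x * g ∈ E := by
      have := Subgroup.mem_pointwise_smul_iff_inv_smul_mem.mp hxg
      rw [← map_inv, MulAut.smul_def, MulAut.conj_apply, inv_inv] at this
      exact this
    set e₁ := e₀ * (g⁻¹ * x * g) * e₀⁻¹ with he₁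
    have he₁E : e₁ ∈ E := E.mul_mem (E.mul_mem he₀ heE) (E.inv_mem he₀)
    have hxe : x = h * e₁ * h⁻¹ := by
      rw [he₁, ← hg]; group
    have h1 : x * e₁⁻¹ ∈ H ⊓ E := by
      refine Subgroup.mem_inf.mpr ⟨?_, E.mul_mem hxE (E.inv_mem he₁E)⟩
      have : x * e₁⁻¹ = h * (e₁ * h⁻¹ * e₁⁻¹) := by rw [hxe]; group
      rw [this]
      exact H.mul_mem hh (hHn.conj_mem _ (H.inv_mem hh) e₁)
    rw [hdisj, Subgroup.mem_bot] at h1
    have hxe₁ : x = e₁ := by
      rw [mul_inv_eq_one] at h1; exact h1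
    have he₁1 : e₁ ≠ 1 := by rw [← hxe₁]; exact hx1
    have hcomm : e₁ * h = h * e₁ := by
      have h2 : h * e₁ * h⁻¹ = e₁ := by rw [← hxe]; exact hxe₁
      calc e₁ * h = (h * e₁ * h⁻¹) * h := by rw [h2]
        _ = h * e₁ := by group
    have hhbot : h ∈ H ⊓ Subgroup.centralizer ({e₁} : Set G) := by
      refine Subgroup.mem_inf.mpr ⟨hh, ?_⟩
      rw [Cfsg.Agent.Helper23.mem_centralizer_singleton]
      exact hcomm
    rw [hfpf e₁ he₁E he₁1, Subgroup.mem_bot] at hhbot
    apply hgE
    rw [← hg, hhbot, one_mul]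
    exact he₀
  · -- `G ⧸ H` is nilpotent
    set V : Subgroup G := H ⊓ Subgroup.centralizer (H : Set G) with hV
    have hVn : V.Normal := inferInstance
    have hVcomm : IsMulCommutative V := by
      refine ⟨⟨?_⟩⟩
      rintro ⟨a, ha⟩ ⟨b, hb⟩
      apply Subtype.ext
      simp only [Subgroup.coe_mul]
      exact ((Subgroup.mem_centralizer_iff.mp (Subgroup.mem_inf.mp hb).2) a
        (Subgroup.mem_inf.mp ha).1)
    have hV1 : V ≠ ⊥ := by
      have hcard : Nat.card H ≠ 1 := fun h1 => hH1 (Subgroup.card_eq_one.mp h1)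
      obtain ⟨q, hq, hqH⟩ := Nat.exists_prime_and_dvd hcard
      have : Fact q.Prime := ⟨hq⟩
      obtain ⟨z, hzH, hzo, hzc⟩ := Cfsg.Agent.S1477.exists_central H hHnil q hqH
      intro hbot
      have hzV : z ∈ V := by
        refine Subgroup.mem_inf.mpr ⟨hzH, ?_⟩
        rw [Subgroup.mem_centralizer_iff]
        intro u hu
        exact hzc u hu
      rw [hbot, Subgroup.mem_bot] at hzV
      rw [hzV, orderOf_one] at hzo
      exact hq.one_lt.ne hzo
    have hEV : (Nat.card E).Coprime (Nat.card V) := by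
      rw [hcardE]
      exact (Nat.Coprime.coprime_dvd_left (Subgroup.card_dvd_of_le inf_le_left) hHcop).symm
    have hEnil : Group.IsNilpotent E := by
      apply Cfsg.Agent.Helper23.isNilpotent_of_fpf hCN V hV1 E hEV
      intro e heE he1 v hv hev
      have : v ∈ H ⊓ Subgroup.centralizer ({e} : Set G) := by
        refine Subgroup.mem_inf.mpr ⟨(Subgroup.mem_inf.mp hv).1, ?_⟩
        rw [Cfsg.Agent.Helper23.mem_centralizer_singleton]
        exact hev
      rw [hfpf e heE he1, Subgroup.mem_bot] at this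
      exact this
    apply Group.nilpotent_of_surjective ((QuotientGroup.mk' H).comp E.subtype)
    intro y
    obtain ⟨g, rfl⟩ := QuotientGroup.mk'_surjective H y
    obtain ⟨⟨⟨h, hh⟩, ⟨e₀, he₀⟩⟩, hg⟩ := hE.2 g
    simp only at hg
    refine ⟨⟨e₀, he₀⟩, ?_⟩
    rw [MonoidHom.comp_apply, Subgroup.coe_subtype, QuotientGroup.mk'_apply, QuotientGroup.mk'_apply,
      QuotientGroup.eq]
    rw [← hg]
    have : e₀⁻¹ * (h * e₀) = e₀⁻¹ * h * e₀⁻¹⁻¹ := by group
    rw [this]
    exact hHn.conj_mem _ hh _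

end Cfsg.Agent.S1474
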