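import Cfsg.Statements.S0514
import Mathlib
import Cfsg.Agent.S0071
import Cfsg.Agent.Helper3.DihedralOddAut
-- import your own Cfsg.Agent.* helpers here

set_option autoImplicit false
set_option linter.style.haveILetI false
open Cfsg

namespace Cfsg.Agent.S0514

open Function
open scoped Pointwise

/-- A `p`-group mapping injectively into `X` embeds into (a group isomorphic to) a Sylow
`p`-subgroup of `X`. -/
theorem exists_embedding_of_pgroup {X : Type*} [Group X] [Finite X] {p : ℕ} [Fact p.Prime]
    (S : Sylow p X) {D : Type*} [Group D] (e : (S : Subgroup X) ≃* D)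
    {R : Type*} [Group R] (f : R →* X) (hf : Injective f) (hR : IsPGroup p R) :
    ∃ ψ : R →* D, Injective ψ := by
  have hH : IsPGroup p f.range := hR.of_surjective f.rangeRestrict f.rangeRestrict_surjective
  obtain ⟨S', hS'⟩ := hH.exists_le_sylow
  obtain ⟨x, hx⟩ := MulAction.exists_smul_eq X S S'
  have hle : f.range ≤ ((x • S : Sylow p X) : Subgroup X) := by rw [hx]; exact hS'
  refine ⟨e.toMonoidHom.comp ((Sylow.equivSMul S x).symm.toMonoidHom.comp
    ((Subgroup.inclusion hle).comp f.rangeRestrict)), ?_⟩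
  intro a b hab
  have h1 := e.injective hab
  have h2 := (Sylow.equivSMul S x).symm.injective h1
  have h3 := Subgroup.inclusion_injective hle h2
  exact (MonoidHom.rangeRestrict_injective_iff.mpr hf) h3

/-- In a finite group whose Sylow 2-subgroups are dihedral of order at least 4, the centralizer of any involution has a
normal subgroup of odd order whose index in the centralizer is a power of 2. -/
theorem result {X : Type*} [Group X] [Finite X]
    (S : Sylow 2 X) (n : ℕ) (hn : 2 ≤ n) (hS : Nonempty ((S : Subgroup X) ≃* DihedralGroup n)) (t : X)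
    (ht : orderOf t = 2) :
    ∃ N : Subgroup (Subgroup.centralizer ({t} : Set X)), N.Normal ∧ Odd (Nat.card N) ∧ ∃ k : ℕ, N.index = 2 ^ k := by
  classical
  haveI : Fact (Nat.Prime 2) := ⟨Nat.prime_two⟩
  obtain ⟨e⟩ := hS
  set C : Subgroup X := Subgroup.centralizer ({t} : Set X) with hC
  have htC : t ∈ C := Subgroup.mem_centralizer_iff.mpr (by
    intro y hy; rw [Set.mem_singleton_iff.mp hy])
  let tC : C := ⟨t, htC⟩
  have htC_central : ∀ c : C, tC * c = c * tC := by
    intro c
    apply Subtype.ext
    exact Subgroup.mem_centralizer_iff.mp c.2 t rfl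
  have ht1 : t ≠ 1 := by
    intro h; rw [h, orderOf_one] at ht; omega
  have htC1 : tC ≠ 1 := by
    intro h; exact ht1 (congrArg Subtype.val h)
  have htCord : orderOf tC = 2 := by
    rw [← ht]; exact (Subgroup.orderOf_mk t htC)
  set Z : Subgroup C := Subgroup.zpowers tC with hZ
  have hZp : IsPGroup 2 Z := by
    apply IsPGroup.of_card (n := 1)
    rw [Nat.card_zpowers, htCord, pow_one]
  obtain ⟨T, hZT⟩ := hZp.exists_le_sylow
  have hZnorm : ∀ g : C, g ∈ Subgroup.normalizer (Z : Set C) := by
    intro g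
    rw [Subgroup.mem_normalizer_iff]
    intro h
    have hcomm : ∀ z ∈ Z, g * z * g⁻¹ = z := by
      intro z hz
      obtain ⟨k, rfl⟩ := Subgroup.mem_zpowers_iff.mp hz
      have : Commute g (tC ^ k) := (Commute.zpow_right (htC_central g).symm k)
      rw [this.eq, mul_inv_cancel_right]
    constructor
    · intro hh; rw [hcomm h hh]; exact hh
    · intro hh
      have := hcomm _ hh
      have h2 : g⁻¹ * (g * h * g⁻¹) * g = h := by group
      have h3 : g * h * g⁻¹ = h := by
        have h4 : g * (g * h * g⁻¹) * g⁻¹ = g * h * g⁻¹ := this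
        have h5 : g * (g * h * g⁻¹) * g⁻¹ = g * (h) * g⁻¹ → g * h * g⁻¹ = h := by
          intro h6
          have := mul_right_cancel h6
          exact mul_left_cancel this
        exact h5 h4
      rw [← h3]; exact hh
  have key : ∀ Q : Subgroup C, Q ≤ (T : Subgroup C) →
      ∀ g ∈ Subgroup.normalizer (Q : Set C), Nat.Coprime (orderOf g) 2 →
      g ∈ Subgroup.centralizer (Q : Set C) := by
    intro Q hQT g hg hcop
    set Q' : Subgroup C := Q ⊔ Z with hQ'
    have hgQ' : g ∈ Subgroup.normalizer (Q' : Set C) :=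
      Subgroup.normalizer_inf_normalizer_le_normalizer_sup Q Z ⟨hg, hZnorm g⟩
    have hQ'T : Q' ≤ (T : Subgroup C) := sup_le hQT hZT
    have hQ'p : IsPGroup 2 Q' := T.2.to_le hQ'T
    let α : MulAut Q' := Q'.normalizerMonoidHom ⟨g, hgQ'⟩
    have hαapp : ∀ y : Q', ((α y : Q') : C) = g * y * g⁻¹ := fun y => rfl
    have hd : Odd (orderOf g) := Nat.coprime_two_right.mp hcop
    have hαd : α ^ (orderOf g) = 1 := by
      show (Q'.normalizerMonoidHom ⟨g, hgQ'⟩) ^ (orderOf g) = 1
      rw [← map_pow]
      have : (⟨g, hgQ'⟩ : Subgroup.normalizer (Q' : Set C)) ^ (orderOf g) = 1 := by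
        apply Subtype.ext
        simp [pow_orderOf_eq_one]
      rw [this, map_one]
    have htQ' : tC ∈ Q' := le_sup_right (a := Q) (Subgroup.mem_zpowers tC)
    let τ : Q' := ⟨tC, htQ'⟩
    have hτ1 : τ ≠ 1 := by
      intro h; exact htC1 (congrArg Subtype.val h)
    have hτc : ∀ x : Q', τ * x = x * τ := by
      intro x; apply Subtype.ext; exact htC_central x
    have hατ : α τ = τ := by
      apply Subtype.ext
      rw [hαapp]
      show g * tC * g⁻¹ = tC
      rw [← htC_central g, mul_inv_cancel_right]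
    obtain ⟨ψ, hψ⟩ := exists_embedding_of_pgroup S e (C.subtype.comp Q'.subtype)
      (by
        intro a b hab
        exact Subtype.ext (Subtype.ext hab)) hQ'p
    have hα1 : α = 1 :=
      Cfsg.Agent.Helper3.dihedral_sub_odd_aut_trivial ψ hψ hQ'p α (orderOf g) hd hαd τ hτ1 hτc hατ
    rw [Subgroup.mem_centralizer_iff]
    intro y hy
    have hyQ' : y ∈ Q' := le_sup_left (b := Z) hy
    have h1 := hαapp ⟨y, hyQ'⟩
    rw [hα1, MulAut.one_apply] at h1
    -- y = g * y * g⁻¹
    have h2 : y = g * y * g⁻¹ := h1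
    calc y * g = (g * y * g⁻¹) * g := by rw [← h2]
      _ = g * y := by group
  obtain ⟨N, hN, hc⟩ := (Cfsg.Agent.S0071.result T).mpr key
  refine ⟨N, hN, ?_, ?_⟩
  · have h1 : (T : Subgroup C).index = Nat.card N := hc.index_eq_card
    rw [← h1]
    have h2 : ¬ 2 ∣ (T : Subgroup C).index := T.not_dvd_index
    rw [← Nat.not_even_iff_odd, even_iff_two_dvd]
    exact h2
  · obtain ⟨k, hk⟩ := IsPGroup.iff_card.mp T.2
    refine ⟨k, ?_⟩
    rw [hc.symm.index_eq_card]
    exact hk

end Cfsg.Agent.S0514
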