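import Mathlib
import Cfsg.Statements.S3532
import Cfsg.Agent.Helper13.PSL2Spec

set_option autoImplicit false

namespace Cfsg.Agent.S3532

open Cfsg.Agent.Helper13.PSL2Spec

section frob

variable {N K : Type*} [CommGroup N] [Group K] (φ : K →* MulAut N)

/-- In a semidirect product with fixed-point-free action, an element with non-trivial complement
part has the order of its complement part. -/
theorem orderOf_of_right_ne (hfpf : ∀ k : K, k ≠ 1 → ∀ n : N, φ k n = n → n = 1)
    (h : N ⋊[φ] K) (hne : h.right ≠ 1) : orderOf h = orderOf h.right := by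
  apply Nat.dvd_antisymm
  · apply orderOf_dvd_of_pow_eq_one
    set n := orderOf h.right with hn
    have hr : (h ^ n).right = 1 := by
      rw [← SemidirectProduct.rightHom_eq_right, map_pow, SemidirectProduct.rightHom_eq_right, hn,
        pow_orderOf_eq_one]
    set u := (h ^ n).left with hu
    have hcomm : h ^ n * h = h * h ^ n := by
      rw [← pow_succ, ← pow_succ']
    have hl := congrArg SemidirectProduct.left hcomm
    rw [SemidirectProduct.mul_left, SemidirectProduct.mul_left, hr, map_one, MulAut.one_apply,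
      ← hu] at hl
    have hfix : φ h.right u = u := by
      have : u * h.left = φ h.right u * h.left := by
        rw [hl, mul_comm]
      exact (mul_right_cancel this).symm
    have hu1 : u = 1 := hfpf h.right hne u hfix
    apply SemidirectProduct.ext
    · rw [← hu, hu1]; rfl
    · rw [hr]; rfl
  · apply orderOf_dvd_of_pow_eq_one
    rw [← SemidirectProduct.rightHom_eq_right, ← map_pow, pow_orderOf_eq_one, map_one]

theorem orderOf_of_right_eq (p : ℕ) (hN : ∀ n : N, n ^ p = 1) (h : N ⋊[φ] K)
    (he : h.right = 1) : orderOf h ∣ p := by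
  apply orderOf_dvd_of_pow_eq_one
  have hh : h = SemidirectProduct.inl h.left := by
    apply SemidirectProduct.ext
    · simp
    · simp [he]
  rw [hh, ← map_pow, hN, map_one]

theorem range_orderOf_semidirect (p : ℕ) (hp : p.Prime) (hN : ∀ n : N, n ^ p = 1)
    (hN1 : ∃ n : N, n ≠ 1) (hfpf : ∀ k : K, k ≠ 1 → ∀ n : N, φ k n = n → n = 1) :
    Set.range (orderOf : N ⋊[φ] K → ℕ) = {n | n ∣ p} ∪ Set.range (orderOf : K → ℕ) := by
  ext n
  constructor
  · rintro ⟨h, rfl⟩
    by_cases he : h.right = 1
    · exact Or.inl (orderOf_of_right_eq φ p hN h he)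
    · exact Or.inr ⟨h.right, (orderOf_of_right_ne φ hfpf h he).symm⟩
  · rintro (h | ⟨k, rfl⟩)
    · rcases (Nat.dvd_prime hp).mp h with h1 | h1
      · exact ⟨1, by rw [orderOf_one, h1]⟩
      · obtain ⟨v, hv⟩ := hN1
        refine ⟨SemidirectProduct.inl v, ?_⟩
        rw [h1]
        have : Fact p.Prime := ⟨hp⟩
        apply orderOf_eq_prime
        · rw [← map_pow, hN, map_one]
        · intro h0
          apply hv
          apply SemidirectProduct.inl_injective (φ := φ)
          rw [h0, map_one]
    · exact ⟨SemidirectProduct.inr k, orderOf_injective (SemidirectProduct.inr : K →* N ⋊[φ] K)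
        SemidirectProduct.inr_injective k⟩

theorem semidirect_solvable [Group.IsSolvable K] : Group.IsSolvable (N ⋊[φ] K) := by
  refine Group.isSolvable_of_ker_le_range (SemidirectProduct.inl : N →* N ⋊[φ] K)
    (SemidirectProduct.rightHom : N ⋊[φ] K →* K) ?_
  rw [SemidirectProduct.range_inl_eq_ker_rightHom]

end frob

theorem range_orderOf_zpowers {G : Type*} [Group G] [Finite G] (u : G) :
    Set.range (orderOf : Subgroup.zpowers u → ℕ) = {n | n ∣ orderOf u} := by
  ext n
  constructor
  · rintro ⟨k, rfl⟩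
    have := orderOf_dvd_natCard k
    rwa [Nat.card_zpowers] at this
  · intro h
    have h' : n ∣ orderOf (⟨u, Subgroup.mem_zpowers u⟩ : Subgroup.zpowers u) := by
      rw [Subgroup.orderOf_mk]
      exact h
    exact mem_range_of_dvd _ n h'

section field

variable (E : Type*) [Field E]

/-- units of a field act on its additive group by multiplication. -/
def mulAct : Eˣ →* MulAut (Multiplicative E) where
  toFun u :=
    { toFun := fun v => Multiplicative.ofAdd ((u : E) * Multiplicative.toAdd v)
      invFun := fun v => Multiplicative.ofAdd (((u⁻¹ : Eˣ) : E) * Multiplicative.toAdd v)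
      left_inv := fun v => by
        apply Multiplicative.toAdd.injective
        simp
      right_inv := fun v => by
        apply Multiplicative.toAdd.injective
        simp
      map_mul' := fun v w => by
        apply Multiplicative.toAdd.injective
        simp [mul_add] }
  map_one' := by
    apply MulEquiv.ext
    intro v
    apply Multiplicative.toAdd.injective
    change ((1 : Eˣ) : E) * Multiplicative.toAdd v = Multiplicative.toAdd v
    simp
  map_mul' a b := by
    apply MulEquiv.ext
    intro v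
    apply Multiplicative.toAdd.injective
    change ((a * b : Eˣ) : E) * Multiplicative.toAdd v =
      (a : E) * ((b : E) * Multiplicative.toAdd v)
    rw [Units.val_mul, mul_assoc]

theorem mulAct_apply (u : Eˣ) (v : Multiplicative E) :
    mulAct E u v = Multiplicative.ofAdd ((u : E) * Multiplicative.toAdd v) := rfl

variable {E}

/-- the Frobenius group `E ⋊ ⟨u⟩`. -/
abbrev HF (u : Eˣ) :=
  Multiplicative E ⋊[(mulAct E).comp (Subgroup.zpowers u).subtype] (Subgroup.zpowers u)

instance [Finite E] (u : Eˣ) : Finite (HF u) := Finite.of_equiv _ SemidirectProduct.equivProd.symm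

theorem HF_solvable (u : Eˣ) : Group.IsSolvable (HF u) := semidirect_solvable _

theorem range_orderOf_HF [Finite E] (p : ℕ) (hp : p.Prime) [CharP E p] (u : Eˣ) :
    Set.range (orderOf : HF u → ℕ) = {n | n ∣ p} ∪ {n | n ∣ orderOf u} := by
  rw [← range_orderOf_zpowers u]
  apply range_orderOf_semidirect _ p hp
  · intro v
    apply Multiplicative.toAdd.injective
    rw [toAdd_pow, toAdd_one, nsmul_eq_mul, CharP.cast_eq_zero E p, zero_mul]
  · refine ⟨Multiplicative.ofAdd (1 : E), ?_⟩
    intro h
    have := congrArg Multiplicative.toAdd h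
    simp at this
  · intro k hk v hv
    have h1 : ((k : Eˣ) : E) * Multiplicative.toAdd v = Multiplicative.toAdd v :=
      congrArg Multiplicative.toAdd hv
    have h2 : (((k : Eˣ) : E) - 1) * Multiplicative.toAdd v = 0 := by
      rw [sub_mul, h1, one_mul, sub_self]
    rcases mul_eq_zero.mp h2 with h3 | h3
    · exfalso
      apply hk
      apply Subtype.ext
      apply Units.ext
      rw [sub_eq_zero] at h3
      rw [h3]
      rfl
    · apply Multiplicative.toAdd.injective
      rw [h3]
      rfl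

theorem exists_unit_orderOf [Finite E] (m : ℕ) (hm : m ∣ Nat.card E - 1) :
    ∃ u : Eˣ, orderOf u = m := by
  obtain ⟨l, hl⟩ := IsCyclic.exists_generator (α := Eˣ)
  have hord : orderOf l = Nat.card E - 1 := by
    rw [orderOf_eq_card_of_forall_mem_zpowers hl, Nat.card_units]
  rw [← hord] at hm
  obtain ⟨y, hy⟩ := mem_range_of_dvd l m hm
  exact ⟨y, hy⟩

end field

theorem range_orderOf_prod {A B : Type*} [Group A] [Group B] :
    Set.range (orderOf : A × B → ℕ) =
      {n | ∃ a ∈ Set.range (orderOf : A → ℕ), ∃ b ∈ Set.range (orderOf : B → ℕ),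
        n = Nat.lcm a b} := by
  ext n
  constructor
  · rintro ⟨x, rfl⟩
    exact ⟨_, ⟨x.1, rfl⟩, _, ⟨x.2, rfl⟩, Prod.orderOf x⟩
  · rintro ⟨_, ⟨a, rfl⟩, _, ⟨b, rfl⟩, rfl⟩
    exact ⟨(a, b), Prod.orderOf_mk⟩

theorem lcm_sets (p m₁ m₂ : ℕ) :
    {n | ∃ a ∈ ({n | n ∣ p} ∪ {n | n ∣ m₁} : Set ℕ), ∃ b ∈ ({n | n ∣ p} ∪ {n | n ∣ m₂} : Set ℕ),
        n = Nat.lcm a b} =
      {n | ∃ a ∈ ({n | n ∣ p ∨ n ∣ m₁ ∨ n ∣ m₂} : Set ℕ),
        ∃ b ∈ ({n | n ∣ p ∨ n ∣ m₁ ∨ n ∣ m₂} : Set ℕ), n = Nat.lcm a b} := by
  ext n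
  constructor
  · rintro ⟨a, ha, b, hb, rfl⟩
    refine ⟨a, ?_, b, ?_, rfl⟩
    · rcases ha with h | h
      · exact Or.inl h
      · exact Or.inr (Or.inl h)
    · rcases hb with h | h
      · exact Or.inl h
      · exact Or.inr (Or.inr h)
  · rintro ⟨a, ha, b, hb, rfl⟩
    rcases ha with ha | ha | ha <;> rcases hb with hb | hb | hb
    · exact ⟨a, Or.inl ha, b, Or.inl hb, rfl⟩
    · exact ⟨b, Or.inr hb, a, Or.inl ha, Nat.lcm_comm a b⟩
    · exact ⟨a, Or.inl ha, b, Or.inr hb, rfl⟩
    · exact ⟨a, Or.inr ha, b, Or.inl hb, rfl⟩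
    · exact ⟨Nat.lcm a b, Or.inr (Nat.lcm_dvd ha hb), 1, Or.inl (one_dvd p), by simp⟩
    · exact ⟨a, Or.inr ha, b, Or.inr hb, rfl⟩
    · exact ⟨b, Or.inl hb, a, Or.inr ha, Nat.lcm_comm a b⟩
    · exact ⟨b, Or.inr hb, a, Or.inr ha, Nat.lcm_comm a b⟩
    · exact ⟨1, Or.inl (one_dvd p), Nat.lcm a b, Or.inr (Nat.lcm_dvd ha hb), by simp⟩

/-- Let q ≥ 4 be a prime power and L = PSL(2,q). There is a finite solvable group with the same set of element orders as L × L (so L × L is not determined by its spectrum). -/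
theorem result {F : Type*} [Field F] [Fintype F] (hF : 4 ≤ Fintype.card F) :
    ∃ (H : Type) (_ : Group H) (_ : Finite H), Group.IsSolvable H ∧
      Set.range (orderOf : H → ℕ) = Set.range (orderOf : Matrix.ProjectiveSpecialLinearGroup (Fin 2) F × Matrix.ProjectiveSpecialLinearGroup (Fin 2) F → ℕ) := by
  obtain ⟨p, d, m₁, m₂, hP⟩ := exists_params (F := F)
  have := hP.char
  have : Fact p.Prime := ⟨hP.hp⟩
  obtain ⟨n, -, hn⟩ := FiniteField.card F p
  have hq2 : 2 ≤ Fintype.card F := Fintype.one_lt_card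
  have hc1 : Nat.card (GaloisField p n) = Fintype.card F := by
    rw [GaloisField.card p n n.ne_zero, hn]
  have hc2 : Nat.card (GaloisField p (2 * n)) = Fintype.card F ^ 2 := by
    rw [GaloisField.card p (2 * n) (by have := n.pos; omega), hn, ← pow_mul, mul_comm]
  obtain ⟨u₁, hu₁⟩ : ∃ u : (GaloisField p n)ˣ, orderOf u = m₁ := by
    apply exists_unit_orderOf
    rw [hc1, ← hP.h1]
    exact dvd_mul_left _ _
  obtain ⟨u₂, hu₂⟩ : ∃ u : (GaloisField p (2 * n))ˣ, orderOf u = m₂ := by
    apply exists_unit_orderOf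
    rw [hc2]
    have : Fintype.card F ^ 2 - 1 = (Fintype.card F - 1) * (Fintype.card F + 1) := by
      obtain ⟨r, hr⟩ : ∃ r, Fintype.card F = r + 1 := ⟨Fintype.card F - 1, by omega⟩
      rw [hr]
      have : (r + 1) ^ 2 = (r + 1 - 1) * (r + 1 + 1) + 1 := by
        simp only [Nat.add_sub_cancel]; ring
      rw [this]; simp
    rw [this, ← hP.h2]
    exact Dvd.dvd.mul_left (dvd_mul_left _ _) _
  have hs1 := HF_solvable u₁
  have hs2 := HF_solvable u₂
  refine ⟨HF u₁ × HF u₂, inferInstance, inferInstance, inferInstance, ?_⟩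
  rw [range_orderOf_prod, range_orderOf_prod, range_orderOf_HF p hP.hp u₁,
    range_orderOf_HF p hP.hp u₂, hu₁, hu₂, range_orderOf_PSL2 hP]
  exact lcm_sets p m₁ m₂

end Cfsg.Agent.S3532
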