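import Mathlib
import Cfsg.Statements.S2639
import Cfsg.Agent.Helper13.FqExt

set_option autoImplicit false
set_option linter.style.haveILetI false
open Cfsg

namespace Cfsg.Agent.S2639

open Matrix Cfsg.Agent.Helper13 Module

section

variable {K F : Type*} [Field K] [Fintype K] [Field F] [Fintype F] [Algebra F K] {q : ℕ}
  (hK : Fintype.card K = q ^ 2) (hF : Fintype.card F = q)

local notation "ι" => algebraMap F K

/-- the Hermitian form twisted by `lam` and traced down to `F`, as an `F`-bilinear form. -/
noncomputable def fV (m : ℕ) (lam : K) : LinearMap.BilinForm F (Fin m → K) :=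
  LinearMap.mk₂ F (fun u v => trF ι hK hF (lam * Cfsg.hermForm m K q u v))
    (by
      intro u u' v
      rw [← trF_add]
      congr 1
      simp only [Cfsg.hermForm, Pi.add_apply, add_mul, Finset.sum_add_distrib, mul_add])
    (by
      intro c u v
      rw [smul_eq_mul, ← trF_smul]
      congr 1
      simp only [Cfsg.hermForm, Pi.smul_apply, Algebra.smul_def, Finset.mul_sum]
      refine Finset.sum_congr rfl fun i _ => ?_
      ring)
    (by
      intro u v v'
      rw [← trF_add]
      congr 1
      simp only [Cfsg.hermForm, Pi.add_apply, add_pow_card_of_ringHom ι hF, mul_add,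
        Finset.sum_add_distrib])
    (by
      intro c u v
      rw [smul_eq_mul, ← trF_smul]
      congr 1
      simp only [Cfsg.hermForm, Pi.smul_apply, Algebra.smul_def, mul_pow, ringHom_pow_card ι hF,
        Finset.mul_sum]
      refine Finset.sum_congr rfl fun i _ => ?_
      ring)

theorem fV_apply (m : ℕ) (lam : K) (u v : Fin m → K) :
    fV hK hF m lam u v = trF ι hK hF (lam * Cfsg.hermForm m K q u v) := rfl

omit [Fintype K] [Fintype F] [Algebra F K] in
theorem hermForm_single (m : ℕ) (hq : q ≠ 0) (i j : Fin m) (a b : K) :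
    Cfsg.hermForm m K q (Pi.single i a) (Pi.single j b) = if i = j then a * b ^ q else 0 := by
  classical
  unfold Cfsg.hermForm
  rw [Finset.sum_eq_single i]
  · by_cases h : i = j
    · subst h; simp
    · simp [h, zero_pow hq]
  · intro l _ hl
    simp [Pi.single_apply, hl]
  · intro h
    exact absurd (Finset.mem_univ _) h

include hK hF in
theorem main (m : ℕ) :
    ∃ φ : ↥(Cfsg.GU m K q) →* ↥(Matrix.symplecticGroup (Fin m) F), Function.Injective φ := by
  classical
  have hq0 : q ≠ 0 := by rw [← hF]; exact Fintype.card_ne_zero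
  obtain ⟨θ, hθ⟩ := exists_not_mem_range ι hK hF
  set lam : K := θ - θ ^ q with hlam
  have hlamq : lam ^ q = -lam := by
    rw [hlam, sub_pow_card_of_ringHom ι hF, pow_card_sq hK]; ring
  have hlam0 : lam ≠ 0 := by
    intro h
    rw [hlam, sub_eq_zero] at h
    obtain ⟨x, hx⟩ := exists_of_pow_card_eq ι hF θ h.symm
    exact hθ x hx
  obtain ⟨δ, hδ⟩ : ∃ δ : F, ι δ = lam * lam :=
    exists_of_pow_card_eq ι hF _ (by rw [mul_pow, hlamq]; ring)
  have hδ0 : δ ≠ 0 := by
    rintro rfl
    rw [map_zero] at hδ
    exact hlam0 (mul_self_eq_zero.mp hδ.symm)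
  have hli : LinearIndependent F ![(1 : K), θ] := by
    rw [LinearIndependent.pair_iff]
    intro s t hst
    rw [Algebra.smul_def, Algebra.smul_def, mul_one] at hst
    have ht : t = 0 := by
      by_contra ht
      apply hθ (-s / t)
      have hιt : ι t ≠ 0 := (map_ne_zero _).mpr ht
      have h1 : ι t * θ = - ι s := by linear_combination hst
      rw [map_div₀, map_neg, ← h1]
      field_simp
    subst ht
    rw [map_zero, zero_mul, add_zero] at hst
    exact ⟨(map_eq_zero _).mp hst, rfl⟩
  have hfr : finrank F K = 2 := finrank_eq_two_of_card hK hF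
  let bK : Basis (Fin 2) F K := basisOfLinearIndependentOfCardEqFinrank hli (by simp [hfr])
  have hbK : ⇑bK = ![(1 : K), θ] := coe_basisOfLinearIndependentOfCardEqFinrank _ _
  let e : Fin 2 × Fin m ≃ Fin m ⊕ Fin m :=
    (Equiv.prodCongrLeft (fun _ => finTwoEquiv)).trans (Equiv.boolProdEquivSum (Fin m))
  let B : Basis (Fin m ⊕ Fin m) F (Fin m → K) :=
    (bK.smulTower (Pi.basisFun K (Fin m))).reindex e
  have hBl : ∀ i, B (Sum.inl i) = Pi.single i 1 := by
    intro i
    have h1 : e.symm (Sum.inl i) = (0, i) := by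
      rw [Equiv.symm_apply_eq]; rfl
    show (bK.smulTower (Pi.basisFun K (Fin m))).reindex e (Sum.inl i) = _
    rw [Basis.reindex_apply, h1, Basis.smulTower_apply, hbK]
    simp
  have hBr : ∀ i, B (Sum.inr i) = Pi.single i θ := by
    intro i
    have h1 : e.symm (Sum.inr i) = (1, i) := by
      rw [Equiv.symm_apply_eq]; rfl
    show (bK.smulTower (Pi.basisFun K (Fin m))).reindex e (Sum.inr i) = _
    rw [Basis.reindex_apply, h1, Basis.smulTower_apply, hbK]
    funext j
    by_cases h : j = i
    · subst h; simp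
    · simp [h]
  -- values of the trace
  have htr0 : trF ι hK hF (lam * ((1 : K) * (1 : K) ^ q)) = 0 := by
    apply trF_eq_zero_of_pow_eq_neg
    rw [one_pow, mul_one, mul_one, hlamq]
  have htr1 : trF ι hK hF (lam * ((1 : K) * θ ^ q)) = -δ := by
    apply (algebraMap F K).injective
    rw [ι_trF, map_neg, hδ, one_mul, mul_pow, hlamq, pow_card_sq hK, hlam]
    ring
  have htr2 : trF ι hK hF (lam * (θ * (1 : K) ^ q)) = δ := by
    apply (algebraMap F K).injective
    rw [ι_trF, hδ, one_pow, mul_one, mul_pow, hlamq, hlam]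
    ring
  have htr3 : trF ι hK hF (lam * (θ * θ ^ q)) = 0 := by
    apply trF_eq_zero_of_pow_eq_neg
    rw [mul_pow, mul_pow, hlamq, pow_card_sq hK]
    ring
  have hG : LinearMap.BilinForm.toMatrix B (fV hK hF m lam) = δ • Matrix.J (Fin m) F := by
    ext x y
    rw [LinearMap.BilinForm.toMatrix_apply, fV_apply, Matrix.smul_apply, smul_eq_mul]
    rcases x with i | i <;> rcases y with j | j
    · rw [hBl, hBl, hermForm_single m hq0]
      by_cases h : i = j
      · rw [if_pos h, htr0]; simp [Matrix.J]
      · rw [if_neg h, mul_zero]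
        have : trF ι hK hF (0 : K) = 0 := by
          apply trF_eq_zero_of_pow_eq_neg; rw [zero_pow hq0, neg_zero]
        rw [this]; simp [Matrix.J]
    · rw [hBl, hBr, hermForm_single m hq0]
      by_cases h : i = j
      · rw [if_pos h, htr1]; simp [Matrix.J, h]
      · rw [if_neg h, mul_zero]
        have : trF ι hK hF (0 : K) = 0 := by
          apply trF_eq_zero_of_pow_eq_neg; rw [zero_pow hq0, neg_zero]
        rw [this]; simp [Matrix.J, h]
    · rw [hBr, hBl, hermForm_single m hq0]
      by_cases h : i = j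
      · rw [if_pos h, htr2]; simp [Matrix.J, h]
      · rw [if_neg h, mul_zero]
        have : trF ι hK hF (0 : K) = 0 := by
          apply trF_eq_zero_of_pow_eq_neg; rw [zero_pow hq0, neg_zero]
        rw [this]; simp [Matrix.J, h]
    · rw [hBr, hBr, hermForm_single m hq0]
      by_cases h : i = j
      · rw [if_pos h, htr3]; simp [Matrix.J]
      · rw [if_neg h, mul_zero]
        have : trF ι hK hF (0 : K) = 0 := by
          apply trF_eq_zero_of_pow_eq_neg; rw [zero_pow hq0, neg_zero]
        rw [this]; simp [Matrix.J]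
  -- the F-linear maps
  let L : GL (Fin m) K → ((Fin m → K) →ₗ[F] (Fin m → K)) :=
    fun g => (Matrix.toLin' (g : Matrix (Fin m) (Fin m) K)).restrictScalars F
  have hLapp : ∀ g u, L g u = (g : Matrix (Fin m) (Fin m) K) *ᵥ u := fun g u => rfl
  let N : GL (Fin m) K → Matrix (Fin m ⊕ Fin m) (Fin m ⊕ Fin m) F :=
    fun g => LinearMap.toMatrix B B (L g)
  have hNone : N 1 = 1 := by
    have : L 1 = LinearMap.id := by
      apply LinearMap.ext
      intro u
      rw [hLapp]; simp
    show LinearMap.toMatrix B B (L 1) = 1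
    rw [this, LinearMap.toMatrix_id]
  have hNmul : ∀ g h, N (g * h) = N g * N h := by
    intro g h
    have : L (g * h) = (L g).comp (L h) := by
      apply LinearMap.ext
      intro u
      rw [LinearMap.comp_apply, hLapp, hLapp, hLapp, Units.val_mul, Matrix.mulVec_mulVec]
    show LinearMap.toMatrix B B (L (g * h)) = _
    rw [this, LinearMap.toMatrix_comp B B B]
  have hNmem : ∀ g ∈ Cfsg.GU m K q, N g ∈ Matrix.symplecticGroup (Fin m) F := by
    intro g hg
    have hpres : (fV hK hF m lam).comp (L g) (L g) = fV hK hF m lam := by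
      apply LinearMap.ext
      intro u
      apply LinearMap.ext
      intro v
      rw [LinearMap.BilinForm.comp_apply, fV_apply, fV_apply, hLapp, hLapp]
      congr 2
      exact hg u v
    have h1 := LinearMap.BilinForm.toMatrix_comp B B (fV hK hF m lam) (L g) (L g)
    rw [hpres, hG] at h1
    rw [SymplecticGroup.mem_iff']
    have h2 : δ • ((N g)ᵀ * Matrix.J (Fin m) F * N g) = δ • Matrix.J (Fin m) F := by
      rw [h1]
      simp only [Matrix.mul_smul, Matrix.smul_mul]
      rfl
    exact smul_right_injective _ hδ0 h2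
  let φ : ↥(Cfsg.GU m K q) →* ↥(Matrix.symplecticGroup (Fin m) F) :=
    { toFun := fun g => ⟨N g.1, hNmem g.1 g.2⟩
      map_one' := Subtype.ext hNone
      map_mul' := fun g h => Subtype.ext (hNmul g.1 h.1) }
  refine ⟨φ, ?_⟩
  intro g h hgh
  have h1 : N g.1 = N h.1 := congrArg Subtype.val hgh
  have h2 : L g.1 = L h.1 := (LinearMap.toMatrix B B).injective h1
  apply Subtype.ext
  apply Units.ext
  apply Matrix.mulVec_injective
  funext u
  have := congrArg (fun f => f u) h2
  simpa [hLapp] using this

end

theorem result {K F : Type*} [Field K] [Fintype K] [Field F] [Fintype F] {q : ℕ} (hK : Fintype.card K = q ^ 2) (hF : Fintype.card F = q) (m : ℕ) : ∃ φ : ↥(Cfsg.GU m K q) →* ↥(Matrix.symplecticGroup (Fin m) F), Function.Injective φ := by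
  obtain ⟨ι₀⟩ := exists_ringHom_of_card_sq hK hF
  letI : Algebra F K := ι₀.toAlgebra
  exact main hK hF m

end Cfsg.Agent.S2639
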