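import Cfsg.Statements.S0992
import Cfsg.Agent.Helper11.Transfer

set_option autoImplicit false
open Cfsg

namespace Cfsg.Agent.S0992

open Cfsg.Agent.Helper11

theorem result {G : Type*} [Group G] [Finite G] [IsSimpleGroup G] (hG : ¬ IsMulCommutative G) (h2 : Even (Nat.card G)) (h8 : ¬ 8 ∣ Nat.card G) (T : Sylow 2 G) : IsKleinFour ↥(T : Subgroup G) ∧ (Subgroup.centralizer ((T : Subgroup G) : Set G)).relIndex (Subgroup.normalizer ((T : Subgroup G) : Set G)) = 3 := by
  classical
  have hdvd : 2 ∣ Nat.card G := h2.two_dvd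
  have hNC := simple_not_normalizer_le_centralizer hG 2 T hdvd
  have hncyc : ¬ IsCyclic ↥(T : Subgroup G) := by
    intro hc
    exact hNC (IsCyclic.normalizer_le_centralizer ((Nat.minFac_eq_two_iff _).mpr hdvd) hc)
  obtain ⟨k, hk⟩ := T.2.exists_card_eq
  have hk2 : k ≤ 2 := by
    by_contra hcon
    push Not at hcon
    apply h8
    have h1 : (2 : ℕ) ^ 3 ∣ 2 ^ k := pow_dvd_pow 2 hcon
    have h3 : Nat.card ↥(T : Subgroup G) ∣ Nat.card G := Subgroup.card_subgroup_dvd_card _
    rw [hk] at h3
    exact h1.trans h3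
  have hk' : k = 2 := by
    interval_cases k
    · exfalso; apply hncyc
      have : Subsingleton ↥(T : Subgroup G) := (Nat.card_eq_one_iff_unique.mp (by simpa using hk)).1
      exact isCyclic_of_subsingleton
    · exfalso; apply hncyc
      haveI : Fact (Nat.Prime 2) := ⟨Nat.prime_two⟩
      exact isCyclic_of_prime_card (p := 2) (by simpa using hk)
    · rfl
  subst hk'
  have hcard4 : Nat.card ↥(T : Subgroup G) = 4 := by simpa using hk
  have hK : IsKleinFour ↥(T : Subgroup G) := by
    refine ⟨hcard4, ?_⟩
    have hpow : ∀ t : ↥(T : Subgroup G), t ^ 2 = 1 := by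
      intro t
      have h1 : orderOf t ∣ 4 := hcard4 ▸ orderOf_dvd_natCard t
      have h2 : orderOf t ≠ 4 := by
        intro h
        exact hncyc (isCyclic_of_orderOf_eq_card t (by rw [h, hcard4]))
      have h3 : orderOf t ∣ 2 := by
        have : orderOf t ∈ Nat.divisors 4 := Nat.mem_divisors.mpr ⟨h1, by norm_num⟩
        have h4 : Nat.divisors 4 = {1, 2, 4} := by decide
        rw [h4] at this
        simp only [Finset.mem_insert, Finset.mem_singleton] at this
        rcases this with h | h | h
        · rw [h]; norm_num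
        · rw [h]
        · exact absurd h h2
      exact orderOf_dvd_iff_pow_eq_one.mp h3
    have h1 : Monoid.exponent ↥(T : Subgroup G) ∣ 2 := Monoid.exponent_dvd_of_forall_pow_eq_one hpow
    rcases (Nat.dvd_prime Nat.prime_two).mp h1 with h | h
    · exfalso
      have : Subsingleton ↥(T : Subgroup G) := Monoid.exp_eq_one_iff.mp h
      have := Nat.card_eq_one_iff_unique.mpr ⟨this, ⟨1⟩⟩
      omega
    · exact h
  refine ⟨hK, ?_⟩
  set r := (Subgroup.centralizer ((T : Subgroup G) : Set G)).relIndex (Subgroup.normalizer ((T : Subgroup G) : Set G)) with hr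
  have hr6 : r ∣ 6 := by
    have h1 := relIndex_centralizer_normalizer_dvd_card_mulAut (T : Subgroup G)
    have h3 := card_mulAut_dvd_factorial ↥(T : Subgroup G)
    rw [hcard4] at h3
    exact h1.trans h3
  have hr1 : r ≠ 1 := by
    intro h
    exact hNC (Subgroup.relIndex_eq_one.mp h)
  have hrodd : ¬ 2 ∣ r := by
    intro h
    haveI := hK.isMulCommutative
    have hTC : (T : Subgroup G) ≤ Subgroup.centralizer ((T : Subgroup G) : Set G) := Subgroup.le_centralizer _
    have h1 : r ∣ (T : Subgroup G).relIndex (Subgroup.normalizer ((T : Subgroup G) : Set G)) :=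
      Subgroup.relIndex_dvd_of_le_left _ hTC
    have h3 : (T : Subgroup G).relIndex (Subgroup.normalizer ((T : Subgroup G) : Set G)) ∣ (T : Subgroup G).index :=
      Subgroup.relIndex_dvd_index_of_le Subgroup.le_normalizer
    exact T.not_dvd_index (h.trans (h1.trans h3))
  have : r ∈ Nat.divisors 6 := Nat.mem_divisors.mpr ⟨hr6, by norm_num⟩
  have h4 : Nat.divisors 6 = {1, 2, 3, 6} := by decide
  rw [h4] at this
  simp only [Finset.mem_insert, Finset.mem_singleton] at this
  rcases this with h | h | h | h
  · exact absurd h hr1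
  · exfalso; apply hrodd; rw [h]
  · exact h
  · exfalso; apply hrodd; rw [h]; norm_num

end Cfsg.Agent.S0992
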