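import Mathlib
import Cfsg.Statements.S0910
import Cfsg.Agent.Helper5.BlockBasic
import Cfsg.Agent.Helper24.Burnside
import Cfsg.Agent.Helper24.CharBasic

set_option autoImplicit false
open Cfsg

namespace Cfsg.Agent.S0910

open Cfsg.Agent.Helper5.CC Cfsg.Agent.Helper5.Loc Cfsg.Agent.Helper24

/-- Let G be a non-abelian finite simple group and p a prime. If an irreducible character χ lies in the principal block (relative to a maximal ideal of the algebraic integers containing p) and χ 1 is a power of p, then χ is the principal character. -/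
theorem result {G : Type*} [Group G] [Finite G] (p : ℕ) [Fact p.Prime] (M : Ideal Cfsg.AlgInt) (hM : Cfsg.IsPModular p M) [IsSimpleGroup G] (hna : ∃ a b : G, a * b ≠ b * a) (χ : Cfsg.IrrCharacter G) (hχ : χ ∈ Cfsg.principalBlock M G) (k : ℕ) (hdeg : (χ : G → ℂ) 1 = (p : ℂ) ^ k) : (χ : G → ℂ) = fun _ => 1 := by
  classical
  have hMp := isPrime_of_isPModular hM
  have hp : p.Prime := Fact.out
  have hnc : ¬ ∀ a b : G, a * b = b * a := by
    obtain ⟨a, b, hab⟩ := hna
    intro h
    exact hab (h a b)
  -- an element `g ≠ 1` whose class size is prime to `p`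
  obtain ⟨P⟩ : Nonempty (Sylow p G) := inferInstance
  obtain ⟨g, hg1, hPg⟩ : ∃ g : G, g ≠ 1 ∧ (P : Subgroup G) ≤ Subgroup.centralizer ({g} : Set G) := by
    by_cases hPtriv : Nontrivial (P : Subgroup G)
    · have hc := IsPGroup.center_nontrivial P.2
      obtain ⟨z, hz⟩ := exists_ne (1 : Subgroup.center (P : Subgroup G))
      refine ⟨((z : (P : Subgroup G)) : G), ?_, ?_⟩
      · intro h
        apply hz
        apply Subtype.ext
        apply Subtype.ext
        exact h
      · intro x hx
        rw [Subgroup.mem_centralizer_iff]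
        intro y hy
        rw [Set.mem_singleton_iff] at hy
        rw [hy]
        have := Subgroup.mem_center_iff.mp z.2 ⟨x, hx⟩
        have h2 := congrArg (fun t : (P : Subgroup G) => (t : G)) this
        simp only [Subgroup.coe_mul] at h2
        exact h2.symm
    · rw [not_nontrivial_iff_subsingleton] at hPtriv
      obtain ⟨g, hg⟩ := exists_ne (1 : G)
      refine ⟨g, hg, ?_⟩
      intro x hx
      have : (⟨x, hx⟩ : (P : Subgroup G)) = 1 := Subsingleton.elim _ _
      have hx1 : x = 1 := congrArg Subtype.val this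
      rw [hx1]
      exact Subgroup.one_mem _
  set idx := (Subgroup.centralizer ({g} : Set G)).index with hidx
  have hpidx : ¬ p ∣ idx := by
    intro hdvd
    exact P.not_dvd_index (dvd_trans hdvd (Subgroup.index_dvd_of_le hPg))
  obtain ⟨n, ρ, hirr, hρχ⟩ := χ.2
  have := hirr
  have hd : (Module.finrank ℂ (Fin n → ℂ) : ℂ) = (p : ℂ) ^ k := by
    rw [← hdeg, ← hρχ, Representation.char_one]
  have hdn : Module.finrank ℂ (Fin n → ℂ) = p ^ k := by exact_mod_cast hd
  have hcop : Nat.Coprime (Module.finrank ℂ (Fin n → ℂ)) idx := by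
    rw [hdn]
    apply Nat.Coprime.pow_left
    exact (Nat.Prime.coprime_iff_not_dvd hp).mpr hpidx
  rcases char_eq_zero_or_norm_eq_of_coprime ρ g hcop with h0 | hnorm
  · -- then the central characters of `1` and `χ` at `g` are not congruent
    exfalso
    have hsame : SameBlock M (fun _ : G => (1 : ℂ)) (χ : G → ℂ) := hχ
    have h1 := hsame g
    rw [centralChar_def, centralChar_def, ← hρχ, h0] at h1
    simp only [mul_one, div_one, mul_zero, zero_div, sub_zero] at h1
    exact hpidx ((memLocalIdeal_natCast_iff hM idx).mp h1)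
  · obtain ⟨ω, hω⟩ := (norm_char_eq_iff ρ g).mp hnorm
    rw [← hρχ]
    exact char_eq_one_of_scalar hnc ρ g hg1 ω hω

end Cfsg.Agent.S0910
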