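import Cfsg.Statements.S0904
import Cfsg.Agent.Helper5.BT

set_option autoImplicit false
open Cfsg

namespace Cfsg.Agent.S0904

/-- Let G be a finite simple group of order p ^ a * q ^ b * r with p, q, r distinct primes. Then every Sylow r-subgroup S of G satisfies C_G(S) = S. -/
theorem result {G : Type*} [Group G] [Finite G] [IsSimpleGroup G] (p q r a b : ℕ) (hp : p.Prime) (hq : q.Prime) [Fact r.Prime] (hpq : p ≠ q) (hpr : p ≠ r) (hqr : q ≠ r) (hcard : Nat.card G = p ^ a * q ^ b * r) (S : Sylow r G) : Subgroup.centralizer (S : Set G) = (S : Subgroup G) := by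
  classical
  have hr : r.Prime := Fact.out
  have hfac : (Nat.card G).factorization r = 1 := by
    rw [hcard, Nat.factorization_mul (mul_ne_zero (pow_ne_zero _ hp.ne_zero)
        (pow_ne_zero _ hq.ne_zero)) hr.ne_zero,
      Nat.factorization_mul (pow_ne_zero _ hp.ne_zero) (pow_ne_zero _ hq.ne_zero)]
    simp only [Finsupp.coe_add, Pi.add_apply, Nat.factorization_pow, Finsupp.smul_apply,
      smul_eq_mul]
    rw [Nat.factorization_eq_zero_of_not_dvd (fun h => hpr ((Nat.prime_dvd_prime_iff_eq hr hp).mp h).symm),
      Nat.factorization_eq_zero_of_not_dvd (fun h => hqr ((Nat.prime_dvd_prime_iff_eq hr hq).mp h).symm),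
      hr.factorization_self]
    simp
  have hS : Nat.card (S : Subgroup G) = r := by
    rw [Sylow.card_eq_multiplicity, hfac, pow_one]
  have hnt : Nontrivial (S : Subgroup G) := by
    rw [← Finite.one_lt_card_iff_nontrivial, hS]
    exact hr.one_lt
  obtain ⟨x, hx1⟩ := exists_ne (1 : (S : Subgroup G))
  have hxo : orderOf (x : G) = r := by
    rw [Subgroup.orderOf_coe]
    have hdvd : orderOf x ∣ Nat.card (S : Subgroup G) := orderOf_dvd_natCard x
    rw [hS] at hdvd
    rcases (Nat.dvd_prime hr).mp hdvd with h | h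
    · exact absurd (orderOf_eq_one_iff.mp h) hx1
    · exact h
  have hSz : (S : Subgroup G) = Subgroup.zpowers (x : G) := by
    symm
    apply Subgroup.eq_of_le_of_card_ge
    · rw [Subgroup.zpowers_le]; exact x.2
    · rw [hS, Nat.card_zpowers, hxo]
  have hmain := Cfsg.Agent.Helper5.BT.centralizer_eq_zpowers p q r a b hp hq hr hpr hqr hcard
    (x : G) hxo
  have hcent : Subgroup.centralizer (S : Set G) = Subgroup.centralizer ({(x : G)} : Set G) := by
    ext g
    rw [Subgroup.mem_centralizer_iff, Subgroup.mem_centralizer_iff]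
    constructor
    · intro h y hy
      rw [Set.mem_singleton_iff] at hy
      rw [hy]
      exact h _ x.2
    · intro h y hy
      have hy' : y ∈ (S : Subgroup G) := hy
      rw [hSz] at hy'
      obtain ⟨k, rfl⟩ := Subgroup.mem_zpowers_iff.mp hy'
      have hc : Commute (x : G) g := h _ rfl
      exact (hc.zpow_left k)
  rw [hcent, hmain, ← hSz]

end Cfsg.Agent.S0904
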