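import Cfsg.Statements.S4705
import Cfsg.Agent.Helper24.Codegree
import Cfsg.Agent.Helper24.MinNormalLinear
import Cfsg.Agent.Helper8.W2pT1
import Cfsg.Agent.Lead.AISPL
import Cfsg.Agent.Lead.AICEN
import Cfsg.Agent.Lead.AISLPSL
import Cfsg.Agent.Lead.S4705LIN
import Cfsg.Agent.Helper20.S4705BLK
import Cfsg.Agent.Helper27.S4705PSI
import Cfsg.Agent.Helper27.S4705BD2
import Cfsg.Agent.Helper20.S4705ORD
import Cfsg.Agent.Helper14.S4705INVH
import Cfsg.Agent.Helper5.S4705IDH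
import Cfsg.Agent.Helper14.S4705QUO
import Cfsg.Agent.Helper25.S4705ENDA
import Cfsg.Agent.Helper25.S4705ENDB
import Cfsg.Agent.Helper27.S4705ENDC

set_option autoImplicit false
set_option maxHeartbeats 1000000
open Cfsg

namespace Cfsg.Agent.Lead.S4705Main

open Cfsg Cfsg.Agent.Helper24

universe u

/-- conjugate elements have centralizers of the same order -/
theorem card_centralizer_of_isConj {H : Type u} [Group H] {s t : H} (h : IsConj t s) :
    Nat.card (Subgroup.centralizer ({s} : Set H)) = Nat.card (Subgroup.centralizer ({t} : Set H)) := by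
  obtain ⟨g, hg⟩ := isConj_iff.mp h
  have hmap : Subgroup.centralizer ({s} : Set H) =
      (Subgroup.centralizer ({t} : Set H)).map (MulAut.conj g).toMonoidHom := by
    ext y
    simp only [Subgroup.mem_centralizer_iff, Set.mem_singleton_iff, forall_eq, Subgroup.mem_map,
      MulEquiv.coe_toMonoidHom, MulAut.conj_apply]
    constructor
    · intro hy
      refine ⟨g⁻¹ * y * g, ?_, by group⟩
      rw [← hg] at hy
      have h1 : g⁻¹ * (g * t * g⁻¹ * y) * g = g⁻¹ * (y * (g * t * g⁻¹)) * g := by rw [hy]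
      calc t * (g⁻¹ * y * g) = g⁻¹ * (g * t * g⁻¹ * y) * g := by group
        _ = g⁻¹ * (y * (g * t * g⁻¹)) * g := h1
        _ = g⁻¹ * y * g * t := by group
    · rintro ⟨w, hw, rfl⟩
      rw [← hg]
      calc g * t * g⁻¹ * (g * w * g⁻¹) = g * (t * w) * g⁻¹ := by group
        _ = g * (w * t) * g⁻¹ := by rw [hw]
        _ = g * w * g⁻¹ * (g * t * g⁻¹) := by group
  rw [hmap]
  exact Nat.card_congr
    ((Subgroup.centralizer ({t} : Set H)).equivMapOfInjective _ (MulAut.conj g).injective).symm.toEquiv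

end Cfsg.Agent.Lead.S4705Main

namespace Cfsg.Agent.S4705

open Cfsg Cfsg.Agent.Helper24 Cfsg.Agent.Helper1.W2p Cfsg.Agent.S4705P
open scoped ComplexConjugate

theorem result {G : Type*} [Group G] [Finite G] (p : ℕ) [Fact p.Prime] (hp : 5 < p) (P : Sylow p G) (hP : Nat.card P = p) (hnn : ¬ (P : Subgroup G).Normal) (ζ : G → ℂ) (hζ : Cfsg.IsIrrCharacter G ζ) (hfaith : ∀ g : G, ζ g = ζ 1 → g = 1) (hdeg : Cfsg.charDegree ζ = p - 2) : ∃ (a : ℕ) (F : Type) (_ : Field F) (_ : Fintype F), p = 2 ^ a + 1 ∧ Fintype.card F = 2 ^ a ∧ Nonempty (G ≃* Matrix.SpecialLinearGroup (Fin 2) F × Subgroup.center G) := by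
  classical
  have hpp : p.Prime := Fact.out
  have hp2 : p ≠ 2 := by omega
  set ζI : IrrCharacter G := ⟨ζ, hζ⟩ with hζI
  have hdeg' : irrDeg ζI = p - 2 := by rw [← charDegree_irr]; exact hdeg
  have hfaith' : ∀ g : G, (ζI : G → ℂ) g = (ζI : G → ℂ) 1 → g = 1 := hfaith
  obtain ⟨hC, hN, ⟨D⟩⟩ := reduction p hp P hP hnn ζI hfaith' hdeg'
  have hlin := chi_b_linear p hp P hP hnn ζI hfaith' hdeg' hC hN D
  obtain ⟨ψ, hψ, hψf⟩ := exists_quot_char ζI D.χb hlin D.over_b hfaith'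
  obtain ⟨Q, -, hQcard, hQC, hQe, -⟩ := quotient_facts p hp2 P hP hnn hC hN
  obtain ⟨DB⟩ := Cfsg.Agent.Helper8.W2p.exists_brauerData p hp2 Q hQcard hQC
  have hν1 : (D.χb : G → ℂ) 1 = 1 := by rw [irrDeg_spec, hlin]; norm_num
  have hψdeg : irrDeg ψ = p - 2 := by
    have h1 := hψ 1
    rw [QuotientGroup.mk_one, irrDeg_spec, hν1, map_one, mul_one, irrDeg_spec, hdeg'] at h1
    exact_mod_cast h1
  obtain ⟨hψY, χ₁, hχ₁X, hχ₁1, hχ₁deg, hδ, -, hXall, hrelψ⟩ :=
    brauer_two p hp Q hQcard hQe DB ψ hψdeg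
  obtain ⟨hcard, h01, hcnt⟩ :=
    card_eq_of_faithful p (by omega) Q hQcard hQC hQe DB χ₁ hχ₁X hχ₁deg ψ hψY hψf
  obtain ⟨t, ht, htN, htinv⟩ := exists_involution_normalizer p hp2 Q hQcard hQC hQe
  obtain ⟨χ', b, hχ'X, hχ'1, hχ't, hid, hneg, -⟩ :=
    brauer_identity p (by omega) Q hQcard hQC hQe DB t ht htN
  have hχ' : χ' = χ₁ := (hXall χ' hχ'X).resolve_left hχ'1
  subst hχ'
  obtain ⟨a, ha1, hap, hab⟩ := hneg hδ
  have hp1 : 1 ≤ p := hpp.one_lt.le
  have ha : a = 1 := by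
    rw [hχ₁deg] at hap
    have h1 : p - 1 + 1 = p := by omega
    rw [h1] at hap
    have h2 : a * p = 1 * p := by rw [one_mul]; exact hap.symm
    exact Nat.eq_of_mul_eq_mul_right (by omega) h2
  have hb0 : b = 0 := by
    rw [ha] at hab
    have : |b| ≤ 0 := by simpa using hab
    exact abs_eq_zero.mp (le_antisymm this (abs_nonneg b))
  set m : ℕ := Nat.card (Subgroup.centralizer ({t} : Set (G ⧸ Subgroup.center G))) with hmdef
  have hm : m = p - 1 := by
    rw [hb0, hδ, hχ₁deg, hcard] at hid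
    have hq : (((p - 1 : ℕ) : ℤ)) = (p : ℤ) - 1 := by rw [Nat.cast_sub hp1]; norm_num
    have hq2 : (((p - 2 : ℕ) : ℤ)) = (p : ℤ) - 2 := by rw [Nat.cast_sub (by omega)]; norm_num
    push_cast at hid
    rw [hq, hq2] at hid
    have hpZ : (p : ℤ) ≠ 0 := by exact_mod_cast hpp.ne_zero
    have hp1Z : (p : ℤ) - 1 ≠ 0 := by
      have : (5 : ℤ) < p := by exact_mod_cast hp
      omega
    have hp2Z : (p : ℤ) - 2 ≠ 0 := by
      have : (5 : ℤ) < p := by exact_mod_cast hp
      omega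
    have h1 : (p : ℤ) * ((p : ℤ) - 1) * ((p : ℤ) - 2) * ((m : ℤ) ^ 2) =
        (p : ℤ) * ((p : ℤ) - 1) * ((p : ℤ) - 2) * (((p : ℤ) - 1) ^ 2) := by
      linear_combination hid
    have h2 : (m : ℤ) ^ 2 = ((p : ℤ) - 1) ^ 2 :=
      mul_left_cancel₀ (mul_ne_zero (mul_ne_zero hpZ hp1Z) hp2Z) h1
    have h3 : (m : ℤ) = (p : ℤ) - 1 := by
      have hm0 : (0 : ℤ) ≤ (m : ℤ) := Int.natCast_nonneg m
      have hpp0 : (0 : ℤ) ≤ (p : ℤ) - 1 := by
        have : (5 : ℤ) < p := by exact_mod_cast hp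
        omega
      exact (pow_left_inj₀ hm0 hpp0 (by norm_num)).mp h2
    have h4 : (m : ℤ) = ((p - 1 : ℕ) : ℤ) := by rw [hq]; exact h3
    exact_mod_cast h4
  have htreg : ¬ p ∣ orderOf t := by
    rw [ht]; intro hd
    have := Nat.le_of_dvd (by norm_num) hd
    omega
  have hψt : (ψ : G ⧸ Subgroup.center G → ℂ) t = -1 := by
    rw [hrelψ t htreg, hχ't, hb0]; norm_num
  obtain ⟨hinvol, hconj⟩ := involution_class p hp ψ hψdeg hcard h01 hcnt t ht hψt hm
  have hCs : ∀ s : G ⧸ Subgroup.center G, orderOf s = 2 →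
      Nat.card (Subgroup.centralizer ({s} : Set (G ⧸ Subgroup.center G))) = p - 1 := by
    intro s hs
    rw [Cfsg.Agent.Lead.S4705Main.card_centralizer_of_isConj (hconj s hs)]
    exact hm
  obtain ⟨⟨a2, hpa⟩, -⟩ := centralizer_elementary p hp ψ hψdeg h01 hinvol t ht hm
  have hex : ∀ s : G ⧸ Subgroup.center G, orderOf s = 2 →
      Nat.card (Subgroup.centralizer ({s} : Set (G ⧸ Subgroup.center G))) = p - 1 ∧
      ∀ c ∈ Subgroup.centralizer ({s} : Set (G ⧸ Subgroup.center G)), c ^ 2 = 1 :=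
    fun s hs => ⟨hCs s hs, (centralizer_elementary p hp ψ hψdeg h01 hinvol s hs (hCs s hs)).2⟩
  obtain ⟨F, instF, instFF, hF, ⟨e⟩⟩ :=
    iso_of_involution_centralizers p hp Q hQcard hcard a2 hpa hex t ht htinv
  refine ⟨a2, F, instF, instFF, by omega, hF, ?_⟩
  -- splitting
  have hF4 : 4 ≤ Fintype.card F := by rw [hF, ← hpa]; omega
  have hperfS : commutator (Matrix.SpecialLinearGroup (Fin 2) F) = ⊤ :=
    Cfsg.Agent.Lead.AI.sl2_commutator_eq_top hF4
  have hperfQ : commutator (G ⧸ Subgroup.center G) = ⊤ := by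
    have h1 : (commutator (G ⧸ Subgroup.center G)).map e.toMonoidHom =
        commutator (Matrix.SpecialLinearGroup (Fin 2) F) := by
      rw [commutator_def, Subgroup.map_commutator, Subgroup.map_top_of_surjective _ e.surjective,
        ← commutator_def]
    rw [hperfS] at h1
    rw [eq_top_iff]
    intro x _
    have hx : e.toMonoidHom x ∈ (commutator (G ⧸ Subgroup.center G)).map e.toMonoidHom := by
      rw [h1]; exact Subgroup.mem_top _
    obtain ⟨y, hy, hyx⟩ := hx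
    have : y = x := e.injective hyx
    rw [← this]; exact hy
  have h1 := Cfsg.Agent.Lead.AI.commutator_sup_eq_top (Subgroup.center G) hperfQ
  have h2 : commutator G ⊓ Subgroup.center G = ⊥ := by
    rw [Subgroup.eq_bot_iff_forall]
    intro z hz
    obtain ⟨hz1, hz2⟩ := Subgroup.mem_inf.mp hz
    let νH : G →* ℂˣ := linHom ⟨D.χb, by rw [charDegree_irr]; exact hlin⟩
    have h3 : νH z = 1 := MonoidHom.mem_ker.mp (Abelianization.commutator_subset_ker νH hz1)
    have h4 : (D.χb : G → ℂ) z = 1 := by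
      have := linHom_apply ⟨D.χb, by rw [charDegree_irr]; exact hlin⟩ z
      rw [← this]
      show ((νH z : ℂˣ) : ℂ) = 1
      rw [h3]; rfl
    have h5 := D.over_b z hz2
    rw [h4, hν1, one_mul, mul_one] at h5
    exact hfaith' z h5.symm
  obtain ⟨e2⟩ := Cfsg.Agent.Lead.AI.nonempty_mulEquiv_prod (Subgroup.center G) le_rfl h1 h2
  exact ⟨e2.trans (MulEquiv.prodCongr e (MulEquiv.refl _))⟩

end Cfsg.Agent.S4705
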