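import Mathlib
import Cfsg.Statements.S0520
import Cfsg.Agent.Helper3.FourConn
import Cfsg.Agent.Helper7.Basic

set_option autoImplicit false
set_option linter.style.haveILetI false
open Cfsg

namespace Cfsg.Agent.S0520

open scoped Pointwise
open Cfsg.Agent.Helper3

variable {G : Type*} [Group G]

/-- the two-generated core -/
def Gam (S : Subgroup G) : Subgroup G :=
  ⨆ Q : {Q : Subgroup G // Q ≤ S ∧ ¬ Cfsg.PRankLE 2 1 Q},
    Subgroup.normalizer ((Q : Subgroup G) : Set G)

theorem normalizer_le_Gam {S Q U : Subgroup G} (hQS : Q ≤ S) (hUQ : U ≤ Q) (hU : K4 U) :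
    Subgroup.normalizer (Q : Set G) ≤ Gam S :=
  le_iSup (fun Q : {Q : Subgroup G // Q ≤ S ∧ ¬ Cfsg.PRankLE 2 1 Q} =>
    Subgroup.normalizer ((Q : Subgroup G) : Set G)) ⟨Q, hQS, not_pRankLE_of_K4 hUQ hU⟩

theorem conj_smul_mono (g : G) {A B : Subgroup G} (h : A ≤ B) :
    MulAut.conj g • A ≤ MulAut.conj g • B := by
  intro x hx
  rw [mem_conj_smul_iff] at hx ⊢
  exact h hx

theorem conj_mul_smul (g h : G) (A : Subgroup G) :
    MulAut.conj (g * h) • A = MulAut.conj g • MulAut.conj h • A := by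
  rw [map_mul, mul_smul]

theorem conj_one_smul (A : Subgroup G) : MulAut.conj (1 : G) • A = A := by
  rw [map_one, one_smul]

theorem conj_inv_smul_conj (g : G) (A : Subgroup G) :
    MulAut.conj g⁻¹ • MulAut.conj g • A = A := by
  rw [← conj_mul_smul, inv_mul_cancel, conj_one_smul]

theorem conj_smul_conj_inv (g : G) (A : Subgroup G) :
    MulAut.conj g • MulAut.conj g⁻¹ • A = A := by
  rw [← conj_mul_smul, mul_inv_cancel, conj_one_smul]

theorem le_conj_smul_iff (g : G) (A B : Subgroup G) :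
    A ≤ MulAut.conj g • B ↔ MulAut.conj g⁻¹ • A ≤ B := by
  constructor
  · intro h
    have := conj_smul_mono g⁻¹ h
    rwa [conj_inv_smul_conj] at this
  · intro h
    have := conj_smul_mono g h
    rwa [conj_smul_conj_inv] at this

variable [Finite G]

/-- G2 -/
theorem conj_mem_Gam {S Q U : Subgroup G} {x n : G} (hQ : Q ≤ MulAut.conj x • S)
    (hUQ : U ≤ Q) (hU : K4 U) (hn : n ∈ Subgroup.normalizer (Q : Set G)) :
    x⁻¹ * n * x ∈ Gam S := by
  have h1 : MulAut.conj x⁻¹ • Q ≤ S := (le_conj_smul_iff x Q S).mp hQ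
  have h2 : MulAut.conj x⁻¹ • U ≤ MulAut.conj x⁻¹ • Q := conj_smul_mono _ hUQ
  apply normalizer_le_Gam h1 h2 (K4_conj hU _)
  rw [← conj_smul_eq_iff_mem_normalizer, ← conj_mul_smul]
  have : x⁻¹ * n * x * x⁻¹ = x⁻¹ * n := by group
  rw [this, conj_mul_smul]
  rw [(conj_smul_eq_iff_mem_normalizer n Q).mpr hn]

/-- Sylow: 2-subgroups are contained in a conjugate of `S`. -/
theorem exists_le_conj (S : Sylow 2 G) {Y : Subgroup G} (hY : IsPGroup 2 Y) :
    ∃ w : G, Y ≤ MulAut.conj w • (S : Subgroup G) := by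
  haveI : Fact (Nat.Prime 2) := ⟨Nat.prime_two⟩
  obtain ⟨h, -, hh⟩ := Cfsg.Agent.Helper7.exists_conj_mem_sylow_of_le S
    (H := ⊤) (Y := Y) le_top le_top hY
  refine ⟨h⁻¹, ?_⟩
  intro y hy
  rw [mem_conj_smul_iff, inv_inv]
  exact hh y hy

theorem pRankLE_top_imp (h : Cfsg.PRankLE 2 1 (⊤ : Subgroup G)) : Cfsg.PRankLE 2 1 G := by
  intro A hA hA2
  have h1 := h (A.subgroupOf ⊤)
    ⟨⟨fun a b => by
      have := congrArg Subtype.val (hA.is_comm.comm ⟨a.1.1, a.2⟩ ⟨b.1.1, b.2⟩)
      exact Subtype.ext (Subtype.ext this)⟩⟩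
    (fun a ha => by
      apply Subtype.ext
      exact hA2 a.1 ha)
  rwa [Nat.card_congr (Subgroup.subgroupOfEquivOfLe (le_top : A ≤ ⊤)).toEquiv] at h1

theorem exists_K4_le_sylow (h2 : ¬ Cfsg.PRankLE 2 1 G) (S : Sylow 2 G) :
    ∃ U : Subgroup G, U ≤ (S : Subgroup G) ∧ K4 U := by
  have h : ¬ Cfsg.PRankLE 2 1 (⊤ : Subgroup G) := fun h => h2 (pRankLE_top_imp h)
  obtain ⟨U, -, hU⟩ := exists_K4_of_not_pRankLE _ h
  obtain ⟨w, hw⟩ := exists_le_conj S hU.isPGroup
  exact ⟨MulAut.conj w⁻¹ • U, (le_conj_smul_iff w U S).mp hw, K4_conj hU _⟩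

/-- Part B : if the core is everything then `G` is four-connected. -/
theorem connected_of_Gam_eq_top (S : Sylow 2 G) (hS : Cfsg.IsFourConnected (S : Subgroup G))
    {U0 : Subgroup G} (hU0S : U0 ≤ (S : Subgroup G)) (hU0 : K4 U0)
    (hG : Gam (S : Subgroup G) = ⊤) : Cfsg.IsFourConnected G := by
  have key : ∀ g : G, fourConn (MulAut.conj g • U0) U0 := by
    intro g
    have hg : g ∈ Gam (S : Subgroup G) := by rw [hG]; trivial
    unfold Gam at hg
    refine Subgroup.iSup_induction _ (C := fun g => fourConn (MulAut.conj g • U0) U0) hg ?_ ?_ ?_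
    · rintro ⟨Q, hQS, hQ⟩ g hg
      obtain ⟨U, hUQ, hU⟩ := exists_K4_of_not_pRankLE Q hQ
      have hgQ : MulAut.conj g • Q = Q := (conj_smul_eq_iff_mem_normalizer g Q).mpr hg
      have h1 : MulAut.conj g • U ≤ (S : Subgroup G) := by
        refine le_trans (conj_smul_mono g hUQ) ?_
        rw [hgQ]; exact hQS
      have h2 : fourConn (MulAut.conj g • U) U0 := fourConn_of_le hS (K4_conj hU g) hU0 h1 hU0S
      have h3 : fourConn U0 U := fourConn_of_le hS hU0 hU hU0S (hUQ.trans hQS)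
      exact Relation.ReflTransGen.trans (fourConn_conj h3 g) h2
    · show fourConn (MulAut.conj (1 : G) • U0) U0
      rw [conj_one_smul]
      exact Relation.ReflTransGen.refl
    · intro x y hx hy
      show fourConn (MulAut.conj (x * y) • U0) U0
      rw [conj_mul_smul]
      exact Relation.ReflTransGen.trans (fourConn_conj hy x) hx
  have key2 : ∀ V : Subgroup G, K4 V → fourConn V U0 := by
    intro V hV
    obtain ⟨w, hw⟩ := exists_le_conj S hV.isPGroup
    have h1 : MulAut.conj w⁻¹ • V ≤ (S : Subgroup G) := (le_conj_smul_iff w V S).mp hw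
    have h2 : fourConn (MulAut.conj w⁻¹ • V) U0 := fourConn_of_le hS (K4_conj hV _) hU0 h1 hU0S
    have h3 := fourConn_conj h2 w
    rw [conj_smul_conj_inv] at h3
    exact Relation.ReflTransGen.trans h3 (key w)
  rw [isFourConnected_iff]
  intro U V hU hV
  exact Relation.ReflTransGen.trans (key2 U hU) (fourConn_symm (key2 V hV))

theorem isPGroup_conj_smul {p : ℕ} {H : Subgroup G} (h : IsPGroup p H) (g : G) :
    IsPGroup p (MulAut.conj g • H : Subgroup G) :=
  h.map (MulAut.conj g).toMonoidHom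

/-- normalizer condition: a proper subgroup `D` of a 2-group `P` has an element of `P \ D`
normalizing `D`. -/
theorem exists_normalizer_mem {P D : Subgroup G} (hP : IsPGroup 2 P) (hDP : D ≤ P)
    (hne : D ≠ P) : ∃ t ∈ P, t ∉ D ∧ t ∈ Subgroup.normalizer (D : Set G) := by
  haveI : Fact (Nat.Prime 2) := ⟨Nat.prime_two⟩
  haveI : Group.IsNilpotent P := hP.isNilpotent
  have hnc := Group.normalizerCondition_of_isNilpotent (G := P)
  have hlt : D.subgroupOf P < ⊤ := by
    rw [lt_top_iff_ne_top]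
    intro h
    rw [Subgroup.subgroupOf_eq_top] at h
    exact hne (le_antisymm hDP h)
  have h1 := hnc _ hlt
  obtain ⟨t, htn, htD⟩ := SetLike.exists_of_lt h1
  refine ⟨t.1, t.2, htD, ?_⟩
  rw [← Subgroup.subgroupOf_normalizer_eq hDP] at htn
  exact htn

/-- Sylow's theorem inside a subgroup `N`. -/
theorem sylow_in_subgroup (S : Sylow 2 G) {N T1 T2 : Subgroup G} (h1 : T1 ≤ N) (h2 : T2 ≤ N)
    (hp1 : IsPGroup 2 T1) (hp2 : IsPGroup 2 T2) :
    ∃ w : G, ∃ n ∈ N, T1 ≤ MulAut.conj w • (S : Subgroup G) ∧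
      T2 ≤ MulAut.conj (n * w) • (S : Subgroup G) := by
  haveI : Fact (Nat.Prime 2) := ⟨Nat.prime_two⟩
  have hp1' : IsPGroup 2 (T1.subgroupOf N) :=
    hp1.comap_of_injective N.subtype (Subgroup.subtype_injective N)
  have hp2' : IsPGroup 2 (T2.subgroupOf N) :=
    hp2.comap_of_injective N.subtype (Subgroup.subtype_injective N)
  obtain ⟨Tt, hTt⟩ := hp1'.exists_le_sylow
  have hT : IsPGroup 2 ((Tt : Subgroup N).map N.subtype) := Tt.isPGroup'.map _
  obtain ⟨w, hw⟩ := exists_le_conj S hT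
  obtain ⟨h, -, hh⟩ := Cfsg.Agent.Helper7.exists_conj_mem_sylow_of_le Tt
    (H := ⊤) (Y := T2.subgroupOf N) le_top le_top hp2'
  refine ⟨w, (h⁻¹ : N).1, (h⁻¹ : N).2, ?_, ?_⟩
  · intro t ht
    apply hw
    exact ⟨⟨t, h1 ht⟩, hTt (by simpa [Subgroup.mem_subgroupOf] using ht), rfl⟩
  · intro t ht
    have h3 : h * ⟨t, h2 ht⟩ * h⁻¹ ∈ Tt := hh ⟨t, h2 ht⟩ (by simpa [Subgroup.mem_subgroupOf] using ht)
    have h4 : (h : G) * t * (h : G)⁻¹ ∈ (Tt : Subgroup N).map N.subtype := ⟨_, h3, rfl⟩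
    have h5 := hw h4
    rw [mem_conj_smul_iff] at h5 ⊢
    have : ((h⁻¹ : N).1 * w)⁻¹ * t * ((h⁻¹ : N).1 * w) = w⁻¹ * ((h : G) * t * (h : G)⁻¹) * w := by
      simp only [Subgroup.coe_inv]
      group
    rw [this]
    exact h5

theorem claim1 (S : Sylow 2 G) :
    ∀ m : ℕ, ∀ x y : G,
      Nat.card (S : Subgroup G) - Nat.card ((MulAut.conj x • (S : Subgroup G)) ⊓
        (MulAut.conj y • (S : Subgroup G)) : Subgroup G) = m →
      ∀ V : Subgroup G, K4 V → V ≤ MulAut.conj x • (S : Subgroup G) →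
        V ≤ MulAut.conj y • (S : Subgroup G) → x⁻¹ * y ∈ Gam (S : Subgroup G) := by
  haveI : Fact (Nat.Prime 2) := ⟨Nat.prime_two⟩
  intro m
  induction m using Nat.strong_induction_on with
  | _ m ih =>
    intro x y hm V hV hVx hVy
    have hPp : IsPGroup 2 (MulAut.conj x • (S : Subgroup G) : Subgroup G) :=
      isPGroup_conj_smul S.isPGroup' x
    have hRp : IsPGroup 2 (MulAut.conj y • (S : Subgroup G) : Subgroup G) :=
      isPGroup_conj_smul S.isPGroup' y
    have hcP : Nat.card (MulAut.conj x • (S : Subgroup G) : Subgroup G) = Nat.card (S : Subgroup G) :=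
      card_conj_smul x _
    have hcR : Nat.card (MulAut.conj y • (S : Subgroup G) : Subgroup G) = Nat.card (S : Subgroup G) :=
      card_conj_smul y _
    by_cases hDP : (MulAut.conj x • (S : Subgroup G)) ⊓ (MulAut.conj y • (S : Subgroup G)) =
        MulAut.conj x • (S : Subgroup G)
    · -- P ≤ R hence equal
      have hle : MulAut.conj x • (S : Subgroup G) ≤ MulAut.conj y • (S : Subgroup G) :=
        inf_eq_left.mp hDP
      have heq : MulAut.conj x • (S : Subgroup G) = MulAut.conj y • (S : Subgroup G) :=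
        Subgroup.eq_of_le_of_card_ge hle (by rw [hcP, hcR])
      have hn : MulAut.conj (x⁻¹ * y) • (S : Subgroup G) = (S : Subgroup G) := by
        rw [conj_mul_smul, ← heq, conj_inv_smul_conj]
      have hU : MulAut.conj x⁻¹ • V ≤ (S : Subgroup G) := (le_conj_smul_iff x V S).mp hVx
      exact normalizer_le_Gam le_rfl hU (K4_conj hV _)
        ((conj_smul_eq_iff_mem_normalizer _ _).mp hn)
    · have hDR : (MulAut.conj x • (S : Subgroup G)) ⊓ (MulAut.conj y • (S : Subgroup G)) ≠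
          MulAut.conj y • (S : Subgroup G) := by
        intro h
        have hle : MulAut.conj y • (S : Subgroup G) ≤ MulAut.conj x • (S : Subgroup G) :=
          inf_eq_right.mp h
        have heq : MulAut.conj y • (S : Subgroup G) = MulAut.conj x • (S : Subgroup G) :=
          Subgroup.eq_of_le_of_card_ge hle (by rw [hcP, hcR])
        apply hDP
        rw [heq]; exact inf_idem _
      obtain ⟨t1, ht1P, ht1D, ht1N⟩ := exists_normalizer_mem hPp inf_le_left hDP
      obtain ⟨t2, ht2R, ht2D, ht2N⟩ := exists_normalizer_mem hRp inf_le_right hDR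
      set D := (MulAut.conj x • (S : Subgroup G)) ⊓ (MulAut.conj y • (S : Subgroup G)) with hD
      have hVD : V ≤ D := le_inf hVx hVy
      obtain ⟨w, n, hnN, hT1, hT2⟩ := sylow_in_subgroup S
        (N := Subgroup.normalizer (D : Set G))
        (T1 := Subgroup.normalizer (D : Set G) ⊓ MulAut.conj x • (S : Subgroup G))
        (T2 := Subgroup.normalizer (D : Set G) ⊓ MulAut.conj y • (S : Subgroup G))
        inf_le_left inf_le_left (hPp.to_le inf_le_right) (hRp.to_le inf_le_right)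
      have hDN : D ≤ Subgroup.normalizer (D : Set G) := Subgroup.le_normalizer
      have hDw : D ≤ MulAut.conj w • (S : Subgroup G) :=
        le_trans (le_inf hDN inf_le_left) hT1
      have hDnw : D ≤ MulAut.conj (n * w) • (S : Subgroup G) :=
        le_trans (le_inf hDN inf_le_right) hT2
      -- first induction
      have hc1 : Nat.card D < Nat.card ((MulAut.conj x • (S : Subgroup G)) ⊓
          (MulAut.conj w • (S : Subgroup G)) : Subgroup G) := by
        by_contra hcon
        push Not at hcon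
        have hle : D ≤ (MulAut.conj x • (S : Subgroup G)) ⊓ (MulAut.conj w • (S : Subgroup G)) :=
          le_inf inf_le_left hDw
        have := Subgroup.eq_of_le_of_card_ge hle hcon
        apply ht1D
        rw [this]
        exact ⟨ht1P, hT1 ⟨ht1N, ht1P⟩⟩
      have hc1' : Nat.card ((MulAut.conj x • (S : Subgroup G)) ⊓
          (MulAut.conj w • (S : Subgroup G)) : Subgroup G) ≤ Nat.card (S : Subgroup G) := by
        rw [← hcP]
        exact Subgroup.card_le_of_le inf_le_left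
      have r1 : x⁻¹ * w ∈ Gam (S : Subgroup G) :=
        ih _ (by omega) x w rfl V hV hVx (hVD.trans hDw)
      have hc2 : Nat.card D < Nat.card ((MulAut.conj y • (S : Subgroup G)) ⊓
          (MulAut.conj (n * w) • (S : Subgroup G)) : Subgroup G) := by
        by_contra hcon
        push Not at hcon
        have hle : D ≤ (MulAut.conj y • (S : Subgroup G)) ⊓
            (MulAut.conj (n * w) • (S : Subgroup G)) :=
          le_inf inf_le_right hDnw
        have := Subgroup.eq_of_le_of_card_ge hle hcon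
        apply ht2D
        rw [this]
        exact ⟨ht2R, hT2 ⟨ht2N, ht2R⟩⟩
      have hc2' : Nat.card ((MulAut.conj y • (S : Subgroup G)) ⊓
          (MulAut.conj (n * w) • (S : Subgroup G)) : Subgroup G) ≤ Nat.card (S : Subgroup G) := by
        rw [← hcR]
        exact Subgroup.card_le_of_le inf_le_left
      have r2 : y⁻¹ * (n * w) ∈ Gam (S : Subgroup G) :=
        ih _ (by omega) y (n * w) rfl V hV hVy (hVD.trans hDnw)
      have r3 : x⁻¹ * n * x ∈ Gam (S : Subgroup G) :=
        conj_mem_Gam (Q := D) inf_le_left hVD hV hnN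
      have : x⁻¹ * y = (x⁻¹ * n * x) * (x⁻¹ * w) * (y⁻¹ * (n * w))⁻¹ := by group
      rw [this]
      exact mul_mem (mul_mem r3 r1) (inv_mem r2)

theorem claim1' (S : Sylow 2 G) {x y : G} {V : Subgroup G} (hV : K4 V)
    (hVx : V ≤ MulAut.conj x • (S : Subgroup G)) (hVy : V ≤ MulAut.conj y • (S : Subgroup G)) :
    x⁻¹ * y ∈ Gam (S : Subgroup G) :=
  claim1 S _ x y rfl V hV hVx hVy

theorem claim2 (S : Sylow 2 G) {x y : G} {U1 U2 : Subgroup G} (h1 : K4 U1) (h2 : K4 U2)
    (hx : U1 ≤ MulAut.conj x • (S : Subgroup G)) (hy : U2 ≤ MulAut.conj y • (S : Subgroup G))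
    (hc : ∀ a ∈ U1, ∀ b ∈ U2, a * b = b * a) : x⁻¹ * y ∈ Gam (S : Subgroup G) := by
  have hn : U1 ≤ Subgroup.normalizer (U2 : Set G) := by
    rw [Subgroup.le_normalizer_iff]
    intro a ha b hb
    rw [hc a ha b hb, mul_inv_cancel_right]
    exact hb
  have hp : IsPGroup 2 (U1 ⊔ U2 : Subgroup G) :=
    IsPGroup.to_sup_of_normal_right' h1.isPGroup h2.isPGroup hn
  obtain ⟨w, hw⟩ := exists_le_conj S hp
  have r1 : x⁻¹ * w ∈ Gam (S : Subgroup G) := claim1' S h1 hx (le_sup_left.trans hw)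
  have r2 : y⁻¹ * w ∈ Gam (S : Subgroup G) := claim1' S h2 hy (le_sup_right.trans hw)
  have : x⁻¹ * y = (x⁻¹ * w) * (y⁻¹ * w)⁻¹ := by group
  rw [this]
  exact mul_mem r1 (inv_mem r2)

theorem claim3 (S : Sylow 2 G) {U V : Subgroup G} (hU : K4 U) (h : fourConn U V) :
    ∀ x y : G, U ≤ MulAut.conj x • (S : Subgroup G) → V ≤ MulAut.conj y • (S : Subgroup G) →
      x⁻¹ * y ∈ Gam (S : Subgroup G) := by
  induction h with
  | refl =>
    intro x y hx hy
    exact claim1' S hU hx hy
  | @tail B C _ hbc ih =>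
    intro x y hx hy
    have hB : K4 B := (K4_iff B).mpr hbc.1
    have hC : K4 C := (K4_iff C).mpr hbc.2.1
    obtain ⟨z, hz⟩ := exists_le_conj S hB.isPGroup
    have r1 := ih x z hx hz
    have r2 := claim2 S hB hC hz hy hbc.2.2
    have : x⁻¹ * y = (x⁻¹ * z) * (z⁻¹ * y) := by group
    rw [this]
    exact mul_mem r1 r2

/-- Part A : if `G` is four-connected then the core is everything. -/
theorem Gam_eq_top_of_connected (S : Sylow 2 G)
    {U0 : Subgroup G} (hU0S : U0 ≤ (S : Subgroup G)) (hU0 : K4 U0)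
    (hG : Cfsg.IsFourConnected G) : Gam (S : Subgroup G) = ⊤ := by
  rw [Subgroup.eq_top_iff']
  intro g
  have h1 : fourConn U0 (MulAut.conj g • U0) :=
    (isFourConnected_iff.mp hG) _ _ hU0 (K4_conj hU0 g)
  have h2 := claim3 S hU0 h1 1 g (by rw [conj_one_smul]; exact hU0S) (conj_smul_mono g hU0S)
  simpa using h2

theorem result {G : Type*} [Group G] [Finite G] (h2 : ¬ Cfsg.PRankLE 2 1 G)
    (S : Sylow 2 G) (hS : Cfsg.IsFourConnected (S : Subgroup G)) :
    ¬ Cfsg.IsFourConnected G ↔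
      (⨆ Q : {Q : Subgroup G // Q ≤ (S : Subgroup G) ∧ ¬ Cfsg.PRankLE 2 1 Q},
          Subgroup.normalizer ((Q : Subgroup G) : Set G)) ≠ ⊤ := by
  obtain ⟨U0, hU0S, hU0⟩ := exists_K4_le_sylow h2 S
  rw [not_iff_not]
  exact ⟨fun h => Gam_eq_top_of_connected S hU0S hU0 h,
    fun h => connected_of_Gam_eq_top S hS hU0S hU0 h⟩

end Cfsg.Agent.S0520
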