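import Cfsg.Statements.S3276
import Mathlib
import Cfsg.Agent.Helper2.Invol
import Cfsg.Agent.S0208

set_option autoImplicit false
open Cfsg

namespace Cfsg.Agent.S3276

open Cfsg.Agent.Helper2 in
/-- pairwise commuting generators of exponent 2 generate an elementary abelian 2-group -/
theorem closure_comm_exp_two {G : Type*} [Group G] (k : Set G)
    (hcomm : ∀ a ∈ k, ∀ b ∈ k, a * b = b * a) (hsq : ∀ a ∈ k, a * a = 1) :
    (∀ a ∈ Subgroup.closure k, ∀ b ∈ Subgroup.closure k, a * b = b * a) ∧
      ∀ a ∈ Subgroup.closure k, a * a = 1 := by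
  have h1 : Subgroup.closure k ≤ Subgroup.centralizer k := by
    rw [Subgroup.closure_le]
    intro a ha
    rw [SetLike.mem_coe, Subgroup.mem_centralizer_iff]
    intro b hb
    exact hcomm b hb a ha
  have h2 : Subgroup.closure k ≤ Subgroup.centralizer (Subgroup.closure k : Set G) := by
    rw [Subgroup.closure_le]
    intro a ha
    rw [SetLike.mem_coe, Subgroup.mem_centralizer_iff]
    intro b hb
    have := Subgroup.mem_centralizer_iff.mp (h1 hb) a ha
    exact this.symm
  have hc : ∀ a ∈ Subgroup.closure k, ∀ b ∈ Subgroup.closure k, a * b = b * a := by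
    intro a ha b hb
    exact (Subgroup.mem_centralizer_iff.mp (h2 hb) a ha)
  refine ⟨hc, ?_⟩
  intro a ha
  induction ha using Subgroup.closure_induction with
  | mem a ha => exact hsq a ha
  | one => simp
  | mul a b ha hb iha ihb =>
    calc a * b * (a * b) = a * (b * a) * b := by group
      _ = a * (a * b) * b := by rw [hc b hb a ha]
      _ = (a * a) * (b * b) := by group
      _ = 1 := by rw [iha, ihb, one_mul]
  | inv a ha iha =>
    have : a⁻¹ = a := inv_eq_of_mul_eq_one_right iha
    rw [this, iha]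

/-- Let x and y be commuting, non-conjugate involutions of a finite group G, and suppose that for every involution u commuting with x, each conjugate of y that commutes with u also commutes with y. Then the normal closure of y is a proper, normal, elementary abelian 2-subgroup of G; and if y is the only involution of that normal closure commuting with x, it has order at most 4. -/
theorem result {G : Type*} [Group G] [Finite G] (x y : G) (hx : orderOf x = 2) (hy : orderOf y = 2)
    (hxy : Commute x y) (hnc : ¬ IsConj x y)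
    (hstar : ∀ u : G, orderOf u = 2 → Commute u x → ∀ g : G, Commute (g * y * g⁻¹) u → Commute (g * y * g⁻¹) y) :
    Subgroup.normalClosure ({y} : Set G) ≠ ⊤ ∧ Cfsg.IsElementaryAbelian 2 (Subgroup.normalClosure ({y} : Set G)) ∧
      ((∀ u ∈ Subgroup.normalClosure ({y} : Set G), orderOf u = 2 → Commute u x → u = y) →
        Nat.card ↥(Subgroup.normalClosure ({y} : Set G)) ≤ 4) := by
  have hyy : y * y = 1 := Cfsg.Agent.Helper2.mul_self_of_orderOf_two hy
  have hxx : x * x = 1 := Cfsg.Agent.Helper2.mul_self_of_orderOf_two hx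
  have hxinv : x⁻¹ = x := inv_eq_of_mul_eq_one_right hxx
  -- Step 1: every conjugate of y commutes with y
  have step1 : ∀ g : G, Commute (g * y * g⁻¹) y := by
    intro g
    set w := g * y * g⁻¹ with hw
    have hwo : orderOf w = 2 := by
      have hs : SemiconjBy g y w := by
        show g * y = w * g
        rw [hw]; group
      rw [← hs.orderOf_eq, hy]
    have hww : w * w = 1 := Cfsg.Agent.Helper2.mul_self_of_orderOf_two hwo
    have hncw : ¬ IsConj x w := by
      intro h
      apply hnc
      have : IsConj y w := isConj_iff.mpr ⟨g, rfl⟩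
      exact h.trans this.symm
    have hpos : 0 < orderOf (x * w) := orderOf_pos _
    have heven : Even (orderOf (x * w)) := by
      by_contra hodd
      rw [Nat.not_even_iff_odd] at hodd
      obtain ⟨d, _, hd⟩ := Cfsg.Agent.S0208.result x w hx hwo hodd
      exact hncw (isConj_iff.mpr ⟨d, hd⟩)
    obtain ⟨huo, hux, huw⟩ := Cfsg.Agent.Helper2.invol_half_pow hxx hww hpos heven
    exact hstar _ huo hux g huw.symm
  -- Step 2: any two conjugates commute
  have step2 : ∀ a b : G, (a * y * a⁻¹) * (b * y * b⁻¹) = (b * y * b⁻¹) * (a * y * a⁻¹) := by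
    intro a b
    have h := (step1 (a⁻¹ * b)).eq
    calc (a * y * a⁻¹) * (b * y * b⁻¹)
        = a * (y * (a⁻¹ * b * y * (a⁻¹ * b)⁻¹)) * a⁻¹ := by group
      _ = a * ((a⁻¹ * b * y * (a⁻¹ * b)⁻¹) * y) * a⁻¹ := by rw [h]
      _ = (b * y * b⁻¹) * (a * y * a⁻¹) := by group
  have hconjset : ∀ w ∈ Group.conjugatesOfSet ({y} : Set G), ∃ a : G, w = a * y * a⁻¹ := by
    intro w hw
    rw [Group.mem_conjugatesOfSet_iff] at hw
    obtain ⟨b, hb, hbw⟩ := hw
    rw [Set.mem_singleton_iff] at hb
    subst hb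
    obtain ⟨a, ha⟩ := isConj_iff.mp hbw
    exact ⟨a, ha.symm⟩
  obtain ⟨hNcomm, hNsq⟩ := closure_comm_exp_two (Group.conjugatesOfSet ({y} : Set G))
    (by
      intro a ha b hb
      obtain ⟨a', rfl⟩ := hconjset a ha
      obtain ⟨b', rfl⟩ := hconjset b hb
      exact step2 a' b')
    (by
      intro a ha
      obtain ⟨a', rfl⟩ := hconjset a ha
      calc a' * y * a'⁻¹ * (a' * y * a'⁻¹) = a' * (y * y) * a'⁻¹ := by group
        _ = 1 := by rw [hyy]; group)
  have hNdef : Subgroup.normalClosure ({y} : Set G) =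
      Subgroup.closure (Group.conjugatesOfSet ({y} : Set G)) := rfl
  rw [← hNdef] at hNcomm hNsq
  have hyN : y ∈ Subgroup.normalClosure ({y} : Set G) :=
    Subgroup.subset_normalClosure (Set.mem_singleton y)
  refine ⟨?_, ⟨⟨⟨?_⟩⟩, ?_⟩, ?_⟩
  · -- proper
    intro htop
    have hab : ∀ a b : G, a * b = b * a := by
      intro a b
      exact hNcomm a (htop ▸ Subgroup.mem_top a) b (htop ▸ Subgroup.mem_top b)
    have hle : Subgroup.normalClosure ({y} : Set G) ≤ Subgroup.zpowers y := by
      rw [hNdef, Subgroup.closure_le]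
      intro w hw
      obtain ⟨a, rfl⟩ := hconjset w hw
      have : a * y * a⁻¹ = y := by rw [hab a y]; group
      rw [this]; exact Subgroup.mem_zpowers y
    have hxz : x ∈ Subgroup.zpowers y := hle (htop ▸ Subgroup.mem_top x)
    obtain ⟨k, hk⟩ := Subgroup.mem_zpowers_iff.mp hxz
    have hy2 : y ^ 2 = 1 := by rw [pow_two]; exact hyy
    rcases Int.emod_two_eq_zero_or_one k with h0 | h1
    · obtain ⟨m, rfl⟩ : (2 : ℤ) ∣ k := Int.dvd_of_emod_eq_zero h0
      rw [zpow_mul, zpow_ofNat, hy2, one_zpow] at hk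
      rw [← hk, orderOf_one] at hx
      norm_num at hx
    · have : k = 2 * (k / 2) + 1 := by omega
      rw [this, zpow_add, zpow_mul, zpow_ofNat, hy2, one_zpow, one_mul, zpow_one] at hk
      apply hnc
      rw [hk]
  · rintro ⟨a, ha⟩ ⟨b, hb⟩
    exact Subtype.ext (hNcomm a ha b hb)
  · intro a ha
    rw [pow_two]; exact hNsq a ha
  · -- order at most 4
    intro honly
    set N := Subgroup.normalClosure ({y} : Set G) with hN
    have hNnormal : N.Normal := Subgroup.normalClosure_normal
    have hxN : ∀ n ∈ N, x * n * x⁻¹ ∈ N := fun n hn => hNnormal.conj_mem n hn x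
    -- the homomorphism θ
    let θ : N →* N :=
      MonoidHom.mk' (fun n => ⟨n.1 * (x * n.1 * x⁻¹), N.mul_mem n.2 (hxN n.1 n.2)⟩) (by
        intro a b
        apply Subtype.ext
        show (a.1 * b.1) * (x * (a.1 * b.1) * x⁻¹) = (a.1 * (x * a.1 * x⁻¹)) * (b.1 * (x * b.1 * x⁻¹))
        have hc := hNcomm b.1 b.2 (x * a.1 * x⁻¹) (hxN a.1 a.2)
        calc (a.1 * b.1) * (x * (a.1 * b.1) * x⁻¹)
            = a.1 * (b.1 * (x * a.1 * x⁻¹)) * (x * b.1 * x⁻¹) := by group
          _ = a.1 * ((x * a.1 * x⁻¹) * b.1) * (x * b.1 * x⁻¹) := by rw [hc]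
          _ = (a.1 * (x * a.1 * x⁻¹)) * (b.1 * (x * b.1 * x⁻¹)) := by group)
    -- elements of N commuting with x are 1 or y
    have hfix : ∀ u ∈ N, Commute u x → u = 1 ∨ u = y := by
      intro u hu hux
      by_cases h1 : u = 1
      · left; exact h1
      · right
        apply honly u hu _ hux
        exact Cfsg.Agent.Helper2.orderOf_two_iff.mpr ⟨hNsq u hu, h1⟩
    -- the subgroup C = {1, y} of N
    let C : Subgroup N := Subgroup.zpowers (⟨y, hyN⟩ : N)
    have hCcard : Nat.card C = 2 := by
      rw [Nat.card_zpowers, Subgroup.orderOf_mk, hy]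
    have hmemC : ∀ n : N, (n.1 = 1 ∨ n.1 = y) → n ∈ C := by
      rintro ⟨n, hn⟩ (h | h)
      · have : (⟨n, hn⟩ : N) = 1 := Subtype.ext h
        rw [this]; exact C.one_mem
      · have : (⟨n, hn⟩ : N) = ⟨y, hyN⟩ := Subtype.ext h
        rw [this]; exact Subgroup.mem_zpowers _
    have hker : θ.ker ≤ C := by
      intro n hn
      rw [MonoidHom.mem_ker] at hn
      have h1 : n.1 * (x * n.1 * x⁻¹) = 1 := congrArg Subtype.val hn
      apply hmemC
      apply hfix n.1 n.2
      -- x n x⁻¹ = n⁻¹ = n
      have hninv : n.1⁻¹ = n.1 := inv_eq_of_mul_eq_one_right (hNsq n.1 n.2)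
      have h2 : x * n.1 * x⁻¹ = n.1 := by
        have h3 : x * n.1 * x⁻¹ = n.1⁻¹ := (inv_eq_of_mul_eq_one_right h1).symm
        rw [h3, hninv]
      show n.1 * x = x * n.1
      calc n.1 * x = (x * n.1 * x⁻¹) * x := by rw [h2]
        _ = x * n.1 := by group
    have hrange : θ.range ≤ C := by
      rintro _ ⟨n, rfl⟩
      apply hmemC
      apply hfix _ (θ n).2
      show n.1 * (x * n.1 * x⁻¹) * x = x * (n.1 * (x * n.1 * x⁻¹))
      have hc := hNcomm n.1 n.2 (x * n.1 * x⁻¹) (hxN n.1 n.2)
      calc n.1 * (x * n.1 * x⁻¹) * x = (x * n.1 * x⁻¹) * n.1 * x := by rw [hc]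
        _ = x * n.1 * (x⁻¹ * n.1 * x) := by group
        _ = x * n.1 * (x * n.1 * x⁻¹) := by rw [hxinv]
        _ = x * (n.1 * (x * n.1 * x⁻¹)) := by group
    have h1 := θ.ker.card_mul_index
    rw [Subgroup.index_ker] at h1
    have h2 : Nat.card θ.ker ≤ 2 := hCcard ▸ Subgroup.card_le_of_le hker
    have h3 : Nat.card θ.range ≤ 2 := hCcard ▸ Subgroup.card_le_of_le hrange
    rw [← h1]
    calc Nat.card θ.ker * Nat.card θ.range ≤ 2 * 2 := Nat.mul_le_mul h2 h3
      _ = 4 := by norm_num

end Cfsg.Agent.S3276
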