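import Cfsg.Statements.S3277
import Mathlib
import Cfsg.Agent.Helper4.V4CentB

set_option autoImplicit false
open Cfsg

namespace Cfsg.Agent.S3277

/-- Let G be a finite group containing an involution whose centralizer is elementary abelian of order 4. If G has no normal 2-complement and no normal elementary abelian 2-subgroup of order 2 or 4, then G is isomorphic to the alternating group of degree 5 (that is, to PSL(2, 5)). -/
theorem result {G : Type*} [Group G] [Finite G] (x : G) (hx : orderOf x = 2)
    (hC4 : Nat.card ↥(Subgroup.centralizer ({x} : Set G)) = 4) (hCe : ∀ c ∈ Subgroup.centralizer ({x} : Set G), c ^ 2 = 1)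
    (hnc : ¬ Cfsg.HasNormalPComplement 2 G)
    (hne : ∀ E : Subgroup G, E.Normal → Cfsg.IsElementaryAbelian 2 E → Nat.card ↥E ≠ 2 ∧ Nat.card ↥E ≠ 4) :
    Nonempty (G ≃* ↥(alternatingGroup (Fin 5))) := by
  classical
  haveI : Fact (Nat.Prime 2) := ⟨Nat.prime_two⟩
  have H : Cfsg.Agent.Helper4.V4Cent.Hx x := ⟨hx, hC4, hCe⟩
  by_cases hF : Cfsg.Agent.Helper4.V4Cent.Fpf x
  swap
  · exfalso
    unfold Cfsg.Agent.Helper4.V4Cent.Fpf at hF
    push Not at hF
    obtain ⟨g, hgN, hgV, w, hw, hw1, hgw⟩ := hF
    exact Cfsg.Agent.Helper4.V4Cent.caseI H hne hgN hgV hw hw1 hgw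
  have hVp : IsPGroup 2 ↥(Subgroup.centralizer ({x} : Set G)) :=
    IsPGroup.of_card (n := 2) (by rw [H.card]; norm_num)
  obtain ⟨P, hP⟩ := hVp.exists_le_sylow
  have hPV := Cfsg.Agent.Helper4.V4Cent.sylow_eq H hF P hP
  by_cases hN : ∃ g : G, g ∈ Subgroup.normalizer ((Subgroup.centralizer ({x} : Set G)) : Set G) ∧
      g ∉ Subgroup.centralizer ({x} : Set G)
  swap
  · exfalso
    push Not at hN
    apply hnc
    apply Cfsg.Agent.Helper9.hasNormalPComplement_of_normalizer_le_centralizer P
    intro g hg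
    have hg' : g ∈ Subgroup.normalizer ((Subgroup.centralizer ({x} : Set G)) : Set G) := by
      have : ((P : Subgroup G) : Set G) = ((Subgroup.centralizer ({x} : Set G)) : Set G) := by
        rw [hPV]
      rw [← this]
      exact hg
    have hgV := hN g hg'
    rw [Subgroup.mem_centralizer_iff]
    intro v hv
    have hvV : v ∈ Subgroup.centralizer ({x} : Set G) := by
      rw [← hPV]; exact hv
    exact H.comm hvV hgV
  obtain ⟨g, hgN, hgV⟩ := hN
  obtain ⟨haV, ha1, hax, hb, -⟩ := Cfsg.Agent.Helper4.V4Cent.three_cycle H hF hgN hgV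
  have hVconj : ∀ v ∈ Subgroup.centralizer ({x} : Set G), v ≠ 1 → IsConj x v := by
    intro v hv hv1
    rcases H.elements haV ha1 hax v hv with h | h | h | h
    · exact absurd h hv1
    · rw [h]
    · rw [h]; exact isConj_iff.mpr ⟨g, rfl⟩
    · rw [h, ← hb]
      exact isConj_iff.mpr ⟨g * g, by group⟩
  have hconj1 : ∀ t : G, orderOf t = 2 → IsConj x t := by
    intro t ht
    obtain ⟨k, hk⟩ := Cfsg.Agent.Helper4.V4Cent.exists_conj_mem_sylow P ht
    rw [hPV] at hk
    have hk1 : k * t * k⁻¹ ≠ 1 := by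
      intro h
      have : t = 1 := by
        have := congrArg (fun s => k⁻¹ * s * k) h
        simpa [mul_assoc] using this
      rw [this, orderOf_one] at ht
      norm_num at ht
    have h1 := hVconj _ hk hk1
    exact h1.trans (isConj_iff.mpr ⟨k⁻¹, by group⟩)
  have hconj : ∀ s t : G, orderOf s = 2 → orderOf t = 2 → IsConj s t :=
    fun s t hs ht => (hconj1 s hs).symm.trans (hconj1 t ht)
  have hyp : Cfsg.Agent.Helper3.V4C.Hyp G :=
    Cfsg.Agent.Helper3.V4C.Hyp.of_one H.ord H.card
      (fun c hc => H.sq_of_mem (Cfsg.Agent.Helper4.V4Cent.mem_V.mpr hc)) hconj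
  haveI : Fintype G := Fintype.ofFinite G
  rcases Cfsg.Agent.Helper3.V4C.card_eq hyp H.ord with h12 | h60
  · exfalso
    have hG12 : Nat.card G = 12 := by rw [Nat.card_eq_fintype_card]; exact h12
    have hle : Subgroup.centralizer ({x} : Set G) ≤
        Subgroup.normalizer ((Subgroup.centralizer ({x} : Set G)) : Set G) := Subgroup.le_normalizer
    have hd1 : 4 ∣ Nat.card ↥(Subgroup.normalizer ((Subgroup.centralizer ({x} : Set G)) : Set G)) := by
      rw [← H.card]; exact Subgroup.card_dvd_of_le hle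
    have hd2 : Nat.card ↥(Subgroup.normalizer ((Subgroup.centralizer ({x} : Set G)) : Set G)) ∣ 12 := by
      rw [← hG12]; exact Subgroup.card_subgroup_dvd_card _
    have hne4 : Nat.card ↥(Subgroup.normalizer ((Subgroup.centralizer ({x} : Set G)) : Set G)) ≠ 4 := by
      intro h4
      have := Subgroup.eq_of_le_of_card_ge hle (by rw [h4, H.card])
      apply hgV
      rw [this]
      exact hgN
    have h12' : Nat.card ↥(Subgroup.normalizer ((Subgroup.centralizer ({x} : Set G)) : Set G)) = 12 := by
      have hpos : 0 < Nat.card ↥(Subgroup.normalizer ((Subgroup.centralizer ({x} : Set G)) : Set G)) :=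
        Nat.card_pos
      have hle12 := Nat.le_of_dvd (by norm_num) hd2
      generalize Nat.card ↥(Subgroup.normalizer ((Subgroup.centralizer ({x} : Set G)) : Set G)) = n at *
      interval_cases n <;> omega
    have htop : Subgroup.normalizer ((Subgroup.centralizer ({x} : Set G)) : Set G) = ⊤ := by
      rw [← Subgroup.card_eq_iff_eq_top, h12', hG12]
    have hnorm : (Subgroup.centralizer ({x} : Set G)).Normal :=
      Subgroup.normalizer_eq_top_iff.mp htop
    have hea : Cfsg.IsElementaryAbelian 2 (Subgroup.centralizer ({x} : Set G)) := by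
      refine ⟨⟨⟨fun a b => ?_⟩⟩, hCe⟩
      apply Subtype.ext
      exact H.comm a.2 b.2
    exact (hne _ hnorm hea).2 H.card
  · exact hyp.equiv_A5 H.ord (by rw [Nat.card_eq_fintype_card]; exact h60)

end Cfsg.Agent.S3277
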