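import Cfsg.Statements.S4500
import Cfsg.Agent.Helper8.HeightBound
import Cfsg.Agent.Helper8.KleinBlock
import Cfsg.Agent.Helper24.Burnside
import Cfsg.Agent.Helper24.DefectZero
import Cfsg.Agent.Helper24.SmallDegree
import Cfsg.Agent.Helper5.BlockOrth

set_option autoImplicit false
open Cfsg

namespace Cfsg.Agent.S4500

open Cfsg.Agent.Helper24 Cfsg.Agent.Helper5 Cfsg.Agent.Helper5.CC Cfsg.Agent.Helper5.Loc in
theorem key {G : Type*} [Group G] [Finite G] [Nontrivial G] (p q r a b c : ℕ) (hp : p.Prime)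
    (hq : q.Prime) (hr : r.Prime) (hpq : p ≠ q) (hpr : p ≠ r) (hqr : q ≠ r) (ha : a ≤ 2)
    (hG : Nat.card G = p ^ a * q ^ b * r ^ c) :
    ∃ χ : Cfsg.IrrCharacter G, (χ : G → ℂ) ≠ (fun _ => 1) ∧
      ∃ k : ℕ, Cfsg.charDegree (χ : G → ℂ) = q ^ k := by
  classical
  haveI : Fintype G := Fintype.ofFinite _
  haveI : Fintype (Cfsg.IrrCharacter G) := Fintype.ofFinite _
  haveI : Fact p.Prime := ⟨hp⟩
  rcases Nat.eq_zero_or_pos a with ha0 | ha0
  · -- `|G| = q^b r^c`: solvable, so there is a nonprincipal linear character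
    subst ha0
    rw [pow_zero, one_mul] at hG
    haveI : Group.IsSolvable G := isSolvable_of_card_eq_prime_pow_mul q r b c hq hr hG
    have hlt : commutator G < ⊤ := Group.IsSolvable.commutator_lt_top_of_nontrivial G
    have hidx : 2 ≤ (commutator G).index := by
      have h1 : (commutator G).index ≠ 1 := by
        rw [Ne, Subgroup.index_eq_one]; exact hlt.ne
      have h0 : (commutator G).index ≠ 0 := Subgroup.index_ne_zero_of_finite
      omega
    rw [← card_linear_irr] at hidx
    haveI : Finite {χ : Cfsg.IrrCharacter G // (χ : G → ℂ) 1 = 1} := Subtype.finite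
    obtain ⟨χ, hχ⟩ : ∃ χ : {χ : Cfsg.IrrCharacter G // (χ : G → ℂ) 1 = 1},
        χ ≠ ⟨trivIrr G, rfl⟩ := by
      by_contra hcon
      push Not at hcon
      have : Nat.card {χ : Cfsg.IrrCharacter G // (χ : G → ℂ) 1 = 1} ≤ 1 := by
        rw [Nat.card_eq_fintype_card]
        exact Fintype.card_le_one_iff.mpr fun x y => by rw [hcon x, hcon y]
      omega
    refine ⟨χ.1, ?_, 0, ?_⟩
    · intro h
      apply hχ
      apply Subtype.ext
      apply Subtype.ext
      exact h
    · rw [charDegree_eq_irrDeg, pow_zero, irrDeg_eq_one_iff]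
      exact χ.2
  · -- `p` divides `|G|`
    obtain ⟨M, hM⟩ := exists_isPModular p hp
    have hMp := isPrime_of_isPModular hM
    have hqb0 : q ^ b ≠ 0 := pow_ne_zero _ hq.ne_zero
    have hrc0 : r ^ c ≠ 0 := pow_ne_zero _ hr.ne_zero
    have hpa0 : p ^ a ≠ 0 := pow_ne_zero _ hp.ne_zero
    have hν : (Nat.card G).factorization p = a := by
      rw [hG, Nat.factorization_mul (mul_ne_zero hpa0 hqb0) hrc0,
        Nat.factorization_mul hpa0 hqb0]
      simp [hp.factorization_pow, hq.factorization_pow, hr.factorization_pow, hpq, hpr]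
    have hpdvd : p ∣ Nat.card G := by
      rw [hG]
      exact Dvd.dvd.mul_right (Dvd.dvd.mul_right (dvd_pow_self p ha0.ne') _) _
    obtain ⟨g, hg⟩ := exists_prime_orderOf_dvd_card' p hpdvd
    -- degrees in the principal block are prime to `p`
    have hdegp : ∀ χ : Cfsg.IrrCharacter G, χ ∈ Cfsg.principalBlock M G → ¬ p ∣ irrDeg χ := by
      intro χ hχ h2
      have hpos : 1 ≤ (irrDeg χ).factorization p :=
        (Nat.Prime.dvd_iff_one_le_factorization hp (irrDeg_pos χ).ne').mp h2
      have hmin : Cfsg.Agent.Helper8.IndHt.minVal p (Cfsg.principalBlock M G) = 0 := by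
        have h0 := Cfsg.Agent.Helper8.IndHt.minVal_le p
          (trivIrr_mem_principalBlock (M := M) (G := G) hMp)
        have h1 := irrDeg_spec (trivIrr G)
        have h2 : ((trivIrr G : Cfsg.IrrCharacter G) : G → ℂ) 1 = 1 := rfl
        rw [h2] at h1
        have h3 : irrDeg (trivIrr G) = 1 := by exact_mod_cast h1.symm
        rw [h3] at h0
        simpa using h0
      have := Cfsg.Agent.Helper8.HB.factorization_add_two_le hM isPBlock_principalBlock hχ
        (by omega)
      omega
    have horth := block_orthogonality hM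
      (isPBlock_principalBlock (M := M) (G := G)) 1 g
      (by rw [orderOf_one]; exact hp.one_lt.ne' ∘ Nat.dvd_one.mp) (by rw [hg])
    by_contra hcon
    push Not at hcon
    -- every nonprincipal character in the principal block has degree divisible by `r`
    have hdvd : ∀ χ : Cfsg.IrrCharacter G, χ ∈ Cfsg.principalBlock M G → χ ≠ trivIrr G →
        r ∣ irrDeg χ := by
      intro χ hχ hne
      by_contra hr'
      have hne' : (χ : G → ℂ) ≠ (fun _ => 1) := fun h => hne (Subtype.ext h)
      have hd : irrDeg χ ∣ p ^ a * q ^ b * r ^ c := hG ▸ irrDeg_dvd_card χ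
      have hcop1 : Nat.Coprime (irrDeg χ) (r ^ c) :=
        Nat.Coprime.pow_right c ((Nat.Prime.coprime_iff_not_dvd hr).mpr hr').symm
      have hd2 : irrDeg χ ∣ p ^ a * q ^ b := hcop1.dvd_of_dvd_mul_right hd
      have hcop2 : Nat.Coprime (irrDeg χ) (p ^ a) :=
        Nat.Coprime.pow_right a ((Nat.Prime.coprime_iff_not_dvd hp).mpr (hdegp χ hχ)).symm
      have hd3 : irrDeg χ ∣ q ^ b := hcop2.dvd_of_dvd_mul_left hd2
      obtain ⟨k, _, hk⟩ := (Nat.dvd_prime_pow hq).mp hd3
      exact hcon χ hne' k (by rw [charDegree_eq_irrDeg]; exact hk)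
    -- so `1 / r` would be an algebraic integer
    have hsum : (1 : ℂ) + ∑ χ : Cfsg.IrrCharacter G,
        (if χ ∈ Cfsg.principalBlock M G ∧ χ ≠ trivIrr G then
          (irrDeg χ : ℂ) * (starRingEnd ℂ) ((χ : G → ℂ) g) else 0) = 0 := by
      refine Eq.trans ?_ horth
      rw [← Finset.add_sum_erase Finset.univ
        (fun χ : Cfsg.IrrCharacter G => (if χ ∈ Cfsg.principalBlock M G then (1 : ℂ) else 0) *
          ((χ : G → ℂ) 1 * (starRingEnd ℂ) ((χ : G → ℂ) g))) (Finset.mem_univ (trivIrr G))]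
      have h2 : ((trivIrr G : Cfsg.IrrCharacter G) : G → ℂ) 1 = 1 := rfl
      have h3 : ((trivIrr G : Cfsg.IrrCharacter G) : G → ℂ) g = 1 := rfl
      rw [if_pos (trivIrr_mem_principalBlock (M := M) (G := G) hMp), h2, h3]
      simp only [map_one, mul_one]
      congr 1
      rw [← Finset.add_sum_erase Finset.univ
        (fun χ : Cfsg.IrrCharacter G => (if χ ∈ Cfsg.principalBlock M G ∧ χ ≠ trivIrr G then
          (irrDeg χ : ℂ) * (starRingEnd ℂ) ((χ : G → ℂ) g) else 0)) (Finset.mem_univ (trivIrr G))]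
      rw [if_neg (by simp), zero_add]
      refine Finset.sum_congr rfl fun χ hχ => ?_
      have hne : χ ≠ trivIrr G := Finset.ne_of_mem_erase hχ
      by_cases hB : χ ∈ Cfsg.principalBlock M G
      · rw [if_pos ⟨hB, hne⟩, if_pos hB, one_mul, irrDeg_spec]
      · rw [if_neg (fun h => hB h.1), if_neg hB, zero_mul]
    have hint : IsIntegral ℤ (∑ χ : Cfsg.IrrCharacter G,
        (if χ ∈ Cfsg.principalBlock M G ∧ χ ≠ trivIrr G then
          ((irrDeg χ / r : ℕ) : ℂ) * (starRingEnd ℂ) ((χ : G → ℂ) g) else 0)) := by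
      refine IsIntegral.sum _ fun χ _ => ?_
      split_ifs
      · refine IsIntegral.mul (isIntegral_natCast _) ?_
        rw [← Cfsg.Agent.Helper24.irr_inv]
        exact irr_isIntegral χ g⁻¹
      · exact isIntegral_zero
    have hrel : (r : ℂ) * (∑ χ : Cfsg.IrrCharacter G,
        (if χ ∈ Cfsg.principalBlock M G ∧ χ ≠ trivIrr G then
          ((irrDeg χ / r : ℕ) : ℂ) * (starRingEnd ℂ) ((χ : G → ℂ) g) else 0)) = -1 := by
      rw [Finset.mul_sum]
      have : ∑ χ : Cfsg.IrrCharacter G, (r : ℂ) *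
          (if χ ∈ Cfsg.principalBlock M G ∧ χ ≠ trivIrr G then
          ((irrDeg χ / r : ℕ) : ℂ) * (starRingEnd ℂ) ((χ : G → ℂ) g) else 0) =
          ∑ χ : Cfsg.IrrCharacter G,
        (if χ ∈ Cfsg.principalBlock M G ∧ χ ≠ trivIrr G then
          (irrDeg χ : ℂ) * (starRingEnd ℂ) ((χ : G → ℂ) g) else 0) := by
        refine Finset.sum_congr rfl fun χ _ => ?_
        split_ifs with h
        · obtain ⟨m, hm⟩ := hdvd χ h.1 h.2
          rw [hm, Nat.mul_div_cancel_left m hr.pos]
          push_cast; ring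
        · rw [mul_zero]
      rw [this]
      linear_combination hsum
    set S : ℂ := ∑ χ : Cfsg.IrrCharacter G,
        (if χ ∈ Cfsg.principalBlock M G ∧ χ ≠ trivIrr G then
          ((irrDeg χ / r : ℕ) : ℂ) * (starRingEnd ℂ) ((χ : G → ℂ) g) else 0) with hS
    have hr0 : (r : ℂ) ≠ 0 := by exact_mod_cast hr.ne_zero
    have hSval : S = ((-(1 / r) : ℚ) : ℂ) := by
      push_cast
      field_simp
      linear_combination hrel
    rw [hSval] at hint
    obtain ⟨m, hm⟩ := exists_int_of_isIntegral_ratCast hint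
    have hrq : (r : ℚ) ≠ 0 := by exact_mod_cast hr.ne_zero
    have h3 : (-1 : ℚ) = m * r := by
      field_simp at hm
      linarith
    have h4 : (-1 : ℤ) = m * r := by exact_mod_cast h3
    have h5 : (r : ℤ) ∣ 1 := ⟨-m, by linarith⟩
    have h6 : r ∣ 1 := by exact_mod_cast h5
    exact hr.one_lt.ne' (Nat.dvd_one.mp h6)

/-- Let G be a non-trivial finite group of order p^a · q^b · r^c with p, q, r distinct primes and a ≤ 2. Then G has a non-principal irreducible character whose degree is a power of q, and a non-principal irreducible character whose degree is a power of r; the power may be the zeroth, so a non-principal linear character serves for both. -/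
theorem result {G : Type*} [Group G] [Finite G] [Nontrivial G] (p q r a b c : ℕ) (hp : p.Prime) (hq : q.Prime) (hr : r.Prime) (hpq : p ≠ q) (hpr : p ≠ r) (hqr : q ≠ r) (ha : a ≤ 2) (hG : Nat.card G = p ^ a * q ^ b * r ^ c) : (∃ χ : Cfsg.IrrCharacter G, (χ : G → ℂ) ≠ (fun _ => 1) ∧ ∃ k : ℕ, Cfsg.charDegree (χ : G → ℂ) = q ^ k) ∧ ∃ χ : Cfsg.IrrCharacter G, (χ : G → ℂ) ≠ (fun _ => 1) ∧ ∃ k : ℕ, Cfsg.charDegree (χ : G → ℂ) = r ^ k := by
  refine ⟨key p q r a b c hp hq hr hpq hpr hqr ha hG,
    key p r q a c b hp hr hq hpr hpq hqr.symm ha (by rw [hG]; ring)⟩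

end Cfsg.Agent.S4500
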