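import Cfsg.Statements.S0252
import Cfsg.Agent.Helper2.PermEmbed
import Cfsg.Agent.S0243

set_option autoImplicit false
open Cfsg

namespace Cfsg.Agent.S0252

open Cfsg.Agent.Helper2

/-- PSL_2(4) is isomorphic to A_5. -/
theorem result {F : Type*} [Field F] [Fintype F] (hF : Fintype.card F = 4) : Nonempty (Matrix.ProjectiveSpecialLinearGroup (Fin 2) F ≃* alternatingGroup (Fin 5)) := by
  have hcard := Cfsg.Agent.S0243.result hF 2 le_rfl
  have hP : Nat.card (Projectivization F (Fin 2 → F)) = 5 := by
    rw [Projectivization.card_of_finrank_two F (Fin 2 → F) (by simp), Nat.card_eq_fintype_card, hF]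
  refine nonempty_mulEquiv_alternatingGroup_of_injective 5 Projectivization.PSLAction.toPermHom
    Matrix.ProjectiveSpecialLinearGroup.toPermHom_injective hP ?_
  rw [Fin.prod_univ_two] at hcard
  norm_num at hcard
  rw [show Nat.factorial 5 = 120 from rfl]
  omega

end Cfsg.Agent.S0252
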