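import Cfsg.Statements.S0106
import Mathlib
import Cfsg.Agent.S0071
import Cfsg.Agent.Helper9.NPC
import Cfsg.Agent.Helper9.QuatSylowSL23

set_option autoImplicit false
open Cfsg

namespace Cfsg.Agent.S0106

/-- A finite group with generalized quaternion Sylow 2-subgroups either has a normal 2-complement or has a section isomorphic to SL(2,3). -/
theorem result {G : Type*} [Group G] [Finite G] (T : Sylow 2 G) (n : ℕ) (hn : 1 ≤ n) (hT : Nonempty ((T : Subgroup G) ≃* QuaternionGroup (2 ^ n))) : Cfsg.HasNormalPComplement 2 G ∨ ∃ (H K : Subgroup G) (hK : (K.subgroupOf H).Normal), Nonempty ((H ⧸ K.subgroupOf H) ≃* Matrix.SpecialLinearGroup (Fin 2) (ZMod 3)) := by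
  classical
  have : Fact (Nat.Prime 2) := ⟨Nat.prime_two⟩
  by_cases hnpc : Cfsg.HasNormalPComplement 2 G
  · exact Or.inl hnpc
  right
  obtain ⟨e⟩ := hT
  have hF : ¬ ∀ Q : Subgroup G, Q ≤ (T : Subgroup G) → ∀ g ∈ Subgroup.normalizer (Q : Set G),
      Nat.Coprime (orderOf g) 2 → g ∈ Subgroup.centralizer (Q : Set G) := fun h =>
    hnpc ((Cfsg.Agent.Helper9.hasNormalPComplement_iff T).mpr
      ((Cfsg.Agent.S0071.result (p := 2) T).mpr h))
  push Not at hF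
  obtain ⟨Q, hQT, g, hgN, hgodd, hgC⟩ := hF
  obtain ⟨eQ⟩ := Cfsg.Agent.Helper9.nonempty_mulEquiv_q8_of_quaternion (T : Subgroup G)
    T.isPGroup' n e Q hQT g hgN hgodd hgC
  obtain ⟨H, K, hK, ⟨E⟩⟩ := Cfsg.Agent.Helper9.exists_section_q8c3 Q eQ g hgN hgodd hgC
  obtain ⟨E'⟩ := Cfsg.Agent.Helper9.nonempty_mulEquiv_q8c3_G3
  exact ⟨H, K, hK, ⟨E.symm.trans E'⟩⟩

end Cfsg.Agent.S0106
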