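import Cfsg.Statements.S0219
import Mathlib

set_option autoImplicit false
open Cfsg

namespace Cfsg.Agent.S0219

/-- a nontrivial cyclic 2-group has a subgroup of index 2 -/
theorem cyclic_two_group_index_two {T : Type*} [Group T] [Finite T] (hc : IsCyclic T)
    (k : ℕ) (hk : Nat.card T = 2 ^ (k + 1)) : ∃ T₀ : Subgroup T, T₀.index = 2 := by
  letI : CommGroup T := IsCyclic.commGroup
  refine ⟨(powMonoidHom (2 ^ k) : T →* T).ker, ?_⟩
  rw [IsCyclic.index_powMonoidHom_ker, hk]
  have : (2 ^ (k + 1)).gcd (2 ^ k) = 2 ^ k := Nat.gcd_eq_right (pow_dvd_pow 2 (Nat.le_succ k))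
  rw [this, pow_succ, Nat.mul_div_cancel_left _ (by positivity)]

/-- If a finite group has even order and a cyclic Sylow 2-subgroup, then it has a subgroup of index 2 (consider the parity of permutations in the regular representation). -/
theorem result {G : Type*} [Group G] [Finite G] (heven : Even (Nat.card G)) (T : Sylow 2 G) (hT : IsCyclic (T : Subgroup G)) : ∃ H : Subgroup G, H.index = 2 := by
  have h2 : 2 ∣ Nat.card G := even_iff_two_dvd.mp heven
  have hmin : (Nat.card G).minFac = 2 := (Nat.minFac_eq_two_iff _).mpr h2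
  have hNC := IsCyclic.normalizer_le_centralizer hmin hT
  have hcompl := IsCyclic.isComplement' hmin hT
  set φ := MonoidHom.transferSylow T hNC with hφ
  -- φ is surjective
  have hsurj : Function.Surjective φ := by
    rw [← MonoidHom.range_eq_top]
    apply Subgroup.eq_top_of_card_eq
    have h1 := hcompl.card_mul
    have h3 : φ.ker.index = Nat.card φ.range := Subgroup.index_ker φ
    have h4 := Subgroup.card_mul_index φ.ker
    rw [h3, ← h1] at h4
    have hpos : 0 < Nat.card φ.ker := Nat.card_pos
    exact Nat.eq_of_mul_eq_mul_left hpos h4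
  -- T has order 2^(k+1)
  obtain ⟨n, hn⟩ := T.2.exists_card_eq
  have hn0 : n ≠ 0 := by
    rintro rfl
    have : (T : Subgroup G) = ⊥ := Subgroup.card_eq_one.mp (by simpa using hn)
    exact T.ne_bot_of_dvd_card h2 this
  obtain ⟨k, rfl⟩ := Nat.exists_eq_succ_of_ne_zero hn0
  obtain ⟨T₀, hT₀⟩ := cyclic_two_group_index_two hT k hn
  exact ⟨T₀.comap φ, by rw [Subgroup.index_comap_of_surjective T₀ hsurj, hT₀]⟩

end Cfsg.Agent.S0219
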