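import Cfsg.Statements.S0685
-- import your own Cfsg.Agent.* helpers here
import Mathlib
import Cfsg.Agent.Helper16.NearField

set_option autoImplicit false
open Cfsg

namespace Cfsg.Agent.S0685

/-- In a linear group over the prime field that is regular on non-zero vectors and has no irreducible cyclic normal subgroup, a maximal normal abelian subgroup is properly contained in its centraliser, which is non-abelian. -/
theorem result {p : ℕ} [Fact p.Prime] {V : Type*} [AddCommGroup V] [Module (ZMod p) V] [Finite V] (H : Subgroup (V ≃ₗ[ZMod p] V)) (hreg : ∀ v w : V, v ≠ 0 → w ≠ 0 → ∃! h : H, (h : V ≃ₗ[ZMod p] V) v = w) (hI : ∀ A : Subgroup H, A.Normal → IsCyclic A → ∃ W : Submodule (ZMod p) V, W ≠ ⊥ ∧ W ≠ ⊤ ∧ ∀ a ∈ A, ∀ v ∈ W, ((a : H) : V ≃ₗ[ZMod p] V) v ∈ W) (A : Subgroup H) (hAn : A.Normal) (hAc : IsMulCommutative A) (hAmax : ∀ B : Subgroup H, B.Normal → IsMulCommutative B → A ≤ B → B = A) : A < Subgroup.centralizer (A : Set H) ∧ ¬ IsMulCommutative (Subgroup.centralizer (A : Set H)) := by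
  have hnt : Nontrivial V := by
    obtain ⟨W, hW0, hW1, -⟩ := hI ⊥ inferInstance inferInstance
    by_contra h
    rw [not_nontrivial_iff_subsingleton] at h
    exact hW0 (Subsingleton.elim _ _)
  have hcyc : IsCyclic A := Cfsg.Agent.Helper16.NearField.isCyclic_of_comm H hreg A hAc
  obtain ⟨W, hW0, hW1, hWA⟩ := hI A hAn hcyc
  have hne : Subgroup.centralizer (A : Set H) ≠ A := fun h =>
    Cfsg.Agent.Helper16.NearField.not_reducible_of_centralizer_eq H hreg A hAn hcyc W hW0 hW1 hWA h
  have hle : A ≤ Subgroup.centralizer (A : Set H) :=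
    Subgroup.le_centralizer_iff_isMulCommutative.mpr hAc
  have hlt : A < Subgroup.centralizer (A : Set H) := lt_of_le_of_ne hle (Ne.symm hne)
  have hnorm : (Subgroup.centralizer (A : Set H)).Normal := inferInstance
  exact ⟨hlt, fun hc => hne (hAmax _ hnorm hc hle)⟩

end Cfsg.Agent.S0685
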