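import Cfsg.Statements.S0068
import Mathlib
import Cfsg.Agent.Helper10.Crit19

set_option autoImplicit false
open Cfsg

namespace Cfsg.Agent.S0068

/-- Frobenius complements of even order: if H complements a nontrivial normal subgroup K, each nonidentity element of H has trivial centraliser in K, and H has even order, then H contains a unique involution s, K is abelian, and s inverts every element of K. -/
theorem result {G : Type*} [Group G] [Finite G] (K H : Subgroup G) [K.Normal]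
    (hc : Subgroup.IsComplement' K H) (hK : K ≠ ⊥) (hfpf : ∀ h ∈ H, h ≠ 1 → K ⊓ Subgroup.centralizer {h} = ⊥)
    (heven : 2 ∣ Nat.card H) :
    (∃ s ∈ H, orderOf s = 2 ∧ (∀ t ∈ H, orderOf t = 2 → t = s) ∧ ∀ k ∈ K, s * k * s⁻¹ = k⁻¹) ∧ IsMulCommutative K := by
  -- an involution in H
  have : Fact (Nat.Prime 2) := ⟨Nat.prime_two⟩
  obtain ⟨s₀, hs₀⟩ := exists_prime_orderOf_dvd_card' 2 heven
  set s : G := (s₀ : G) with hs
  have hsH : s ∈ H := s₀.2
  have hso : orderOf s = 2 := by rw [hs, Subgroup.orderOf_coe]; exact hs₀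
  -- general fact : an involution of H inverts K
  have hinv : ∀ t ∈ H, orderOf t = 2 → ∀ k ∈ K, t * k * t⁻¹ = k⁻¹ := by
    intro t htH hto
    have ht2 : t * t = 1 := by
      have := pow_orderOf_eq_one t
      rwa [hto, pow_two] at this
    have ht1 : t ≠ 1 := by
      rintro rfl
      rw [orderOf_one] at hto
      norm_num at hto
    apply Cfsg.Agent.Helper10.conj_eq_inv_of_fpf ht2
    intro n hn hfix
    have hmem : n ∈ K ⊓ Subgroup.centralizer {t} := by
      refine Subgroup.mem_inf.mpr ⟨hn, ?_⟩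
      rw [Subgroup.mem_centralizer_singleton_iff]
      calc n * t = (t * n * t⁻¹) * t := by rw [hfix]
        _ = t * n := by group
    rw [hfpf t htH ht1] at hmem
    exact hmem
  have hsinv := hinv s hsH hso
  refine ⟨⟨s, hsH, hso, ?_, hsinv⟩, ?_⟩
  · intro t htH hto
    have htinv := hinv t htH hto
    -- s * t⁻¹ centralizes K
    by_contra hts
    have hne : s * t⁻¹ ≠ 1 := by
      intro h
      apply hts
      rw [mul_inv_eq_one] at h
      exact h.symm
    have hmem : s * t⁻¹ ∈ H := H.mul_mem hsH (H.inv_mem htH)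
    have hbot := hfpf _ hmem hne
    apply hK
    rw [eq_bot_iff, ← hbot]
    intro k hk
    refine Subgroup.mem_inf.mpr ⟨hk, ?_⟩
    rw [Subgroup.mem_centralizer_singleton_iff]
    -- k * (s t⁻¹) = (s t⁻¹) * k
    have h1 : t⁻¹ * k * t = k⁻¹ := by
      have := htinv k⁻¹ (K.inv_mem hk)
      rw [inv_inv] at this
      calc t⁻¹ * k * t = t⁻¹ * (t * k⁻¹ * t⁻¹) * t := by rw [this]
        _ = k⁻¹ := by group
    have h2 : s * k⁻¹ * s⁻¹ = k := by
      have := hsinv k⁻¹ (K.inv_mem hk)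
      rwa [inv_inv] at this
    calc k * (s * t⁻¹) = (s * k⁻¹ * s⁻¹) * (s * t⁻¹) := by rw [h2]
      _ = s * k⁻¹ * t⁻¹ := by group
      _ = s * (t⁻¹ * k * t) * t⁻¹ := by rw [h1]
      _ = s * t⁻¹ * k := by group
  · refine ⟨⟨fun x y => Subtype.ext ?_⟩⟩
    show (x : G) * y = y * x
    have hx := hsinv x x.2
    have hy := hsinv y y.2
    have hxy := hsinv (x * y) (K.mul_mem x.2 y.2)
    have : s * ((x : G) * y) * s⁻¹ = (s * x * s⁻¹) * (s * y * s⁻¹) := by group
    rw [this, hx, hy, mul_inv_rev] at hxy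
    -- x⁻¹ * y⁻¹ = y⁻¹ * x⁻¹
    have h3 : ((x : G)⁻¹ * (y : G)⁻¹)⁻¹ = ((y : G)⁻¹ * (x : G)⁻¹)⁻¹ := by rw [hxy]
    simpa using h3.symm

end Cfsg.Agent.S0068
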