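import Cfsg.Statements.S0728
import Mathlib
import Cfsg.Agent.Helper4.Sharp3

set_option autoImplicit false
open Cfsg

namespace Cfsg.Agent.S0728

/-- In a sharply triply transitive group of even degree at least 6 (degree `q + 1`, `q` odd), a two-point stabiliser has at most one subgroup of order 3. -/
theorem result {α : Type*} [Fintype α] [DecidableEq α] (heven : Even (Fintype.card α)) (h6 : 6 ≤ Fintype.card α) (G : Subgroup (Equiv.Perm α)) (h3 : MulAction.IsMultiplyPretransitive G α 3) (hsharp : ∀ x : Fin 3 ↪ α, MulAction.stabilizer G x = ⊥) {a b : α} (hab : a ≠ b) (A B : Subgroup G) (hA : A ≤ MulAction.stabilizer G a ⊓ MulAction.stabilizer G b) (hB : B ≤ MulAction.stabilizer G a ⊓ MulAction.stabilizer G b) (hA3 : Nat.card A = 3) (hB3 : Nat.card B = 3) : A = B := by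
  classical
  have hn3 : 3 ≤ Fintype.card α := by omega
  -- every subgroup of order 3 inside the two-point stabiliser consists of 1 and two elements
  -- of the set T
  have key : ∀ (A : Subgroup G), A ≤ MulAction.stabilizer G a ⊓ MulAction.stabilizer G b →
      Nat.card A = 3 →
      (A : Set G) \ {1} ⊆ {g : G | g ^ 3 = 1 ∧ g ≠ 1 ∧ g • a = a ∧ g • b = b} ∧
      ((A : Set G) \ {1}).ncard = 2 := by
    intro A hA hA3
    constructor
    · intro g hg
      obtain ⟨hgA, hg1⟩ := hg
      have hg1' : g ≠ 1 := by simpa using hg1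
      have hmem := hA hgA
      rw [Subgroup.mem_inf, MulAction.mem_stabilizer_iff, MulAction.mem_stabilizer_iff] at hmem
      refine ⟨?_, hg1', hmem.1, hmem.2⟩
      have : (⟨g, hgA⟩ : A) ^ Nat.card A = 1 := pow_card_eq_one'
      rw [hA3] at this
      exact congrArg Subtype.val this
    · have h1 : ((A : Set G) \ {1}).ncard = (A : Set G).ncard - 1 := by
        rw [Set.ncard_sdiff_singleton_of_mem A.one_mem]
      have h2 : (A : Set G).ncard = 3 := by
        rw [← hA3]
        rfl
      rw [h1, h2]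
  obtain ⟨hAsub, hAcard⟩ := key A hA hA3
  obtain ⟨hBsub, hBcard⟩ := key B hB hB3
  -- the degree is 2 mod 3
  have hmod : Fintype.card α % 3 = 2 := by
    have hne : ((A : Set G) \ {1}).Nonempty := by
      rw [← Set.ncard_pos]
      omega
    obtain ⟨g, hg⟩ := hne
    obtain ⟨hg3, hg1, hga, hgb⟩ := hAsub hg
    have h3' : Fact (Nat.Prime 3) := ⟨Nat.prime_three⟩
    have ho : orderOf g = 3 := orderOf_eq_prime hg3 hg1
    have h1 := Cfsg.Agent.Helper4.card_modEq_card_fixedBy_of_orderOf_prime (Ω := α) 3 g ho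
    have h2 := Cfsg.Agent.Helper4.card_fixedBy_le_two_of_sharp hsharp g hg1
    have h4 : 2 ≤ Nat.card (MulAction.fixedBy α g) := by
      rw [Nat.card_coe_set_eq, ← Set.ncard_pair hab]
      apply Set.ncard_le_ncard _ (Set.toFinite _)
      intro x hx
      rcases hx with rfl | rfl
      · exact hga
      · exact hgb
    rw [Nat.card_eq_fintype_card] at h1
    unfold Nat.ModEq at h1
    omega
  have hT := Cfsg.Agent.Helper4.card_order_three_of_sharp h3 hsharp hn3 hmod hab
  have hTfin : ({g : G | g ^ 3 = 1 ∧ g ≠ 1 ∧ g • a = a ∧ g • b = b}).Finite := Set.toFinite _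
  have eA := Set.eq_of_subset_of_ncard_le hAsub (by rw [hT, hAcard]) hTfin
  have eB := Set.eq_of_subset_of_ncard_le hBsub (by rw [hT, hBcard]) hTfin
  have hAB : (A : Set G) \ {1} = (B : Set G) \ {1} := by rw [eA, eB]
  ext g
  by_cases hg : g = 1
  · rw [hg]
    exact ⟨fun _ => B.one_mem, fun _ => A.one_mem⟩
  · have h1 : g ∈ A ↔ g ∈ (A : Set G) \ {1} := by
      simp [hg]
    have h2 : g ∈ B ↔ g ∈ (B : Set G) \ {1} := by
      simp [hg]
    rw [h1, h2, hAB]

end Cfsg.Agent.S0728
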