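import Cfsg.Statements.S0073
import Cfsg.Agent.Helper9.Burnside

set_option autoImplicit false
open Cfsg

namespace Cfsg.Agent.S0073

/-- For a finite non-abelian simple group, either the cube of the least prime divisor of the order divides the order, or 12 does. -/
theorem result {G : Type*} [Group G] [Finite G] [IsSimpleGroup G] (hG : ∃ x y : G, x * y ≠ y * x) : (Nat.card G).minFac ^ 3 ∣ Nat.card G ∨ 12 ∣ Nat.card G := by
  classical
  have hfac1 : ∀ n : ℕ, 1 ≤ n → n ^ 2 - 1 = (n - 1) * (n + 1) := by
    intro n hn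
    obtain ⟨m, rfl⟩ : ∃ m, n = m + 1 := ⟨n - 1, by omega⟩
    have h : (m + 1) ^ 2 = m * (m + 2) + 1 := by ring
    rw [h, Nat.add_sub_cancel, Nat.add_sub_cancel]
  have hfac2 : ∀ n : ℕ, 1 ≤ n → n ^ 2 - n = n * (n - 1) := by
    intro n hn
    obtain ⟨m, rfl⟩ : ∃ m, n = m + 1 := ⟨n - 1, by omega⟩
    have h : (m + 1) ^ 2 = (m + 1) * m + (m + 1) := by ring
    rw [h, Nat.add_sub_cancel, Nat.add_sub_cancel]
  obtain ⟨x0, y0, hxy⟩ := hG
  have hn1 : Nat.card G ≠ 1 := by
    intro h
    have := (Nat.card_eq_one_iff_unique.mp h).1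
    exact hxy (Subsingleton.elim _ _)
  set p := (Nat.card G).minFac with hpdef
  have hp : p.Prime := Nat.minFac_prime hn1
  haveI : Fact p.Prime := ⟨hp⟩
  have hpG : p ∣ Nat.card G := Nat.minFac_dvd _
  obtain ⟨P⟩ : Nonempty (Sylow p G) := inferInstance
  obtain ⟨k, hk⟩ := P.2.exists_card_eq
  have hk' : Nat.card (P : Subgroup G) = p ^ k := hk
  have hPG : p ^ k ∣ Nat.card G := hk' ▸ Subgroup.card_subgroup_dvd_card _
  have hk0 : k ≠ 0 := by
    rintro rfl
    rw [pow_zero] at hk'
    have : (P : Subgroup G) = ⊥ := Subgroup.card_eq_one.mp hk'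
    exact P.ne_bot_of_dvd_card hpG this
  by_cases hk3 : 3 ≤ k
  · left
    exact (pow_dvd_pow p hk3).trans hPG
  right
  have hk12 : k = 1 ∨ k = 2 := by omega
  -- P is abelian
  have hcomm : ∀ a ∈ (P : Subgroup G), ∀ b ∈ (P : Subgroup G), a * b = b * a := by
    intro a ha b hb
    have key : ∀ x y : (P : Subgroup G), x * y = y * x := by
      rcases hk12 with rfl | rfl
      · rw [pow_one] at hk'
        haveI : IsCyclic (P : Subgroup G) := isCyclic_of_prime_card hk'
        intro x y
        exact IsCyclic.commGroup.mul_comm x y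
      · intro x y
        exact (IsPGroup.isMulCommutative_of_card_eq_prime_sq hk').is_comm.comm x y
    exact congrArg Subtype.val (key ⟨a, ha⟩ ⟨b, hb⟩)
  by_cases hN : Subgroup.normalizer (P : Set G) ≤ Subgroup.centralizer (P : Set G)
  · exfalso
    have hcompl := MonoidHom.ker_transferSylow_isComplement' P hN
    have hcm := hcompl.card_mul_card
    rcases (MonoidHom.normal_ker (MonoidHom.transferSylow P hN)).eq_bot_or_eq_top with h | h
    · rw [h, Subgroup.card_bot, one_mul] at hcm
      have htop : (P : Subgroup G) = ⊤ := (Subgroup.card_eq_iff_eq_top _).mp hcm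
      exact hxy (hcomm x0 (htop ▸ Subgroup.mem_top x0) y0 (htop ▸ Subgroup.mem_top y0))
    · rw [h, Subgroup.card_top] at hcm
      have hpos : 0 < Nat.card G := Nat.card_pos
      have h1 : Nat.card (P : Subgroup G) = 1 := by
        have : Nat.card G * Nat.card (P : Subgroup G) = Nat.card G * 1 := by rw [hcm, mul_one]
        exact Nat.eq_of_mul_eq_mul_left hpos this
      rw [hk'] at h1
      have : p ^ k ≠ 1 := by
        have := Nat.one_lt_pow hk0 hp.one_lt
        omega
      exact this h1
  obtain ⟨q, hq, hqp, hqG, α, hα⟩ :=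
    Cfsg.Agent.Helper9.exists_prime_aut_of_not_le_centralizer P hcomm hN
  obtain ⟨d, hd1, hd2, hd3⟩ := Cfsg.Agent.Helper9.prime_order_aut_card α q hq hα
  rw [hk'] at hd1 hd2 hd3
  have hpq : p < q := by
    have : p ≤ q := Nat.minFac_le_of_dvd hq.two_le hqG
    omega
  obtain ⟨j, hjk, rfl⟩ := (Nat.dvd_prime_pow hp).mp hd1
  have hjk' : j < k := by
    by_contra h
    have : j = k := le_antisymm hjk (not_lt.mp h)
    rw [this] at hd2
    exact lt_irrefl _ hd2
  -- q does not divide p - 1
  have hqp1 : ¬ q ∣ p - 1 := by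
    intro h
    have hpos : 0 < p - 1 := by have := hp.two_le; omega
    have := Nat.le_of_dvd hpos h
    omega
  have hqnp : ¬ q ∣ p := by
    intro h
    exact hqp ((Nat.prime_dvd_prime_iff_eq hq hp).mp h)
  have hp1 : 1 ≤ p := hp.one_lt.le
  rcases hk12 with rfl | rfl
  · -- k = 1, j = 0
    have hj : j = 0 := by omega
    subst hj
    rw [pow_one, pow_zero] at hd3
    exact absurd hd3 hqp1
  · have hj : j = 0 ∨ j = 1 := by omega
    rcases hj with rfl | rfl
    · rw [pow_zero] at hd3
      rw [hfac1 p hp1] at hd3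
      rcases (Nat.Prime.dvd_mul hq).mp hd3 with h | h
      · exact absurd h hqp1
      · have hle := Nat.le_of_dvd (by omega) h
        have hq_eq : q = p + 1 := by omega
        -- p and p + 1 both prime → p = 2
        have hp2 : p = 2 := by
          rcases hp.eq_two_or_odd with h2 | hodd
          · exact h2
          · exfalso
            have hqeven : 2 ∣ q := by
              rw [hq_eq]; omega
            have := (Nat.prime_dvd_prime_iff_eq Nat.prime_two hq).mp hqeven
            have := hp.two_le
            omega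
        have hq3 : q = 3 := by omega
        have h4 : 4 ∣ Nat.card G := by
          have := hPG
          rw [hp2] at this
          exact this
        have h3 : 3 ∣ Nat.card G := hq3 ▸ hqG
        exact Nat.Coprime.mul_dvd_of_dvd_of_dvd (by norm_num : Nat.Coprime 4 3) h4 h3
    · rw [pow_one] at hd3
      rw [hfac2 p hp1] at hd3
      rcases (Nat.Prime.dvd_mul hq).mp hd3 with h | h
      · exact absurd h hqnp
      · exact absurd h hqp1

end Cfsg.Agent.S0073
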