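import Cfsg.Statements.S0499
import Cfsg.Agent.S0071
import Cfsg.Agent.Helper9.Burnside

set_option autoImplicit false
set_option linter.style.haveILetI false
open Cfsg

namespace Cfsg.Agent.S0499

/-- arithmetic core: an odd prime `q` dividing `2 ^ a - d` for a proper divisor `d` of `2 ^ a`,
`a ≤ 3`. -/
theorem arith_aux (c d q : ℕ) (hc : c = 1 ∨ c = 2 ∨ c = 4 ∨ c = 8) (hd1 : d ∣ c) (hd2 : d < c)
    (hq : q.Prime) (hq2 : q ≠ 2) (hq3 : q ∣ c - d) :
    (q = 3 ∧ 4 ∣ c) ∨ (q = 7 ∧ c = 8) := by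
  have hdle : d ≤ 7 := by rcases hc with h | h | h | h <;> omega
  have h2 : ¬ q ∣ 2 := fun h => hq2 ((Nat.prime_dvd_prime_iff_eq hq Nat.prime_two).mp h)
  have h4 : ¬ q ∣ 4 := fun h => by
    have : q ∣ 2 * 2 := h
    rcases (Nat.Prime.dvd_mul hq).mp this with h | h <;> exact h2 h
  have h1 : ¬ q ∣ 1 := fun h => hq.one_lt.ne' (Nat.dvd_one.mp h)
  have h6 : q ∣ 6 → q = 3 := fun h => by
    have : q ∣ 2 * 3 := h
    rcases (Nat.Prime.dvd_mul hq).mp this with h | h
    · exact absurd h h2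
    · exact (Nat.prime_dvd_prime_iff_eq hq Nat.prime_three).mp h
  have h3 : q ∣ 3 → q = 3 := fun h => (Nat.prime_dvd_prime_iff_eq hq Nat.prime_three).mp h
  have h7 : q ∣ 7 → q = 7 := fun h => (Nat.prime_dvd_prime_iff_eq hq (by norm_num)).mp h
  rcases hc with rfl | rfl | rfl | rfl
  · interval_cases d <;> simp_all
  · interval_cases d <;> simp_all
  · interval_cases d
    · simp at hd1
    · left; exact ⟨h3 hq3, dvd_rfl⟩
    · exact absurd hq3 h2
    · omega
  · interval_cases d
    · simp at hd1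
    · right; exact ⟨h7 hq3, rfl⟩
    · left; exact ⟨h6 hq3, by norm_num⟩
    · norm_num at hd1
    · exact absurd hq3 h4
    · norm_num at hd1
    · norm_num at hd1
    · norm_num at hd1

/-- A non-abelian finite simple group of even order has order divisible by 12, 16 or 56. -/
theorem result {G : Type*} [Group G] [Finite G] [IsSimpleGroup G]
    (hG : ¬ IsMulCommutative G) (h2 : Even (Nat.card G)) :
    12 ∣ Nat.card G ∨ 16 ∣ Nat.card G ∨ 56 ∣ Nat.card G := by
  haveI : Fact (Nat.Prime 2) := ⟨Nat.prime_two⟩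
  by_cases h16 : 16 ∣ Nat.card G
  · exact Or.inr (Or.inl h16)
  have h2dvd : 2 ∣ Nat.card G := even_iff_two_dvd.mp h2
  obtain ⟨P⟩ : Nonempty (Sylow 2 G) := inferInstance
  have hPcard := P.card_eq_multiplicity
  have hfac : (Nat.card G).factorization 2 ≤ 3 := by
    by_contra hlt
    push Not at hlt
    apply h16
    have : 2 ^ 4 ∣ Nat.card G :=
      (pow_dvd_pow 2 hlt).trans (Nat.ordProj_dvd (Nat.card G) 2)
    simpa using this
  -- no normal 2-complement
  have hno : ¬ ∃ N : Subgroup G, N.Normal ∧ N.IsComplement' (P : Subgroup G) := by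
    rintro ⟨N, hN, hc⟩
    have hmul := hc.card_mul_card
    rcases hN.eq_bot_or_eq_top with h | h
    · -- P = ⊤, G is a 2-group, hence abelian
      rw [h, Subgroup.card_bot, one_mul] at hmul
      have hPtop : (P : Subgroup G) = ⊤ := Subgroup.eq_top_of_card_eq _ hmul
      have hG2 : IsPGroup 2 G := by
        have := P.isPGroup'
        rw [hPtop] at this
        exact this.of_equiv Subgroup.topEquiv
      haveI : Nontrivial G := IsSimpleGroup.toNontrivial
      haveI := hG2.center_nontrivial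
      have hcen : Subgroup.center G = ⊤ := by
        rcases (inferInstance : (Subgroup.center G).Normal).eq_bot_or_eq_top with h' | h'
        · exfalso
          exact (Subgroup.nontrivial_iff_ne_bot _).mp inferInstance h'
        · exact h'
      apply hG
      refine ⟨⟨fun a b => ?_⟩⟩
      have : b ∈ Subgroup.center G := by rw [hcen]; trivial
      exact (Subgroup.mem_center_iff.mp this a)
    · rw [h, Subgroup.card_top] at hmul
      have hP1 : Nat.card (P : Subgroup G) = 1 := by
        have hpos : 0 < Nat.card G := Nat.card_pos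
        exact Nat.eq_of_mul_eq_mul_left hpos (by rw [hmul, mul_one])
      exact P.ne_bot_of_dvd_card h2dvd (Subgroup.card_eq_one.mp hP1)
  rw [Cfsg.Agent.S0071.result P] at hno
  push Not at hno
  obtain ⟨Q, hQP, g, hgN, hgcop, hgC⟩ := hno
  -- the automorphism of Q induced by g
  set x : MulAut Q := Q.normalizerMonoidHom ⟨g, hgN⟩ with hx
  have hx1 : x ≠ 1 := by
    intro h
    have : (⟨g, hgN⟩ : Subgroup.normalizer (Q : Set G)) ∈ Q.normalizerMonoidHom.ker := h
    rw [Subgroup.normalizerMonoidHom_ker, Subgroup.mem_subgroupOf] at this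
    exact hgC this
  have hxdvd : orderOf x ∣ orderOf g := by
    have h1 : orderOf x ∣ orderOf (⟨g, hgN⟩ : Subgroup.normalizer (Q : Set G)) :=
      orderOf_map_dvd _ _
    rwa [Subgroup.orderOf_mk] at h1
  have hxpos : orderOf x ≠ 0 := (orderOf_pos x).ne'
  have hxne1 : orderOf x ≠ 1 := fun h => hx1 (orderOf_eq_one_iff.mp h)
  set q := (orderOf x).minFac with hq
  have hqp : q.Prime := Nat.minFac_prime hxne1
  have hqdvd : q ∣ orderOf x := Nat.minFac_dvd _
  have hq2 : q ≠ 2 := by
    intro h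
    have h3 : 2 ∣ orderOf g := h ▸ hqdvd.trans hxdvd
    have := Nat.Coprime.eq_one_of_dvd hgcop.symm h3
    omega
  have hqG : q ∣ Nat.card G := (hqdvd.trans hxdvd).trans (orderOf_dvd_natCard g)
  have hα : orderOf (x ^ (orderOf x / q)) = q := orderOf_pow_orderOf_div hxpos hqdvd
  obtain ⟨d, hd1, hd2, hd3⟩ :=
    Cfsg.Agent.Helper9.prime_order_aut_card (x ^ (orderOf x / q)) q hqp hα
  -- the order of Q
  have hQdvd : Nat.card Q ∣ 2 ^ (Nat.card G).factorization 2 := by
    rw [← hPcard]; exact Subgroup.card_dvd_of_le hQP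
  obtain ⟨j, hj, hQj⟩ := (Nat.dvd_prime_pow Nat.prime_two).mp hQdvd
  have hc : Nat.card Q = 1 ∨ Nat.card Q = 2 ∨ Nat.card Q = 4 ∨ Nat.card Q = 8 := by
    rw [hQj]
    have : j ≤ 3 := hj.trans hfac
    interval_cases j <;> simp
  have hQG : Nat.card Q ∣ Nat.card G := Subgroup.card_subgroup_dvd_card Q
  rcases arith_aux _ d q hc hd1 hd2 hqp hq2 hd3 with ⟨hq3, h4⟩ | ⟨hq7, h8⟩
  · left
    have h4G : 4 ∣ Nat.card G := h4.trans hQG
    rw [hq3] at hqG
    exact Nat.Coprime.mul_dvd_of_dvd_of_dvd (by norm_num : Nat.Coprime 3 4) hqG h4G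
  · right; right
    have h8G : 8 ∣ Nat.card G := h8 ▸ hQG
    rw [hq7] at hqG
    exact Nat.Coprime.mul_dvd_of_dvd_of_dvd (by norm_num : Nat.Coprime 7 8) hqG h8G

end Cfsg.Agent.S0499
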