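import Cfsg.Statements.S0496
import Mathlib
import Cfsg.Agent.Helper27.OrdEasy
import Cfsg.Agent.Helper27.OrdBrauerKill
import Cfsg.Agent.Helper27.OrdBrauerKill2
import Cfsg.Agent.Helper24.NoSimple1008
import Cfsg.Agent.Helper11.NoSimple1080
import Cfsg.Agent.Helper27.O720D
import Cfsg.Agent.S0499
import Cfsg.Agent.S0073

set_option autoImplicit false
set_option maxHeartbeats 1000000
open Cfsg

namespace Cfsg.Agent.S0496

open Cfsg.Agent.Helper27.Ord

variable {G : Type*} [Group G] [Finite G] [IsSimpleGroup G]

/-- the target disjunction -/
abbrev Goal (n : ℕ) : Prop :=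
  n = 60 ∨ n = 168 ∨ n = 360 ∨ n = 504 ∨ n = 660 ∨ n = 1092

theorem even12 (hG : ¬ IsMulCommutative G) (k : ℕ) (hk : Nat.card G = 12 * k)
    (hle : Nat.card G ≤ 1092) : Goal (Nat.card G) := by
  have hk' : k ≤ 91 := by omega
  have hpos : 0 < Nat.card G := Nat.card_pos
  interval_cases k
  · omega
  · exact (no_12 hG (by omega)).elim
  · exact (no_24 hG (by omega)).elim
  · exact (no_36 hG (by omega)).elim
  · exact (no_48 hG (by omega)).elim
  · unfold Goal; omega
  · exact (no_72 hG (by omega)).elim
  · exact (no_84 hG (by omega)).elim
  · exact (no_96 hG (by omega)).elim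
  · exact (no_108 hG (by omega)).elim
  · exact (no_120 hG (by omega)).elim
  · exact (no_132 hG (by omega)).elim
  · exact (no_144 hG (by omega)).elim
  · exact (no_156 hG (by omega)).elim
  · unfold Goal; omega
  · exact (no_180 hG (by omega)).elim
  · exact (no_192 hG (by omega)).elim
  · exact (no_204 hG (by omega)).elim
  · exact (no_216 hG (by omega)).elim
  · exact (no_228 hG (by omega)).elim
  · exact (no_240 hG (by omega)).elim
  · exact (no_252 hG (by omega)).elim
  · exact (no_264 hG (by omega)).elim
  · exact (no_276 hG (by omega)).elim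
  · exact (no_288 hG (by omega)).elim
  · exact (no_300 hG (by omega)).elim
  · exact (no_312 hG (by omega)).elim
  · exact (no_324 hG (by omega)).elim
  · exact (no_336 hG (by omega)).elim
  · exact (no_348 hG (by omega)).elim
  · unfold Goal; omega
  · exact (no_372 hG (by omega)).elim
  · exact (no_384 hG (by omega)).elim
  · exact (no_396 hG (by omega)).elim
  · exact (no_408 hG (by omega)).elim
  · exact (no_420 hG (by omega)).elim
  · exact (no_432 hG (by omega)).elim
  · exact (no_444 hG (by omega)).elim
  · exact (no_456 hG (by omega)).elim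
  · exact (no_468 hG (by omega)).elim
  · exact (no_480 hG (by omega)).elim
  · exact (no_492 hG (by omega)).elim
  · unfold Goal; omega
  · exact (no_516 hG (by omega)).elim
  · exact (no_528 hG (by omega)).elim
  · exact (no_540 hG (by omega)).elim
  · exact (no_552 hG (by omega)).elim
  · exact (no_564 hG (by omega)).elim
  · exact (no_576 hG (by omega)).elim
  · exact (no_588 hG (by omega)).elim
  · exact (no_600 hG (by omega)).elim
  · exact (no_612 hG (by omega)).elim
  · exact (no_624 hG (by omega)).elim
  · exact (no_636 hG (by omega)).elim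
  · exact (no_648 hG (by omega)).elim
  · unfold Goal; omega
  · exact (no_672 hG (by omega)).elim
  · exact (no_684 hG (by omega)).elim
  · exact (no_696 hG (by omega)).elim
  · exact (no_708 hG (by omega)).elim
  · exact (Cfsg.Agent.Helper27.O720.no_720 (by omega)).elim
  · exact (no_732 hG (by omega)).elim
  · exact (no_744 hG (by omega)).elim
  · exact (no_756 hG (by omega)).elim
  · exact (no_768 hG (by omega)).elim
  · exact (no_780 hG (by omega)).elim
  · exact (no_792 hG (by omega)).elim
  · exact (no_804 hG (by omega)).elim
  · exact (no_816 hG (by omega)).elim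
  · exact (no_828 hG (by omega)).elim
  · exact (no_840 hG (by omega)).elim
  · exact (no_852 hG (by omega)).elim
  · exact (no_864 hG (by omega)).elim
  · exact (no_876 hG (by omega)).elim
  · exact (no_888 hG (by omega)).elim
  · exact (no_900 hG (by omega)).elim
  · exact (no_912 hG (by omega)).elim
  · exact (no_924 hG (by omega)).elim
  · exact (no_936 hG (by omega)).elim
  · exact (no_948 hG (by omega)).elim
  · exact (no_960 hG (by omega)).elim
  · exact (no_972 hG (by omega)).elim
  · exact (no_984 hG (by omega)).elim
  · exact (no_996 hG (by omega)).elim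
  · exact (Cfsg.Agent.Helper24.NoSimple1008.no_simple_1008 (by omega)).elim
  · exact (no_1020 hG (by omega)).elim
  · exact (no_1032 hG (by omega)).elim
  · exact (no_1044 hG (by omega)).elim
  · exact (no_1056 hG (by omega)).elim
  · exact (no_1068 hG (by omega)).elim
  · exact (Cfsg.Agent.Helper11.NoSimple1080.no_simple_1080 (by omega)).elim
  · unfold Goal; omega

theorem even16 (hG : ¬ IsMulCommutative G) (k : ℕ) (hk : Nat.card G = 16 * k)
    (hle : Nat.card G ≤ 1092) : Goal (Nat.card G) := by
  have hk' : k ≤ 68 := by omega
  have hpos : 0 < Nat.card G := Nat.card_pos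
  interval_cases k
  · omega
  · exact (no_16 hG (by omega)).elim
  · exact (no_32 hG (by omega)).elim
  · exact (no_48 hG (by omega)).elim
  · exact (no_64 hG (by omega)).elim
  · exact (no_80 hG (by omega)).elim
  · exact (no_96 hG (by omega)).elim
  · exact (no_112 hG (by omega)).elim
  · exact (no_128 hG (by omega)).elim
  · exact (no_144 hG (by omega)).elim
  · exact (no_160 hG (by omega)).elim
  · exact (no_176 hG (by omega)).elim
  · exact (no_192 hG (by omega)).elim
  · exact (no_208 hG (by omega)).elim
  · exact (no_224 hG (by omega)).elim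
  · exact (no_240 hG (by omega)).elim
  · exact (no_256 hG (by omega)).elim
  · exact (no_272 hG (by omega)).elim
  · exact (no_288 hG (by omega)).elim
  · exact (no_304 hG (by omega)).elim
  · exact (no_320 hG (by omega)).elim
  · exact (no_336 hG (by omega)).elim
  · exact (no_352 hG (by omega)).elim
  · exact (no_368 hG (by omega)).elim
  · exact (no_384 hG (by omega)).elim
  · exact (no_400 hG (by omega)).elim
  · exact (no_416 hG (by omega)).elim
  · exact (no_432 hG (by omega)).elim
  · exact (no_448 hG (by omega)).elim
  · exact (no_464 hG (by omega)).elim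
  · exact (no_480 hG (by omega)).elim
  · exact (no_496 hG (by omega)).elim
  · exact (no_512 hG (by omega)).elim
  · exact (no_528 hG (by omega)).elim
  · exact (no_544 hG (by omega)).elim
  · exact (no_560 hG (by omega)).elim
  · exact (no_576 hG (by omega)).elim
  · exact (no_592 hG (by omega)).elim
  · exact (no_608 hG (by omega)).elim
  · exact (no_624 hG (by omega)).elim
  · exact (no_640 hG (by omega)).elim
  · exact (no_656 hG (by omega)).elim
  · exact (no_672 hG (by omega)).elim
  · exact (no_688 hG (by omega)).elim
  · exact (no_704 hG (by omega)).elim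
  · exact (Cfsg.Agent.Helper27.O720.no_720 (by omega)).elim
  · exact (no_736 hG (by omega)).elim
  · exact (no_752 hG (by omega)).elim
  · exact (no_768 hG (by omega)).elim
  · exact (no_784 hG (by omega)).elim
  · exact (no_800 hG (by omega)).elim
  · exact (no_816 hG (by omega)).elim
  · exact (no_832 hG (by omega)).elim
  · exact (no_848 hG (by omega)).elim
  · exact (no_864 hG (by omega)).elim
  · exact (no_880 hG (by omega)).elim
  · exact (no_896 hG (by omega)).elim
  · exact (no_912 hG (by omega)).elim
  · exact (no_928 hG (by omega)).elim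
  · exact (no_944 hG (by omega)).elim
  · exact (no_960 hG (by omega)).elim
  · exact (no_976 hG (by omega)).elim
  · exact (no_992 hG (by omega)).elim
  · exact (Cfsg.Agent.Helper24.NoSimple1008.no_simple_1008 (by omega)).elim
  · exact (no_1024 hG (by omega)).elim
  · exact (no_1040 hG (by omega)).elim
  · exact (no_1056 hG (by omega)).elim
  · exact (no_1072 hG (by omega)).elim
  · exact (no_1088 hG (by omega)).elim

theorem even56 (hG : ¬ IsMulCommutative G) (k : ℕ) (hk : Nat.card G = 56 * k)
    (hle : Nat.card G ≤ 1092) : Goal (Nat.card G) := by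
  have hk' : k ≤ 19 := by omega
  have hpos : 0 < Nat.card G := Nat.card_pos
  interval_cases k
  · omega
  · exact (no_56 hG (by omega)).elim
  · exact (no_112 hG (by omega)).elim
  · unfold Goal; omega
  · exact (no_224 hG (by omega)).elim
  · exact (no_280 hG (by omega)).elim
  · exact (no_336 hG (by omega)).elim
  · exact (no_392 hG (by omega)).elim
  · exact (no_448 hG (by omega)).elim
  · unfold Goal; omega
  · exact (no_560 hG (by omega)).elim
  · exact (no_616 hG (by omega)).elim
  · exact (no_672 hG (by omega)).elim
  · exact (no_728 hG (by omega)).elim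
  · exact (no_784 hG (by omega)).elim
  · exact (no_840 hG (by omega)).elim
  · exact (no_896 hG (by omega)).elim
  · exact (no_952 hG (by omega)).elim
  · exact (Cfsg.Agent.Helper24.NoSimple1008.no_simple_1008 (by omega)).elim
  · exact (no_1064 hG (by omega)).elim

theorem odd27 (hG : ¬ IsMulCommutative G) (k : ℕ) (hk : Nat.card G = 27 * k)
    (hle : Nat.card G ≤ 1092) (hodd : ¬ Even (Nat.card G)) : Goal (Nat.card G) := by
  have hk' : k ≤ 40 := by omega
  have hpos : 0 < Nat.card G := Nat.card_pos
  interval_cases k
  · omega
  · exact (no_27 hG (by omega)).elim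
  · exact (hodd (by rw [hk]; decide)).elim
  · exact (no_81 hG (by omega)).elim
  · exact (hodd (by rw [hk]; decide)).elim
  · exact (no_135 hG (by omega)).elim
  · exact (hodd (by rw [hk]; decide)).elim
  · exact (no_189 hG (by omega)).elim
  · exact (hodd (by rw [hk]; decide)).elim
  · exact (no_243 hG (by omega)).elim
  · exact (hodd (by rw [hk]; decide)).elim
  · exact (no_297 hG (by omega)).elim
  · exact (hodd (by rw [hk]; decide)).elim
  · exact (no_351 hG (by omega)).elim
  · exact (hodd (by rw [hk]; decide)).elim
  · exact (no_405 hG (by omega)).elim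
  · exact (hodd (by rw [hk]; decide)).elim
  · exact (no_459 hG (by omega)).elim
  · exact (hodd (by rw [hk]; decide)).elim
  · exact (no_513 hG (by omega)).elim
  · exact (hodd (by rw [hk]; decide)).elim
  · exact (no_567 hG (by omega)).elim
  · exact (hodd (by rw [hk]; decide)).elim
  · exact (no_621 hG (by omega)).elim
  · exact (hodd (by rw [hk]; decide)).elim
  · exact (no_675 hG (by omega)).elim
  · exact (hodd (by rw [hk]; decide)).elim
  · exact (no_729 hG (by omega)).elim
  · exact (hodd (by rw [hk]; decide)).elim
  · exact (no_783 hG (by omega)).elim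
  · exact (hodd (by rw [hk]; decide)).elim
  · exact (no_837 hG (by omega)).elim
  · exact (hodd (by rw [hk]; decide)).elim
  · exact (no_891 hG (by omega)).elim
  · exact (hodd (by rw [hk]; decide)).elim
  · exact (no_945 hG (by omega)).elim
  · exact (hodd (by rw [hk]; decide)).elim
  · exact (no_999 hG (by omega)).elim
  · exact (hodd (by rw [hk]; decide)).elim
  · exact (no_1053 hG (by omega)).elim
  · exact (hodd (by rw [hk]; decide)).elim

theorem odd125 (hG : ¬ IsMulCommutative G) (k : ℕ) (hk : Nat.card G = 125 * k)
    (hle : Nat.card G ≤ 1092) (hodd : ¬ Even (Nat.card G)) : Goal (Nat.card G) := by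
  have hk' : k ≤ 8 := by omega
  have hpos : 0 < Nat.card G := Nat.card_pos
  interval_cases k
  · omega
  · exact (no_125 hG (by omega)).elim
  · exact (hodd (by rw [hk]; decide)).elim
  · exact (no_375 hG (by omega)).elim
  · exact (hodd (by rw [hk]; decide)).elim
  · exact (no_625 hG (by omega)).elim
  · exact (hodd (by rw [hk]; decide)).elim
  · exact (no_875 hG (by omega)).elim
  · exact (hodd (by rw [hk]; decide)).elim

theorem odd343 (hG : ¬ IsMulCommutative G) (k : ℕ) (hk : Nat.card G = 343 * k)
    (hle : Nat.card G ≤ 1092) (hodd : ¬ Even (Nat.card G)) : Goal (Nat.card G) := by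
  have hk' : k ≤ 3 := by omega
  have hpos : 0 < Nat.card G := Nat.card_pos
  interval_cases k
  · omega
  · exact (no_343 hG (by omega)).elim
  · exact (hodd (by rw [hk]; decide)).elim
  · exact (no_1029 hG (by omega)).elim

/-- A non-abelian finite simple group of order at most 1092 has order 60, 168, 360, 504, 660 or 1092. -/
theorem result {G : Type*} [Group G] [Finite G] [IsSimpleGroup G]
    (hG : ¬ IsMulCommutative G) (h : Nat.card G ≤ 1092) :
    Nat.card G = 60 ∨ Nat.card G = 168 ∨ Nat.card G = 360 ∨ Nat.card G = 504 ∨ Nat.card G = 660 ∨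
      Nat.card G = 1092 := by
  have hpos : 0 < Nat.card G := Nat.card_pos
  by_cases he : Even (Nat.card G)
  · rcases Cfsg.Agent.S0499.result hG he with ⟨k, hk⟩ | ⟨k, hk⟩ | ⟨k, hk⟩
    · exact even12 hG k hk h
    · exact even16 hG k hk h
    · exact even56 hG k hk h
  · have hnc : ∃ x y : G, x * y ≠ y * x := by
      by_contra hcon
      push Not at hcon
      exact hG ⟨⟨hcon⟩⟩
    have hne1 : Nat.card G ≠ 1 := by
      have : 1 < Nat.card G := Finite.one_lt_card
      omega
    have hqp : (Nat.card G).minFac.Prime := Nat.minFac_prime hne1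
    have hq2 : (Nat.card G).minFac ≠ 2 := by
      intro h2
      apply he
      rw [even_iff_two_dvd, ← h2]
      exact Nat.minFac_dvd _
    rcases Cfsg.Agent.S0073.result hnc with h3 | h12
    · generalize hq : (Nat.card G).minFac = q at hqp hq2 h3
      have hq3 : q ^ 3 ≤ 1092 := le_trans (Nat.le_of_dvd hpos h3) h
      have hq10 : q ≤ 10 := by
        by_contra hcon
        push Not at hcon
        have : 11 ^ 3 ≤ q ^ 3 := Nat.pow_le_pow_left hcon 3
        omega
      obtain ⟨k, hk⟩ := h3
      interval_cases q
      · exact absurd hqp (by norm_num)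
      · exact absurd hqp (by norm_num)
      · exact absurd rfl hq2
      · exact odd27 hG k (by rw [hk]; norm_num) h he
      · exact absurd hqp (by norm_num)
      · exact odd125 hG k (by rw [hk]; norm_num) h he
      · exact absurd hqp (by norm_num)
      · exact odd343 hG k (by rw [hk]; norm_num) h he
      · exact absurd hqp (by norm_num)
      · exact absurd hqp (by norm_num)
      · exact absurd hqp (by norm_num)
    · exfalso
      apply he
      rw [even_iff_two_dvd]
      exact Dvd.dvd.trans (by norm_num) h12

end Cfsg.Agent.S0496
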