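import Mathlib
import Cfsg.Statements.S4200
import Cfsg.Agent.Helper21.ClassNumber

set_option autoImplicit false
open Cfsg

namespace Cfsg.Agent.S4200

open Cfsg.Agent.Helper21 Finset
open scoped Classical

/-- For Y ≤ X of index m: k(Y) ≤ m·k(X) and k(X) ≤ m·k(Y), the latter strict unless Y ⊴ X. -/
theorem result {X : Type*} [Group X] [Finite X] (Y : Subgroup X) : Nat.card (ConjClasses Y) ≤ Y.index * Nat.card (ConjClasses X) ∧ Nat.card (ConjClasses X) ≤ Y.index * Nat.card (ConjClasses Y) ∧ (¬ Y.Normal → Nat.card (ConjClasses X) < Y.index * Nat.card (ConjClasses Y)) := by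
  have : Fintype X := Fintype.ofFinite X
  set m := Y.index with hm
  set kX := Nat.card (ConjClasses X) with hkX
  set kY := Nat.card (ConjClasses Y) with hkY
  have hcard : Nat.card Y * m = Nat.card X := Y.card_mul_index
  have hYpos : 0 < Nat.card Y := Nat.card_pos
  have hmpos : 0 < m := Nat.pos_of_ne_zero Subgroup.index_ne_zero_of_finite
  have hX : cpairs (univ : Finset X) univ = kX * Nat.card X := cpairs_univ_univ
  have hY : cpairs (sset Y) (sset Y) = kY * Nat.card Y := cpairs_sset_sset Y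
  have h1 : cpairs (sset Y) (sset Y) ≤ cpairs (univ : Finset X) univ :=
    le_trans (cpairs_mono_left _ (Finset.subset_univ _)) (cpairs_mono_right _ (Finset.subset_univ _))
  have h2 : cpairs (univ : Finset X) univ ≤ m * cpairs (sset Y) univ := by
    rw [cpairs_comm (sset Y) univ]
    exact cpairs_univ_le Y univ
  have h3 : cpairs (sset Y) univ ≤ m * cpairs (sset Y) (sset Y) := cpairs_univ_le Y (sset Y)
  refine ⟨?_, ?_, ?_⟩
  · -- kY * |Y| ≤ kX * |X| = kX * |Y| * m
    rw [hX, hY, ← hcard] at h1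
    have : kY * Nat.card Y ≤ (m * kX) * Nat.card Y := by
      calc kY * Nat.card Y ≤ kX * (Nat.card Y * m) := h1
        _ = (m * kX) * Nat.card Y := by ring
    exact Nat.le_of_mul_le_mul_right this hYpos
  · have h4 : kX * (Nat.card Y * m) ≤ m * (m * (kY * Nat.card Y)) := by
      rw [hcard, ← hX, ← hY]
      exact le_trans h2 (Nat.mul_le_mul_left m h3)
    have h5 : kX * (Nat.card Y * m) ≤ (m * kY) * (Nat.card Y * m) := by
      calc kX * (Nat.card Y * m) ≤ m * (m * (kY * Nat.card Y)) := h4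
        _ = (m * kY) * (Nat.card Y * m) := by ring
    exact Nat.le_of_mul_le_mul_right h5 (Nat.mul_pos hYpos hmpos)
  · intro hn
    have hex : ∃ y ∈ Y, ∃ g : X, g * y * g⁻¹ ∉ Y := by
      by_contra hcon
      push Not at hcon
      exact hn ⟨fun y hy g => hcon y hy g⟩
    obtain ⟨y, hy, g, hg⟩ := hex
    have hstrict : ccount y univ < m * ccount y (sset Y) := by
      apply ccount_univ_lt Y y ((g⁻¹ : X) : X ⧸ Y)
      rintro ⟨w₀, hw₀, hq⟩
      rw [QuotientGroup.eq] at hq
      -- hq : w₀⁻¹ * g⁻¹ ∈ Y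
      apply hg
      have hu : g * w₀ ∈ Y := by
        have := Y.inv_mem hq
        rwa [mul_inv_rev, inv_inv, inv_inv] at this
      have : g * y * g⁻¹ = (g * w₀) * y * (g * w₀)⁻¹ := by
        calc g * y * g⁻¹ = g * (y * w₀) * w₀⁻¹ * g⁻¹ := by group
          _ = g * (w₀ * y) * w₀⁻¹ * g⁻¹ := by rw [hw₀]
          _ = (g * w₀) * y * (g * w₀)⁻¹ := by group
      rw [this]
      exact Y.mul_mem (Y.mul_mem hu hy) (Y.inv_mem hu)
    have h3' : cpairs (sset Y) univ < m * cpairs (sset Y) (sset Y) := by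
      unfold cpairs
      rw [Finset.mul_sum]
      apply Finset.sum_lt_sum (fun a _ => ccount_univ_le Y a)
      exact ⟨y, (mem_sset Y y).mpr hy, hstrict⟩
    have h4 : kX * (Nat.card Y * m) < m * (m * (kY * Nat.card Y)) := by
      rw [hcard, ← hX, ← hY]
      exact lt_of_le_of_lt h2 (Nat.mul_lt_mul_of_pos_left h3' hmpos)
    have h5 : kX * (Nat.card Y * m) < (m * kY) * (Nat.card Y * m) := by
      calc kX * (Nat.card Y * m) < m * (m * (kY * Nat.card Y)) := h4
        _ = (m * kY) * (Nat.card Y * m) := by ring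
    exact Nat.lt_of_mul_lt_mul_right h5

end Cfsg.Agent.S4200
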