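import Cfsg.Statements.S0014
import Mathlib
import Cfsg.Agent.Helper1.PGroup
import Cfsg.Agent.Helper1.HallAux

set_option autoImplicit false
open Cfsg

namespace Cfsg.Agent.S0014

section
variable {G : Type*} [Group G] [Finite G] {p : ℕ} [Fact p.Prime]

open Cfsg.Agent.Helper1
open scoped commutatorElement

theorem normal_of_frattini_le (hG : IsPGroup p G) {H : Subgroup G} (h : frattini G ≤ H) :
    H.Normal := by
  refine ⟨fun x hx g => ?_⟩
  have h1 : ⁅g, x⁆ ∈ commutator G :=
    Subgroup.commutator_mem_commutator (Subgroup.mem_top g) (Subgroup.mem_top x)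
  have h2 : ⁅g, x⁆ ∈ H := h (IsPGroup.commutator_le_frattini hG h1)
  have : g * x * g⁻¹ = ⁅g, x⁆ * x := by rw [commutatorElement_def]; group
  rw [this]; exact H.mul_mem h2 hx

/-- step: adjoining `x ∈ H`. -/
theorem card_sup_zpowers_of_mem {H : Subgroup G} (x : G) (hx : x ∈ H) :
    Nat.card (H ⊔ Subgroup.zpowers x : Subgroup G) = Nat.card H := by
  have : H ⊔ Subgroup.zpowers x = H := sup_eq_left.mpr ((Subgroup.zpowers_le).mpr hx)
  rw [this]

/-- step: adjoining `x ∉ H` to `H ≥ Φ`. -/
theorem card_sup_zpowers (hG : IsPGroup p G) {H : Subgroup G} (h : frattini G ≤ H) (x : G)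
    (hx : x ∉ H) :
    Nat.card (H ⊔ Subgroup.zpowers x : Subgroup G) = p * Nat.card H := by
  have hn := normal_of_frattini_le hG h
  have h1 := comap_map_mk' H (Subgroup.zpowers x)
  rw [sup_comm, ← h1, card_comap_mk', MonoidHom.map_zpowers, Nat.card_zpowers]
  congr 1
  apply orderOf_eq_prime
  · rw [← map_pow, QuotientGroup.mk'_apply, QuotientGroup.eq_one_iff]
    exact h (IsPGroup.pow_mem_frattini hG x)
  · rw [QuotientGroup.mk'_apply, Ne, QuotientGroup.eq_one_iff]; exact hx

theorem sup_closure_insert (x : G) (T : Finset G) [DecidableEq G] :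
    frattini G ⊔ Subgroup.closure ((insert x T : Finset G) : Set G) =
      (frattini G ⊔ Subgroup.closure (T : Set G)) ⊔ Subgroup.zpowers x := by
  rw [Finset.coe_insert, Set.insert_eq, Subgroup.closure_union, ← Subgroup.zpowers_eq_closure,
    sup_assoc, sup_comm (Subgroup.zpowers x)]

theorem card_le (hG : IsPGroup p G) (T : Finset G) :
    Nat.card (frattini G ⊔ Subgroup.closure (T : Set G) : Subgroup G) ≤
      Nat.card (frattini G) * p ^ T.card := by
  classical
  induction T using Finset.induction_on with
  | empty => simp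
  | insert x T hx ih =>
    rw [sup_closure_insert, Finset.card_insert_of_notMem hx]
    have hp : 0 < p := (Fact.out : p.Prime).pos
    by_cases hmem : x ∈ frattini G ⊔ Subgroup.closure (T : Set G)
    · rw [card_sup_zpowers_of_mem x hmem]
      calc _ ≤ Nat.card (frattini G) * p ^ T.card := ih
        _ ≤ Nat.card (frattini G) * p ^ (T.card + 1) :=
          Nat.mul_le_mul_left _ (Nat.pow_le_pow_right hp (Nat.le_succ _))
    · rw [card_sup_zpowers hG le_sup_left x hmem]
      calc _ ≤ p * (Nat.card (frattini G) * p ^ T.card) := Nat.mul_le_mul_left _ ih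
        _ = Nat.card (frattini G) * p ^ (T.card + 1) := by ring

theorem card_eq (hG : IsPGroup p G) (T : Finset G) [DecidableEq G]
    (hirr : ∀ x ∈ T, x ∉ frattini G ⊔ Subgroup.closure ((T.erase x : Finset G) : Set G)) :
    ∀ T' : Finset G, T' ⊆ T →
      Nat.card (frattini G ⊔ Subgroup.closure (T' : Set G) : Subgroup G) =
        Nat.card (frattini G) * p ^ T'.card := by
  intro T'
  induction T' using Finset.induction_on with
  | empty => intro _; simp
  | insert x T' hx ih =>
    intro hsub
    have hxT : x ∈ T := hsub (Finset.mem_insert_self x T')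
    have hT'T : T' ⊆ T := (Finset.subset_insert x T').trans hsub
    have hsub' : T' ⊆ T.erase x := by
      intro y hy
      rw [Finset.mem_erase]
      exact ⟨fun h => hx (h ▸ hy), hT'T hy⟩
    have hxn : x ∉ frattini G ⊔ Subgroup.closure (T' : Set G) := by
      intro hmem
      apply hirr x hxT
      exact (sup_le_sup_left (Subgroup.closure_mono (Finset.coe_subset.mpr hsub')) _) hmem
    rw [sup_closure_insert, card_sup_zpowers hG le_sup_left x hxn, ih hT'T,
      Finset.card_insert_of_notMem hx]
    ring

end

/-- Burnside's basis Theorem: in a finite p-group whose Frattini quotient has order p ^ n, every generating set contains n elements that already generate, and no set with fewer than n elements generates. -/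
theorem result {G : Type*} [Group G] [Finite G] (p n : ℕ) [Fact p.Prime]
    (hG : IsPGroup p G) (hn : (frattini G).index = p ^ n) :
    (∀ S : Finset G, Subgroup.closure (S : Set G) = ⊤ → ∃ T : Finset G, T ⊆ S ∧ T.card = n ∧ Subgroup.closure (T : Set G) = ⊤) ∧
    (∀ T : Finset G, Subgroup.closure (T : Set G) = ⊤ → n ≤ T.card) := by
  classical
  have hp1 : 1 < p := (Fact.out : p.Prime).one_lt
  have hcardG : Nat.card G = Nat.card (frattini G) * p ^ n := by
    rw [← hn, Subgroup.card_mul_index]
  have hΦpos : 0 < Nat.card (frattini G) := Nat.card_pos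
  have htopcard : ∀ T : Finset G, Subgroup.closure (T : Set G) = ⊤ →
      Nat.card (frattini G ⊔ Subgroup.closure (T : Set G) : Subgroup G) =
        Nat.card (frattini G) * p ^ n := by
    intro T hT
    rw [hT, sup_top_eq, Subgroup.card_top, hcardG]
  have part2 : ∀ T : Finset G, Subgroup.closure (T : Set G) = ⊤ → n ≤ T.card := by
    intro T hT
    have h1 := card_le hG T
    rw [htopcard T hT] at h1
    have h2 : p ^ n ≤ p ^ T.card := Nat.le_of_mul_le_mul_left h1 hΦpos
    exact (Nat.pow_le_pow_iff_right hp1).mp h2
  refine ⟨?_, part2⟩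
  intro S hS
  -- minimal generating subset
  let C : Finset (Finset G) := S.powerset.filter (fun T : Finset G => Subgroup.closure (T : Set G) = ⊤)
  have hCne : C.Nonempty := ⟨S, by simp [C, hS]⟩
  obtain ⟨T, hTC, hTmin⟩ := Finset.exists_min_image C Finset.card hCne
  have hTS : T ⊆ S := by
    have := (Finset.mem_filter.mp hTC).1
    exact Finset.mem_powerset.mp this
  have hTgen : Subgroup.closure (T : Set G) = ⊤ := (Finset.mem_filter.mp hTC).2
  refine ⟨T, hTS, ?_, hTgen⟩
  have hirr : ∀ x ∈ T, x ∉ frattini G ⊔ Subgroup.closure ((T.erase x : Finset G) : Set G) := by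
    intro x hxT hmem
    have h1 : frattini G ⊔ Subgroup.closure ((insert x (T.erase x) : Finset G) : Set G) =
        frattini G ⊔ Subgroup.closure ((T.erase x : Finset G) : Set G) := by
      rw [sup_closure_insert]
      exact sup_eq_left.mpr ((Subgroup.zpowers_le).mpr hmem)
    rw [Finset.insert_erase hxT, hTgen, sup_top_eq] at h1
    have h2 : Subgroup.closure ((T.erase x : Finset G) : Set G) = ⊤ := by
      apply frattini_nongenerating
      rw [sup_comm]; exact h1.symm
    have h3 : T.erase x ∈ C := by
      simp only [C, Finset.mem_filter, Finset.mem_powerset]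
      exact ⟨(Finset.erase_subset x T).trans hTS, h2⟩
    have h4 := hTmin _ h3
    have h5 := Finset.card_erase_lt_of_mem hxT
    omega
  have h1 := card_eq hG T hirr T (Finset.Subset.refl T)
  rw [htopcard T hTgen] at h1
  have h2 : p ^ n = p ^ T.card := Nat.eq_of_mul_eq_mul_left hΦpos h1
  exact (Nat.pow_right_injective hp1 h2).symm

end Cfsg.Agent.S0014
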