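import Cfsg.Statements.S4381
import Mathlib
import Cfsg.Agent.Helper3.MaschkeExt
import Cfsg.Agent.Helper3.ActSylow
import Cfsg.Agent.Helper3.ComplSystem
import Cfsg.Agent.Helper1.PGroup
import Cfsg.Agent.S0014
import Cfsg.Agent.Helper21.FrattiniAut

set_option autoImplicit false
set_option linter.style.haveILetI false
open Pointwise
open Cfsg
open scoped commutatorElement

namespace Cfsg.Agent.S4381

section
variable (A : Type*) {G : Type*} [Group A] [Group G] [MulDistribMulAction A G]

/-- `L` is `A`-invariant. -/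
def Inv (L : Subgroup G) : Prop := ∀ a : A, ∀ x ∈ L, a • x ∈ L

/-- `M` is a maximal `A`-invariant subgroup. -/
def MaxInv (M : Subgroup G) : Prop :=
  M ≠ ⊤ ∧ (∀ a : A, ∀ x ∈ M, a • x ∈ M) ∧
    ∀ L : Subgroup G, M < L → (∀ a : A, ∀ x ∈ L, a • x ∈ L) → L = ⊤

variable {A}

theorem inv_sup {L K : Subgroup G} (hL : Inv A L) (hK : Inv A K) : Inv A (L ⊔ K) := by
  intro a x hx
  have h1 : (L ⊔ K).map (MulDistribMulAction.toMonoidHom G a) ≤ L ⊔ K := by
    rw [Subgroup.map_sup]
    refine sup_le_sup ?_ ?_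
    · rintro _ ⟨y, hy, rfl⟩
      exact hL a y hy
    · rintro _ ⟨y, hy, rfl⟩
      exact hK a y hy
  exact h1 ⟨x, hx, rfl⟩

theorem inv_frattini : Inv A (frattini G) := by
  intro a x hx
  have h := Subgroup.characteristic_iff_map_eq.mp (frattini_characteristic (G := G))
    (MulDistribMulAction.toMulAut A G a)
  rw [← h]
  exact ⟨x, hx, rfl⟩

theorem exists_maxInv [Finite G] (L : Subgroup G) (hL : L ≠ ⊤) (hLinv : Inv A L) :
    ∃ M : Subgroup G, L ≤ M ∧ MaxInv A M := by
  obtain ⟨M, hLM, hM⟩ := Finite.exists_le_maximal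
    (p := fun K : Subgroup G => K ≠ ⊤ ∧ Inv A K) (a := L) ⟨hL, hLinv⟩
  refine ⟨M, hLM, hM.prop.1, hM.prop.2, ?_⟩
  intro K hMK hK
  by_contra hKtop
  exact absurd (hM.le_of_ge ⟨hKtop, hK⟩ hMK.le) (not_le_of_gt hMK)

theorem maxInv_frattini_le [Finite G] {M : Subgroup G} (hM : MaxInv A M) : frattini G ≤ M := by
  have h1 : Inv A (M ⊔ frattini G) := inv_sup hM.2.1 inv_frattini
  have h2 : M ⊔ frattini G ≠ ⊤ := fun h => hM.1 (frattini_nongenerating h)
  by_contra hle
  have hlt : M < M ⊔ frattini G := by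
    refine lt_of_le_of_ne le_sup_left ?_
    intro h
    apply hle
    rw [h]
    exact le_sup_right
  exact h2 (hM.2.2 _ hlt h1)

theorem maxInv_iff [Finite G]
    (hirr : ∀ L : Subgroup G, frattini G < L → (∀ a : A, ∀ x ∈ L, a • x ∈ L) → L = ⊤)
    (M : Subgroup G) : MaxInv A M ↔ (M = frattini G ∧ M ≠ ⊤) := by
  constructor
  · intro hM
    refine ⟨?_, hM.1⟩
    have hle := maxInv_frattini_le hM
    by_contra hne
    exact hM.1 (hirr M (lt_of_le_of_ne hle (Ne.symm hne)) hM.2.1)
  · rintro ⟨rfl, htop⟩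
    exact ⟨htop, inv_frattini, hirr⟩

theorem pgroup_of_conj [Finite A] [Finite G] (hcop : (Nat.card A).Coprime (Nat.card G))
    (hsol : Group.IsSolvable A ∨ Group.IsSolvable G)
    (hH : ∀ M N : Subgroup G, MaxInv A M → MaxInv A N →
      ∃ c : G, (∀ a : A, a • c = c) ∧ N = MulAut.conj c • M) :
    ∃ p : ℕ, p.Prime ∧ IsPGroup p G := by
  by_contra hno
  push Not at hno
  have hcard : Nat.card G ≠ 1 := by
    intro h1
    apply hno 2 Nat.prime_two
    exact IsPGroup.of_card (n := 0) (by simpa using h1)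
  have key : ∀ q : ℕ, q.Prime → ∃ M : Subgroup G, MaxInv A M ∧ ¬ q ∣ M.index := by
    intro q hq
    haveI := Fact.mk hq
    obtain ⟨P, hP⟩ := Cfsg.Agent.Helper3.exists_invariant_sylow_ext hcop hsol q
    have hPtop : (P : Subgroup G) ≠ ⊤ := by
      intro h
      apply hno q hq
      have h1 := P.isPGroup'
      rw [h] at h1
      exact h1.of_equiv Subgroup.topEquiv
    obtain ⟨M, hPM, hM⟩ := exists_maxInv (P : Subgroup G) hPtop hP
    refine ⟨M, hM, ?_⟩
    intro hdvd
    exact P.not_dvd_index (dvd_trans hdvd (Subgroup.index_dvd_of_le hPM))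
  obtain ⟨q0, hq0, -⟩ := Nat.exists_prime_and_dvd hcard
  obtain ⟨M0, hM0, -⟩ := key q0 hq0
  have hidx : M0.index = 1 := by
    rw [Nat.eq_one_iff_not_exists_prime_dvd]
    intro q hq hdvd
    obtain ⟨Mq, hMq, hndvd⟩ := key q hq
    obtain ⟨c, -, hc⟩ := hH M0 Mq hM0 hMq
    apply hndvd
    rw [hc, Cfsg.Agent.Helper3.index_conj_smul]
    exact hdvd
  exact hM0.1 (Subgroup.index_eq_one.mp hidx)

theorem irred_of_conj [Finite A] [Finite G] (hcop : (Nat.card A).Coprime (Nat.card G))
    {p : ℕ} (hp : p.Prime) (hG : IsPGroup p G)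
    (hH : ∀ M N : Subgroup G, MaxInv A M → MaxInv A N →
      ∃ c : G, (∀ a : A, a • c = c) ∧ N = MulAut.conj c • M)
    (L : Subgroup G) (hL : frattini G < L) (hLinv : Inv A L) : L = ⊤ := by
  by_contra hLtop
  haveI := Fact.mk hp
  obtain ⟨M, hLM, hM⟩ := exists_maxInv L hLtop hLinv
  have hΦM : frattini G < M := lt_of_lt_of_le hL hLM
  haveI hMn : M.Normal := Cfsg.Agent.S0014.normal_of_frattini_le hG hΦM.le
  have huniq : ∀ N : Subgroup G, MaxInv A N → N = M := by
    intro N hN
    obtain ⟨c, -, hc⟩ := hH M N hM hN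
    rw [hc, Subgroup.Normal.conj_smul_eq_self]
  -- p does not divide |A|
  have hpA : ¬ p ∣ Nat.card A := by
    intro hdvd
    obtain ⟨n, hn⟩ := IsPGroup.iff_card.mp hG
    have hn0 : n ≠ 0 := by
      rintro rfl
      rw [pow_zero] at hn
      haveI : Subsingleton G := (Nat.card_eq_one_iff_unique.mp hn).1
      exact hL.ne (Subsingleton.elim _ _)
    have hG1 : p ∣ Nat.card G := by rw [hn]; exact dvd_pow_self p hn0
    exact hp.one_lt.ne' (Nat.eq_one_of_dvd_coprimes hcop hdvd hG1)
  -- the Frattini quotient as an elementary abelian group with A-action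
  letI : CommGroup (G ⧸ frattini G) :=
    { (inferInstance : Group (G ⧸ frattini G)) with
      mul_comm := by
        intro x y
        induction x using QuotientGroup.induction_on with
        | H x =>
          induction y using QuotientGroup.induction_on with
          | H y =>
            rw [← QuotientGroup.mk_mul, ← QuotientGroup.mk_mul, QuotientGroup.eq]
            apply Cfsg.Agent.Helper1.IsPGroup.commutator_le_frattini hG
            have : (x * y)⁻¹ * (y * x) = ⁅y⁻¹, x⁻¹⁆ := by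
              rw [commutatorElement_def]; group
            rw [this]
            exact Subgroup.commutator_mem_commutator (Subgroup.mem_top _) (Subgroup.mem_top _) }
  let σ : A → (G ⧸ frattini G) →* (G ⧸ frattini G) := fun a =>
    (Cfsg.Agent.Helper21.FrattiniAut.frattiniQuotHom G
      (MulDistribMulAction.toMulAut A G a)).toMonoidHom
  have hσ1 : ∀ v, σ 1 v = v := by
    intro v
    show (Cfsg.Agent.Helper21.FrattiniAut.frattiniQuotHom G
      (MulDistribMulAction.toMulAut A G 1)) v = v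
    rw [map_one, map_one]
    rfl
  have hσmul : ∀ a b v, σ (a * b) v = σ a (σ b v) := by
    intro a b v
    show (Cfsg.Agent.Helper21.FrattiniAut.frattiniQuotHom G
      (MulDistribMulAction.toMulAut A G (a * b))) v = _
    rw [map_mul, map_mul]
    rfl
  have hexp : ∀ v : G ⧸ frattini G, v ^ p = 1 := by
    intro v
    induction v using QuotientGroup.induction_on with
    | H x =>
      rw [← QuotientGroup.mk_pow, QuotientGroup.eq_one_iff]
      exact Cfsg.Agent.Helper1.IsPGroup.pow_mem_frattini hG x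
  obtain ⟨U, hUinv, hWU, hWU'⟩ := Cfsg.Agent.Helper3.maschke_ext σ hσ1 hσmul p hexp hpA
    (M.map (QuotientGroup.mk' (frattini G))) (by
      rintro a _ ⟨m, hm, rfl⟩
      exact ⟨a • m, hM.2.1 a m hm, rfl⟩)
  have hKinv : Inv A (U.comap (QuotientGroup.mk' (frattini G))) := by
    intro a x hx
    rw [Subgroup.mem_comap] at hx ⊢
    exact hUinv a _ hx
  by_cases hKtop : U.comap (QuotientGroup.mk' (frattini G)) = ⊤
  · -- then U = ⊤, so W = ⊥ and M ≤ Φ
    have hUtop : U = ⊤ := by
      rw [eq_top_iff]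
      intro v _
      induction v using QuotientGroup.induction_on with
      | H x =>
        have : x ∈ U.comap (QuotientGroup.mk' (frattini G)) := by rw [hKtop]; trivial
        exact this
    rw [hUtop, inf_top_eq] at hWU
    apply not_le_of_gt hΦM
    intro m hm
    have : (QuotientGroup.mk' (frattini G)) m ∈ M.map (QuotientGroup.mk' (frattini G)) :=
      ⟨m, hm, rfl⟩
    rw [hWU, Subgroup.mem_bot] at this
    exact (QuotientGroup.eq_one_iff m).mp this
  · obtain ⟨M', hKM', hM'⟩ := exists_maxInv _ hKtop hKinv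
    rw [huniq M' hM'] at hKM'
    have hUW : U ≤ M.map (QuotientGroup.mk' (frattini G)) := by
      intro v hv
      induction v using QuotientGroup.induction_on with
      | H x => exact ⟨x, hKM' hv, rfl⟩
    have hUbot : U = ⊥ := by
      rw [← hWU]; exact (inf_eq_right.mpr hUW).symm
    rw [hUbot, sup_bot_eq] at hWU'
    apply hM.1
    rw [eq_top_iff]
    intro g _
    have : (QuotientGroup.mk' (frattini G)) g ∈ M.map (QuotientGroup.mk' (frattini G)) := by
      rw [hWU']; trivial
    obtain ⟨m, hm, hmg⟩ := this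
    have h1 : m⁻¹ * g ∈ frattini G := QuotientGroup.eq.mp hmg
    have : g = m * (m⁻¹ * g) := by group
    rw [this]
    exact M.mul_mem hm (hΦM.le h1)

end

/-- Let the finite group A act by automorphisms on the finite group G with the orders of A and G coprime, and assume that A or G is solvable. Call a proper A-invariant subgroup of G maximal A-invariant when no A-invariant subgroup lies strictly between it and G. Then all maximal A-invariant subgroups of G are conjugate under elements of the fixed-point subgroup C_G(A) if and only if G is a p-group for some prime p and A leaves invariant no subgroup strictly between the Frattini subgroup of G and G. In that case, if G is nontrivial, the Frattini subgroup is the only maximal A-invariant subgroup (a trivial G has none). -/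
theorem result {A G : Type*} [Group A] [Finite A]
    [Group G] [Finite G] [MulDistribMulAction A G] (hcop : (Nat.card A).Coprime (Nat.card G)) (hsol : Group.IsSolvable A ∨ Group.IsSolvable G) :
    ((∀ M N : Subgroup G, (M ≠ ⊤ ∧ (∀ a : A, ∀ x ∈ M, a • x ∈ M) ∧ ∀ L : Subgroup G, M < L → (∀ a : A, ∀ x ∈ L, a • x ∈ L) → L = ⊤) → (N ≠ ⊤ ∧ (∀ a : A, ∀ x ∈ N, a • x ∈ N) ∧ ∀ L : Subgroup G, N < L → (∀ a : A, ∀ x ∈ L, a • x ∈ L) → L = ⊤) →
        ∃ c : G, (∀ a : A, a • c = c) ∧ N = MulAut.conj c • M) ↔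
      ((∃ p : ℕ, p.Prime ∧ IsPGroup p G) ∧ ∀ L : Subgroup G, frattini G < L → (∀ a : A, ∀ x ∈ L, a • x ∈ L) → L = ⊤)) ∧
    (((∃ p : ℕ, p.Prime ∧ IsPGroup p G) ∧ ∀ L : Subgroup G, frattini G < L → (∀ a : A, ∀ x ∈ L, a • x ∈ L) → L = ⊤) →
      ∀ M : Subgroup G, (M ≠ ⊤ ∧ (∀ a : A, ∀ x ∈ M, a • x ∈ M) ∧ ∀ L : Subgroup G, M < L → (∀ a : A, ∀ x ∈ L, a • x ∈ L) → L = ⊤) ↔ (M = frattini G ∧ M ≠ ⊤)) := by
  have part2 : ((∃ p : ℕ, p.Prime ∧ IsPGroup p G) ∧ ∀ L : Subgroup G, frattini G < L →
      (∀ a : A, ∀ x ∈ L, a • x ∈ L) → L = ⊤) →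
      ∀ M : Subgroup G, (M ≠ ⊤ ∧ (∀ a : A, ∀ x ∈ M, a • x ∈ M) ∧ ∀ L : Subgroup G, M < L →
        (∀ a : A, ∀ x ∈ L, a • x ∈ L) → L = ⊤) ↔ (M = frattini G ∧ M ≠ ⊤) := by
    rintro ⟨-, hirr⟩ M
    exact maxInv_iff hirr M
  refine ⟨⟨?_, ?_⟩, part2⟩
  · intro hH
    obtain ⟨p, hp, hG⟩ := pgroup_of_conj hcop hsol hH
    exact ⟨⟨p, hp, hG⟩, fun L hL hLinv => irred_of_conj hcop hp hG hH L hL hLinv⟩
  · intro h M N hM hN
    have h1 := (part2 h M).mp hM
    have h2 := (part2 h N).mp hN
    refine ⟨1, fun a => smul_one a, ?_⟩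
    rw [map_one, one_smul, h1.1, h2.1]

end Cfsg.Agent.S4381
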