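import Cfsg.Statements.S0600
import Mathlib

set_option autoImplicit false
open Cfsg

namespace Cfsg.Agent.S0600

/-- A normal elementary abelian p-subgroup generated by the fixed points of the Sylow p-subgroups admits no nontrivial normal p-subgroup of G modulo its centralizer. -/
theorem result {G : Type*} [Group G] [Finite G] {p : ℕ} [Fact p.Prime] (V : Subgroup G) [V.Normal] (hV : Cfsg.IsElementaryAbelian p V) (hgen : V = ⨆ S : Sylow p G, V ⊓ Subgroup.centralizer ((S : Subgroup G) : Set G)) : Cfsg.pCore p (G ⧸ Subgroup.centralizer (V : Set G)) = ⊥ := by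
  rw [eq_bot_iff]
  apply sSup_le
  rintro N ⟨hN, hpN⟩
  intro xbar hxbar
  rw [Subgroup.mem_bot]
  obtain ⟨x, rfl⟩ := QuotientGroup.mk_surjective xbar
  rw [QuotientGroup.eq_one_iff]
  have hmk : Function.Surjective (QuotientGroup.mk' (Subgroup.centralizer (V : Set G))) :=
    QuotientGroup.mk'_surjective _
  have key : V ≤ Subgroup.centralizer ({x} : Set G) := by
    refine hgen.le.trans ?_
    apply iSup_le
    intro T
    intro v hv
    have hvV : v ∈ V := hv.1
    have hvT : v ∈ Subgroup.centralizer ((T : Subgroup G) : Set G) := hv.2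
    have := hN
    have h1 : N ≤ (T.mapSurjective hmk : Sylow p (G ⧸ Subgroup.centralizer (V : Set G))) :=
      hpN.le_sylow_of_normal _
    have h2 : (QuotientGroup.mk x : G ⧸ Subgroup.centralizer (V : Set G)) ∈
        (T : Subgroup G).map (QuotientGroup.mk' (Subgroup.centralizer (V : Set G))) := h1 hxbar
    obtain ⟨t, ht, htx⟩ := h2
    have h3 : t⁻¹ * x ∈ Subgroup.centralizer (V : Set G) := by
      have : (QuotientGroup.mk t : G ⧸ Subgroup.centralizer (V : Set G)) = QuotientGroup.mk x := htx
      exact QuotientGroup.eq.mp this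
    rw [Subgroup.mem_centralizer_iff]
    intro y hy
    have hy' : y = x := hy
    rw [hy']
    have e1 : t * v = v * t := Subgroup.mem_centralizer_iff.mp hvT t ht
    have e2 : v * (t⁻¹ * x) = (t⁻¹ * x) * v := Subgroup.mem_centralizer_iff.mp h3 v hvV
    calc x * v = t * ((t⁻¹ * x) * v) := by group
      _ = t * (v * (t⁻¹ * x)) := by rw [e2]
      _ = (t * v) * (t⁻¹ * x) := by group
      _ = (v * t) * (t⁻¹ * x) := by rw [e1]
      _ = v * x := by group
  rw [Subgroup.mem_centralizer_iff]
  intro v hv
  have := Subgroup.mem_centralizer_iff.mp (key hv) x rfl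
  exact this.symm

end Cfsg.Agent.S0600
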