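import Cfsg.Statements.S0601
import Mathlib
import Cfsg.Agent.S0010
import Cfsg.Agent.S0600
import Cfsg.Agent.Helper26.Thompson

set_option autoImplicit false
open Cfsg

namespace Cfsg.Agent.S0601

/-- When O_p(G) contains its centralizer, the normal closure of Ω₁(Z(S)) is elementary abelian and G has no nontrivial normal p-subgroup modulo its centralizer. -/
theorem result {G : Type*} [Group G] [Finite G] {p : ℕ} [Fact p.Prime] (hc : Subgroup.centralizer (Cfsg.pCore p G : Set G) ≤ Cfsg.pCore p G) : (⨆ S : Sylow p G, Cfsg.omegaOne p (((S : Subgroup G)) ⊓ Subgroup.centralizer ((S : Subgroup G) : Set G))).Normal ∧ Cfsg.IsElementaryAbelian p (⨆ S : Sylow p G, Cfsg.omegaOne p (((S : Subgroup G)) ⊓ Subgroup.centralizer ((S : Subgroup G) : Set G))) ∧ ∀ D : Subgroup G, D.Normal → Subgroup.centralizer ((⨆ S : Sylow p G, Cfsg.omegaOne p (((S : Subgroup G)) ⊓ Subgroup.centralizer ((S : Subgroup G) : Set G)) : Subgroup G) : Set G) ≤ D → (∃ k : ℕ, (Subgroup.centralizer ((⨆ S : Sylow p G, Cfsg.omegaOne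 p (((S : Subgroup G)) ⊓ Subgroup.centralizer ((S : Subgroup G) : Set G)) : Subgroup G) : Set G)).relIndex D = p ^ k) → D = Subgroup.centralizer ((⨆ S : Sylow p G, Cfsg.omegaOne p (((S : Subgroup G)) ⊓ Subgroup.centralizer ((S : Subgroup G) : Set G)) : Subgroup G) : Set G) := by
  set W : Subgroup G := ⨆ S : Sylow p G, Cfsg.omegaOne p (((S : Subgroup G)) ⊓ Subgroup.centralizer ((S : Subgroup G) : Set G)) with hW
  -- the generating set
  let X : Set G := {x | ∃ S : Sylow p G, x ∈ (S : Subgroup G) ⊓ Subgroup.centralizer ((S : Subgroup G) : Set G) ∧ x ^ p = 1}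
  have hWX : W ≤ Subgroup.closure X := by
    apply iSup_le
    intro S
    apply Subgroup.closure_mono
    rintro x ⟨hx1, hx2⟩
    exact ⟨S, hx1, hx2⟩
  have hXW : Subgroup.closure X ≤ W := by
    rw [Subgroup.closure_le]
    rintro x ⟨S, hx1, hx2⟩
    have : Cfsg.omegaOne p (((S : Subgroup G)) ⊓ Subgroup.centralizer ((S : Subgroup G) : Set G)) ≤ W :=
      le_iSup (fun S : Sylow p G => Cfsg.omegaOne p (((S : Subgroup G)) ⊓ Subgroup.centralizer ((S : Subgroup G) : Set G))) S
    exact this (Subgroup.subset_closure ⟨hx1, hx2⟩)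
  have hWeq : W = Subgroup.closure X := le_antisymm hWX hXW
  -- O_p(G) lies in every Sylow
  have hO : ∀ S : Sylow p G, Cfsg.pCore p G ≤ (S : Subgroup G) := by
    intro S
    rw [Cfsg.Agent.S0010.result p]
    exact iInf_le _ S
  -- elements of X lie in Z(O_p(G))
  have hXZ : ∀ x ∈ X, x ∈ Cfsg.pCore p G ∧ x ∈ Subgroup.centralizer (Cfsg.pCore p G : Set G) := by
    rintro x ⟨S, hx1, -⟩
    have h1 : x ∈ Subgroup.centralizer (Cfsg.pCore p G : Set G) :=
      Subgroup.centralizer_le (hO S) hx1.2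
    exact ⟨hc h1, h1⟩
  have hXc : ∀ a ∈ X, ∀ b ∈ X, a * b = b * a := by
    intro a ha b hb
    exact (Subgroup.mem_centralizer_iff.mp (hXZ a ha).2 b (hXZ b hb).1).symm
  have hXp : ∀ a ∈ X, a ^ p = 1 := by
    rintro a ⟨S, -, h⟩
    exact h
  have hEA : Cfsg.IsElementaryAbelian p W := by
    rw [hWeq]
    exact Cfsg.Agent.Helper26.isElementaryAbelian_closure hXc hXp
  have hNormal : W.Normal := by
    constructor
    intro n hn g
    have hmap : W.map (MulAut.conj g).toMonoidHom ≤ W := by
      rw [hWeq, Subgroup.map_le_iff_le_comap, Subgroup.closure_le]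
      rintro x ⟨S, hx1, hx2⟩
      rw [SetLike.mem_coe, Subgroup.mem_comap]
      apply Subgroup.subset_closure
      refine ⟨g • S, ?_, ?_⟩
      · refine Subgroup.mem_inf.mpr ⟨?_, ?_⟩
        · rw [Sylow.coe_subgroup_smul]
          exact Subgroup.smul_mem_pointwise_smul x (MulAut.conj g) _ hx1.1
        · rw [Subgroup.mem_centralizer_iff]
          intro y hy
          rw [SetLike.mem_coe, Sylow.coe_subgroup_smul, Subgroup.mem_pointwise_smul_iff_inv_smul_mem] at hy
          have hy' : g⁻¹ * y * g ∈ (S : Subgroup G) := by simpa [MulAut.smul_def] using hy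
          have := Subgroup.mem_centralizer_iff.mp hx1.2 _ hy'
          show y * (g * x * g⁻¹) = (g * x * g⁻¹) * y
          calc y * (g * x * g⁻¹) = g * ((g⁻¹ * y * g) * x) * g⁻¹ := by group
            _ = g * (x * (g⁻¹ * y * g)) * g⁻¹ := by rw [this]
            _ = (g * x * g⁻¹) * y := by group
      · show (g * x * g⁻¹) ^ p = 1
        rw [conj_pow, hx2]; group
    exact hmap ⟨n, hn, rfl⟩
  refine ⟨hNormal, hEA, ?_⟩
  intro D hD hCD hidx
  apply le_antisymm _ hCD
  haveI := hNormal
  have hgen : W = ⨆ S : Sylow p G, W ⊓ Subgroup.centralizer ((S : Subgroup G) : Set G) := by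
    apply le_antisymm
    · apply iSup_le
      intro S
      apply le_trans _ (le_iSup (fun S : Sylow p G => W ⊓ Subgroup.centralizer ((S : Subgroup G) : Set G)) S)
      apply le_inf
      · exact le_iSup (fun S : Sylow p G => Cfsg.omegaOne p (((S : Subgroup G)) ⊓ Subgroup.centralizer ((S : Subgroup G) : Set G))) S
      · unfold Cfsg.omegaOne
        rw [Subgroup.closure_le]
        rintro x ⟨hx1, -⟩
        exact hx1.2
    · apply iSup_le
      intro S
      exact inf_le_left
  have hcore := Cfsg.Agent.S0600.result W hEA hgen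
  obtain ⟨k, hk⟩ := hidx
  have hDmap : D.map (QuotientGroup.mk' (Subgroup.centralizer (W : Set G))) ≤
      Cfsg.pCore p (G ⧸ Subgroup.centralizer (W : Set G)) := by
    apply le_sSup
    refine ⟨hD.map _ (QuotientGroup.mk'_surjective _), ?_⟩
    rintro ⟨_, d, hd, rfl⟩
    refine ⟨k, ?_⟩
    apply Subtype.ext
    show (QuotientGroup.mk' (Subgroup.centralizer (W : Set G)) d) ^ (p ^ k) = 1
    rw [← map_pow, QuotientGroup.mk'_apply, QuotientGroup.eq_one_iff, ← hk]
    exact Subgroup.pow_relIndex_mem _ hd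
  rw [hcore] at hDmap
  intro d hd
  have : QuotientGroup.mk' (Subgroup.centralizer (W : Set G)) d ∈ (⊥ : Subgroup (G ⧸ Subgroup.centralizer (W : Set G))) :=
    hDmap ⟨d, hd, rfl⟩
  rw [Subgroup.mem_bot, QuotientGroup.mk'_apply, QuotientGroup.eq_one_iff] at this
  exact this

end Cfsg.Agent.S0601
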