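import Cfsg.Statements.S0608
import Cfsg.Agent.Helper26.ThompsonNorm
import Cfsg.Agent.Helper26.OmegaZ

set_option autoImplicit false
open Cfsg

namespace Cfsg.Agent.S0608

/-- With trivial p'-core, Thompson factorizability is equivalent to J(G) centralizing the subgroup generated by all Ω₁(Z(S)), S Sylow. -/
theorem result {G : Type*} [Group G] [Finite G] {p : ℕ} [Fact p.Prime] (hO : Cfsg.pPrimeCore p G = ⊥) : Cfsg.IsThompsonFactorizable p G ↔ Cfsg.thompsonSubgroup p G ≤ Subgroup.centralizer ((⨆ S : Sylow p G, Cfsg.omegaOne p (((S : Subgroup G)) ⊓ Subgroup.centralizer ((S : Subgroup G) : Set G)) : Subgroup G) : Set G) := by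
  set W : Subgroup G := ⨆ S : Sylow p G, Cfsg.omegaOne p
      (((S : Subgroup G)) ⊓ Subgroup.centralizer ((S : Subgroup G) : Set G)) with hW
  have hWn : W.Normal := Cfsg.Agent.Helper26.iSup_omegaOne_center_normal p G
  constructor
  · intro hTF
    rw [Cfsg.Agent.Helper26.thompsonSubgroup_eq_iSup_sylow]
    apply iSup_le
    intro S
    rw [Subgroup.le_centralizer_iff]
    apply iSup_le
    intro S'
    unfold Cfsg.omegaOne
    rw [Subgroup.closure_le]
    rintro y ⟨hy1, hy2⟩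
    rw [SetLike.mem_coe, Subgroup.mem_centralizer_iff]
    intro j hj
    -- S' = g • S
    obtain ⟨g, rfl⟩ := MulAction.exists_smul_eq G S S'
    obtain ⟨x, hx, c, hc, n, hn, hg⟩ := hTF S g⁻¹
    rw [hO, Subgroup.mem_bot] at hx
    subst hx
    have hg' : g = n⁻¹ * c⁻¹ := by
      have : g⁻¹ = c * n := by rw [hg]; group
      calc g = (g⁻¹)⁻¹ := by group
        _ = (c * n)⁻¹ := by rw [this]
        _ = n⁻¹ * c⁻¹ := by group
    -- z := g⁻¹ y g ∈ Z(S), z^p = 1
    have hz := Cfsg.Agent.Helper26.conj_mem_center_smul_sylow g⁻¹ hy1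
    rw [inv_smul_smul, inv_inv] at hz
    have hzp : (g⁻¹ * y * g) ^ p = 1 := by
      have : g⁻¹ * y * g = g⁻¹ * y * g⁻¹⁻¹ := by group
      rw [this, conj_pow, hy2]; group
    have hzO : g⁻¹ * y * g ∈ Cfsg.omegaOne p
        (((S : Subgroup G)) ⊓ Subgroup.centralizer ((S : Subgroup G) : Set G)) :=
      Subgroup.subset_closure ⟨hz, hzp⟩
    have hcz : (g⁻¹ * y * g) * c = c * (g⁻¹ * y * g) := Subgroup.mem_centralizer_iff.mp hc _ hzO
    -- n j n⁻¹ ∈ J(S) ≤ S commutes with z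
    have hnj : n * j * n⁻¹ ∈ Cfsg.thompsonSubgroupOf p (S : Subgroup G) :=
      (Subgroup.mem_normalizer_iff.mp hn j).mp hj
    have hnjS : n * j * n⁻¹ ∈ (S : Subgroup G) := Cfsg.Agent.Helper26.thompsonSubgroupOf_le p _ hnj
    have hcomm : (n * j * n⁻¹) * (g⁻¹ * y * g) = (g⁻¹ * y * g) * (n * j * n⁻¹) :=
      Subgroup.mem_centralizer_iff.mp hz.2 _ hnjS
    -- y = n⁻¹ z n
    have hy : y = n⁻¹ * (g⁻¹ * y * g) * n := by
      have h1 : c⁻¹ * (g⁻¹ * y * g) * c = g⁻¹ * y * g := by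
        rw [mul_assoc, hcz]; group
      calc y = g * (g⁻¹ * y * g) * g⁻¹ := by group
        _ = n⁻¹ * (c⁻¹ * (g⁻¹ * y * g) * c) * n := by rw [hg']; group
        _ = n⁻¹ * (g⁻¹ * y * g) * n := by rw [h1]
    set z := g⁻¹ * y * g with hzdef
    rw [hy]
    calc j * (n⁻¹ * z * n) = n⁻¹ * ((n * j * n⁻¹) * z) * n := by group
      _ = n⁻¹ * (z * (n * j * n⁻¹)) * n := by rw [hcomm]
      _ = n⁻¹ * z * n * j := by group
  · intro hJ S g
    have hJS : Cfsg.thompsonSubgroupOf p (S : Subgroup G) ≤ Subgroup.centralizer (W : Set G) := by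
      refine le_trans ?_ hJ
      rw [Cfsg.Agent.Helper26.thompsonSubgroup_eq_iSup_sylow]
      exact le_iSup (fun S : Sylow p G => Cfsg.thompsonSubgroupOf p (S : Subgroup G)) S
    have hBC : (Cfsg.thompsonSubgroupOf p (S : Subgroup G)).map (MulAut.conj g).toMonoidHom ≤
        Subgroup.centralizer (W : Set G) := by
      rintro _ ⟨j, hj, rfl⟩
      exact (inferInstance : (Subgroup.centralizer (W : Set G)).Normal).conj_mem j (hJS hj) g
    obtain ⟨c, hc, hn⟩ := Cfsg.Agent.Helper26.exists_mul_mem_normalizer_thompson S g hJS hBC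
    refine ⟨1, Subgroup.one_mem _, c⁻¹, ?_, c * g, hn, by group⟩
    apply Subgroup.centralizer_le _ (Subgroup.inv_mem _ hc)
    exact_mod_cast Cfsg.Agent.Helper26.omegaOne_center_le_iSup p S

end Cfsg.Agent.S0608
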