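import Cfsg.Statements.S5020
import Cfsg.Agent.Helper25.RankOneJ

set_option autoImplicit false
open Cfsg

namespace Cfsg.Agent.S5020

/-- Let X be a special rank one group with abelian unipotent subgroups A and B, and H = N(A) ∩ N(B) its diagonal subgroup. Then either A has at most three elements and X is isomorphic to SL₂(2), SL₂(3) or PSL₂(3); or X = X' A with the commutator subgroup X' quasisimple and the commutator subgroup ⁅A, H⁆ having more than three elements. -/
theorem result {X : Type*} [Group X] {A B : Subgroup X} (h : Cfsg.IsRankOneGroup X A B)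
    (hs : Cfsg.IsSpecialRankOnePair A B) (hab : Cfsg.HasAbelianUnipotents A B) :
    (ENat.card A ≤ 3 ∧ (Nonempty (X ≃* Matrix.SpecialLinearGroup (Fin 2) (ZMod 2)) ∨
        Nonempty (X ≃* Matrix.SpecialLinearGroup (Fin 2) (ZMod 3)) ∨
        Nonempty (X ≃* Matrix.ProjectiveSpecialLinearGroup (Fin 2) (ZMod 3)))) ∨
    (commutator X ⊔ A = ⊤ ∧ Cfsg.IsQuasisimple (commutator X) ∧
      3 < ENat.card ↥(⁅A, Cfsg.rankOneDiagonal A B⁆ : Subgroup X)) := by
  have s := Cfsg.Agent.Helper25.RankOne.sp_of hs hab
  by_cases hc : ENat.card A ≤ 3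
  · exact Or.inl ⟨hc, s.small_case h.1 hc⟩
  · right
    have hc' : 3 < ENat.card A := not_le.mp hc
    have hperf := s.commutator_eq_top hc' h.1
    refine ⟨by rw [hperf, top_sup_eq], ?_, s.card_comm hc'⟩
    have hq : Cfsg.IsQuasisimple X := Cfsg.Agent.Helper25.rankOne_isQuasisimple h.1 h.2 ⟨hperf⟩
    have e : X ≃* commutator X :=
      Subgroup.topEquiv.symm.trans (MulEquiv.subgroupCongr hperf.symm)
    exact Cfsg.Agent.Helper9.isQuasisimple_of_mulEquiv e hq

end Cfsg.Agent.S5020
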