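import Mathlib
import Cfsg.Statements.S2619

set_option autoImplicit false
open Cfsg

namespace Cfsg.Agent.S2619

theorem result {F V ι : Type*} [Field F] [Finite F] [CharP F 2] [AddCommGroup V] [Module F V] [Fintype ι] (b : Module.Basis ι F V) (B : LinearMap.BilinForm F V) (hB : B.IsAlt) (c : ι → F) : ∃! Q : QuadraticForm F V, QuadraticMap.polarBilin Q = B ∧ ∀ i, Q (b i) = c i := by
  classical
  have h2F : (2 : F) = 0 := by
    have := CharP.cast_eq_zero F 2
    exact_mod_cast this
  have hneg : ∀ t : F, -t = t := fun t => CharTwo.neg_eq t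
  let e : ι ≃ Fin (Fintype.card ι) := Fintype.equivFin ι
  let N : Matrix ι ι F := fun i j => if e i < e j then B (b i) (b j) else if i = j then c i else 0
  let B' : LinearMap.BilinForm F V := Matrix.toBilin b N
  have hB'app : ∀ i j, B' (b i) (b j) = N i j := by
    intro i j
    rw [← LinearMap.BilinForm.toMatrix_apply b B' i j, LinearMap.BilinForm.toMatrix_toBilin]
  have hflip : ∀ x y, B'.flip x y = B' y x := fun x y => rfl
  have hsum : B' + B'.flip = B := by
    apply LinearMap.BilinForm.ext_basis b
    intro i j
    rw [LinearMap.add_apply, LinearMap.add_apply, hflip, hB'app, hB'app]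
    simp only [N]
    rcases lt_trichotomy (e i) (e j) with h | h | h
    · have hne : j ≠ i := fun hji => by rw [hji] at h; exact lt_irrefl _ h
      rw [if_pos h, if_neg (not_lt.mpr h.le), if_neg hne, add_zero]
    · have hij : i = j := e.injective h
      subst hij
      rw [if_neg (lt_irrefl _), if_pos rfl, hB.self_eq_zero]
      linear_combination (c i) * h2F
    · have hne : i ≠ j := fun hij => by rw [hij] at h; exact lt_irrefl _ h
      rw [if_neg (not_lt.mpr h.le), if_neg hne, if_pos h, zero_add, ← hB.neg_eq, hneg]
  refine ⟨LinearMap.BilinMap.toQuadraticMap B', ⟨?_, ?_⟩, ?_⟩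
  · apply LinearMap.ext
    intro x
    apply LinearMap.ext
    intro y
    rw [QuadraticMap.polarBilin_apply_apply, LinearMap.BilinMap.polar_toQuadraticMap, ← hsum,
      LinearMap.add_apply, LinearMap.add_apply, hflip]
  · intro i
    rw [LinearMap.BilinMap.toQuadraticMap_apply, hB'app]
    simp [N]
  · rintro Q ⟨hQ1, hQ2⟩
    apply QuadraticMap.ext
    intro x
    have hx : x ∈ Submodule.span F (Set.range b) := b.mem_span x
    have hQadd : ∀ (Q' : QuadraticForm F V), QuadraticMap.polarBilin Q' = B → ∀ u v, Q' (u + v) = Q' u + Q' v + B u v := by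
      intro Q' hQ' u v
      rw [← hQ', QuadraticMap.polarBilin_apply_apply, QuadraticMap.polar]; ring
    have hQ0 : QuadraticMap.polarBilin (LinearMap.BilinMap.toQuadraticMap B') = B := by
      apply LinearMap.ext
      intro x
      apply LinearMap.ext
      intro y
      rw [QuadraticMap.polarBilin_apply_apply, LinearMap.BilinMap.polar_toQuadraticMap, ← hsum,
        LinearMap.add_apply, LinearMap.add_apply, hflip]
    induction hx using Submodule.span_induction with
    | mem v hv =>
      obtain ⟨i, rfl⟩ := hv
      rw [hQ2, LinearMap.BilinMap.toQuadraticMap_apply, hB'app]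
      simp [N]
    | zero => simp
    | add u v _ _ hu hv =>
      rw [hQadd Q hQ1, hQadd _ hQ0, hu, hv]
    | smul a v _ hv =>
      rw [QuadraticMap.map_smul, QuadraticMap.map_smul, hv]

end Cfsg.Agent.S2619
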