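import Mathlib
import Cfsg.Statements.S3378
import Cfsg.Agent.Helper13.SL25Pres
import Cfsg.Agent.Helper18.Order60Char
import Cfsg.Agent.Helper24.Burnside
import Cfsg.Agent.Helper2.Order60

set_option autoImplicit false
set_option linter.style.haveILetI false

namespace Cfsg.Agent.S3378

open Cfsg.Agent.Helper13

theorem q8_unique_involution : ∀ g : QuaternionGroup 2, g * g = 1 → g ≠ 1 →
    g = QuaternionGroup.a 2 := by decide

section main
variable {G : Type*} [Group G] [Finite G]

/-- a group of order 120 with a normal Sylow 5-subgroup is solvable. -/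
theorem solvable_of_normal_sylow5 (hG : Nat.card G = 120) (P : Subgroup G) [P.Normal]
    (hP : Nat.card P = 5) : Group.IsSolvable G := by
  haveI : Fact (Nat.Prime 5) := ⟨by norm_num⟩
  haveI h1 : Group.IsSolvable P :=
    Cfsg.Agent.Helper24.isSolvable_of_card_eq_prime_pow_mul 5 2 1 0 (by norm_num) (by norm_num)
      (by rw [hP]; norm_num)
  have hq : Nat.card (G ⧸ P) = 24 := by
    have := Subgroup.card_eq_card_quotient_mul_card_subgroup P
    rw [hG, hP] at this
    omega
  haveI h2 : Group.IsSolvable (G ⧸ P) :=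
    Cfsg.Agent.Helper24.isSolvable_of_card_eq_prime_pow_mul 2 3 3 1 (by norm_num) (by norm_num)
      (by rw [hq]; norm_num)
  exact Group.isSolvable_of_ker_le_range P.subtype (QuotientGroup.mk' P)
    (by rw [QuotientGroup.ker_mk', Subgroup.range_subtype])

/-- the number of Sylow 5-subgroups is 6. -/
theorem card_sylow5 [Fact (Nat.Prime 5)] (hG : Nat.card G = 120) (hns : ¬ Group.IsSolvable G) :
    Nat.card (Sylow 5 G) = 6 := by
  obtain ⟨P⟩ : Nonempty (Sylow 5 G) := inferInstance
  have hfac : (120 : ℕ).factorization 5 = 1 := by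
    have : (120 : ℕ) = 5 ^ 1 * 24 := by norm_num
    rw [this, Nat.factorization_mul (by norm_num) (by norm_num), Nat.Prime.factorization_pow (by norm_num)]
    simp
    exact Nat.factorization_eq_zero_of_not_dvd (by norm_num)
  have hP : Nat.card P = 5 := by
    rw [Sylow.card_eq_multiplicity, hG, hfac, pow_one]
  have hidx : (P : Subgroup G).index = 24 := by
    have := (P : Subgroup G).card_mul_index
    rw [hG, hP] at this
    omega
  have h1 := card_sylow_modEq_one 5 G
  have h2 := Sylow.card_dvd_index P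
  rw [hidx] at h2
  have h3 : Nat.card (Sylow 5 G) ≤ 24 := Nat.le_of_dvd (by norm_num) h2
  have h4 : Nat.card (Sylow 5 G) ≠ 1 := by
    intro h
    haveI : Subsingleton (Sylow 5 G) := (Nat.card_eq_one_iff_unique.mp h).1
    haveI := Sylow.normal_of_subsingleton P
    exact hns (solvable_of_normal_sylow5 hG P hP)
  unfold Nat.ModEq at h1
  interval_cases (Nat.card (Sylow 5 G)) <;> omega

/-- the involution of a quaternion Sylow 2-subgroup fixes every Sylow 5-subgroup. -/
theorem involution_fixes [Fact (Nat.Prime 5)] [Fact (Nat.Prime 2)] (hG : Nat.card G = 120)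
    (hns : ¬ Group.IsSolvable G) (S : Sylow 2 G) (e : (S : Subgroup G) ≃* QuaternionGroup 2)
    (P : Sylow 5 G) :
    ((e.symm (QuaternionGroup.a 2) : (S : Subgroup G)) : G) • P = P := by
  classical
  have hS : Nat.card (S : Subgroup G) = 8 := by
    rw [Nat.card_congr e.toEquiv, Nat.card_eq_fintype_card, QuaternionGroup.card]
  -- the stabiliser of `P` in `S`
  set T := MulAction.stabilizer (S : Subgroup G) P with hT
  have h1 : Nat.card T * T.index = 8 := by rw [Subgroup.card_mul_index, hS]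
  have h2 : T.index ≤ 6 := by
    rw [hT, MulAction.index_stabilizer]
    refine (Set.ncard_le_card _).trans ?_
    rw [card_sylow5 hG hns]
  have h3 : 2 ∣ Nat.card T := by
    have hpos : 0 < T.index := Nat.pos_of_ne_zero (fun h => by rw [h] at h1; omega)
    have hd : T.index ∣ 8 := Dvd.intro_left _ h1
    have : T.index ∈ Nat.divisors 8 := Nat.mem_divisors.mpr ⟨hd, by norm_num⟩
    have h8 : Nat.divisors 8 = {1, 2, 4, 8} := by decide
    rw [h8] at this
    simp only [Finset.mem_insert, Finset.mem_singleton] at this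
    rcases this with h | h | h | h <;> rw [h] at h1 <;> omega
  obtain ⟨t, ht⟩ := exists_prime_orderOf_dvd_card' 2 h3
  -- `t` is the involution
  have ht2 : (t : (S : Subgroup G)) * (t : (S : Subgroup G)) = 1 := by
    have := pow_orderOf_eq_one t
    rw [ht, sq] at this
    exact congrArg Subtype.val this
  have ht1 : (t : (S : Subgroup G)) ≠ 1 := by
    intro h
    have : t = 1 := Subtype.ext h
    rw [this, orderOf_one] at ht
    omega
  have hte : e (t : (S : Subgroup G)) = QuaternionGroup.a 2 := by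
    apply q8_unique_involution
    · rw [← map_mul, ht2, map_one]
    · intro h
      apply ht1
      exact e.injective (by rw [h, map_one])
  have : e.symm (QuaternionGroup.a 2) = (t : (S : Subgroup G)) := by
    rw [← hte, MulEquiv.symm_apply_apply]
  rw [this]
  exact t.2

/-- a nonsolvable group of order 60 is simple. -/
theorem simple_of_card_sixty {Q : Type*} [Group Q] [Finite Q] (hQ : Nat.card Q = 60)
    (hns : ¬ Group.IsSolvable Q) : IsSimpleGroup Q := by
  haveI : Nontrivial Q := by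
    rw [← Finite.one_lt_card_iff_nontrivial, hQ]; norm_num
  refine ⟨fun M hM => ?_⟩
  by_contra hcon
  push Not at hcon
  obtain ⟨hb, ht⟩ := hcon
  have h1 := Subgroup.card_eq_card_quotient_mul_card_subgroup M
  rw [hQ] at h1
  have hM1 : 1 < Nat.card M := by
    rw [Finite.one_lt_card_iff_nontrivial]
    exact (Subgroup.nontrivial_iff_ne_bot M).mpr hb
  have hM2 : Nat.card M < 60 := by
    have hne : Nat.card M ≠ 60 := by
      intro h
      apply ht
      apply Subgroup.eq_top_of_card_eq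
      rw [h, hQ]
    have : Nat.card M ≤ 60 := by
      have := Subgroup.card_le_card_group M
      rwa [hQ] at this
    omega
  haveI s1 : Group.IsSolvable M :=
    Cfsg.Agent.Helper18.Order60Char.solvable_of_card_dvd_sixty (Dvd.intro_left _ h1.symm) hM2
  haveI s2 : Group.IsSolvable (Q ⧸ M) := by
    apply Cfsg.Agent.Helper18.Order60Char.solvable_of_card_dvd_sixty (Dvd.intro _ h1.symm)
    nlinarith
  exact hns (Group.isSolvable_of_ker_le_range M.subtype (QuotientGroup.mk' M)
    (by rw [QuotientGroup.ker_mk', Subgroup.range_subtype]))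

theorem exists_quotient [Fact (Nat.Prime 5)] [Fact (Nat.Prime 2)] (hG : Nat.card G = 120)
    (hns : ¬ Group.IsSolvable G)
    (hQ : ∀ P : Sylow 2 G, Nonempty ((P : Subgroup G) ≃* QuaternionGroup 2)) :
    ∃ (K : Subgroup G) (_ : K.Normal) (z₀ : G), z₀ ≠ 1 ∧ z₀ * z₀ = 1 ∧
      (∀ g, g ∈ K ↔ g = 1 ∨ g = z₀) ∧ (∀ t : G, t * t = 1 → t ≠ 1 → t = z₀) ∧
      Nonempty (G ⧸ K ≃* alternatingGroup (Fin 5)) := by
  classical
  obtain ⟨S⟩ : Nonempty (Sylow 2 G) := inferInstance
  obtain ⟨e⟩ := hQ S
  set z₀ : G := ((e.symm (QuaternionGroup.a 2) : (S : Subgroup G)) : G) with hz₀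
  have hz1 : z₀ ≠ 1 := by
    intro h
    have h' : e.symm (QuaternionGroup.a 2) = 1 := Subtype.ext h
    have : (QuaternionGroup.a 2 : QuaternionGroup 2) = 1 := by
      rw [← e.apply_symm_apply (QuaternionGroup.a 2), h', map_one]
    exact absurd this (by decide)
  have hz2 : z₀ * z₀ = 1 := by
    have : e.symm (QuaternionGroup.a 2) * e.symm (QuaternionGroup.a 2) = 1 := by
      rw [← map_mul]
      have : (QuaternionGroup.a 2 : QuaternionGroup 2) * QuaternionGroup.a 2 = 1 := by decide
      rw [this, map_one]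
    exact congrArg Subtype.val this
  set ρ := MulAction.toPermHom G (Sylow 5 G) with hρ
  set K := ρ.ker with hK
  have hmemK : ∀ g : G, g ∈ K ↔ ∀ P : Sylow 5 G, g • P = P := by
    intro g
    rw [hK, MonoidHom.mem_ker]
    constructor
    · intro h P
      have := congrArg (fun σ : Equiv.Perm (Sylow 5 G) => σ P) h
      simpa [hρ] using this
    · intro h
      ext P
      simp [hρ, h P]
  have hzK : z₀ ∈ K := (hmemK z₀).mpr (fun P => involution_fixes hG hns S e P)
  have hKN : ∀ P : Sylow 5 G, K ≤ Subgroup.normalizer (P : Set G) := by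
    intro P g hg
    exact Sylow.smul_eq_iff_mem_normalizer.mp ((hmemK g).mp hg P)
  obtain ⟨P⟩ : Nonempty (Sylow 5 G) := inferInstance
  have hfac : (120 : ℕ).factorization 5 = 1 := by
    have : (120 : ℕ) = 5 ^ 1 * 24 := by norm_num
    rw [this, Nat.factorization_mul (by norm_num) (by norm_num),
      Nat.Prime.factorization_pow (by norm_num)]
    simp
    exact Nat.factorization_eq_zero_of_not_dvd (by norm_num)
  have hP5 : ∀ P' : Sylow 5 G, Nat.card P' = 5 := by
    intro P'
    rw [Sylow.card_eq_multiplicity, hG, hfac, pow_one]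
  have hN20 : Nat.card (Subgroup.normalizer (P : Set G)) = 20 := by
    have h1 := Sylow.card_eq_index_normalizer P
    rw [card_sylow5 hG hns] at h1
    have h2 := (Subgroup.normalizer (P : Set G)).card_mul_index
    rw [← h1, hG] at h2
    omega
  have hKd : Nat.card K ∣ 20 := by
    rw [← hN20]; exact Subgroup.card_dvd_of_le (hKN P)
  have h5 : ¬ 5 ∣ Nat.card K := by
    intro h
    obtain ⟨k, hk⟩ := exists_prime_orderOf_dvd_card' 5 h
    have hk' : orderOf (k : G) = 5 := by rw [Subgroup.orderOf_coe, hk]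
    have hpg : IsPGroup 5 (Subgroup.zpowers (k : G)) :=
      IsPGroup.of_card (n := 1) (by rw [Nat.card_zpowers, hk', pow_one])
    have hall : ∀ P' : Sylow 5 G, Subgroup.zpowers (k : G) = (P' : Subgroup G) := by
      intro P'
      have h1 := hpg.inf_normalizer_sylow P'
      have h2 : Subgroup.zpowers (k : G) ≤ Subgroup.normalizer (P' : Set G) := by
        rw [Subgroup.zpowers_le]; exact hKN P' k.2
      have h3 : Subgroup.zpowers (k : G) ≤ (P' : Subgroup G) := by
        rw [inf_eq_left.mpr h2] at h1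
        exact inf_eq_left.mp h1.symm
      apply Subgroup.eq_of_le_of_card_ge h3
      rw [hP5 P', Nat.card_zpowers, hk']
    have hsub : Subsingleton (Sylow 5 G) := by
      refine ⟨fun P' P'' => ?_⟩
      apply Sylow.ext
      rw [← hall P', ← hall P'']
    have := card_sylow5 hG hns
    rw [Nat.card_eq_one_iff_unique.mpr ⟨hsub, ⟨P⟩⟩] at this
    omega
  have hK1 : 1 < Nat.card K := by
    rw [Finite.one_lt_card_iff_nontrivial]
    exact ⟨⟨⟨z₀, hzK⟩, 1, fun h => hz1 (congrArg Subtype.val h)⟩⟩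
  have hK24 : Nat.card K = 2 ∨ Nat.card K = 4 := by
    have hmem : Nat.card K ∈ Nat.divisors 20 := Nat.mem_divisors.mpr ⟨hKd, by norm_num⟩
    have h20 : Nat.divisors 20 = {1, 2, 4, 5, 10, 20} := by decide
    rw [h20] at hmem
    simp only [Finset.mem_insert, Finset.mem_singleton] at hmem
    rcases hmem with h | h | h | h | h | h
    · omega
    · left; exact h
    · right; exact h
    · exact absurd (by rw [h]) h5
    · exact absurd (by rw [h]; norm_num) h5
    · exact absurd (by rw [h]; norm_num) h5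
  haveI hKsolv : Group.IsSolvable K := by
    rcases hK24 with h | h
    · exact Cfsg.Agent.Helper24.isSolvable_of_card_eq_prime_pow_mul 2 3 1 0 (by norm_num)
        (by norm_num) (by rw [h]; norm_num)
    · exact Cfsg.Agent.Helper24.isSolvable_of_card_eq_prime_pow_mul 2 3 2 0 (by norm_num)
        (by norm_num) (by rw [h]; norm_num)
  have hQns : ¬ Group.IsSolvable (G ⧸ K) := by
    intro h
    haveI := h
    exact hns (Group.isSolvable_of_ker_le_range K.subtype (QuotientGroup.mk' K)
      (by rw [QuotientGroup.ker_mk', Subgroup.range_subtype]))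
  have hcq := Subgroup.card_eq_card_quotient_mul_card_subgroup K
  rw [hG] at hcq
  have hK2 : Nat.card K = 2 := by
    rcases hK24 with h | h
    · exact h
    · exfalso
      rw [h] at hcq
      have h30 : Nat.card (G ⧸ K) = 30 := by omega
      exact hQns (Cfsg.Agent.Helper18.Order60Char.solvable_of_card_dvd_sixty
        (by rw [h30]; norm_num) (by rw [h30]; norm_num))
  rw [hK2] at hcq
  have h60 : Nat.card (G ⧸ K) = 60 := by omega
  haveI := simple_of_card_sixty h60 hQns
  have hKmem : ∀ g, g ∈ K ↔ g = 1 ∨ g = z₀ := by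
    intro g
    constructor
    · intro hg
      by_contra hcon
      push Not at hcon
      let f : Fin 3 → K := ![1, ⟨z₀, hzK⟩, ⟨g, hg⟩]
      have hf : Function.Injective f := by
        intro i j hij
        fin_cases i <;> fin_cases j <;> simp [f, Subtype.ext_iff] at hij ⊢
        · exact absurd hij.symm hz1
        · exact absurd hij.symm hcon.1
        · exact absurd hij hz1
        · exact absurd hij.symm hcon.2
        · exact absurd hij hcon.1
        · exact absurd hij hcon.2
      have := Nat.card_le_card_of_injective f hf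
      rw [Nat.card_eq_fintype_card (α := Fin 3), Fintype.card_fin] at this
      have h2 : Nat.card K = 2 := hK2
      omega
    · rintro (rfl | rfl)
      · exact K.one_mem
      · exact hzK
  refine ⟨K, inferInstance, z₀, hz1, hz2, hKmem, ?_,
    Cfsg.Agent.Helper2.nonempty_mulEquiv_alternatingGroup_five_of_card h60⟩
  -- uniqueness of the involution
  intro t ht2 ht1
  have hpg : IsPGroup 2 (Subgroup.zpowers t) := by
    have : orderOf t = 2 := orderOf_eq_prime (by rw [sq]; exact ht2) ht1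
    exact IsPGroup.of_card (n := 1) (by rw [Nat.card_zpowers, this, pow_one])
  obtain ⟨S', hS'⟩ := hpg.exists_le_sylow
  obtain ⟨e'⟩ := hQ S'
  have hKpg : IsPGroup 2 K := IsPGroup.of_card (n := 1) (by rw [hK2, pow_one])
  have hzS' : z₀ ∈ (S' : Subgroup G) := hKpg.le_sylow_of_normal S' hzK
  have htS' : t ∈ (S' : Subgroup G) := hS' (Subgroup.mem_zpowers t)
  have e1 : e' ⟨t, htS'⟩ = QuaternionGroup.a 2 := by
    apply q8_unique_involution
    · rw [← map_mul]
      have : (⟨t, htS'⟩ : (S' : Subgroup G)) * ⟨t, htS'⟩ = 1 := Subtype.ext ht2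
      rw [this, map_one]
    · intro h
      apply ht1
      have := e'.injective (h.trans (map_one e').symm)
      exact congrArg Subtype.val this
  have e2 : e' ⟨z₀, hzS'⟩ = QuaternionGroup.a 2 := by
    apply q8_unique_involution
    · rw [← map_mul]
      have : (⟨z₀, hzS'⟩ : (S' : Subgroup G)) * ⟨z₀, hzS'⟩ = 1 := Subtype.ext hz2
      rw [this, map_one]
    · intro h
      apply hz1
      have := e'.injective (h.trans (map_one e').symm)
      exact congrArg Subtype.val this
  have := e'.injective (e1.trans e2.symm)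
  exact congrArg Subtype.val this

theorem main_iso [Fact (Nat.Prime 5)] [Fact (Nat.Prime 2)] (hG : Nat.card G = 120)
    (hns : ¬ Group.IsSolvable G)
    (hQ : ∀ P : Sylow 2 G, Nonempty ((P : Subgroup G) ≃* QuaternionGroup 2)) :
    Nonempty (G ≃* Matrix.SpecialLinearGroup (Fin 2) (ZMod 5)) := by
  classical
  obtain ⟨K, hKn, z₀, hz1, hz2, hKmem, huniq, ⟨e⟩⟩ := exists_quotient hG hns hQ
  haveI := hKn
  have hzK : z₀ ∈ K := (hKmem z₀).mpr (Or.inr rfl)
  have hzc : ∀ g : G, g * z₀ = z₀ * g := by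
    intro g
    have h1 : g * z₀ * g⁻¹ ∈ K := hKn.conj_mem z₀ hzK g
    rcases (hKmem _).mp h1 with h | h
    · exfalso
      apply hz1
      have : z₀ = g⁻¹ * (g * z₀ * g⁻¹) * g := by group
      rw [this, h]; group
    · calc g * z₀ = (g * z₀ * g⁻¹) * g := by group
        _ = z₀ * g := by rw [h]
  have hmkK : ∀ g : G, (g : G ⧸ K) = 1 ↔ g = 1 ∨ g = z₀ := fun g => by
    rw [QuotientGroup.eq_one_iff, hKmem]
  have hmkz : ((z₀ : G) : G ⧸ K) = 1 := (hmkK z₀).mpr (Or.inr rfl)
  obtain ⟨a₀, ha₀⟩ := QuotientGroup.mk_surjective (s := K) (e.symm A5Pres.x0)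
  obtain ⟨b₀, hb₀⟩ := QuotientGroup.mk_surjective (s := K) (e.symm A5Pres.z0)
  have hx0ne : e.symm A5Pres.x0 ≠ 1 := by
    intro h
    have := e.symm.injective (h.trans (map_one e.symm).symm)
    exact A5Pres.x0_ne this
  -- `a₀ ^ 2 = z₀`
  have ha2 : a₀ * a₀ = z₀ := by
    have h1 : ((a₀ * a₀ : G) : G ⧸ K) = 1 := by
      rw [QuotientGroup.mk_mul, ha₀, ← map_mul, A5Pres.x0_sq, map_one]
    rcases (hmkK _).mp h1 with h | h
    · exfalso
      have hne : a₀ ≠ 1 := by
        intro h1'
        rw [h1', QuotientGroup.mk_one] at ha₀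
        exact hx0ne ha₀.symm
      have h3 := huniq a₀ h hne
      rw [h3, hmkz] at ha₀
      exact hx0ne ha₀.symm
    · exact h
  have hz3 : z₀ ^ 3 = z₀ := by rw [pow_succ, sq, hz2, one_mul]
  have hz5 : z₀ ^ 5 = z₀ := by
    have : z₀ ^ 5 = z₀ ^ 2 * z₀ ^ 2 * z₀ := by group
    rw [this, sq, hz2, one_mul, one_mul]
  -- the element `b`
  obtain ⟨b, hb5, hbmk⟩ : ∃ b : G, b ^ 5 = 1 ∧ (b : G ⧸ K) = e.symm A5Pres.z0 := by
    have h1 : ((b₀ ^ 5 : G) : G ⧸ K) = 1 := by
      rw [QuotientGroup.mk_pow, hb₀, ← map_pow, A5Pres.z0_pow, map_one]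
    rcases (hmkK _).mp h1 with h | h
    · exact ⟨b₀, h, hb₀⟩
    · refine ⟨b₀ * z₀, ?_, ?_⟩
      · rw [(show Commute b₀ z₀ from hzc b₀).mul_pow, h, hz5, hz2]
      · rw [QuotientGroup.mk_mul, hmkz, mul_one, hb₀]
  -- the element `x`
  obtain ⟨x, hx3, hxmk, hxy⟩ : ∃ x : G, x ^ 3 = 1 ∧
      (x : G ⧸ K) = e.symm A5Pres.x0 * e.symm A5Pres.z0 ∧ (x * b⁻¹) ^ 2 = z₀ := by
    have h1 : (((a₀ * b) ^ 3 : G) : G ⧸ K) = 1 := by
      rw [QuotientGroup.mk_pow, QuotientGroup.mk_mul, ha₀, hbmk, ← map_mul, ← map_pow,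
        A5Pres.x0z0_pow, map_one]
    rcases (hmkK _).mp h1 with h | h
    · refine ⟨a₀ * b, h, ?_, ?_⟩
      · rw [QuotientGroup.mk_mul, ha₀, hbmk]
      · rw [mul_inv_cancel_right, sq, ha2]
    · refine ⟨a₀ * b * z₀, ?_, ?_, ?_⟩
      · rw [(show Commute (a₀ * b) z₀ from hzc _).mul_pow, h, hz3, hz2]
      · rw [QuotientGroup.mk_mul, hmkz, mul_one, QuotientGroup.mk_mul, ha₀, hbmk]
      · have : a₀ * b * z₀ * b⁻¹ = a₀ * z₀ := by
          rw [mul_assoc (a₀ * b), ← hzc b⁻¹, ← mul_assoc, mul_inv_cancel_right]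
        rw [this, (show Commute a₀ z₀ from hzc _).mul_pow, sq, ha2, sq, hz2, mul_one]
  -- the homomorphism
  set ψ := SL25Pres.toGrp x b⁻¹ z₀ hx3 (by rw [inv_pow, hb5, inv_one]) (by rw [sq, hz2])
    (hzc x).symm (hzc b⁻¹).symm hxy with hψ
  have hψx : ψ SL25Pres.gx = x := SL25Pres.toGrp_gx _ _ _ _ _ _ _ _ _
  have hψy : ψ SL25Pres.gy = b⁻¹ := SL25Pres.toGrp_gy _ _ _ _ _ _ _ _ _
  have hψz : ψ SL25Pres.gz = z₀ := SL25Pres.toGrp_gz _ _ _ _ _ _ _ _ _
  have hsurj : Function.Surjective ψ := by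
    rw [← MonoidHom.range_eq_top]
    set R := ψ.range with hR
    have hxR : x ∈ R := ⟨_, hψx⟩
    have hyR : b⁻¹ ∈ R := ⟨_, hψy⟩
    have hzR : z₀ ∈ R := ⟨_, hψz⟩
    have hmap : R.map (QuotientGroup.mk' K) = ⊤ := by
      rw [eq_top_iff]
      have h1 : (⊤ : Subgroup (G ⧸ K)) = Subgroup.map e.symm.toMonoidHom ⊤ := by
        rw [← MonoidHom.range_eq_map]
        exact (MonoidHom.range_eq_top.mpr e.symm.surjective).symm
      rw [h1, ← SL25Pres.closure_x0_z0, MonoidHom.map_closure, Subgroup.closure_le]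
      rintro _ ⟨u, hu, rfl⟩
      simp only [Set.mem_insert_iff, Set.mem_singleton_iff] at hu
      have hymk : ((b⁻¹ : G) : G ⧸ K) = (e.symm A5Pres.z0)⁻¹ := by
        rw [QuotientGroup.mk_inv, hbmk]
      rcases hu with rfl | rfl
      · refine ⟨x * b⁻¹, R.mul_mem hxR hyR, ?_⟩
        show ((x * b⁻¹ : G) : G ⧸ K) = e.symm A5Pres.x0
        rw [QuotientGroup.mk_mul, hxmk, hymk, mul_inv_cancel_right]
      · refine ⟨b, ?_, hbmk⟩
        have := R.inv_mem hyR
        rwa [inv_inv] at this
    rw [eq_top_iff]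
    intro g _
    have hg : (QuotientGroup.mk' K g) ∈ R.map (QuotientGroup.mk' K) := by rw [hmap]; trivial
    obtain ⟨r, hr, hrg⟩ := hg
    have h2 : r⁻¹ * g ∈ K := by
      rw [← QuotientGroup.eq]; exact hrg
    have h3 : r⁻¹ * g ∈ R := by
      rcases (hKmem _).mp h2 with h | h
      · rw [h]; exact R.one_mem
      · rw [h]; exact hzR
    have : g = r * (r⁻¹ * g) := by group
    rw [this]
    exact R.mul_mem hr h3
  have hbij : Function.Bijective ψ := by
    apply hsurj.bijective_of_nat_card_le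
    rw [SL25Pres.card_P, hG]
  exact ⟨(MulEquiv.ofBijective ψ hbij).symm.trans SL25Pres.slEquiv⟩

end main

/-- Every non-solvable group of order 120 whose Sylow 2-subgroups are quaternion of order 8 is isomorphic to SL(2,5), and SL(2,5) has the presentation ⟨x, y, z | x³ = y⁵ = z² = 1, z⁻¹xz = x, z⁻¹yz = y, (xy)² = z⟩. -/
theorem result :
    (∀ (G : Type*) [Group G] [Finite G], Nat.card G = 120 → ¬ Group.IsSolvable G →
      (∀ P : Sylow 2 G, Nonempty ((P : Subgroup G) ≃* QuaternionGroup 2)) →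
      Nonempty (G ≃* Matrix.SpecialLinearGroup (Fin 2) (ZMod 5))) ∧
    Nonempty (PresentedGroup ({FreeGroup.of (0 : Fin 3) ^ 3, FreeGroup.of (1 : Fin 3) ^ 5, FreeGroup.of (2 : Fin 3) ^ 2,
        (FreeGroup.of (2 : Fin 3))⁻¹ * FreeGroup.of 0 * FreeGroup.of 2 * (FreeGroup.of (0 : Fin 3))⁻¹,
        (FreeGroup.of (2 : Fin 3))⁻¹ * FreeGroup.of 1 * FreeGroup.of 2 * (FreeGroup.of (1 : Fin 3))⁻¹,
        (FreeGroup.of (0 : Fin 3) * FreeGroup.of 1) ^ 2 * (FreeGroup.of (2 : Fin 3))⁻¹} : Set (FreeGroup (Fin 3)))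
      ≃* Matrix.SpecialLinearGroup (Fin 2) (ZMod 5)) := by
  haveI : Fact (Nat.Prime 5) := ⟨by norm_num⟩
  haveI : Fact (Nat.Prime 2) := ⟨Nat.prime_two⟩
  refine ⟨?_, ⟨SL25Pres.slEquiv⟩⟩
  intro G _ _ hG hns hQ
  exact main_iso hG hns hQ

end Cfsg.Agent.S3378
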