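import Cfsg.Statements.S2119
import Cfsg.Agent.Helper29.AutAlt
-- import your own Cfsg.Agent.* helpers here

set_option autoImplicit false
open Cfsg

namespace Cfsg.Agent.S2119

/-- Automorphisms of the alternating groups: for n ≥ 4 with n ≠ 6, every automorphism of the alternating group of degree n is conjugation by a unique permutation, i.e. conjugation induces an isomorphism from the symmetric group of degree n onto the automorphism group of the alternating group (so the outer automorphism group has order 2). -/
theorem result (n : ℕ) (hn : 4 ≤ n) (h6 : n ≠ 6) : Function.Bijective (MulAut.conjNormal : Equiv.Perm (Fin n) →* MulAut ↥(alternatingGroup (Fin n))) := by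
  classical
  have hcard : Fintype.card (Fin n) = n := Fintype.card_fin n
  constructor
  · -- injective
    rw [injective_iff_map_eq_one]
    intro π hπ
    by_contra hne
    obtain ⟨a, ha⟩ : ∃ a, π a ≠ a := by
      by_contra hcon
      push Not at hcon
      exact hne (Equiv.Perm.ext hcon)
    -- two more points
    have hlt : ({a, π a} : Finset (Fin n)).card + 1 < (Finset.univ : Finset (Fin n)).card := by
      rw [Finset.card_univ, hcard]
      have := Finset.card_le_two (a := a) (b := π a)
      omega
    obtain ⟨c, -, hc⟩ := Finset.exists_mem_notMem_of_card_lt_card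
      (lt_of_le_of_lt (Nat.le_succ _) hlt)
    simp only [Finset.mem_insert, Finset.mem_singleton, not_or] at hc
    have hlt' : ({a, π a, c} : Finset (Fin n)).card < (Finset.univ : Finset (Fin n)).card := by
      rw [Finset.card_univ, hcard]
      exact lt_of_le_of_lt Finset.card_le_three (by omega)
    obtain ⟨d, -, hd⟩ := Finset.exists_mem_notMem_of_card_lt_card hlt'
    simp only [Finset.mem_insert, Finset.mem_singleton, not_or] at hd
    -- the 3-cycle a → c → d
    have h3 : (Cfsg.Agent.Helper29.AutAlt.cyc a c d).IsThreeCycle :=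
      Cfsg.Agent.Helper29.AutAlt.cyc_isThreeCycle (Ne.symm hc.1) (Ne.symm hd.1) (Ne.symm hd.2.2)
    have hmem : Cfsg.Agent.Helper29.AutAlt.cyc a c d ∈ alternatingGroup (Fin n) :=
      h3.mem_alternatingGroup
    have h1 := congrArg (fun θ : MulAut (alternatingGroup (Fin n)) =>
      ((θ ⟨_, hmem⟩ : alternatingGroup (Fin n)) : Equiv.Perm (Fin n))) hπ
    simp only [MulAut.conjNormal_apply, MulAut.one_apply] at h1
    -- π t = t π, evaluate at a
    have h2 : π * Cfsg.Agent.Helper29.AutAlt.cyc a c d = Cfsg.Agent.Helper29.AutAlt.cyc a c d * π := by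
      calc π * Cfsg.Agent.Helper29.AutAlt.cyc a c d
          = (π * Cfsg.Agent.Helper29.AutAlt.cyc a c d * π⁻¹) * π := by group
        _ = Cfsg.Agent.Helper29.AutAlt.cyc a c d * π := by rw [h1]
    have h4 := congrArg (fun σ : Equiv.Perm (Fin n) => σ a) h2
    simp only [Equiv.Perm.mul_apply] at h4
    rw [Cfsg.Agent.Helper29.AutAlt.cyc_apply_one (Ne.symm hc.1) (Ne.symm hd.1)] at h4
    -- cyc fixes π a
    have h5 : Cfsg.Agent.Helper29.AutAlt.cyc a c d (π a) = π a := by
      unfold Cfsg.Agent.Helper29.AutAlt.cyc
      rw [Equiv.Perm.mul_apply, Equiv.swap_apply_of_ne_of_ne (Ne.symm hc.2) (Ne.symm hd.2.1),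
        Equiv.swap_apply_of_ne_of_ne ha (Ne.symm hc.2)]
    rw [h5] at h4
    exact hc.1 (π.injective h4)
  · -- surjective
    intro θ
    obtain ⟨π, hπ⟩ := Cfsg.Agent.Helper29.AutAlt.exists_perm_conj (α := Fin n)
      (by rw [hcard]; exact hn) (by rw [hcard]; exact h6) θ
    refine ⟨π, ?_⟩
    ext g
    rw [MulAut.conjNormal_apply, hπ]

end Cfsg.Agent.S2119
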