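import Cfsg.Statements.S0039
import Mathlib
import Cfsg.Agent.Helper1.Frobenius

set_option autoImplicit false
open Cfsg

namespace Cfsg.Agent.S0039

/-- In a finite group that is a semidirect product of a normal subgroup K by a nontrivial subgroup H, H is a Frobenius complement exactly when each nonidentity element of H acts without nonidentity fixed points on K by conjugation. -/
theorem result {G : Type*} [Group G] [Finite G] (K H : Subgroup G) [K.Normal]
    (hc : Subgroup.IsComplement' K H) (hK : K ≠ ⊥) (hH : H ≠ ⊥) :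
    Cfsg.IsFrobeniusComplement H ↔ ∀ h ∈ H, h ≠ 1 → K ⊓ Subgroup.centralizer {h} = ⊥ := by
  have hdisj : ∀ x : G, x ∈ K → x ∈ H → x = 1 := by
    intro x hxK hxH
    have := hc.disjoint
    rw [Subgroup.disjoint_def] at this
    exact this hxK hxH
  constructor
  · intro hF h hh h1
    rw [eq_bot_iff]
    intro k hk
    obtain ⟨hkK, hkC⟩ := Subgroup.mem_inf.mp hk
    rw [Subgroup.mem_bot]
    rw [Subgroup.mem_centralizer_singleton_iff] at hkC
    -- k * h = h * k
    by_contra hk1
    have hkH : k ∉ H := fun hkH => hk1 (hdisj k hkK hkH)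
    apply h1
    apply Cfsg.Agent.Helper1.frob_inter' hF hkH hh
    have : k * h * k⁻¹ = h := by rw [hkC]; group
    rw [this]; exact hh
  · intro hfpf
    refine ⟨hH, ?_, ?_⟩
    · rintro rfl
      apply hK
      rw [eq_bot_iff]
      intro x hx
      rw [Subgroup.mem_bot]
      exact hdisj x hx (Subgroup.mem_top x)
    · intro g hg
      rw [eq_bot_iff]
      intro x hx
      obtain ⟨hxH, hxg⟩ := Subgroup.mem_inf.mp hx
      rw [Subgroup.mem_bot]
      rw [Cfsg.Agent.Helper1.mem_conj_smul_iff] at hxg
      -- decompose g = k * h₀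
      obtain ⟨⟨⟨k, hk⟩, ⟨h₀, hh₀⟩⟩, hkh⟩ := hc.2 g
      simp only at hkh
      subst hkh
      have hk1 : k ≠ 1 := by
        rintro rfl
        apply hg
        rw [one_mul]; exact hh₀
      -- y := h₀ (g⁻¹ x g) h₀⁻¹ = k⁻¹ x k ∈ H
      set y := k⁻¹ * x * k with hy
      have hyH : y ∈ H := by
        have : y = h₀ * ((k * h₀)⁻¹ * x * (k * h₀)) * h₀⁻¹ := by rw [hy]; group
        rw [this]
        exact H.mul_mem (H.mul_mem hh₀ hxg) (H.inv_mem hh₀)
      -- x * y⁻¹ ∈ K ∩ H
      have hxyK : x * y⁻¹ ∈ K := by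
        have : x * y⁻¹ = (x * k⁻¹ * x⁻¹) * k := by rw [hy]; group
        rw [this]
        exact K.mul_mem (‹K.Normal›.conj_mem _ (K.inv_mem hk) x) hk
      have hxyH : x * y⁻¹ ∈ H := H.mul_mem hxH (H.inv_mem hyH)
      have hxy : x = y := by
        have := hdisj _ hxyK hxyH
        rwa [mul_inv_eq_one] at this
      by_contra hx1
      apply hk1
      have hkC : k ∈ K ⊓ Subgroup.centralizer {x} := by
        refine Subgroup.mem_inf.mpr ⟨hk, ?_⟩
        rw [Subgroup.mem_centralizer_singleton_iff]
        -- k * x = x * k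
        have : x = k⁻¹ * x * k := hxy
        calc k * x = k * (k⁻¹ * x * k) := by rw [← this]
          _ = x * k := by group
      rw [hfpf x hxH hx1] at hkC
      exact hkC

end Cfsg.Agent.S0039
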