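import Cfsg.Statements.S3359
import Cfsg.Agent.Helper5.ZasLattice
import Cfsg.Agent.Helper5.ZasIndex
import Cfsg.Agent.Helper5.ZasFinal
import Cfsg.Agent.Helper3.ZasCent

set_option autoImplicit false
open Cfsg

namespace Cfsg.Agent.S3359

/-- Structure of non-solvable Frobenius complements. Let G be a finite non-solvable group that occurs as a Frobenius complement. Then G has a normal subgroup G₀ of index 1 or 2 which is the direct product of a subgroup isomorphic to SL(2,5) and a subgroup M of order prime to 30 all of whose Sylow subgroups are cyclic. -/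
theorem result {G : Type*} [Group G] [Finite G] (hns : ¬ Group.IsSolvable G)
    (hFC : ∃ (L : Type) (_ : Group L) (_ : Finite L) (H : Subgroup L), Cfsg.IsFrobeniusComplement H ∧ Nonempty (G ≃* H)) :
    ∃ G₀ : Subgroup G, G₀.Normal ∧ (G₀.index = 1 ∨ G₀.index = 2) ∧
      ∃ S M : Subgroup G, S ⊔ M = G₀ ∧ S ⊓ M = ⊥ ∧ (∀ s ∈ S, ∀ x ∈ M, s * x = x * s) ∧
        Nonempty (S ≃* Matrix.SpecialLinearGroup (Fin 2) (ZMod 5)) ∧
        (∀ (p : ℕ) [Fact p.Prime] (P : Sylow p M), IsCyclic P) ∧ (Nat.card M).Coprime 30 := by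
  obtain ⟨L, iL, iF, H, hH, ⟨e⟩⟩ := hFC
  obtain ⟨p, hp, V, i1, i2, i3, i4, ⟨S₀⟩⟩ := Cfsg.Agent.Helper5.Zas.exists_setup_of_fc H hH
  have S : Cfsg.Agent.Helper5.Zas.Setup p G V := S₀.ofEquiv e
  obtain ⟨hcard, hNn, ⟨π, hπ, hker⟩, hiso⟩ := Cfsg.Agent.Helper5.ZasFin.nonsolvable_closure S hns
  obtain ⟨M, hMC, hNM, hsup, hcop, hsyl⟩ :=
    Cfsg.Agent.Helper5.Zas.centralizer_structure S
      (Subgroup.closure {g : G | orderOf g = 3}) rfl hcard π hπ hker
  have hCn : (Subgroup.centralizer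
      ((Subgroup.closure {g : G | orderOf g = 3} : Subgroup G) : Set G)).Normal :=
    Subgroup.normal_centralizer
  refine ⟨Subgroup.closure {g : G | orderOf g = 3} ⊔
      Subgroup.centralizer ((Subgroup.closure {g : G | orderOf g = 3} : Subgroup G) : Set G),
    inferInstance, Cfsg.Agent.Helper5.Zas.index_sup_centralizer _ rfl π hπ hker,
    Subgroup.closure {g : G | orderOf g = 3}, M, hsup, hNM, ?_, hiso, fun q _ P => hsyl q P, hcop⟩
  intro s hs x hx
  exact Subgroup.mem_centralizer_iff.mp (hMC hx) s hs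

end Cfsg.Agent.S3359
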