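import Cfsg.Statements.S5088
import Cfsg.Agent.Helper25.FusionChar

set_option autoImplicit false
open Cfsg

namespace Cfsg.Agent.S5088

open Cfsg.Agent.Helper25 Cfsg.FusionSystem
open scoped commutatorElement

/-- In a saturated fusion system over a finite p-group, a subgroup Q is normal in the system if and only if there is a chain of subgroups 1 = Q₀ ≤ Q₁ ≤ ⋯ ≤ Qₙ = Q such that each Qᵢ with i ≥ 1 is strongly closed in the system and [Q, Qᵢ] ≤ Qᵢ₋₁. -/
theorem result {Ω : Type*} [Group Ω] {S : Subgroup Ω} [Finite S] (p : ℕ) [Fact p.Prime] (hS : IsPGroup p S) (F : Cfsg.FusionSystem S) (hF : F.IsSaturated p) (Q : Subgroup Ω) : F.IsNormal Q ↔ ∃ (n : ℕ) (Qs : Fin (n + 1) → Subgroup Ω), Qs 0 = ⊥ ∧ Qs (Fin.last n) = Q ∧ Monotone Qs ∧ ∀ i : Fin n, F.StronglyClosed (Qs i.succ) ∧ ⁅Q, Qs i.succ⁆ ≤ Qs (Fin.castSucc i) := by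
  constructor
  · intro hQ
    have hQS : Q ≤ S := hQ.1
    have hfin : Finite Q := finite_of_le hQS
    have hQp : IsPGroup p Q := isPGroup_of_le hS hQS
    have hnil : Group.IsNilpotent Q := hQp.isNilpotent
    refine ⟨Group.nilpotencyClass Q, fun i => (Subgroup.upperCentralSeries Q i).map Q.subtype, ?_, ?_, ?_, ?_⟩
    · show (Subgroup.upperCentralSeries Q ((0 : Fin (Group.nilpotencyClass Q + 1)) : ℕ)).map Q.subtype = ⊥
      rw [Fin.val_zero, Subgroup.upperCentralSeries_zero, Subgroup.map_bot]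
    · show (Subgroup.upperCentralSeries Q ((Fin.last (Group.nilpotencyClass Q)) : ℕ)).map Q.subtype = Q
      rw [Fin.val_last, Subgroup.upperCentralSeries_nilpotencyClass, ← MonoidHom.range_eq_map,
        Subgroup.range_subtype]
    · intro i j hij
      exact Subgroup.map_mono (Subgroup.upperCentralSeries_mono Q hij)
    · intro i
      refine ⟨stronglyClosed_of_isNormal F (isNormal_of_characteristic F hQ _), ?_⟩
      rw [Subgroup.commutator_le]
      rintro g hg _ ⟨z, hz, rfl⟩
      have hz' : z ∈ Subgroup.upperCentralSeries Q ((i : ℕ) + 1) := by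
        simpa using hz
      have h1 := Subgroup.mem_upperCentralSeries_succ_iff.mp hz' ⟨g, hg⟩
      have h2 := Subgroup.inv_mem _ h1
      refine ⟨_, (by simpa using h2), ?_⟩
      simp [commutatorElement_def, mul_assoc]
  · rintro ⟨n, Qs, h0, hn, hmono, hsc⟩
    refine isNormal_of_chain p hS F hF Q
      (fun i => if h : i ≤ n then Qs ⟨i, Nat.lt_succ_of_le h⟩ else Q) n ?_ ?_ ?_ ?_
    · simp only [Nat.zero_le, dite_true]
      exact h0
    · simp only [le_refl, dite_true]
      exact hn
    · intro i hi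
      simp only [hi.le, Nat.succ_le_of_lt hi, dite_true]
      exact hmono (by simp [Fin.le_def])
    · intro i hi
      simp only [hi.le, Nat.succ_le_of_lt hi, dite_true]
      exact hsc ⟨i, hi⟩

end Cfsg.Agent.S5088
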