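import Mathlib
import Cfsg.Statements.S2530

set_option autoImplicit false
open Cfsg

namespace Cfsg.Agent.S2530

/-- the Coxeter group of type `A n`. -/
abbrev W (n : ℕ) := (CoxeterMatrix.A n).Group

/-- its canonical Coxeter system. -/
noncomputable def cs (n : ℕ) : CoxeterSystem (CoxeterMatrix.A n) (W n) :=
  (CoxeterMatrix.A n).toCoxeterSystem

/-- `ℕ`-indexed generators, with junk value `1` out of range. -/
noncomputable def t (n k : ℕ) : W n := if h : k < n then (cs n).simple ⟨k, h⟩ else 1

theorem t_of_lt {n k : ℕ} (h : k < n) : t n k = (cs n).simple ⟨k, h⟩ := by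
  unfold t
  rw [dif_pos h]

theorem t_of_ge {n k : ℕ} (h : n ≤ k) : t n k = 1 := by
  unfold t
  rw [dif_neg (by omega)]

theorem t_sq (n k : ℕ) : t n k * t n k = 1 := by
  by_cases h : k < n
  · rw [t_of_lt h]
    exact (cs n).simple_mul_simple_self _
  · rw [t_of_ge (by omega), one_mul]

theorem A_apply (n : ℕ) (i j : Fin n) : (CoxeterMatrix.A n) i j =
    if i = j then 1 else (if (j : ℕ) + 1 = i ∨ (i : ℕ) + 1 = j then 3 else 2) := rfl

theorem t_comm (n i k : ℕ) (hik : i + 2 ≤ k) : t n i * t n k = t n k * t n i := by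
  by_cases hk : k < n
  · have hi : i < n := by omega
    rw [t_of_lt hk, t_of_lt hi]
    have h1 := (cs n).simple_mul_simple_pow ⟨i, hi⟩ ⟨k, hk⟩
    have hM : (CoxeterMatrix.A n) ⟨i, hi⟩ ⟨k, hk⟩ = 2 := by
      rw [A_apply]
      have h1 : ¬ ((⟨i, hi⟩ : Fin n) = ⟨k, hk⟩) := by
        intro h
        have := congrArg Fin.val h
        simp at this
        omega
      rw [if_neg h1, if_neg]
      show ¬ (k + 1 = i ∨ i + 1 = k)
      omega
    rw [hM] at h1
    have h2 : (cs n).simple ⟨i, hi⟩ * (cs n).simple ⟨k, hk⟩ =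
        ((cs n).simple ⟨i, hi⟩ * (cs n).simple ⟨k, hk⟩)⁻¹ :=
      eq_inv_of_mul_eq_one_left (by rw [← pow_two]; exact h1)
    rw [h2, mul_inv_rev, (cs n).inv_simple, (cs n).inv_simple]
  · rw [t_of_ge (n := n) (k := k) (by omega), mul_one, one_mul]

theorem t_braid (n k : ℕ) (hk : k + 1 < n) :
    t n k * t n (k + 1) * t n k = t n (k + 1) * t n k * t n (k + 1) := by
  have hk' : k < n := by omega
  rw [t_of_lt hk, t_of_lt hk']
  have h1 := (cs n).simple_mul_simple_pow ⟨k, hk'⟩ ⟨k + 1, hk⟩
  have hM : (CoxeterMatrix.A n) ⟨k, hk'⟩ ⟨k + 1, hk⟩ = 3 := by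
    rw [A_apply]
    have h1 : ¬ ((⟨k, hk'⟩ : Fin n) = ⟨k + 1, hk⟩) := by
      intro h
      have := congrArg Fin.val h
      simp at this
    rw [if_neg h1, if_pos]
    right
    rfl
  rw [hM] at h1
  set a := (cs n).simple ⟨k, hk'⟩ with ha
  set b := (cs n).simple ⟨k + 1, hk⟩ with hb
  have haa : a * a = 1 := (cs n).simple_mul_simple_self _
  have hbb : b * b = 1 := (cs n).simple_mul_simple_self _
  have h2 : (a * b * a) * (b * a * b) = 1 := by
    rw [← h1, pow_succ, pow_two]
    simp only [mul_assoc]
  have h3 : (b * a * b) * (b * a * b) = 1 := by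
    calc (b * a * b) * (b * a * b) = b * a * (b * b) * a * b := by simp only [mul_assoc]
      _ = 1 := by rw [hbb, mul_one, mul_assoc b a a, haa, mul_one, hbb]
  calc a * b * a = (a * b * a) * ((b * a * b) * (b * a * b)) := by rw [h3, mul_one]
    _ = ((a * b * a) * (b * a * b)) * (b * a * b) := (mul_assoc _ _ _).symm
    _ = b * a * b := by rw [h2, one_mul]

/-- the natural map `W n → W (n + 1)`. -/
noncomputable def ι (n : ℕ) : W n →* W (n + 1) :=
  (cs n).lift ⟨fun i => (cs (n + 1)).simple i.castSucc,
    (show (CoxeterMatrix.A n).IsLiftable (fun i => (cs (n + 1)).simple i.castSucc) from by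
      intro i i'
      have h := (cs (n + 1)).simple_mul_simple_pow i.castSucc i'.castSucc
      have hM : (CoxeterMatrix.A (n + 1)) i.castSucc i'.castSucc = (CoxeterMatrix.A n) i i' := by
        rw [A_apply, A_apply]
        simp only [Fin.castSucc_inj, Fin.val_castSucc]
      rw [hM] at h
      exact h)⟩

theorem ι_t (n k : ℕ) (hk : k < n) : ι n (t n k) = t (n + 1) k := by
  rw [t_of_lt hk, t_of_lt (by omega : k < n + 1)]
  unfold ι
  rw [CoxeterSystem.lift_apply_simple]
  rfl

/-- the coset representatives `t n * t (n-1) * ⋯ * t (n-j+1)` in `W (n+1)`. -/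
noncomputable def c (n : ℕ) : ℕ → W (n + 1)
  | 0 => 1
  | j + 1 => c n j * t (n + 1) (n - j)

theorem c_zero (n : ℕ) : c n 0 = 1 := rfl

theorem c_succ (n j : ℕ) : c n (j + 1) = c n j * t (n + 1) (n - j) := rfl

theorem lemmaA (n : ℕ) : ∀ j i : ℕ, i + j < n →
    t (n + 1) i * c n j = c n j * t (n + 1) i := by
  intro j
  induction j with
  | zero => intro i _; rw [c_zero, mul_one, one_mul]
  | succ j ih =>
    intro i hij
    rw [c_succ, ← mul_assoc, ih i (by omega), mul_assoc, t_comm (n + 1) i (n - j) (by omega),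
      mul_assoc]

theorem lemmaB (n : ℕ) : ∀ j i : ℕ, j ≤ n + 1 → n + 1 < i + j → i ≤ n →
    c n j * t (n + 1) i = t (n + 1) (i - 1) * c n j := by
  intro j
  induction j with
  | zero => intro i _ h1 h2; omega
  | succ j ih =>
    intro i hj h1 h2
    by_cases hcase : n + 1 < i + j
    · rw [c_succ, mul_assoc, t_comm (n + 1) (n - j) i (by omega), ← mul_assoc,
        ih i (by omega) hcase h2, mul_assoc]
    · have hij : i + j = n + 1 := by omega
      obtain ⟨j', rfl⟩ : ∃ j', j = j' + 1 := ⟨j - 1, by omega⟩
      have e1 : n - j' = i := by omega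
      have e2 : n - (j' + 1) = i - 1 := by omega
      have e3 : i - 1 + 1 = i := by omega
      rw [c_succ, c_succ, e1, e2]
      have hbr := t_braid (n + 1) (i - 1) (by omega)
      rw [e3] at hbr
      have hA := lemmaA n j' (i - 1) (by omega)
      calc c n j' * t (n + 1) i * t (n + 1) (i - 1) * t (n + 1) i
          = c n j' * (t (n + 1) i * t (n + 1) (i - 1) * t (n + 1) i) := by simp only [mul_assoc]
        _ = c n j' * (t (n + 1) (i - 1) * t (n + 1) i * t (n + 1) (i - 1)) := by rw [hbr]
        _ = (c n j' * t (n + 1) (i - 1)) * t (n + 1) i * t (n + 1) (i - 1) := by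
            simp only [mul_assoc]
        _ = (t (n + 1) (i - 1) * c n j') * t (n + 1) i * t (n + 1) (i - 1) := by rw [hA]
        _ = t (n + 1) (i - 1) * (c n j' * t (n + 1) i * t (n + 1) (i - 1)) := by
            simp only [mul_assoc]

theorem exists_decomp (n : ℕ) (w : W (n + 1)) :
    ∃ j, j ≤ n + 1 ∧ ∃ u : W n, w = ι n u * c n j := by
  induction w using (cs (n + 1)).simple_induction_right with
  | one => exact ⟨0, by omega, 1, by rw [map_one, c_zero, mul_one]⟩
  | mul_simple_right w i ih =>
    obtain ⟨j, hj, u, rfl⟩ := ih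
    have hs : (cs (n + 1)).simple i = t (n + 1) (i : ℕ) := by
      rw [t_of_lt i.2]
    rw [hs]
    have hi : (i : ℕ) ≤ n := by have := i.2; omega
    rcases lt_trichotomy ((i : ℕ) + j) n with h | h | h
    · refine ⟨j, hj, u * t n i, ?_⟩
      rw [map_mul, ι_t n i (by omega), mul_assoc, mul_assoc, lemmaA n j i h]
    · refine ⟨j + 1, by omega, u, ?_⟩
      rw [c_succ, mul_assoc]
      have : n - j = (i : ℕ) := by omega
      rw [this]
    · by_cases h2 : (i : ℕ) + j = n + 1
      · obtain ⟨j', rfl⟩ : ∃ j', j = j' + 1 := ⟨j - 1, by omega⟩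
        refine ⟨j', by omega, u, ?_⟩
        have : n - j' = (i : ℕ) := by omega
        rw [c_succ, this, mul_assoc, mul_assoc, t_sq, mul_one]
      · refine ⟨j, hj, u * t n ((i : ℕ) - 1), ?_⟩
        rw [map_mul, ι_t n _ (by omega), mul_assoc, mul_assoc, lemmaB n j i hj (by omega) hi]

theorem bound : ∀ n : ℕ, Finite (W n) ∧ Nat.card (W n) ≤ (n + 1).factorial := by
  intro n
  induction n with
  | zero =>
    have hsub : ∀ w : W 0, w = 1 := by
      intro w
      induction w using (cs 0).simple_induction_right with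
      | one => rfl
      | mul_simple_right w i ih => exact i.elim0
    haveI : Subsingleton (W 0) := ⟨fun a b => by rw [hsub a, hsub b]⟩
    refine ⟨inferInstance, ?_⟩
    rw [Nat.card_unique]
    simp
  | succ n ih =>
    obtain ⟨hfin, hcard⟩ := ih
    have hsurj : Function.Surjective (fun p : W n × Fin (n + 2) => ι n p.1 * c n p.2) := by
      intro w
      obtain ⟨j, hj, u, rfl⟩ := exists_decomp n w
      exact ⟨(u, ⟨j, by omega⟩), rfl⟩
    haveI : Finite (W (n + 1)) := Finite.of_surjective _ hsurj
    refine ⟨inferInstance, ?_⟩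
    have h1 := Nat.card_le_card_of_surjective _ hsurj
    rw [Nat.card_prod, Nat.card_eq_fintype_card (α := Fin (n + 2)), Fintype.card_fin] at h1
    calc Nat.card (W (n + 1)) ≤ Nat.card (W n) * (n + 2) := h1
      _ ≤ (n + 1).factorial * (n + 2) := Nat.mul_le_mul_right _ hcard
      _ = (n + 1 + 1).factorial := by rw [Nat.factorial_succ (n + 1)]; ring

theorem swap_liftable (n : ℕ) :
    (CoxeterMatrix.A n).IsLiftable (fun i : Fin n => Equiv.swap i.castSucc i.succ) := by
  intro i j
  rw [A_apply]
  show (Equiv.swap i.castSucc i.succ * Equiv.swap j.castSucc j.succ) ^ _ = 1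
  by_cases hij : i = j
  · subst hij
    rw [if_pos rfl, pow_one, Equiv.swap_mul_self]
  · rw [if_neg hij]
    have hijv : (i : ℕ) ≠ (j : ℕ) := fun h => hij (Fin.ext h)
    by_cases hadj : (j : ℕ) + 1 = i ∨ (i : ℕ) + 1 = j
    · rw [if_pos hadj]
      rcases hadj with h | h
      · have e : i.castSucc = j.succ := Fin.ext (by simp; omega)
        rw [e, Equiv.swap_comm j.castSucc j.succ]
        have h3 : (Equiv.swap j.succ i.succ * Equiv.swap j.succ j.castSucc).IsThreeCycle := by
          apply Equiv.Perm.isThreeCycle_swap_mul_swap_same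
          · intro h'
            have := congrArg Fin.val h'
            simp at this
            omega
          · intro h'
            have := congrArg Fin.val h'
            simp at this
          · intro h'
            have := congrArg Fin.val h'
            simp at this
            omega
        rw [← h3.orderOf]
        exact pow_orderOf_eq_one _
      · have e : j.castSucc = i.succ := Fin.ext (by simp; omega)
        rw [e, Equiv.swap_comm i.castSucc i.succ]
        have h3 : (Equiv.swap i.succ i.castSucc * Equiv.swap i.succ j.succ).IsThreeCycle := by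
          apply Equiv.Perm.isThreeCycle_swap_mul_swap_same
          · intro h'
            have := congrArg Fin.val h'
            simp at this
          · intro h'
            have := congrArg Fin.val h'
            simp at this
            omega
          · intro h'
            have := congrArg Fin.val h'
            simp at this
            omega
        rw [← h3.orderOf]
        exact pow_orderOf_eq_one _
    · rw [if_neg hadj]
      have hd : (Equiv.swap i.castSucc i.succ).Disjoint (Equiv.swap j.castSucc j.succ) := by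
        apply Equiv.Perm.disjoint_swap_swap
        simp only [List.nodup_cons, List.mem_cons, List.not_mem_nil, or_false, not_or,
          List.nodup_nil, and_true, not_false_eq_true]
        refine ⟨⟨?_, ?_, ?_⟩, ⟨?_, ?_⟩, ?_⟩
        all_goals
          intro h'
          have := congrArg Fin.val h'
          simp at this
          try omega
      rw [hd.commute.mul_pow, pow_two, pow_two, Equiv.swap_mul_self, Equiv.swap_mul_self, one_mul]

theorem result (n : ℕ) :
    ∃ cs : CoxeterSystem (CoxeterMatrix.A n) (Equiv.Perm (Fin (n + 1))), ∀ i : Fin n, cs.simple i = Equiv.swap i.castSucc i.succ := by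
  classical
  set ψ : W n →* Equiv.Perm (Fin (n + 1)) := (cs n).lift ⟨_, swap_liftable n⟩ with hψ
  have hψs : ∀ i : Fin n, ψ ((cs n).simple i) = Equiv.swap i.castSucc i.succ := by
    intro i
    rw [hψ, CoxeterSystem.lift_apply_simple]
  have hsurj : Function.Surjective ψ := by
    rw [← MonoidHom.mrange_eq_top, eq_top_iff, ← Equiv.Perm.mclosure_swap_castSucc_succ,
      Submonoid.closure_le]
    rintro _ ⟨i, rfl⟩
    exact ⟨(cs n).simple i, hψs i⟩
  obtain ⟨hfin, hcard⟩ := bound n
  have hbij : Function.Bijective ψ := by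
    apply hsurj.bijective_of_nat_card_le
    rw [Nat.card_perm, Nat.card_eq_fintype_card (α := Fin (n + 1)), Fintype.card_fin]
    exact hcard
  let e : W n ≃* Equiv.Perm (Fin (n + 1)) := MulEquiv.ofBijective ψ hbij
  refine ⟨⟨e.symm⟩, ?_⟩
  intro i
  show e.symm.symm (PresentedGroup.of i) = _
  rw [MulEquiv.symm_symm]
  exact hψs i

end Cfsg.Agent.S2530
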