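import Cfsg.Statements.S5344
import Mathlib
import Cfsg.Agent.Helper4.S4Coxeter

set_option autoImplicit false
open Cfsg

namespace Cfsg.Agent.S5344

/-- Two non-commuting members of a set of 3-transpositions satisfy the braid relation. -/
theorem braid_of_not_commute {G : Type*} [Group G] {D : Set G} (hD : Cfsg.IsThreeTranspositionSet D)
    {a b : G} (ha : a ∈ D) (hb : b ∈ D) (hab : ¬ Commute a b) :
    a * a = 1 ∧ b * b = 1 ∧ a * b * a = b * a * b := by
  obtain ⟨hord, hprod⟩ := hD
  have ha2 : a * a = 1 := by
    have := pow_orderOf_eq_one a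
    rw [hord a ha, pow_two] at this
    exact this
  have hb2 : b * b = 1 := by
    have := pow_orderOf_eq_one b
    rw [hord b hb, pow_two] at this
    exact this
  have hai : a⁻¹ = a := inv_eq_of_mul_eq_one_left ha2
  have hbi : b⁻¹ = b := inv_eq_of_mul_eq_one_left hb2
  refine ⟨ha2, hb2, ?_⟩
  rcases hprod a ha b hb with h | h
  · exfalso
    apply hab
    rw [pow_two] at h
    have h1 : a * b = (a * b)⁻¹ := eq_inv_of_mul_eq_one_left h
    rw [mul_inv_rev, hai, hbi] at h1
    exact h1
  · have h1 : a * b * a * (b * a * b) = 1 := by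
      rw [pow_succ, pow_two] at h
      rw [← h]; simp only [mul_assoc]
    have h2 : a * b * a = (b * a * b)⁻¹ := eq_inv_of_mul_eq_one_left h1
    rw [mul_inv_rev, mul_inv_rev, hai, hbi, ← mul_assoc] at h2
    exact h2

/-- In a set of 3-transpositions, let a, b, c be members with a and c different and commuting, while neither a nor c commutes with b (a 3-string). Then there is an injective homomorphism from the symmetric group of degree 4 into the ambient group sending the transpositions (0 1), (1 2), (2 3) to a, b, c; so a, b, c generate a copy of the symmetric group of degree 4 in which they are transpositions. -/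
theorem result {G : Type*} [Group G] {D : Set G} (hD : Cfsg.IsThreeTranspositionSet D) {a b c : G} (ha : a ∈ D) (hb : b ∈ D) (hc : c ∈ D) (hac : a ≠ c) (hac' : Commute a c) (hab : ¬ Commute a b) (hbc : ¬ Commute b c) : ∃ φ : Equiv.Perm (Fin 4) →* G, Function.Injective φ ∧ φ (Equiv.swap 0 1) = a ∧ φ (Equiv.swap 1 2) = b ∧ φ (Equiv.swap 2 3) = c := by
  obtain ⟨ha2, hb2, habr⟩ := braid_of_not_commute hD ha hb hab
  obtain ⟨-, hc2, hbcr⟩ := braid_of_not_commute hD hb hc hbc
  obtain ⟨φ, h1, h2, h3⟩ := Cfsg.Agent.Helper4.S4Coxeter.exists_hom a b c ha2 hb2 hc2 habr hbcr hac'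
  refine ⟨φ, ?_, h1, h2, h3⟩
  apply Cfsg.Agent.Helper4.S4Coxeter.injective_of_ne_one
  rw [map_mul, h1, h3]
  intro h
  apply hac
  have hci : c⁻¹ = c := inv_eq_of_mul_eq_one_left hc2
  rw [← hci]
  exact eq_inv_of_mul_eq_one_left h

end Cfsg.Agent.S5344
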