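import Cfsg.Statements.S5349
import Mathlib
import Cfsg.Agent.Helper4.ThreeTransO2

set_option autoImplicit false
open Cfsg

namespace Cfsg.Agent.S5349

/-- Let D be a conjugacy class of 3-transpositions generating the finite group G, with at least two members, and d a member of D. Then the set of members of D commuting with exactly the same members of D as d coincides with the set of members of D lying in the coset of d modulo the largest normal 2-subgroup of G, and also with the orbit of d under conjugation by that normal 2-subgroup. -/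
theorem result {G : Type*} [Group G] [Finite G] {D : Set G} (hD : Cfsg.IsThreeTranspositionClass D) (hD2 : ∃ a ∈ D, ∃ b ∈ D, a ≠ b) {d : G} (hd : d ∈ D) : {v : G | v ∈ D ∧ ∀ e ∈ D, Commute v e ↔ Commute d e} = {v : G | v ∈ D ∧ d⁻¹ * v ∈ Cfsg.pCore 2 G} ∧ {v : G | v ∈ D ∧ ∀ e ∈ D, Commute v e ↔ Commute d e} = {v : G | ∃ g ∈ Cfsg.pCore 2 G, v = g * d * g⁻¹} := by
  classical
  obtain ⟨hset, ⟨d₀, hd₀, hDeq⟩, hgen⟩ := hD
  have hmemD : ∀ x, x ∈ D ↔ IsConj d₀ x := fun x => by rw [hDeq]; rfl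
  have hconj : ∀ g : G, ∀ x ∈ D, g * x * g⁻¹ ∈ D := by
    intro g x hx
    rw [hmemD] at hx ⊢
    exact hx.trans (isConj_iff.mpr ⟨g, rfl⟩)
  have hconjd : ∀ d ∈ D, ∀ e ∈ D, ∃ g : G, g * d * g⁻¹ = e := by
    intro d hd e he
    rw [hmemD] at he hd
    exact isConj_iff.mp (hd.symm.trans he)
  have hd2 := Cfsg.Agent.Helper4.ThreeTransO2.sq_eq_one hset hd
  have hdi : d⁻¹ = d := inv_eq_of_mul_eq_one_left hd2
  have hN : (Cfsg.pCore 2 G).Normal := Cfsg.pCore_normal 2 G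
  obtain ⟨a, ha, hda⟩ := Cfsg.Agent.Helper4.ThreeTransO2.exists_not_commute hgen hconjd hD2 hd
  -- A ⊆ C
  have hAC : ∀ v, (v ∈ D ∧ ∀ e ∈ D, Commute v e ↔ Commute d e) →
      ∃ g ∈ Cfsg.pCore 2 G, v = g * d * g⁻¹ := by
    rintro v ⟨hv, hV⟩
    by_cases hne : v = d
    · exact ⟨1, (Cfsg.pCore 2 G).one_mem, by rw [hne]; simp⟩
    · exact Cfsg.Agent.Helper4.ThreeTransO2.exists_conj_mem_pCore hset hconj hd hv ha hne hV hda
  -- C ⊆ B
  have hCB : ∀ v, (∃ g ∈ Cfsg.pCore 2 G, v = g * d * g⁻¹) → v ∈ D ∧ d⁻¹ * v ∈ Cfsg.pCore 2 G := by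
    rintro v ⟨g, hg, rfl⟩
    refine ⟨hconj g d hd, ?_⟩
    have h1 : d⁻¹ * (g * d * g⁻¹) = (d⁻¹ * g * d⁻¹⁻¹) * g⁻¹ := by group
    rw [h1]
    exact (Cfsg.pCore 2 G).mul_mem (hN.conj_mem g hg d⁻¹) ((Cfsg.pCore 2 G).inv_mem hg)
  -- B ⊆ A
  have hBA : ∀ v, (v ∈ D ∧ d⁻¹ * v ∈ Cfsg.pCore 2 G) → v ∈ D ∧ ∀ e ∈ D, Commute v e ↔ Commute d e := by
    rintro v ⟨hv, hz⟩
    refine ⟨hv, fun e he => ⟨fun h => ?_, fun h => ?_⟩⟩
    · have hz' : v⁻¹ * d ∈ Cfsg.pCore 2 G := by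
        have := (Cfsg.pCore 2 G).inv_mem hz
        rwa [mul_inv_rev, inv_inv] at this
      exact Cfsg.Agent.Helper4.ThreeTransO2.commute_of_mem_pCore hset hconj hv hd he hz' h
    · exact Cfsg.Agent.Helper4.ThreeTransO2.commute_of_mem_pCore hset hconj hd hv he hz h
  constructor
  · ext v
    exact ⟨fun h => hCB v (hAC v h), fun h => hBA v h⟩
  · ext v
    exact ⟨fun h => hAC v h, fun h => hBA v (hCB v h)⟩

end Cfsg.Agent.S5349
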