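import Cfsg.Statements.S1465
import Cfsg.Agent.Helper26.QuadStable2
import Cfsg.Agent.Helper23.HallHigman
import Cfsg.Agent.Helper10.SolvPSolv

set_option autoImplicit false
open Cfsg
open scoped commutatorElement

namespace Cfsg.Agent.S1465

/-- Let p be an odd prime, G a solvable group of odd order, P a normal p-subgroup of G, and X the subgroup generated by a family of abelian p-subgroups of G each normalized by P. Then the image of X in G/C_G(P) lies in O_p(G/C_G(P)); and if O_{p'}(G) = 1 and O_p(G) ∩ C_G(P) ≤ P then X ≤ O_p(G). -/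
theorem result {G : Type*} [Group G] [Finite G] [Group.IsSolvable G] (hodd : Odd (Nat.card G)) (p : ℕ) [Fact p.Prime] (hp : p ≠ 2) (P : Subgroup G) [P.Normal] (hP : IsPGroup p P)
    (S : Set (Subgroup G)) (hS : ∀ B ∈ S, IsMulCommutative B ∧ IsPGroup p B ∧ P ≤ Subgroup.normalizer (B : Set G)) :
    (sSup S).map (QuotientGroup.mk' (Subgroup.centralizer (P : Set G))) ≤ Cfsg.pCore p (G ⧸ Subgroup.centralizer (P : Set G)) ∧
      (Cfsg.pPrimeCore p G = ⊥ → Cfsg.pCore p G ⊓ Subgroup.centralizer (P : Set G) ≤ P → sSup S ≤ Cfsg.pCore p G) := by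
  classical
  set C := Subgroup.centralizer (P : Set G) with hC
  set π := QuotientGroup.mk' C with hπ
  have hπs : Function.Surjective π := QuotientGroup.mk'_surjective C
  have key : ∀ B ∈ S, ∀ b ∈ B, ∃ D : Subgroup G, D.Normal ∧ C ≤ D ∧
      (∀ d ∈ D, ∃ k : ℕ, d ^ p ^ k ∈ C) ∧ b ∈ D := by
    intro B hB b hb
    obtain ⟨hBc, hBp, hBn⟩ := hS B hB
    have hq : ∀ x ∈ P, ⁅⁅x, b⁆, b⁆ ∈ (frattini ↥P).map P.subtype := by
      intro x hx
      have h3 : ⁅x, b⁆ ∈ B := by
        have hsn := hBn hx
        rw [Subgroup.mem_normalizer_iff] at hsn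
        rw [commutatorElement_def]
        have : x * b * x⁻¹ ∈ B := (hsn b).mp hb
        exact B.mul_mem this (B.inv_mem hb)
      have h4 : ⁅⁅x, b⁆, b⁆ = 1 := by
        rw [commutatorElement_eq_one_iff_mul_comm]
        have := hBc.is_comm.comm (⟨_, h3⟩ : B) ⟨b, hb⟩
        exact congrArg Subtype.val this
      rw [h4]
      exact one_mem _
    exact Cfsg.Agent.Helper26.exists_normal_of_quad_frat' hp P hP
      (Cfsg.Agent.Helper26.ab2_of_odd hodd) b hq
  refine ⟨?_, ?_⟩
  · rw [Subgroup.map_le_iff_le_comap]
    apply sSup_le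
    intro B hB b hb
    obtain ⟨D, hDn, hD1, hD2, hD3⟩ := key B hB b hb
    rw [Subgroup.mem_comap]
    have hDmn : (D.map π).Normal := hDn.map π hπs
    have hDmp : IsPGroup p (D.map π) := by
      rintro ⟨y, hy⟩
      obtain ⟨d, hd, rfl⟩ := Subgroup.mem_map.mp hy
      obtain ⟨k, hk⟩ := hD2 d hd
      refine ⟨k, ?_⟩
      apply Subtype.ext
      simp only [SubgroupClass.coe_pow, Subgroup.coe_one]
      rw [← map_pow]
      exact (QuotientGroup.eq_one_iff _).mpr hk
    exact Cfsg.Agent.Helper14.le_pCore p hDmn hDmp (Subgroup.mem_map_of_mem π hD3)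
  · intro hO hQP
    set Q := Cfsg.pCore p G with hQ
    have hQp : IsPGroup p Q := Cfsg.Agent.Helper14.pCore_isPGroup p
    have hCQ : Subgroup.centralizer (Q : Set G) ≤ Q :=
      Cfsg.Agent.Helper23.centralizer_pCore_le_of_isPSolvable
        (Cfsg.Agent.Helper10.isPSolvable_of_isSolvable p inferInstance) hO
    have hCn : C.Normal := inferInstance
    have hQn : Q.Normal := inferInstance
    -- `C` is a `p`-group
    have hCp : ∀ c ∈ C, c ^ (Nat.card P * Nat.card Q) = 1 := by
      intro c hc
      have h1 : c ^ Nat.card P ∈ Subgroup.centralizer (Q : Set G) := by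
        rw [Subgroup.mem_centralizer_iff]
        intro x hx
        have hz : x⁻¹ * (c * x * c⁻¹) ∈ P := by
          apply hQP
          refine ⟨Q.mul_mem (Q.inv_mem hx) (hQn.conj_mem x hx c), ?_⟩
          have : x⁻¹ * (c * x * c⁻¹) = (x⁻¹ * c * x⁻¹⁻¹) * c⁻¹ := by group
          rw [this]
          exact C.mul_mem (hCn.conj_mem c hc x⁻¹) (C.inv_mem hc)
        set z := x⁻¹ * (c * x * c⁻¹) with hzdef
        have hcz : c * z = z * c := by
          have := (Subgroup.mem_centralizer_iff.mp hc) z hz
          exact this.symm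
        have hpow : ∀ n : ℕ, c ^ n * x = x * z ^ n * c ^ n := by
          intro n
          induction n with
          | zero => simp
          | succ n ih =>
            have hczn : c * z ^ n = z ^ n * c := by
              have : Commute c z := hcz
              exact (this.pow_right n).eq
            calc c ^ (n + 1) * x = c * (c ^ n * x) := by rw [pow_succ']; group
              _ = c * (x * z ^ n * c ^ n) := by rw [ih]
              _ = (c * x * c⁻¹) * (c * z ^ n) * c ^ n := by group
              _ = (x * z) * (z ^ n * c) * c ^ n := by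
                  rw [hczn]
                  have : c * x * c⁻¹ = x * z := by rw [hzdef]; group
                  rw [this]
              _ = x * z ^ (n + 1) * c ^ (n + 1) := by
                  rw [pow_succ' z n, pow_succ' c n]; group
        have hzP : z ^ Nat.card P = 1 := by
          have := pow_card_eq_one' (G := P) (x := ⟨z, hz⟩)
          exact congrArg Subtype.val this
        have := hpow (Nat.card P)
        rw [hzP, mul_one] at this
        exact this.symm
      have h2 := hCQ h1
      have := pow_card_eq_one' (G := Q) (x := ⟨_, h2⟩)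
      have h3 := congrArg Subtype.val this
      simp only [SubgroupClass.coe_pow, Subgroup.coe_one] at h3
      rw [pow_mul]
      exact h3
    obtain ⟨nP, hnP⟩ := IsPGroup.iff_card.mp hP
    obtain ⟨nQ, hnQ⟩ := IsPGroup.iff_card.mp hQp
    apply sSup_le
    intro B hB b hb
    obtain ⟨D, hDn, hD1, hD2, hD3⟩ := key B hB b hb
    have hDp : IsPGroup p D := by
      rintro ⟨d, hd⟩
      obtain ⟨k, hk⟩ := hD2 d hd
      refine ⟨k + (nP + nQ), ?_⟩
      apply Subtype.ext
      simp only [SubgroupClass.coe_pow, Subgroup.coe_one]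
      have := hCp _ hk
      rw [hnP, hnQ, ← pow_add] at this
      rw [pow_add, pow_mul]
      exact this
    exact Cfsg.Agent.Helper14.le_pCore p hDn hDp hD3

end Cfsg.Agent.S1465
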