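import Cfsg.Statements.S1466
import Mathlib
import Cfsg.Agent.Helper23.PGroup

set_option autoImplicit false
open Cfsg

namespace Cfsg.Agent.S1466

/-- Let p be a prime and R a nontrivial finite p-group. Then for every i > 0, Z(R) ≤ C_R(L_i(R)) ≤ L_i(R); likewise Z(R) ≤ C_R(L_*(R)) ≤ L_*(R) and Z(R) ≤ C_R(L(R)) ≤ L(R); and L(R) ≠ 1, L_*(R) ≠ 1. -/
theorem result {R : Type*} [Group R] [Finite R] (p : ℕ) [Fact p.Prime] (hR : IsPGroup p R) [Nontrivial R] :
    (∀ i : ℕ, 0 < i → Subgroup.center R ≤ Subgroup.centralizer ((Cfsg.puigSeq R i : Subgroup R) : Set R) ∧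
        Subgroup.centralizer ((Cfsg.puigSeq R i : Subgroup R) : Set R) ≤ Cfsg.puigSeq R i) ∧
      (Subgroup.center R ≤ Subgroup.centralizer ((Cfsg.puigLower R : Subgroup R) : Set R) ∧ Subgroup.centralizer ((Cfsg.puigLower R : Subgroup R) : Set R) ≤ Cfsg.puigLower R) ∧
      (Subgroup.center R ≤ Subgroup.centralizer ((Cfsg.puigSubgroup R : Subgroup R) : Set R) ∧ Subgroup.centralizer ((Cfsg.puigSubgroup R : Subgroup R) : Set R) ≤ Cfsg.puigSubgroup R) ∧
      Cfsg.puigSubgroup R ≠ ⊥ ∧ Cfsg.puigLower R ≠ ⊥ := by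
  obtain ⟨A, hAn, hAc, hCA⟩ := Cfsg.Agent.Helper23.exists_normal_abelian_centralizer_le hR
  -- A lies in every puigStep
  have hAstep : ∀ X : Subgroup R, A ≤ Cfsg.puigStep X := by
    intro X
    unfold Cfsg.puigStep
    apply le_sSup
    refine ⟨hAc, ?_⟩
    have : Subgroup.normalizer (A : Set R) = ⊤ := Subgroup.normalizer_eq_top_iff.mpr hAn
    rw [this]; exact le_top
  have hAseq : ∀ i : ℕ, 0 < i → A ≤ Cfsg.puigSeq R i := by
    intro i hi
    obtain ⟨j, rfl⟩ := Nat.exists_eq_succ_of_ne_zero hi.ne'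
    exact hAstep _
  have hcent : ∀ L : Subgroup R, A ≤ L →
      Subgroup.center R ≤ Subgroup.centralizer (L : Set R) ∧ Subgroup.centralizer (L : Set R) ≤ L := by
    intro L hAL
    refine ⟨Subgroup.center_le_centralizer _, ?_⟩
    exact (Subgroup.centralizer_le hAL).trans (hCA.trans hAL)
  have hA1 : A ≠ ⊥ := by
    intro h
    rw [h] at hCA
    have : (⊤ : Subgroup R) ≤ ⊥ := by
      have h2 : Subgroup.centralizer ((⊥ : Subgroup R) : Set R) = ⊤ := by
        rw [Subgroup.coe_bot]; exact Subgroup.centralizer_eq_top_iff_subset.mpr (by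
          intro x hx
          rw [Set.mem_singleton_iff] at hx
          rw [hx]; exact Subgroup.one_mem _)
      rw [← h2]; exact hCA
    exact (Subgroup.nontrivial_iff_ne_bot _).mp inferInstance (le_bot_iff.mp this) |> fun x => x
  have hAlower : A ≤ Cfsg.puigLower R := by
    unfold Cfsg.puigLower
    exact (hAseq 2 (by norm_num)).trans (le_iSup (fun n => Cfsg.puigSeq R (2 * n)) 1)
  have hAsub : A ≤ Cfsg.puigSubgroup R := by
    unfold Cfsg.puigSubgroup
    apply le_iInf
    intro n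
    exact hAseq _ (by omega)
  refine ⟨fun i hi => hcent _ (hAseq i hi), hcent _ hAlower, hcent _ hAsub, ?_, ?_⟩
  · intro h; apply hA1; rw [h] at hAsub; exact le_bot_iff.mp hAsub
  · intro h; apply hA1; rw [h] at hAlower; exact le_bot_iff.mp hAlower

end Cfsg.Agent.S1466
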