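import Cfsg.Statements.S1467
import Mathlib

set_option autoImplicit false
open Cfsg

namespace Cfsg.Agent.S1467

theorem puigStep_anti {G : Type*} [Group G] {X Y : Subgroup G} (h : X ≤ Y) :
    Cfsg.puigStep Y ≤ Cfsg.puigStep X := by
  unfold Cfsg.puigStep
  apply sSup_le_sSup
  rintro A ⟨hA, hY⟩
  exact ⟨hA, h.trans hY⟩

theorem puigStep_bot {G : Type*} [Group G] : Cfsg.puigStep (⊥ : Subgroup G) = ⊤ := by
  rw [eq_top_iff]
  intro g _
  have : Subgroup.zpowers g ≤ Cfsg.puigStep (⊥ : Subgroup G) := by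
    unfold Cfsg.puigStep
    apply le_sSup
    refine ⟨?_, bot_le⟩
    infer_instance
  exact this (Subgroup.mem_zpowers g)

theorem seq_succ {G : Type*} [Group G] (n : ℕ) :
    Cfsg.puigSeq G (n + 1) = Cfsg.puigStep (Cfsg.puigSeq G n) := rfl

theorem even_le_odd {G : Type*} [Group G] (N : ℕ) :
    Cfsg.puigSeq G (2 * N) ≤ Cfsg.puigSeq G (2 * N + 1) := by
  induction N with
  | zero => exact bot_le
  | succ N ih =>
    have h1 : Cfsg.puigSeq G (2 * N + 2) ≤ Cfsg.puigSeq G (2 * N + 1) := by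
      rw [seq_succ (2 * N + 1), seq_succ (2 * N)]
      exact puigStep_anti ih
    have h2 : Cfsg.puigSeq G (2 * N + 2) ≤ Cfsg.puigSeq G (2 * N + 3) := by
      rw [seq_succ (2 * N + 2)]
      conv_lhs => rw [seq_succ (2 * N + 1)]
      exact puigStep_anti h1
    have e : 2 * (N + 1) = 2 * N + 2 := by ring
    rw [e]
    exact h2

theorem odd_succ_le_even {G : Type*} [Group G] (N : ℕ) :
    Cfsg.puigSeq G (2 * N + 2) ≤ Cfsg.puigSeq G (2 * N + 1) := by
  rw [seq_succ (2 * N + 1), seq_succ (2 * N)]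
  exact puigStep_anti (even_le_odd N)

theorem even_mono_step {G : Type*} [Group G] (N : ℕ) :
    Cfsg.puigSeq G (2 * N) ≤ Cfsg.puigSeq G (2 * N + 2) := by
  induction N with
  | zero => exact bot_le
  | succ N ih =>
    have h1 : Cfsg.puigSeq G (2 * N + 3) ≤ Cfsg.puigSeq G (2 * N + 1) := by
      rw [seq_succ (2 * N + 2), seq_succ (2 * N)]
      exact puigStep_anti ih
    have e : 2 * (N + 1) = 2 * N + 2 := by ring
    have e2 : 2 * (N + 1) + 2 = 2 * N + 4 := by ring
    rw [e2, e, seq_succ (2 * N + 3), seq_succ (2 * N + 1)]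
    exact puigStep_anti h1

theorem odd_anti_step {G : Type*} [Group G] (N : ℕ) :
    Cfsg.puigSeq G (2 * N + 3) ≤ Cfsg.puigSeq G (2 * N + 1) := by
  rw [seq_succ (2 * N + 2), seq_succ (2 * N)]
  exact puigStep_anti (even_mono_step N)

theorem even_mono {G : Type*} [Group G] : Monotone (fun n => Cfsg.puigSeq G (2 * n)) := by
  apply monotone_nat_of_le_succ
  intro n
  have e : 2 * (n + 1) = 2 * n + 2 := by ring
  show Cfsg.puigSeq G (2 * n) ≤ Cfsg.puigSeq G (2 * (n + 1))
  rw [e]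
  exact even_mono_step n

theorem odd_anti {G : Type*} [Group G] : Antitone (fun n => Cfsg.puigSeq G (2 * n + 1)) := by
  apply antitone_nat_of_succ_le
  intro n
  have e : 2 * (n + 1) + 1 = 2 * n + 3 := by ring
  show Cfsg.puigSeq G (2 * (n + 1) + 1) ≤ Cfsg.puigSeq G (2 * n + 1)
  rw [e]
  exact odd_anti_step n

theorem even_le_odd' {G : Type*} [Group G] (n m : ℕ) :
    Cfsg.puigSeq G (2 * n) ≤ Cfsg.puigSeq G (2 * m + 1) := by
  have h1 := even_mono (G := G) (le_max_left n m)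
  have h2 := odd_anti (G := G) (le_max_right n m)
  exact h1.trans ((even_le_odd (max n m)).trans h2)

theorem result {G : Type*} [Group G] [Finite G] :
    Cfsg.puigSeq G 0 = ⊥ ∧ Cfsg.puigSeq G 1 = ⊤ ∧
      (∀ n m : ℕ, Cfsg.puigSeq G (2 * n) ≤ Cfsg.puigSeq G (2 * n + 2) ∧ Cfsg.puigSeq G (2 * n) ≤ Cfsg.puigSeq G (2 * m + 1) ∧
        Cfsg.puigSeq G (2 * m + 3) ≤ Cfsg.puigSeq G (2 * m + 1)) ∧
      (∃ k : ℕ, ∀ n : ℕ, k ≤ n → Cfsg.puigSeq G (2 * n) = Cfsg.puigLower G ∧ Cfsg.puigSeq G (2 * n + 1) = Cfsg.puigSubgroup G) ∧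
      Cfsg.puigLower G ≤ Cfsg.puigSubgroup G ∧
      Cfsg.puigStep (Cfsg.puigLower G) = Cfsg.puigSubgroup G ∧ Cfsg.puigStep (Cfsg.puigSubgroup G) = Cfsg.puigLower G := by
  have hstab : ∃ k : ℕ, ∀ n : ℕ, k ≤ n → Cfsg.puigSeq G (2 * n) = Cfsg.puigLower G ∧ Cfsg.puigSeq G (2 * n + 1) = Cfsg.puigSubgroup G := by
    obtain ⟨k1, hk1⟩ := (wellFoundedGT_iff_monotone_chain_condition (α := Subgroup G)).mp inferInstance
      ⟨fun n => Cfsg.puigSeq G (2 * n), even_mono⟩
    obtain ⟨k2, hk2⟩ := WellFoundedLT.antitone_chain_condition (α := Subgroup G)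
      (f := fun n => Cfsg.puigSeq G (2 * n + 1)) odd_anti
    refine ⟨max k1 k2, fun n hn => ⟨?_, ?_⟩⟩
    · have hn1 : k1 ≤ n := (le_max_left _ _).trans hn
      unfold Cfsg.puigLower
      apply le_antisymm
      · exact le_iSup (fun n => Cfsg.puigSeq G (2 * n)) n
      · apply iSup_le
        intro m
        rcases le_total m n with h | h
        · exact even_mono h
        · have := hk1 m (hn1.trans h)
          have h2 := hk1 n hn1
          simp only [OrderHom.coe_mk] at this h2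
          rw [← this, h2]
    · have hn2 : k2 ≤ n := (le_max_right _ _).trans hn
      unfold Cfsg.puigSubgroup
      apply le_antisymm
      · apply le_iInf
        intro m
        rcases le_total m n with h | h
        · exact odd_anti h
        · have := hk2 m (hn2.trans h)
          have h2 := hk2 n hn2
          rw [← this, h2]
      · exact iInf_le (fun n => Cfsg.puigSeq G (2 * n + 1)) n
  refine ⟨rfl, ?_, ?_, hstab, ?_, ?_, ?_⟩
  · rw [seq_succ 0]; exact puigStep_bot
  · intro n m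
    exact ⟨even_mono_step n, even_le_odd' n m, odd_anti_step m⟩
  · unfold Cfsg.puigLower Cfsg.puigSubgroup
    apply iSup_le
    intro n
    apply le_iInf
    intro m
    exact even_le_odd' n m
  · obtain ⟨k, hk⟩ := hstab
    rw [← (hk k le_rfl).1, ← (hk k le_rfl).2]
    rfl
  · obtain ⟨k, hk⟩ := hstab
    rw [← (hk k le_rfl).2, ← (hk (k+1) (Nat.le_succ k)).1]
    rfl

end Cfsg.Agent.S1467
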