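import Mathlib
import Cfsg.Statements.S0744
import Cfsg.Agent.Helper4.MultiTrans
import Cfsg.Agent.Helper4.ConstStab
-- import your own Cfsg.Agent.* helpers here

set_option autoImplicit false
set_option linter.style.haveILetI false
open Cfsg

namespace Cfsg.Agent.S0744

/-- If for some `k > 1` the pointwise stabilisers of all `(k-1)`-subsets have the same order `> 1` and those of all `k`-subsets have the same order, then the group is `(k-1)`-transitive. -/
theorem result {α : Type*} [Fintype α] [DecidableEq α] (G : Subgroup (Equiv.Perm α)) {k : ℕ} (hk : 1 < k) (hkn : k ≤ Fintype.card α) (l m : ℕ) (hl : 1 < l) (hkm1 : ∀ s : Finset α, s.card = k - 1 → Nat.card (fixingSubgroup G (s : Set α)) = l) (hkm : ∀ s : Finset α, s.card = k → Nat.card (fixingSubgroup G (s : Set α)) = m) : MulAction.IsMultiplyPretransitive G α (k - 1) := by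
  classical
  obtain ⟨j, rfl⟩ : ∃ j, k = j + 2 := ⟨k - 2, by omega⟩
  have e1 : j + 2 - 1 = j + 1 := by omega
  rw [e1] at hkm1 ⊢
  haveI : Finite G := Finite.of_injective (fun g : G => (g : Equiv.Perm α)) Subtype.val_injective
  apply Cfsg.Agent.Helper4.isMultiplyPretransitive_of_fixing_transitive j hkn
  intro T hT u v huT hvT
  apply Cfsg.Agent.Helper4.fixing_transitive_of_const_card (G := G) _ (T : Set α) l m hl _ _ u v
    (by simpa using huT) (by simpa using hvT)
  · intro g hg
    apply Subtype.ext
    ext x
    exact hg x
  · intro x hx
    have hx' : x ∉ T := by simpa using hx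
    have := hkm1 (insert x T) (by rw [Finset.card_insert_of_notMem hx', hT])
    rwa [Finset.coe_insert] at this
  · intro x y hx hy hxy
    have hx' : x ∉ T := by simpa using hx
    have hy' : y ∉ insert x T := by
      rw [Finset.mem_insert]
      rintro (h | h)
      · exact hxy h.symm
      · exact hy (by simpa using h)
    have := hkm (insert y (insert x T)) (by
      rw [Finset.card_insert_of_notMem hy', Finset.card_insert_of_notMem hx', hT])
    rwa [Finset.coe_insert, Finset.coe_insert] at this

end Cfsg.Agent.S0744
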