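import Cfsg.Statements.S2947
import Cfsg.Agent.Helper19.Sylow
import Cfsg.Agent.Helper1.SylowBasic

set_option autoImplicit false
open Cfsg

namespace Cfsg.Agent.S2947

/-- Let G be a finite group of characteristic 2 type in which every 2-local subgroup is solvable and the centralizer of Ω₁(Z(S)) lies in N_G(S) for every Sylow 2-subgroup S; suppose O₂(G) = 1, fix a Sylow 2-subgroup S and a 2-local subgroup M containing N_G(J(S)) (J the Thompson subgroup generated by the elementary abelian 2-subgroups of largest order). Then M is strongly embedded in G (a proper subgroup of even order whose intersection with each conjugate by an element outside M has odd order) if and only if no nontrivial 2-subgroup of M lies in a 2-local subgroup of G not contained in M. -/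
theorem result {G : Type*} [Group G] [Finite G] (hL : Cfsg.IsCharacteristicTwoType G) (hN : ∀ N : Subgroup G, Cfsg.IsTwoLocal N → Group.IsSolvable ↥N)
    (hZ : ∀ S : Sylow 2 G, Subgroup.centralizer (Cfsg.omegaCenterOf (S : Subgroup G) : Set G) ≤ Subgroup.normalizer ((S : Subgroup G) : Set G)) (hO : Cfsg.pCore 2 G = ⊥) (S : Sylow 2 G) (M : Subgroup G) (hM : Cfsg.IsTwoLocal M)
    (hMJ : Subgroup.normalizer (Cfsg.thompsonSubgroupOf 2 (S : Subgroup G) : Set G) ≤ M) :
    Cfsg.IsStronglyEmbedded M ↔ Cfsg.straddlingTwoSubgroups M = ∅ := by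
  have : Fact (Nat.Prime 2) := ⟨Nat.prime_two⟩
  -- generic consequences of `key1`
  have key2_of : (∀ T : Subgroup G, IsPGroup 2 T → T ≠ ⊥ → T ≤ M →
      Subgroup.normalizer (T : Set G) ≤ M) →
      ∀ R : Subgroup G, IsPGroup 2 R → R ⊓ M ≠ ⊥ → R ≤ M := by
    intro key1 R hR2 hRM
    by_contra hnot
    have hlt : R ⊓ M < R := lt_of_le_of_ne inf_le_left (fun h => hnot (h ▸ inf_le_right))
    obtain ⟨x, hxR, hxN, hxn⟩ := Cfsg.Agent.Helper19.exists_mem_normalizer_not_mem hR2 hlt
    have hxM : x ∈ M := key1 (R ⊓ M) (hR2.to_le inf_le_left) hRM inf_le_right hxN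
    exact hxn ⟨hxR, hxM⟩
  constructor
  · -- (⇒)
    intro hSE
    have key1 : ∀ T : Subgroup G, IsPGroup 2 T → T ≠ ⊥ → T ≤ M →
        Subgroup.normalizer (T : Set G) ≤ M := by
      intro T hT2 hT1 hTM g hg
      by_contra hgM
      have hodd := hSE.2.2 g hgM
      have hTD : T ≤ M ⊓ M.map (MulAut.conj g).toMonoidHom := by
        intro t ht
        refine ⟨hTM ht, ?_⟩
        show t ∈ M.map (MulAut.conj g).toMonoidHom
        rw [Cfsg.Agent.Helper1.mem_map_conj_iff]
        apply hTM
        have hg' : g⁻¹ ∈ Subgroup.normalizer (T : Set G) := Subgroup.inv_mem _ hg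
        have := (Subgroup.mem_normalizer_iff.mp hg' t).mp ht
        simpa using this
      have hdvd := Subgroup.card_dvd_of_le hTD
      obtain ⟨k, hk⟩ := IsPGroup.iff_card.mp hT2
      have hk0 : k ≠ 0 := by
        rintro rfl
        rw [pow_zero] at hk
        exact hT1 (Subgroup.card_eq_one.mp hk)
      have h2 : 2 ∣ Nat.card (M ⊓ M.map (MulAut.conj g).toMonoidHom : Subgroup G) := by
        refine dvd_trans ?_ hdvd
        rw [hk]
        exact dvd_pow_self 2 hk0
      rw [Nat.odd_iff] at hodd
      omega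
    have key2 := key2_of key1
    rw [Set.eq_empty_iff_forall_notMem]
    rintro T ⟨hT2, hT1, hTM, L, ⟨R, hR2, hR1, rfl⟩, hTL, hLM⟩
    have hTR : IsPGroup 2 (T ⊔ R : Subgroup G) := IsPGroup.to_sup_of_normal_right' hT2 hR2 hTL
    have hne : (T ⊔ R) ⊓ M ≠ ⊥ := by
      intro h
      apply hT1
      rw [eq_bot_iff, ← h]
      exact le_inf le_sup_left hTM
    have hle : T ⊔ R ≤ M := key2 _ hTR hne
    exact hLM (key1 R hR2 hR1 (le_sup_right.trans hle))
  · -- (⇐)
    intro hemp
    have key1 : ∀ T : Subgroup G, IsPGroup 2 T → T ≠ ⊥ → T ≤ M →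
        Subgroup.normalizer (T : Set G) ≤ M := by
      intro T hT2 hT1 hTM
      by_contra hnot
      have : T ∈ Cfsg.straddlingTwoSubgroups M :=
        ⟨hT2, hT1, hTM, Subgroup.normalizer (T : Set G), ⟨T, hT2, hT1, rfl⟩,
          Subgroup.le_normalizer, hnot⟩
      rw [hemp] at this
      exact this
    have key2 := key2_of key1
    -- Claim B
    have claimB : ∀ T : Subgroup G, IsPGroup 2 T → T ≠ ⊥ → T ≤ M → ∀ x : G,
        T.map (MulAut.conj x).toMonoidHom ≤ M → x ∈ M := by
      intro T hT2 hT1 hTM x hx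
      obtain ⟨P, hTP⟩ := hT2.exists_le_sylow
      have hPM : (P : Subgroup G) ≤ M := by
        apply key2 _ P.isPGroup'
        intro h
        apply hT1
        rw [eq_bot_iff, ← h]
        exact le_inf hTP hTM
      have hQM : ((x • P : Sylow 2 G) : Subgroup G) ≤ M := by
        apply key2 _ (x • P : Sylow 2 G).isPGroup'
        intro h
        have hTx : T.map (MulAut.conj x).toMonoidHom ≤ ((x • P : Sylow 2 G) : Subgroup G) ⊓ M := by
          refine le_inf ?_ hx
          rw [Sylow.coe_subgroup_smul]
          exact Subgroup.map_mono hTP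
        rw [h, le_bot_iff] at hTx
        apply hT1
        rw [eq_bot_iff]
        intro t ht
        have : (MulAut.conj x) t ∈ T.map (MulAut.conj x).toMonoidHom := ⟨t, ht, rfl⟩
        rw [hTx, Subgroup.mem_bot] at this
        rw [Subgroup.mem_bot]
        exact (MulAut.conj x).map_eq_one_iff.mp this
      obtain ⟨c, hcM, hc⟩ := Cfsg.Agent.Helper1.sylow_conj_in_subgroup P (x • P) M hPM hQM
      have h1 : (c⁻¹ * x) • P = P := by
        rw [mul_smul, ← hc, smul_smul, inv_mul_cancel, one_smul]
      have h2 : c⁻¹ * x ∈ Subgroup.normalizer ((P : Subgroup G) : Set G) :=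
        Sylow.smul_eq_iff_mem_normalizer.mp h1
      have hP1 : (P : Subgroup G) ≠ ⊥ := by
        intro h
        apply hT1
        rw [eq_bot_iff, ← h]
        exact hTP
      have h3 : c⁻¹ * x ∈ M := key1 _ P.isPGroup' hP1 hPM h2
      have : x = c * (c⁻¹ * x) := by group
      rw [this]
      exact M.mul_mem hcM h3
    obtain ⟨R₀, hR₀2, hR₀1, hMR₀⟩ := hM
    have hR₀M : R₀ ≤ M := by rw [hMR₀]; exact Subgroup.le_normalizer
    refine ⟨?_, ?_, ?_⟩
    · intro htop
      have hn : R₀.Normal := by
        rw [← Subgroup.normalizer_eq_top_iff, ← hMR₀, htop]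
      have : R₀ ≤ Cfsg.pCore 2 G := le_sSup ⟨hn, hR₀2⟩
      rw [hO, le_bot_iff] at this
      exact hR₀1 this
    · obtain ⟨k, hk⟩ := IsPGroup.iff_card.mp hR₀2
      have hk0 : k ≠ 0 := by
        rintro rfl
        rw [pow_zero] at hk
        exact hR₀1 (Subgroup.card_eq_one.mp hk)
      rw [even_iff_two_dvd]
      refine dvd_trans ?_ (Subgroup.card_dvd_of_le hR₀M)
      rw [hk]
      exact dvd_pow_self 2 hk0
    · intro g hg
      by_contra hodd
      rw [Nat.not_odd_iff_even, even_iff_two_dvd] at hodd
      obtain ⟨t, ht⟩ := exists_prime_orderOf_dvd_card' 2 hodd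
      have htord : orderOf (t : G) = 2 := by rw [Subgroup.orderOf_coe]; exact ht
      have htM : (t : G) ∈ M := t.2.1
      have htg : (t : G) ∈ M.map (MulAut.conj g).toMonoidHom := t.2.2
      rw [Cfsg.Agent.Helper1.mem_map_conj_iff] at htg
      set T : Subgroup G := Subgroup.zpowers (t : G) with hT
      have hT2 : IsPGroup 2 T := by
        apply IsPGroup.of_card (n := 1)
        rw [hT, Nat.card_zpowers, htord, pow_one]
      have hT1 : T ≠ ⊥ := by
        rw [hT, Subgroup.zpowers_ne_bot]
        intro h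
        rw [h, orderOf_one] at htord
        omega
      have hTM : T ≤ M := by
        rw [hT, Subgroup.zpowers_le]; exact htM
      have hTx : T.map (MulAut.conj g⁻¹).toMonoidHom ≤ M := by
        rw [hT, MonoidHom.map_zpowers, Subgroup.zpowers_le]
        simpa using htg
      have := claimB T hT2 hT1 hTM g⁻¹ hTx
      exact hg (by simpa using this)

end Cfsg.Agent.S2947
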