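import Cfsg.Statements.S1304
import Mathlib

set_option autoImplicit false
open Cfsg
open scoped commutatorElement

namespace Cfsg.Agent.S1304

/-- Let X be a perfect group and α an automorphism of X with α(x) x⁻¹ central for every x. Then α is the identity. -/
theorem result {X : Type*} [Group X] (hperf : commutator X = ⊤) (α : X ≃* X) (h : ∀ x : X, α x * x⁻¹ ∈ Subgroup.center X) : ∀ x : X, α x = x := by
  have key : commutator X ≤ MonoidHom.eqLocus α.toMonoidHom (MonoidHom.id X) := by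
    rw [commutator_def, Subgroup.commutator_le]
    intro a _ b _
    show α ⁅a, b⁆ = ⁅a, b⁆
    have ha := h a
    have hb := h b
    rw [Subgroup.mem_center_iff] at ha hb
    have ea : α a = (α a * a⁻¹) * a := by group
    have eb : α b = (α b * b⁻¹) * b := by group
    set za := α a * a⁻¹ with hza
    set zb := α b * b⁻¹ with hzb
    rw [commutatorElement_def, map_mul, map_mul, map_mul, map_inv, map_inv, ea, eb]
    have h1 : ∀ g, g * za = za * g := ha
    have h2 : ∀ g, g * zb = zb * g := hb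
    have h3 : ∀ g, g * za⁻¹ = za⁻¹ * g := by
      intro g
      have := h1 g
      calc g * za⁻¹ = za⁻¹ * (za * g) * za⁻¹ := by group
        _ = za⁻¹ * (g * za) * za⁻¹ := by rw [this]
        _ = za⁻¹ * g := by group
    have h4 : ∀ g, g * zb⁻¹ = zb⁻¹ * g := by
      intro g
      have := h2 g
      calc g * zb⁻¹ = zb⁻¹ * (zb * g) * zb⁻¹ := by group
        _ = zb⁻¹ * (g * zb) * zb⁻¹ := by rw [this]
        _ = zb⁻¹ * g := by group
    calc za * a * (zb * b) * (za * a)⁻¹ * (zb * b)⁻¹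
        = za * a * (zb * b) * (a⁻¹ * za⁻¹) * (b⁻¹ * zb⁻¹) := by group
      _ = za * (a * zb) * b * a⁻¹ * za⁻¹ * b⁻¹ * zb⁻¹ := by group
      _ = za * (zb * a) * b * a⁻¹ * za⁻¹ * b⁻¹ * zb⁻¹ := by rw [h2 a]
      _ = za * zb * ((a * b * a⁻¹) * za⁻¹) * b⁻¹ * zb⁻¹ := by group
      _ = za * zb * (za⁻¹ * (a * b * a⁻¹)) * b⁻¹ * zb⁻¹ := by rw [h3]
      _ = (za * zb * za⁻¹) * ((a * b * a⁻¹ * b⁻¹) * zb⁻¹) := by group
      _ = (za * zb * za⁻¹) * (zb⁻¹ * (a * b * a⁻¹ * b⁻¹)) := by rw [h4]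
      _ = ((za * zb) * za⁻¹) * zb⁻¹ * (a * b * a⁻¹ * b⁻¹) := by group
      _ = ((zb * za) * za⁻¹) * zb⁻¹ * (a * b * a⁻¹ * b⁻¹) := by rw [h2 za]
      _ = a * b * a⁻¹ * b⁻¹ := by group
  intro x
  have : x ∈ commutator X := by rw [hperf]; trivial
  exact key this

end Cfsg.Agent.S1304
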