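import Cfsg.Statements.S0649
import Mathlib

set_option autoImplicit false
open Cfsg

namespace Cfsg.Agent.S0649

/-- In the Glauberman replacement situation, if B does not normalize A then some element of B normalizes N_S(A) without normalizing A. -/
theorem result {S : Type*} [Group S] [Finite S] {p : ℕ} [Fact p.Prime] (hS : IsPGroup p S) (B : Subgroup S) [B.Normal] (hB2 : p = 2 → IsMulCommutative B) (A : Subgroup S) (hA : IsMulCommutative A) (hBA : ⁅B, B⁆ ≤ A) (hnot : ¬ B ≤ Subgroup.normalizer (A : Set S)) : ∃ b ∈ B, b ∈ Subgroup.normalizer ((Subgroup.normalizer (A : Set S)) : Set S) ∧ b ∉ Subgroup.normalizer (A : Set S) := by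
  set N := Subgroup.normalizer (A : Set S) with hN
  set H := B ⊔ N with hH
  have hNH : N ≤ H := le_sup_right
  have hBH : B ≤ H := le_sup_left
  have hHp : IsPGroup p H := hS.to_subgroup H
  haveI : Group.IsNilpotent H := hHp.isNilpotent
  have hnc : NormalizerCondition H := Group.normalizerCondition_of_isNilpotent
  have hlt : N.subgroupOf H < ⊤ := by
    rw [lt_top_iff_ne_top]
    intro h
    rw [Subgroup.subgroupOf_eq_top] at h
    exact hnot (hBH.trans h)
  have hlt2 := hnc _ hlt
  obtain ⟨h, hh1, hh2⟩ := SetLike.exists_of_lt hlt2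
  -- h ∈ H, h normalizes N ∩ H, h ∉ N
  have hhN : (h : S) ∉ N := fun hmem => hh2 (Subgroup.mem_subgroupOf.mpr hmem)
  have hconj : ∀ k : H, k ∈ Subgroup.normalizer ((N.subgroupOf H : Subgroup H) : Set H) →
      ∀ x ∈ N, (k : S) * x * (k : S)⁻¹ ∈ N := by
    intro k hk x hx
    have := (Subgroup.mem_normalizer_iff.mp hk ⟨x, hNH hx⟩).mp (Subgroup.mem_subgroupOf.mpr hx)
    exact Subgroup.mem_subgroupOf.mp this
  have hhnorm : (h : S) ∈ Subgroup.normalizer (N : Set S) := by
    rw [Subgroup.mem_normalizer_iff]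
    intro x
    constructor
    · exact hconj h hh1 x
    · intro hx
      have := hconj h⁻¹ (Subgroup.inv_mem _ hh1) _ hx
      have e : ((h⁻¹ : H) : S) * ((h : S) * x * (h : S)⁻¹) * ((h⁻¹ : H) : S)⁻¹ = x := by
        simp only [Subgroup.coe_inv]; group
      rwa [e] at this
  obtain ⟨b, hb, n, hn, hbn⟩ := Subgroup.mem_sup_of_normal_left.mp h.2
  have hbeq : b = (h : S) * n⁻¹ := by rw [← hbn]; group
  refine ⟨b, hb, ?_, ?_⟩
  · rw [hbeq]
    exact Subgroup.mul_mem _ hhnorm (Subgroup.inv_mem _ (Subgroup.le_normalizer hn))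
  · intro hbN
    apply hhN
    rw [← hbn]
    exact Subgroup.mul_mem _ hbN hn

end Cfsg.Agent.S0649
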