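import Mathlib
import Cfsg.Statements.S4250
import Cfsg.Agent.Helper10.Alperin
import Cfsg.Agent.S4251

set_option autoImplicit false
open Cfsg

namespace Cfsg.Agent.S4250

open Cfsg.Agent.Helper10 Subgroup
open scoped commutatorElement

variable {G : Type*} [Group G]

theorem commutator_le_of_le_normalizer {H K : Subgroup G}
    (h : K ≤ Subgroup.normalizer (H : Set G)) : ⁅H, K⁆ ≤ H := by
  rw [Subgroup.commutator_le]
  intro x hx k hk
  rw [commutatorElement_def]
  have h1 : k * x⁻¹ * k⁻¹ ∈ H :=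
    (Subgroup.mem_normalizer_iff.mp (h hk) x⁻¹).mp (H.inv_mem hx)
  have e : x * k * x⁻¹ * k⁻¹ = x * (k * x⁻¹ * k⁻¹) := by group
  rw [e]
  exact H.mul_mem hx h1

/-- the right-hand side of the statement -/
def RHS (p : ℕ) (P : Sylow p G) : Subgroup G :=
  ⁅(P : Subgroup G), Subgroup.normalizer ((P : Subgroup G) : Set G)⁆ ⊔
        ⨆ (Q : Sylow p G) (_ : (¬ p ∣ ((P : Subgroup G) ⊓ Subgroup.normalizer (((P : Subgroup G) ⊓ (Q : Subgroup G) : Subgroup G) : Set G)).relIndex (Subgroup.normalizer (((P : Subgroup G) ⊓ (Q : Subgroup G) : Subgroup G) : Set G)) ∧ ¬ p ∣ ((Q : Subgroup G) ⊓ Subgroup.normalizer (((P : Subgroup G) ⊓ (Q : Subgroup G) : Subgroup G) : Set G)).relIndex (Subgroup.normalizer (((P : Subgroup G) ⊓ (Q : Subgroup G) : Subgroup G) : Set G))))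
          (x : G) (_ : x ∈ Subgroup.normalizer (((P : Subgroup G) ⊓ (Q : Subgroup G) : Subgroup G) : Set G) ∧ ∃ k : ℕ, orderOf x = p ^ k),
          ⁅(P : Subgroup G) ⊓ (Q : Subgroup G), Subgroup.zpowers x⁆

theorem rhs_le {p : ℕ} (P : Sylow p G) : RHS p P ≤ (P : Subgroup G) ⊓ commutator G := by
  unfold RHS
  apply sup_le
  · apply le_inf
    · exact commutator_le_of_le_normalizer le_rfl
    · rw [commutator_def]
      exact Subgroup.commutator_mono le_top le_top
  · apply iSup_le; intro Q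
    apply iSup_le; intro _
    apply iSup_le; intro x
    apply iSup_le; intro hx
    apply le_inf
    · refine le_trans (commutator_le_of_le_normalizer ?_) inf_le_left
      rw [Subgroup.zpowers_le]
      exact hx.1
    · rw [commutator_def]
      exact Subgroup.commutator_mono le_top le_top

theorem step_mem {p : ℕ} (P : Sylow p G) {T : Subgroup G} (hT : T ∈ tameFam p P) {y : G}
    (hy : y ∈ Subgroup.normalizer (T : Set G))
    (hpe : T = (P : Subgroup G) ∨ ∃ k : ℕ, orderOf y = p ^ k) {a : G} (ha : a ∈ T) :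
    a⁻¹ * (y⁻¹ * a * y) ∈ RHS p P := by
  have e : a⁻¹ * (y⁻¹ * a * y) = ⁅a⁻¹, y⁻¹⁆ := by
    rw [commutatorElement_def]; group
  rw [e]
  unfold RHS
  rcases hpe with h | h
  · apply Subgroup.mem_sup_left
    subst h
    exact Subgroup.commutator_mem_commutator (Subgroup.inv_mem _ ha) (Subgroup.inv_mem _ hy)
  · apply Subgroup.mem_sup_right
    obtain ⟨Q, rfl, h1, h2⟩ := hT
    apply Subgroup.mem_iSup_of_mem Q
    apply Subgroup.mem_iSup_of_mem ⟨h1, h2⟩
    apply Subgroup.mem_iSup_of_mem y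
    apply Subgroup.mem_iSup_of_mem ⟨hy, h⟩
    exact Subgroup.commutator_mem_commutator (Subgroup.inv_mem _ ha)
      (Subgroup.inv_mem _ (Subgroup.mem_zpowers y))

theorem chain {p : ℕ} (P : Sylow p G) :
    ∀ (l : List (Subgroup G × G)) (a : G), a ∈ (P : Subgroup G) →
      Dec (tameFam p P) ({a} : Set G) l → PEl p (P : Subgroup G) l →
      a⁻¹ * ((lprod l)⁻¹ * a * lprod l) ∈ RHS p P := by
  intro l
  induction l with
  | nil =>
    intro a _ _ _
    simp [lprod_nil]
  | cons e l ih =>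
    obtain ⟨T, y⟩ := e
    intro a ha hd hpe
    obtain ⟨hT, hyN, haT, hd'⟩ := hd
    rw [Cfsg.Agent.S4251.rc_singleton] at hd'
    have haT' : a ∈ T := haT (Set.mem_singleton a)
    have ha'T : y⁻¹ * a * y ∈ T := by
      have := (Subgroup.mem_normalizer_iff.mp (Subgroup.inv_mem _ hyN) a).mp haT'
      simpa using this
    have ha'P : y⁻¹ * a * y ∈ (P : Subgroup G) := tameFam_le hT ha'T
    have h1 := ih _ ha'P hd' (fun e he => hpe e (List.mem_cons_of_mem _ he))
    have h2 := step_mem P hT hyN (hpe (T, y) List.mem_cons_self) haT'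
    have e : a⁻¹ * ((lprod ((T, y) :: l))⁻¹ * a * lprod ((T, y) :: l)) =
        (a⁻¹ * (y⁻¹ * a * y)) * ((y⁻¹ * a * y)⁻¹ * ((lprod l)⁻¹ * (y⁻¹ * a * y) * lprod l)) := by
      rw [lprod_cons]; group
    rw [e]
    exact Subgroup.mul_mem _ h2 h1

/-- Let P be a Sylow p-subgroup of a finite group G. Call an intersection H = P ∩ Q with a Sylow p-subgroup Q tame when N_P(H) and N_Q(H) are Sylow p-subgroups of N_G(H). Then P ∩ G′ is generated by [P, N_G(P)] together with the commutator subgroups [P ∩ Q, ⟨x⟩] for all tame intersections P ∩ Q and all p-elements x of N_G(P ∩ Q). -/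
theorem result {G : Type*} [Group G] [Finite G] (p : ℕ) [Fact p.Prime] (P : Sylow p G) :
    (P : Subgroup G) ⊓ commutator G =
      ⁅(P : Subgroup G), Subgroup.normalizer ((P : Subgroup G) : Set G)⁆ ⊔
        ⨆ (Q : Sylow p G) (_ : (¬ p ∣ ((P : Subgroup G) ⊓ Subgroup.normalizer (((P : Subgroup G) ⊓ (Q : Subgroup G) : Subgroup G) : Set G)).relIndex (Subgroup.normalizer (((P : Subgroup G) ⊓ (Q : Subgroup G) : Subgroup G) : Set G)) ∧ ¬ p ∣ ((Q : Subgroup G) ⊓ Subgroup.normalizer (((P : Subgroup G) ⊓ (Q : Subgroup G) : Subgroup G) : Set G)).relIndex (Subgroup.normalizer (((P : Subgroup G) ⊓ (Q : Subgroup G) : Subgroup G) : Set G))))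
          (x : G) (_ : x ∈ Subgroup.normalizer (((P : Subgroup G) ⊓ (Q : Subgroup G) : Subgroup G) : Set G) ∧ ∃ k : ℕ, orderOf x = p ^ k),
          ⁅(P : Subgroup G) ⊓ (Q : Subgroup G), Subgroup.zpowers x⁆ := by
  change _ = RHS p P
  apply le_antisymm _ (rhs_le P)
  rw [inf_comm, Subgroup.commutator_inf_eq_focalSubgroup P, Subgroup.focalSubgroup_def,
    Subgroup.closure_le]
  rintro g ⟨hg, x, hx, u, rfl⟩
  -- `a = x⁻¹`, conjugated by `u⁻¹`
  have ha : x⁻¹ ∈ (P : Subgroup G) := Subgroup.inv_mem _ hx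
  have ha' : u * x⁻¹ * u⁻¹ ∈ (P : Subgroup G) := by
    have h2 := (P : Subgroup G).mul_mem ha hg
    have h3 : x⁻¹ * ⁅x, u⁆ = u * x⁻¹ * u⁻¹ := by
      rw [commutatorElement_def]; group
    rwa [h3] at h2
  have hA : ({x⁻¹} : Set G) ⊆ ((P : Subgroup G) : Set G) := by
    intro z hz
    rw [Set.mem_singleton_iff] at hz
    rw [hz]; exact ha
  have hAg : rc u⁻¹ ({x⁻¹} : Set G) ⊆ ((P : Subgroup G) : Set G) := by
    rw [Cfsg.Agent.S4251.rc_singleton]
    intro z hz
    rw [Set.mem_singleton_iff] at hz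
    rw [hz, inv_inv]; exact ha'
  obtain ⟨l, hd, hpe, hl⟩ := alperin_tame P ({x⁻¹} : Set G) u⁻¹ hA hAg
  have := chain P l x⁻¹ ha hd hpe
  rw [hl] at this
  have e : x⁻¹⁻¹ * (u⁻¹⁻¹ * x⁻¹ * u⁻¹) = ⁅x, u⁆ := by
    rw [commutatorElement_def]; group
  rw [e] at this
  exact this

end Cfsg.Agent.S4250
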