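import Cfsg.Statements.S0526
import Mathlib
import Cfsg.Agent.Helper29.Supersolvable2

set_option autoImplicit false
open Cfsg

namespace Cfsg.Agent.S0526


universe u

open Cfsg.Agent.Helper29

open scoped commutatorElement in
/-- the commutator subgroup centralizes every cyclic normal subgroup -/
theorem commutator_le_centralizer_of_cyclic_normal {G : Type*} [Group G] (N : Subgroup G)
    [N.Normal] [IsCyclic N] : commutator G ≤ Subgroup.centralizer (N : Set G) := by
  have hcomm : ∀ s t : MulAut N, s * t = t * s := by
    intro s t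
    apply (IsCyclic.mulAutMulEquiv N).injective
    rw [map_mul, map_mul, mul_comm]
  rw [commutator_def, Subgroup.commutator_le]
  intro a _ b _
  rw [Subgroup.mem_centralizer_iff]
  intro n hn
  have h1 : (MulAut.conjNormal ⁅a, b⁆ : MulAut N) = 1 := by
    rw [map_commutatorElement, commutatorElement_def,
      hcomm (MulAut.conjNormal a) (MulAut.conjNormal b), mul_inv_cancel_right, mul_inv_cancel]
  have h2 := MulAut.conjNormal_apply ⁅a, b⁆ (⟨n, hn⟩ : N)
  rw [h1] at h2
  have h3 : n = ⁅a, b⁆ * n * ⁅a, b⁆⁻¹ := h2
  calc n * ⁅a, b⁆ = (⁅a, b⁆ * n * ⁅a, b⁆⁻¹) * ⁅a, b⁆ := by rw [← h3]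
    _ = ⁅a, b⁆ * n := by group

theorem commutator_nilpotent_aux (n : ℕ) : ∀ {G : Type u} [Group G] [Finite G],
    Nat.card G = n → Cfsg.IsSupersolvable G → Group.IsNilpotent (commutator G) := by
  induction n using Nat.strong_induction_on with
  | _ n ih =>
  intro G _ _ hn hG
  rcases subsingleton_or_nontrivial G with hs | hnt
  · infer_instance
  obtain ⟨N, hNn, hNp⟩ := exists_normal_prime hG
  have hq : Cfsg.IsSupersolvable (G ⧸ N) := isSupersolvable_quotient hG N
  have hcard : Nat.card (G ⧸ N) < n := by
    rw [← hn, Subgroup.card_eq_card_quotient_mul_card_subgroup N]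
    have h0 : 0 < Nat.card (G ⧸ N) := Nat.card_pos
    have := hNp.one_lt
    nlinarith
  have hnil := ih _ hcard rfl hq
  have : Fact (Nat.card N).Prime := ⟨hNp⟩
  have : IsCyclic N := isCyclic_of_prime_card (p := Nat.card N) rfl
  have hmap : (commutator G).map (QuotientGroup.mk' N) = commutator (G ⧸ N) := by
    rw [commutator_def, Subgroup.map_commutator, ← MonoidHom.range_eq_map,
      MonoidHom.range_eq_top.mpr (QuotientGroup.mk'_surjective N), commutator_def]
  have hnil' : Group.IsNilpotent ((commutator G).map (QuotientGroup.mk' N)) := by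
    rw [hmap]; exact hnil
  refine Subgroup.isNilpotent_of_ker_le_center ((QuotientGroup.mk' N).subgroupMap (commutator G)) ?_
  intro x hx
  rw [MonoidHom.mem_ker] at hx
  have h1 : (QuotientGroup.mk' N) (x : G) = 1 := congrArg Subtype.val hx
  rw [QuotientGroup.mk'_apply, QuotientGroup.eq_one_iff] at h1
  rw [Subgroup.mem_center_iff]
  intro y
  have h2 := commutator_le_centralizer_of_cyclic_normal N y.2
  rw [Subgroup.mem_centralizer_iff] at h2
  exact Subtype.ext (h2 _ h1).symm

/-- In a finite supersolvable group the commutator subgroup is nilpotent. -/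
theorem result {G : Type*} [Group G] [Finite G] (hG : Cfsg.IsSupersolvable G) : Group.IsNilpotent (commutator G) := by
  exact commutator_nilpotent_aux _ rfl hG

end Cfsg.Agent.S0526
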