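import Mathlib
import Cfsg.Statements.S3836
import Cfsg.Agent.Helper19.Sylow
import Cfsg.Agent.Helper19.Cores

set_option autoImplicit false
open Cfsg

namespace Cfsg.Agent.S3836

open Cfsg.Agent.Helper19

theorem result {G : Type*} [Group G] [Finite G] {p : ℕ} [Fact p.Prime] (hst : Cfsg.IsNormalizerPStable p G) (H : Subgroup G) : Cfsg.IsNormalizerPStable p ↥H := by
  intro P' hP' g' hg' hcomm
  set P : Subgroup G := P'.map H.subtype with hPdef
  have hP : IsPGroup p P := hP'.map _
  have hmemN : ∀ x : ↥H, x ∈ Subgroup.normalizer (P' : Set ↥H) →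
      (x : G) ∈ Subgroup.normalizer (P : Set G) := by
    intro x hx
    apply mem_normalizer_of_forall
    rintro _ ⟨h', hh', rfl⟩
    exact ⟨x * h' * x⁻¹, (Subgroup.mem_normalizer_iff.mp hx h').mp hh', rfl⟩
  have hg : (g' : G) ∈ Subgroup.normalizer (P : Set G) := hmemN g' hg'
  have hcommG : ⁅⁅P, Subgroup.zpowers (g' : G)⁆, Subgroup.zpowers (g' : G)⁆ = ⊥ := by
    have hz : Subgroup.zpowers (g' : G) = (Subgroup.zpowers g').map H.subtype := by
      rw [MonoidHom.map_zpowers]; rfl
    rw [hz, hPdef, ← Subgroup.map_commutator, ← Subgroup.map_commutator, hcomm, Subgroup.map_bot]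
  have hmain := hst P hP (g' : G) hg hcommG
  -- the homomorphism `N_H(P') → N_G(P)`
  let f : ↥(Subgroup.normalizer (P' : Set ↥H)) →* ↥(Subgroup.normalizer (P : Set G)) :=
    (H.subtype.comp (Subgroup.normalizer (P' : Set ↥H)).subtype).codRestrict
      (Subgroup.normalizer (P : Set G)) (fun x => hmemN x x.2)
  have hfcoe : ∀ x, ((f x : ↥(Subgroup.normalizer (P : Set G))) : G) = ((x : ↥H) : G) :=
    fun x => rfl
  have hcent : ∀ x : ↥(Subgroup.normalizer (P' : Set ↥H)),
      f x ∈ (Subgroup.centralizer (P : Set G)).subgroupOf (Subgroup.normalizer (P : Set G)) ↔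
      x ∈ (Subgroup.centralizer (P' : Set ↥H)).subgroupOf (Subgroup.normalizer (P' : Set ↥H)) := by
    intro x
    rw [Subgroup.mem_subgroupOf, Subgroup.mem_subgroupOf, Subgroup.mem_centralizer_iff,
      Subgroup.mem_centralizer_iff, hfcoe]
    constructor
    · intro h y hy
      apply Subtype.ext
      exact h (y : G) ⟨y, hy, rfl⟩
    · rintro h _ ⟨y, hy, rfl⟩
      exact congrArg Subtype.val (h y hy)
  have hle : (Subgroup.centralizer (P' : Set ↥H)).subgroupOf (Subgroup.normalizer (P' : Set ↥H)) ≤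
      ((Subgroup.centralizer (P : Set G)).subgroupOf (Subgroup.normalizer (P : Set G))).comap f :=
    fun x hx => (hcent x).mpr hx
  let ψ := QuotientGroup.map
    ((Subgroup.centralizer (P' : Set ↥H)).subgroupOf (Subgroup.normalizer (P' : Set ↥H)))
    ((Subgroup.centralizer (P : Set G)).subgroupOf (Subgroup.normalizer (P : Set G))) f hle
  set K := (Cfsg.pCore p (↥(Subgroup.normalizer (P : Set G)) ⧸
    (Subgroup.centralizer (P : Set G)).subgroupOf (Subgroup.normalizer (P : Set G)))).comap ψ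
    with hK
  have hKn : K.Normal := (Cfsg.pCore_normal p _).comap ψ
  have hcore : IsPGroup p (Cfsg.pCore p (↥(Subgroup.normalizer (P : Set G)) ⧸
    (Subgroup.centralizer (P : Set G)).subgroupOf (Subgroup.normalizer (P : Set G)))) :=
    pCore_isPGroup p
  have hKp : IsPGroup p K := by
    rintro ⟨q, hq⟩
    obtain ⟨x, rfl⟩ := QuotientGroup.mk_surjective q
    have hq' : ψ (QuotientGroup.mk x) ∈ Cfsg.pCore p _ := hq
    obtain ⟨k, hk⟩ := hcore ⟨_, hq'⟩
    refine ⟨k, ?_⟩
    apply Subtype.ext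
    have hk' : (ψ (QuotientGroup.mk x)) ^ p ^ k = 1 := congrArg Subtype.val hk
    have hψ : ψ (QuotientGroup.mk x) = QuotientGroup.mk (f x) := rfl
    rw [hψ, ← QuotientGroup.mk_pow, QuotientGroup.eq_one_iff, ← map_pow, hcent] at hk'
    change (QuotientGroup.mk x : _ ⧸ _) ^ p ^ k = 1
    rw [← QuotientGroup.mk_pow, QuotientGroup.eq_one_iff]
    exact hk'
  have hKle : K ≤ Cfsg.pCore p _ := le_sSup ⟨hKn, hKp⟩
  apply hKle
  exact hmain

end Cfsg.Agent.S3836
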