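import Cfsg.Statements.S0530
import Mathlib
import Cfsg.Agent.Helper29.Supersolvable2

set_option autoImplicit false
open Cfsg

namespace Cfsg.Agent.S0530


universe u

open Cfsg.Agent.Helper29

theorem isSupersolvable_of_subsingleton' {G : Type*} [Group G] [Subsingleton G] :
    Cfsg.IsSupersolvable G := by
  rw [isSupersolvable_iff_reach, Subsingleton.elim (⊤ : Subgroup G) ⊥]
  exact Reach.refl

theorem isSupersolvable_of_isCyclic {G : Type*} [Group G] [hc : IsCyclic G] :
    Cfsg.IsSupersolvable G := by
  obtain ⟨g, hg⟩ := hc
  have htop : Subgroup.zpowers g = ⊤ := by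
    rw [eq_top_iff]; intro x _; exact hg x
  rw [isSupersolvable_iff_reach, ← htop]
  exact Reach.of_zpowers_normal g (htop ▸ inferInstance)

/-- finite `p`-groups are supersolvable -/
theorem isSupersolvable_of_card_prime_pow (p : ℕ) (hp : p.Prime) (k : ℕ) :
    ∀ {G : Type u} [Group G] [Finite G], Nat.card G = p ^ k → Cfsg.IsSupersolvable G := by
  have : Fact p.Prime := ⟨hp⟩
  induction k with
  | zero =>
    intro G _ _ hG
    rw [pow_zero] at hG
    have : Subsingleton G := (Nat.card_eq_one_iff_unique.mp hG).1
    exact isSupersolvable_of_subsingleton'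
  | succ k ih =>
    intro G _ _ hG
    have hpg : IsPGroup p G := IsPGroup.of_card hG
    have : Nontrivial G := by
      rw [← Finite.one_lt_card_iff_nontrivial, hG]
      exact Nat.one_lt_pow (by omega) hp.one_lt
    have hcn : Nontrivial (Subgroup.center G) := hpg.center_nontrivial
    have hdvd : p ∣ Nat.card (Subgroup.center G) := by
      obtain ⟨m, hm⟩ := IsPGroup.iff_card.mp (hpg.to_subgroup (Subgroup.center G))
      rw [hm]
      have h1 : 1 < Nat.card (Subgroup.center G) := Finite.one_lt_card
      rw [hm] at h1
      have : m ≠ 0 := by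
        rintro rfl
        simp at h1
      exact dvd_pow_self p this
    obtain ⟨z, hz⟩ := exists_prime_orderOf_dvd_card' (G := Subgroup.center G) p hdvd
    set N := Subgroup.zpowers (z : G) with hN
    have hNle : N ≤ Subgroup.center G := by
      rw [hN, Subgroup.zpowers_le]; exact z.2
    have hNn : N.Normal := by
      refine ⟨fun x hx g => ?_⟩
      have := Subgroup.mem_center_iff.mp (hNle hx) g
      rw [this, mul_inv_cancel_right]
      exact hx
    have hNcard : Nat.card N = p := by
      rw [hN, Nat.card_zpowers, Subgroup.orderOf_coe, hz]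
    have hq : Nat.card (G ⧸ N) = p ^ k := by
      have := Subgroup.card_eq_card_quotient_mul_card_subgroup N
      rw [hG, hNcard, pow_succ] at this
      exact (Nat.eq_of_mul_eq_mul_right hp.pos this).symm
    exact isSupersolvable_of_cyclic_normal N (ih hq)

theorem card_two_mul_odd_prime_pow (p : ℕ) (hp : p.Prime) (hp2 : p ≠ 2) (n : ℕ) :
    ∀ {G : Type u} [Group G] [Finite G], Nat.card G = 2 * p ^ n → Cfsg.IsSupersolvable G := by
  have : Fact p.Prime := ⟨hp⟩
  induction n with
  | zero =>
    intro G _ _ hG
    rw [pow_zero, mul_one] at hG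
    have : Fact (Nat.Prime 2) := ⟨Nat.prime_two⟩
    have : IsCyclic G := isCyclic_of_prime_card hG
    exact isSupersolvable_of_isCyclic
  | succ n ih =>
    intro G _ _ hG
    let P : Sylow p G := default
    have hfac : (Nat.card G).factorization p = n + 1 := by
      rw [hG, Nat.factorization_mul (by norm_num) (pow_ne_zero _ hp.ne_zero),
        Nat.Prime.factorization_pow hp]
      have : (Nat.factorization 2) p = 0 := by
        rw [Nat.Prime.factorization Nat.prime_two]
        simp [Ne.symm hp2]
      simp [this]
    have hPcard : Nat.card P = p ^ (n + 1) := by rw [P.card_eq_multiplicity, hfac]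
    have hPidx : (P : Subgroup G).index = 2 := by
      have := Subgroup.index_mul_card (P : Subgroup G)
      rw [hPcard, hG] at this
      exact Nat.eq_of_mul_eq_mul_right (pow_pos hp.pos _) this
    have hPn : (P : Subgroup G).Normal := Subgroup.normal_of_index_eq_two hPidx
    have hPnt : Nontrivial (P : Subgroup G) := by
      rw [← Finite.one_lt_card_iff_nontrivial, hPcard]
      exact Nat.one_lt_pow (by omega) hp.one_lt
    have hcn : Nontrivial (Subgroup.center (P : Subgroup G)) := P.isPGroup'.center_nontrivial
    have hdvd : p ∣ Nat.card (Subgroup.center (P : Subgroup G)) := by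
      obtain ⟨m, hm⟩ := IsPGroup.iff_card.mp
        (P.isPGroup'.to_subgroup (Subgroup.center (P : Subgroup G)))
      rw [hm]
      have h1 : 1 < Nat.card (Subgroup.center (P : Subgroup G)) := Finite.one_lt_card
      rw [hm] at h1
      have : m ≠ 0 := by
        rintro rfl
        simp at h1
      exact dvd_pow_self p this
    obtain ⟨z, hz⟩ := exists_prime_orderOf_dvd_card'
      (G := Subgroup.center (P : Subgroup G)) p hdvd
    set Z : Subgroup G := (Subgroup.center (P : Subgroup G)).map (P : Subgroup G).subtype with hZ
    have hZn : Z.Normal := ConjAct.normal_of_characteristic_of_normal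
    have hZcent : ∀ c ∈ Z, ∀ x ∈ (P : Subgroup G), x * c = c * x := by
      rintro _ ⟨c, hc, rfl⟩ x hx
      have := Subgroup.mem_center_iff.mp hc ⟨x, hx⟩
      exact congrArg Subtype.val this
    have hZP : Z ≤ (P : Subgroup G) := Subgroup.map_subtype_le _
    set v : G := ((z : (P : Subgroup G)) : G) with hv
    have hvZ : v ∈ Z := ⟨z.1, z.2, rfl⟩
    have hvord : orderOf v = p := by
      rw [hv, Subgroup.orderOf_coe, Subgroup.orderOf_coe, hz]
    -- choose t outside P
    have hPtop : (P : Subgroup G) ≠ ⊤ := by
      intro h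
      rw [h, Subgroup.index_top] at hPidx
      omega
    obtain ⟨t, -, ht⟩ := SetLike.exists_of_lt (lt_top_iff_ne_top.mpr hPtop)
    have htt : t * t ∈ (P : Subgroup G) := Subgroup.mul_self_mem_of_index_two hPidx t
    have hcover : ∀ g : G, g ∈ (P : Subgroup G) ∨ t⁻¹ * g ∈ (P : Subgroup G) := by
      intro g
      by_cases hg : g ∈ (P : Subgroup G)
      · exact Or.inl hg
      · right
        rw [Subgroup.mul_mem_iff_of_index_two hPidx]
        constructor
        · intro h; exact absurd (by simpa using h) ht
        · intro h; exact absurd h hg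
    set v' : G := t * v * t⁻¹ with hv'
    have hv'Z : v' ∈ Z := hZn.conj_mem v hvZ t
    have hvv' : v * v' = v' * v := (hZcent v' hv'Z v (hZP hvZ))
    have htv' : t * v' * t⁻¹ = v := by
      have h1 := hZcent v hvZ (t * t) htt
      rw [hv']
      calc t * (t * v * t⁻¹) * t⁻¹ = (t * t * v) * (t⁻¹ * t⁻¹) := by group
        _ = (v * (t * t)) * (t⁻¹ * t⁻¹) := by rw [h1]
        _ = v := by group
    -- the element u
    have key : ∃ u ∈ Z, orderOf u = p ∧ (t * u * t⁻¹ = u ∨ t * u * t⁻¹ = u⁻¹) := by
      by_cases hw : v * v' = 1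
      · refine ⟨v, hvZ, hvord, Or.inr ?_⟩
        exact (eq_inv_of_mul_eq_one_right hw)
      · refine ⟨v * v', Z.mul_mem hvZ hv'Z, ?_, Or.inl ?_⟩
        · have h1 : (v * v') ^ p = 1 := by
            rw [(show Commute v v' from hvv').mul_pow]
            have h2 : v ^ p = 1 := by rw [← hvord]; exact pow_orderOf_eq_one v
            have h3 : v' ^ p = 1 := by
              rw [hv', conj_pow, h2]; group
            rw [h2, h3, one_mul]
          have h4 := orderOf_dvd_of_pow_eq_one h1
          rcases (Nat.dvd_prime hp).mp h4 with h5 | h5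
          · exact absurd (orderOf_eq_one_iff.mp h5) hw
          · exact h5
        · calc t * (v * v') * t⁻¹ = (t * v * t⁻¹) * (t * v' * t⁻¹) := by group
            _ = v' * v := by rw [htv']
            _ = v * v' := hvv'.symm
    obtain ⟨u, huZ, huord, hut⟩ := key
    set N := Subgroup.zpowers u with hN
    have hNZ : N ≤ Z := by rw [hN, Subgroup.zpowers_le]; exact huZ
    have htN : ∀ x ∈ N, t * x * t⁻¹ ∈ N := by
      intro x hx
      obtain ⟨k, rfl⟩ := Subgroup.mem_zpowers_iff.mp hx
      rw [← conj_zpow]
      rcases hut with h | h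
      · rw [h]; exact Subgroup.zpow_mem_zpowers u k
      · rw [h]; exact Subgroup.zpow_mem _ (Subgroup.inv_mem _ (Subgroup.mem_zpowers u)) k
    have hNn : N.Normal := by
      refine ⟨fun x hx g => ?_⟩
      rcases hcover g with hg | hg
      · have := hZcent x (hNZ hx) g hg
        rw [this, mul_inv_cancel_right]
        exact hx
      · have h1 := hZcent x (hNZ hx) _ hg
        have h2 : g * x * g⁻¹ = t * ((t⁻¹ * g) * x * (t⁻¹ * g)⁻¹) * t⁻¹ := by group
        rw [h2, h1, mul_inv_cancel_right]
        exact htN x hx
    have hNcard : Nat.card N = p := by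
      rw [hN, Nat.card_zpowers, huord]
    have hq : Nat.card (G ⧸ N) = 2 * p ^ n := by
      have := Subgroup.card_eq_card_quotient_mul_card_subgroup N
      rw [hG, hNcard, pow_succ, ← mul_assoc] at this
      exact (Nat.eq_of_mul_eq_mul_right hp.pos this).symm
    exact isSupersolvable_of_cyclic_normal N (ih hq)

/-- A finite group whose order is twice a prime power is supersolvable. -/
theorem result {G : Type*} [Group G] [Finite G] (p n : ℕ) (hp : p.Prime) (hG : Nat.card G = 2 * p ^ n) : Cfsg.IsSupersolvable G := by
  by_cases hp2 : p = 2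
  · subst hp2
    exact isSupersolvable_of_card_prime_pow 2 hp (n + 1) (by rw [hG, pow_succ, mul_comm])
  · exact card_two_mul_odd_prime_pow p hp hp2 n hG

end Cfsg.Agent.S0530
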