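import Cfsg.Statements.S4072
import Cfsg.Agent.Helper20.MinNonAb
import Cfsg.Agent.Helper20.SelfNormA
import Cfsg.Agent.Helper29.Schmidt
import Mathlib

set_option autoImplicit false
open Cfsg

namespace Cfsg.Agent.S4072

open Cfsg.Agent.Helper20
open scoped commutatorElement

section
universe u
variable {G : Type u} [Group G]

/-- the hypothesis -/
def P72 (G : Type u) [Group G] : Prop :=
  ∀ H : Subgroup G, ¬ IsMulCommutative H → Subgroup.normalizer (H : Set G) = H

theorem P72.quotient (h : P72 G) (N : Subgroup G) [N.Normal] : P72 (G ⧸ N) := by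
  intro K hK
  have hsurj := QuotientGroup.mk'_surjective N
  have hKc : ¬ IsMulCommutative (K.comap (QuotientGroup.mk' N)) := by
    intro hc
    apply hK
    rw [isMulCommutative_subgroup_iff] at hc ⊢
    intro x hx y hy
    obtain ⟨x', rfl⟩ := hsurj x
    obtain ⟨y', rfl⟩ := hsurj y
    rw [← map_mul, ← map_mul, hc x' hx y' hy]
  apply le_antisymm _ Subgroup.le_normalizer
  intro x hx
  obtain ⟨x', rfl⟩ := hsurj x
  have h1 : x' ∈ Subgroup.normalizer ((K.comap (QuotientGroup.mk' N) : Subgroup G) : Set G) := by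
    have := Subgroup.comap_normalizer_eq_of_surjective K hsurj
    rw [← this]
    exact hx
  rw [h _ hKc] at h1
  exact h1

theorem P72.normal_abelian (h : P72 G) (N : Subgroup G) [N.Normal] (hN : N ≠ ⊤) :
    IsMulCommutative N := by
  by_contra hc
  have := h N hc
  rw [Subgroup.normalizer_eq_top] at this
  exact hN this.symm

/-- homomorphisms from a perfect group to a commutative target are trivial -/
theorem perfect_hom_trivial {A : Type*} [Group A] (hperf : commutator G = ⊤) (f : G →* A)
    (hA : ∀ a b : A, a * b = b * a) (g : G) : f g = 1 := by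
  have hle : commutator G ≤ f.ker := by
    rw [commutator_def, Subgroup.commutator_le]
    intro a _ b _
    rw [MonoidHom.mem_ker, commutatorElement_def]
    simp only [map_mul, map_inv]
    rw [hA (f a) (f b)]
    group
  have : g ∈ commutator G := by rw [hperf]; exact Subgroup.mem_top g
  exact MonoidHom.mem_ker.1 (hle this)

/-- Burnside's transfer theorem in a simple group -/
theorem burnside_simple {X : Type*} [Group X] [Finite X] [IsSimpleGroup X] {p : ℕ} [Fact p.Prime]
    (P : Sylow p X)
    (hP : ∀ n ∈ Subgroup.normalizer ((P : Subgroup X) : Set X), ∀ x ∈ (P : Subgroup X),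
      x * n = n * x)
    (hP1 : (P : Subgroup X) ≠ ⊥) : (P : Subgroup X) = ⊤ := by
  have hP' : Subgroup.normalizer (P : Set X) ≤ Subgroup.centralizer (P : Set X) := by
    intro n hn
    rw [Subgroup.mem_centralizer_iff]
    intro x hx
    exact hP n hn x hx
  have hcompl := MonoidHom.ker_transferSylow_isComplement' P hP'
  have hcard := hcompl.card_mul
  rcases (MonoidHom.transferSylow P hP').normal_ker.eq_bot_or_eq_top with h | h
  · rw [h, Subgroup.card_bot, one_mul] at hcard
    exact Subgroup.card_eq_iff_eq_top _ |>.1 hcard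
  · exfalso
    rw [h, Subgroup.card_top] at hcard
    have h1 : Nat.card (P : Subgroup X) = 1 := by
      have hpos : 0 < Nat.card X := Nat.card_pos
      exact Nat.eq_of_mul_eq_mul_left hpos (by rw [hcard, mul_one])
    exact hP1 (Subgroup.card_eq_one.1 h1)

/-- a self-normalizing subgroup of prime order in a finite simple group is the whole group -/
theorem simple_of_selfnorm_prime {X : Type*} [Group X] [Finite X] [IsSimpleGroup X] {p : ℕ}
    [hp : Fact p.Prime] (x : X) (hx : orderOf x = p)
    (hN : Subgroup.normalizer ((Subgroup.zpowers x : Subgroup X) : Set X) = Subgroup.zpowers x) :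
    Subgroup.zpowers x = ⊤ := by
  set K := Subgroup.zpowers x with hK
  have hKcard : Nat.card K = p ^ 1 := by rw [hK, Nat.card_zpowers, hx, pow_one]
  have hKp : IsPGroup p K := IsPGroup.of_card hKcard
  obtain ⟨P, hKP⟩ := hKp.exists_le_sylow
  have hKeq : K = (P : Subgroup X) := by
    by_contra hne
    have hlt : K < (P : Subgroup X) := lt_of_le_of_ne hKP hne
    obtain ⟨y, _, hyN, hyK⟩ :=
      Cfsg.Agent.Helper29.exists_mem_normalizer_not_mem (P.isPGroup'.isNilpotent) hlt
    rw [hN] at hyN
    exact hyK hyN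
  rw [hKeq]
  apply burnside_simple P
  · intro n hn y hy
    rw [← hKeq, hN] at hn
    rw [← hKeq] at hy
    obtain ⟨i, rfl⟩ := Subgroup.mem_zpowers_iff.1 hn
    obtain ⟨j, rfl⟩ := Subgroup.mem_zpowers_iff.1 hy
    rw [← zpow_add, ← zpow_add, add_comm]
  · rw [← hKeq]
    intro hbot
    rw [hbot, Subgroup.card_bot] at hKcard
    have := hp.out.one_lt
    rw [pow_one] at hKcard
    omega

theorem faithful_case [Finite G] (h : P72 G) (N : Subgroup G) [N.Normal]
    (hsimple : IsSimpleGroup (G ⧸ N)) (hns : ¬ Group.IsSolvable (G ⧸ N))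
    (hC : Subgroup.centralizer (N : Set G) ≤ N) : False := by
  haveI := hsimple
  have hsurj := QuotientGroup.mk'_surjective N
  have hnt : Nontrivial (G ⧸ N) := hsimple.toNontrivial
  have hcard1 : Nat.card (G ⧸ N) ≠ 1 := by
    intro h1
    have := Finite.one_lt_card_iff_nontrivial.2 hnt
    omega
  set p := (Nat.card (G ⧸ N)).minFac with hp
  haveI hpf : Fact p.Prime := ⟨Nat.minFac_prime hcard1⟩
  obtain ⟨xbar, hxbar⟩ := exists_prime_orderOf_dvd_card' p (Nat.minFac_dvd _)
  set Kbar := Subgroup.zpowers xbar with hKbar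
  set K := Kbar.comap (QuotientGroup.mk' N) with hK
  have hNK : N ≤ K := by
    intro n hn
    rw [hK, Subgroup.mem_comap]
    have : (QuotientGroup.mk' N) n = 1 := (QuotientGroup.eq_one_iff n).2 hn
    rw [this]
    exact Subgroup.one_mem _
  have hKna : ¬ IsMulCommutative K := by
    intro hc
    rw [isMulCommutative_subgroup_iff] at hc
    have hKN : K ≤ N := by
      refine le_trans ?_ hC
      intro k hk
      rw [Subgroup.mem_centralizer_iff]
      intro n hn
      exact hc n (hNK hn) k hk
    obtain ⟨x, rfl⟩ := hsurj xbar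
    have hxK : x ∈ K := by
      rw [hK, Subgroup.mem_comap]
      exact Subgroup.mem_zpowers _
    have hx1 : (QuotientGroup.mk' N) x = 1 := (QuotientGroup.eq_one_iff x).2 (hKN hxK)
    rw [hx1, orderOf_one] at hxbar
    exact hpf.out.one_lt.ne hxbar
  have hnormK := h K hKna
  have hnormKbar : Subgroup.normalizer (Kbar : Set (G ⧸ N)) = Kbar := by
    apply le_antisymm _ Subgroup.le_normalizer
    intro y hy
    obtain ⟨y', rfl⟩ := hsurj y
    have h1 : y' ∈ Subgroup.normalizer (K : Set G) := by
      have := Subgroup.comap_normalizer_eq_of_surjective Kbar hsurj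
      rw [hK, ← this]
      exact hy
    rw [hnormK] at h1
    exact h1
  have htop := simple_of_selfnorm_prime xbar hxbar hnormKbar
  apply hns
  haveI : IsCyclic (G ⧸ N) := by
    rw [isCyclic_iff_exists_zpowers_eq_top]
    exact ⟨xbar, htop⟩
  let _ : CommGroup (G ⧸ N) := IsCyclic.commGroup
  infer_instance

/-- in a perfect group, a central element of prime order `q` lies in the derived subgroup of any
Sylow `q`-subgroup containing it -/
theorem central_mem_commutator_sylow [Finite G] (hperf : commutator G = ⊤)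
    (z : G) (hz : z ∈ Subgroup.center G) (q : ℕ) [hq : Fact q.Prime] (hzo : orderOf z = q)
    (Q : Sylow q G) (hzQ : z ∈ (Q : Subgroup G)) :
    (⟨z, hzQ⟩ : ↥(Q : Subgroup G)) ∈ commutator ↥(Q : Subgroup G) := by
  let φ : ↥(Q : Subgroup G) →* Abelianization ↥(Q : Subgroup G) := Abelianization.of
  have key : ∀ (k : ℕ) (g₀ : G), g₀⁻¹ * z ^ k * g₀ ∈ (Q : Subgroup G) →
      g₀⁻¹ * z ^ k * g₀ = z ^ k := by
    intro k g₀ _
    have hc : z ^ k ∈ Subgroup.center G := Subgroup.pow_mem _ hz k
    rw [mul_assoc, (Subgroup.mem_center_iff.1 hc g₀).symm, inv_mul_cancel_left]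
  have h1 := MonoidHom.transfer_eq_pow φ z key
  have h2 : MonoidHom.transfer φ z = 1 :=
    perfect_hom_trivial hperf (MonoidHom.transfer φ) (fun a b => mul_comm a b) z
  rw [h2] at h1
  have h3 : (⟨z ^ (Q : Subgroup G).index, MonoidHom.transfer_eq_pow_aux z key⟩ :
      ↥(Q : Subgroup G)) ∈ commutator ↥(Q : Subgroup G) := by
    rw [← Abelianization.ker_of, MonoidHom.mem_ker]
    exact h1.symm
  -- `z` is a power of `z ^ index`
  have hcop : Nat.Coprime q (Q : Subgroup G).index :=
    (Nat.Prime.coprime_iff_not_dvd hq.out).2 Q.not_dvd_index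
  obtain ⟨m, _, hm⟩ := Nat.exists_mul_mod_eq_one_of_coprime hcop.symm hq.out.one_lt
  have hzpow : (z ^ (Q : Subgroup G).index) ^ m = z := by
    rw [← pow_mul, ← pow_mod_orderOf, hzo, hm, pow_one]
  have h4 := Subgroup.pow_mem _ h3 m
  have h5 : (⟨z ^ (Q : Subgroup G).index, MonoidHom.transfer_eq_pow_aux z key⟩ :
      ↥(Q : Subgroup G)) ^ m = ⟨z, hzQ⟩ := Subtype.ext (by simpa using hzpow)
  rwa [h5] at h4

theorem central_case [Finite G] (h : P72 G) (hperf : commutator G = ⊤)
    (z : G) (hz : z ∈ Subgroup.center G) (q : ℕ) [hq : Fact q.Prime] (hzo : orderOf z = q) :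
    False := by
  classical
  have hZp : IsPGroup q (Subgroup.zpowers z) := by
    apply IsPGroup.of_card (n := 1)
    rw [Nat.card_zpowers, hzo, pow_one]
  obtain ⟨Q, hZQ⟩ := hZp.exists_le_sylow
  have hzQ : z ∈ (Q : Subgroup G) := hZQ (Subgroup.mem_zpowers z)
  have hz1 : z ≠ 1 := by
    rintro rfl
    rw [orderOf_one] at hzo
    exact hq.out.one_lt.ne hzo
  have hw := central_mem_commutator_sylow hperf z hz q hzo Q hzQ
  set w : ↥(Q : Subgroup G) := ⟨z, hzQ⟩ with hwdef
  have hw1 : w ≠ 1 := fun h1 => hz1 (congrArg Subtype.val h1)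
  -- `Q` is nonabelian
  have hna : ∃ a b : ↥(Q : Subgroup G), a * b ≠ b * a := by
    by_contra hcon
    push Not at hcon
    have hbot : commutator ↥(Q : Subgroup G) = ⊥ := by
      rw [commutator_def, Subgroup.commutator_eq_bot_iff_le_centralizer]
      intro a _
      rw [Subgroup.mem_centralizer_iff]
      intro b _
      exact hcon b a
    rw [hbot, Subgroup.mem_bot] at hw
    exact hw1 hw
  have hQna : ¬ IsMulCommutative ↥(Q : Subgroup G) := by
    intro hc
    obtain ⟨a, b, hab⟩ := hna
    exact hab (hc.is_comm.comm a b)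
  have hQnorm := h (Q : Subgroup G) hQna
  -- proper subgroups of `Q` are abelian
  have hmin : ∀ R : Subgroup ↥(Q : Subgroup G), R ≠ ⊤ → IsMulCommutative R := by
    intro R hR
    by_contra hRna
    set RG := R.map (Q : Subgroup G).subtype with hRG
    have hRGna : ¬ IsMulCommutative RG := by
      intro hc
      apply hRna
      rw [isMulCommutative_subgroup_iff] at hc ⊢
      intro a ha b hb
      apply Subtype.ext
      exact hc a ⟨a, ha, rfl⟩ b ⟨b, hb, rfl⟩
    have hRGnorm := h RG hRGna
    have hlt : RG < (Q : Subgroup G) := by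
      refine lt_of_le_of_ne (Subgroup.map_subtype_le R) ?_
      intro heq
      apply hR
      rw [eq_top_iff]
      intro x _
      have : (x : G) ∈ RG := by rw [heq]; exact x.2
      obtain ⟨y, hy, hyx⟩ := this
      have : y = x := Subtype.ext hyx
      rwa [← this]
    obtain ⟨y, _, hyN, hyR⟩ :=
      Cfsg.Agent.Helper29.exists_mem_normalizer_not_mem (Q.isPGroup'.isNilpotent) hlt
    rw [hRGnorm] at hyN
    exact hyR hyN
  have hcardcomm := card_commutator_of_minimal_nonabelian Q.isPGroup' hna hmin
  have hwo : orderOf w = q := by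
    have h1 : orderOf (w : G) = orderOf w := Subgroup.orderOf_coe w
    rw [← h1]
    exact hzo
  have hcomm_eq : commutator ↥(Q : Subgroup G) = Subgroup.zpowers w := by
    symm
    apply Subgroup.eq_of_le_of_card_ge
    · rw [Subgroup.zpowers_le]; exact hw
    · rw [hcardcomm, Nat.card_zpowers, hwo]
  -- commutators in `Q` are powers of `z`
  set Z₀ := Subgroup.zpowers z with hZ₀
  have hcommZ : ∀ a ∈ (Q : Subgroup G), ∀ b ∈ (Q : Subgroup G), a * b * a⁻¹ * b⁻¹ ∈ Z₀ := by
    intro a ha b hb
    have hmem : ⁅(⟨a, ha⟩ : ↥(Q : Subgroup G)), ⟨b, hb⟩⁆ ∈ commutator ↥(Q : Subgroup G) := by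
      rw [commutator_def]
      exact Subgroup.commutator_mem_commutator (Subgroup.mem_top _) (Subgroup.mem_top _)
    rw [hcomm_eq] at hmem
    obtain ⟨k, hk⟩ := Subgroup.mem_zpowers_iff.1 hmem
    have := congrArg Subtype.val hk
    rw [commutatorElement_def] at this
    refine Subgroup.mem_zpowers_iff.2 ⟨k, ?_⟩
    simpa using this
  haveI hZ₀n : Z₀.Normal := by
    refine ⟨fun x hx g => ?_⟩
    obtain ⟨k, rfl⟩ := Subgroup.mem_zpowers_iff.1 hx
    have hc : z ^ k ∈ Subgroup.center G := Subgroup.zpow_mem _ hz k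
    rw [Subgroup.mem_center_iff.1 hc g, mul_inv_cancel_right]
    exact Subgroup.zpow_mem_zpowers z k
  have hsurj := QuotientGroup.mk'_surjective Z₀
  let Qbar : Sylow q (G ⧸ Z₀) := Q.mapSurjective hsurj
  have hQbar : (Qbar : Subgroup (G ⧸ Z₀)) = (Q : Subgroup G).map (QuotientGroup.mk' Z₀) :=
    Sylow.coe_mapSurjective hsurj Q
  have hcomap : ((Qbar : Subgroup (G ⧸ Z₀))).comap (QuotientGroup.mk' Z₀) = (Q : Subgroup G) := by
    rw [hQbar, Subgroup.comap_map_eq, QuotientGroup.ker_mk']
    exact sup_eq_left.2 hZQ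
  have hP : ∀ n ∈ Subgroup.normalizer ((Qbar : Subgroup (G ⧸ Z₀)) : Set (G ⧸ Z₀)),
      ∀ x ∈ (Qbar : Subgroup (G ⧸ Z₀)), x * n = n * x := by
    intro n hn x hx
    obtain ⟨n', rfl⟩ := hsurj n
    have hn' : n' ∈ (Q : Subgroup G) := by
      have h1 : n' ∈ Subgroup.normalizer
          (((Qbar : Subgroup (G ⧸ Z₀)).comap (QuotientGroup.mk' Z₀) : Subgroup G) : Set G) := by
        have := Subgroup.comap_normalizer_eq_of_surjective (Qbar : Subgroup (G ⧸ Z₀)) hsurj
        rw [← this]
        exact hn
      rw [hcomap, hQnorm] at h1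
      exact h1
    rw [hQbar] at hx
    obtain ⟨x', hx', rfl⟩ := hx
    have hc := hcommZ x' hx' n' hn'
    have h1 : (QuotientGroup.mk' Z₀) (x' * n' * x'⁻¹ * n'⁻¹) = 1 :=
      (QuotientGroup.eq_one_iff _).2 hc
    simp only [map_mul, map_inv] at h1
    calc (QuotientGroup.mk' Z₀) x' * (QuotientGroup.mk' Z₀) n'
        = ((QuotientGroup.mk' Z₀) x' * (QuotientGroup.mk' Z₀) n' * ((QuotientGroup.mk' Z₀) x')⁻¹ *
            ((QuotientGroup.mk' Z₀) n')⁻¹) *
            ((QuotientGroup.mk' Z₀) n' * (QuotientGroup.mk' Z₀) x') := by group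
      _ = (QuotientGroup.mk' Z₀) n' * (QuotientGroup.mk' Z₀) x' := by rw [h1, one_mul]
  have hP' : Subgroup.normalizer (Qbar : Set (G ⧸ Z₀)) ≤ Subgroup.centralizer (Qbar : Set (G ⧸ Z₀)) := by
    intro n hn
    rw [Subgroup.mem_centralizer_iff]
    intro x hx
    exact hP n hn x hx
  have hcompl := MonoidHom.ker_transferSylow_isComplement' Qbar hP'
  have hker : (MonoidHom.transferSylow Qbar hP').ker = ⊤ := by
    rw [eq_top_iff]
    intro x _
    obtain ⟨x', rfl⟩ := hsurj x
    rw [MonoidHom.mem_ker]
    have := perfect_hom_trivial hperf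
      ((MonoidHom.transferSylow Qbar hP').comp (QuotientGroup.mk' Z₀))
      (fun a b => Subtype.ext (hP (b : G ⧸ Z₀) (Subgroup.le_normalizer b.2) (a : G ⧸ Z₀) a.2)) x'
    exact this
  have hcard := hcompl.card_mul
  rw [hker, Subgroup.card_top] at hcard
  have h1 : Nat.card (Qbar : Subgroup (G ⧸ Z₀)) = 1 := by
    have hpos : 0 < Nat.card (G ⧸ Z₀) := Nat.card_pos
    exact Nat.eq_of_mul_eq_mul_left hpos (by rw [hcard, mul_one])
  have hQbot : (Qbar : Subgroup (G ⧸ Z₀)) = ⊥ := Subgroup.card_eq_one.1 h1
  -- so `Q ≤ Z₀`, abelian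
  have hQZ : (Q : Subgroup G) ≤ Z₀ := by
    intro x hx
    have : (QuotientGroup.mk' Z₀) x ∈ (Qbar : Subgroup (G ⧸ Z₀)) := by
      rw [hQbar]; exact ⟨x, hx, rfl⟩
    rw [hQbot, Subgroup.mem_bot] at this
    exact (QuotientGroup.eq_one_iff x).1 this
  obtain ⟨a, b, hab⟩ := hna
  apply hab
  apply Subtype.ext
  obtain ⟨i, hi⟩ := Subgroup.mem_zpowers_iff.1 (hQZ a.2)
  obtain ⟨j, hj⟩ := Subgroup.mem_zpowers_iff.1 (hQZ b.2)
  simp only [Subgroup.coe_mul]
  rw [← hi, ← hj, ← zpow_add, ← zpow_add, add_comm]

theorem solvable_of_abelian_normal (N : Subgroup G) [N.Normal] (hN : IsMulCommutative N)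
    (hq : Group.IsSolvable (G ⧸ N)) : Group.IsSolvable G := by
  haveI : Group.IsSolvable N := Group.isSolvable_of_comm (fun a b => hN.is_comm.comm a b)
  haveI := hq
  exact Group.isSolvable_of_ker_le_range N.subtype (QuotientGroup.mk' N)
    (by rw [QuotientGroup.ker_mk', Subgroup.range_subtype])

theorem main : ∀ (n : ℕ) (G : Type u) [Group G] [Finite G], Nat.card G = n → P72 G →
    Group.IsSolvable G ∨ IsSimpleGroup G := by
  intro n
  induction n using Nat.strong_induction_on with
  | _ n ih =>
  intro G _ _ hcard h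
  by_contra hcon
  push Not at hcon
  obtain ⟨hns, hnsimple⟩ := hcon
  have hnt : Nontrivial G := by
    by_contra hnt
    rw [not_nontrivial_iff_subsingleton] at hnt
    exact hns inferInstance
  obtain ⟨N, hNn, hNbot, hNtop⟩ : ∃ N : Subgroup G, N.Normal ∧ N ≠ ⊥ ∧ N ≠ ⊤ := by
    by_contra hcon
    push Not at hcon
    apply hnsimple
    exact { toNontrivial := hnt
            eq_bot_or_eq_top_of_normal := fun H hH => by
              by_cases hb : H = ⊥
              · exact Or.inl hb
              · exact Or.inr (hcon H hH hb) }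
  haveI := hNn
  have hNab := h.normal_abelian N hNtop
  have hquot := h.quotient N
  have hlt : Nat.card (G ⧸ N) < n := by
    have h1 := N.card_mul_index
    rw [hcard] at h1
    have h2 : 1 < Nat.card N := by
      rw [Subgroup.one_lt_card_iff_ne_bot]
      exact hNbot
    have h3 : 0 < N.index := Nat.pos_of_ne_zero Subgroup.index_ne_zero_of_finite
    rw [← Subgroup.index_eq_card]
    nlinarith
  have hnsq : ¬ Group.IsSolvable (G ⧸ N) := fun hs =>
    hns (solvable_of_abelian_normal N hNab hs)
  rcases ih _ hlt (G ⧸ N) rfl hquot with hs | hsimp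
  · exact hnsq hs
  · set C := Subgroup.centralizer (N : Set G) with hC
    haveI hCn : C.Normal := Subgroup.normal_centralizer
    have hNC : N ≤ C := by
      intro x hx
      rw [hC, Subgroup.mem_centralizer_iff]
      intro y hy
      exact (isMulCommutative_subgroup_iff N).1 hNab y hy x hx
    have hsurj := QuotientGroup.mk'_surjective N
    haveI hCmapn : (C.map (QuotientGroup.mk' N)).Normal := hCn.map _ hsurj
    haveI := hsimp
    rcases hCmapn.eq_bot_or_eq_top with hb | ht
    · apply faithful_case h N hsimp hnsq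
      intro x hx
      have : (QuotientGroup.mk' N) x ∈ C.map (QuotientGroup.mk' N) := ⟨x, hx, rfl⟩
      rw [hb, Subgroup.mem_bot] at this
      exact (QuotientGroup.eq_one_iff x).1 this
    · have hCtop : C = ⊤ := by
        have h1 := congrArg (Subgroup.comap (QuotientGroup.mk' N)) ht
        rw [Subgroup.comap_map_eq, QuotientGroup.ker_mk', Subgroup.comap_top,
          sup_eq_left.2 hNC] at h1
        exact h1
      have hNcen : N ≤ Subgroup.center G := by
        intro x hx
        rw [Subgroup.mem_center_iff]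
        intro g
        have : g ∈ C := by rw [hCtop]; exact Subgroup.mem_top g
        rw [hC, Subgroup.mem_centralizer_iff] at this
        exact (this x hx).symm
      have hperf : commutator G = ⊤ := by
        by_contra hne
        have hab := h.normal_abelian (commutator G) hne
        apply hns
        apply solvable_of_abelian_normal (commutator G) hab
        have : IsMulCommutative (G ⧸ commutator G) :=
          Subgroup.Normal.quotient_commutative_iff_commutator_le.2 le_rfl
        exact Group.isSolvable_of_comm (fun a b => this.is_comm.comm a b)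
      have hNcard : Nat.card N ≠ 1 := by
        intro h1
        exact hNbot (Subgroup.card_eq_one.1 h1)
      set q := (Nat.card N).minFac with hq
      haveI hqf : Fact q.Prime := ⟨Nat.minFac_prime hNcard⟩
      obtain ⟨z, hz⟩ := exists_prime_orderOf_dvd_card' q (Nat.minFac_dvd (Nat.card N))
      exact central_case h hperf (z : G) (hNcen z.2) q (by rw [Subgroup.orderOf_coe, hz])

end

/-- A finite group in which every non-abelian subgroup is self-normalizing is solvable or simple. -/
theorem result {G : Type*} [Group G] [Finite G] (hS : ∀ H : Subgroup G, ¬ IsMulCommutative H → Subgroup.normalizer (H : Set G) = H) :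
    Group.IsSolvable G ∨ IsSimpleGroup G := by
  exact main _ G rfl hS

end Cfsg.Agent.S4072
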