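import Cfsg.Statements.S5351
import Mathlib
import Cfsg.Agent.Helper4.ThreeTransFStarC
import Cfsg.Agent.S5347
import Cfsg.Agent.S5348
import Cfsg.Agent.S5349
import Cfsg.Agent.S5350

set_option autoImplicit false
open Cfsg

namespace Cfsg.Agent.S5351

/-- Let D be a conjugacy class of 3-transpositions generating the finite group G, with at least two members. Then for every prime p > 3 the largest normal p-subgroup of G is central, and exactly one of the following holds: the largest normal 2-subgroup of G is not central; the largest normal 3-subgroup of G is not central; the layer of G (the product of its components) is non-trivial. -/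
theorem result {G : Type*} [Group G] [Finite G] {D : Set G} (hD : Cfsg.IsThreeTranspositionClass D) (hD2 : ∃ a ∈ D, ∃ b ∈ D, a ≠ b) : (∀ p : ℕ, p.Prime → 3 < p → Cfsg.pCore p G ≤ Subgroup.center G) ∧ ((¬ Cfsg.pCore 2 G ≤ Subgroup.center G ∧ Cfsg.pCore 3 G ≤ Subgroup.center G ∧ Cfsg.layer G = ⊥) ∨ (Cfsg.pCore 2 G ≤ Subgroup.center G ∧ ¬ Cfsg.pCore 3 G ≤ Subgroup.center G ∧ Cfsg.layer G = ⊥) ∨ (Cfsg.pCore 2 G ≤ Subgroup.center G ∧ Cfsg.pCore 3 G ≤ Subgroup.center G ∧ Cfsg.layer G ≠ ⊥)) := by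
  classical
  have hDc := hD
  obtain ⟨hset, ⟨d₀, hd₀, hDeq⟩, hgen⟩ := hD
  have hmemD : ∀ x, x ∈ D ↔ IsConj d₀ x := fun x => by rw [hDeq]; rfl
  have hconj : ∀ g : G, ∀ x ∈ D, g * x * g⁻¹ ∈ D := by
    intro g x hx
    rw [hmemD] at hx ⊢
    exact hx.trans (isConj_iff.mpr ⟨g, rfl⟩)
  have hconjd : ∀ d ∈ D, ∀ e ∈ D, ∃ g : G, g * d * g⁻¹ = e := by
    intro d hd e he
    rw [hmemD] at he hd
    exact isConj_iff.mp (hd.symm.trans he)
  have hG : Cfsg.IsThreeTranspositionGroup D := ⟨hset, hconj, hgen⟩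
  have hD2' := hD2
  obtain ⟨d, hd, -⟩ := hD2'
  have hbig : ∀ p : ℕ, p.Prime → 3 < p → Cfsg.pCore p G ≤ Subgroup.center G := by
    intro p hp hp3
    have hN : (Cfsg.pCore p G).Normal := Cfsg.Agent.Helper14.pCore_normal p
    apply Cfsg.Agent.Helper4.ThreeTransFStar.le_center_of_commute hgen hconjd hd
    intro g hg
    refine Cfsg.Agent.S5347.result hG hp hp3 (Cfsg.pCore p G)
      (Cfsg.Agent.Helper14.pCore_isPGroup p) hd ?_ g hg
    rw [Subgroup.normalizer_eq_top_iff.mpr hN]
    exact Subgroup.mem_top d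
  have h23 : Cfsg.pCore 2 G ≤ Subgroup.center G ∨ Cfsg.pCore 3 G ≤ Subgroup.center G := by
    rcases Cfsg.Agent.S5348.result hG hd with hV | hW
    · left
      have h49 := (Cfsg.Agent.S5349.result hDc hD2 hd).2
      rw [hV] at h49
      by_contra hnc
      have hN : (Cfsg.pCore 2 G).Normal := Cfsg.Agent.Helper14.pCore_normal 2
      obtain ⟨g, hg, hne⟩ :=
        Cfsg.Agent.Helper4.ThreeTransFStar.exists_conj_ne hgen hconjd hnc hd
      have : g * d * g⁻¹ ∈ ({d} : Set G) := by rw [h49]; exact ⟨g, hg, rfl⟩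
      exact hne this
    · right
      have h50 := (Cfsg.Agent.S5350.result hDc hD2 hd).2
      rw [hW] at h50
      by_contra hnc
      have hN : (Cfsg.pCore 3 G).Normal := Cfsg.Agent.Helper14.pCore_normal 3
      obtain ⟨g, hg, hne⟩ :=
        Cfsg.Agent.Helper4.ThreeTransFStar.exists_conj_ne hgen hconjd hnc hd
      have : g * d * g⁻¹ ∈ ({d} : Set G) := by rw [h50]; exact ⟨g, hg, rfl⟩
      exact hne this
  refine ⟨hbig, ?_⟩
  by_cases h2 : Cfsg.pCore 2 G ≤ Subgroup.center G
  · by_cases h3 : Cfsg.pCore 3 G ≤ Subgroup.center G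
    · right; right
      refine ⟨h2, h3, ?_⟩
      apply Cfsg.Agent.Helper4.ThreeTransFStar.layer_ne_bot hgen hconjd hD2
      intro p hp
      by_cases hp2 : p = 2
      · rw [hp2]; exact h2
      by_cases hp3 : p = 3
      · rw [hp3]; exact h3
      apply hbig p hp
      have := hp.two_le
      omega
    · right; left
      exact ⟨h2, h3,
        Cfsg.Agent.Helper4.ThreeTransFStar.layer_eq_bot_of_three hset hconj hgen hconjd h3 hd⟩
  · left
    exact ⟨h2, h23.resolve_left h2,
      Cfsg.Agent.Helper4.ThreeTransFStar.layer_eq_bot_of_two hset hconj hgen hconjd h2 hd⟩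

end Cfsg.Agent.S5351
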