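import Cfsg.Statements.S5352
import Mathlib
import Cfsg.Agent.Helper4.ThreeTransFStarD
import Cfsg.Agent.S5351

set_option autoImplicit false
open Cfsg

namespace Cfsg.Agent.S5352

/-- Let D be a conjugacy class of 3-transpositions generating the finite group G, with at least two members, and suppose the largest normal 2-subgroup and the largest normal 3-subgroup of G are both central. Then G has a quasisimple normal subgroup L such that the generalized Fitting subgroup of G is the product of L and the centre; and either L = G or the image of D in G/L has width 1, in the sense that two members of D whose commutator lies in L have the same image modulo L. -/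
theorem result {G : Type*} [Group G] [Finite G] {D : Set G} (hD : Cfsg.IsThreeTranspositionClass D) (hD2 : ∃ a ∈ D, ∃ b ∈ D, a ≠ b) (h2 : Cfsg.pCore 2 G ≤ Subgroup.center G) (h3 : Cfsg.pCore 3 G ≤ Subgroup.center G) : ∃ L : Subgroup G, L.Normal ∧ Cfsg.IsQuasisimple L ∧ Cfsg.generalizedFittingSubgroup G = L ⊔ Subgroup.center G ∧ (L = ⊤ ∨ ∀ a ∈ D, ∀ b ∈ D, a * b * a⁻¹ * b⁻¹ ∈ L → a⁻¹ * b ∈ L) := by
  classical
  have hDc := hD
  obtain ⟨hset, ⟨d₀, hd₀, hDeq⟩, hgen⟩ := hD
  have hmemD : ∀ x, x ∈ D ↔ IsConj d₀ x := fun x => by rw [hDeq]; rfl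
  have hconj : ∀ g : G, ∀ x ∈ D, g * x * g⁻¹ ∈ D := by
    intro g x hx
    rw [hmemD] at hx ⊢
    exact hx.trans (isConj_iff.mpr ⟨g, rfl⟩)
  have hconjd : ∀ d ∈ D, ∀ e ∈ D, ∃ g : G, g * d * g⁻¹ = e := by
    intro d hd e he
    rw [hmemD] at he hd
    exact isConj_iff.mp (hd.symm.trans he)
  have hD2' := hD2
  obtain ⟨d, hd, -⟩ := hD2'
  have hall : ∀ p : ℕ, p.Prime → Cfsg.pCore p G ≤ Subgroup.center G := by
    intro p hp
    by_cases hp2 : p = 2
    · rw [hp2]; exact h2
    by_cases hp3 : p = 3
    · rw [hp3]; exact h3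
    apply (Cfsg.Agent.S5351.result hDc hD2).1 p hp
    have := hp.two_le
    omega
  have hE : Cfsg.layer G ≠ ⊥ :=
    Cfsg.Agent.Helper4.ThreeTransFStar.layer_ne_bot hgen hconjd hD2 hall
  obtain ⟨L, hL⟩ : ∃ L : Subgroup G, Cfsg.IsComponent L := by
    by_contra hno
    push Not at hno
    apply hE
    unfold Cfsg.layer
    rw [sSup_eq_bot]
    intro K hK
    exact absurd hK (hno K)
  have hLn : L.Normal := Cfsg.Agent.Helper4.ThreeTransFStar.component_normal hset hconj hgen hL
  have hlay : Cfsg.layer G = L :=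
    Cfsg.Agent.Helper4.ThreeTransFStar.layer_eq_component hset hconj hgen hconjd hL hd
  have hF : Cfsg.fittingSubgroup G = Subgroup.center G := by
    apply le_antisymm
    · rw [Cfsg.Agent.Helper7.fittingSubgroup_eq_pCoreSup, Cfsg.Agent.Helper7.pCoreSup_le_iff]
      exact hall
    · have hnil : Group.IsNilpotent (Subgroup.center G) := by
        letI : CommGroup (Subgroup.center G) :=
          { (inferInstance : Group (Subgroup.center G)) with
            mul_comm := fun a b => Subtype.ext ((Subgroup.mem_center_iff.mp a.2) b.1).symm }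
        infer_instance
      exact Cfsg.Agent.Helper7.le_fittingSubgroup inferInstance hnil
  refine ⟨L, hLn, hL.2, ?_, Or.inr ?_⟩
  · unfold Cfsg.generalizedFittingSubgroup
    rw [hlay, hF]
  · intro a ha b hb hc
    have ha2 := Cfsg.Agent.Helper4.ThreeTransO2.sq_eq_one hset ha
    have hb2 := Cfsg.Agent.Helper4.ThreeTransO2.sq_eq_one hset hb
    have hai : a⁻¹ = a := inv_eq_of_mul_eq_one_left ha2
    have hbi : b⁻¹ = b := inv_eq_of_mul_eq_one_left hb2
    rcases hset.2 a ha b hb with h | h
    · have hab := Cfsg.Agent.Helper4.ThreeTransFStar.commute_of_sq ha2 hb2 h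
      rw [hai]
      exact Cfsg.Agent.Helper4.ThreeTransFStar.mul_mem_component hset hconj hgen hconjd hL ha hb hab
    · have h1 : a * b * a⁻¹ * b⁻¹ = (a * b) ^ 2 := by rw [hai, hbi, pow_two, mul_assoc]
      rw [h1] at hc
      have h2 : a⁻¹ * b = ((a * b) ^ 2) ^ 2 := by
        rw [hai, ← pow_mul]
        show a * b = (a * b) ^ (3 + 1)
        rw [pow_succ, h, one_mul]
      rw [h2]
      exact pow_mem hc 2

end Cfsg.Agent.S5352
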