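import Cfsg.Statements.S5353
import Mathlib
import Cfsg.Agent.Helper4.ThreeTransPrimB
import Cfsg.Agent.S5351

set_option autoImplicit false
open Cfsg

namespace Cfsg.Agent.S5353

/-- Let D be a conjugacy class of 3-transpositions generating the finite group G, with at least two members, such that the largest normal 2-subgroup and the largest normal 3-subgroup of G are central, and let L be a quasisimple normal subgroup with generalized Fitting subgroup of G equal to L times the centre. If L has index at most 2 then G acts primitively on D by conjugation; and if the commuting graph of D is connected then L has index at most 2. -/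
theorem result {G : Type*} [Group G] [Finite G] {D : Set G} (hD : Cfsg.IsThreeTranspositionClass D) (hD2 : ∃ a ∈ D, ∃ b ∈ D, a ≠ b) (h2 : Cfsg.pCore 2 G ≤ Subgroup.center G) (h3 : Cfsg.pCore 3 G ≤ Subgroup.center G) (L : Subgroup G) [L.Normal] (hL : Cfsg.IsQuasisimple L) (hF : Cfsg.generalizedFittingSubgroup G = L ⊔ Subgroup.center G) : (L.index ≤ 2 → Cfsg.IsPrimitiveUnderConj D) ∧ ((Cfsg.commutingGraph D).Connected → L.index ≤ 2) := by
  classical
  have hDc := hD
  obtain ⟨hset, ⟨d₀, hd₀, hDeq⟩, hgen⟩ := hD
  have hmemD : ∀ x, x ∈ D ↔ IsConj d₀ x := fun x => by rw [hDeq]; rfl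
  have hconj : ∀ g : G, ∀ x ∈ D, g * x * g⁻¹ ∈ D := by
    intro g x hx
    rw [hmemD] at hx ⊢
    exact hx.trans (isConj_iff.mpr ⟨g, rfl⟩)
  have hconjd : ∀ d ∈ D, ∀ e ∈ D, ∃ g : G, g * d * g⁻¹ = e := by
    intro d hd e he
    rw [hmemD] at he hd
    exact isConj_iff.mp (hd.symm.trans he)
  have hall : ∀ p : ℕ, p.Prime → Cfsg.pCore p G ≤ Subgroup.center G := by
    intro p hp
    by_cases hp2 : p = 2
    · rw [hp2]; exact h2
    by_cases hp3 : p = 3
    · rw [hp3]; exact h3
    apply (Cfsg.Agent.S5351.result hDc hD2).1 p hp
    have := hp.two_le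
    omega
  have hFit : Cfsg.fittingSubgroup G = Subgroup.center G := by
    apply le_antisymm
    · rw [Cfsg.Agent.Helper7.fittingSubgroup_eq_pCoreSup, Cfsg.Agent.Helper7.pCoreSup_le_iff]
      exact hall
    · have hnil : Group.IsNilpotent (Subgroup.center G) := by
        letI : CommGroup (Subgroup.center G) :=
          { (inferInstance : Group (Subgroup.center G)) with
            mul_comm := fun a b => Subtype.ext ((Subgroup.mem_center_iff.mp a.2) b.1).symm }
        infer_instance
      exact Cfsg.Agent.Helper7.le_fittingSubgroup inferInstance hnil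
  have hLn : L.Normal := inferInstance
  have hLc : Cfsg.IsComponent L := ⟨hLn.isSubnormal, hL⟩
  constructor
  · intro hidx
    refine ⟨hconjd, hD2, ?_⟩
    intro B hBD hB
    by_contra hcon
    push Not at hcon
    obtain ⟨hns, hBne⟩ := hcon
    obtain ⟨a, ha, b, hb, hab⟩ := hns
    have hB' : ∀ g : G, Cfsg.Agent.Helper4.ThreeTransPrim.cj g '' B = B ∨
        Disjoint (Cfsg.Agent.Helper4.ThreeTransPrim.cj g '' B) B := hB
    have h1 := Cfsg.Agent.Helper4.ThreeTransPrim.normalClosure_le_stab hset hconj hBD hB' ha hb
    have hnc : ¬ Subgroup.normalClosure ({a * b} : Set G) ≤ Subgroup.center G := fun h =>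
      Cfsg.Agent.Helper4.ThreeTransPrim.mul_not_mem_center hset hgen hconjd hD2 (hBD ha) (hBD hb) hab
        (h (Subgroup.subset_normalClosure rfl))
    have hLM : L ≤ Subgroup.normalClosure ({a * b} : Set G) :=
      Cfsg.Agent.Helper4.ThreeTransPrim.le_of_normal_of_not_le_center hL hF hFit hnc
    have hLs : L ≤ Cfsg.Agent.Helper4.ThreeTransPrim.stab B := hLM.trans h1
    have has : a ∈ Cfsg.Agent.Helper4.ThreeTransPrim.stab B := by
      rw [Cfsg.Agent.Helper4.ThreeTransPrim.mem_stab]
      rcases hB' a with h | h
      · exact h
      · exfalso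
        have h1 : a ∈ Cfsg.Agent.Helper4.ThreeTransPrim.cj a '' B :=
          ⟨a, ha, by simp [Cfsg.Agent.Helper4.ThreeTransPrim.cj_apply]⟩
        exact Set.disjoint_left.mp h h1 ha
    have htop : Cfsg.Agent.Helper4.ThreeTransPrim.stab B = ⊤ := by
      by_cases haL : a ∈ L
      · have hDL : D ⊆ (L : Set G) := by
          intro x hx
          obtain ⟨g, rfl⟩ := hconjd a (hBD ha) x hx
          exact hLn.conj_mem a haL g
        have : Subgroup.closure D ≤ L := (Subgroup.closure_le _).mpr hDL
        rw [hgen] at this
        exact top_le_iff.mp (this.trans hLs)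
      · have hi2 : L.index = 2 := by
          have h0 : L.index ≠ 0 := Subgroup.index_ne_zero_of_finite
          have h1 : L.index ≠ 1 := by
            intro h
            rw [Subgroup.index_eq_one] at h
            apply haL
            rw [h]
            trivial
          omega
        rw [eq_top_iff]
        intro g _
        by_cases hg : g ∈ L
        · exact hLs hg
        · have h5 : g * a ∈ L := by
            rw [Subgroup.mul_mem_iff_of_index_two hi2]
            exact ⟨fun h => absurd h hg, fun h => absurd h haL⟩
          have h6 : g = (g * a) * a⁻¹ := by group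
          rw [h6]
          exact Subgroup.mul_mem _ (hLs h5) (Subgroup.inv_mem _ has)
    apply hBne
    apply Set.Subset.antisymm hBD
    intro x hx
    obtain ⟨g, rfl⟩ := hconjd a (hBD ha) x hx
    have hg : g ∈ Cfsg.Agent.Helper4.ThreeTransPrim.stab B := by rw [htop]; trivial
    rw [Cfsg.Agent.Helper4.ThreeTransPrim.mem_stab] at hg
    rw [← hg]
    exact ⟨a, ha, rfl⟩
  · intro hconn
    obtain ⟨d, hd, -⟩ := hD2
    have hsq : ∀ x ∈ D, x * x = 1 := fun x hx => Cfsg.Agent.Helper4.ThreeTransO2.sq_eq_one hset hx
    have hwalk : ∀ (u v : D), (Cfsg.commutingGraph D).Walk u v → (u : G) * (v : G) ∈ L := by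
      intro u v w
      induction w with
      | nil =>
        rename_i u'
        rw [hsq u'.1 u'.2]
        exact Subgroup.one_mem _
      | cons hadj p ih =>
        rename_i u' w' v'
        have hc : Commute (u' : G) (w' : G) := by
          unfold Cfsg.commutingGraph at hadj
          rw [SimpleGraph.fromRel_adj] at hadj
          rcases hadj.2 with h | h
          · exact h
          · exact h.symm
        have h1 : (u' : G) * (w' : G) ∈ L :=
          Cfsg.Agent.Helper4.ThreeTransFStar.mul_mem_component hset hconj hgen hconjd hLc u'.2 w'.2 hc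
        have h2 : (u' : G) * (v' : G) = ((u' : G) * (w' : G)) * ((w' : G) * (v' : G)) := by
          rw [mul_assoc, ← mul_assoc (w' : G) (w' : G), hsq w'.1 w'.2, one_mul]
        rw [h2]
        exact Subgroup.mul_mem _ h1 ih
    have hkey : ∀ e ∈ D, d * e ∈ L := by
      intro e he
      obtain ⟨w⟩ := hconn.preconnected ⟨d, hd⟩ ⟨e, he⟩
      exact hwalk _ _ w
    have hq : ∀ g : G, g ∈ L ∨ d * g ∈ L := by
      intro g
      have hg : g ∈ Subgroup.closure D := by rw [hgen]; trivial
      induction hg using Subgroup.closure_induction with
      | mem x hx =>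
        right
        exact hkey x hx
      | one => left; exact Subgroup.one_mem _
      | mul x y _ _ hx hy =>
        rcases hx with hx | hx
        · rcases hy with hy | hy
          · left; exact Subgroup.mul_mem _ hx hy
          · right
            have : d * (x * y) = (d * x * d⁻¹) * (d * y) := by group
            rw [this]
            exact Subgroup.mul_mem _ (hLn.conj_mem x hx d) hy
        · rcases hy with hy | hy
          · right
            rw [← mul_assoc]
            exact Subgroup.mul_mem _ hx hy
          · left
            have hdi : d⁻¹ = d := inv_eq_of_mul_eq_one_left (hsq d hd)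
            have : x * y = d⁻¹ * (d * x) * d⁻¹⁻¹ * (d * y) := by
              rw [inv_inv, hdi]
              calc x * y = (d * d) * x * ((d * d) * y) := by rw [hsq d hd, one_mul, one_mul]
                _ = d * (d * x) * d * (d * y) := by simp only [mul_assoc]
            rw [this]
            exact Subgroup.mul_mem _ (hLn.conj_mem _ hx d⁻¹) hy
      | inv x _ hx =>
        rcases hx with hx | hx
        · left; exact Subgroup.inv_mem _ hx
        · right
          have hdi : d⁻¹ = d := inv_eq_of_mul_eq_one_left (hsq d hd)
          have : d * x⁻¹ = d * (d * x)⁻¹ * d⁻¹ := by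
            rw [mul_inv_rev, hdi]
            simp only [mul_assoc]
            rw [hsq d hd, mul_one]
          rw [this]
          exact hLn.conj_mem _ (Subgroup.inv_mem _ hx) d
    have hsurj : Function.Surjective (fun b : Bool => if b then (QuotientGroup.mk d : G ⧸ L) else 1) := by
      intro q
      induction q using QuotientGroup.induction_on with
      | H g =>
        rcases hq g with h | h
        · refine ⟨false, ?_⟩
          simp only [Bool.false_eq_true, if_false]
          exact ((QuotientGroup.eq_one_iff g).mpr h).symm
        · refine ⟨true, ?_⟩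
          simp only [if_true]
          rw [QuotientGroup.eq]
          have hdi : d⁻¹ = d := inv_eq_of_mul_eq_one_left (hsq d hd)
          rw [hdi]
          exact h
    have hcard := Nat.card_le_card_of_surjective _ hsurj
    have hb2 : Nat.card Bool = 2 := by rw [Nat.card_eq_fintype_card, Fintype.card_bool]
    rw [hb2] at hcard
    exact hcard

end Cfsg.Agent.S5353
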