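import Cfsg.Statements.S5354
import Mathlib
import Cfsg.Agent.Helper4.ThreeTransPrimE
import Cfsg.Agent.S5352
import Cfsg.Agent.S5353

set_option autoImplicit false
open Cfsg

namespace Cfsg.Agent.S5354

/-- Let D be a conjugation-invariant generating set of 3-transpositions of the finite group G on which G acts primitively by conjugation, and suppose two different members of D commute (width at least 2). Then G has a quasisimple normal subgroup L of index at most 2 with the generalized Fitting subgroup of G equal to L times the centre, the commuting graph of D is connected, and for d in D the subgroup generated by the members of D commuting with d is a maximal D-subgroup: it is proper, and every subgroup generated by members of D that contains it is either it or G. -/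
theorem result {G : Type*} [Group G] [Finite G] {D : Set G} (hD : Cfsg.IsThreeTranspositionGroup D) (hprim : Cfsg.IsPrimitiveUnderConj D) (hw : ∃ a ∈ D, ∃ b ∈ D, a ≠ b ∧ Commute a b) : (∃ L : Subgroup G, L.Normal ∧ Cfsg.IsQuasisimple L ∧ L.index ≤ 2 ∧ Cfsg.generalizedFittingSubgroup G = L ⊔ Subgroup.center G) ∧ (Cfsg.commutingGraph D).Connected ∧ ∀ d ∈ D, Subgroup.closure {y : G | y ∈ D ∧ Commute d y} ≠ ⊤ ∧ ∀ H : Subgroup G, Cfsg.IsDSubgroup D H → Subgroup.closure {y : G | y ∈ D ∧ Commute d y} ≤ H → H = Subgroup.closure {y : G | y ∈ D ∧ Commute d y} ∨ H = ⊤ := by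
  classical
  obtain ⟨hset, hconj, hgen⟩ := hD
  have hD2 : ∃ a ∈ D, ∃ b ∈ D, a ≠ b := hprim.2.1
  have hconjd : ∀ d ∈ D, ∀ e ∈ D, ∃ g : G, g * d * g⁻¹ = e := hprim.1
  have hDc : Cfsg.IsThreeTranspositionClass D := by
    obtain ⟨d₀, hd₀, -⟩ := hD2
    refine ⟨hset, ⟨d₀, hd₀, ?_⟩, hgen⟩
    ext x
    constructor
    · intro hx
      obtain ⟨g, hg⟩ := hconjd d₀ hd₀ x hx
      show IsConj d₀ x
      exact isConj_iff.mpr ⟨g, hg⟩
    · intro hx
      have hx' : IsConj d₀ x := hx
      obtain ⟨g, hg⟩ := isConj_iff.mp hx'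
      rw [← hg]
      exact hconj g d₀ hd₀
  have h2 := Cfsg.Agent.Helper4.ThreeTransPrim.pCore_two_le_center_of_primitive hDc hD2 hprim
  have h3 := Cfsg.Agent.Helper4.ThreeTransPrim.pCore_three_le_center_of_primitive hDc hw hprim
  have hconn := Cfsg.Agent.Helper4.ThreeTransPrim.connected_of_primitive hconj hw hprim
  obtain ⟨L, hLn, hL, hF, -⟩ := Cfsg.Agent.S5352.result hDc hD2 h2 h3
  haveI := hLn
  have hidx := (Cfsg.Agent.S5353.result hDc hD2 h2 h3 L hL hF).2 hconn
  refine ⟨⟨L, hLn, hL, hidx, hF⟩, hconn, ?_⟩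
  have hV : ∀ x ∈ D, ∀ y ∈ D, (∀ e ∈ D, Commute x e ↔ Commute y e) → x = y := by
    intro x hx y hy h
    have h1 := (Cfsg.Agent.S5349.result hDc hD2 hx).2
    have hy' : y ∈ {v : G | v ∈ D ∧ ∀ e ∈ D, Commute v e ↔ Commute x e} :=
      ⟨hy, fun e he => (h e he).symm⟩
    rw [h1] at hy'
    obtain ⟨g, hg, rfl⟩ := hy'
    have hgc := h2 hg
    rw [Subgroup.mem_center_iff] at hgc
    rw [← hgc x, mul_inv_cancel_right]
  have hW : ∀ x ∈ D, ∀ y ∈ D, Cfsg.Agent.Helper4.ThreeTransO3.Th D x y → x = y := by
    intro x hx y hy h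
    have h1 := (Cfsg.Agent.S5350.result hDc hD2 hx).2
    have hy' : y ∈ {w : G | w ∈ D ∧ {y : G | y ∈ D ∧ y ≠ x ∧ Commute x y} =
        {y : G | y ∈ D ∧ y ≠ w ∧ Commute w y}} := ⟨hy, h⟩
    rw [h1] at hy'
    obtain ⟨g, hg, rfl⟩ := hy'
    have hgc := h3 hg
    rw [Subgroup.mem_center_iff] at hgc
    rw [← hgc x, mul_inv_cancel_right]
  intro d hd
  obtain ⟨M, hM⟩ : ∃ M : Subgroup G, M = Subgroup.closure {y : G | y ∈ D ∧ Commute d y} :=
    ⟨_, rfl⟩
  rw [← hM]
  have hdM : d ∈ M := by
    rw [hM]
    exact Subgroup.subset_closure ⟨hd, Commute.refl d⟩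
  have hMle : M ≤ Subgroup.centralizer ({d} : Set G) := by
    rw [hM, Subgroup.closure_le]
    intro y hy
    rw [SetLike.mem_coe, Subgroup.mem_centralizer_iff]
    intro z hz
    rw [Set.mem_singleton_iff] at hz
    subst hz
    exact hy.2.eq
  constructor
  · intro htop
    obtain ⟨b, hb, hnc⟩ := Cfsg.Agent.Helper4.ThreeTransO2.exists_not_commute hgen hconjd hD2 hd
    apply hnc
    have hbc : b ∈ Subgroup.centralizer ({d} : Set G) := hMle (by rw [htop]; trivial)
    rw [Subgroup.mem_centralizer_iff] at hbc
    exact hbc d rfl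
  · intro H hH hMH
    by_cases hA : ∃ e, e ∈ D ∧ e ∈ H ∧ ¬ Commute d e
    · right
      obtain ⟨e, heD, heH, hde⟩ := hA
      have hdH : d ∈ H := hMH hdM
      obtain ⟨hd2, he2, hbr⟩ := Cfsg.Agent.S5344.braid_of_not_commute hset hd heD hde
      have hdi : d⁻¹ = d := inv_eq_of_mul_eq_one_left hd2
      have hei : e⁻¹ = e := inv_eq_of_mul_eq_one_left he2
      obtain ⟨B, hBdef⟩ : ∃ B : Set G, B = {x : G | ∃ h ∈ H, x = h * d * h⁻¹} := ⟨_, rfl⟩
      have hBH : B ⊆ (H : Set G) := by
        rw [hBdef]
        rintro _ ⟨h, hh, rfl⟩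
        exact H.mul_mem (H.mul_mem hh hdH) (H.inv_mem hh)
      have hBsubD : B ⊆ D := by
        rw [hBdef]
        rintro _ ⟨h, hh, rfl⟩
        exact hconj h d hd
      have hsp : Cfsg.Agent.Helper4.ThreeTransPrim.IsSpecial D B := by
        refine ⟨hBsubD, ?_, ?_, ?_⟩
        · refine ⟨d, ?_, e, ?_, ?_⟩
          · rw [hBdef]
            exact ⟨1, H.one_mem, by simp⟩
          · rw [hBdef]
            refine ⟨d * e, H.mul_mem hdH heH, ?_⟩
            rw [mul_inv_rev, hdi, hei]
            calc e = d * (d * e * d) * d := by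
                  simp only [mul_assoc]
                  rw [hd2, mul_one, ← mul_assoc, hd2, one_mul]
              _ = d * (e * d * e) * d := by rw [hbr]
              _ = d * e * d * (e * d) := by simp only [mul_assoc]
          · intro h
            apply hde
            rw [h]
        · rw [hBdef]
          rintro _ ⟨h, hh, rfl⟩ _ ⟨h', hh', rfl⟩
          refine ⟨h * d * h⁻¹ * h',
            H.mul_mem (H.mul_mem (H.mul_mem hh hdH) (H.inv_mem hh)) hh', ?_⟩
          group
        · intro z hzD hzB
          by_cases hzH : z ∈ H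
          · left
            intro y hy
            by_contra hc
            apply hzB
            have hyD : y ∈ D := hBsubD hy
            have hyH : y ∈ H := hBH hy
            obtain ⟨hz2, hy2, hbr'⟩ := Cfsg.Agent.S5344.braid_of_not_commute hset hzD hyD hc
            have hzi : z⁻¹ = z := inv_eq_of_mul_eq_one_left hz2
            have hyi : y⁻¹ = y := inv_eq_of_mul_eq_one_left hy2
            rw [hBdef] at hy ⊢
            obtain ⟨h, hh, hyeq⟩ := hy
            refine ⟨y * z * h, H.mul_mem (H.mul_mem hyH hzH) hh, ?_⟩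
            have e1 : y * z * h * d * (y * z * h)⁻¹ = y * z * (h * d * h⁻¹) * (y * z)⁻¹ := by
              group
            rw [e1, ← hyeq, mul_inv_rev, hzi, hyi]
            calc z = y * (y * z * y) * y := by
                  simp only [mul_assoc]
                  rw [hy2, mul_one, ← mul_assoc, hy2, one_mul]
              _ = y * (z * y * z) * y := by rw [hbr']
              _ = y * z * y * (z * y) := by simp only [mul_assoc]
          · right
            intro y hy hc
            apply hzH
            rw [hBdef] at hy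
            obtain ⟨h, hh, rfl⟩ := hy
            have hc' : Commute (h⁻¹ * z * h) d := by
              have h1 : z = h * (h⁻¹ * z * h) * h⁻¹ := by group
              rw [h1] at hc
              exact (Commute.conj_iff h).mp hc
            have hmemD : h⁻¹ * z * h ∈ D := by
              have := hconj h⁻¹ z hzD
              rwa [inv_inv] at this
            have hmem : h⁻¹ * z * h ∈ M := by
              rw [hM]
              exact Subgroup.subset_closure ⟨hmemD, hc'.symm⟩
            have hmemH := hMH hmem
            have h1 : z = h * (h⁻¹ * z * h) * h⁻¹ := by group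
            rw [h1]
            exact H.mul_mem (H.mul_mem hh hmemH) (H.inv_mem hh)
      have hBD : B = D :=
        Cfsg.Agent.Helper4.ThreeTransPrim.special_eq hconj hprim hV hW _ B hsp rfl
      rw [eq_top_iff, ← hgen, Subgroup.closure_le, ← hBD]
      exact hBH
    · left
      push Not at hA
      apply le_antisymm _ hMH
      have hH' : Subgroup.closure {d : G | d ∈ D ∧ d ∈ H} = H := hH
      rw [← hH', hM]
      apply Subgroup.closure_mono
      intro x hx
      exact ⟨hx.1, hA x hx.1 hx.2⟩

end Cfsg.Agent.S5354
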