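import Mathlib
import Cfsg.Statements.S1204
import Cfsg.Agent.Helper16.QDFusion

set_option autoImplicit false
open Cfsg

namespace Cfsg.Agent.S1204

open Cfsg.Agent.Helper18.QD Cfsg.Agent.Helper16.QDFusion

/-- Let G be a finite group with quasi-dihedral Sylow 2-subgroup S, T a Klein four-subgroup and Q a quaternion subgroup of order 8 of S, with |N_G(T) : C_G(T)| = 6 and |N_G(Q) : Q C_G(Q)| = 6. Then G has no subgroup of index 2, exactly one conjugacy class of involutions and exactly one conjugacy class of elements of order 4. -/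
theorem result {G : Type*} [Group G] [Finite G] (S : Sylow 2 G) (hS : Cfsg.IsQuasiDihedral (S : Subgroup G)) (T : Subgroup G) (hT : IsKleinFour T) (hTS : T ≤ S) (Q : Subgroup G) (hQS : Q ≤ S) (eQ : Q ≃* QuaternionGroup 2) (h₁ : (Subgroup.centralizer (T : Set G)).relIndex (Subgroup.normalizer (T : Set G)) = 6) (h₂ : (Q ⊔ Subgroup.centralizer (Q : Set G)).relIndex (Subgroup.normalizer (Q : Set G)) = 6) : (∀ H : Subgroup G, H.index ≠ 2) ∧ Nat.card {C : ConjClasses G // ∃ t : G, orderOf t = 2 ∧ ConjClasses.mk t = C} = 1 ∧ Nat.card {C : ConjClasses G // ∃ t : G, orderOf t = 4 ∧ ConjClasses.mk t = C} = 1 := by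
  obtain ⟨D⟩ := exists_qdData hS
  have hzy : IsConj ((D.z : (S : Subgroup G)) : G) ((D.y : (S : Subgroup G)) : G) := by
    obtain ⟨g, hgN, hgC, hodd⟩ := exists_odd_not_mem (Subgroup.centralizer (T : Set G))
      (Subgroup.normalizer (T : Set G)) (by rw [h₁]; norm_num)
    rw [isConj_iff]
    exact klein_fusion S D T hT hTS g hgN hgC hodd
  have hqs : IsConj ((D.r (qq D.n) : (S : Subgroup G)) : G) ((D.sr 1 : (S : Subgroup G)) : G) := by
    obtain ⟨g, hgN, hgC, hodd⟩ := exists_odd_not_mem (Q ⊔ Subgroup.centralizer (Q : Set G))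
      (Subgroup.normalizer (Q : Set G)) (by rw [h₂]; norm_num)
    rw [isConj_iff]
    exact quat_fusion S D Q hQS eQ g hgN (fun h => hgC (le_sup_right (a := Q) h)) hodd
  exact ⟨no_index_two S D hzy hqs, card_invol_classes_eq_one S D hzy,
    card_four_classes_eq_one S D hqs⟩

end Cfsg.Agent.S1204
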