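import Mathlib
import Cfsg.Statements.S1205
import Cfsg.Agent.Helper16.QDFusion4
import Cfsg.Agent.Helper18.QD4

set_option autoImplicit false
open Cfsg

namespace Cfsg.Agent.S1205

open Cfsg.Agent.Helper18.QD Cfsg.Agent.Helper16.QDFusion

/-- Let G be a finite group with quasi-dihedral Sylow 2-subgroup S, T a Klein four-subgroup and Q a quaternion subgroup of order 8 of S, with |N_G(T) : C_G(T)| = 2 and |N_G(Q) : Q C_G(Q)| = 6. Then G has a normal subgroup K of index 2 whose Sylow 2-subgroups are generalized quaternion and which has no subgroup of index 2; the centre of S is weakly closed in S; and G has exactly two classes of involutions and one class of elements of order 4. -/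
theorem result {G : Type*} [Group G] [Finite G] (S : Sylow 2 G) (hS : Cfsg.IsQuasiDihedral (S : Subgroup G)) (T : Subgroup G) (hT : IsKleinFour T) (hTS : T ≤ S) (Q : Subgroup G) (hQS : Q ≤ S) (eQ : Q ≃* QuaternionGroup 2) (h₁ : (Subgroup.centralizer (T : Set G)).relIndex (Subgroup.normalizer (T : Set G)) = 2) (h₂ : (Q ⊔ Subgroup.centralizer (Q : Set G)).relIndex (Subgroup.normalizer (Q : Set G)) = 6) : (∃ K : Subgroup G, K.Normal ∧ K.index = 2 ∧ (∀ P : Sylow 2 ↥K, ∃ m : ℕ, 1 ≤ m ∧ Nonempty ((P : Subgroup ↥K) ≃* QuaternionGroup (2 ^ m))) ∧ (∀ H : Subgroup ↥K, H.index ≠ 2)) ∧ Cfsg.IsWeaklyClosed ((Subgroup.center (S : Subgroup G)).map (S : Subgroup G).subtype) (S : Subgroup G) ∧ Nat.card {C : ConjClasses G // ∃ t : G, orderOf t = 2 ∧ ConjClasses.mk t = C} = 2 ∧ Nat.card {C : ConjClasses G // ∃ t : G, orderOf t = 4 ∧ ConjClasses.mk t = C} = 1 := by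
  obtain ⟨D⟩ := exists_qdData hS
  have hzy := klein_not_fused S D T hT hTS h₁
  obtain ⟨g, hgN, hgM, hodd⟩ := exists_odd_not_mem (Q ⊔ Subgroup.centralizer (Q : Set G))
    (Subgroup.normalizer (Q : Set G)) (by rw [h₂]; norm_num)
  have hgC : g ∉ Subgroup.centralizer (Q : Set G) := fun h => hgM (le_sup_right (a := Q) h)
  have hqs : IsConj ((D.r (qq D.n) : (S : Subgroup G)) : G) ((D.sr 1 : (S : Subgroup G)) : G) := by
    rw [isConj_iff]
    exact quat_fusion S D Q hQS eQ g hgN hgC hodd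
  obtain ⟨K, hKN, hKidx, hKS⟩ := exists_kernel_Mq S D hzy hqs
  have hyK : ((D.y : (S : Subgroup G)) : G) ∉ K := by
    intro h
    have h1 : D.y ∈ K.subgroupOf (S : Subgroup G) := Subgroup.mem_subgroupOf.mpr h
    rw [hKS, ← D.sr_zero, D.sr_mem_Mq] at h1
    obtain ⟨j', hj'⟩ := h1
    exact D.not_odd_even 0 ⟨j', by rw [mul_zero]; exact hj'⟩
  have hSK : ¬ (S : Subgroup G) ≤ K := fun h => hyK (h (D.y).2)
  have hMqK : ∀ s : (S : Subgroup G), s ∈ D.Mq → (s : G) ∈ K := by
    intro s hs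
    rw [← hKS] at hs
    exact Subgroup.mem_subgroupOf.mp hs
  refine ⟨⟨K, hKN, hKidx, ?_, ?_⟩, ?_, card_invol_classes_eq_two S D hzy,
    card_four_classes_eq_one S D hqs⟩
  · intro P
    obtain ⟨e⟩ := sylow_iso S K hKidx hSK P
    obtain ⟨e2⟩ := D.Mq_quaternion
    exact ⟨D.n - 2, by have := D.hn; omega, ⟨e.trans ((MulEquiv.subgroupCongr hKS).trans e2)⟩⟩
  · intro H hH
    apply false_of_inf_le K H S hKidx hSK hH
    have hQ'e : Nonempty (Q.subgroupOf S ≃* QuaternionGroup 2) :=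
      ⟨(Subgroup.subgroupOfEquivOfLe hQS).trans eQ⟩
    obtain ⟨j₀, hj₀⟩ := D.quat_form (Q.subgroupOf S) hQ'e
    -- `g ∈ K`
    have hgK : g ∈ K := by
      obtain ⟨m, hm⟩ := hodd
      have h1 : g = (g ^ 2) ^ (m + 1) := by
        rw [← pow_mul, show 2 * (m + 1) = orderOf g + 1 by omega, pow_succ, pow_orderOf_eq_one,
          one_mul]
      rw [h1]
      exact K.pow_mem (Subgroup.sq_mem_of_index_two hKidx g) _
    -- `Q ≤ K`
    have hQK : Q ≤ K := by
      intro q hq
      have h1 : (⟨q, hQS hq⟩ : (S : Subgroup G)) ∈ Q.subgroupOf S := Subgroup.mem_subgroupOf.mpr hq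
      rw [hj₀] at h1
      apply hMqK ⟨q, hQS hq⟩
      rcases h1 with ⟨c, hc, h⟩ | ⟨c, hc, h⟩
      · obtain ⟨c', rfl⟩ := (two_pow_mul_eq_zero_iff D.hn2 c).mp hc
        rw [h, D.r_mem_Mq]
        refine ⟨2 ^ (D.n - 3) * c', ?_⟩
        have : D.n - 2 = (D.n - 3) + 1 := by have := D.hn; omega
        rw [this, pow_succ]; ring
      · obtain ⟨c', rfl⟩ := (two_pow_mul_eq_zero_iff D.hn2 c).mp hc
        rw [h, D.sr_mem_Mq]
        refine ⟨j₀ + 2 ^ (D.n - 3) * c', ?_⟩
        have : D.n - 2 = (D.n - 3) + 1 := by have := D.hn; omega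
        rw [this, pow_succ]; ring
    have hxQ : ((D.sr (2 * j₀ + 1) : (S : Subgroup G)) : G) ∈ Q := by
      have : D.sr (2 * j₀ + 1) ∈ Q.subgroupOf S := by rw [hj₀]; exact D.sr_self_mem_sub
      exact Subgroup.mem_subgroupOf.mp this
    -- all `sr (2j+1)` lie in `H`
    have hsr : ∀ j : ZMod (2 ^ D.n),
        ((D.sr (2 * j + 1) : (S : Subgroup G)) : G) ∈ H.map K.subtype := by
      intro j
      obtain ⟨s, hs⟩ : ∃ s : G, s = ((D.r ((j - j₀) * (1 + qq D.n)) : (S : Subgroup G)) : G) :=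
        ⟨_, rfl⟩
      obtain ⟨Q₂, hQ₂⟩ : ∃ Q₂ : Subgroup G, Q₂ = Q.map (MulAut.conj s).toMonoidHom := ⟨_, rfl⟩
      have h1 : ∀ p ∈ Q, s * p * s⁻¹ ∈ Q₂ := by
        intro p hp; rw [hQ₂]; exact ⟨p, hp, rfl⟩
      have h2 : ∀ t ∈ Q₂, s⁻¹ * t * s ∈ Q := by
        intro t ht
        rw [hQ₂] at ht
        obtain ⟨p, hp, rfl⟩ := ht
        have : s⁻¹ * ((MulAut.conj s).toMonoidHom p) * s = p := by
          show s⁻¹ * (s * p * s⁻¹) * s = p
          group
        rw [this]; exact hp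
      have eQ₂ : Q₂ ≃* QuaternionGroup 2 := by
        rw [hQ₂]
        exact (Q.equivMapOfInjective _ (MulAut.conj s).injective).symm.trans eQ
      have hQ₂K : Q₂ ≤ K := by
        intro t ht
        rw [hQ₂] at ht
        obtain ⟨p, hp, rfl⟩ := ht
        exact hKN.conj_mem p (hQK hp) s
      have hg₂K : s * g * s⁻¹ ∈ K := hKN.conj_mem g hgK s
      have hg₂N := normalizer_conj Q Q₂ s g hgN h1 h2
      have hg₂C : s * g * s⁻¹ ∉ Subgroup.centralizer (Q₂ : Set G) := fun h =>
        hgC (centralizer_conj_back Q Q₂ s g h h1)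
      have hodd₂ : Odd (orderOf (s * g * s⁻¹)) := by rw [orderOf_conj']; exact hodd
      have hle := quat_le_map K H hH Q₂ eQ₂ hQ₂K _ hg₂K hg₂N hg₂C hodd₂
      apply hle
      have h3 := D.r_conj_sr_two (j - j₀) (2 * j₀ + 1)
      have e : (2 * j₀ + 1 + 2 * (j - j₀) : ZMod (2 ^ D.n)) = 2 * j + 1 := by ring
      rw [e] at h3
      have h4 := coe_conj S h3
      rw [← h4, ← hs]
      exact h1 _ hxQ
    have hMq : D.Mq ≤ (H.map K.subtype).subgroupOf (S : Subgroup G) := by
      apply D.Mq_le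
      · rw [Subgroup.mem_subgroupOf]
        have h1 := hsr (1 - qq D.n)
        have h2 := hsr 0
        have h3 := Subgroup.mul_mem _ h1 h2
        rw [← Subgroup.coe_mul, D.sr_mul_sr] at h3
        have e : (2 * (1 - qq D.n) + 1 + D.k * (2 * 0 + 1) : ZMod (2 ^ D.n)) = 2 := by
          unfold QDData.k
          have := two_mul_qq D.hn2
          linear_combination -this
        rw [e] at h3
        exact h3
      · rw [Subgroup.mem_subgroupOf]
        have h2 := hsr 0
        rw [mul_zero, zero_add] at h2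
        exact h2
    rintro g' ⟨hgS, hgK'⟩
    have h1 : (⟨g', hgS⟩ : (S : Subgroup G)) ∈ K.subgroupOf (S : Subgroup G) :=
      Subgroup.mem_subgroupOf.mpr hgK'
    rw [hKS] at h1
    exact Subgroup.mem_subgroupOf.mp (hMq h1)
  · -- weak closure of the centre
    have hW : (Subgroup.center (S : Subgroup G)).map (S : Subgroup G).subtype =
        Subgroup.zpowers ((D.z : (S : Subgroup G)) : G) := by
      rw [D.center_eq, MonoidHom.map_zpowers]; rfl
    rw [hW]
    refine ⟨?_, ?_⟩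
    · rw [Subgroup.zpowers_le]; exact (D.z).2
    · intro c hc
      rw [map_conj_zpowers] at hc ⊢
      have hcS : c * ((D.z : (S : Subgroup G)) : G) * c⁻¹ ∈ (S : Subgroup G) :=
        hc (Subgroup.mem_zpowers _)
      have hord : orderOf (⟨_, hcS⟩ : (S : Subgroup G)) = 2 := by
        rw [Subgroup.orderOf_mk, orderOf_conj', orderOf_z S D]
      rcases (D.invol_iff _).mp hord with h | ⟨j, h⟩
      · have h3 : c * ((D.z : (S : Subgroup G)) : G) * c⁻¹ = ((D.z : (S : Subgroup G)) : G) :=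
          congrArg Subtype.val h
        rw [h3]
      · exfalso
        apply hzy
        have h3 : c * ((D.z : (S : Subgroup G)) : G) * c⁻¹ =
            ((D.sr (2 * j) : (S : Subgroup G)) : G) := congrArg Subtype.val h
        obtain ⟨c₁, hc₁⟩ := sr_even_conj S D j
        exact (isConj_iff.mpr ⟨c, h3⟩).trans (isConj_coe S c₁ hc₁)

end Cfsg.Agent.S1205
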