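import Mathlib
import Cfsg.Statements.S1206
import Cfsg.Agent.Helper16.QDFusion4
import Cfsg.Agent.Helper18.QD4

set_option autoImplicit false
open Cfsg

namespace Cfsg.Agent.S1206

open Cfsg.Agent.Helper18.QD Cfsg.Agent.Helper16.QDFusion

/-- Let G be a finite group with quasi-dihedral Sylow 2-subgroup S, T a Klein four-subgroup and Q a quaternion subgroup of order 8 of S, with |N_G(T) : C_G(T)| = 6 and |N_G(Q) : Q C_G(Q)| = 2. Then G has a normal subgroup K of index 2 whose Sylow 2-subgroups are dihedral and which has no subgroup of index 2, and G has exactly one class of involutions and two classes of elements of order 4. -/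
theorem result {G : Type*} [Group G] [Finite G] (S : Sylow 2 G) (hS : Cfsg.IsQuasiDihedral (S : Subgroup G)) (T : Subgroup G) (hT : IsKleinFour T) (hTS : T ≤ S) (Q : Subgroup G) (hQS : Q ≤ S) (eQ : Q ≃* QuaternionGroup 2) (h₁ : (Subgroup.centralizer (T : Set G)).relIndex (Subgroup.normalizer (T : Set G)) = 6) (h₂ : (Q ⊔ Subgroup.centralizer (Q : Set G)).relIndex (Subgroup.normalizer (Q : Set G)) = 2) : (∃ K : Subgroup G, K.Normal ∧ K.index = 2 ∧ (∀ P : Sylow 2 ↥K, ∃ m : ℕ, Nonempty ((P : Subgroup ↥K) ≃* DihedralGroup m)) ∧ (∀ H : Subgroup ↥K, H.index ≠ 2)) ∧ Nat.card {C : ConjClasses G // ∃ t : G, orderOf t = 2 ∧ ConjClasses.mk t = C} = 1 ∧ Nat.card {C : ConjClasses G // ∃ t : G, orderOf t = 4 ∧ ConjClasses.mk t = C} = 2 := by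
  obtain ⟨D⟩ := exists_qdData hS
  have hzy : IsConj ((D.z : (S : Subgroup G)) : G) ((D.y : (S : Subgroup G)) : G) := by
    obtain ⟨g, hgN, hgC, hodd⟩ := exists_odd_not_mem (Subgroup.centralizer (T : Set G))
      (Subgroup.normalizer (T : Set G)) (by rw [h₁]; norm_num)
    rw [isConj_iff]
    exact klein_fusion S D T hT hTS g hgN hgC hodd
  have hqs := quat_not_fused S D Q hQS eQ h₂
  obtain ⟨K, hKN, hKidx, hKS⟩ := exists_kernel_Md S D hzy hqs
  have hxK : ((D.sr 1 : (S : Subgroup G)) : G) ∉ K := by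
    intro h
    have h1 : D.sr 1 ∈ K.subgroupOf (S : Subgroup G) := Subgroup.mem_subgroupOf.mpr h
    rw [hKS, D.sr_mem_Md] at h1
    obtain ⟨j', hj'⟩ := h1
    exact D.not_odd_even j' ⟨0, by rw [hj']; ring⟩
  have hSK : ¬ (S : Subgroup G) ≤ K := fun h => hxK (h (D.sr 1).2)
  have hMdK : ∀ s : (S : Subgroup G), s ∈ D.Md → (s : G) ∈ K := by
    intro s hs
    rw [← hKS] at hs
    exact Subgroup.mem_subgroupOf.mp hs
  refine ⟨⟨K, hKN, hKidx, ?_, ?_⟩, card_invol_classes_eq_one S D hzy,
    card_four_classes_eq_two S D hqs⟩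
  · intro P
    obtain ⟨e⟩ := sylow_iso S K hKidx hSK P
    obtain ⟨e2⟩ := D.Md_dihedral
    exact ⟨2 ^ (D.n - 1), ⟨e.trans ((MulEquiv.subgroupCongr hKS).trans e2)⟩⟩
  · intro H hH
    have hHN : H.Normal := Subgroup.normal_of_index_eq_two hH
    apply false_of_inf_le K H S hKidx hSK hH
    -- `z ∈ H`
    have hzH : ((D.z : (S : Subgroup G)) : G) ∈ H.map K.subtype := by
      have h1 : ((D.r (qq D.n) : (S : Subgroup G)) : G) ∈ K := by
        apply hMdK
        rw [D.r_mem_Md]
        refine ⟨2 ^ (D.n - 3), ?_⟩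
        unfold qq
        have : D.n - 2 = (D.n - 3) + 1 := by have := D.hn; omega
        rw [this, pow_succ]; ring
      have h2 := sq_mem_map K H hH h1
      have h3 : D.r (qq D.n) ^ 2 = D.z := by
        rw [D.r_sq, two_mul_qq D.hn2]; rfl
      rw [← Subgroup.coe_pow, h3] at h2
      exact h2
    -- all involutions of `S` lie in `H`
    have hinv : ∀ t : (S : Subgroup G), orderOf t = 2 → (t : G) ∈ H.map K.subtype := by
      intro t ht
      have h1 : IsConj ((D.z : (S : Subgroup G)) : G) (t : G) := by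
        have h2 : orderOf (t : G) = 2 := by rw [Subgroup.orderOf_coe]; exact ht
        rcases invol_conj S D (t : G) h2 with h | h
        · exact h.symm
        · exact hzy.trans h.symm
      obtain ⟨c, hc⟩ := isConj_iff.mp h1
      by_cases hcK : c ∈ K
      · rw [← hc]; exact conj_mem_map K H hcK hzH
      · have hc' : c * ((D.sr 1 : (S : Subgroup G)) : G) ∈ K := by
          rw [Subgroup.mul_mem_iff_of_index_two hKidx]
          exact ⟨fun h => absurd h hcK, fun h => absurd h hxK⟩
        have h3 := conj_mem_map K H hc' hzH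
        have e : c * ((D.sr 1 : (S : Subgroup G)) : G) * ((D.z : (S : Subgroup G)) : G) *
            (c * ((D.sr 1 : (S : Subgroup G)) : G))⁻¹ = t := by
          rw [← hc]
          have h4 := z_comm S D _ (D.sr 1).2
          calc c * ((D.sr 1 : (S : Subgroup G)) : G) * ((D.z : (S : Subgroup G)) : G) *
              (c * ((D.sr 1 : (S : Subgroup G)) : G))⁻¹
              = c * (((D.sr 1 : (S : Subgroup G)) : G) * ((D.z : (S : Subgroup G)) : G)) *
                (((D.sr 1 : (S : Subgroup G)) : G))⁻¹ * c⁻¹ := by group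
            _ = c * ((D.z : (S : Subgroup G)) : G) * c⁻¹ := by rw [h4]; group
        rw [e] at h3
        exact h3
    have hMd : D.Md ≤ (H.map K.subtype).subgroupOf (S : Subgroup G) := by
      rw [← D.closure_invol_eq, Subgroup.closure_le]
      intro t ht
      exact Subgroup.mem_subgroupOf.mpr (hinv t ht)
    rintro g ⟨hgS, hgK⟩
    have h1 : (⟨g, hgS⟩ : (S : Subgroup G)) ∈ K.subgroupOf (S : Subgroup G) :=
      Subgroup.mem_subgroupOf.mpr hgK
    rw [hKS] at h1
    exact Subgroup.mem_subgroupOf.mp (hMd h1)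

end Cfsg.Agent.S1206
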