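import Mathlib
import Cfsg.Statements.S1209
import Cfsg.Agent.Helper16.WrFusion
-- import your own Cfsg.Agent.* helpers here

set_option autoImplicit false
open Cfsg

namespace Cfsg.Agent.S1209

open Cfsg.Agent.Helper16.WrFusion Cfsg.Agent.Helper18.Wr Cfsg.Agent.Helper18.QD in
/-- Let G be a finite group whose Sylow 2-subgroup S is wreathed of order 2^(2n+1), U the commutative subgroup of index 2 in S, Q a quaternion subgroup of order 8 of S and V = Q Z(S). If |N_G(U) : C_G(U)| = 6 and |N_G(V) : V C_G(V)| = 6, then G has no subgroup of index 2 and exactly one conjugacy class of involutions. -/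
theorem result {G : Type*} [Group G] [Finite G] (S : Sylow 2 G) (hS : Cfsg.IsWreathed (S : Subgroup G)) (n : ℕ) (hn : Nat.card S = 2 ^ (2 * n + 1)) (U : Subgroup G) (hUS : U ≤ S) (hUab : IsMulCommutative U) (hUcard : Nat.card U = 2 ^ (2 * n)) (Q : Subgroup G) (hQS : Q ≤ S) (eQ : Q ≃* QuaternionGroup 2) (h₁ : (Subgroup.centralizer (U : Set G)).relIndex (Subgroup.normalizer (U : Set G)) = 6) (h₂ : ((Q ⊔ ((Subgroup.center (S : Subgroup G)).map (S : Subgroup G).subtype)) ⊔ Subgroup.centralizer ((Q ⊔ ((Subgroup.center (S : Subgroup G)).map (S : Subgroup G).subtype) : Subgroup G) : Set G)).relIndex (Subgroup.normalizer ((Q ⊔ ((Subgroup.center (S : Subgroup G)).map (S : Subgroup G).subtype) : Subgroup G) : Set G)) = 6) : (∀ H : Subgroup G, H.index ≠ 2) ∧ Nat.card {C : ConjClasses G // ∃ t : G, orderOf t = 2 ∧ ConjClasses.mk t = C} = 1 := by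
  obtain ⟨D⟩ := exists_wrData hS
  have hnD : n = D.n := D.n_eq hn
  subst hnD
  -- `U` is the abelian subgroup of index 2
  have hU' : U.subgroupOf (S : Subgroup G) = D.U := by
    apply D.abelian_unique
    · have e := Subgroup.subgroupOfEquivOfLe hUS
      refine ⟨⟨fun a b => ?_⟩⟩
      apply e.injective
      rw [map_mul, map_mul]
      exact hUab.is_comm.comm _ _
    · rw [Nat.card_congr (Subgroup.subgroupOfEquivOfLe hUS).toEquiv, hUcard]
  have hU : ∀ x, x ∈ U ↔ ∃ a b, x = uG S D a b := by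
    intro x
    constructor
    · intro hx
      have h1 : (⟨x, hUS hx⟩ : (S : Subgroup G)) ∈ U.subgroupOf (S : Subgroup G) :=
        Subgroup.mem_subgroupOf.mpr hx
      rw [hU'] at h1
      obtain ⟨a, b, hab⟩ := h1
      exact ⟨a, b, congrArg Subtype.val hab⟩
    · rintro ⟨a, b, rfl⟩
      have h1 : D.u a b ∈ U.subgroupOf (S : Subgroup G) := by rw [hU']; exact D.u_mem_U a b
      exact Subgroup.mem_subgroupOf.mp h1
  obtain ⟨g, hgN, hg⟩ := fusion_U S D U hU (by rw [h₁]; norm_num)
  obtain ⟨p, hw, ht, hV⟩ := V_struct S D Q hQS eQ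
  have htz := fusion_V S D _ p hw ht
    (fun c => Subgroup.mem_sup_right ((mem_Zc S D _).mpr ⟨c, rfl⟩)) hV (by rw [h₂]; norm_num)
  have hζt : IsConj (uG S D (hh D.n) (hh D.n)) (uG S D (hh D.n) 0) := by
    rcases hg with h | h
    · rw [isConj_iff]; exact ⟨g, h⟩
    · have h1 : IsConj (uG S D (hh D.n) (hh D.n)) (uG S D 0 (hh D.n)) := by
        rw [isConj_iff]; exact ⟨g, h⟩
      exact h1.trans (isConj_t_t' S D).symm
  refine ⟨no_index_two S D g ?_ hg htz, card_invol_classes_eq_one S D hζt htz⟩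
  intro a b
  exact (hU _).mp (Cfsg.Agent.Helper16.QDFusion.conj_mem_of_mem_normalizer hgN ((hU _).mpr ⟨a, b, rfl⟩))

end Cfsg.Agent.S1209
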