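import Mathlib
import Cfsg.Statements.S1210
import Cfsg.Agent.Helper16.WrAG5
-- import your own Cfsg.Agent.* helpers here

set_option autoImplicit false
open Cfsg

namespace Cfsg.Agent.S1210

open Cfsg.Agent.Helper18.Wr Cfsg.Agent.Helper16.WrFusion Cfsg.Agent.Helper16.WrIndices
  Cfsg.Agent.Helper16.WrAG

/-- Let G be a finite group whose Sylow 2-subgroup S is wreathed of order 2^(2n+1), U the commutative subgroup of index 2 in S, Q a quaternion subgroup of order 8 of S and V = Q Z(S). If |N_G(U) : C_G(U)| = 2 and |N_G(V) : V C_G(V)| = 6, then G has a normal subgroup K of index 2^n whose Sylow 2-subgroups are generalized quaternion and which has no subgroup of index 2; every subgroup of Z(S) is weakly closed in S; and G has exactly two classes of involutions. -/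
theorem result {G : Type*} [Group G] [Finite G] (S : Sylow 2 G) (hS : Cfsg.IsWreathed (S : Subgroup G)) (n : ℕ) (hn : Nat.card S = 2 ^ (2 * n + 1)) (U : Subgroup G) (hUS : U ≤ S) (hUab : IsMulCommutative U) (hUcard : Nat.card U = 2 ^ (2 * n)) (Q : Subgroup G) (hQS : Q ≤ S) (eQ : Q ≃* QuaternionGroup 2) (h₁ : (Subgroup.centralizer (U : Set G)).relIndex (Subgroup.normalizer (U : Set G)) = 2) (h₂ : ((Q ⊔ ((Subgroup.center (S : Subgroup G)).map (S : Subgroup G).subtype)) ⊔ Subgroup.centralizer ((Q ⊔ ((Subgroup.center (S : Subgroup G)).map (S : Subgroup G).subtype) : Subgroup G) : Set G)).relIndex (Subgroup.normalizer ((Q ⊔ ((Subgroup.center (S : Subgroup G)).map (S : Subgroup G).subtype) : Subgroup G) : Set G)) = 6) : (∃ K : Subgroup G, K.Normal ∧ K.index = 2 ^ n ∧ (∀ P : Sylow 2 ↥K, ∃ m : ℕ, 1 ≤ m ∧ Nonempty ((P : Subgroup ↥K) ≃* QuaternionGroup (2 ^ m))) ∧ (∀ H : Subgroup ↥K, H.index ≠ 2)) ∧ (∀ Z₀ : Subgroup G, Z₀ ≤ ((Subgroup.center (S : Subgroup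 G)).map (S : Subgroup G).subtype) → Cfsg.IsWeaklyClosed Z₀ (S : Subgroup G)) ∧ Nat.card {C : ConjClasses G // ∃ t : G, orderOf t = 2 ∧ ConjClasses.mk t = C} = 2 := by
  obtain ⟨D⟩ := exists_wrData hS
  have hnD : n = D.n := D.n_eq hn
  subst hnD
  -- `U` is the abelian subgroup of index 2
  have hU' : U.subgroupOf (S : Subgroup G) = D.U := by
    apply D.abelian_unique
    · have e := Subgroup.subgroupOfEquivOfLe hUS
      refine ⟨⟨fun a b => ?_⟩⟩
      apply e.injective
      rw [map_mul, map_mul]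
      exact hUab.is_comm.comm _ _
    · rw [Nat.card_congr (Subgroup.subgroupOfEquivOfLe hUS).toEquiv, hUcard]
  have hU : ∀ x, x ∈ U ↔ ∃ a b, x = uG S D a b := by
    intro x
    constructor
    · intro hx
      have h1 : (⟨x, hUS hx⟩ : (S : Subgroup G)) ∈ U.subgroupOf (S : Subgroup G) :=
        Subgroup.mem_subgroupOf.mpr hx
      rw [hU'] at h1
      obtain ⟨a, b, hab⟩ := h1
      exact ⟨a, b, congrArg Subtype.val hab⟩
    · rintro ⟨a, b, rfl⟩
      have h1 : D.u a b ∈ U.subgroupOf (S : Subgroup G) := by rw [hU']; exact D.u_mem_U a b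
      exact Subgroup.mem_subgroupOf.mp h1
  obtain ⟨p, hw, ht, hV⟩ := V_struct S D Q hQS eQ
  have hVeq : Q ⊔ (Subgroup.center (S : Subgroup G)).map (S : Subgroup G).subtype = VW S D p :=
    le_antisymm hV (VW_le S D p _ hw ht
      (fun c => Subgroup.mem_sup_right ((mem_Zc S D _).mpr ⟨c, rfl⟩)))
  rw [hVeq] at h₂
  have h6 : ∀ p' : ZMod (2 ^ D.n),
      (VW S D p' ⊔ Subgroup.centralizer ((VW S D p' : Subgroup G) : Set G)).relIndex
        (Subgroup.normalizer ((VW S D p' : Subgroup G) : Set G)) = 6 := by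
    intro p'
    rw [relIndex_VW_eq S D p' p]; exact h₂
  have hinv := qg_invariant S D U hU h₁
  have hiso := zc_isolated S D U hU h₁
  obtain ⟨K, hKN, hKidx, hKS, hKodd⟩ := exists_K_quat S D hinv
  refine ⟨⟨K, hKN, hKidx, ?_, ?_⟩, ?_, ?_⟩
  · intro P
    refine ⟨D.n - 1, by have := D.hn; omega, ?_⟩
    obtain ⟨e1⟩ := sylow_iso_normal S K P
    have e2 : ((S : Subgroup G) ⊓ K : Subgroup G) ≃* QgG S D :=
      MulEquiv.subgroupCongr (by rw [inf_comm]; exact hKS)
    have e3 : D.Qg ≃* QgG S D :=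
      D.Qg.equivMapOfInjective _ (Subgroup.subtype_injective _)
    obtain ⟨e4⟩ := D.Qg_equiv
    exact ⟨e1.trans (e2.trans (e3.symm.trans e4))⟩
  · exact no_index_two_K S D K hKS hKodd h6
  · intro Z₀ hZ₀
    refine ⟨hZ₀.trans (Subgroup.map_subtype_le _), ?_⟩
    intro g hg
    have hfix : ∀ z₀ ∈ Z₀, g * z₀ * g⁻¹ = z₀ := by
      intro z₀ hz₀
      obtain ⟨c, hc⟩ := (mem_Zc S D z₀).mp (hZ₀ hz₀)
      have h1 : g * z₀ * g⁻¹ ∈ (S : Subgroup G) := hg ⟨z₀, hz₀, rfl⟩
      have h2 := hiso c g⁻¹ (by rw [inv_inv, ← hc]; exact h1)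
      rw [inv_inv, ← hc] at h2
      exact h2
    ext y
    constructor
    · rintro ⟨z₀, hz₀, rfl⟩
      show g * z₀ * g⁻¹ ∈ Z₀
      rw [hfix z₀ hz₀]; exact hz₀
    · intro hy
      exact ⟨y, hy, hfix y hy⟩
  · apply card_invol_classes_eq_two' S D
    · exact fusion_V S D _ p (w_mem_VW S D p) (t_mem_VW S D p) (c_mem_VW S D p) le_rfl
        (by rw [h₂]; norm_num)
    · intro g hg
      exact hiso _ g hg

end Cfsg.Agent.S1210
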