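import Mathlib
import Cfsg.Statements.S1212
import Cfsg.Agent.Helper16.WrAG2
-- import your own Cfsg.Agent.* helpers here

set_option autoImplicit false
open Cfsg

namespace Cfsg.Agent.S1212

open Cfsg.Agent.Helper18.Wr Cfsg.Agent.Helper16.WrFusion Cfsg.Agent.Helper16.WrIndices
  Cfsg.Agent.Helper16.WrAG

/-- Let G be a finite group whose Sylow 2-subgroup S is wreathed of order 2^(2n+1), U the commutative subgroup of index 2 in S, Q a quaternion subgroup of order 8 of S and V = Q Z(S). If |N_G(U) : C_G(U)| = 2 and |N_G(V) : V C_G(V)| = 2, then G has a normal 2-complement and exactly three conjugacy classes of involutions. -/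
theorem result {G : Type*} [Group G] [Finite G] (S : Sylow 2 G) (hS : Cfsg.IsWreathed (S : Subgroup G)) (n : ℕ) (hn : Nat.card S = 2 ^ (2 * n + 1)) (U : Subgroup G) (hUS : U ≤ S) (hUab : IsMulCommutative U) (hUcard : Nat.card U = 2 ^ (2 * n)) (Q : Subgroup G) (hQS : Q ≤ S) (eQ : Q ≃* QuaternionGroup 2) (h₁ : (Subgroup.centralizer (U : Set G)).relIndex (Subgroup.normalizer (U : Set G)) = 2) (h₂ : ((Q ⊔ ((Subgroup.center (S : Subgroup G)).map (S : Subgroup G).subtype)) ⊔ Subgroup.centralizer ((Q ⊔ ((Subgroup.center (S : Subgroup G)).map (S : Subgroup G).subtype) : Subgroup G) : Set G)).relIndex (Subgroup.normalizer ((Q ⊔ ((Subgroup.center (S : Subgroup G)).map (S : Subgroup G).subtype) : Subgroup G) : Set G)) = 2) : Cfsg.HasNormalPComplement 2 G ∧ Nat.card {C : ConjClasses G // ∃ t : G, orderOf t = 2 ∧ ConjClasses.mk t = C} = 3 := by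
  obtain ⟨D⟩ := exists_wrData hS
  have hnD : n = D.n := D.n_eq hn
  subst hnD
  -- `U` is the abelian subgroup of index 2
  have hU' : U.subgroupOf (S : Subgroup G) = D.U := by
    apply D.abelian_unique
    · have e := Subgroup.subgroupOfEquivOfLe hUS
      refine ⟨⟨fun a b => ?_⟩⟩
      apply e.injective
      rw [map_mul, map_mul]
      exact hUab.is_comm.comm _ _
    · rw [Nat.card_congr (Subgroup.subgroupOfEquivOfLe hUS).toEquiv, hUcard]
  have hU : ∀ x, x ∈ U ↔ ∃ a b, x = uG S D a b := by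
    intro x
    constructor
    · intro hx
      have h1 : (⟨x, hUS hx⟩ : (S : Subgroup G)) ∈ U.subgroupOf (S : Subgroup G) :=
        Subgroup.mem_subgroupOf.mpr hx
      rw [hU'] at h1
      obtain ⟨a, b, hab⟩ := h1
      exact ⟨a, b, congrArg Subtype.val hab⟩
    · rintro ⟨a, b, rfl⟩
      have h1 : D.u a b ∈ U.subgroupOf (S : Subgroup G) := by rw [hU']; exact D.u_mem_U a b
      exact Subgroup.mem_subgroupOf.mp h1
  obtain ⟨p, hw, ht, hV⟩ := V_struct S D Q hQS eQ
  have hVeq : Q ⊔ (Subgroup.center (S : Subgroup G)).map (S : Subgroup G).subtype = VW S D p :=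
    le_antisymm hV (VW_le S D p _ hw ht
      (fun c => Subgroup.mem_sup_right ((mem_Zc S D _).mpr ⟨c, rfl⟩)))
  rw [hVeq] at h₂
  have hall := all_sconj S D U hU p h₁ h₂
  have hfus := controlsFusion_of_sconj S hall
  refine ⟨?_, card_invol_classes_eq_three S D hfus⟩
  obtain ⟨N, hN, hNc⟩ := Cfsg.Agent.Helper9.exists_normal_complement_of_controlsFusion
    (Nat.card G) G 2 S rfl hfus
  exact ⟨S, N, hN, hNc⟩

end Cfsg.Agent.S1212
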