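import Cfsg.Statements.S0095
import Mathlib
import Cfsg.Agent.Helper9.HomCount
import Cfsg.Agent.Helper23.PGroup
import Cfsg.Agent.Helper17.Basic

set_option autoImplicit false
open Cfsg

namespace Cfsg.Agent.S0095
open scoped Pointwise commutatorElement

/-- The order of an extraspecial p-group is an odd power p^(2n+1) of p with n ≥ 1. -/
theorem result {P : Type*} [Group P] [Finite P] {p : ℕ} [Fact p.Prime] (h : Cfsg.IsExtraspecial p P) : ∃ n : ℕ, 1 ≤ n ∧ Nat.card P = p ^ (2 * n + 1) := by
  obtain ⟨⟨hP, hΦ, hcomm⟩, hZ⟩ := h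
  have hp : p.Prime := Fact.out
  obtain ⟨M, hMn, hMc, hCM⟩ := Cfsg.Agent.Helper23.exists_normal_abelian_centralizer_le hP
  have hMeq : Subgroup.centralizer (M : Set P) = M :=
    le_antisymm hCM (Subgroup.le_centralizer_iff_isMulCommutative.mpr hMc)
  have hZM : Subgroup.center P ≤ M := by
    rw [← hMeq]; exact Subgroup.center_le_centralizer _
  have key := Cfsg.Agent.Helper9.relIndex_centralizer_eq (Subgroup.center P) ⊤ M hZ
    (fun x _ z hz => (Subgroup.mem_center_iff.mp hz x).symm)
    (fun x _ z hz => (Subgroup.mem_center_iff.mp hz x).symm)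
    (fun a _ b _ => by
      rw [← hcomm, commutator_def]
      exact Subgroup.commutator_mem_commutator (Subgroup.mem_top _) (Subgroup.mem_top _))
  rw [hMeq, Subgroup.relIndex_top_right, Subgroup.coe_top, Subgroup.centralizer_univ] at key
  have h1 := Cfsg.Agent.Helper17.relIndex_mul_card_inf (Subgroup.center P) M
  rw [inf_eq_left.mpr hZM, hZ, ← key] at h1
  have h2 := Subgroup.card_mul_index M
  obtain ⟨k, hk⟩ := IsPGroup.iff_card.mp (hP.to_subgroup M)
  rw [hk] at h1 h2
  have hk0 : k ≠ 0 := by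
    rintro rfl
    rw [pow_zero] at h1
    have := hp.two_le
    have : p ∣ 1 := Dvd.intro_left _ h1
    have := Nat.le_of_dvd one_pos this
    omega
  obtain ⟨j, rfl⟩ : ∃ j, k = j + 1 := ⟨k - 1, by omega⟩
  have h3 : M.index = p ^ j := by
    rw [pow_succ] at h1
    exact Nat.eq_of_mul_eq_mul_right hp.pos h1
  have hj0 : j ≠ 0 := by
    rintro rfl
    rw [pow_zero, Subgroup.index_eq_one] at h3
    rw [h3, Subgroup.coe_top, Subgroup.centralizer_univ] at hMeq
    have hbot : commutator P = ⊥ := (commutator_eq_bot_iff_center_eq_top (G := P)).mpr hMeq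
    rw [hcomm] at hbot
    rw [hbot, Subgroup.card_bot] at hZ
    have := hp.two_le
    omega
  refine ⟨j, by omega, ?_⟩
  rw [← h2, h3, ← pow_add]
  congr 1
  ring

end Cfsg.Agent.S0095
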