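import Mathlib
import Cfsg.Statements.S4416
import Cfsg.Agent.S0095
import Cfsg.Agent.Helper1.PGroup
import Cfsg.Agent.Helper3.ES2Iso

set_option autoImplicit false
set_option linter.style.haveILetI false
open Cfsg

namespace Cfsg.Agent.S4416

open Cfsg.Agent.Helper3
open scoped commutatorElement

/-- an extraspecial 2-group in the sense of the Prelude satisfies the elementwise axioms -/
theorem exists_es2 (E : Type*) [Group E] [Finite E] (hE : Cfsg.IsExtraspecial 2 E) :
    ∃ z : E, ES2 E z := by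
  haveI : Fact (Nat.Prime 2) := ⟨Nat.prime_two⟩
  obtain ⟨⟨hP, hΦ, hcomm⟩, hZ⟩ := hE
  obtain ⟨zc, hzc1, hzuniq⟩ := (Nat.card_eq_two_iff' (1 : Subgroup.center E)).mp hZ
  have hcenter : ∀ g : E, g ∈ Subgroup.center E → g = 1 ∨ g = zc.1 := by
    intro g hg
    by_cases h1 : g = 1
    · exact Or.inl h1
    · right
      have := hzuniq ⟨g, hg⟩ (fun hh => h1 (congrArg Subtype.val hh))
      exact congrArg Subtype.val this
  have hzcentral : ∀ g : E, g * zc.1 = zc.1 * g := fun g => Subgroup.mem_center_iff.mp zc.2 g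
  refine ⟨zc.1, fun hh => hzc1 (Subtype.ext hh), hzcentral, ?_, ?_, ?_, ?_⟩
  · intro g hg
    exact hcenter g (Subgroup.mem_center_iff.mpr (fun k => (hg k).symm))
  · intro x
    have h1 : x ^ 2 ∈ frattini E := Cfsg.Agent.Helper1.IsPGroup.pow_mem_frattini hP x
    rw [hΦ] at h1
    exact hcenter _ h1
  · intro x y
    have h1 : ⁅x, y⁆ ∈ commutator E := by
      rw [commutator_def]
      exact Subgroup.commutator_mem_commutator (Subgroup.mem_top x) (Subgroup.mem_top y)
    rw [hcomm] at h1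
    rcases hcenter _ h1 with h2 | h2
    · left
      rw [commutatorElement_def] at h2
      calc x * y = (x * y * x⁻¹ * y⁻¹) * (y * x) := by group
        _ = y * x := by rw [h2, one_mul]
    · right
      rw [commutatorElement_def] at h2
      calc x * y = (x * y * x⁻¹ * y⁻¹) * (y * x) := by group
        _ = zc.1 * (y * x) := by rw [h2]
        _ = y * x * zc.1 := (hzcentral (y * x)).symm
  · by_contra hcon
    push Not at hcon
    have htop : Subgroup.center E = ⊤ := by
      rw [Subgroup.eq_top_iff']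
      intro g
      exact Subgroup.mem_center_iff.mpr (fun k => hcon k g)
    have hbot : commutator E = ⊥ := (commutator_eq_bot_iff_center_eq_top (G := E)).mpr htop
    rw [hcomm] at hbot
    rw [hbot, Subgroup.card_bot] at hZ
    omega

theorem result (E : Type*) [Group E] [Finite E] (hE : Cfsg.IsExtraspecial 2 E) :
    (∃ m : ℕ, 1 ≤ m ∧ Nat.card E = 2 ^ (2 * m + 1) ∧
      (Nat.card {x : E // x ^ 2 = 1} = 2 ^ (2 * m) + 2 ^ m ∨ Nat.card {x : E // x ^ 2 = 1} = 2 ^ (2 * m) - 2 ^ m)) ∧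
    ∀ (E' : Type*) [Group E'] [Finite E'], Cfsg.IsExtraspecial 2 E' → Nat.card E' = Nat.card E →
      Nat.card {x : E' // x ^ 2 = 1} = Nat.card {x : E // x ^ 2 = 1} → Nonempty (E ≃* E') := by
  haveI : Fact (Nat.Prime 2) := ⟨Nat.prime_two⟩
  obtain ⟨z, hz⟩ := exists_es2 E hE
  constructor
  · obtain ⟨m, hm1, hcard⟩ := Cfsg.Agent.S0095.result (p := 2) hE
    refine ⟨m, hm1, hcard, ?_⟩
    have hg := ES2.gauss hz
    rw [hcard] at hg
    set j := ES2.jj E with hj
    have hj' : Nat.card {x : E // x ^ 2 = 1} = j := rfl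
    rw [hj']
    set A : ℕ := 2 ^ m with hA
    have e1 : (2 : ℕ) ^ (2 * m + 1) = 2 * A ^ 2 := by rw [hA]; ring
    have e2 : (2 : ℕ) ^ (2 * m) = A ^ 2 := by rw [hA]; ring
    rw [e1] at hg
    rw [e2]
    have h3 : (2 * (j : ℤ) - ((2 * A ^ 2 : ℕ) : ℤ)) ^ 2 = (2 * (A : ℤ)) ^ 2 := by
      rw [hg]; push_cast; ring
    rcases sq_eq_sq_iff_eq_or_eq_neg.mp h3 with h4 | h4
    · left
      have h5 : (j : ℤ) = (A : ℤ) ^ 2 + A := by push_cast at h4; linarith
      exact_mod_cast h5
    · right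
      have h5 : (j : ℤ) + A = (A : ℤ) ^ 2 := by push_cast at h4; linarith
      have h6 : j + A = A ^ 2 := by exact_mod_cast h5
      omega
  · intro E' _ _ hE' hcard hjj
    obtain ⟨z', hz'⟩ := exists_es2 E' hE'
    exact ES2.nonempty_mulEquiv hz hz' hcard.symm hjj.symm

end Cfsg.Agent.S4416
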