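import Cfsg.Statements.S0696
import Mathlib
import Cfsg.Agent.Helper4.RegularNormal2

set_option autoImplicit false
open Cfsg

namespace Cfsg.Agent.S0696

/-- A triply primitive group of degree at least 3 having a regular normal subgroup has degree 3 or 4. -/
theorem result {G : Type*} [Group G] {X : Type*} [Fintype X] [MulAction G X] (hX : 3 ≤ Fintype.card X) (h3 : MulAction.IsMultiplyPreprimitive G X 3) (N : Subgroup G) [N.Normal] (htrans : MulAction.IsPretransitive N X) (hreg : ∀ x : X, MulAction.stabilizer N x = ⊥) : Fintype.card X = 3 ∨ Fintype.card X = 4 := by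
  classical
  have hcard3 : ((3 : ℕ) : ℕ∞) ≤ ENat.card X := by
    rw [ENat.card_eq_coe_fintype_card]
    exact_mod_cast hX
  have h2 : MulAction.IsMultiplyPreprimitive G X 2 :=
    MulAction.isMultiplyPreprimitive_of_le G X h3 (by norm_num) hcard3
  rcases Cfsg.Agent.Helper4.regular_normal_of_two_preprimitive N (by omega) h2 htrans hreg with
    h | ⟨_, hexp, m, hm⟩
  · exact Or.inl h
  right
  -- pick a point and a nontrivial element of N
  have hXne : Nonempty X := Fintype.card_pos_iff.mp (by omega)
  obtain ⟨a⟩ := hXne
  have hNX : Nat.card N = Fintype.card X := by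
    rw [← Nat.card_eq_fintype_card]
    exact Nat.card_congr (Cfsg.Agent.Helper4.regEquiv N htrans hreg a)
  have hNnt : Nontrivial N := by
    have : Finite N := Nat.finite_of_card_ne_zero (by omega)
    rw [← Finite.one_lt_card_iff_nontrivial]
    omega
  obtain ⟨n, hn1⟩ := exists_ne (1 : N)
  have hnn : (n : G) * (n : G) = 1 := by
    have := hexp n.1 n.2
    rwa [pow_two] at this
  have hfree : ∀ x : X, (n : G) • x ≠ x := by
    intro x hx
    have : n ∈ MulAction.stabilizer N x := by
      rw [MulAction.mem_stabilizer_iff]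
      exact hx
    rw [hreg x, Subgroup.mem_bot] at this
    exact hn1 this
  have hnnx : ∀ x : X, (n : G) • (n : G) • x = x := by
    intro x
    rw [← mul_smul, hnn, one_smul]
  set b : X := (n : G) • a with hb
  have hab : a ≠ b := fun h => hfree a h.symm
  set s : Set X := {a, b} with hs
  have hsen : s.encard + 1 = ((3 : ℕ) : ℕ∞) := by
    rw [hs, Set.encard_pair hab]
    norm_num
  have hprim := h3.isPreprimitive_ofFixingSubgroup (s := s) hsen
  -- the involution
  have hmem : ∀ x : X, x ∉ s → (n : G) • x ∉ s := by
    intro x hx hnx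
    rcases hnx with h | h
    · apply hx
      right
      rw [hb, ← h, hnnx]
      exact Set.mem_singleton _
    · apply hx
      left
      rw [hb] at h
      exact smul_left_cancel _ h
  let ι : SubMulAction.ofFixingSubgroup G s → SubMulAction.ofFixingSubgroup G s :=
    fun y => ⟨(n : G) • (y : X), by
      rw [SubMulAction.mem_ofFixingSubgroup_iff]
      exact hmem _ ((SubMulAction.mem_ofFixingSubgroup_iff G).mp y.2)⟩
  have hιval : ∀ y, ((ι y : SubMulAction.ofFixingSubgroup G s) : X) = (n : G) • (y : X) :=
    fun y => rfl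
  have hcomm : ∀ g : fixingSubgroup G s, (g : G) * (n : G) = (n : G) * (g : G) := by
    intro g
    have hga : (g : G) • a = a := by
      have := g.2
      rw [mem_fixingSubgroup_iff] at this
      exact this a (by rw [hs]; exact Set.mem_insert _ _)
    have hgb : (g : G) • b = b := by
      have := g.2
      rw [mem_fixingSubgroup_iff] at this
      exact this b (by rw [hs]; exact Set.mem_insert_of_mem _ rfl)
    have hconj : (g : G) * (n : G) * (g : G)⁻¹ ∈ N :=
      ‹N.Normal›.conj_mem _ n.2 _
    have hinv : (⟨(g : G) * (n : G) * (g : G)⁻¹, hconj⟩ : N)⁻¹ * n ∈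
        MulAction.stabilizer N a := by
      rw [MulAction.mem_stabilizer_iff]
      change (((g : G) * (n : G) * (g : G)⁻¹)⁻¹ * (n : G)) • a = a
      rw [mul_smul, ← hb, inv_smul_eq_iff, mul_smul, mul_smul]
      have : (g : G)⁻¹ • a = a := by rw [inv_smul_eq_iff, hga]
      rw [this, ← hb, hgb]
    rw [hreg a, Subgroup.mem_bot, inv_mul_eq_one] at hinv
    have h1 : (g : G) * (n : G) * (g : G)⁻¹ = (n : G) := congrArg Subtype.val hinv
    calc (g : G) * (n : G) = (g : G) * (n : G) * (g : G)⁻¹ * (g : G) := by group
      _ = (n : G) * (g : G) := by rw [h1]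
  have hιeq : ∀ (g : fixingSubgroup G s) (y : SubMulAction.ofFixingSubgroup G s),
      ι (g • y) = g • ι y := by
    intro g y
    apply Subtype.ext
    change (n : G) • ((g : G) • (y : X)) = (g : G) • ((n : G) • (y : X))
    rw [← mul_smul, ← mul_smul, hcomm g]
  have hιinv : ∀ y, ι (ι y) = y := by
    intro y
    apply Subtype.ext
    change (n : G) • ((n : G) • (y : X)) = (y : X)
    exact hnnx _
  -- the complement is nonempty
  have hcompl : ∃ c : X, c ∉ s := by
    by_contra hcon
    push Not at hcon
    have hsuniv : s = Set.univ := Set.eq_univ_of_forall hcon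
    have : Fintype.card X ≤ 2 := by
      rw [← Nat.card_eq_fintype_card, ← Set.ncard_univ, ← hsuniv, hs]
      exact (Set.ncard_insert_le _ _).trans (by rw [Set.ncard_singleton])
    omega
  obtain ⟨c, hc⟩ := hcompl
  let y0 : SubMulAction.ofFixingSubgroup G s :=
    ⟨c, (SubMulAction.mem_ofFixingSubgroup_iff G).mpr hc⟩
  have hy0 : ι y0 ≠ y0 := by
    intro h
    have := congrArg Subtype.val h
    exact hfree c this
  have hall := Cfsg.Agent.Helper4.eq_or_eq_of_equivariant_involution hprim ι hιeq hιinv y0 hy0
  -- so X = {a, b, c, n • c}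
  have hXsub : (Set.univ : Set X) ⊆ {a, b, c, (n : G) • c} := by
    intro x _
    by_cases hx : x ∈ s
    · rcases hx with h | h
      · simp [h]
      · simp [Set.mem_singleton_iff.mp h]
    · rcases hall ⟨x, (SubMulAction.mem_ofFixingSubgroup_iff G).mpr hx⟩ with h | h
      · have := congrArg Subtype.val h
        simp only at this
        simp [this, y0]
      · have := congrArg Subtype.val h
        simp only at this
        simp [this, y0, hιval]
  have hle : Fintype.card X ≤ 4 := by
    rw [← Nat.card_eq_fintype_card, ← Set.ncard_univ]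
    refine (Set.ncard_le_ncard hXsub (Set.toFinite _)).trans ?_
    refine (Set.ncard_insert_le _ _).trans ?_
    refine Nat.succ_le_succ ((Set.ncard_insert_le _ _).trans ?_)
    refine Nat.succ_le_succ ((Set.ncard_insert_le _ _).trans ?_)
    rw [Set.ncard_singleton]
  -- card is a power of two, at least 3, at most 4
  rcases m with _ | _ | _ | m
  · omega
  · omega
  · omega
  · have : 2 ^ (m + 3) ≥ 8 := by
      have : 2 ^ (m + 3) = 8 * 2 ^ m := by ring
      have h2m : 1 ≤ 2 ^ m := Nat.one_le_two_pow
      omega
    omega

end Cfsg.Agent.S0696
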