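import Cfsg.Statements.S0674
import Mathlib
import Cfsg.Agent.Helper4.BurnsidePrime

set_option autoImplicit false
open Cfsg

namespace Cfsg.Agent.S0674

/-- Let `G` be a non-solvable transitive permutation group of prime degree `p` and `K` a field of characteristic `p`. Then the heart of the permutation module is irreducible: an invariant subspace containing the constants and contained in the sum-zero functions is one or the other. -/
theorem result {α : Type*} [Fintype α] [DecidableEq α] {p : ℕ} [Fact p.Prime] (hα : Fintype.card α = p) (G : Subgroup (Equiv.Perm α)) [MulAction.IsPretransitive G α] (hG : ¬ Group.IsSolvable G) {K : Type*} [Field K] [CharP K p] (W : Subrepresentation (Cfsg.permRep K G α)) (h₁ : (Cfsg.permConstants K G α).toSubmodule ≤ W.toSubmodule) (h₂ : W.toSubmodule ≤ (Cfsg.permSumZero K G α).toSubmodule) : W = Cfsg.permConstants K G α ∨ W = Cfsg.permSumZero K G α := by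
  classical
  have hp : p.Prime := Fact.out
  haveI : Nonempty α := by
    rw [← Fintype.card_pos_iff, hα]
    exact hp.pos
  have hC : Module.finrank K (Cfsg.permConstants K G α).toSubmodule = 1 :=
    Cfsg.Agent.Helper4.BurnsidePrime.finrank_permConstants
  have hS : Module.finrank K (Cfsg.permSumZero K G α).toSubmodule + 1 = p := by
    rw [Cfsg.Agent.Helper4.BurnsidePrime.finrank_permSumZero, hα]
  have h1 := Submodule.finrank_mono h₁
  have h2 := Submodule.finrank_mono h₂
  rw [hC] at h1
  by_cases hr1 : Module.finrank K W.toSubmodule = 1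
  · left
    apply Subrepresentation.toSubmodule_injective
    symm
    apply Submodule.eq_of_le_of_finrank_le h₁
    rw [hC, hr1]
  by_cases hr2 : Module.finrank K W.toSubmodule + 1 = p
  · right
    apply Subrepresentation.toSubmodule_injective
    apply Submodule.eq_of_le_of_finrank_le h₂
    omega
  exfalso
  apply hG
  have hW : ∀ g ∈ G, ∀ f ∈ W.toSubmodule, (fun x => f (g x)) ∈ W.toSubmodule := by
    intro g hg f hf
    have h3 := W.apply_mem_toSubmodule (⟨g, hg⟩⁻¹ : G) hf
    have h4 : Cfsg.permRep K G α (⟨g, hg⟩⁻¹ : G) f = fun x => f (g x) := by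
      funext x
      rw [Cfsg.Agent.Helper4.permRep_apply, inv_inv]
      rfl
    rwa [h4] at h3
  apply Cfsg.Agent.Helper4.BurnsidePrime.isSolvable_of_invariant_subspace (K := K) hα G
    W.toSubmodule hW
  by_cases h5 : 2 * (Module.finrank K W.toSubmodule - 1) ≤ p - 1
  · left
    exact ⟨by omega, h5⟩
  · right
    constructor <;> omega

end Cfsg.Agent.S0674
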