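import Cfsg.Statements.S0671
import Mathlib
import Cfsg.Agent.Helper4.PermHeart

set_option autoImplicit false
open Cfsg

namespace Cfsg.Agent.S0671

/-- If the heart of the permutation module in characteristic `p` of a transitive action of degree `p ^ f` has no trivial composition factor, the action is doubly transitive. The hypothesis is phrased without composition series: no invariant subspaces `W < W'` between the constants and the sum-zero functions with trivial action on the quotient. -/
theorem result {G : Type*} [Group G] [Finite G] {K : Type*} [Field K] {p f : ℕ} [Fact p.Prime] [CharP K p] {Ω : Type*} [Fintype Ω] [MulAction G Ω] [MulAction.IsPretransitive G Ω] (hf : 1 ≤ f) (hcard : Fintype.card Ω = p ^ f) (h : ∀ W W' : Subrepresentation (Cfsg.permRep K G Ω), (Cfsg.permConstants K G Ω).toSubmodule ≤ W.toSubmodule → W.toSubmodule < W'.toSubmodule → W'.toSubmodule ≤ (Cfsg.permSumZero K G Ω).toSubmodule → ∃ g : G, ∃ v ∈ W'.toSubmodule, Cfsg.permRep K G Ω g v - v ∉ W.toSubmodule) : MulAction.IsMultiplyPretransitive G Ω 2 := by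
  classical
  rw [MulAction.is_two_pretransitive_iff]
  intro a b c d hab hcd
  -- the orbital matrix of (a, b)
  let A : Matrix Ω Ω K := fun x y => if ∃ g : G, g • a = x ∧ g • b = y then 1 else 0
  have hA : ∀ (g : G) (x y : Ω), A (g • x) (g • y) = A x y := by
    intro g x y
    have : (∃ k : G, k • a = g • x ∧ k • b = g • y) ↔ (∃ k : G, k • a = x ∧ k • b = y) := by
      constructor
      · rintro ⟨k, h1, h2⟩
        refine ⟨g⁻¹ * k, ?_, ?_⟩
        · rw [mul_smul, h1, inv_smul_smul]
        · rw [mul_smul, h2, inv_smul_smul]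
      · rintro ⟨k, h1, h2⟩
        refine ⟨g * k, ?_, ?_⟩
        · rw [mul_smul, h1]
        · rw [mul_smul, h2]
    simp only [A, this]
  have hθ : ∀ (g : G) (v : Ω → K), Matrix.toLin' A (Cfsg.permRep K G Ω g v) =
      Cfsg.permRep K G Ω g (Matrix.toLin' A v) := by
    intro g v
    funext x
    rw [Cfsg.Agent.Helper4.permRep_apply]
    simp only [Matrix.toLin'_apply, Matrix.mulVec, dotProduct, Cfsg.Agent.Helper4.permRep_apply]
    refine Fintype.sum_equiv (MulAction.toPerm g⁻¹) _ _ (fun y => ?_)
    simp only [MulAction.toPerm_apply]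
    rw [← hA g (g⁻¹ • x) (g⁻¹ • y), smul_inv_smul, smul_inv_smul]
  obtain ⟨c0, d0, hcd0⟩ := Cfsg.Agent.Helper4.equivariant_eq_of_heart hf hcard h
    (Matrix.toLin' A) hθ
  have hentry : ∀ x y, A x y = c0 * (if x = y then 1 else 0) + d0 := by
    intro x y
    have h1 := hcd0 (Pi.single y 1) x
    have h2 : ∑ z, (Pi.single y (1 : K) : Ω → K) z = 1 := by
      rw [Finset.sum_pi_single']
      simp
    rw [h2, mul_one] at h1
    simp only [Matrix.toLin'_apply, Matrix.mulVec_single_one, Matrix.col_apply,
      Pi.single_apply] at h1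
    exact h1
  have hab1 : A a b = 1 := by
    simp only [A]
    rw [if_pos ⟨1, one_smul _ _, one_smul _ _⟩]
  have hd0 : d0 = 1 := by
    have := hentry a b
    rw [hab1, if_neg hab, mul_zero, zero_add] at this
    exact this.symm
  have hcd1 : A c d = 1 := by
    rw [hentry c d, if_neg hcd, mul_zero, zero_add, hd0]
  by_contra hnot
  simp only [A] at hcd1
  rw [if_neg hnot] at hcd1
  exact zero_ne_one hcd1

end Cfsg.Agent.S0671
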