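import Cfsg.Statements.S0675
import Mathlib
import Cfsg.Agent.Helper4.BurnsidePrime
import Cfsg.Agent.S0671
import Cfsg.Agent.S0674

set_option autoImplicit false
open Cfsg

namespace Cfsg.Agent.S0675

/-- Burnside's Theorem on permutation groups of prime degree: a transitive permutation group of prime degree that is not solvable is doubly transitive. -/
theorem result {α : Type*} [Fintype α] [DecidableEq α] (hα : (Fintype.card α).Prime) (G : Subgroup (Equiv.Perm α)) [MulAction.IsPretransitive G α] : Group.IsSolvable G ∨ MulAction.IsMultiplyPretransitive G α 2 := by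
  classical
  by_cases hsolv : Group.IsSolvable G
  · exact Or.inl hsolv
  set p := Fintype.card α with hp_def
  haveI : Fact p.Prime := ⟨hα⟩
  have hαp : Fintype.card α = p := rfl
  haveI : Nonempty α := by
    rw [← Fintype.card_pos_iff]
    exact hα.pos
  -- the case p = 2
  by_cases hp2 : p = 2
  · exfalso
    apply hsolv
    haveI : Fact (Nat.Prime 2) := ⟨Nat.prime_two⟩
    have h1 : Nat.card G ∣ 2 := by
      have h2 := Subgroup.card_subgroup_dvd_card G
      rw [Nat.card_perm, Nat.card_eq_fintype_card (α := α), hαp, hp2] at h2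
      exact h2
    have hPG : IsPGroup 2 G := by
      rcases (Nat.dvd_prime Nat.prime_two).mp h1 with h | h
      · exact IsPGroup.of_card (n := 0) (by rw [h, pow_zero])
      · exact IsPGroup.of_card (n := 1) (by rw [h, pow_one])
    haveI := hPG.isNilpotent
    infer_instance
  -- the case p = 3
  by_cases hp3 : p = 3
  · exfalso
    apply hsolv
    have hS : Module.finrank (ZMod p) (Cfsg.permSumZero (ZMod p) G α).toSubmodule + 1 = p := by
      rw [Cfsg.Agent.Helper4.BurnsidePrime.finrank_permSumZero]
    apply Cfsg.Agent.Helper4.BurnsidePrime.isSolvable_of_invariant_subspace (K := ZMod p) hαp G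
      (Cfsg.permSumZero (ZMod p) G α).toSubmodule
    · intro g hg f hf
      have h3 := (Cfsg.permSumZero (ZMod p) G α).apply_mem_toSubmodule (⟨g, hg⟩⁻¹ : G) hf
      have h4 : Cfsg.permRep (ZMod p) G α (⟨g, hg⟩⁻¹ : G) f = fun x => f (g x) := by
        funext x
        rw [Cfsg.Agent.Helper4.permRep_apply, inv_inv]
        rfl
      rwa [h4] at h3
    · left
      constructor <;> omega
  have hp5 : 5 ≤ p := by
    have h2 := hα.two_le
    by_contra hlt
    have h4 : p = 4 := by omega
    rw [h4] at hα
    norm_num at hα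
  right
  apply Cfsg.Agent.S0671.result (K := ZMod p) (p := p) (f := 1) le_rfl (by rw [pow_one])
  intro W W' hCW hWW' hW'S
  have hWS : W.toSubmodule ≤ (Cfsg.permSumZero (ZMod p) G α).toSubmodule := hWW'.le.trans hW'S
  have hCW' : (Cfsg.permConstants (ZMod p) G α).toSubmodule ≤ W'.toSubmodule := hCW.trans hWW'.le
  have hW := Cfsg.Agent.S0674.result hαp G hsolv W hCW hWS
  have hW' := Cfsg.Agent.S0674.result hαp G hsolv W' hCW' hW'S
  have hW'eq : W' = Cfsg.permSumZero (ZMod p) G α := by
    rcases hW' with h | h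
    · exfalso
      rw [h] at hWW'
      exact absurd (lt_of_lt_of_le hWW' hCW) (lt_irrefl _)
    · exact h
  have hWeq : W = Cfsg.permConstants (ZMod p) G α := by
    rcases hW with h | h
    · exact h
    · exfalso
      rw [h] at hWW'
      exact absurd (lt_of_lt_of_le hWW' hW'S) (lt_irrefl _)
  subst hW'eq hWeq
  -- a nontrivial action on the heart
  obtain ⟨a, b, hab⟩ : ∃ a b : α, a ≠ b :=
    Fintype.exists_pair_of_one_lt_card (by rw [hαp]; omega)
  obtain ⟨g, hg⟩ := MulAction.exists_smul_eq G a b
  have hmem : (Pi.single a 1 - Pi.single b 1 : α → ZMod p) ∈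
      (Cfsg.permSumZero (ZMod p) G α).toSubmodule := by
    rw [Cfsg.Agent.Helper4.mem_permSumZero]
    simp only [Pi.sub_apply, Finset.sum_sub_distrib, Finset.sum_pi_single', Finset.mem_univ,
      if_true, sub_self]
  refine ⟨g, _, hmem, ?_⟩
  intro hcon
  rw [Cfsg.Agent.Helper4.mem_permConstants] at hcon
  obtain ⟨c, hc⟩ := hcon
  rw [map_sub, Cfsg.Agent.Helper4.permRep_single, Cfsg.Agent.Helper4.permRep_single, hg] at hc
  -- a point outside {a, b, g • b}
  obtain ⟨x, -, hx⟩ := Finset.exists_mem_notMem_of_card_lt_card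
    (s := ({a, b, g • b} : Finset α)) (t := Finset.univ) (by
      rw [Finset.card_univ, hαp]
      exact lt_of_le_of_lt (Finset.card_le_three) (by omega))
  simp only [Finset.mem_insert, Finset.mem_singleton, not_or] at hx
  obtain ⟨hxa, hxb, hxgb⟩ := hx
  have h1 := congrFun hc x
  simp only [Pi.sub_apply, Pi.single_apply, if_neg hxa, if_neg hxb, if_neg hxgb, sub_self] at h1
  have h2 := congrFun hc a
  simp only [Pi.sub_apply, Pi.single_apply, if_neg hab, if_true, ← h1] at h2
  have h20 : (2 : ZMod p) ≠ 0 := by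
    intro h
    have h3 : ((2 : ℕ) : ZMod p) = 0 := by exact_mod_cast h
    rw [ZMod.natCast_eq_zero_iff] at h3
    have := Nat.le_of_dvd (by norm_num) h3
    omega
  by_cases hagb : a = g • b
  · rw [if_pos hagb] at h2
    apply h20
    have : (0 : ZMod p) - 1 - (1 - 0) = -2 := by ring
    rw [this] at h2
    exact neg_eq_zero.mp h2
  · rw [if_neg hagb] at h2
    have : (0 : ZMod p) - 0 - (1 - 0) = -1 := by ring
    rw [this] at h2
    exact one_ne_zero (neg_eq_zero.mp h2)

end Cfsg.Agent.S0675
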