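import Cfsg.Statements.S0672
import Mathlib
import Cfsg.Agent.Helper4.PermPairs

set_option autoImplicit false
open Cfsg

namespace Cfsg.Agent.S0672

/-- Let a finite group act faithfully and doubly transitively with point stabilisers of even order, and let `K` have characteristic `p` dividing the degree. If the heart of the permutation module admits no non-zero equivariant map to the permutation module on unordered pairs (phrased: every intertwining map from the sum-zero functions vanishing on the constants is zero), the action is triply transitive. -/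
theorem result {G : Type*} [Group G] [Finite G] {K : Type*} [Field K] {p : ℕ} [Fact p.Prime] [CharP K p] {Ω : Type*} [Fintype Ω] [DecidableEq Ω] [MulAction G Ω] [FaithfulSMul G Ω] (h2 : MulAction.IsMultiplyPretransitive G Ω 2) (hp : p ∣ Fintype.card Ω) (heven : ∀ a : Ω, Even (Nat.card (MulAction.stabilizer G a))) (h : ∀ f : Representation.IntertwiningMap (Cfsg.permSumZero K G Ω).toRepresentation (Cfsg.permRep K G (Set.powersetCard Ω 2)), (∀ v : (Cfsg.permSumZero K G Ω).toSubmodule, (v : Ω → K) ∈ (Cfsg.permConstants K G Ω).toSubmodule → f v = 0) → f = 0) : MulAction.IsMultiplyPretransitive G Ω 3 := by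
  classical
  by_cases hcard : Fintype.card Ω < 3
  · refine ⟨fun x y => ?_⟩
    exfalso
    have := Fintype.card_le_of_embedding x
    simp only [Fintype.card_fin] at this
    omega
  push Not at hcard
  by_cases h2K : (2 : K) = 0
  · exact (Cfsg.Agent.Helper4.pair_char_two_false h h2K hcard).elim
  haveI : MulAction.IsPretransitive G (Set.powersetCard Ω 2) :=
    Set.powersetCard.isPretransitive_of_isMultiplyPretransitive G h2
  have h2' := fun {a b c d : Ω} (hab : a ≠ b) (hcd : c ≠ d) =>
    (MulAction.is_two_pretransitive_iff (G := G) (α := Ω)).mp h2 hab hcd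
  -- Claim 1 in terms of elements
  have claim1 : ∀ a b x y : Ω, a ≠ b → x ≠ a → x ≠ b → y ≠ a → y ≠ b →
      ∃ g : G, ((g • a = a ∧ g • b = b) ∨ (g • a = b ∧ g • b = a)) ∧ g • x = y := by
    intro a b x y hab hxa hxb hya hyb
    exact Cfsg.Agent.Helper4.pair_stabilizer_transitive' h h2K a b x y hab hxa hxb hya hyb
  -- Claim 2: a swap fixing a third point
  have claim2 : ∀ a b x : Ω, a ≠ b → x ≠ a → x ≠ b →
      ∃ t : G, t • a = b ∧ t • b = a ∧ t • x = x := by
    intro a b x hab hxa hxb
    haveI : Fact (Nat.Prime 2) := ⟨Nat.prime_two⟩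
    obtain ⟨t0, ht0⟩ := exists_prime_orderOf_dvd_card' 2 (heven x).two_dvd
    have ht0sq : (t0 : G) * (t0 : G) = 1 := by
      have h1 : t0 ^ 2 = 1 := by rw [← ht0]; exact pow_orderOf_eq_one t0
      have h2 := congrArg (Subtype.val) h1
      simpa [sq] using h2
    have ht0ne : (t0 : G) ≠ 1 := by
      intro h1
      have h3 : t0 = 1 := Subtype.ext h1
      rw [h3, orderOf_one] at ht0
      norm_num at ht0
    have ht0x : (t0 : G) • x = x := t0.2
    obtain ⟨z, hz⟩ : ∃ z : Ω, (t0 : G) • z ≠ z := by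
      by_contra hcon
      push Not at hcon
      exact ht0ne (FaithfulSMul.eq_of_smul_eq_smul (α := Ω) (fun z => by rw [hcon z, one_smul]))
    have hz'z : (t0 : G) • ((t0 : G) • z) = z := by
      rw [← mul_smul, ht0sq, one_smul]
    have hzx : z ≠ x := by
      rintro rfl
      exact hz ht0x
    have hz'x : (t0 : G) • z ≠ x := by
      intro h1
      apply hzx
      rw [← hz'z, h1, ht0x]
    obtain ⟨k, hka, hkb⟩ := h2' (Ne.symm hz) hab
    have hkx_a : k • x ≠ a := by
      intro h1
      apply hzx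
      exact (MulAction.injective k (h1.trans hka.symm)).symm
    have hkx_b : k • x ≠ b := by
      intro h1
      apply hz'x
      exact (MulAction.injective k (h1.trans hkb.symm)).symm
    have t1a : (k * t0 * k⁻¹) • a = b := by
      rw [mul_smul, mul_smul, ← hka, inv_smul_smul, hkb]
    have t1b : (k * t0 * k⁻¹) • b = a := by
      rw [mul_smul, mul_smul, ← hkb, inv_smul_smul, hz'z, hka]
    have t1x : (k * t0 * k⁻¹) • (k • x) = k • x := by
      rw [mul_smul, mul_smul, inv_smul_smul, ht0x]
    obtain ⟨g, hg, hgx⟩ := claim1 a b (k • x) x hab hkx_a hkx_b hxa hxb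
    have hgx' : g⁻¹ • x = k • x := inv_smul_eq_iff.mpr hgx.symm
    refine ⟨g * (k * t0 * k⁻¹) * g⁻¹, ?_, ?_, ?_⟩
    · rcases hg with ⟨ga, gb⟩ | ⟨ga, gb⟩
      · have hga' : g⁻¹ • a = a := by rw [inv_smul_eq_iff, ga]
        rw [mul_smul, mul_smul, hga', t1a, gb]
      · have hga' : g⁻¹ • a = b := by rw [inv_smul_eq_iff, gb]
        rw [mul_smul, mul_smul, hga', t1b, ga]
    · rcases hg with ⟨ga, gb⟩ | ⟨ga, gb⟩
      · have hgb' : g⁻¹ • b = b := by rw [inv_smul_eq_iff, gb]
        rw [mul_smul, mul_smul, hgb', t1b, ga]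
      · have hgb' : g⁻¹ • b = a := by rw [inv_smul_eq_iff, ga]
        rw [mul_smul, mul_smul, hgb', t1a, gb]
    · rw [mul_smul, mul_smul, hgx', t1x, hgx]
  -- Claim 3
  have claim3 : ∀ a b x y : Ω, a ≠ b → x ≠ a → x ≠ b → y ≠ a → y ≠ b →
      ∃ g : G, g • a = a ∧ g • b = b ∧ g • x = y := by
    intro a b x y hab hxa hxb hya hyb
    obtain ⟨g, hg, hgx⟩ := claim1 a b x y hab hxa hxb hya hyb
    rcases hg with ⟨ga, gb⟩ | ⟨ga, gb⟩
    · exact ⟨g, ga, gb, hgx⟩
    · obtain ⟨t, ta, tb, tx⟩ := claim2 a b x hab hxa hxb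
      refine ⟨g * t, ?_, ?_, ?_⟩
      · rw [mul_smul, ta, gb]
      · rw [mul_smul, tb, ga]
      · rw [mul_smul, tx, hgx]
  -- conclusion
  refine ⟨fun x y => ?_⟩
  have hx01 : x 0 ≠ x 1 := fun h1 => by simpa using x.injective h1
  have hx02 : x 0 ≠ x 2 := fun h1 => by simpa using x.injective h1
  have hx12 : x 1 ≠ x 2 := fun h1 => by simpa using x.injective h1
  have hy01 : y 0 ≠ y 1 := fun h1 => by simpa using y.injective h1
  have hy02 : y 0 ≠ y 2 := fun h1 => by simpa using y.injective h1
  have hy12 : y 1 ≠ y 2 := fun h1 => by simpa using y.injective h1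
  obtain ⟨g, hg0, hg1⟩ := h2' hx01 hy01
  have hgx2_0 : g • x 2 ≠ y 0 := by
    rw [← hg0]
    exact fun h1 => hx02 (MulAction.injective g h1).symm
  have hgx2_1 : g • x 2 ≠ y 1 := by
    rw [← hg1]
    exact fun h1 => hx12 (MulAction.injective g h1).symm
  obtain ⟨k, hk0, hk1, hk2⟩ := claim3 (y 0) (y 1) (g • x 2) (y 2) hy01 hgx2_0 hgx2_1
    (Ne.symm hy02) (Ne.symm hy12)
  refine ⟨k * g, ?_⟩
  ext i
  rw [Function.Embedding.smul_apply, mul_smul]
  fin_cases i
  · simp only [Fin.zero_eta]
    rw [hg0, hk0]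
  · simp only [Fin.mk_one]
    rw [hg1, hk1]
  · change k • g • x 2 = y 2
    exact hk2

end Cfsg.Agent.S0672
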