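import Cfsg.Statements.S0676
import Mathlib
import Cfsg.Agent.Helper4.PrimeDegree3
import Cfsg.Agent.S0672
import Cfsg.Agent.S0675

set_option autoImplicit false
open Cfsg

namespace Cfsg.Agent.S0676

/-- A non-solvable transitive permutation group of prime degree `p` whose Sylow `p`-normaliser has even order is triply transitive. -/
theorem result {α : Type*} [Fintype α] [DecidableEq α] {p : ℕ} [Fact p.Prime] (hα : Fintype.card α = p) (G : Subgroup (Equiv.Perm α)) [MulAction.IsPretransitive G α] (hG : ¬ Group.IsSolvable G) (P : Sylow p G) (heven : Even (Nat.card (Subgroup.normalizer ((P : Subgroup G) : Set G)))) : MulAction.IsMultiplyPretransitive G α 3 := by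
  classical
  have hp : p.Prime := Fact.out
  have hp2 : p ≠ 2 := by
    rintro rfl
    exact hG (Cfsg.Agent.Helper4.PrimeDegree3.isSolvable_of_card_two hα G)
  obtain ⟨e, t, s, c, het, hes, hsord⟩ :=
    Cfsg.Agent.Helper4.PrimeDegree3.exists_setup hα hp2 G P heven
  have h2 : MulAction.IsMultiplyPretransitive G α 2 :=
    (Cfsg.Agent.S0675.result (hα.symm ▸ hp) G).resolve_left hG
  apply Cfsg.Agent.S0672.result (K := ZMod p) (p := p) h2 (by rw [hα])
    (Cfsg.Agent.Helper4.PrimeDegree3.even_stabilizer hp2 G e s c hes hsord)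
  intro f hf
  exact Cfsg.Agent.Helper4.PrimeDegree3.pairs_condition hα hp2 G hG e t s c het hes f hf

end Cfsg.Agent.S0676
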