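import Cfsg.Statements.S1691
import Mathlib

set_option autoImplicit false
open Cfsg

namespace Cfsg.Agent.S1691

open Cfsg.Spor

/-- `i ↦ c ^ i` as a homomorphism from `Multiplicative (ZMod 2)` when `c ^ 2 = 1`. -/
def powHomTwo {M : Type*} [Monoid M] (c : M) (hc : c ^ 2 = 1) : Multiplicative (ZMod 2) →* M where
  toFun i := c ^ (Multiplicative.toAdd i).val
  map_one' := by simp
  map_mul' i j := by
    rw [toAdd_mul, ZMod.val_add, ← pow_add]
    exact (pow_eq_pow_mod _ hc).symm

/-- the sign homomorphism on the presented group -/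
def signHom : Fi24 →* Multiplicative (ZMod 2) :=
  PresentedGroup.toGroup (f := fun _ : Fi24.Gen => Multiplicative.ofAdd (1 : ZMod 2)) (by
    intro r hr
    rcases hr with hr | hr
    · obtain ⟨x, _, y, _, rfl⟩ := hr
      simp only [map_pow, map_mul, FreeGroup.lift_apply_of]
      have : (Multiplicative.ofAdd (1 : ZMod 2)) * Multiplicative.ofAdd (1 : ZMod 2) = 1 := by decide
      rw [this, one_pow]
    · simp only [Fi24.extra, List.mem_cons, List.not_mem_nil, or_false, Set.mem_ofPred_eq] at hr
      rcases hr with rfl | rfl
      · simp only [map_pow, map_mul, map_inv, FreeGroup.lift_apply_of]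
        decide
      · simp only [map_pow, map_mul, FreeGroup.lift_apply_of]
        decide)

theorem signHom_of (x : Fi24.Gen) : signHom (PresentedGroup.of x) = Multiplicative.ofAdd 1 :=
  PresentedGroup.toGroup.of _

theorem rel_pow (x y : Fi24.Gen) (hx : x ∈ coxNodes Fi24.edges) (hy : y ∈ coxNodes Fi24.edges) :
    ((PresentedGroup.of x : Fi24) * PresentedGroup.of y) ^ coxLabel Fi24.edges x y = 1 := by
  have hmem : (FreeGroup.of x * FreeGroup.of y) ^ coxLabel Fi24.edges x y ∈
      coxRelators Fi24.edges ∪ {r | r ∈ Fi24.extra} :=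
    Or.inl ⟨x, hx, y, hy, rfl⟩
  have := PresentedGroup.one_of_mem hmem
  rw [map_pow, map_mul] at this
  exact this

theorem zmod_two_cases : ∀ u : Multiplicative (ZMod 2), u = 1 ∨ u = Multiplicative.ofAdd 1 := by
  decide

theorem all_nodes : ∀ x : Fi24.Gen, x ∈ coxNodes Fi24.edges := by
  intro x
  cases x <;> decide


/-- The commutator subgroup of the presented group Fi₂₄ has index 2 (the presented group is Fi₂₄′:2 with Fi₂₄′ its derived subgroup). -/
theorem result : (commutator Cfsg.Spor.Fi24).index = 2 := by
  classical
  set p : Fi24 →* Abelianization Fi24 := Abelianization.of with hp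
  -- images of generators are involutions
  have hsq : ∀ x : Fi24.Gen, p (PresentedGroup.of x) ^ 2 = 1 := by
    intro x
    have h1 := rel_pow x x (all_nodes x) (all_nodes x)
    have h2 : coxLabel Fi24.edges x x = 1 := by simp [coxLabel]
    rw [h2, pow_one] at h1
    rw [sq, ← map_mul, h1, map_one]
  -- adjacent generators have equal images
  have hadj : ∀ x y : Fi24.Gen, coxLabel Fi24.edges x y = 3 →
      p (PresentedGroup.of x) = p (PresentedGroup.of y) := by
    intro x y hxy
    have h1 := rel_pow x y (all_nodes x) (all_nodes y)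
    rw [hxy] at h1
    have h2 : (p (PresentedGroup.of x) * p (PresentedGroup.of y)) ^ 3 = 1 := by
      rw [← map_mul, ← map_pow, h1, map_one]
    rw [mul_pow] at h2
    have h3 : ∀ u : Abelianization Fi24, u ^ 2 = 1 → u ^ 3 = u := by
      intro u hu
      rw [pow_succ, hu, one_mul]
    rw [h3 _ (hsq x), h3 _ (hsq y)] at h2
    have h4 : p (PresentedGroup.of y) * p (PresentedGroup.of y) = 1 := by
      rw [← sq]; exact hsq y
    calc p (PresentedGroup.of x) = p (PresentedGroup.of x) * (p (PresentedGroup.of y) * p (PresentedGroup.of y)) := by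
          rw [h4, mul_one]
      _ = (p (PresentedGroup.of x) * p (PresentedGroup.of y)) * p (PresentedGroup.of y) := by
          rw [mul_assoc]
      _ = p (PresentedGroup.of y) := by rw [h2, one_mul]
  set t := p (PresentedGroup.of Fi24.Gen.a) with ht
  have hall : ∀ x : Fi24.Gen, p (PresentedGroup.of x) = t := by
    have hb : p (PresentedGroup.of Fi24.Gen.b) = t := (hadj .a .b (by decide)).symm
    have hc : p (PresentedGroup.of Fi24.Gen.c) = t := (hadj .b .c (by decide)).symm.trans hb
    have hd : p (PresentedGroup.of Fi24.Gen.d) = t := (hadj .c .d (by decide)).symm.trans hc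
    have he : p (PresentedGroup.of Fi24.Gen.e) = t := (hadj .d .e (by decide)).symm.trans hd
    have hf : p (PresentedGroup.of Fi24.Gen.f) = t := (hadj .e .f (by decide)).symm.trans he
    have hg : p (PresentedGroup.of Fi24.Gen.g) = t := (hadj .f .g (by decide)).symm.trans hf
    have hj : p (PresentedGroup.of Fi24.Gen.j) = t := (hadj .g .j (by decide)).symm.trans hg
    have hh : p (PresentedGroup.of Fi24.Gen.h) = t := (hadj .d .h (by decide)).symm.trans hd
    have hi : p (PresentedGroup.of Fi24.Gen.i) = t := (hadj .h .i (by decide)).symm.trans hh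
    have hk : p (PresentedGroup.of Fi24.Gen.k) = t := hadj .k .a (by decide)
    have hl : p (PresentedGroup.of Fi24.Gen.l) = t := (hadj .l .k (by decide)).trans hk
    intro x
    cases x <;> assumption
  have hfac : p = (powHomTwo t (hsq _)).comp signHom := by
    apply PresentedGroup.ext
    intro x
    rw [MonoidHom.comp_apply, signHom_of, hall x]
    show t = t ^ (1 : ZMod 2).val
    rw [ZMod.val_one, pow_one]
  have hker : commutator Fi24 = signHom.ker := by
    apply le_antisymm
    · exact Abelianization.commutator_subset_ker signHom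
    · intro g hg
      rw [← Abelianization.ker_of, MonoidHom.mem_ker]
      show p g = 1
      rw [hfac, MonoidHom.comp_apply, MonoidHom.mem_ker.mp hg, map_one]
  rw [hker, Subgroup.index_ker]
  have hsurj : signHom.range = ⊤ := by
    rw [eq_top_iff]
    intro u _
    rcases zmod_two_cases u with rfl | rfl
    · exact one_mem _
    · exact ⟨PresentedGroup.of Fi24.Gen.a, signHom_of _⟩
  rw [hsurj, Subgroup.card_top]
  simp [Nat.card_eq_fintype_card]

end Cfsg.Agent.S1691
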