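import Cfsg.Statements.S1894
import Cfsg.Agent.Helper10.PGroupBasic

set_option autoImplicit false
open Cfsg

namespace Cfsg.Agent.S1894

/-- Let P be a finite p-group, A a normal subgroup of P and B an abelian subgroup of A that is normal in P. Then some subgroup C of A containing B is normal in P and is self-centralizing and normal in A (C ∈ SCN(A)). -/
theorem result {P : Type*} [Group P] [Finite P] {p : ℕ} [Fact p.Prime] (hP : IsPGroup p P)
    (A : Subgroup P) [A.Normal] (B : Subgroup P) [B.Normal] (hBA : B ≤ A) (hB : IsMulCommutative B) :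
    ∃ C : Subgroup P, C.Normal ∧ B ≤ C ∧ Cfsg.IsSCN A C := by
  classical
  set 𝒮 : Set (Subgroup P) := {C | C.Normal ∧ B ≤ C ∧ C ≤ A ∧ IsMulCommutative ↥C} with h𝒮
  have hB𝒮 : B ∈ 𝒮 := ⟨inferInstance, le_rfl, hBA, hB⟩
  obtain ⟨C, hBC, hCmax⟩ := (Set.toFinite 𝒮).exists_le_maximal hB𝒮
  obtain ⟨hCn, -, hCA, hCab⟩ := hCmax.prop
  have hCcent : C ≤ Subgroup.centralizer (C : Set P) := Subgroup.le_centralizer_iff_isMulCommutative.2 hCab
  refine ⟨C, hCn, hBC, hCA, ?_, ?_⟩
  · rw [Subgroup.normalizer_eq_top]; exact le_top
  · apply le_antisymm _ (le_inf hCA hCcent)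
    by_contra hcon
    have hDn : (A ⊓ Subgroup.centralizer (C : Set P)).Normal := inferInstance
    obtain ⟨x, hxD, hxC, hxc⟩ := Cfsg.Agent.Helper10.exists_mem_not_mem_central_mod hP C
      (A ⊓ Subgroup.centralizer (C : Set P)) hcon
    have hXcentC : Subgroup.zpowers x ≤ Subgroup.centralizer (C : Set P) := (Subgroup.zpowers_le).2 hxD.2
    have hmem : C ⊔ Subgroup.zpowers x ∈ 𝒮 := by
      refine ⟨?_, le_trans hBC le_sup_left, sup_le hCA ((Subgroup.zpowers_le).2 hxD.1), ?_⟩
      · -- normal
        constructor
        intro n hn g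
        have hle : C ⊔ Subgroup.zpowers x ≤ (C ⊔ Subgroup.zpowers x).comap (MulAut.conj g).toMonoidHom := by
          apply sup_le
          · intro c hc
            rw [Subgroup.mem_comap]
            exact le_sup_left (b := Subgroup.zpowers x) (hCn.conj_mem c hc g)
          · rw [Subgroup.zpowers_le, Subgroup.mem_comap]
            have e : (MulAut.conj g).toMonoidHom x = (g * x * g⁻¹ * x⁻¹) * x := by
              simp [MulAut.conj_apply]
            rw [e]
            exact Subgroup.mul_mem _ (le_sup_left (b := Subgroup.zpowers x) (hxc g))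
              (le_sup_right (a := C) (Subgroup.mem_zpowers x))
        have := hle hn
        rw [Subgroup.mem_comap] at this
        simpa [MulAut.conj_apply] using this
      · -- abelian
        rw [← Subgroup.le_centralizer_iff_isMulCommutative]
        apply sup_le
        · rw [Subgroup.le_centralizer_iff]
          exact sup_le hCcent hXcentC
        · rw [Subgroup.le_centralizer_iff]
          apply sup_le
          · exact Subgroup.le_centralizer_iff.1 hXcentC
          · exact Subgroup.le_centralizer_iff_isMulCommutative.2 inferInstance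
    have := hCmax.eq_of_ge hmem le_sup_left
    apply hxC
    rw [← this]
    exact le_sup_right (a := C) (Subgroup.mem_zpowers x)

end Cfsg.Agent.S1894
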