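import Cfsg.Statements.S0556
import Mathlib
import Cfsg.Agent.Helper3.FrobAbelian

set_option autoImplicit false
set_option linter.style.haveILetI false
open Cfsg

namespace Cfsg.Agent.S0556

open scoped Pointwise
open Cfsg.Agent.Helper3

variable {G : Type*} [Group G]

theorem isCoatom_map_of_ker_le {G' : Type*} [Group G'] (f : G →* G') (hf : Function.Surjective f)
    (A : Subgroup G) (hA : IsCoatom A) (hker : f.ker ≤ A) : IsCoatom (A.map f) := by
  have hcm : (A.map f).comap f = A := by
    rw [Subgroup.comap_map_eq, sup_eq_left.mpr hker]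
  constructor
  · intro htop
    apply hA.1
    rw [← hcm, htop, Subgroup.comap_top]
  · intro X hX
    have h1 : A ≤ X.comap f := by rw [← hcm]; exact Subgroup.comap_mono hX.le
    have h2 : A ≠ X.comap f := by
      intro heq
      have : X = A.map f := by rw [heq, Subgroup.map_comap_eq_self_of_surjective hf]
      exact hX.ne this.symm
    have h3 := hA.2 _ (lt_of_le_of_ne h1 h2)
    rw [← Subgroup.map_comap_eq_self_of_surjective hf X, h3, Subgroup.map_top_of_surjective f hf]

/-- normal case -/
theorem case_normal (A : Subgroup G) (hA : IsCoatom A) [IsMulCommutative A] [hAn : A.Normal] :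
    commutator G ≤ A := by
  obtain ⟨g, hg⟩ : ∃ g, g ∉ A := by
    by_contra h
    push Not at h
    exact hA.1 (eq_top_iff.mpr (fun x _ => h x))
  have hsup : A ⊔ Subgroup.zpowers g = ⊤ := by
    apply hA.2
    apply lt_of_le_of_ne le_sup_left
    intro heq
    apply hg
    rw [heq]
    exact (le_sup_right : Subgroup.zpowers g ≤ A ⊔ Subgroup.zpowers g) (Subgroup.mem_zpowers g)
  apply Subgroup.Normal.quotient_commutative_iff_commutator_le.mp
  have hcyc : ∀ x : G ⧸ A, ∃ k : ℤ, x = (QuotientGroup.mk g : G ⧸ A) ^ k := by
    intro x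
    induction x using QuotientGroup.induction_on with
    | H y =>
      have hy : y ∈ ((A ⊔ Subgroup.zpowers g : Subgroup G) : Set G) := by rw [hsup]; trivial
      rw [Subgroup.normal_mul] at hy
      obtain ⟨a, ha, z, hz, rfl⟩ := hy
      obtain ⟨k, rfl⟩ := Subgroup.mem_zpowers_iff.mp hz
      refine ⟨k, ?_⟩
      rw [QuotientGroup.mk_mul, (QuotientGroup.eq_one_iff a).mpr ha, one_mul, QuotientGroup.mk_zpow]
  refine ⟨⟨fun x y => ?_⟩⟩
  obtain ⟨i, rfl⟩ := hcyc x
  obtain ⟨j, rfl⟩ := hcyc y
  rw [← zpow_add, ← zpow_add, add_comm]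

/-- If a finite group has a maximal subgroup that is abelian, then the third term of its derived series is trivial (so the group is solvable of derived length at most three). -/
theorem result {G : Type*} [Group G] [Finite G] (A : Subgroup G) (hA : IsCoatom A) [IsMulCommutative A] : derivedSeries G 3 = ⊥ := by
  have hcomm : ∀ a ∈ A, ∀ b ∈ A, a * b = b * a := by
    intro a ha b hb
    have := mul_comm' (⟨a, ha⟩ : A) ⟨b, hb⟩
    exact congrArg Subtype.val this
  have hAA : ⁅A, A⁆ = ⊥ := by
    rw [Subgroup.commutator_eq_bot_iff_le_centralizer]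
    intro a ha
    rw [Subgroup.mem_centralizer_iff]
    intro b hb
    exact hcomm b hb a ha
  by_cases hAn : A.Normal
  · have hGA : commutator G ≤ A := case_normal A hA
    have h1 : derivedSeries G 1 ≤ A := by rw [derivedSeries_one]; exact hGA
    have h2 : derivedSeries G 2 = ⊥ := by
      rw [show (2 : ℕ) = 1 + 1 from rfl, derivedSeries_succ, eq_bot_iff, ← hAA]
      exact Subgroup.commutator_mono h1 h1
    rw [show (3 : ℕ) = 2 + 1 from rfl, derivedSeries_succ, h2]
    exact Subgroup.commutator_bot_left ⊥
  · have hNA : Subgroup.normalizer (A : Set G) = A := by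
      rcases hA.le_iff.mp (Subgroup.le_normalizer (H := A)) with h | h
      · exact absurd (Subgroup.normalizer_eq_top_iff.mp h) hAn
      · exact h
    have hZA : Subgroup.center G ≤ A := by
      have := Subgroup.center_le_normalizer (G := G) (A : Set G)
      rwa [hNA] at this
    have hTIZ : ∀ g : G, g ∉ A → A ⊓ MulAut.conj g • A ≤ Subgroup.center G := by
      intro g hg x hx
      obtain ⟨hxA, hxAg⟩ := Subgroup.mem_inf.mp hx
      have hne : MulAut.conj g • A ≠ A := by
        intro h
        apply hg
        rw [← hNA]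
        exact (conj_smul_eq_iff_mem_normalizer g A).mp h
      have hsup : A ⊔ MulAut.conj g • A = ⊤ := by
        apply hA.2
        apply lt_of_le_of_ne le_sup_left
        intro heq
        apply hne
        apply conj_smul_le_eq
        calc MulAut.conj g • A ≤ A ⊔ MulAut.conj g • A := le_sup_right
          _ = A := heq.symm
      have hle : A ⊔ MulAut.conj g • A ≤ Subgroup.centralizer ({x} : Set G) := by
        apply sup_le
        · intro a ha
          rw [Subgroup.mem_centralizer_iff]
          intro h hh
          rw [Set.mem_singleton_iff.mp hh]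
          exact hcomm x hxA a ha
        · intro u hu
          rw [Subgroup.mem_centralizer_iff]
          intro h hh
          rw [Set.mem_singleton_iff.mp hh]
          rw [mem_conj_smul_iff] at hu hxAg
          have h1 := hcomm _ hxAg _ hu
          calc x * u = g * ((g⁻¹ * x * g) * (g⁻¹ * u * g)) * g⁻¹ := by group
            _ = g * ((g⁻¹ * u * g) * (g⁻¹ * x * g)) * g⁻¹ := by rw [h1]
            _ = u * x := by group
      rw [Subgroup.mem_center_iff]
      intro y
      have hy : y ∈ Subgroup.centralizer ({x} : Set G) := hle (by rw [hsup]; trivial)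
      exact ((Subgroup.mem_centralizer_iff.mp hy) x rfl).symm
    have hsurj := QuotientGroup.mk'_surjective (Subgroup.center G)
    have hBco : IsCoatom (A.map (QuotientGroup.mk' (Subgroup.center G))) :=
      isCoatom_map_of_ker_le _ hsurj A hA (by rw [QuotientGroup.ker_mk']; exact hZA)
    have hTI : ∀ h : G ⧸ Subgroup.center G, h ∉ A.map (QuotientGroup.mk' (Subgroup.center G)) →
        A.map (QuotientGroup.mk' (Subgroup.center G))
          ⊓ MulAut.conj h • A.map (QuotientGroup.mk' (Subgroup.center G)) = ⊥ := by
      intro h hh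
      obtain ⟨g, rfl⟩ := hsurj h
      have hg : g ∉ A := fun hgA => hh (Subgroup.mem_map_of_mem _ hgA)
      rw [eq_bot_iff]
      intro x hx
      obtain ⟨hxB, hxBg⟩ := Subgroup.mem_inf.mp hx
      obtain ⟨a, ha, rfl⟩ := hxB
      rw [mem_conj_smul_iff] at hxBg
      obtain ⟨a', ha', haa'⟩ := hxBg
      have h1 : a'⁻¹ * (g⁻¹ * a * g) ∈ Subgroup.center G := by
        rw [← QuotientGroup.eq]
        simpa using haa'
      have h2 : g⁻¹ * a * g ∈ A := by
        have : g⁻¹ * a * g = a' * (a'⁻¹ * (g⁻¹ * a * g)) := by group
        rw [this]; exact A.mul_mem ha' (hZA h1)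
      have h3 : a ∈ A ⊓ MulAut.conj g • A := ⟨ha, (mem_conj_smul_iff g a A).mpr h2⟩
      rw [Subgroup.mem_bot]
      exact (QuotientGroup.eq_one_iff a).mpr (hTIZ g hg h3)
    have hF := frob_abelian_derived (A.map (QuotientGroup.mk' (Subgroup.center G))) hBco hTI
    have h2 : derivedSeries G 2 ≤ Subgroup.center G := by
      have h := map_derivedSeries_eq hsurj 2
      rw [hF] at h
      have := (Subgroup.map_eq_bot_iff _).mp h
      rwa [QuotientGroup.ker_mk'] at this
    rw [show (3 : ℕ) = 2 + 1 from rfl, derivedSeries_succ, eq_bot_iff]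
    have h3 : ⁅Subgroup.center G, (⊤ : Subgroup G)⁆ = ⊥ := by
      rw [Subgroup.commutator_eq_bot_iff_le_centralizer, Subgroup.coe_top,
        Subgroup.centralizer_univ]
    rw [← h3]
    exact Subgroup.commutator_mono h2 le_top

end Cfsg.Agent.S0556
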