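import Mathlib
import Cfsg.Statements.S0765
import Cfsg.Agent.Helper28.SympTrans

set_option autoImplicit false
open Cfsg

namespace Cfsg.Agent.S0765

open Matrix Cfsg.Agent.Helper28

variable {F : Type*} [Field F] {m : ℕ}

local notation "𝔣" => Cfsg.sympForm m F

theorem form_single_inl (x : Fin m ⊕ Fin m → F) (i : Fin m) :
    Cfsg.sympForm m F x (Pi.single (Sum.inl i) 1) = x (Sum.inr i) := by
  rw [sympForm_explicit]
  simp [Pi.single_apply, Finset.sum_ite_eq']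

theorem form_single_inr (x : Fin m ⊕ Fin m → F) (i : Fin m) :
    Cfsg.sympForm m F x (Pi.single (Sum.inr i) 1) = - x (Sum.inl i) := by
  rw [sympForm_explicit]
  simp [Pi.single_apply, Finset.sum_ite_eq']

/-- vectors supported on the coordinates of index `< k`. -/
def Wk (m : ℕ) (F : Type*) [Field F] (k : ℕ) : Set (Fin m ⊕ Fin m → F) :=
  {x | ∀ i : Fin m, k ≤ (i : ℕ) → x (Sum.inl i) = 0 ∧ x (Sum.inr i) = 0}

theorem Wk_add {k : ℕ} {x y : Fin m ⊕ Fin m → F} (hx : x ∈ Wk m F k) (hy : y ∈ Wk m F k) :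
    x + y ∈ Wk m F k := by
  intro i hi
  simp [(hx i hi).1, (hx i hi).2, (hy i hi).1, (hy i hi).2]

theorem Wk_sub {k : ℕ} {x y : Fin m ⊕ Fin m → F} (hx : x ∈ Wk m F k) (hy : y ∈ Wk m F k) :
    x - y ∈ Wk m F k := by
  intro i hi
  simp [(hx i hi).1, (hx i hi).2, (hy i hi).1, (hy i hi).2]

theorem single_inl_mem {k : ℕ} (i : Fin m) (hi : (i : ℕ) < k) :
    (Pi.single (Sum.inl i) 1 : Fin m ⊕ Fin m → F) ∈ Wk m F k := by
  intro j hj
  have : j ≠ i := by
    intro h; rw [h] at hj; omega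
  simp [Pi.single_apply, this]

theorem single_inr_mem {k : ℕ} (i : Fin m) (hi : (i : ℕ) < k) :
    (Pi.single (Sum.inr i) 1 : Fin m ⊕ Fin m → F) ∈ Wk m F k := by
  intro j hj
  have : j ≠ i := by
    intro h; rw [h] at hj; omega
  simp [Pi.single_apply, this]

/-- The relative transvection group. -/
def Tk (m : ℕ) (F : Type*) [Field F] (k : ℕ) : Subgroup (Matrix.symplecticGroup (Fin m) F) :=
  Subgroup.closure {A | ∃ d ∈ Wk m F k, ∃ c : F, A = sympT d c}

theorem sympT_mem_Tk {k : ℕ} {d : Fin m ⊕ Fin m → F} (hd : d ∈ Wk m F k) (c : F) :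
    sympT d c ∈ Tk m F k :=
  Subgroup.subset_closure ⟨d, hd, c, rfl⟩

theorem Tk_le (k : ℕ) : Tk m F k ≤ Subgroup.closure (sympTransSet m F) := by
  apply Subgroup.closure_mono
  rintro A ⟨d, _, c, rfl⟩
  exact ⟨d, c, rfl⟩

theorem coe_one_mulVec (x : Fin m ⊕ Fin m → F) :
    ((1 : Matrix.symplecticGroup (Fin m) F) : Matrix (Fin m ⊕ Fin m) (Fin m ⊕ Fin m) F) *ᵥ x = x := by
  show (1 : Matrix (Fin m ⊕ Fin m) (Fin m ⊕ Fin m) F) *ᵥ x = x
  exact Matrix.one_mulVec x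

theorem inv_mulVec (A : Matrix.symplecticGroup (Fin m) F) {x y : Fin m ⊕ Fin m → F}
    (h : (A : Matrix (Fin m ⊕ Fin m) (Fin m ⊕ Fin m) F) *ᵥ x = y) :
    ((A⁻¹ : Matrix.symplecticGroup (Fin m) F) : Matrix (Fin m ⊕ Fin m) (Fin m ⊕ Fin m) F) *ᵥ y = x := by
  rw [← h, Matrix.mulVec_mulVec, ← symp_coe_mul, inv_mul_cancel, coe_one_mulVec]

/-- Elements of `Tk k` fix vectors orthogonal to `Wk k`. -/
theorem Tk_fix {k : ℕ} {x : Fin m ⊕ Fin m → F} (hx : ∀ d ∈ Wk m F k, Cfsg.sympForm m F x d = 0)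
    {A : Matrix.symplecticGroup (Fin m) F} (hA : A ∈ Tk m F k) :
    (A : Matrix (Fin m ⊕ Fin m) (Fin m ⊕ Fin m) F) *ᵥ x = x := by
  induction hA using Subgroup.closure_induction with
  | mem A hA =>
    obtain ⟨d, hd, c, rfl⟩ := hA
    exact sympT_fix c (hx d hd)
  | one => exact coe_one_mulVec x
  | mul A B _ _ hA hB =>
    rw [symp_coe_mul, ← Matrix.mulVec_mulVec, hB, hA]
  | inv A _ hA => exact inv_mulVec A hA

theorem ortho_single_inl {k : ℕ} (i : Fin m) (hi : k ≤ (i : ℕ)) :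
    ∀ d ∈ Wk m F k, Cfsg.sympForm m F (Pi.single (Sum.inl i) 1) d = 0 := by
  intro d hd
  rw [sympForm_swap, form_single_inl, (hd i hi).2, neg_zero]

theorem ortho_single_inr {k : ℕ} (i : Fin m) (hi : k ≤ (i : ℕ)) :
    ∀ d ∈ Wk m F k, Cfsg.sympForm m F (Pi.single (Sum.inr i) 1) d = 0 := by
  intro d hd
  rw [sympForm_swap, form_single_inr, (hd i hi).1, neg_zero, neg_zero]

theorem rel_exists_ne_zero {k : ℕ} {u : Fin m ⊕ Fin m → F} (hu : u ∈ Wk m F k) (hu0 : u ≠ 0) :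
    ∃ w ∈ Wk m F k, Cfsg.sympForm m F u w ≠ 0 := by
  have : ∃ j, u j ≠ 0 := by
    by_contra hcon
    push Not at hcon
    exact hu0 (funext hcon)
  obtain ⟨j, hj⟩ := this
  rcases j with i | i
  · have hik : (i : ℕ) < k := by
      by_contra h
      exact hj (hu i (by omega)).1
    refine ⟨Pi.single (Sum.inr i) 1, single_inr_mem i hik, ?_⟩
    rw [form_single_inr]
    exact neg_ne_zero.mpr hj
  · have hik : (i : ℕ) < k := by
      by_contra h
      exact hj (hu i (by omega)).2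
    refine ⟨Pi.single (Sum.inl i) 1, single_inl_mem i hik, ?_⟩
    rw [form_single_inl]
    exact hj

theorem rel_transitive {k : ℕ} {u u' : Fin m ⊕ Fin m → F} (hu : u ∈ Wk m F k) (hu' : u' ∈ Wk m F k)
    (hu0 : u ≠ 0) (hu'0 : u' ≠ 0) :
    ∃ A ∈ Tk m F k, (A : Matrix (Fin m ⊕ Fin m) (Fin m ⊕ Fin m) F) *ᵥ u = u' := by
  by_cases h : Cfsg.sympForm m F u u' ≠ 0
  · exact ⟨_, sympT_mem_Tk (Wk_sub hu hu') _, sympT_move h⟩
  · push Not at h
    obtain ⟨w1, hw1W, hw1⟩ := rel_exists_ne_zero hu hu0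
    obtain ⟨w2, hw2W, hw2⟩ := rel_exists_ne_zero hu' hu'0
    have hw2' : Cfsg.sympForm m F w2 u' ≠ 0 := by
      rw [sympForm_swap]; exact neg_ne_zero.mpr hw2
    obtain ⟨w, hwW, hw, hw'⟩ : ∃ w ∈ Wk m F k,
        Cfsg.sympForm m F u w ≠ 0 ∧ Cfsg.sympForm m F w u' ≠ 0 := by
      by_cases h1 : Cfsg.sympForm m F w1 u' ≠ 0
      · exact ⟨w1, hw1W, hw1, h1⟩
      · push Not at h1
        by_cases h2 : Cfsg.sympForm m F u w2 ≠ 0
        · exact ⟨w2, hw2W, h2, hw2'⟩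
        · push Not at h2
          refine ⟨w1 + w2, Wk_add hw1W hw2W, ?_, ?_⟩
          · rw [sympForm_add_right, h2, add_zero]; exact hw1
          · rw [sympForm_add_left, h1, zero_add]; exact hw2'
    refine ⟨sympT (w - u') (Cfsg.sympForm m F w u')⁻¹ * sympT (u - w) (Cfsg.sympForm m F u w)⁻¹,
      Subgroup.mul_mem _ (sympT_mem_Tk (Wk_sub hwW hu') _) (sympT_mem_Tk (Wk_sub hu hwW) _), ?_⟩
    rw [symp_coe_mul, ← Matrix.mulVec_mulVec, sympT_move hw, sympT_move hw']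

theorem rel_fix_move {k : ℕ} {u v v' : Fin m ⊕ Fin m → F} (hu : u ∈ Wk m F k) (hv : v ∈ Wk m F k)
    (hv' : v' ∈ Wk m F k) (h : Cfsg.sympForm m F u v = 1) (h' : Cfsg.sympForm m F u v' = 1) :
    ∃ A ∈ Tk m F k,
      (A : Matrix (Fin m ⊕ Fin m) (Fin m ⊕ Fin m) F) *ᵥ u = u ∧
      (A : Matrix (Fin m ⊕ Fin m) (Fin m ⊕ Fin m) F) *ᵥ v = v' := by
  by_cases hvv : Cfsg.sympForm m F v v' ≠ 0
  · refine ⟨_, sympT_mem_Tk (Wk_sub hv hv') _, sympT_fix _ ?_, sympT_move hvv⟩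
    rw [sympForm_sub_right, h, h', sub_self]
  · push Not at hvv
    have huv : Cfsg.sympForm m F v u = -1 := by rw [sympForm_swap, h]
    have h1 : Cfsg.sympForm m F v (u + v) ≠ 0 := by
      rw [sympForm_add_right, sympForm_self, huv, add_zero]
      exact neg_ne_zero.mpr one_ne_zero
    have h2 : Cfsg.sympForm m F (u + v) v' ≠ 0 := by
      rw [sympForm_add_left, hvv, h', add_zero]
      exact one_ne_zero
    refine ⟨sympT ((u + v) - v') (Cfsg.sympForm m F (u + v) v')⁻¹ *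
      sympT (v - (u + v)) (Cfsg.sympForm m F v (u + v))⁻¹,
      Subgroup.mul_mem _ (sympT_mem_Tk (Wk_sub (Wk_add hu hv) hv') _)
        (sympT_mem_Tk (Wk_sub hv (Wk_add hu hv)) _), ?_, ?_⟩
    · have e1 : Cfsg.sympForm m F u (v - (u + v)) = 0 := by
        rw [sympForm_sub_right, sympForm_add_right, sympForm_self, h]; ring
      have e2 : Cfsg.sympForm m F u ((u + v) - v') = 0 := by
        rw [sympForm_sub_right, sympForm_add_right, sympForm_self, h, h']; ring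
      rw [symp_coe_mul, ← Matrix.mulVec_mulVec, sympT_fix _ e1, sympT_fix _ e2]
    · rw [symp_coe_mul, ← Matrix.mulVec_mulVec, sympT_move h1, sympT_move h2]

theorem rel_pairs {k : ℕ} {u v u' v' : Fin m ⊕ Fin m → F} (hu : u ∈ Wk m F k) (hv : v ∈ Wk m F k)
    (hu' : u' ∈ Wk m F k) (hv' : v' ∈ Wk m F k)
    (h : Cfsg.sympForm m F u v = 1) (h' : Cfsg.sympForm m F u' v' = 1)
    (hpresW : ∀ A ∈ Tk m F k, (A : Matrix (Fin m ⊕ Fin m) (Fin m ⊕ Fin m) F) *ᵥ v ∈ Wk m F k) :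
    ∃ A ∈ Tk m F k,
      (A : Matrix (Fin m ⊕ Fin m) (Fin m ⊕ Fin m) F) *ᵥ u = u' ∧
      (A : Matrix (Fin m ⊕ Fin m) (Fin m ⊕ Fin m) F) *ᵥ v = v' := by
  have hu0 : u ≠ 0 := by
    rintro rfl
    rw [sympForm_zero_left] at h
    exact zero_ne_one h
  have hu'0 : u' ≠ 0 := by
    rintro rfl
    rw [sympForm_zero_left] at h'
    exact zero_ne_one h'
  obtain ⟨A1, hA1, hA1u⟩ := rel_transitive hu hu' hu0 hu'0
  have hpres := (mem_symplecticGroup_iff_preserves
    (A1 : Matrix (Fin m ⊕ Fin m) (Fin m ⊕ Fin m) F)).mp A1.2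
  have h1 : Cfsg.sympForm m F u' ((A1 : Matrix (Fin m ⊕ Fin m) (Fin m ⊕ Fin m) F) *ᵥ v) = 1 := by
    rw [← hA1u, hpres, h]
  obtain ⟨A2, hA2, hA2u, hA2v⟩ := rel_fix_move hu' (hpresW A1 hA1) hv' h1 h'
  refine ⟨A2 * A1, Subgroup.mul_mem _ hA2 hA1, ?_, ?_⟩
  · rw [symp_coe_mul, ← Matrix.mulVec_mulVec, hA1u, hA2u]
  · rw [symp_coe_mul, ← Matrix.mulVec_mulVec, hA2v]

/-- a symplectic matrix fixing the basis vectors of index ≥ k maps `Wk k` into itself. -/
theorem pres_Wk {k : ℕ} (g : Matrix.symplecticGroup (Fin m) F)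
    (hg : ∀ i : Fin m, k ≤ (i : ℕ) →
      (g : Matrix (Fin m ⊕ Fin m) (Fin m ⊕ Fin m) F) *ᵥ (Pi.single (Sum.inl i) 1) = Pi.single (Sum.inl i) 1 ∧
      (g : Matrix (Fin m ⊕ Fin m) (Fin m ⊕ Fin m) F) *ᵥ (Pi.single (Sum.inr i) 1) = Pi.single (Sum.inr i) 1)
    {x : Fin m ⊕ Fin m → F} (hx : x ∈ Wk m F k) :
    (g : Matrix (Fin m ⊕ Fin m) (Fin m ⊕ Fin m) F) *ᵥ x ∈ Wk m F k := by
  have hpres := (mem_symplecticGroup_iff_preserves
    (g : Matrix (Fin m ⊕ Fin m) (Fin m ⊕ Fin m) F)).mp g.2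
  intro i hi
  constructor
  · have e := form_single_inr ((g : Matrix (Fin m ⊕ Fin m) (Fin m ⊕ Fin m) F) *ᵥ x) i
    have e2 : Cfsg.sympForm m F ((g : Matrix (Fin m ⊕ Fin m) (Fin m ⊕ Fin m) F) *ᵥ x)
        (Pi.single (Sum.inr i) 1) = 0 := by
      conv_lhs => rw [← (hg i hi).2]
      rw [hpres, form_single_inr, (hx i hi).1, neg_zero]
    rw [e2] at e
    exact neg_eq_zero.mp e.symm
  · have e := form_single_inl ((g : Matrix (Fin m ⊕ Fin m) (Fin m ⊕ Fin m) F) *ᵥ x) i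
    have e2 : Cfsg.sympForm m F ((g : Matrix (Fin m ⊕ Fin m) (Fin m ⊕ Fin m) F) *ᵥ x)
        (Pi.single (Sum.inl i) 1) = 0 := by
      conv_lhs => rw [← (hg i hi).1]
      rw [hpres, form_single_inl, (hx i hi).2]
    rw [e2] at e
    exact e.symm

theorem main (k : ℕ) : ∀ g : Matrix.symplecticGroup (Fin m) F,
    (∀ i : Fin m, k ≤ (i : ℕ) →
      (g : Matrix (Fin m ⊕ Fin m) (Fin m ⊕ Fin m) F) *ᵥ (Pi.single (Sum.inl i) 1) = Pi.single (Sum.inl i) 1 ∧
      (g : Matrix (Fin m ⊕ Fin m) (Fin m ⊕ Fin m) F) *ᵥ (Pi.single (Sum.inr i) 1) = Pi.single (Sum.inr i) 1) →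
    g ∈ Subgroup.closure (sympTransSet m F) := by
  induction k with
  | zero =>
    intro g hg
    have : g = 1 := by
      apply Subtype.ext
      show (g : Matrix (Fin m ⊕ Fin m) (Fin m ⊕ Fin m) F) = 1
      ext a b
      have hcol : (g : Matrix (Fin m ⊕ Fin m) (Fin m ⊕ Fin m) F) *ᵥ (Pi.single b 1) = Pi.single b 1 := by
        rcases b with i | i
        · exact (hg i (Nat.zero_le _)).1
        · exact (hg i (Nat.zero_le _)).2
      have := congrFun hcol a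
      rw [Matrix.mulVec_single_one] at this
      rw [Matrix.one_apply]
      simpa [Pi.single_apply] using this
    rw [this]
    exact Subgroup.one_mem _
  | succ k ih =>
    intro g hg
    by_cases hk : k < m
    · set ik : Fin m := ⟨k, hk⟩ with hik
      set u : Fin m ⊕ Fin m → F := Pi.single (Sum.inr ik) 1 with hu
      set v : Fin m ⊕ Fin m → F := Pi.single (Sum.inl ik) 1 with hv
      have huW : u ∈ Wk m F (k + 1) := single_inr_mem ik (by simp [hik])
      have hvW : v ∈ Wk m F (k + 1) := single_inl_mem ik (by simp [hik])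
      have huv : Cfsg.sympForm m F u v = 1 := by
        rw [hv, form_single_inl, hu]; simp
      have hpres := (mem_symplecticGroup_iff_preserves
        (g : Matrix (Fin m ⊕ Fin m) (Fin m ⊕ Fin m) F)).mp g.2
      have hu'W := pres_Wk g hg huW
      have hv'W := pres_Wk g hg hvW
      have hu'v' : Cfsg.sympForm m F ((g : Matrix (Fin m ⊕ Fin m) (Fin m ⊕ Fin m) F) *ᵥ u)
          ((g : Matrix (Fin m ⊕ Fin m) (Fin m ⊕ Fin m) F) *ᵥ v) = 1 := by
        rw [hpres, huv]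
      have hTfix : ∀ A ∈ Tk m F (k + 1), ∀ i : Fin m, k + 1 ≤ (i : ℕ) →
          (A : Matrix (Fin m ⊕ Fin m) (Fin m ⊕ Fin m) F) *ᵥ (Pi.single (Sum.inl i) 1) = Pi.single (Sum.inl i) 1 ∧
          (A : Matrix (Fin m ⊕ Fin m) (Fin m ⊕ Fin m) F) *ᵥ (Pi.single (Sum.inr i) 1) = Pi.single (Sum.inr i) 1 :=
        fun A hA i hi => ⟨Tk_fix (ortho_single_inl i hi) hA, Tk_fix (ortho_single_inr i hi) hA⟩
      obtain ⟨A, hA, hAu, hAv⟩ := rel_pairs huW hvW hu'W hv'W huv hu'v'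
        (fun A hA => pres_Wk A (hTfix A hA) hvW)
      have hAT : A ∈ Subgroup.closure (sympTransSet m F) := Tk_le _ hA
      have hmem : A⁻¹ * g ∈ Subgroup.closure (sympTransSet m F) := by
        apply ih
        intro i hi
        by_cases hik' : (i : ℕ) = k
        · have : i = ik := Fin.ext hik'
          subst this
          constructor
          · rw [symp_coe_mul, ← Matrix.mulVec_mulVec]
            exact inv_mulVec A hAv
          · rw [symp_coe_mul, ← Matrix.mulVec_mulVec]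
            exact inv_mulVec A hAu
        · have hi' : k + 1 ≤ (i : ℕ) := by omega
          constructor
          · rw [symp_coe_mul, ← Matrix.mulVec_mulVec, (hg i hi').1]
            exact inv_mulVec A (hTfix A hA i hi').1
          · rw [symp_coe_mul, ← Matrix.mulVec_mulVec, (hg i hi').2]
            exact inv_mulVec A (hTfix A hA i hi').2
      have : g = A * (A⁻¹ * g) := by group
      rw [this]
      exact Subgroup.mul_mem _ hAT hmem
    · apply ih
      intro i hi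
      exact absurd i.2 (by omega)

/-- Generation of the symplectic group by symplectic transvections: the subgroup of Sp_2m(F) generated by all matrices of maps x ↦ x + c f(x, w) w is the whole group. -/
theorem result {F : Type*} [Field F] (m : ℕ) : Subgroup.closure {A : Matrix.symplecticGroup (Fin m) F | ∃ (w : Fin m ⊕ Fin m → F) (c : F), (A : Matrix (Fin m ⊕ Fin m) (Fin m ⊕ Fin m) F) = Cfsg.sympTransvection m w c} = ⊤ := by
  rw [eq_top_iff]
  intro g _
  exact main m g (fun i hi => absurd i.2 (by omega))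

end Cfsg.Agent.S0765
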