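import Cfsg.Statements.S4422
import Mathlib

set_option autoImplicit false
open Cfsg

namespace Cfsg.Agent.S4422

theorem modEq_one_of_prime_factors (e : ℕ) : ∀ m : ℕ, m ≠ 0 →
    (∀ r : ℕ, r.Prime → r ∣ m → r ≡ 1 [MOD e]) → m ≡ 1 [MOD e] := by
  intro m
  induction m using Nat.recOnMul with
  | zero => intro h; exact absurd rfl h
  | one => intro _ _; rfl
  | prime p hp => intro _ h; exact h p hp dvd_rfl
  | mul a b iha ihb =>
    intro hab h
    have ha : a ≠ 0 := fun h0 => hab (by rw [h0, zero_mul])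
    have hb : b ≠ 0 := fun h0 => hab (by rw [h0, mul_zero])
    have h1 := iha ha (fun r hr hra => h r hr (dvd_mul_of_dvd_left hra b))
    have h2 := ihb hb (fun r hr hrb => h r hr (dvd_mul_of_dvd_right hrb a))
    simpa using h1.mul h2

theorem prime_case (q e r : ℕ) (he : 1 ≤ e) (hr : r.Prime)
    (hre : r ∣ q ^ e - 1) (hq1 : 1 ≤ q)
    (hcop : ∀ i : ℕ, 1 ≤ i → i < e → ¬ r ∣ (q ^ i - 1)) :
    r ≡ 1 [MOD e] := by
  haveI : Fact r.Prime := ⟨hr⟩
  have hpow_pos : ∀ i : ℕ, 1 ≤ q ^ i := fun i => Nat.one_le_pow _ _ hq1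
  have hcast : ∀ i : ℕ, ((q ^ i - 1 : ℕ) : ZMod r) = (q : ZMod r) ^ i - 1 := by
    intro i
    rw [Nat.cast_sub (hpow_pos i)]
    simp
  have hqe : (q : ZMod r) ^ e = 1 := by
    have := (ZMod.natCast_eq_zero_iff (q ^ e - 1) r).2 hre
    rw [hcast] at this
    exact sub_eq_zero.1 this
  set d := orderOf (q : ZMod r) with hd
  have hde : d ∣ e := orderOf_dvd_of_pow_eq_one hqe
  have hdpos : 1 ≤ d := by
    rcases Nat.eq_zero_or_pos d with h0 | h0
    · rw [h0] at hde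
      have := Nat.eq_zero_of_zero_dvd hde
      omega
    · exact h0
  have hqd : (q : ZMod r) ^ d = 1 := pow_orderOf_eq_one _
  have hrd : r ∣ q ^ d - 1 := by
    rw [← ZMod.natCast_eq_zero_iff, hcast, hqd, sub_self]
  have hdeq : d = e := by
    by_contra hne
    have hlt : d < e := lt_of_le_of_ne (Nat.le_of_dvd (by omega) hde) hne
    exact hcop d hdpos hlt hrd
  have hq0 : (q : ZMod r) ≠ 0 := by
    intro h0
    rw [h0, zero_pow (by omega)] at hqe
    exact zero_ne_one hqe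
  have hfer : (q : ZMod r) ^ (r - 1) = 1 := ZMod.pow_card_sub_one_eq_one hq0
  have hdr : d ∣ r - 1 := orderOf_dvd_of_pow_eq_one hfer
  rw [hdeq] at hdr
  have hr1 : 1 ≤ r := hr.one_le
  exact ((Nat.modEq_iff_dvd' hr1).2 hdr).symm

/-- Primitive divisors of `q^e - 1` are congruent to 1 modulo `e`. -/
theorem result (q e m : ℕ) (hq : 2 ≤ q) (he : 1 ≤ e)
    (hm : m ∣ q ^ e - 1) (hcop : ∀ i : ℕ, 1 ≤ i → i < e → Nat.Coprime m (q ^ i - 1)) :
    m % e = 1 % e := by
  have hqe : 2 ≤ q ^ e := by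
    calc 2 ≤ q := hq
      _ = q ^ 1 := (pow_one q).symm
      _ ≤ q ^ e := Nat.pow_le_pow_right (by omega) he
  have hm0 : m ≠ 0 := by
    rintro rfl
    have := Nat.eq_zero_of_zero_dvd hm
    omega
  apply modEq_one_of_prime_factors e m hm0
  intro r hr hrm
  apply prime_case q e r he hr (dvd_trans hrm hm) (by omega)
  intro i hi1 hie hri
  have h1 := hcop i hi1 hie
  have h2 : r ∣ Nat.gcd m (q ^ i - 1) := Nat.dvd_gcd hrm hri
  rw [h1] at h2
  exact hr.one_lt.ne' (Nat.dvd_one.1 h2)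

end Cfsg.Agent.S4422
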