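import Mathlib
import Cfsg.Statements.S1185
import Cfsg.Agent.Helper6.Isolated

set_option autoImplicit false
open Cfsg

namespace Cfsg.Agent.S1185

open Cfsg.Agent.Helper6

/-- if `z` inverts `k` (and `z² = 1`), then `k z k⁻¹ = k² z`. -/
theorem conj_eq_sq_mul {G : Type*} [Group G] {z k : G} (hinv : z * k * z⁻¹ = k⁻¹) :
    k * z * k⁻¹ = k ^ 2 * z := by
  have h1 : z * k⁻¹ * z⁻¹ = k := by
    have := congrArg (·⁻¹) hinv
    simp only [mul_inv_rev, inv_inv] at this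
    rw [← mul_assoc] at this
    exact this
  have h2 : z * k⁻¹ = k * z := by
    have := congrArg (· * z) h1
    simpa [mul_assoc] using this
  rw [mul_assoc k z k⁻¹, h2, ← mul_assoc, ← pow_two]

theorem eq_of_sq_eq_of_odd {G : Type*} [Group G] {k₁ k₂ : G} (h1 : Odd (orderOf k₁))
    (h2 : Odd (orderOf k₂)) (hsq : k₁ ^ 2 = k₂ ^ 2) : k₁ = k₂ := by
  obtain ⟨M, hM⟩ := h1.mul h2
  have e1 : k₁ ^ (orderOf k₁ * orderOf k₂) = 1 := by rw [pow_mul, pow_orderOf_eq_one, one_pow]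
  have e2 : k₂ ^ (orderOf k₁ * orderOf k₂) = 1 := by
    rw [mul_comm, pow_mul, pow_orderOf_eq_one, one_pow]
  have f1 : k₁ = (k₁ ^ 2) ^ (M + 1) := by
    rw [← pow_mul, show 2 * (M + 1) = (2 * M + 1) + 1 by ring, ← hM, pow_succ, e1, one_mul]
  have f2 : k₂ = (k₂ ^ 2) ^ (M + 1) := by
    rw [← pow_mul, show 2 * (M + 1) = (2 * M + 1) + 1 by ring, ← hM, pow_succ, e2, one_mul]
  rw [f1, f2, hsq]

/-- Let z be an isolated involution of the finite group G with centralizer C. Then for every g ∈ G there is exactly one element k in the coset gC that has odd order and is inverted by z. -/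
theorem result {G : Type*} [Group G] [Finite G] (z : G) (hz : Cfsg.IsIsolatedInvolution z) (g : G) : ∃! k : G, (Odd (orderOf k) ∧ z * k * z⁻¹ = k⁻¹) ∧ g⁻¹ * k ∈ Subgroup.centralizer ({z} : Set G) := by
  have hzz := isolated_mul_self hz
  have hzi := inv_eq_self_of_mul_self hzz
  have key : ∀ k : G, g⁻¹ * k ∈ Subgroup.centralizer ({z} : Set G) ↔ k * z * k⁻¹ = g * z * g⁻¹ := by
    intro k
    rw [Subgroup.mem_centralizer_singleton_iff]
    constructor
    · intro h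
      have : k * z * k⁻¹ = g * (g⁻¹ * k * z) * k⁻¹ := by group
      rw [this, h]; group
    · intro h
      have : g⁻¹ * k * z = g⁻¹ * (k * z * k⁻¹) * k := by group
      rw [this, h]; group
  obtain ⟨s, hs⟩ : ∃ s, s = g * z * g⁻¹ := ⟨_, rfl⟩
  have hss : s * s = 1 := hs ▸ conj_mul_self hzz g
  have hsi := inv_eq_self_of_mul_self hss
  have hodd : Odd (orderOf (s * z)) := hs ▸ isolated_conj_mul_odd hz g
  simp only [key, ← hs]
  obtain ⟨r, hr⟩ : ∃ r, r = s * z := ⟨_, rfl⟩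
  rw [← hr] at hodd
  obtain ⟨j, hj⟩ := hodd
  have hrpow : r ^ (2 * j + 1) = 1 := by rw [← hj]; exact pow_orderOf_eq_one _
  have hzr : z * r * z⁻¹ = r⁻¹ := by
    rw [hr, mul_inv_rev, hsi, hzi, mul_assoc, mul_assoc, hzz, mul_one]
  refine ⟨r ^ (j + 1), ⟨⟨?_, ?_⟩, ?_⟩, ?_⟩
  · have hd : orderOf (r ^ (j + 1)) ∣ orderOf r := orderOf_pow_dvd _
    rw [hj] at hd
    exact Odd.of_dvd_nat ⟨j, rfl⟩ hd
  · rw [← conj_pow, hzr, inv_pow]
  · have hinv : z * r ^ (j + 1) * z⁻¹ = (r ^ (j + 1))⁻¹ := by rw [← conj_pow, hzr, inv_pow]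
    rw [conj_eq_sq_mul hinv, ← pow_mul, show (j + 1) * 2 = (2 * j + 1) + 1 by ring, pow_succ, hrpow,
      one_mul, hr, mul_assoc, hzz, mul_one]
  · rintro k ⟨⟨hk1, hk2⟩, hk3⟩
    have hk4 : k ^ 2 * z = s := by rw [← conj_eq_sq_mul hk2]; exact hk3
    have hk5 : k ^ 2 = r := by
      rw [hr, ← hk4, mul_assoc, hzz, mul_one]
    have hodd2 : Odd (orderOf (r ^ (j + 1))) := by
      have hd : orderOf (r ^ (j + 1)) ∣ orderOf r := orderOf_pow_dvd _
      rw [hj] at hd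
      exact Odd.of_dvd_nat ⟨j, rfl⟩ hd
    apply eq_of_sq_eq_of_odd hk1 hodd2
    rw [hk5, ← pow_mul, show (j + 1) * 2 = (2 * j + 1) + 1 by ring, pow_succ, hrpow, one_mul]

end Cfsg.Agent.S1185
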