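import Mathlib
import Cfsg.Statements.S0800

set_option autoImplicit false
open Cfsg

namespace Cfsg.Agent.S0800

open Matrix

variable {F : Type*} [Field F]

/-- Cayley–Hamilton for 2×2 matrices of determinant one. -/
theorem ch_two (H : Matrix (Fin 2) (Fin 2) F) (hdet : H.det = 1) :
    H * H = (H 0 0 + H 1 1) • H - 1 := by
  rw [Matrix.det_fin_two] at hdet
  ext i j
  fin_cases i <;> fin_cases j <;>
    simp [Matrix.mul_apply, Fin.sum_univ_two] <;> first | ring1 | linear_combination -hdet

theorem det_sub_one (H : Matrix (Fin 2) (Fin 2) F) (hdet : H.det = 1) :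
    (H - 1).det = 2 - (H 0 0 + H 1 1) := by
  rw [Matrix.det_fin_two] at hdet ⊢
  simp [Matrix.one_apply]
  linear_combination hdet

/-- the polynomial identity in a commutative ring -/
theorem key_identity {S : Type*} [CommRing S] (x h₁ τ : S) (e1 : x * x = τ * x - 1)
    (e2 : (x * h₁) * (x * h₁) = τ * (x * h₁) - 1) : (h₁ - 1) * (x * (x * h₁) - 1) = 0 := by
  have e1' : x * x - τ * x + 1 = 0 := by linear_combination e1
  have e2' : (x * h₁) * (x * h₁) - τ * (x * h₁) + 1 = 0 := by linear_combination e2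
  linear_combination ((τ - x) * x) * e2' +
    (-(τ - x) * x - (τ - x) * (x * h₁ - x) + (h₁ - 1) * (x * (x * h₁) - 1)) * e1'

/-- Tori of SL_2(q): if g ∈ SL_2(q) has order coprime to the characteristic p, then the order of g divides q − 1 or q + 1. -/
theorem result {F : Type*} [Field F] [Fintype F] {q : ℕ} (hF : Fintype.card F = q) (p : ℕ) [Fact p.Prime] [CharP F p] (g : Matrix.SpecialLinearGroup (Fin 2) F) (hg : Nat.Coprime (orderOf g) p) : orderOf g ∣ q - 1 ∨ orderOf g ∣ q + 1 := by
  classical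
  have hp : p.Prime := Fact.out
  obtain ⟨f, -, hqf⟩ := FiniteField.card F p
  rw [hF] at hqf
  have hq2 : 2 ≤ q := by
    rw [← hF]; exact Fintype.one_lt_card
  set G : Matrix (Fin 2) (Fin 2) F := (g : Matrix (Fin 2) (Fin 2) F) with hG
  have hdetG : G.det = 1 := g.2
  set t : F := G 0 0 + G 1 1 with ht
  have hCH : G * G = t • G - 1 := ch_two G hdetG
  -- Frobenius
  set Y := G ^ q with hY
  have hCHY : Y * Y = t • Y - 1 := by
    have h1 : G * G + 1 = t • G := by rw [hCH]; abel
    have h2 : (G * G + 1) ^ q = (t • G) ^ q := by rw [h1]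
    rw [hqf, add_pow_char_pow_of_commute p f (Commute.one_right _), one_pow, ← hqf,
      (Commute.refl G).mul_pow, smul_pow] at h2
    have ht' : t ^ q = t := by rw [← hF]; exact FiniteField.pow_card t
    rw [ht'] at h2
    rw [hY, ← h2]; abel
  -- the commutative subalgebra generated by G
  set H₁ := G ^ (q - 1) with hH₁
  set H₂ := G ^ (q + 1) with hH₂
  have hYH₁ : Y = G * H₁ := by
    rw [hY, hH₁, ← pow_succ']
    congr 1; omega
  have hH₂Y : H₂ = G * Y := by
    rw [hH₂, hY, ← pow_succ']
  have hkey : (H₁ - 1) * (H₂ - 1) = 0 := by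
    let S := Algebra.adjoin F ({G} : Set (Matrix (Fin 2) (Fin 2) F))
    letI : CommRing S := Algebra.adjoinCommRingOfComm F (by
      intro a ha b hb
      rw [Set.mem_singleton_iff] at ha hb
      rw [ha, hb])
    let x : S := ⟨G, Algebra.subset_adjoin (Set.mem_singleton G)⟩
    have hx : (x : Matrix (Fin 2) (Fin 2) F) = G := rfl
    have e1 : x * x = algebraMap F S t * x - 1 := by
      apply Subtype.ext
      simp only [Subalgebra.coe_mul, Subalgebra.coe_sub, Subalgebra.coe_algebraMap, Subalgebra.coe_one, hx]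
      rw [hCH, Algebra.smul_def]
    have e2 : (x * x ^ (q - 1)) * (x * x ^ (q - 1)) = algebraMap F S t * (x * x ^ (q - 1)) - 1 := by
      apply Subtype.ext
      simp only [Subalgebra.coe_mul, Subalgebra.coe_sub, Subalgebra.coe_algebraMap, Subalgebra.coe_one,
        Subalgebra.coe_pow, hx]
      rw [← hH₁, ← hYH₁, hCHY, Algebra.smul_def]
    have e3 := key_identity x (x ^ (q - 1)) (algebraMap F S t) e1 e2
    have e4 := congrArg Subtype.val e3
    simp only [Subalgebra.coe_mul, Subalgebra.coe_sub, Subalgebra.coe_one,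
      Subalgebra.coe_pow, hx, ZeroMemClass.coe_zero] at e4
    rw [← hH₁, ← hYH₁, ← hH₂Y] at e4
    exact e4
  have hdetH₂ : H₂.det = 1 := by
    rw [hH₂, Matrix.det_pow, hdetG, one_pow]
  have tosl : ∀ m : ℕ, G ^ m = 1 → orderOf g ∣ m := by
    intro m hm
    apply orderOf_dvd_of_pow_eq_one
    apply Subtype.ext
    rw [Matrix.SpecialLinearGroup.coe_pow, Matrix.SpecialLinearGroup.coe_one]
    exact hm
  by_cases hdet : (H₂ - 1).det = 0
  · right
    have htr : H₂ 0 0 + H₂ 1 1 = 2 := by
      rw [det_sub_one H₂ hdetH₂] at hdet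
      linear_combination -hdet
    have hCH₂ := ch_two H₂ hdetH₂
    rw [htr] at hCH₂
    have hsq : (H₂ - 1) * (H₂ - 1) = 0 := by
      have : (H₂ - 1) * (H₂ - 1) = H₂ * H₂ - (2 : F) • H₂ + 1 := by
        rw [two_smul]
        noncomm_ring
      rw [this, hCH₂]
      abel
    have hpow : (H₂ - 1) ^ p = 0 := by
      have hp2 : 2 ≤ p := hp.two_le
      have : p = 2 + (p - 2) := by omega
      rw [this, pow_add, pow_two, hsq, zero_mul]
    rw [sub_pow_char_of_commute p (Commute.one_right _), one_pow, sub_eq_zero] at hpow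
    have h1 : G ^ ((q + 1) * p) = 1 := by
      rw [pow_mul, ← hH₂, hpow]
    have h2 := tosl _ h1
    exact hg.dvd_of_dvd_mul_right h2
  · left
    have hunit : IsUnit (H₂ - 1) := by
      rw [Matrix.isUnit_iff_isUnit_det]
      exact isUnit_iff_ne_zero.mpr hdet
    have h1 : H₁ - 1 = 0 := (hunit.mul_left_eq_zero).mp hkey
    exact tosl _ (sub_eq_zero.mp h1)

end Cfsg.Agent.S0800
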