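import Mathlib
import Cfsg.Statements.S2503
import Cfsg.Agent.Helper13.FqExt

set_option autoImplicit false
set_option linter.style.haveILetI false

namespace Cfsg.Agent.S2503

open Matrix Cfsg.Agent.Helper13

section basics
variable {F : Type*} [Field F] [Fintype F]

theorem two_eq_zero (h2 : 2 ∣ Fintype.card F) : (2 : F) = 0 := by
  obtain ⟨p, hp⟩ := CharP.exists F
  haveI := hp
  haveI : Fact p.Prime := ⟨CharP.char_is_prime F p⟩
  obtain ⟨n, hp', hn⟩ := FiniteField.card F p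
  rw [hn] at h2
  have h3 : 2 ∣ p := Nat.Prime.dvd_of_dvd_pow Nat.prime_two h2
  have h4 : p = 2 := ((Nat.prime_dvd_prime_iff_eq Nat.prime_two hp').mp h3).symm
  subst h4
  exact_mod_cast CharP.cast_eq_zero F 2

theorem exists_sq (h2 : (2 : F) = 0) (a : F) : ∃ r : F, r ^ 2 = a := by
  haveI : CharP F 2 := CharTwo.of_one_ne_zero_of_two_eq_zero one_ne_zero h2
  have h3 : ringChar F = 2 := ringChar.eq F 2
  obtain ⟨r, hr⟩ := FiniteField.isSquare_of_char_two h3 a
  exact ⟨r, by rw [hr, sq]⟩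

theorem neg_eq_self (h2 : (2 : F) = 0) (a : F) : -a = a := by
  have : a + a = 0 := by rw [← two_mul, h2, zero_mul]
  exact neg_eq_of_add_eq_zero_left this

/-- the norm form. -/
def N (s x y : F) : F := x ^ 2 + s * x * y + y ^ 2

end basics

section ext
variable {F K : Type*} [Field F] [Fintype F] [Field K] [Fintype K] {q : ℕ} (ι : F →+* K)
  (s : F) (l : K)

/-- the identification of `F²` with `K`. -/
def phi (x y : F) : K := ι x + ι y * l

variable (hF : Fintype.card F = q) (h2 : (2 : F) = 0) (hl : orderOf l = q + 1)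
  (hs : ι s = l + l ^ q) (hq : 4 ≤ q)

include hl in
theorem l_pow : l ^ q * l = 1 := by
  rw [← pow_succ, ← hl, pow_orderOf_eq_one]

include hl hq hF in
theorem phi_eq_zero (x y : F) (h : phi ι l x y = 0) : x = 0 ∧ y = 0 := by
  have hl1 := l_pow l hl
  by_cases hy : y = 0
  · subst hy
    simp only [phi, map_zero, zero_mul, add_zero] at h
    exact ⟨(map_eq_zero ι).mp h, rfl⟩
  · exfalso
    have hy' : ι y ≠ 0 := (map_ne_zero ι).mpr hy
    have hl2 : l = ι (-x / y) := by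
      rw [map_div₀, map_neg]
      field_simp
      unfold phi at h
      linear_combination h
    have hl3 : l ^ q = l := by
      rw [hl2]; exact ringHom_pow_card ι hF _
    rw [hl3] at hl1
    have h5 : orderOf l ∣ 2 := orderOf_dvd_of_pow_eq_one (by rw [sq]; exact hl1)
    have h6 := Nat.le_of_dvd (by norm_num) h5
    omega

include hl hq hF in
theorem phi_inj (x y x' y' : F) (h : phi ι l x y = phi ι l x' y') : x = x' ∧ y = y' := by
  have h0 : phi ι l (x - x') (y - y') = 0 := by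
    unfold phi at *
    rw [map_sub, map_sub]
    linear_combination h
  obtain ⟨h1, h2⟩ := phi_eq_zero ι l hF hl hq _ _ h0
  exact ⟨sub_eq_zero.mp h1, sub_eq_zero.mp h2⟩

include hl hs hF in
theorem phi_norm (x y : F) : phi ι l x y * (phi ι l x y) ^ q = ι (N s x y) := by
  have hl1 := l_pow l hl
  unfold phi N
  rw [add_pow_card_of_ringHom ι hF, mul_pow, ringHom_pow_card ι hF, ringHom_pow_card ι hF]
  simp only [map_add, map_mul, map_pow, hs]
  linear_combination (ι y) ^ 2 * hl1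

include hl hs hF hq in
theorem aniso (x y : F) (h : N s x y = 0) : x = 0 ∧ y = 0 := by
  have h1 := phi_norm ι s l hF hl hs x y
  rw [h, map_zero] at h1
  have h2 : phi ι l x y = 0 := by
    rcases mul_eq_zero.mp h1 with h3 | h3
    · exact h3
    · exact pow_eq_zero_iff (by omega) |>.mp h3
  exact phi_eq_zero ι l hF hl hq x y h2

include hl hs h2 in
theorem phi_step (x y : F) : phi ι l y (x + s * y) = l * phi ι l x y := by
  have hl1 := l_pow l hl
  have h2K : (2 : K) = 0 := by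
    have h3 : ι 2 = ι 0 := congrArg ι h2
    rwa [map_ofNat, map_zero] at h3
  unfold phi
  simp only [map_add, map_mul, hs]
  linear_combination (ι y) * hl1 + (ι y) * h2K

end ext

section mat
variable {F K : Type*} [Field F] [Fintype F] [Field K] [Fintype K] {q : ℕ} (ι : F →+* K)
  (s : F) (l : K)

/-- the generator of the torus. -/
def a0 (h2 : (2 : F) = 0) (s : F) : Matrix.SpecialLinearGroup (Fin 2) F :=
  ⟨!![0, 1; 1, s], by rw [Matrix.det_fin_two_of]; simp [neg_eq_self h2]⟩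

/-- the unipotent elements. -/
def ub (c : F) : Matrix.SpecialLinearGroup (Fin 2) F :=
  ⟨!![1, c; 0, 1], by rw [Matrix.det_fin_two_of]; simp⟩

/-- `phi` on vectors. -/
def Phi (v : Fin 2 → F) : K := phi ι l (v 0) (v 1)

variable (hF : Fintype.card F = q) (h2 : (2 : F) = 0) (hl : orderOf l = q + 1)
  (hs : ι s = l + l ^ q) (hq : 4 ≤ q)

include hl hs in
theorem Phi_a0 (v : Fin 2 → F) :
    Phi ι l ((a0 h2 s : Matrix (Fin 2) (Fin 2) F) *ᵥ v) = l * Phi ι l v := by
  have h := phi_step ι s l h2 hl hs (v 0) (v 1)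
  unfold Phi
  rw [← h]
  congr 1
  · simp [a0, Matrix.mulVec, dotProduct, Fin.sum_univ_two]
  · simp [a0, Matrix.mulVec, dotProduct, Fin.sum_univ_two]

include hl hs in
theorem Phi_pow (k : ℕ) (v : Fin 2 → F) :
    Phi ι l (((a0 h2 s ^ k : Matrix.SpecialLinearGroup (Fin 2) F) : Matrix (Fin 2) (Fin 2) F) *ᵥ v)
      = l ^ k * Phi ι l v := by
  induction k with
  | zero => simp
  | succ k ih =>
    rw [pow_succ', Matrix.SpecialLinearGroup.coe_mul, ← Matrix.mulVec_mulVec,
      Phi_a0 ι s l h2 hl hs, ih, pow_succ']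
    ring

theorem Phi_e1 : Phi ι l ![1, 0] = 1 := by
  simp [Phi, phi]

include hl hq hF in
theorem Phi_inj (v w : Fin 2 → F) (h : Phi ι l v = Phi ι l w) : v = w := by
  obtain ⟨h0, h1⟩ := phi_inj ι l hF hl hq _ _ _ _ h
  funext i
  fin_cases i
  · exact h0
  · exact h1

include hl hs hq hF in
theorem trans_N (v : Fin 2 → F) (hv : N s (v 0) (v 1) = 1) :
    ∃ k : ℕ, v = ((a0 h2 s ^ k : Matrix.SpecialLinearGroup (Fin 2) F) :
      Matrix (Fin 2) (Fin 2) F) *ᵥ ![1, 0] := by
  have h1 := phi_norm ι s l hF hl hs (v 0) (v 1)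
  rw [hv, map_one, ← pow_succ'] at h1
  have hprim : IsPrimitiveRoot l (q + 1) := by
    rw [← hl]; exact IsPrimitiveRoot.orderOf l
  obtain ⟨i, -, hi⟩ := hprim.eq_pow_of_pow_eq_one h1
  refine ⟨i, Phi_inj ι l hF hl hq _ _ ?_⟩
  rw [Phi_pow ι s l h2 hl hs, Phi_e1, mul_one, hi]
  rfl

include hl hs hq hF in
theorem orderOf_a0 : orderOf (a0 h2 s) = q + 1 := by
  rw [← hl]
  rw [orderOf_eq_orderOf_iff]
  intro n
  constructor
  · intro h
    have h1 := Phi_pow ι s l h2 hl hs n ![1, 0]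
    rw [h, Phi_e1, mul_one] at h1
    rw [← h1]
    simp [Phi_e1]
  · intro h
    have h1 : ∀ v : Fin 2 → F, ((a0 h2 s ^ n : Matrix.SpecialLinearGroup (Fin 2) F) :
        Matrix (Fin 2) (Fin 2) F) *ᵥ v = v := by
      intro v
      apply Phi_inj ι l hF hl hq
      rw [Phi_pow ι s l h2 hl hs, h, one_mul]
    apply Subtype.ext
    apply Matrix.mulVec_injective
    funext v
    rw [h1 v]
    simp

include hl hs hq hF h2 in
theorem exists_u (g : Matrix.SpecialLinearGroup (Fin 2) F) :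
    ∃ u : Fin 2 → F, N s (u 0) (u 1) = 1 ∧
      N s (((g : Matrix (Fin 2) (Fin 2) F) *ᵥ u) 0) (((g : Matrix (Fin 2) (Fin 2) F) *ᵥ u) 1) = 1 := by
  have hdet : g.1 0 0 * g.1 1 1 - g.1 0 1 * g.1 1 0 = 1 := by
    rw [← Matrix.det_fin_two]; exact g.2
  set a := g.1 0 0
  set b := g.1 0 1
  set c := g.1 1 0
  set d := g.1 1 1
  obtain ⟨m, hm⟩ := exists_sq h2 (1 + N s a c)
  obtain ⟨n, hn⟩ := exists_sq h2 (1 + N s b d)
  -- the key identity
  have key : ∀ x y : F, N s (a * x + b * y) (c * x + d * y) = N s x y + (m * x + n * y) ^ 2 := by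
    intro x y
    unfold N at *
    linear_combination (-(x ^ 2)) * hm + (-(y ^ 2)) * hn + s * x * y * hdet +
      (-x ^ 2 - y ^ 2 + (s * b * c + a * b + c * d - m * n) * x * y) * h2
  -- a nonzero solution of `m x + n y = 0`
  obtain ⟨x₀, y₀, hne, hlin⟩ : ∃ x₀ y₀ : F, ¬ (x₀ = 0 ∧ y₀ = 0) ∧ m * x₀ + n * y₀ = 0 := by
    by_cases hmn : m = 0 ∧ n = 0
    · exact ⟨1, 0, fun h => one_ne_zero h.1, by rw [hmn.1, hmn.2]; ring⟩
    · refine ⟨n, m, fun h => hmn ⟨h.2, h.1⟩, ?_⟩
      linear_combination m * n * h2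
  have hN0 : N s x₀ y₀ ≠ 0 := fun h => hne (aniso ι s l hF hl hs hq x₀ y₀ h)
  obtain ⟨r, hr⟩ := exists_sq h2 (N s x₀ y₀)
  have hr0 : r ≠ 0 := by
    rintro rfl
    apply hN0
    rw [← hr]; ring
  have hscale : ∀ t x y : F, N s (t * x) (t * y) = t ^ 2 * N s x y := by
    intro t x y; unfold N; ring
  refine ⟨![r⁻¹ * x₀, r⁻¹ * y₀], ?_, ?_⟩
  · simp only [Matrix.cons_val_zero, Matrix.cons_val_one]
    rw [hscale, ← hr]
    field_simp
  · have e0 : ((g : Matrix (Fin 2) (Fin 2) F) *ᵥ ![r⁻¹ * x₀, r⁻¹ * y₀]) 0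
        = a * (r⁻¹ * x₀) + b * (r⁻¹ * y₀) := by
      simp [Matrix.mulVec, dotProduct, Fin.sum_univ_two, a, b]
    have e1 : ((g : Matrix (Fin 2) (Fin 2) F) *ᵥ ![r⁻¹ * x₀, r⁻¹ * y₀]) 1
        = c * (r⁻¹ * x₀) + d * (r⁻¹ * y₀) := by
      simp [Matrix.mulVec, dotProduct, Fin.sum_univ_two, c, d]
    rw [e0, e1, key, hscale, ← hr]
    have : m * (r⁻¹ * x₀) + n * (r⁻¹ * y₀) = 0 := by
      linear_combination r⁻¹ * hlin
    rw [this]
    field_simp
    ring

theorem stab_e1 (b : Matrix.SpecialLinearGroup (Fin 2) F)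
    (hb : (b : Matrix (Fin 2) (Fin 2) F) *ᵥ ![1, 0] = ![1, 0]) : b = ub (b.1 0 1) := by
  have h0 : b.1 0 0 = 1 := by
    have := congrFun hb 0
    simpa [Matrix.mulVec, dotProduct, Fin.sum_univ_two] using this
  have h1 : b.1 1 0 = 0 := by
    have := congrFun hb 1
    simpa [Matrix.mulVec, dotProduct, Fin.sum_univ_two] using this
  have hdet : b.1 0 0 * b.1 1 1 - b.1 0 1 * b.1 1 0 = 1 := by
    rw [← Matrix.det_fin_two]; exact b.2
  rw [h0, h1] at hdet
  have h3 : b.1 1 1 = 1 := by linear_combination hdet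
  apply Subtype.ext
  ext i j
  fin_cases i <;> fin_cases j
  · simpa [ub] using h0
  · simp [ub]
  · simpa [ub] using h1
  · simpa [ub] using h3

include hl hs hq hF in
/-- the factorisation in `SL₂`. -/
theorem factor_SL (g : Matrix.SpecialLinearGroup (Fin 2) F) :
    ∃ i j : ℕ, ∃ c : F, g = a0 h2 s ^ j * ub c * (a0 h2 s ^ i)⁻¹ := by
  obtain ⟨u, hu1, hu2⟩ := exists_u ι s l hF h2 hl hs hq g
  obtain ⟨i, hi⟩ := trans_N ι s l hF h2 hl hs hq u hu1
  obtain ⟨j, hj⟩ := trans_N ι s l hF h2 hl hs hq _ hu2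
  have hb : (((a0 h2 s ^ j)⁻¹ * g * a0 h2 s ^ i : Matrix.SpecialLinearGroup (Fin 2) F) :
      Matrix (Fin 2) (Fin 2) F) *ᵥ ![1, 0] = ![1, 0] := by
    rw [Matrix.SpecialLinearGroup.coe_mul, Matrix.SpecialLinearGroup.coe_mul,
      ← Matrix.mulVec_mulVec, ← Matrix.mulVec_mulVec, ← hi, hj, Matrix.mulVec_mulVec,
      ← Matrix.SpecialLinearGroup.coe_mul, inv_mul_cancel]
    simp
  have h3 := stab_e1 _ hb
  refine ⟨i, j, ((a0 h2 s ^ j)⁻¹ * g * a0 h2 s ^ i).1 0 1, ?_⟩
  rw [← h3]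
  group

end mat

section final
variable {F : Type*} [Field F] [Fintype F]

theorem exists_pow_two (h2 : (2 : F) = 0) : ∃ t : ℕ, Fintype.card F = 2 ^ t := by
  haveI : CharP F 2 := CharTwo.of_one_ne_zero_of_two_eq_zero one_ne_zero h2
  haveI : Fact (Nat.Prime 2) := ⟨Nat.prime_two⟩
  obtain ⟨n, -, hn⟩ := FiniteField.card F 2
  exact ⟨n, hn⟩

theorem ub_mul (c c' : F) : ub c * ub c' = ub (c + c') := by
  apply Subtype.ext
  rw [Matrix.SpecialLinearGroup.coe_mul]
  show !![1, c; 0, 1] * !![1, c'; 0, 1] = !![1, c + c'; 0, 1]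
  ext i j
  fin_cases i <;> fin_cases j <;> simp [Matrix.mul_apply, Fin.sum_univ_two, add_comm]

theorem ub_zero : ub (0 : F) = 1 := by
  apply Subtype.ext
  show !![1, (0 : F); 0, 1] = ((1 : Matrix.SpecialLinearGroup (Fin 2) F) : Matrix (Fin 2) (Fin 2) F)
  ext i j
  fin_cases i <;> fin_cases j <;> simp

theorem ub_inj (c c' : F) (h : ub c = ub c') : c = c' := by
  have h1 := congrArg (fun M : Matrix.SpecialLinearGroup (Fin 2) F => M.1 0 1) h
  exact h1

/-- the unipotent subgroup as a homomorphism. -/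
def ubHom : Multiplicative F →* Matrix.SpecialLinearGroup (Fin 2) F where
  toFun c := ub (Multiplicative.toAdd c)
  map_one' := ub_zero
  map_mul' c c' := by
    rw [ub_mul]; rfl

theorem ubHom_injective : Function.Injective (ubHom (F := F)) := by
  intro c c' h
  exact Multiplicative.toAdd.injective (ub_inj _ _ h)

theorem center_eq_bot (h2 : (2 : F) = 0) :
    Subgroup.center (Matrix.SpecialLinearGroup (Fin 2) F) = ⊥ := by
  rw [Subgroup.eq_bot_iff_forall]
  intro x hx
  rw [Matrix.SpecialLinearGroup.mem_center_iff] at hx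
  obtain ⟨r, hr, hx⟩ := hx
  have h3 : (r - 1) ^ 2 = 0 := by
    simp only [Fintype.card_fin] at hr
    linear_combination hr + (1 - r) * h2
  have h4 : r = 1 := by
    have := pow_eq_zero_iff (two_ne_zero) |>.mp h3
    exact sub_eq_zero.mp this
  apply Subtype.ext
  rw [← hx, h4]
  simp

end final

/-- Let F be a finite field with q = 2^t ≥ 4 elements and L = PSL(2,F). Then L has a cyclic subgroup A of order q + 1 and an elementary abelian 2-subgroup B of order q such that L = ABA: every element of L is a product a·b·a' with a, a' ∈ A and b ∈ B. -/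
theorem result {F : Type*} [Field F] [Fintype F]
    (h2 : 2 ∣ Fintype.card F) (h4 : 4 ≤ Fintype.card F) :
    ∃ A B : Subgroup (Matrix.ProjectiveSpecialLinearGroup (Fin 2) F),
      IsCyclic A ∧ Nat.card A = Fintype.card F + 1 ∧ IsMulCommutative B ∧ (∀ b ∈ B, b * b = 1) ∧
        Nat.card B = Fintype.card F ∧
        ∀ g : Matrix.ProjectiveSpecialLinearGroup (Fin 2) F, ∃ a ∈ A, ∃ b ∈ B, ∃ c ∈ A, g = a * b * c := by
  classical
  have h2' : (2 : F) = 0 := two_eq_zero h2
  obtain ⟨t, ht⟩ := exists_pow_two h2'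
  set q := Fintype.card F with hq
  have ht0 : t ≠ 0 := by
    rintro rfl
    rw [ht] at h4; norm_num at h4
  haveI : Fact (Nat.Prime 2) := ⟨Nat.prime_two⟩
  let K := GaloisField 2 (2 * t)
  haveI : Fintype K := Fintype.ofFinite K
  have hK : Fintype.card K = q ^ 2 := by
    rw [← Nat.card_eq_fintype_card, GaloisField.card 2 (2 * t) (by omega), ht, ← pow_mul, mul_comm]
  obtain ⟨ι⟩ := exists_ringHom_of_card_sq (K := K) (F := F) hK rfl
  -- the element of order q + 1
  obtain ⟨ζ, hζ⟩ := IsCyclic.exists_ofOrder_eq_natCard (α := Kˣ)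
  have hcardU : Nat.card Kˣ = q ^ 2 - 1 := by
    rw [Nat.card_eq_fintype_card, Fintype.card_units, hK]
  have hfac : q ^ 2 - 1 = (q - 1) * (q + 1) := by
    have : 1 ≤ q := by omega
    zify [this, Nat.one_le_pow 2 q this]
    ring
  have hordl : orderOf ((ζ ^ (q - 1) : Kˣ) : K) = q + 1 := by
    rw [orderOf_units, orderOf_pow_of_dvd (by omega) (by rw [hζ, hcardU, hfac]; exact dvd_mul_right _ _),
      hζ, hcardU, hfac, Nat.mul_div_cancel_left _ (by omega)]
  set l : K := ((ζ ^ (q - 1) : Kˣ) : K) with hl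
  obtain ⟨s, hs⟩ := exists_trF ι hK rfl l
  -- the projection
  let π := QuotientGroup.mk' (Subgroup.center (Matrix.SpecialLinearGroup (Fin 2) F))
  have hπ : Function.Injective π := by
    rw [← MonoidHom.ker_eq_bot_iff, QuotientGroup.ker_mk', center_eq_bot h2']
  refine ⟨Subgroup.zpowers (π (a0 h2' s)), (π.comp ubHom).range, inferInstance, ?_, ?_, ?_, ?_, ?_⟩
  · rw [Nat.card_zpowers, orderOf_injective π hπ, orderOf_a0 ι s l rfl h2' hordl hs h4]
  · refine ⟨⟨?_⟩⟩
    rintro ⟨x, c, rfl⟩ ⟨y, c', rfl⟩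
    apply Subtype.ext
    show (π.comp ubHom) c * (π.comp ubHom) c' = (π.comp ubHom) c' * (π.comp ubHom) c
    rw [← map_mul, ← map_mul, mul_comm]
  · rintro b ⟨c, rfl⟩
    rw [← map_mul]
    have : c * c = 1 := by
      apply Multiplicative.toAdd.injective
      rw [toAdd_mul, toAdd_one, ← two_mul, h2', zero_mul]
    rw [this, map_one]
  · have hinj : Function.Injective (π.comp ubHom) := hπ.comp ubHom_injective
    rw [← Nat.card_congr (MonoidHom.ofInjective hinj).toEquiv, Nat.card_congr Multiplicative.toAdd,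
      Nat.card_eq_fintype_card]
  · intro g
    obtain ⟨g', rfl⟩ := QuotientGroup.mk'_surjective _ g
    obtain ⟨i, j, c, hg⟩ := factor_SL ι s l rfl h2' hordl hs h4 g'
    refine ⟨π (a0 h2' s ^ j), ?_, π (ub c), ?_, π ((a0 h2' s ^ i)⁻¹), ?_, ?_⟩
    · rw [map_pow]; exact Subgroup.npow_mem_zpowers _ _
    · exact ⟨Multiplicative.ofAdd c, rfl⟩
    · rw [map_inv, map_pow]; exact Subgroup.inv_mem _ (Subgroup.npow_mem_zpowers _ _)
    · rw [← map_mul, ← map_mul, ← hg]

end Cfsg.Agent.S2503
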