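import Mathlib
import Cfsg.Statements.S0802
import Cfsg.Agent.S0228
import Cfsg.Agent.S0805
import Cfsg.Agent.S2503

set_option autoImplicit false
set_option linter.style.haveILetI false

namespace Cfsg.Agent.S0802

open Matrix Pointwise

section abstract
variable {P : Type*} [Group P] (x y w : P)

/-- the Klein four-group on two commuting involutions. -/
def kleinV (hxx : x * x = 1) (hyy : y * y = 1) (hxy : x * y = y * x) : Subgroup P where
  carrier := {1, x, y, x * y}
  one_mem' := by simp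
  mul_mem' := by
    have hxx' : ∀ z, x * (x * z) = z := fun z => by rw [← mul_assoc, hxx, one_mul]
    have hyy' : ∀ z, y * (y * z) = z := fun z => by rw [← mul_assoc, hyy, one_mul]
    have hyx' : ∀ z, y * (x * z) = x * (y * z) := fun z => by
      rw [← mul_assoc, ← hxy, mul_assoc]
    rintro a b (rfl | rfl | rfl | rfl) (rfl | rfl | rfl | rfl) <;>
      simp [mul_assoc, hxx, hyy, hxx', hyy', hyx', ← hxy]
  inv_mem' := by
    have hxi : x⁻¹ = x := inv_eq_of_mul_eq_one_left hxx
    have hyi : y⁻¹ = y := inv_eq_of_mul_eq_one_left hyy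
    rintro a (rfl | rfl | rfl | rfl) <;> simp [hxi, hyi, ← hxy]

variable (hxx : x * x = 1) (hyy : y * y = 1) (hxy : x * y = y * x)

theorem mem_kleinV (z : P) : z ∈ kleinV x y hxx hyy hxy ↔ z = 1 ∨ z = x ∨ z = y ∨ z = x * y := by
  show z ∈ ({1, x, y, x * y} : Set P) ↔ _
  simp

theorem card_kleinV (hx1 : x ≠ 1) (hy1 : y ≠ 1) (hxy' : x ≠ y) :
    Nat.card (kleinV x y hxx hyy hxy) = 4 := by
  classical
  have hcar : ((kleinV x y hxx hyy hxy : Subgroup P) : Set P) = ↑({1, x, y, x * y} : Finset P) := by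
    ext z
    rw [SetLike.mem_coe, mem_kleinV]
    simp
  have h1 : Nat.card (kleinV x y hxx hyy hxy) =
      Nat.card ((kleinV x y hxx hyy hxy : Subgroup P) : Set P) := rfl
  rw [h1, hcar, Nat.card_coe_set_eq, Set.ncard_coe_finset]
  have e1 : x * y ≠ 1 := by
    intro h
    apply hxy'
    have : x * y = x * x := by rw [h, hxx]
    exact (mul_left_cancel this).symm
  have e2 : x * y ≠ x := by
    intro h
    apply hy1
    have : x * y = x * 1 := by rw [h, mul_one]
    exact mul_left_cancel this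
  have e3 : x * y ≠ y := by
    intro h
    apply hx1
    have : x * y = 1 * y := by rw [h, one_mul]
    exact mul_right_cancel this
  rw [Finset.card_insert_of_notMem, Finset.card_insert_of_notMem, Finset.card_insert_of_notMem,
    Finset.card_singleton]
  · simp only [Finset.mem_singleton]; exact e3.symm
  · simp only [Finset.mem_insert, Finset.mem_singleton, not_or]; exact ⟨hxy', e2.symm⟩
  · simp only [Finset.mem_insert, Finset.mem_singleton, not_or]
    exact ⟨hx1.symm, hy1.symm, e1.symm⟩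

include hxx hyy hxy in
/-- recognition of `A₄` from a Klein four-group and an element of order three. -/
theorem A4_of_klein (hx1 : x ≠ 1) (hy1 : y ≠ 1) (hxy' : x ≠ y) (hw3 : w ^ 3 = 1)
    (hwx : w * x * w⁻¹ = y) (hwy : w * y * w⁻¹ = x * y) :
    ∃ H : Subgroup P, Nonempty (H ≃* alternatingGroup (Fin 4)) := by
  classical
  set V := kleinV x y hxx hyy hxy with hV
  have hcV := card_kleinV x y hxx hyy hxy hx1 hy1 hxy'
  have hwxy : w * (x * y) * w⁻¹ = x := by
    have : w * (x * y) * w⁻¹ = (w * x * w⁻¹) * (w * y * w⁻¹) := by group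
    rw [this, hwx, hwy, hxy, ← mul_assoc, hyy, one_mul]
  have hw1 : w ≠ 1 := by
    rintro rfl
    apply hxy'
    simpa using hwx
  have hordw : orderOf w = 3 := by
    have : Fact (Nat.Prime 3) := ⟨Nat.prime_three⟩
    exact orderOf_eq_prime hw3 hw1
  -- `w` normalises `V`
  have hconj : ∀ v, v ∈ V → w * v * w⁻¹ ∈ V := by
    intro v hv
    rw [hV, mem_kleinV] at hv ⊢
    rcases hv with h | h | h | h
    · left; rw [h]; group
    · right; right; left; rw [h]; exact hwx
    · right; right; right; rw [h]; exact hwy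
    · right; left; rw [h]; exact hwxy
  have hconj' : ∀ v, v ∈ V → w⁻¹ * v * w ∈ V := by
    intro v hv
    rw [hV, mem_kleinV] at hv ⊢
    rcases hv with h | h | h | h
    · left; rw [h]; group
    · right; right; right
      rw [h]
      calc w⁻¹ * x * w = w⁻¹ * (w * (x * y) * w⁻¹) * w := by rw [hwxy]
        _ = x * y := by group
    · right; left
      rw [h]
      calc w⁻¹ * y * w = w⁻¹ * (w * x * w⁻¹) * w := by rw [hwx]
        _ = x := by group
    · right; right; left
      rw [h]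
      calc w⁻¹ * (x * y) * w = w⁻¹ * (w * y * w⁻¹) * w := by rw [hwy]
        _ = y := by group
  have hwN : w ∈ Subgroup.normalizer (V : Set P) := by
    rw [Subgroup.mem_normalizer_iff]
    intro v
    constructor
    · exact hconj v
    · intro hv
      have := hconj' _ hv
      have e : w⁻¹ * (w * v * w⁻¹) * w = v := by group
      rwa [e] at this
  have hle : Subgroup.zpowers w ≤ Subgroup.normalizer (V : Set P) := Subgroup.zpowers_le.mpr hwN
  set Hs := Subgroup.zpowers w ⊔ V with hHs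
  have hcoe : (Hs : Set P) = (Subgroup.zpowers w : Set P) * (V : Set P) :=
    Subgroup.coe_mul_of_left_le_normalizer_right _ _ hle
  have hcard_le : Nat.card Hs ≤ 12 := by
    have h1 : Nat.card Hs = Nat.card ((Hs : Set P)) := rfl
    rw [h1, hcoe]
    refine (Set.natCard_mul_le).trans ?_
    have h2 : Nat.card ((Subgroup.zpowers w : Set P)) = 3 := by
      have : Nat.card (Subgroup.zpowers w) = 3 := by rw [Nat.card_zpowers, hordw]
      exact this
    have h3 : Nat.card ((V : Set P)) = 4 := hcV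
    rw [h2, h3]
  have hd3 : 3 ∣ Nat.card Hs := by
    have := Subgroup.card_dvd_of_le (le_sup_left : Subgroup.zpowers w ≤ Hs)
    rwa [Nat.card_zpowers, hordw] at this
  have hd4 : 4 ∣ Nat.card Hs := by
    have := Subgroup.card_dvd_of_le (le_sup_right : V ≤ Hs)
    rwa [hcV] at this
  have hfin : Finite Hs := by
    have : (Hs : Set P).Finite := by
      rw [hcoe]
      have f1 : (Subgroup.zpowers w : Set P).Finite := by
        have : Finite (Subgroup.zpowers w) := Nat.finite_of_card_ne_zero (by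
          rw [Nat.card_zpowers, hordw]; norm_num)
        exact Set.toFinite _
      have f2 : (V : Set P).Finite := by
        have : Finite V := Nat.finite_of_card_ne_zero (by rw [hcV]; norm_num)
        exact Set.toFinite _
      exact f1.mul f2
    exact this
  have hcard : Nat.card Hs = 12 := by
    have hpos : 0 < Nat.card Hs := Nat.card_pos
    have h12 : 12 ∣ Nat.card Hs := by
      have : Nat.Coprime 3 4 := by norm_num
      exact this.mul_dvd_of_dvd_of_dvd hd3 hd4
    obtain ⟨k, hk⟩ := h12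
    omega
  refine ⟨Hs, ?_⟩
  apply Cfsg.Agent.S0228.result hcard
  -- no central involution
  rintro ⟨z, hzH⟩ hz2 hzc
  have hzmem : z ∈ (Subgroup.zpowers w : Set P) * (V : Set P) := by rw [← hcoe]; exact hzH
  obtain ⟨u, hu, v, hv, huv⟩ := Set.mem_mul.mp hzmem
  have hz2' : (u * v) * (u * v) = 1 := by
    have := pow_orderOf_eq_one (⟨z, hzH⟩ : Hs)
    rw [hz2, sq] at this
    rw [huv]
    exact congrArg Subtype.val this
  -- `u ^ 2 ∈ V`
  have huN : u ∈ Subgroup.normalizer (V : Set P) := hle hu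
  have hu2 : u * u ∈ V := by
    have h1 : (u * v) * (u * v) = (u * u) * ((u⁻¹ * v * u) * v) := by group
    have h2 : u⁻¹ * v * u ∈ V := by
      have := (Subgroup.mem_normalizer_iff.mp (Subgroup.inv_mem _ huN)) v
      rw [inv_inv] at this
      exact this.mp hv
    have h3 : (u⁻¹ * v * u) * v ∈ V := V.mul_mem h2 hv
    have h4 : u * u = ((u⁻¹ * v * u) * v)⁻¹ := by
      rw [eq_inv_iff_mul_eq_one, ← h1, hz2']
    rw [h4]
    exact V.inv_mem h3
  -- hence `u = 1`
  have hu1 : u = 1 := by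
    obtain ⟨k, rfl⟩ := Subgroup.mem_zpowers_iff.mp hu
    have h5 : orderOf (w ^ k * w ^ k) ∣ 4 := by
      have := Subgroup.orderOf_dvd_natCard V hu2
      rwa [hcV] at this
    have h6 : orderOf (w ^ k * w ^ k) ∣ 3 := by
      apply orderOf_dvd_of_pow_eq_one
      rw [← _root_.zpow_add, ← zpow_natCast, ← _root_.zpow_mul, mul_comm, _root_.zpow_mul, zpow_natCast, hw3, _root_.one_zpow]
    have h7 : orderOf (w ^ k * w ^ k) = 1 := by
      have := Nat.dvd_gcd h5 h6
      simpa using this
    have h8 : w ^ k * w ^ k = 1 := orderOf_eq_one_iff.mp h7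
    have h9 : (w ^ k) ^ 3 = 1 := by
      rw [← zpow_natCast, ← _root_.zpow_mul, mul_comm, _root_.zpow_mul, zpow_natCast, hw3, _root_.one_zpow]
    calc w ^ k = (w ^ k) ^ 3 * ((w ^ k * w ^ k))⁻¹ := by group
      _ = 1 := by rw [h9, h8]; group
  rw [hu1, one_mul] at huv
  subst huv
  -- `v` is a central involution in `V`
  have hv1 : v ≠ 1 := by
    rintro rfl
    have : orderOf (⟨1, hzH⟩ : Hs) = 1 := orderOf_eq_one_iff.mpr rfl
    rw [this] at hz2
    norm_num at hz2
  have hwH : w ∈ Hs := (le_sup_left : Subgroup.zpowers w ≤ Hs) (Subgroup.mem_zpowers w)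
  have hcomm : w * v * w⁻¹ = v := by
    have := Subgroup.mem_center_iff.mp hzc ⟨w, hwH⟩
    have h1 : w * v = v * w := congrArg Subtype.val this
    rw [h1]; group
  rw [hV, SetLike.mem_coe, mem_kleinV] at hv
  have e1 : x * y ≠ x := by
    intro h
    apply hy1
    have : x * y = x * 1 := by rw [h, mul_one]
    exact mul_left_cancel this
  have e3 : x * y ≠ y := by
    intro h
    apply hx1
    have : x * y = 1 * y := by rw [h, one_mul]
    exact mul_right_cancel this
  rcases hv with h | h | h | h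
  · exact hv1 h
  · rw [h, hwx] at hcomm; exact hxy' hcomm.symm
  · rw [h, hwy] at hcomm; exact e3 hcomm
  · rw [h, hwxy] at hcomm; exact e1 hcomm.symm

end abstract

section odd
variable {F : Type*} [Field F] (a b : F)

/-- the quaternion units and the binary tetrahedral element as matrices. -/
def Imat : Matrix (Fin 2) (Fin 2) F := !![0, 1; -1, 0]
def Jmat : Matrix (Fin 2) (Fin 2) F := !![a, b; b, -a]
def Kmat : Matrix (Fin 2) (Fin 2) F := !![b, -a; -a, -b]
def Amat : Matrix (Fin 2) (Fin 2) F := !![-1 + a + b, 1 + b - a; -1 + b - a, -1 - a - b]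

variable (hab : a ^ 2 + b ^ 2 = -1)

include hab in
theorem A_I : Amat a b * Imat = Kmat a b * Amat a b := by
  ext i j
  fin_cases i <;> fin_cases j <;>
    simp [Amat, Imat, Kmat, Matrix.mul_apply, Fin.sum_univ_two] <;>
    first | ring1 | linear_combination hab | linear_combination -hab

include hab in
theorem A_K : Amat a b * Kmat a b = Jmat a b * Amat a b := by
  ext i j
  fin_cases i <;> fin_cases j <;>
    simp [Amat, Jmat, Kmat, Matrix.mul_apply, Fin.sum_univ_two] <;>
    first | ring1 | linear_combination hab | linear_combination -hab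

include hab in
theorem A_sq : Amat a b * Amat a b =
    (-2 : F) • Amat a b + (-4 : F) • (1 : Matrix (Fin 2) (Fin 2) F) := by
  ext i j
  fin_cases i <;> fin_cases j <;>
    simp [Amat, Matrix.mul_apply, Fin.sum_univ_two] <;>
    first | ring1 | linear_combination 2 * hab | linear_combination -2 * hab

include hab in
theorem K_sq : Kmat a b * Kmat a b = (-1 : F) • (1 : Matrix (Fin 2) (Fin 2) F) := by
  ext i j
  fin_cases i <;> fin_cases j <;>
    simp [Kmat, Matrix.mul_apply, Fin.sum_univ_two] <;>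
    first | ring1 | linear_combination hab | linear_combination -hab

theorem I_sq : (Imat : Matrix (Fin 2) (Fin 2) F) * Imat =
    (-1 : F) • (1 : Matrix (Fin 2) (Fin 2) F) := by
  ext i j
  fin_cases i <;> fin_cases j <;>
    simp [Imat, Matrix.mul_apply, Fin.sum_univ_two]

theorem K_I : Kmat a b * Imat = (-1 : F) • (Imat * Kmat a b) := by
  ext i j
  fin_cases i <;> fin_cases j <;>
    simp [Imat, Kmat, Matrix.mul_apply, Fin.sum_univ_two]

theorem I_K : Imat * Kmat a b = (-1 : F) • Jmat a b := by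
  ext i j
  fin_cases i <;> fin_cases j <;>
    simp [Imat, Kmat, Jmat, Matrix.mul_apply, Fin.sum_univ_two]

/-- the elements of `SL₂`. -/
def Im : Matrix.SpecialLinearGroup (Fin 2) F := ⟨Imat, by simp [Imat, Matrix.det_fin_two]⟩

def Km : Matrix.SpecialLinearGroup (Fin 2) F := ⟨Kmat a b, by
  rw [Kmat, Matrix.det_fin_two_of]; linear_combination -hab⟩

def Jm : Matrix.SpecialLinearGroup (Fin 2) F := ⟨Jmat a b, by
  rw [Jmat, Matrix.det_fin_two_of]; linear_combination -hab⟩

variable (h2 : (2 : F) ≠ 0)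

def Wm : Matrix.SpecialLinearGroup (Fin 2) F := ⟨(2 : F)⁻¹ • Amat a b, by
  rw [Matrix.det_smul, Fintype.card_fin, Amat, Matrix.det_fin_two_of]
  field_simp
  linear_combination -2 * hab⟩

theorem Wm_sq : (Wm a b hab h2).1 * (Wm a b hab h2).1 =
    (-1 : F) • (Wm a b hab h2).1 + (-1 : F) • (1 : Matrix (Fin 2) (Fin 2) F) := by
  show ((2 : F)⁻¹ • Amat a b) * ((2 : F)⁻¹ • Amat a b) = (-1 : F) • ((2 : F)⁻¹ • Amat a b) + _
  rw [Matrix.smul_mul, Matrix.mul_smul, A_sq a b hab, smul_smul]
  ext i j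
  simp only [Matrix.add_apply, Matrix.smul_apply, smul_eq_mul]
  field_simp
  ring

theorem Wm_cube : Wm a b hab h2 ^ 3 = 1 := by
  apply Subtype.ext
  rw [pow_succ, pow_two, Matrix.SpecialLinearGroup.coe_mul, Matrix.SpecialLinearGroup.coe_mul,
    Wm_sq, Matrix.add_mul, Matrix.smul_mul, Matrix.smul_mul, Wm_sq, Matrix.one_mul]
  rw [Matrix.SpecialLinearGroup.coe_one]
  module

theorem Wm_Im : Wm a b hab h2 * Im = Km a b hab * Wm a b hab h2 := by
  apply Subtype.ext
  rw [Matrix.SpecialLinearGroup.coe_mul, Matrix.SpecialLinearGroup.coe_mul]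
  show ((2 : F)⁻¹ • Amat a b) * Imat = Kmat a b * ((2 : F)⁻¹ • Amat a b)
  rw [Matrix.smul_mul, Matrix.mul_smul, A_I a b hab]

theorem Wm_Km : Wm a b hab h2 * Km a b hab = Jm a b hab * Wm a b hab h2 := by
  apply Subtype.ext
  rw [Matrix.SpecialLinearGroup.coe_mul, Matrix.SpecialLinearGroup.coe_mul]
  show ((2 : F)⁻¹ • Amat a b) * Kmat a b = Jmat a b * ((2 : F)⁻¹ • Amat a b)
  rw [Matrix.smul_mul, Matrix.mul_smul, A_K a b hab]

/-- equality in `PSL₂` gives a sign. -/
theorem exists_smul_of_mk_eq (X Y : Matrix.SpecialLinearGroup (Fin 2) F)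
    (h : (QuotientGroup.mk' (Subgroup.center (Matrix.SpecialLinearGroup (Fin 2) F))) X =
      (QuotientGroup.mk' (Subgroup.center (Matrix.SpecialLinearGroup (Fin 2) F))) Y) :
    ∃ r : F, r ^ 2 = 1 ∧ Y.1 = r • X.1 := by
  rw [QuotientGroup.mk'_apply, QuotientGroup.mk'_apply, QuotientGroup.eq,
    Matrix.SpecialLinearGroup.mem_center_iff] at h
  obtain ⟨r, hr, hrr⟩ := h
  refine ⟨r, by simpa using hr, ?_⟩
  have h1 : Y.1 = X.1 * (X⁻¹ * Y).1 := by
    rw [← Matrix.SpecialLinearGroup.coe_mul, mul_inv_cancel_left]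
  rw [h1, ← hrr]
  ext i j
  simp [Matrix.mul_apply, Matrix.scalar_apply, Matrix.diagonal_apply, mul_comm]

include hab h2 in
theorem exists_A4_odd :
    ∃ H : Subgroup (Matrix.ProjectiveSpecialLinearGroup (Fin 2) F),
      Nonempty (H ≃* alternatingGroup (Fin 4)) := by
  set π := QuotientGroup.mk' (Subgroup.center (Matrix.SpecialLinearGroup (Fin 2) F)) with hπ
  have hneg : (-1 : F) ^ 2 = 1 := by ring
  have hxx : π Im * π Im = 1 := by
    rw [← map_mul, ← map_one π]
    exact (Cfsg.Agent.S0805.mk_eq_of_smul 1 (Im * Im) (-1) hneg (by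
      rw [Matrix.SpecialLinearGroup.coe_mul, Matrix.SpecialLinearGroup.coe_one]
      exact I_sq)).symm
  have hyy : π (Km a b hab) * π (Km a b hab) = 1 := by
    rw [← map_mul, ← map_one π]
    exact (Cfsg.Agent.S0805.mk_eq_of_smul 1 (Km a b hab * Km a b hab) (-1) hneg (by
      rw [Matrix.SpecialLinearGroup.coe_mul, Matrix.SpecialLinearGroup.coe_one]
      exact K_sq a b hab)).symm
  have hxy : π Im * π (Km a b hab) = π (Km a b hab) * π Im := by
    rw [← map_mul, ← map_mul]
    exact Cfsg.Agent.S0805.mk_eq_of_smul (Im * Km a b hab) (Km a b hab * Im) (-1) hneg (by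
      rw [Matrix.SpecialLinearGroup.coe_mul, Matrix.SpecialLinearGroup.coe_mul]
      exact K_I a b)
  have hx1 : π Im ≠ 1 := by
    intro h
    rw [← map_one π] at h
    obtain ⟨r, -, hr⟩ := exists_smul_of_mk_eq _ _ h.symm
    have := congrFun (congrFun hr 0) 1
    simp [Im, Imat] at this
  have hy1 : π (Km a b hab) ≠ 1 := by
    intro h
    rw [← map_one π] at h
    obtain ⟨r, -, hr⟩ := exists_smul_of_mk_eq _ _ h.symm
    have e01 := congrFun (congrFun hr 0) 1
    have e00 := congrFun (congrFun hr 0) 0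
    have e11 := congrFun (congrFun hr 1) 1
    simp [Km, Kmat] at e01 e00 e11
    have hb : b = 0 := by
      have : (2 : F) * b = 0 := by linear_combination e00 - e11
      rcases mul_eq_zero.mp this with h | h
      · exact absurd h h2
      · exact h
    rw [e01, hb] at hab
    norm_num at hab
  have hxy' : π Im ≠ π (Km a b hab) := by
    intro h
    obtain ⟨r, hr2, hr⟩ := exists_smul_of_mk_eq _ _ h
    have e01 := congrFun (congrFun hr 0) 1
    have e10 := congrFun (congrFun hr 1) 0
    simp [Km, Kmat, Im, Imat] at e01 e10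
    have hr0 : r = 0 := by
      have : (2 : F) * r = 0 := by linear_combination -e01 - e10
      rcases mul_eq_zero.mp this with h | h
      · exact absurd h h2
      · exact h
    rw [hr0] at hr2
    norm_num at hr2
  have hw3 : π (Wm a b hab h2) ^ 3 = 1 := by
    rw [← map_pow, Wm_cube, map_one]
  have hwx : π (Wm a b hab h2) * π Im * (π (Wm a b hab h2))⁻¹ = π (Km a b hab) := by
    rw [← map_mul, Wm_Im, map_mul, mul_inv_cancel_right]
  have hwy : π (Wm a b hab h2) * π (Km a b hab) * (π (Wm a b hab h2))⁻¹ =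
      π Im * π (Km a b hab) := by
    rw [← map_mul, Wm_Km, map_mul, mul_inv_cancel_right, ← map_mul]
    exact (Cfsg.Agent.S0805.mk_eq_of_smul (Jm a b hab) (Im * Km a b hab) (-1) hneg (by
      rw [Matrix.SpecialLinearGroup.coe_mul]
      exact I_K a b))
  exact A4_of_klein _ _ _ hxx hyy hxy hx1 hy1 hxy' hw3 hwx hwy

end odd

section borel
variable {K : Type*} [Field K] [Fintype K]

/-- the Borel subgroup of `SL₂(K)`. -/
def borel : Subgroup (Matrix.SpecialLinearGroup (Fin 2) K) where
  carrier := {g | g.1 1 0 = 0}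
  one_mem' := by simp
  mul_mem' := by
    intro g g' hg hg'
    simp only [Set.mem_setOf_eq] at hg hg' ⊢
    rw [Matrix.SpecialLinearGroup.coe_mul, Matrix.mul_apply, Fin.sum_univ_two, hg, hg']
    ring
  inv_mem' := by
    intro g hg
    simp only [Set.mem_setOf_eq] at hg ⊢
    rw [Matrix.SpecialLinearGroup.coe_inv, Matrix.adjugate_fin_two]
    simp [hg]

/-- elements of the Borel subgroup. -/
def mkB (u : Kˣ) (c : K) : Matrix.SpecialLinearGroup (Fin 2) K :=
  ⟨!![(u : K), c; 0, ((u⁻¹ : Kˣ) : K)], by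
    rw [Matrix.det_fin_two_of]; simp⟩

theorem mkB_mem (u : Kˣ) (c : K) : mkB u c ∈ borel (K := K) := by
  show (mkB u c).1 1 0 = 0
  simp [mkB]

theorem card_borel (hK : Fintype.card K = 4) : Nat.card (borel (K := K)) = 12 := by
  classical
  have hbij : Function.Bijective (fun p : Kˣ × K => (⟨mkB p.1 p.2, mkB_mem p.1 p.2⟩ : borel (K := K))) := by
    constructor
    · rintro ⟨u, c⟩ ⟨u', c'⟩ h
      have h1 := congrArg (fun g : borel (K := K) => g.1.1 0 0) h
      have h2 := congrArg (fun g : borel (K := K) => g.1.1 0 1) h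
      simp only [mkB, Matrix.of_apply, Matrix.cons_val', Matrix.cons_val_zero, Matrix.cons_val_one,
        Matrix.cons_val_fin_one] at h1 h2
      exact Prod.ext (Units.ext h1) h2
    · rintro ⟨g, hg⟩
      have hg0 : g.1 1 0 = 0 := hg
      have hdet : g.1 0 0 * g.1 1 1 - g.1 0 1 * g.1 1 0 = 1 := by
        rw [← Matrix.det_fin_two]; exact g.2
      rw [hg0, mul_zero, sub_zero] at hdet
      refine ⟨(Units.mkOfMulEqOne _ _ hdet, g.1 0 1), ?_⟩
      apply Subtype.ext
      apply Subtype.ext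
      ext i j
      fin_cases i <;> fin_cases j
      · simp [mkB]
      · simp [mkB]
      · simp [mkB, hg0]
      · have : (g.1 0 0)⁻¹ = g.1 1 1 := by
          have h0 : g.1 0 0 ≠ 0 := left_ne_zero_of_mul_eq_one hdet
          field_simp
          exact hdet.symm
        simp [mkB, this]
  rw [← Nat.card_congr (Equiv.ofBijective _ hbij), Nat.card_prod, Nat.card_eq_fintype_card,
    Nat.card_eq_fintype_card, Fintype.card_units, hK]

theorem borel_no_central_involution (hK : Fintype.card K = 4) (z : borel (K := K))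
    (hz2 : orderOf z = 2) : z ∉ Subgroup.center (borel (K := K)) := by
  classical
  intro hzc
  have h2 : (2 : K) = 0 := Cfsg.Agent.S2503.two_eq_zero (by rw [hK]; norm_num)
  have hneg : ∀ t : K, -t = t := Cfsg.Agent.S2503.neg_eq_self h2
  obtain ⟨⟨g, hg⟩, rfl⟩ : ∃ g' : borel (K := K), g' = z := ⟨z, rfl⟩
  have hg0 : g.1 1 0 = 0 := hg
  have hdet : g.1 0 0 * g.1 1 1 - g.1 0 1 * g.1 1 0 = 1 := by
    rw [← Matrix.det_fin_two]; exact g.2
  rw [hg0, mul_zero, sub_zero] at hdet
  have hgg : g * g = 1 := by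
    have := pow_orderOf_eq_one (⟨g, hg⟩ : borel (K := K))
    rw [hz2, sq] at this
    exact congrArg Subtype.val this
  have h00 : g.1 0 0 * g.1 0 0 = 1 := by
    have := congrArg (fun m : Matrix.SpecialLinearGroup (Fin 2) K => m.1 0 0) hgg
    simp only [Matrix.SpecialLinearGroup.coe_mul, Matrix.mul_apply, Fin.sum_univ_two, hg0,
      mul_zero, add_zero, Matrix.SpecialLinearGroup.coe_one, Matrix.one_apply_eq] at this
    exact this
  have ha : g.1 0 0 = 1 := by
    have : (g.1 0 0 - 1) ^ 2 = 0 := by linear_combination h00 + (1 - g.1 0 0) * h2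
    have := pow_eq_zero_iff (two_ne_zero) |>.mp this
    exact sub_eq_zero.mp this
  have hd : g.1 1 1 = 1 := by rw [ha, one_mul] at hdet; exact hdet
  -- an element `ω ≠ 1`
  obtain ⟨ω, hω⟩ : ∃ ω : Kˣ, ω ≠ 1 := by
    have : 1 < Fintype.card Kˣ := by rw [Fintype.card_units, hK]; norm_num
    obtain ⟨ω, hω⟩ := Fintype.exists_ne_of_one_lt_card this 1
    exact ⟨ω, hω⟩
  have hcomm := Subgroup.mem_center_iff.mp hzc ⟨mkB ω 0, mkB_mem ω 0⟩
  have hcomm' : mkB ω 0 * g = g * mkB ω 0 := congrArg Subtype.val hcomm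
  have hmk : (mkB ω 0).1 = !![(ω : K), 0; 0, ((ω⁻¹ : Kˣ) : K)] := rfl
  have e01 : (ω : K) * g.1 0 1 = g.1 0 1 * ((ω⁻¹ : Kˣ) : K) := by
    have e := congrArg (fun m : Matrix.SpecialLinearGroup (Fin 2) K => m.1 0 1) hcomm'
    simp only [Matrix.SpecialLinearGroup.coe_mul, Matrix.mul_apply, Fin.sum_univ_two, hmk,
      Matrix.of_apply, Matrix.cons_val', Matrix.cons_val_zero, Matrix.cons_val_one,
      Matrix.cons_val_fin_one, ha, hd] at e
    simpa using e
  -- `g 0 1 ≠ 0`
  have hb : g.1 0 1 ≠ 0 := by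
    intro hb
    have : g = 1 := by
      apply Subtype.ext
      ext i j
      fin_cases i <;> fin_cases j
      · simpa using ha
      · simpa using hb
      · simpa using hg0
      · simpa using hd
    have h1 : orderOf (⟨g, hg⟩ : borel (K := K)) = 1 := by
      rw [orderOf_eq_one_iff]
      exact Subtype.ext this
    rw [h1] at hz2
    norm_num at hz2
  have hω2 : (ω : K) * ω = 1 := by
    have h3 : (ω : K) * g.1 0 1 = g.1 0 1 * ((ω⁻¹ : Kˣ) : K) := e01
    have h4 : ((ω⁻¹ : Kˣ) : K) * ω = 1 := by simp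
    have : g.1 0 1 * ((ω : K) * ω) = g.1 0 1 * 1 := by
      calc g.1 0 1 * ((ω : K) * ω) = ((ω : K) * g.1 0 1) * ω := by ring
        _ = g.1 0 1 * (((ω⁻¹ : Kˣ) : K) * ω) := by rw [h3]; ring
        _ = g.1 0 1 * 1 := by rw [h4]
    exact mul_left_cancel₀ hb this
  apply hω
  apply Units.ext
  have : ((ω : K) - 1) ^ 2 = 0 := by linear_combination hω2 + (1 - (ω : K)) * h2
  have := pow_eq_zero_iff (two_ne_zero) |>.mp this
  simpa using sub_eq_zero.mp this

end borel

section even
variable {F : Type*} [Field F] [Fintype F]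

theorem exists_A4_even (m : ℕ) (hm : 1 ≤ m) (hF : Fintype.card F = 4 ^ m) :
    ∃ H : Subgroup (Matrix.ProjectiveSpecialLinearGroup (Fin 2) F),
      Nonempty (H ≃* alternatingGroup (Fin 4)) := by
  classical
  haveI : Fact (Nat.Prime 2) := ⟨Nat.prime_two⟩
  haveI : Fintype (GaloisField 2 2) := Fintype.ofFinite _
  have hK : Fintype.card (GaloisField 2 2) = 4 := by
    rw [← Nat.card_eq_fintype_card, GaloisField.card 2 2 (by norm_num)]; norm_num
  obtain ⟨ι⟩ := Cfsg.Agent.S0805.exists_ringHom_of_card_pow (K := GaloisField 2 2) (F := F)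
    (m := m) hm (by rw [hK, hF])
  have h2 : (2 : GaloisField 2 2) = 0 := Cfsg.Agent.S2503.two_eq_zero (by rw [hK]; norm_num)
  haveI : Finite (borel (K := GaloisField 2 2)) := inferInstance
  obtain ⟨e⟩ := Cfsg.Agent.S0228.result (card_borel hK) (borel_no_central_involution hK)
  have hinj : Function.Injective ((Cfsg.Agent.S0805.psi ι).comp
      (borel (K := GaloisField 2 2)).subtype) := by
    rw [← MonoidHom.ker_eq_bot_iff, Subgroup.eq_bot_iff_forall]
    intro x hx
    rw [MonoidHom.mem_ker, MonoidHom.comp_apply] at hx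
    have hx' : (x : Matrix.SpecialLinearGroup (Fin 2) (GaloisField 2 2)) ∈
        (Cfsg.Agent.S0805.psi ι).ker := hx
    rw [Cfsg.Agent.S0805.ker_psi, Cfsg.Agent.S2503.center_eq_bot h2, Subgroup.mem_bot] at hx'
    exact Subtype.ext hx'
  refine ⟨((Cfsg.Agent.S0805.psi ι).comp (borel (K := GaloisField 2 2)).subtype).range, ?_⟩
  exact ⟨(MonoidHom.ofInjective hinj).symm.trans e⟩

end even

section nonexist
variable {F : Type*} [Field F] [Fintype F]

open Cfsg.Agent.S2503 in
theorem ub_coe (c : F) : (ub c).1 = !![1, c; 0, 1] := rfl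

open Cfsg.Agent.S2503 in
/-- in characteristic 2 an involution of `SL₂(F)` is conjugate to a unipotent upper triangular
matrix. -/
theorem conj_ub (h2 : (2 : F) = 0) (X : Matrix.SpecialLinearGroup (Fin 2) F) (hX : X * X = 1) :
    ∃ Q : Matrix.SpecialLinearGroup (Fin 2) F, ∃ c : F, Q⁻¹ * X * Q = ub c := by
  have hneg : ∀ t : F, -t = t := neg_eq_self h2
  have hdet : X.1 0 0 * X.1 1 1 - X.1 0 1 * X.1 1 0 = 1 := by
    rw [← Matrix.det_fin_two]; exact X.2
  have e00 := congrArg (fun m : Matrix.SpecialLinearGroup (Fin 2) F => m.1 0 0) hX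
  have e11 := congrArg (fun m : Matrix.SpecialLinearGroup (Fin 2) F => m.1 1 1) hX
  simp only [Matrix.SpecialLinearGroup.coe_mul, Matrix.mul_apply, Fin.sum_univ_two,
    Matrix.SpecialLinearGroup.coe_one, Matrix.one_apply_eq] at e00 e11
  have had : X.1 0 0 = X.1 1 1 := by
    have h : (X.1 0 0 + X.1 1 1) ^ 2 = 0 := by
      linear_combination e00 - e11 + (X.1 1 1 ^ 2 + X.1 0 0 * X.1 1 1) * h2
    have h' := pow_eq_zero_iff (two_ne_zero) |>.mp h
    rw [← hneg (X.1 1 1)]
    linear_combination h'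
  by_cases hc : X.1 1 0 = 0
  · refine ⟨1, X.1 0 1, ?_⟩
    rw [inv_one, one_mul, mul_one]
    rw [hc, mul_zero, add_zero] at e00
    have ha : X.1 0 0 = 1 := by
      have h : (X.1 0 0 - 1) ^ 2 = 0 := by linear_combination e00 + (1 - X.1 0 0) * h2
      have h' := pow_eq_zero_iff (two_ne_zero) |>.mp h
      exact sub_eq_zero.mp h'
    apply Subtype.ext
    rw [ub_coe]
    ext i j
    fin_cases i <;> fin_cases j
    · simpa using ha
    · simp
    · simpa using hc
    · simpa using (had.symm.trans ha)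
  · set Q : Matrix.SpecialLinearGroup (Fin 2) F :=
      ⟨!![X.1 0 0 + 1, (X.1 1 0)⁻¹; X.1 1 0, 0], by
        rw [Matrix.det_fin_two_of, mul_zero, zero_sub, inv_mul_cancel₀ hc, hneg]⟩ with hQ
    have hQe : Q.1 *ᵥ ![1, 0] = ![X.1 0 0 + 1, X.1 1 0] := by
      rw [hQ]
      ext i
      fin_cases i <;> simp [Matrix.mulVec, dotProduct, Fin.sum_univ_two]
    have hXv : X.1 *ᵥ ![X.1 0 0 + 1, X.1 1 0] = ![X.1 0 0 + 1, X.1 1 0] := by
      ext i
      fin_cases i
      · simp only [Matrix.mulVec, dotProduct, Fin.sum_univ_two, Fin.zero_eta, Fin.isValue,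
          Matrix.cons_val_zero, Matrix.cons_val_one]
        linear_combination e00
      · simp only [Matrix.mulVec, dotProduct, Fin.sum_univ_two, Fin.mk_one, Fin.isValue,
          Matrix.cons_val_zero, Matrix.cons_val_one]
        rw [← had]
        linear_combination (X.1 1 0 * X.1 0 0) * h2
    have hb : ((Q⁻¹ * X * Q : Matrix.SpecialLinearGroup (Fin 2) F) :
        Matrix (Fin 2) (Fin 2) F) *ᵥ ![1, 0] = ![1, 0] := by
      rw [Matrix.SpecialLinearGroup.coe_mul, Matrix.SpecialLinearGroup.coe_mul,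
        ← Matrix.mulVec_mulVec, ← Matrix.mulVec_mulVec, hQe, hXv, ← hQe, Matrix.mulVec_mulVec,
        ← Matrix.SpecialLinearGroup.coe_mul, inv_mul_cancel]
      simp
    exact ⟨Q, _, stab_e1 _ hb⟩

theorem cube_root_one (n : ℕ) (hn : Odd n) (hF : Fintype.card F = 2 ^ n) (a : F) (ha : a ^ 3 = 1) :
    a = 1 := by
  have ha0 : a ≠ 0 := by
    rintro rfl
    simp at ha
  have h1 := FiniteField.pow_card_sub_one_eq_one a ha0
  obtain ⟨k, rfl⟩ := hn
  have h4 : 4 ^ k % 3 = 1 := by
    rw [Nat.pow_mod]; norm_num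
  have h5 : 2 ^ (2 * k + 1) - 1 = 3 * (2 * (4 ^ k / 3)) + 1 := by
    have := Nat.div_add_mod (4 ^ k) 3
    rw [h4] at this
    have e : 2 ^ (2 * k + 1) = 2 * 4 ^ k := by
      rw [pow_succ, pow_mul]; norm_num [mul_comm]
    omega
  rw [hF, h5, pow_succ, pow_mul, ha, one_pow, one_mul] at h1
  exact h1

open Cfsg.Agent.S2503 in
theorem no_A4_ub (h2 : (2 : F) = 0) (n : ℕ) (hn : Odd n) (hF : Fintype.card F = 2 ^ n)
    (c : F) (hc0 : c ≠ 0) (G : Matrix.SpecialLinearGroup (Fin 2) F) (hG3 : G * G * G = 1)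
    (hG1 : G ≠ 1) (hc : ub c * (G * ub c * G⁻¹) = (G * ub c * G⁻¹) * ub c) : False := by
  have hneg : ∀ t : F, -t = t := neg_eq_self h2
  set Y := G * ub c * G⁻¹ with hYdef
  have hY : Y * G = G * ub c := by rw [hYdef]; group
  have hdetY : Y.1 0 0 * Y.1 1 1 - Y.1 0 1 * Y.1 1 0 = 1 := by
    rw [← Matrix.det_fin_two]; exact Y.2
  have hdetG : G.1 0 0 * G.1 1 1 - G.1 0 1 * G.1 1 0 = 1 := by
    rw [← Matrix.det_fin_two]; exact G.2
  have c00 := congrArg (fun m : Matrix.SpecialLinearGroup (Fin 2) F => m.1 0 0) hc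
  have c01 := congrArg (fun m : Matrix.SpecialLinearGroup (Fin 2) F => m.1 0 1) hc
  have y11 := congrArg (fun m : Matrix.SpecialLinearGroup (Fin 2) F => m.1 1 1) hY
  simp only [Matrix.SpecialLinearGroup.coe_mul, Matrix.mul_apply, Fin.sum_univ_two, ub_coe,
    Matrix.of_apply, Matrix.cons_val', Matrix.cons_val_zero, Matrix.cons_val_one,
    Matrix.cons_val_fin_one] at c00 c01 y11
  have hY10 : Y.1 1 0 = 0 := by
    have : c * Y.1 1 0 = 0 := by linear_combination c00
    exact (mul_eq_zero.mp this).resolve_left hc0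
  have hY11 : Y.1 1 1 = Y.1 0 0 := by
    have : c * (Y.1 1 1 - Y.1 0 0) = 0 := by linear_combination c01
    exact sub_eq_zero.mp ((mul_eq_zero.mp this).resolve_left hc0)
  have hY00 : Y.1 0 0 = 1 := by
    rw [hY10, hY11, mul_zero, sub_zero] at hdetY
    have h : (Y.1 0 0 - 1) ^ 2 = 0 := by linear_combination hdetY + (1 - Y.1 0 0) * h2
    have h' := pow_eq_zero_iff (two_ne_zero) |>.mp h
    exact sub_eq_zero.mp h'
  have hG10 : G.1 1 0 = 0 := by
    rw [hY10, hY11, hY00] at y11
    have : c * G.1 1 0 = 0 := by linear_combination -y11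
    exact (mul_eq_zero.mp this).resolve_left hc0
  have g00 := congrArg (fun m : Matrix.SpecialLinearGroup (Fin 2) F => m.1 0 0) hG3
  simp only [Matrix.SpecialLinearGroup.coe_mul, Matrix.mul_apply, Fin.sum_univ_two, hG10,
    Matrix.SpecialLinearGroup.coe_one, Matrix.one_apply_eq, mul_zero, add_zero] at g00
  have hG00 : G.1 0 0 = 1 := cube_root_one n hn hF _ (by linear_combination g00)
  rw [hG00, hG10, mul_zero, sub_zero, one_mul] at hdetG
  have hGub : G = ub (G.1 0 1) := by
    apply Subtype.ext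
    rw [ub_coe]
    ext i j
    fin_cases i <;> fin_cases j
    · simpa using hG00
    · simp
    · simpa using hG10
    · simpa using hdetG
  have hGG : G * G = 1 := by
    rw [hGub, ub_mul, ← two_mul, h2, zero_mul, ub_zero]
  rw [hGG, one_mul] at hG3
  exact hG1 hG3

theorem no_A4_aux (h2 : (2 : F) = 0) (n : ℕ) (hn : Odd n) (hF : Fintype.card F = 2 ^ n)
    (X G : Matrix.SpecialLinearGroup (Fin 2) F) (hX : X * X = 1) (hX1 : X ≠ 1)
    (hG3 : G * G * G = 1) (hG1 : G ≠ 1)
    (hc : X * (G * X * G⁻¹) = (G * X * G⁻¹) * X) : False := by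
  obtain ⟨Q, c, hQ⟩ := conj_ub h2 X hX
  have hXQ : X = Q * Cfsg.Agent.S2503.ub c * Q⁻¹ := by rw [← hQ]; group
  apply no_A4_ub h2 n hn hF c ?_ (Q⁻¹ * G * Q)
  · have : (Q⁻¹ * G * Q) * (Q⁻¹ * G * Q) * (Q⁻¹ * G * Q) = Q⁻¹ * (G * G * G) * Q := by group
    rw [this, hG3]; group
  · intro h
    apply hG1
    have : G = Q * (Q⁻¹ * G * Q) * Q⁻¹ := by group
    rw [this, h]; group
  · rw [hXQ] at hc
    have e1 : Cfsg.Agent.S2503.ub c * (Q⁻¹ * G * Q * Cfsg.Agent.S2503.ub c * (Q⁻¹ * G * Q)⁻¹)
        = Q⁻¹ * (Q * Cfsg.Agent.S2503.ub c * Q⁻¹ *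
          (G * (Q * Cfsg.Agent.S2503.ub c * Q⁻¹) * G⁻¹)) * Q := by group
    have e2 : (Q⁻¹ * G * Q * Cfsg.Agent.S2503.ub c * (Q⁻¹ * G * Q)⁻¹) * Cfsg.Agent.S2503.ub c
        = Q⁻¹ * ((G * (Q * Cfsg.Agent.S2503.ub c * Q⁻¹) * G⁻¹) *
          (Q * Cfsg.Agent.S2503.ub c * Q⁻¹)) * Q := by group
    rw [e1, e2, hc]
  · rintro rfl
    apply hX1
    rw [hXQ, Cfsg.Agent.S2503.ub_zero]; group

end nonexist

theorem A4_elements : ∃ x g : alternatingGroup (Fin 4), x * x = 1 ∧ x ≠ 1 ∧ g * g * g = 1 ∧ g ≠ 1 ∧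
    x * (g * x * g⁻¹) = (g * x * g⁻¹) * x :=
  ⟨⟨Equiv.swap 0 1 * Equiv.swap 2 3, Equiv.Perm.mem_alternatingGroup.mpr (by decide)⟩,
    ⟨Equiv.swap 0 1 * Equiv.swap 1 2, Equiv.Perm.mem_alternatingGroup.mpr (by decide)⟩,
    by decide, by decide, by decide, by decide, by decide⟩

/-- PSL_2(p^n) has a subgroup isomorphic to A_4 if and only if it is not the case that p = 2 and n is odd. -/
theorem result {F : Type*} [Field F] [Fintype F] (p n : ℕ) [Fact p.Prime] [CharP F p] (hF : Fintype.card F = p ^ n) : (∃ H : Subgroup (Matrix.ProjectiveSpecialLinearGroup (Fin 2) F), Nonempty (H ≃* alternatingGroup (Fin 4))) ↔ ¬ (p = 2 ∧ Odd n) := by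
  classical
  have hp : p.Prime := Fact.out
  constructor
  · rintro ⟨H, ⟨e⟩⟩ ⟨hp2, hn⟩
    subst hp2
    have h2 : (2 : F) = 0 := Cfsg.Agent.S2503.two_eq_zero (by
      rw [hF]; exact dvd_pow_self 2 hn.pos.ne')
    have hcen := Cfsg.Agent.S2503.center_eq_bot h2
    set π := QuotientGroup.mk' (Subgroup.center (Matrix.SpecialLinearGroup (Fin 2) F)) with hπ
    have hπinj : Function.Injective π := by
      rw [← MonoidHom.ker_eq_bot_iff, hπ, QuotientGroup.ker_mk', hcen]
    have hπsurj : Function.Surjective π := QuotientGroup.mk'_surjective _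
    -- the elements of `A₄`
    obtain ⟨x, g, hxx, hx1, hg3, hg1, hcomm⟩ := A4_elements
    -- pull back to `H`, then to `PSL₂`, then to `SL₂`
    obtain ⟨X, hX⟩ := hπsurj ((e.symm x : H) : Matrix.ProjectiveSpecialLinearGroup (Fin 2) F)
    obtain ⟨G, hG⟩ := hπsurj ((e.symm g : H) : Matrix.ProjectiveSpecialLinearGroup (Fin 2) F)
    have key : ∀ a : alternatingGroup (Fin 4),
        ∀ A : Matrix.SpecialLinearGroup (Fin 2) F,
        π A = ((e.symm a : H) : Matrix.ProjectiveSpecialLinearGroup (Fin 2) F) →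
        (A = 1 ↔ a = 1) := by
      intro a A hA
      constructor
      · intro h
        rw [h, map_one] at hA
        have : (e.symm a : H) = 1 := Subtype.ext hA.symm
        exact e.symm.injective (by rw [this, map_one])
      · intro h
        apply hπinj
        rw [hA, h, map_one, map_one]; rfl
    have hXX : X * X = 1 := by
      apply (key (x * x) (X * X) ?_).mpr hxx
      rw [map_mul, map_mul, hX]; rfl
    have hX1 : X ≠ 1 := fun h => hx1 ((key x X hX).mp h)
    have hG3 : G * G * G = 1 := by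
      apply (key (g * g * g) (G * G * G) ?_).mpr hg3
      rw [map_mul, map_mul, map_mul, map_mul, hG]; rfl
    have hG1 : G ≠ 1 := fun h => hg1 ((key g G hG).mp h)
    have hc : X * (G * X * G⁻¹) = (G * X * G⁻¹) * X := by
      apply hπinj
      have e1 : π (X * (G * X * G⁻¹)) =
          ((e.symm (x * (g * x * g⁻¹)) : H) : Matrix.ProjectiveSpecialLinearGroup (Fin 2) F) := by
        simp only [map_mul, map_inv, hX, hG]; rfl
      have e2 : π ((G * X * G⁻¹) * X) =
          ((e.symm ((g * x * g⁻¹) * x) : H) : Matrix.ProjectiveSpecialLinearGroup (Fin 2) F) := by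
        simp only [map_mul, map_inv, hX, hG]; rfl
      rw [e1, e2, hcomm]
    exact no_A4_aux h2 n hn hF X G hXX hX1 hG3 hG1 hc
  · intro h
    by_cases hp2 : p = 2
    · have hn : ¬ Odd n := fun hn => h ⟨hp2, hn⟩
      rw [Nat.not_odd_iff_even] at hn
      obtain ⟨m, hm⟩ := hn
      have hm1 : 1 ≤ m := by
        rcases Nat.eq_zero_or_pos m with h0 | h0
        · exfalso
          rw [hm, h0, pow_zero] at hF
          have := Fintype.one_lt_card (α := F)
          omega
        · exact h0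
      apply exists_A4_even m hm1
      rw [hF, hp2, hm, ← two_mul, pow_mul]; norm_num
    · have h2 : (2 : F) ≠ 0 := by
        intro h2
        have : ((2 : ℕ) : F) = 0 := by exact_mod_cast h2
        rw [CharP.cast_eq_zero_iff F p 2] at this
        exact hp2 ((Nat.prime_dvd_prime_iff_eq hp Nat.prime_two).mp this)
      obtain ⟨a, b, hab⟩ := ZMod.sq_add_sq p (-1)
      let ι : ZMod p →+* F := ZMod.castHom (dvd_refl p) F
      have hab' : (ι a) ^ 2 + (ι b) ^ 2 = -1 := by
        rw [← map_pow, ← map_pow, ← map_add, hab, map_neg, map_one]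
      exact exists_A4_odd (ι a) (ι b) hab' h2

end Cfsg.Agent.S0802
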