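import Mathlib
import Cfsg.Statements.S0804
import Cfsg.Agent.Helper13.A5Pres
import Cfsg.Agent.Helper13.FqExt
import Cfsg.Agent.S0802
import Cfsg.Agent.S0805

set_option autoImplicit false
set_option linter.style.haveILetI false

namespace Cfsg.Agent.S0804

open Matrix

section tau
variable {F : Type*} [Field F] [Fintype F]

/-- if `5 ∣ q² - 1` the golden ratio lies in `F`. -/
theorem exists_tau (h : 5 ∣ Fintype.card F ^ 2 - 1) : ∃ t : F, t ^ 2 = t + 1 := by
  classical
  set q := Fintype.card F with hq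
  obtain ⟨p, hp⟩ := CharP.exists F
  haveI : CharP F p := hp
  haveI : Fact p.Prime := ⟨CharP.char_is_prime F p⟩
  obtain ⟨n, -, hn⟩ := FiniteField.card F p
  let K := GaloisField p (2 * n)
  haveI : Fintype K := Fintype.ofFinite K
  have hK : Fintype.card K = q ^ 2 := by
    rw [← Nat.card_eq_fintype_card, GaloisField.card p (2 * n) (by positivity), hq, hn, ← pow_mul,
      mul_comm]
  obtain ⟨ι⟩ := Cfsg.Agent.Helper13.exists_ringHom_of_card_sq (K := K) (F := F) hK rfl
  haveI : Fact (Nat.Prime 5) := ⟨by norm_num⟩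
  have h5 : 5 ∣ Fintype.card Kˣ := by rw [Fintype.card_units, hK]; exact h
  obtain ⟨ζ, hζ⟩ := exists_prime_orderOf_dvd_card 5 h5
  set u : K := (ζ : K) with hu
  have hu5 : u ^ 5 = 1 := by
    have := pow_orderOf_eq_one ζ
    rw [hζ] at this
    rw [hu, ← Units.val_pow_eq_pow_val, this, Units.val_one]
  have hu1 : u ≠ 1 := by
    intro h1
    have : ζ = 1 := Units.ext h1
    rw [this, orderOf_one] at hζ
    norm_num at hζ
  have hsum : u ^ 4 + u ^ 3 + u ^ 2 + u + 1 = 0 := by
    have : (u - 1) * (u ^ 4 + u ^ 3 + u ^ 2 + u + 1) = 0 := by linear_combination hu5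
    exact (mul_eq_zero.mp this).resolve_left (sub_ne_zero.mpr hu1)
  set c : K := u + u ^ 4 with hc
  have hc2 : c ^ 2 + c - 1 = 0 := by
    rw [hc]; linear_combination hsum + (2 + u ^ 3) * hu5
  have hq5 : q % 5 = 1 ∨ q % 5 = 4 := by
    have h1 : 1 ≤ q ^ 2 := Nat.one_le_pow _ _ (by rw [hq]; exact Fintype.card_pos)
    have h2 : q ^ 2 % 5 = 1 := by omega
    rw [Nat.pow_mod] at h2
    have h3 : q % 5 < 5 := Nat.mod_lt _ (by norm_num)
    interval_cases (q % 5) <;> simp_all
  have hcq : c ^ q = c := by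
    rw [hc, Cfsg.Agent.Helper13.add_pow_card_of_ringHom ι rfl, ← pow_mul,
      pow_eq_pow_mod q hu5, pow_eq_pow_mod (4 * q) hu5]
    rcases hq5 with h1 | h4
    · have : (4 * q) % 5 = 4 := by omega
      rw [h1, this, pow_one]
    · have : (4 * q) % 5 = 1 := by omega
      rw [h4, this, pow_one, add_comm]
  obtain ⟨x, hx⟩ := Cfsg.Agent.Helper13.exists_of_pow_card_eq ι rfl c hcq
  refine ⟨-x, ?_⟩
  apply ι.injective
  rw [map_pow, map_add, map_neg, map_one, hx]
  linear_combination hc2

theorem exists_tau_five (h : 5 ∣ Fintype.card F) : ∃ t : F, t ^ 2 = t + 1 := by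
  have h5 : (5 : F) = 0 := by
    obtain ⟨p, hp⟩ := CharP.exists F
    haveI : CharP F p := hp
    have hpp : p.Prime := CharP.char_is_prime F p
    haveI : Fact p.Prime := ⟨hpp⟩
    obtain ⟨n, -, hn⟩ := FiniteField.card F p
    rw [hn] at h
    have h5p : 5 ∣ p := (by norm_num : Nat.Prime 5).dvd_of_dvd_pow h
    have : 5 = p := (Nat.prime_dvd_prime_iff_eq (by norm_num) hpp).mp h5p
    subst this
    exact_mod_cast CharP.cast_eq_zero F 5
  exact ⟨3, by linear_combination h5⟩

end tau

section mats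
variable {F : Type*} [Field F]

theorem sq_of_det (M : Matrix (Fin 2) (Fin 2) F) (hdet : M.det = 1) :
    M * M = (M 0 0 + M 1 1) • M - 1 := by
  rw [Matrix.det_fin_two] at hdet
  ext i j
  fin_cases i <;> fin_cases j <;>
    simp [Matrix.mul_apply, Fin.sum_univ_two] <;>
    first | linear_combination hdet | linear_combination -hdet | ring1

theorem pow_five_eq (M : Matrix (Fin 2) (Fin 2) F) (t : F) (ht : t ^ 2 = t + 1)
    (h2 : M * M = t • M - 1) : M ^ 5 = -1 := by
  have h3 : M * M * M = t • M - t • (1 : Matrix (Fin 2) (Fin 2) F) := by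
    rw [h2, sub_mul, smul_mul_assoc, one_mul, h2]
    ext i j
    simp only [Matrix.sub_apply, Matrix.smul_apply, smul_eq_mul, Matrix.one_apply]
    split_ifs <;> linear_combination (M i j) * ht
  have h5 : M ^ 5 = (M * M * M) * (M * M) := by
    simp only [pow_succ, pow_zero, one_mul, mul_assoc]
  rw [h5, h3, h2]
  simp only [sub_mul, mul_sub, smul_mul_assoc, mul_smul_comm, one_mul, mul_one, h2]
  ext i j
  simp only [Matrix.sub_apply, Matrix.smul_apply, smul_eq_mul, Matrix.one_apply, Matrix.neg_apply]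
  split_ifs
  · linear_combination (t * M i j - 1) * ht
  · linear_combination (t * M i j) * ht

theorem pow_three_eq (M : Matrix (Fin 2) (Fin 2) F)
    (h2 : M * M = (1 : F) • M - 1) : M ^ 3 = -1 := by
  have h3 : M ^ 3 = (M * M) * M := by
    simp only [pow_succ, pow_zero, one_mul]
  rw [h3, h2, one_smul, sub_mul, one_mul, h2, one_smul]
  abel

open Cfsg.Agent.S0802 in
/-- an element `Z` of `SL₂(F)` of trace `τ` with `Z₁₀ - Z₀₁ = 1` gives a copy of `A₅`. -/
theorem exists_A5_of (Z : Matrix.SpecialLinearGroup (Fin 2) F) (t : F) (ht : t ^ 2 = t + 1)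
    (htr : Z.1 0 0 + Z.1 1 1 = t) (h1 : Z.1 1 0 - Z.1 0 1 = 1) :
    ∃ H : Subgroup (Matrix.ProjectiveSpecialLinearGroup (Fin 2) F),
      Nonempty (H ≃* alternatingGroup (Fin 5)) := by
  set π := QuotientGroup.mk' (Subgroup.center (Matrix.SpecialLinearGroup (Fin 2) F)) with hπ
  have hneg : (-1 : F) ^ 2 = 1 := by ring
  have hone : ∀ A : Matrix.SpecialLinearGroup (Fin 2) F, A.1 = -1 → π A = 1 := by
    intro A hA
    rw [← map_one π]
    exact (Cfsg.Agent.S0805.mk_eq_of_smul 1 A (-1) hneg (by rw [hA]; simp)).symm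
  apply Cfsg.Agent.Helper13.A5Pres.exists_subgroup_iso (π (Im (F := F))) (π Z)
  · rw [← map_mul]
    apply hone
    rw [Matrix.SpecialLinearGroup.coe_mul]
    show Imat * Imat = -1
    rw [I_sq]; simp
  · rw [← map_pow]
    apply hone
    rw [Matrix.SpecialLinearGroup.coe_pow]
    exact pow_five_eq _ t ht (by rw [sq_of_det _ Z.2, htr])
  · rw [← map_mul, ← map_pow]
    apply hone
    rw [Matrix.SpecialLinearGroup.coe_pow]
    apply pow_three_eq
    rw [sq_of_det _ (Im * Z).2]
    congr 2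
    rw [Matrix.SpecialLinearGroup.coe_mul]
    show ((Imat : Matrix (Fin 2) (Fin 2) F) * Z.1) 0 0 + ((Imat : Matrix (Fin 2) (Fin 2) F) * Z.1) 1 1 = 1
    simp only [Imat, Matrix.mul_apply, Fin.sum_univ_two, Matrix.of_apply, Matrix.cons_val',
      Matrix.cons_val_zero, Matrix.cons_val_one, Matrix.cons_val_fin_one]
    linear_combination h1
  · intro h
    have h' : (Im (F := F)) ∈ Subgroup.center (Matrix.SpecialLinearGroup (Fin 2) F) := by
      rw [← QuotientGroup.eq_one_iff]; exact h
    rw [Matrix.SpecialLinearGroup.mem_center_iff] at h'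
    obtain ⟨r, -, hr⟩ := h'
    have := congrFun (congrFun hr 0) 1
    simp [Im, Imat, Matrix.scalar_apply] at this

end mats

section final
variable {F : Type*} [Field F] [Fintype F]

theorem exists_sq_add_sq : ∃ a b : F, a ^ 2 + b ^ 2 = -1 := by
  obtain ⟨p, hp⟩ := CharP.exists F
  haveI : CharP F p := hp
  haveI : Fact p.Prime := ⟨CharP.char_is_prime F p⟩
  obtain ⟨a, b, hab⟩ := ZMod.sq_add_sq p (-1)
  let ι : ZMod p →+* F := ZMod.castHom (dvd_refl p) F
  exact ⟨ι a, ι b, by rw [← map_pow, ← map_pow, ← map_add, hab, map_neg, map_one]⟩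

theorem exists_A5_of_tau (t : F) (ht : t ^ 2 = t + 1) :
    ∃ H : Subgroup (Matrix.ProjectiveSpecialLinearGroup (Fin 2) F),
      Nonempty (H ≃* alternatingGroup (Fin 5)) := by
  by_cases h2 : (2 : F) = 0
  · have hneg : ∀ x : F, -x = x := Cfsg.Agent.S2503.neg_eq_self h2
    refine exists_A5_of ⟨!![t, t; t + 1, 0], ?_⟩ t ht ?_ ?_
    · rw [Matrix.det_fin_two_of]
      linear_combination (-1 : F) * ht - (t + 1) * h2
    · simp
    · simp
  · obtain ⟨a, b, hab⟩ := exists_sq_add_sq (F := F)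
    refine exists_A5_of ⟨!![(t + (t - 1) * b) / 2, (-1 - (t - 1) * a) / 2;
      (1 - (t - 1) * a) / 2, (t - (t - 1) * b) / 2], ?_⟩ t ht ?_ ?_
    · rw [Matrix.det_fin_two_of]
      field_simp
      linear_combination (-(t - 1) ^ 2) * hab + (2 : F) * ht
    · simp only [Matrix.of_apply, Matrix.cons_val', Matrix.cons_val_zero, Matrix.cons_val_one,
        Matrix.cons_val_fin_one]
      field_simp
      ring
    · simp only [Matrix.of_apply, Matrix.cons_val', Matrix.cons_val_zero, Matrix.cons_val_one,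
        Matrix.cons_val_fin_one]
      field_simp
      ring

end final

/-- PSL_2(q) has a subgroup isomorphic to A_5 iff 5 ∣ q(q² − 1). -/
theorem result {F : Type*} [Field F] [Fintype F] {q : ℕ} (hF : Fintype.card F = q) : (∃ H : Subgroup (Matrix.ProjectiveSpecialLinearGroup (Fin 2) F), Nonempty (H ≃* alternatingGroup (Fin 5))) ↔ 5 ∣ q * (q ^ 2 - 1) := by
  classical
  constructor
  · rintro ⟨H, ⟨e⟩⟩
    have h60 : Nat.card H = 60 := by
      rw [Nat.card_congr e.toEquiv, Nat.card_eq_fintype_card]; decide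
    have h1 : Nat.card H ∣ Nat.card (Matrix.ProjectiveSpecialLinearGroup (Fin 2) F) :=
      Subgroup.card_subgroup_dvd_card H
    have h2 : Nat.card (Matrix.ProjectiveSpecialLinearGroup (Fin 2) F) ∣
        Nat.card (Matrix.SpecialLinearGroup (Fin 2) F) :=
      Subgroup.card_quotient_dvd_card _
    rw [Cfsg.Agent.S0805.card_SL2, hF] at h2
    rw [h60] at h1
    have h3 : 60 ∣ (q ^ 2 - 1) * q := h1.trans h2
    rw [mul_comm]
    exact Dvd.dvd.trans (by norm_num) h3
  · intro h
    subst hF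
    rcases (Nat.Prime.dvd_mul (by norm_num : Nat.Prime 5)).mp h with h5 | h5
    · obtain ⟨t, ht⟩ := exists_tau_five h5
      exact exists_A5_of_tau t ht
    · obtain ⟨t, ht⟩ := exists_tau h5
      exact exists_A5_of_tau t ht

end Cfsg.Agent.S0804
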