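import Mathlib
import Cfsg.Statements.S2579

set_option autoImplicit false
open Cfsg

namespace Cfsg.Agent.S2579

open Matrix Module

variable {F : Type*} [Field F]

theorem rank_one_decomp {m : ℕ} (N : Matrix (Fin m) (Fin m) F) (h : N.rank = 1) :
    ∃ u w : Fin m → F, N = vecMulVec u w := by
  unfold Matrix.rank at h
  obtain ⟨v, hv0, hv⟩ := finrank_eq_one_iff'.mp h
  have : ∀ j, ∃ c : F, c • (v : Fin m → F) = N *ᵥ Pi.single j 1 := by
    intro j
    obtain ⟨c, hc⟩ := hv ⟨N *ᵥ Pi.single j 1, ⟨Pi.single j 1, rfl⟩⟩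
    exact ⟨c, by simpa using congrArg Subtype.val hc⟩
  choose w hw using this
  refine ⟨v, w, ?_⟩
  ext i j
  have := congrFun (hw j) i
  rw [Matrix.mulVec_single_one] at this
  simp only [vecMulVec_apply]
  rw [mul_comm]
  simpa using this.symm

/-- the linear functional `x ↦ w ⬝ᵥ x`. -/
def dotL {m : ℕ} (w : Fin m → F) : (Fin m → F) →ₗ[F] F :=
  { toFun := fun x => w ⬝ᵥ x
    map_add' := dotProduct_add w
    map_smul' := fun c x => by simp [dotProduct_smul] }

theorem dotL_apply {m : ℕ} (w x : Fin m → F) : dotL w x = w ⬝ᵥ x := rfl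

theorem exists_dotL_eq_one {m : ℕ} (w : Fin m → F) (hw : w ≠ 0) : ∃ x, dotL w x = 1 := by
  obtain ⟨i₀, hi₀⟩ : ∃ i, w i ≠ 0 := by
    by_contra hcon
    push Not at hcon
    exact hw (funext hcon)
  refine ⟨(w i₀)⁻¹ • Pi.single i₀ 1, ?_⟩
  rw [dotL_apply, dotProduct_smul, dotProduct_single_one, smul_eq_mul, inv_mul_cancel₀ hi₀]

theorem exists_basis_matrix {k : ℕ} (M : Matrix (Fin (k + 3)) (Fin (k + 3)) F) (hr : M.rank = 1)
    (hsq : M * M = 0) :
    ∃ P : Matrix (Fin (k + 3)) (Fin (k + 3)) F, IsUnit P ∧ M * P = P * Matrix.single 0 1 1 := by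
  classical
  obtain ⟨u, w, hN⟩ := rank_one_decomp M hr
  have hM0 : M ≠ 0 := by
    intro h0
    rw [h0, Matrix.rank_zero] at hr
    exact zero_ne_one hr
  have hw0 : w ≠ 0 := by
    rintro rfl
    apply hM0
    rw [hN]
    ext i j
    simp [vecMulVec_apply]
  have hu0 : u ≠ 0 := by
    rintro rfl
    apply hM0
    rw [hN]
    ext i j
    simp [vecMulVec_apply]
  have hwu : w ⬝ᵥ u = 0 := by
    by_contra hne
    apply hM0
    rw [hN, Matrix.vecMulVec_mul_vecMulVec] at hsq
    have : (w ⬝ᵥ u) • vecMulVec u w = 0 := by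
      rw [← hsq]
      ext i j
      simp [vecMulVec_apply]
      ring
    rcases smul_eq_zero.mp this with h | h
    · exact absurd h hne
    · rw [hN]; exact h
  set φ := dotL w with hφ
  have hφu : φ u = 0 := hwu
  -- a functional ψ with ψ u = 1
  obtain ⟨j₀, hj₀⟩ : ∃ i, u i ≠ 0 := by
    by_contra hcon
    push Not at hcon
    exact hu0 (funext hcon)
  set ψ : (Fin (k + 3) → F) →ₗ[F] F := (u j₀)⁻¹ • LinearMap.proj j₀ with hψ
  have hψu : ψ u = 1 := by
    simp [hψ, inv_mul_cancel₀ hj₀]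
  obtain ⟨w₀, hw₀⟩ := exists_dotL_eq_one w hw0
  set w₁ := w₀ - ψ w₀ • u with hw₁
  have hφw₁ : φ w₁ = 1 := by
    rw [hw₁, map_sub, map_smul, hφu, smul_zero, sub_zero]; exact hw₀
  have hψw₁ : ψ w₁ = 0 := by
    rw [hw₁, map_sub, map_smul, hψu, smul_eq_mul, mul_one, sub_self]
  -- K = ker φ ⊓ ker ψ
  set Φ : (Fin (k + 3) → F) →ₗ[F] F × F := φ.prod ψ with hΦ
  have hΦsurj : LinearMap.range Φ = ⊤ := by
    rw [LinearMap.range_eq_top]
    rintro ⟨a, b⟩
    refine ⟨a • w₁ + b • u, ?_⟩
    simp [hΦ, hφw₁, hψw₁, hφu, hψu]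
  obtain ⟨K, hK⟩ : ∃ K : Submodule F (Fin (k + 3) → F), K = LinearMap.ker Φ := ⟨_, rfl⟩
  have hKφ : ∀ x ∈ K, φ x = 0 := by
    intro x hx
    rw [hK, LinearMap.mem_ker] at hx
    have := congrArg Prod.fst hx
    simpa [hΦ] using this
  have hKψ : ∀ x ∈ K, ψ x = 0 := by
    intro x hx
    rw [hK, LinearMap.mem_ker] at hx
    have := congrArg Prod.snd hx
    simpa [hΦ] using this
  have hfrK : finrank F K = k + 1 := by
    have := LinearMap.finrank_range_add_finrank_ker Φ
    rw [hΦsurj, finrank_top, Module.finrank_prod, finrank_self, Module.finrank_fin_fun, ← hK] at this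
    omega
  set bK := Module.finBasisOfFinrankEq F K hfrK with hbK
  set c : Fin (k + 3) → (Fin (k + 3) → F) :=
    Fin.cons u (Fin.cons w₁ (fun j => (bK j : Fin (k + 3) → F))) with hc
  have hli : LinearIndependent F c := by
    rw [hc, linearIndependent_finCons]
    refine ⟨?_, ?_⟩
    · rw [linearIndependent_finCons]
      refine ⟨bK.linearIndependent.map' K.subtype (Submodule.ker_subtype K), ?_⟩
      intro hmem
      have hle : Submodule.span F (Set.range fun j => (bK j : Fin (k + 3) → F)) ≤ LinearMap.ker φ := by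
        rw [Submodule.span_le]
        rintro _ ⟨j, rfl⟩
        exact hKφ _ (bK j).2
      have := hle hmem
      rw [LinearMap.mem_ker, hφw₁] at this
      exact one_ne_zero this
    · intro hmem
      have hle : Submodule.span F (Set.range (Fin.cons w₁ (fun j => (bK j : Fin (k + 3) → F)) :
          Fin (k + 2) → (Fin (k + 3) → F))) ≤ LinearMap.ker ψ := by
        rw [Submodule.span_le]
        rintro _ ⟨j, rfl⟩
        induction j using Fin.cases with
        | zero => simpa using hψw₁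
        | succ j => simpa using hKψ _ (bK j).2
      have := hle hmem
      rw [LinearMap.mem_ker, hψu] at this
      exact one_ne_zero this
  set P : Matrix (Fin (k + 3)) (Fin (k + 3)) F := Matrix.of (fun i j => c j i) with hP
  have hcol : P.col = c := by
    funext j i
    rfl
  have hunit : IsUnit P := by
    rw [← Matrix.linearIndependent_cols_iff_isUnit, hcol]
    exact hli
  refine ⟨P, hunit, ?_⟩
  have hφc : ∀ j, w ⬝ᵥ c j = if j = 1 then 1 else 0 := by
    intro j
    induction j using Fin.cases with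
    | zero =>
      have : w ⬝ᵥ u = 0 := hφu
      simpa [hc] using this
    | succ j =>
      induction j using Fin.cases with
      | zero =>
        have : w ⬝ᵥ w₁ = 1 := hφw₁
        simpa [hc] using this
      | succ j =>
        have h1 : w ⬝ᵥ (bK j : Fin (k + 3) → F) = 0 := hKφ _ (bK j).2
        have hne : (j.succ.succ : Fin (k + 3)) ≠ 1 := by
          intro h
          have := congrArg Fin.val h
          simp at this
        simpa [hc, hne] using h1
  ext i j
  have hMP : (M * P) i j = u i * (w ⬝ᵥ c j) := by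
    rw [hN, Matrix.mul_apply, dotProduct, Finset.mul_sum]
    refine Finset.sum_congr rfl fun l _ => ?_
    simp [vecMulVec_apply, hP, mul_assoc]
  rw [hMP, hφc]
  by_cases hj : j = 1
  · subst hj
    rw [Matrix.mul_single_apply_same]
    simp [hP, hc]
  · rw [Matrix.mul_single_apply_of_ne _ _ _ _ _ hj]
    simp [hj]

theorem exists_sl_matrix {k : ℕ} (M : Matrix (Fin (k + 3)) (Fin (k + 3)) F) (hr : M.rank = 1)
    (hsq : M * M = 0) :
    ∃ P : Matrix (Fin (k + 3)) (Fin (k + 3)) F, P.det = 1 ∧ M * P = P * Matrix.single 0 1 1 := by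
  classical
  obtain ⟨P, hunit, hMP⟩ := exists_basis_matrix M hr hsq
  have hd : P.det ≠ 0 := ((Matrix.isUnit_iff_isUnit_det P).mp hunit).ne_zero
  set v : Fin (k + 3) → F := Function.update (fun _ => (1 : F)) 2 (P.det)⁻¹ with hv
  have h20 : (2 : Fin (k + 3)) ≠ 0 := by
    intro h
    have := congrArg Fin.val h
    rw [Fin.val_two] at this
    simp at this
  have h21 : (2 : Fin (k + 3)) ≠ 1 := by
    intro h
    have := congrArg Fin.val h
    rw [Fin.val_two] at this
    simp at this
  have hv0 : v 0 = 1 := by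
    rw [hv, Function.update_of_ne h20.symm]
  have hv1 : v 1 = 1 := by
    rw [hv, Function.update_of_ne h21.symm]
  set D : Matrix (Fin (k + 3)) (Fin (k + 3)) F := Matrix.diagonal v with hD
  have hED : Matrix.single (0 : Fin (k + 3)) (1 : Fin (k + 3)) (1 : F) * D
      = D * Matrix.single 0 1 1 := by
    ext i j
    rw [hD, Matrix.mul_diagonal, Matrix.diagonal_mul]
    by_cases hi : i = 0
    · by_cases hj : j = 1
      · subst hi; subst hj
        simp [hv0, hv1]
      · have hj' : ¬ (1 = j) := fun h => hj h.symm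
        simp [hj']
    · have hi' : ¬ (0 = i) := fun h => hi h.symm
      simp [hi']
  refine ⟨P * D, ?_, ?_⟩
  · rw [Matrix.det_mul, hD, Matrix.det_diagonal, hv, Finset.prod_update_of_mem (Finset.mem_univ _)]
    simp [mul_inv_cancel₀ hd]
  · rw [← Matrix.mul_assoc, hMP, Matrix.mul_assoc, hED, Matrix.mul_assoc]

/-- the standard transvection in `SL`. -/
def T₀ (k : ℕ) : Matrix.SpecialLinearGroup (Fin (k + 3)) F :=
  ⟨Matrix.transvection 0 1 1, Matrix.det_transvection_of_ne _ _ (by
    intro h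
    have := congrArg Fin.val h
    simp at this) _⟩

theorem isConj_T₀ {k : ℕ} (t : Matrix.SpecialLinearGroup (Fin (k + 3)) F)
    (ht : Cfsg.IsTransvection (t : Matrix (Fin (k + 3)) (Fin (k + 3)) F)) :
    IsConj (T₀ k) t := by
  obtain ⟨hr, hsq⟩ := ht
  obtain ⟨P, hdet, hMP⟩ := exists_sl_matrix _ hr hsq
  rw [isConj_iff]
  set g : Matrix.SpecialLinearGroup (Fin (k + 3)) F := ⟨P, hdet⟩ with hg
  refine ⟨g, ?_⟩
  rw [mul_inv_eq_iff_eq_mul]
  apply Subtype.ext
  simp only [Matrix.SpecialLinearGroup.coe_mul]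
  show P * Matrix.transvection 0 1 1 = (t : Matrix (Fin (k + 3)) (Fin (k + 3)) F) * P
  rw [Matrix.transvection, Matrix.mul_add, Matrix.mul_one, ← hMP, Matrix.sub_mul, Matrix.one_mul]
  abel

theorem result {F : Type*} [Field F] [Finite F] {n : ℕ} (hn : 3 ≤ n) (s t : Matrix.SpecialLinearGroup (Fin n) F) (hs : Cfsg.IsTransvection (s : Matrix (Fin n) (Fin n) F)) (ht : Cfsg.IsTransvection (t : Matrix (Fin n) (Fin n) F)) : IsConj s t := by
  obtain ⟨k, rfl⟩ : ∃ k, n = k + 3 := ⟨n - 3, by omega⟩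
  exact (isConj_T₀ s hs).symm.trans (isConj_T₀ t ht)

end Cfsg.Agent.S2579
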