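import Cfsg.Statements.S5892
import Cfsg.Agent.Helper18.L2Max10

set_option autoImplicit false
open Cfsg

namespace Cfsg.Agent.S5892

/-- Let F be a finite field of odd order q ≥ 5 and characteristic p, and let M be a maximal subgroup of PSL₂(F). Then one of the following holds: |M| = q(q − 1)/2 (the stabiliser of a point of the projective line); q ≥ 13 and M is dihedral of order q − 1; q ∉ {7, 9} and M is dihedral of order q + 1; q = q₀² and M ≅ PGL₂(F₀) with |F₀| = q₀; q = q₀^r for an odd prime r and M ≅ PSL₂(F₀) with |F₀| = q₀; q ≡ ±1 (mod 10) with q = p or q = p², p ≡ ±3 (mod 10), and M ≅ A₅; q = p ≡ ±3 (mod 8), q ≢ ±1 (mod 10), and M ≅ A₄; or q = p ≡ ±1 (mod 8) and M ≅ S₄. -/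
theorem result {F : Type*} [Field F] [Fintype F] (p : ℕ)
    [Fact p.Prime] [CharP F p] (hodd : Odd (Fintype.card F)) (h5 : 5 ≤ Fintype.card F)
    (M : Subgroup (Matrix.ProjectiveSpecialLinearGroup (Fin 2) F)) (hM : IsCoatom M) :
    2 * Nat.card M = Fintype.card F * (Fintype.card F - 1) ∨
    (13 ≤ Fintype.card F ∧ (∃ k : ℕ, 2 * k = Fintype.card F - 1 ∧ Nonempty (M ≃* DihedralGroup k))) ∨
    (Fintype.card F ≠ 7 ∧ Fintype.card F ≠ 9 ∧ (∃ k : ℕ, 2 * k = Fintype.card F + 1 ∧ Nonempty (M ≃* DihedralGroup k))) ∨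
    (∃ (F₀ : Type) (_ : Field F₀) (_ : Fintype F₀), Fintype.card F = Fintype.card F₀ ^ 2 ∧
        Nonempty (M ≃* Matrix.ProjGenLinGroup (Fin 2) F₀)) ∨
    (∃ (F₀ : Type) (_ : Field F₀) (_ : Fintype F₀) (r : ℕ), r.Prime ∧ Odd r ∧ Fintype.card F = Fintype.card F₀ ^ r ∧
        Nonempty (M ≃* Matrix.ProjectiveSpecialLinearGroup (Fin 2) F₀)) ∨
    ((Fintype.card F % 10 = 1 ∨ Fintype.card F % 10 = 9) ∧
        (Fintype.card F = p ∨ (Fintype.card F = p ^ 2 ∧ (p % 10 = 3 ∨ p % 10 = 7))) ∧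
        Nonempty (M ≃* alternatingGroup (Fin 5))) ∨
    (Fintype.card F = p ∧ (p % 8 = 3 ∨ p % 8 = 5) ∧ ¬ (p % 10 = 1 ∨ p % 10 = 9) ∧
        Nonempty (M ≃* alternatingGroup (Fin 4))) ∨
    (Fintype.card F = p ∧ (p % 8 = 1 ∨ p % 8 = 7) ∧ Nonempty (M ≃* Equiv.Perm (Fin 4))) := by
  classical
  have hpp : p.Prime := Fact.out
  have hp : p ≠ 2 := by
    rintro rfl
    obtain ⟨n, -, hn⟩ := FiniteField.card F 2
    rw [hn] at hodd
    have : Even (2 ^ (n : ℕ)) := (Nat.even_pow' n.ne_zero).2 even_two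
    exact (Nat.not_even_iff_odd.2 hodd) this
  obtain ⟨m, hm⟩ := hodd
  have hsimple : IsSimpleGroup (Matrix.ProjectiveSpecialLinearGroup (Fin 2) F) :=
    Cfsg.Agent.Helper18.L2Max.psl_simple (by omega)
  by_cases hpM : p ∣ Nat.card M
  · rcases Cfsg.Agent.Helper18.L2Max.pdiv_case p hp M hM hpM with h | h | h | ⟨h3, ⟨e⟩⟩
    · left; exact h
    · right; right; right; left; exact h
    · right; right; right; right; left; exact h
    · right; right; right; right; right; left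
      subst h3
      rcases Cfsg.Agent.Helper18.L2Max.card_of_A5 3 hp (by norm_num) M hM e with h | ⟨h, h'⟩
      · omega
      · refine ⟨?_, Or.inr ⟨h, h'⟩, ⟨e⟩⟩
        rw [h]; norm_num
  · rcases Cfsg.Agent.Helper18.Dickson.pprime_dickson p hp M hpM with
      ⟨k, hk, hcyc | ⟨⟨e⟩⟩⟩ | ⟨⟨e⟩⟩ | ⟨⟨e⟩⟩ | ⟨⟨e⟩⟩
    · exfalso
      obtain ⟨hc, -⟩ := hcyc
      apply Cfsg.Agent.Helper18.L2Max.not_abelian_of_coatom
        Cfsg.Agent.Helper18.L2Max.psl_noncomm hM
      intro a ha b hb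
      obtain ⟨g, hg⟩ := hc.exists_generator
      obtain ⟨i, hi⟩ := hg ⟨a, ha⟩
      obtain ⟨j, hj⟩ := hg ⟨b, hb⟩
      have : (⟨a, ha⟩ : M) * ⟨b, hb⟩ = ⟨b, hb⟩ * ⟨a, ha⟩ := by
        rw [← hi, ← hj]
        exact (Commute.zpow_zpow_self g i j).eq
      exact congrArg Subtype.val this
    · obtain ⟨hk3, hord⟩ := Cfsg.Agent.Helper18.L2Max.dihedral_order p hp h5 M hM k hk e
      obtain ⟨ex7, ex9, ex11⟩ := Cfsg.Agent.Helper18.L2Max.dihedral_small p hp M hM k e
      rcases hord with h | h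
      · right; right; left
        refine ⟨?_, ?_, k, h, ⟨e⟩⟩
        · intro h7
          exact ex7 ⟨h7, Or.inr (by omega)⟩
        · intro h9
          exact ex9 ⟨h9, Or.inr (by omega)⟩
      · right; left
        refine ⟨?_, k, h, ⟨e⟩⟩
        by_contra hlt
        have h7 : Fintype.card F ≠ 7 := fun h7 => ex7 ⟨h7, Or.inl (by omega)⟩
        have h9 : Fintype.card F ≠ 9 := fun h9 => ex9 ⟨h9, Or.inl (by omega)⟩
        have h11 : Fintype.card F ≠ 11 := fun h11 => ex11 ⟨h11, by omega⟩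
        omega
    · right; right; right; right; right; right; left
      have hq := Cfsg.Agent.Helper18.L2Max.card_eq_of_A4 p hp M hM hpM e
      obtain ⟨h8, h10⟩ := Cfsg.Agent.Helper18.L2Max.A4_conditions p hp hq M hM hpM e
      exact ⟨hq, h8, h10, ⟨e⟩⟩
    · right; right; right; right; right; right; right
      have hq := Cfsg.Agent.Helper18.L2Max.card_eq_of_S4 p hp M hM hpM e
      exact ⟨hq, Cfsg.Agent.Helper18.L2Max.S4_conditions hq M e, ⟨e⟩⟩
    · right; right; right; right; right; left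
      have hcM : Nat.card M = 60 := by
        rw [Nat.card_congr e.toEquiv, Cfsg.Agent.Helper18.Dickson.card_A5]
      have hp5 : p ≠ 5 := by
        rintro rfl
        apply hpM; rw [hcM]; norm_num
      exact ⟨Cfsg.Agent.Helper18.L2Max.A5_conditions p hp hp5 M e,
        Cfsg.Agent.Helper18.L2Max.card_of_A5 p hp hp5 M hM e, ⟨e⟩⟩

end Cfsg.Agent.S5892
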