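import Mathlib
import Cfsg.Statements.S2636

set_option autoImplicit false
set_option linter.style.haveILetI false
open Cfsg

namespace Cfsg.Agent.S2636

open Matrix

section

variable {F : Type*} [Field F] [Fintype F]

/-- the scalar matrices as a homomorphism to `GL`. -/
noncomputable def sc (n : ℕ) (R : Type*) [CommRing R] : Rˣ →* GL (Fin n) R :=
  Units.map (Matrix.scalar (Fin n) : R →+* Matrix (Fin n) (Fin n) R).toMonoidHom

theorem coe_sc (n : ℕ) (R : Type*) [CommRing R] (b : Rˣ) :
    ((sc n R b : GL (Fin n) R) : Matrix (Fin n) (Fin n) R) = (b : R) • (1 : Matrix (Fin n) (Fin n) R) := by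
  show Matrix.scalar (Fin n) (b : R) = _
  rw [Matrix.scalar_apply, Matrix.smul_one_eq_diagonal]

theorem sc_commute (n : ℕ) (R : Type*) [CommRing R] (b : Rˣ) (g : GL (Fin n) R) :
    Commute (sc n R b) g := by
  apply Units.ext
  rw [Units.val_mul, Units.val_mul, coe_sc, Matrix.smul_mul, Matrix.mul_smul, one_mul, mul_one]

end

theorem result {F : Type*} [Field F] [Fintype F] {q₀ r n : ℕ} (hr : r.Prime) (hn : 1 ≤ n) (hF : Fintype.card F = q₀ ^ r) (σ : F ≃+* F) (hσ : orderOf σ = r) : Nat.card {g : GL (Fin n) F // ∃ c : F, c ≠ 0 ∧ (g : Matrix (Fin n) (Fin n) F).map σ = c • (g : Matrix (Fin n) (Fin n) F)} = (q₀ ^ r - 1) / (q₀ - 1) * ∏ i : Fin n, (q₀ ^ n - q₀ ^ (i : ℕ)) := by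
  classical
  haveI : Finite (F ≃+* F) :=
    Finite.of_injective (fun e : F ≃+* F => (e : F → F)) DFunLike.coe_injective
  let G := Subgroup.zpowers σ
  haveI : Fintype G := Fintype.ofFinite G
  let F₀ : Subfield F := FixedPoints.subfield G F
  have hmem : ∀ x : F, x ∈ F₀ ↔ σ x = x := by
    intro x
    constructor
    · intro hx
      exact hx ⟨σ, Subgroup.mem_zpowers σ⟩
    · intro hx g
      have hle : Subgroup.zpowers σ ≤ MulAction.stabilizer (F ≃+* F) x := by
        rw [Subgroup.zpowers_le]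
        exact hx
      exact hle g.2
  haveI : Fintype F₀ := Fintype.ofFinite F₀
  have hfr : Module.finrank F₀ F = r := by
    have h1 := FixedPoints.finrank_eq_card G F
    rw [h1, ← Nat.card_eq_fintype_card, Nat.card_zpowers, hσ]
  have hcard₀ : Fintype.card F₀ = q₀ := by
    have h1 := Module.card_eq_pow_finrank (K := F₀) (V := F)
    rw [hfr, hF] at h1
    exact (Nat.pow_left_injective hr.ne_zero h1).symm
  have hq₀ : 2 ≤ q₀ := by
    rw [← hcard₀]; exact Fintype.one_lt_card
  -- the homomorphism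
  let ι : F₀ →+* F := F₀.subtype
  let Φ : Fˣ × GL (Fin n) F₀ →* GL (Fin n) F :=
    MonoidHom.noncommCoprod (sc n F) (Matrix.GeneralLinearGroup.map ι)
      (fun b g => sc_commute n F b _)
  have hΦ : ∀ (b : Fˣ) (g₀ : GL (Fin n) F₀) (i j : Fin n),
      ((Φ (b, g₀) : GL (Fin n) F) : Matrix (Fin n) (Fin n) F) i j =
        (b : F) * ((g₀ : Matrix (Fin n) (Fin n) F₀) i j : F) := by
    intro b g₀ i j
    show ((sc n F b * Matrix.GeneralLinearGroup.map ι g₀ : GL (Fin n) F) :
      Matrix (Fin n) (Fin n) F) i j = _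
    rw [Units.val_mul, coe_sc, Matrix.smul_mul, one_mul, Matrix.smul_apply,
      Matrix.GeneralLinearGroup.map_apply, smul_eq_mul]
    rfl
  have hrange : ∀ g : GL (Fin n) F, g ∈ Φ.range ↔ ∃ c : F, c ≠ 0 ∧
      (g : Matrix (Fin n) (Fin n) F).map σ = c • (g : Matrix (Fin n) (Fin n) F) := by
    intro g
    constructor
    · rintro ⟨⟨b, g₀⟩, rfl⟩
      refine ⟨σ (b : F) / (b : F), div_ne_zero ((map_ne_zero _).mpr b.ne_zero) b.ne_zero, ?_⟩
      ext i j
      rw [Matrix.map_apply, Matrix.smul_apply, hΦ, map_mul, smul_eq_mul,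
        (hmem _).mp ((g₀ : Matrix (Fin n) (Fin n) F₀) i j).2]
      field_simp
    · rintro ⟨c, hc, hg⟩
      have hg' : ∀ k l, σ ((g : Matrix (Fin n) (Fin n) F) k l) =
          c * (g : Matrix (Fin n) (Fin n) F) k l := by
        intro k l
        have := congrFun (congrFun hg k) l
        simpa using this
      have hne : (g : Matrix (Fin n) (Fin n) F) ≠ 0 := by
        intro h0
        have h1 : (g : Matrix (Fin n) (Fin n) F) * ((g⁻¹ : GL (Fin n) F) : Matrix (Fin n) (Fin n) F)
            = 1 := by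
          rw [← Units.val_mul, mul_inv_cancel, Units.val_one]
        rw [h0, zero_mul] at h1
        have := congrFun (congrFun h1 ⟨0, hn⟩) ⟨0, hn⟩
        simp at this
      obtain ⟨i, j, hij⟩ : ∃ i j, (g : Matrix (Fin n) (Fin n) F) i j ≠ 0 := by
        by_contra hcon
        push Not at hcon
        apply hne
        ext i j
        exact hcon i j
      set b : F := (g : Matrix (Fin n) (Fin n) F) i j with hb
      have hσb : σ b = c * b := hg' i j
      have hfix : ∀ k l, b⁻¹ * (g : Matrix (Fin n) (Fin n) F) k l ∈ F₀ := by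
        intro k l
        rw [hmem, map_mul, map_inv₀, hσb, hg']
        field_simp
      let M₀ : Matrix (Fin n) (Fin n) F₀ := fun k l =>
        ⟨b⁻¹ * (g : Matrix (Fin n) (Fin n) F) k l, hfix k l⟩
      have hM₀ : ι.mapMatrix M₀ = b⁻¹ • (g : Matrix (Fin n) (Fin n) F) := by
        ext k l
        simp only [RingHom.mapMatrix_apply, Matrix.map_apply, Matrix.smul_apply, smul_eq_mul]
        rfl
      have hdet : M₀.det ≠ 0 := by
        intro h0
        have h1 := RingHom.map_det ι M₀
        rw [h0, map_zero, hM₀, Matrix.det_smul] at h1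
        have h2 : (g : Matrix (Fin n) (Fin n) F).det ≠ 0 := by
          have := (Matrix.isUnit_iff_isUnit_det _).mp g.isUnit
          exact this.ne_zero
        exact mul_ne_zero (pow_ne_zero _ (inv_ne_zero hij)) h2 h1.symm
      refine ⟨(Units.mk0 b hij, Matrix.GeneralLinearGroup.mkOfDetNeZero M₀ hdet), ?_⟩
      apply Units.ext
      ext k l
      rw [hΦ]
      show b * (b⁻¹ * (g : Matrix (Fin n) (Fin n) F) k l) = _
      field_simp
  -- the kernel
  have hker : Nat.card Φ.ker = q₀ - 1 := by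
    have h1 : Nat.card F₀ˣ = q₀ - 1 := by
      rw [Nat.card_units, Nat.card_eq_fintype_card, hcard₀]
    rw [← h1]
    symm
    have hmk : ∀ a : F₀ˣ, (Units.map ι.toMonoidHom a, (sc n F₀ a)⁻¹) ∈ Φ.ker := by
      intro a
      rw [MonoidHom.mem_ker]
      apply Units.ext
      ext k l
      rw [hΦ]
      have h2 : (((sc n F₀ a)⁻¹ : GL (Fin n) F₀) : Matrix (Fin n) (Fin n) F₀) =
          ((a⁻¹ : F₀ˣ) : F₀) • (1 : Matrix (Fin n) (Fin n) F₀) := by
        rw [← map_inv, coe_sc]
      rw [h2]
      by_cases hkl : k = l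
      · subst hkl
        simp [ι]
      · simp [hkl]
    apply Nat.card_eq_of_bijective (fun a : F₀ˣ => (⟨_, hmk a⟩ : Φ.ker))
    constructor
    · intro a a' haa'
      have h2 := congrArg (fun x : Φ.ker => ((x : Fˣ × GL (Fin n) F₀).1 : F)) haa'
      apply Units.ext
      apply Subtype.ext
      exact h2
    · rintro ⟨⟨b, g₀⟩, hbg⟩
      rw [MonoidHom.mem_ker] at hbg
      have hent : ∀ k l, (b : F) * ((g₀ : Matrix (Fin n) (Fin n) F₀) k l : F) =
          (1 : Matrix (Fin n) (Fin n) F) k l := by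
        intro k l
        rw [← hΦ, hbg]; rfl
      have hb0 : (b : F)⁻¹ ∈ F₀ := by
        have := hent ⟨0, hn⟩ ⟨0, hn⟩
        rw [Matrix.one_apply_eq] at this
        have h3 : (b : F)⁻¹ = ((g₀ : Matrix (Fin n) (Fin n) F₀) ⟨0, hn⟩ ⟨0, hn⟩ : F) := by
          rw [inv_eq_iff_eq_inv, ← mul_eq_one_iff_eq_inv₀ (by
            intro h0; rw [h0, mul_zero] at this; exact zero_ne_one this)]
          exact this
        rw [h3]
        exact ((g₀ : Matrix (Fin n) (Fin n) F₀) ⟨0, hn⟩ ⟨0, hn⟩).2
      have hb1 : (b : F) ∈ F₀ := by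
        have := F₀.inv_mem hb0
        rwa [inv_inv] at this
      refine ⟨Units.mk0 ⟨(b : F), hb1⟩ (by
        intro h0
        exact b.ne_zero (congrArg Subtype.val h0)), ?_⟩
      apply Subtype.ext
      apply Prod.ext
      · apply Units.ext
        rfl
      · show (sc n F₀ _)⁻¹ = g₀
        rw [inv_eq_iff_eq_inv, eq_comm, inv_eq_iff_mul_eq_one]
        apply Units.ext
        ext k l
        rw [Units.val_mul, coe_sc, Matrix.mul_smul, mul_one, Matrix.smul_apply, Units.val_one]
        have := hent k l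
        rw [smul_eq_mul, Subfield.coe_mul, Units.val_mk0]
        show (b : F) * _ = _
        rw [this]
        by_cases hkl : k = l
        · subst hkl; simp
        · simp [hkl]
  -- counting
  have hcount : Nat.card Φ.ker * Nat.card Φ.range = Nat.card (Fˣ × GL (Fin n) F₀) := by
    rw [← Subgroup.index_ker, Subgroup.card_mul_index]
  have hS : Nat.card {g : GL (Fin n) F // ∃ c : F, c ≠ 0 ∧
      (g : Matrix (Fin n) (Fin n) F).map σ = c • (g : Matrix (Fin n) (Fin n) F)} =
      Nat.card Φ.range :=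
    Nat.card_congr (Equiv.subtypeEquivRight (fun g => (hrange g).symm))
  rw [hS]
  have hGL : Nat.card (GL (Fin n) F₀) = ∏ i : Fin n, (q₀ ^ n - q₀ ^ (i : ℕ)) := by
    rw [Matrix.card_GL_field, hcard₀]
  have hU : Nat.card Fˣ = q₀ ^ r - 1 := by
    rw [Nat.card_units, Nat.card_eq_fintype_card, hF]
  rw [Nat.card_prod, hker, hU, hGL] at hcount
  obtain ⟨M, hM⟩ := Nat.sub_one_dvd_pow_sub_one q₀ r
  have hpos : 0 < q₀ - 1 := by omega
  rw [hM, Nat.mul_div_cancel_left _ hpos]
  rw [hM, mul_assoc] at hcount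
  exact Nat.eq_of_mul_eq_mul_left hpos hcount

end Cfsg.Agent.S2636
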