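import Mathlib
import Cfsg.Statements.S2577
import Cfsg.Agent.Helper13.InvolConj
import Cfsg.Agent.S2636

set_option autoImplicit false
set_option linter.style.haveILetI false
open Cfsg

namespace Cfsg.Agent.S2577

open Matrix Module Polynomial Cfsg.Agent.Helper13.InvolConj

variable {F : Type*} [Field F] {n : ℕ}

local notation "Mat" => Matrix (Fin n) (Fin n) F

/-- the endomorphism of a matrix -/
noncomputable abbrev lin (M : Mat) : Module.End F (Fin n → F) := Matrix.toLin' M

theorem lin_apply (M : Mat) (v : Fin n → F) : lin M v = M *ᵥ v := rfl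

theorem lin_sq {M : Mat} {c : F} (h : M * M = c • (1 : Mat)) :
    lin M * lin M = c • (1 : Module.End F (Fin n → F)) := by
  have := congrArg (Matrix.toLinAlgEquiv' (R := F) (n := Fin n)) h
  rw [map_mul, map_smul, map_one] at this
  exact this

theorem lin_smul (c : F) (M : Mat) : lin (c • M) = c • lin M := map_smul _ _ _

/-- split type: `M² = μ²` with `(-μ)`-eigenspace of dimension `k` -/
def RS (M : Mat) (k : ℕ) : Prop :=
  ∃ μ : F, μ ≠ 0 ∧ M * M = (μ * μ) • (1 : Mat) ∧ finrank F (End.eigenspace (lin M) (-μ)) = k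

/-- non-split type -/
def NS (M : Mat) : Prop := ∃ c : F, ¬ IsSquare c ∧ M * M = c • (1 : Mat)

/-- matrix form of an intertwiner -/
theorem matrix_of_intertwiner (M M' : Mat) (H : (Fin n → F) ≃ₗ[F] (Fin n → F))
    (hH : ∀ v, H (lin M v) = lin M' (H v)) :
    ∃ Hm : Mat, IsUnit Hm ∧ Hm * M = M' * Hm := by
  refine ⟨LinearMap.toMatrix' (H : (Fin n → F) →ₗ[F] (Fin n → F)), ?_, ?_⟩
  · refine ⟨⟨LinearMap.toMatrix' (H : (Fin n → F) →ₗ[F] (Fin n → F)),
      LinearMap.toMatrix' (H.symm : (Fin n → F) →ₗ[F] (Fin n → F)), ?_, ?_⟩, rfl⟩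
    · rw [← LinearMap.toMatrix'_comp, LinearEquiv.comp_coe, LinearEquiv.symm_trans_self,
        LinearEquiv.refl_toLinearMap, LinearMap.toMatrix'_id]
    · rw [← LinearMap.toMatrix'_comp, LinearEquiv.comp_coe, LinearEquiv.self_trans_symm,
        LinearEquiv.refl_toLinearMap, LinearMap.toMatrix'_id]
  · have h1 : (H : (Fin n → F) →ₗ[F] (Fin n → F)) ∘ₗ lin M = lin M' ∘ₗ H := by
      apply LinearMap.ext
      intro v
      exact hH v
    have h2 := congrArg LinearMap.toMatrix' h1
    rw [LinearMap.toMatrix'_comp, LinearMap.toMatrix'_comp, LinearMap.toMatrix'_toLin',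
      LinearMap.toMatrix'_toLin'] at h2
    exact h2


theorem eig_smul (c : F) (hc : c ≠ 0) (M : Mat) (μ : F) :
    End.eigenspace (lin (c • M)) μ = End.eigenspace (lin M) (μ / c) := by
  ext v
  rw [End.mem_eigenspace_iff, End.mem_eigenspace_iff, lin_smul, LinearMap.smul_apply]
  constructor
  · intro h
    have : lin M v = c⁻¹ • (c • lin M v) := by rw [smul_smul, inv_mul_cancel₀ hc, one_smul]
    rw [this, h, smul_smul, div_eq_inv_mul]
  · intro h
    rw [h, smul_smul, mul_div_cancel₀ _ hc]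

theorem smul_mul_smul_self (c : F) (M : Mat) : (c • M) * (c • M) = (c * c) • (M * M) := by
  rw [Matrix.smul_mul, Matrix.mul_smul, smul_smul]

/-- same split type implies conjugate up to a scalar -/
theorem conj_of_RS (h2 : (2 : F) ≠ 0) {M M' : Mat} {k : ℕ} (h : RS M k) (h' : RS M' k) :
    ∃ (Hm : Mat) (c : F), IsUnit Hm ∧ c ≠ 0 ∧ Hm * M = (c • M') * Hm := by
  obtain ⟨μ, hμ, hM, hk⟩ := h
  obtain ⟨μ', hμ', hM', hk'⟩ := h'
  have hc : μ / μ' ≠ 0 := div_ne_zero hμ hμ'
  have hM'' : ((μ / μ') • M') * ((μ / μ') • M') = (μ * μ) • (1 : Mat) := by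
    rw [smul_mul_smul_self, hM', smul_smul]
    congr 1
    field_simp
  have hk'' : finrank F (End.eigenspace (lin M) (-μ)) =
      finrank F (End.eigenspace (lin ((μ / μ') • M')) (-μ)) := by
    rw [eig_smul _ hc, hk]
    have : -μ / (μ / μ') = -μ' := by field_simp
    rw [this, hk']
  obtain ⟨H, hH⟩ := exists_intertwiner_split (lin M) (lin ((μ / μ') • M')) μ hμ h2 (lin_sq hM)
    (lin_sq hM'') hk''
  obtain ⟨Hm, hu, hHm⟩ := matrix_of_intertwiner M ((μ / μ') • M') H hH
  exact ⟨Hm, μ / μ', hu, hc, hHm⟩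

theorem irreducible_of_not_isSquare {c : F} (hc : ¬ IsSquare c) :
    Irreducible (X ^ 2 - C c : F[X]) := by
  apply Polynomial.irreducible_of_degree_le_three_of_not_isRoot
  · rw [natDegree_X_pow_sub_C]
    simp
  · intro a ha
    apply hc
    rw [IsRoot.def, eval_sub, eval_pow, eval_X, eval_C, sub_eq_zero] at ha
    exact ⟨a, by rw [← ha, pow_two]⟩

/-- nonsplit types are conjugate up to a scalar -/
theorem conj_of_NS [Fintype F] {M M' : Mat} (h : NS M) (h' : NS M') :
    ∃ (Hm : Mat) (c : F), IsUnit Hm ∧ c ≠ 0 ∧ Hm * M = (c • M') * Hm := by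
  classical
  obtain ⟨c₁, hc₁, hM⟩ := h
  obtain ⟨c₂, hc₂, hM'⟩ := h'
  have hc₂0 : c₂ ≠ 0 := by
    rintro rfl
    exact hc₂ ⟨0, by simp⟩
  have hc₁0 : c₁ ≠ 0 := by
    rintro rfl
    exact hc₁ ⟨0, by simp⟩
  have hsq : IsSquare (c₁ * c₂) := by
    rw [← quadraticChar_one_iff_isSquare (mul_ne_zero hc₁0 hc₂0), map_mul,
      quadraticChar_neg_one_iff_not_isSquare.mpr hc₁, quadraticChar_neg_one_iff_not_isSquare.mpr hc₂]
    norm_num
  obtain ⟨ν, hν⟩ := hsq
  have hν0 : ν ≠ 0 := by
    rintro rfl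
    rw [mul_zero] at hν
    exact mul_ne_zero hc₁0 hc₂0 hν
  have hd : ν / c₂ ≠ 0 := div_ne_zero hν0 hc₂0
  have hM'' : ((ν / c₂) • M') * ((ν / c₂) • M') = c₁ • (1 : Mat) := by
    rw [smul_mul_smul_self, hM', smul_smul]
    congr 1
    field_simp
    rw [pow_two, ← hν]
    ring
  obtain ⟨H, hH⟩ := exists_intertwiner_ns c₁ (irreducible_of_not_isSquare hc₁) (lin M)
    (lin ((ν / c₂) • M')) (lin_sq hM) (lin_sq hM'')
  obtain ⟨Hm, hu, hHm⟩ := matrix_of_intertwiner M ((ν / c₂) • M') H hH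
  exact ⟨Hm, ν / c₂, hu, hd, hHm⟩


theorem smul_one_inj (hn : 1 ≤ n) {a b : F} (h : a • (1 : Mat) = b • (1 : Mat)) : a = b := by
  have := congrFun (congrFun h ⟨0, hn⟩) ⟨0, hn⟩
  simpa using this

/-- comparing the squares under a scalar-twisted intertwiner -/
theorem sq_conj (hn : 1 ≤ n) {M M' Hm : Mat} {c a b : F} (hu : IsUnit Hm)
    (hH : Hm * M = (c • M') * Hm) (hM : M * M = a • (1 : Mat)) (hM' : M' * M' = b • (1 : Mat)) :
    a = c * c * b := by
  obtain ⟨u, rfl⟩ := hu
  have h1 : (u : Mat) * (M * M) = ((c • M') * (c • M')) * (u : Mat) := by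
    rw [← Matrix.mul_assoc, hH, Matrix.mul_assoc, hH, Matrix.mul_assoc]
  rw [hM, smul_mul_smul_self, hM', smul_smul, Matrix.mul_smul, Matrix.mul_one, Matrix.smul_mul,
    Matrix.one_mul] at h1
  have h2 := congrArg (fun X : Mat => X * ((u⁻¹ : Matˣ) : Mat)) h1
  simp only [Matrix.smul_mul, Units.mul_inv] at h2
  exact smul_one_inj hn h2

theorem not_RS_NS (hn : 1 ≤ n) {M M' Hm : Mat} {c : F} {k : ℕ} (hu : IsUnit Hm) (hc : c ≠ 0)
    (hH : Hm * M = (c • M') * Hm) (h : RS M k) (h' : NS M') : False := by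
  obtain ⟨μ, hμ, hM, hk⟩ := h
  obtain ⟨c₂, hc₂, hM'⟩ := h'
  have := sq_conj hn hu hH hM hM'
  apply hc₂
  refine ⟨μ / c, ?_⟩
  field_simp
  linear_combination (-1 : F) * this

theorem finrank_eig_conj {M M' Hm : Mat} {c : F} (hu : IsUnit Hm)
    (hH : Hm * M = (c • M') * Hm) (μ : F) :
    finrank F (End.eigenspace (lin M) μ) = finrank F (End.eigenspace (lin (c • M')) μ) := by
  obtain ⟨u, rfl⟩ := hu
  let e : (Fin n → F) ≃ₗ[F] (Fin n → F) := Matrix.toLin'OfInv u.inv_mul u.mul_inv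
  have he : ∀ v, e v = (u : Mat) *ᵥ v := fun v => rfl
  have hmap : (End.eigenspace (lin M) μ).map (e : (Fin n → F) →ₗ[F] (Fin n → F)) =
      End.eigenspace (lin (c • M')) μ := by
    ext w
    rw [Submodule.mem_map, End.mem_eigenspace_iff]
    constructor
    · rintro ⟨v, hv, rfl⟩
      rw [End.mem_eigenspace_iff] at hv
      show (c • M') *ᵥ (e v) = μ • e v
      rw [he, Matrix.mulVec_mulVec, ← hH, ← Matrix.mulVec_mulVec]
      have : M *ᵥ v = μ • v := hv
      rw [this, Matrix.mulVec_smul]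
    · intro hw
      refine ⟨e.symm w, ?_, e.apply_symm_apply w⟩
      rw [End.mem_eigenspace_iff]
      apply e.injective
      show e (M *ᵥ e.symm w) = e (μ • e.symm w)
      rw [he, Matrix.mulVec_mulVec, hH, ← Matrix.mulVec_mulVec, ← he, e.apply_symm_apply, map_smul,
        e.apply_symm_apply]
      exact hw
  rw [← hmap]
  exact (LinearEquiv.finrank_map_eq e _).symm

theorem RS_conj (hn : 1 ≤ n) (h2 : (2 : F) ≠ 0) {M M' Hm : Mat} {c : F} {k k' : ℕ} (hu : IsUnit Hm)
    (hc : c ≠ 0) (hH : Hm * M = (c • M') * Hm) (h : RS M k) (h' : RS M' k') :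
    k = k' ∨ k + k' = n := by
  obtain ⟨μ, hμ, hM, hk⟩ := h
  obtain ⟨μ', hμ', hM', hk'⟩ := h'
  have h1 := sq_conj hn hu hH hM hM'
  have h3 : (μ - c * μ') * (μ + c * μ') = 0 := by
    linear_combination h1
  have h4 := finrank_eig_conj hu hH (-μ)
  rw [hk, eig_smul _ hc] at h4
  rcases mul_eq_zero.mp h3 with h5 | h5
  · left
    have : -μ / c = -μ' := by
      have : μ = c * μ' := by linear_combination h5
      rw [this]
      field_simp
    rw [this, hk'] at h4
    exact h4
  · right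
    have : -μ / c = μ' := by
      have : μ = -(c * μ') := by linear_combination h5
      rw [this]
      field_simp
    rw [this] at h4
    have hc' := eig_isCompl (lin M') μ' hμ' h2 (lin_sq hM')
    have h6 := Submodule.finrank_add_eq_of_isCompl hc'
    rw [Module.finrank_fin_fun, hk', ← h4] at h6
    exact h6


theorem eq_smul_one_of_eig_top {M : Mat} {μ : F} (h : End.eigenspace (lin M) μ = ⊤) :
    M = μ • (1 : Mat) := by
  ext i j
  have h1 : (Pi.single j (1 : F) : Fin n → F) ∈ End.eigenspace (lin M) μ := by rw [h]; trivial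
  rw [End.mem_eigenspace_iff] at h1
  have h2 := congrFun h1 i
  rw [lin_apply, Matrix.mulVec_single_one] at h2
  simp only [Matrix.col_apply, Pi.smul_apply, smul_eq_mul] at h2
  rw [h2, Matrix.smul_apply, Matrix.one_apply, Pi.single_apply, smul_eq_mul]

theorem classify (hn : 1 ≤ n) (h2 : (2 : F) ≠ 0) {M : Mat} (hu : IsUnit M) {a : F}
    (hM : M * M = a • (1 : Mat)) (hns : ∀ b : F, M ≠ b • (1 : Mat)) :
    (∃ k, 1 ≤ k ∧ k ≤ n / 2 ∧ RS M k) ∨ NS M := by
  by_cases hsq : IsSquare a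
  · left
    obtain ⟨μ, rfl⟩ := hsq
    have hμ : μ ≠ 0 := by
      rintro rfl
      obtain ⟨u, rfl⟩ := hu
      rw [mul_zero, zero_smul] at hM
      have h1 := congrArg (fun X : Mat => ((u⁻¹ : Matˣ) : Mat) * X) hM
      simp only [← Matrix.mul_assoc, Units.inv_mul, Matrix.one_mul, Matrix.mul_zero] at h1
      have h3 : ((u * u⁻¹ : Matˣ) : Mat) = 1 := by rw [mul_inv_cancel]; rfl
      rw [Units.val_mul, h1, Matrix.zero_mul] at h3
      have := congrFun (congrFun h3 ⟨0, hn⟩) ⟨0, hn⟩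
      simp at this
    have hc := eig_isCompl (lin M) μ hμ h2 (lin_sq hM)
    have hsum := Submodule.finrank_add_eq_of_isCompl hc
    rw [Module.finrank_fin_fun] at hsum
    have hk0 : finrank F (End.eigenspace (lin M) (-μ)) ≠ 0 := by
      intro h0
      rw [Submodule.finrank_eq_zero] at h0
      have := hc.sup_eq_top
      rw [h0, sup_bot_eq] at this
      exact hns μ (eq_smul_one_of_eig_top this)
    have hk1 : finrank F (End.eigenspace (lin M) μ) ≠ 0 := by
      intro h0
      rw [Submodule.finrank_eq_zero] at h0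
      have := hc.sup_eq_top
      rw [h0, bot_sup_eq] at this
      exact hns (-μ) (eq_smul_one_of_eig_top this)
    by_cases hle : finrank F (End.eigenspace (lin M) (-μ)) ≤ n / 2
    · exact ⟨_, by omega, hle, μ, hμ, hM, rfl⟩
    · refine ⟨finrank F (End.eigenspace (lin M) μ), by omega, by omega, -μ, neg_ne_zero.mpr hμ, ?_, ?_⟩
      · rw [neg_mul_neg]
        exact hM
      · rw [neg_neg]
  · right
    exact ⟨a, hsq, hM⟩

theorem isSquare_of_odd {M : Mat} {a : F} (hodd : Odd n) (hM : M * M = a • (1 : Mat)) :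
    IsSquare a := by
  obtain ⟨j, hj⟩ := hodd
  by_cases ha : a = 0
  · exact ⟨0, by rw [ha, mul_zero]⟩
  have h1 := congrArg Matrix.det hM
  rw [Matrix.det_mul, Matrix.det_smul, Matrix.det_one, mul_one, Fintype.card_fin] at h1
  refine ⟨M.det / a ^ j, ?_⟩
  have h3 : a ^ j ≠ 0 := pow_ne_zero _ ha
  field_simp
  have h4 : a ^ n = a * (a ^ j) ^ 2 := by rw [hj]; ring
  rw [pow_two (M.det), h1, h4]


theorem exists_RS (h2 : (2 : F) ≠ 0) {k : ℕ} (hk1 : 1 ≤ k) (hk2 : k ≤ n / 2) :
    ∃ M : Mat, IsUnit M ∧ (∀ b : F, M ≠ b • (1 : Mat)) ∧ RS M k := by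
  classical
  have hkn : k < n := by omega
  set w : Fin n → F := fun j => if (j : ℕ) < k then -1 else 1 with hw
  set D : Mat := Matrix.diagonal w with hD
  have hDD : D * D = 1 := by
    rw [hD, Matrix.diagonal_mul_diagonal, ← Matrix.diagonal_one]
    congr 1
    funext j
    simp only [hw]
    split_ifs <;> ring
  refine ⟨D, ⟨⟨D, D, hDD, hDD⟩, rfl⟩, ?_, 1, one_ne_zero, by rw [hDD, mul_one, one_smul], ?_⟩
  · intro b hb
    have h0 := congrFun (congrFun hb ⟨0, by omega⟩) ⟨0, by omega⟩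
    have h1 := congrFun (congrFun hb ⟨k, hkn⟩) ⟨k, hkn⟩
    simp only [hD, hw, Matrix.diagonal_apply_eq, Matrix.smul_apply, Matrix.one_apply_eq,
      smul_eq_mul, mul_one, lt_self_iff_false, if_false] at h0 h1
    rw [if_pos (by omega : 0 < k)] at h0
    apply h2
    have : (1 : F) = -1 := h1.trans h0.symm
    linear_combination this
  · have heig : End.eigenspace (lin D) (-1) = LinearMap.ker (lin (D + 1)) := by
      ext v
      rw [End.mem_eigenspace_iff, LinearMap.mem_ker, lin_apply, lin_apply, Matrix.add_mulVec,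
        Matrix.one_mulVec, neg_one_smul]
      constructor
      · intro h
        rw [h]
        exact neg_add_cancel v
      · intro h
        exact eq_neg_of_add_eq_zero_left h
    rw [heig]
    have hrk := LinearMap.finrank_range_add_finrank_ker (lin (D + 1))
    rw [Module.finrank_fin_fun] at hrk
    have hrank : finrank F (LinearMap.range (lin (D + 1))) = n - k := by
      have h3 : lin (D + 1) = (D + 1).mulVecLin := Matrix.toLin'_apply' _
      rw [h3]
      show (D + 1).rank = n - k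
      have hD1 : D + 1 = Matrix.diagonal (fun j : Fin n => if (j : ℕ) < k then (0 : F) else 2) := by
        rw [hD, ← Matrix.diagonal_one, Matrix.diagonal_add]
        congr 1
        funext j
        simp only [hw]
        split_ifs <;> norm_num
      rw [hD1, Matrix.rank_diagonal, Fintype.card_subtype]
      have h4 : (Finset.univ.filter (fun j : Fin n => (if (j : ℕ) < k then (0 : F) else 2) ≠ 0)) =
          Finset.univ.filter (fun j : Fin n => ¬ ((j : ℕ) < k)) := by
        apply Finset.filter_congr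
        intro j _
        split_ifs with hj
        · simp [hj]
        · simp [hj, h2]
      rw [h4]
      have h5 := Finset.card_filter_add_card_filter_not (s := (Finset.univ : Finset (Fin n)))
        (fun j : Fin n => (j : ℕ) < k)
      rw [Fin.card_filter_val_lt, Finset.card_univ, Fintype.card_fin] at h5
      have : min n k = k := by omega
      omega
    omega


theorem exists_NS [Fintype F] (hF : ringChar F ≠ 2) (hn : 1 ≤ n) (heven : Even n) :
    ∃ M : Mat, IsUnit M ∧ (∀ b : F, M ≠ b • (1 : Mat)) ∧ NS M := by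
  classical
  obtain ⟨j, hj⟩ := heven
  obtain ⟨c₀, hc₀⟩ := FiniteField.exists_nonsquare hF
  have hc₀0 : c₀ ≠ 0 := by
    rintro rfl
    exact hc₀ ⟨0, by simp⟩
  let B : Matrix (Fin 2) (Fin 2) F := !![0, 1; c₀, 0]
  have hBB : B * B = c₀ • (1 : Matrix (Fin 2) (Fin 2) F) := by
    ext a b
    fin_cases a <;> fin_cases b <;> simp [B, Matrix.mul_apply, Fin.sum_univ_two]
  let E₀ : Matrix (Fin 2 × Fin j) (Fin 2 × Fin j) F := Matrix.blockDiagonal (fun _ => B)
  have hE₀ : E₀ * E₀ = c₀ • (1 : Matrix (Fin 2 × Fin j) (Fin 2 × Fin j) F) := by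
    show Matrix.blockDiagonal (fun _ => B) * Matrix.blockDiagonal (fun _ => B) = _
    rw [← Matrix.blockDiagonal_mul]
    have : (fun k : Fin j => B * B) = c₀ • (1 : Fin j → Matrix (Fin 2) (Fin 2) F) := by
      funext k
      rw [hBB]
      rfl
    rw [this, Matrix.blockDiagonal_smul, Matrix.blockDiagonal_one]
  have hcard : Fintype.card (Fin 2 × Fin j) = Fintype.card (Fin n) := by
    simp [hj]
    ring
  let e : Fin 2 × Fin j ≃ Fin n := Fintype.equivOfCardEq hcard
  let E : Mat := Matrix.reindex e e E₀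
  have hEE : E * E = c₀ • (1 : Mat) := by
    show (Matrix.reindex e e E₀) * (Matrix.reindex e e E₀) = _
    rw [Matrix.reindex_apply, Matrix.submatrix_mul_equiv, hE₀]
    ext a b
    simp [Matrix.submatrix_apply, Matrix.smul_apply, Matrix.one_apply]
  refine ⟨E, ?_, ?_, c₀, hc₀, hEE⟩
  · refine ⟨⟨E, c₀⁻¹ • E, ?_, ?_⟩, rfl⟩
    · rw [Matrix.mul_smul, hEE, smul_smul, inv_mul_cancel₀ hc₀0, one_smul]
    · rw [Matrix.smul_mul, hEE, smul_smul, inv_mul_cancel₀ hc₀0, one_smul]
  · intro b hb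
    rw [hb, smul_mul_smul_self, Matrix.mul_one] at hEE
    exact hc₀ ⟨b, (smul_one_inj hn hEE).symm⟩


section quotient

open Cfsg.Agent.S2636

local notation "G" => GL (Fin n) F
local notation "P" => GL (Fin n) F ⧸ Subgroup.center (GL (Fin n) F)

theorem mem_center_iff' (g : G) :
    g ∈ Subgroup.center G ↔ ∃ b : F, (g : Mat) = b • (1 : Mat) := by
  rw [Matrix.GeneralLinearGroup.mem_center_iff_val_mem_range_scalar]
  constructor
  · rintro ⟨b, hb⟩
    refine ⟨b, ?_⟩
    rw [← hb, Matrix.scalar_apply, Matrix.smul_one_eq_diagonal]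
  · rintro ⟨b, hb⟩
    refine ⟨b, ?_⟩
    rw [hb, Matrix.scalar_apply, Matrix.smul_one_eq_diagonal]

theorem order_two_iff (g : G) :
    orderOf (g : P) = 2 ↔
      (∃ a : F, (g : Mat) * (g : Mat) = a • (1 : Mat)) ∧ ¬ ∃ b : F, (g : Mat) = b • (1 : Mat) := by
  haveI : Fact (Nat.Prime 2) := ⟨Nat.prime_two⟩
  rw [orderOf_eq_prime_iff, ← QuotientGroup.mk_pow, QuotientGroup.eq_one_iff, Ne,
    QuotientGroup.eq_one_iff, mem_center_iff', mem_center_iff', pow_two, Units.val_mul]

theorem conj_iff (hn : 1 ≤ n) (g g' : G) :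
    IsConj (g : P) (g' : P) ↔
      ∃ (Hm : Mat) (c : F), IsUnit Hm ∧ c ≠ 0 ∧ Hm * (g : Mat) = (c • (g' : Mat)) * Hm := by
  constructor
  · intro h
    rw [isConj_iff] at h
    obtain ⟨x, hx⟩ := h
    obtain ⟨h, rfl⟩ := QuotientGroup.mk_surjective x
    have h1 : ((g' : G) : P) = ((h * g * h⁻¹ : G) : P) := by
      rw [← hx]
      rfl
    rw [QuotientGroup.eq, mem_center_iff'] at h1
    obtain ⟨b, hb⟩ := h1
    have hb0 : b ≠ 0 := by
      rintro rfl
      rw [zero_smul] at hb
      have h3 : ((g'⁻¹ * (h * g * h⁻¹) : G) : Mat) * (((g'⁻¹ * (h * g * h⁻¹))⁻¹ : G) : Mat) = 1 := by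
        rw [← Units.val_mul, mul_inv_cancel]
        rfl
      rw [hb, Matrix.zero_mul] at h3
      have := congrFun (congrFun h3 ⟨0, hn⟩) ⟨0, hn⟩
      simp at this
    refine ⟨(h : Mat), b, ⟨h, rfl⟩, hb0, ?_⟩
    have h4 : h * g = g' * (g'⁻¹ * (h * g * h⁻¹)) * h := by group
    have h5 := congrArg (fun x : G => (x : Mat)) h4
    simp only [Units.val_mul] at h5
    rw [h5]
    have : ((g'⁻¹ : G) : Mat) * ((h : Mat) * (g : Mat) * ((h⁻¹ : G) : Mat)) = b • (1 : Mat) := by
      rw [← hb]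
      simp only [Units.val_mul]
    rw [this, Matrix.mul_smul, Matrix.mul_one]
  · rintro ⟨Hm, c, ⟨h, rfl⟩, hc, hH⟩
    rw [isConj_iff]
    refine ⟨(h : P), ?_⟩
    have h1 : h * g * h⁻¹ = sc n F (Units.mk0 c hc) * g' := by
      rw [mul_inv_eq_iff_eq_mul]
      apply Units.ext
      rw [Units.val_mul, Units.val_mul, Units.val_mul, coe_sc, Units.val_mk0, Matrix.smul_mul,
        Matrix.one_mul]
      exact hH
    have h2 : ((sc n F (Units.mk0 c hc) : G) : P) = 1 := by
      rw [QuotientGroup.eq_one_iff, mem_center_iff']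
      exact ⟨c, by rw [coe_sc, Units.val_mk0]⟩
    calc (h : P) * (g : P) * (h : P)⁻¹ = ((h * g * h⁻¹ : G) : P) := rfl
      _ = ((sc n F (Units.mk0 c hc) * g' : G) : P) := by rw [h1]
      _ = ((sc n F (Units.mk0 c hc) : G) : P) * (g' : P) := rfl
      _ = (g' : P) := by rw [h2, one_mul]

end quotient

theorem result {F : Type*} [Field F] [Fintype F] {q : ℕ} (hF : Fintype.card F = q) (hq : Odd q) {n : ℕ} (hn : 2 ≤ n) : Nat.card {C : ConjClasses (GL (Fin n) F ⧸ Subgroup.center (GL (Fin n) F)) // ∃ g : GL (Fin n) F ⧸ Subgroup.center (GL (Fin n) F), ConjClasses.mk g = C ∧ orderOf g = 2} = n / 2 + (if Even n then 1 else 0) := by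
  classical
  have hchar : ringChar F ≠ 2 := by
    intro h
    have := (FiniteField.even_card_iff_char_two).mp h
    rw [hF] at this
    rw [Nat.odd_iff] at hq
    omega
  have h2 : (2 : F) ≠ 0 := Ring.two_ne_zero hchar
  have hn1 : 1 ≤ n := by omega
  -- representatives
  have hex1 : ∀ i : Fin (n / 2), ∃ g : GL (Fin n) F,
      orderOf (g : GL (Fin n) F ⧸ Subgroup.center (GL (Fin n) F)) = 2 ∧
        RS (g : Matrix (Fin n) (Fin n) F) ((i : ℕ) + 1) := by
    intro i
    obtain ⟨M, ⟨u, rfl⟩, hns, hRS⟩ := exists_RS (F := F) (n := n) h2 (k := (i : ℕ) + 1) (by omega)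
      (by have := i.2; omega)
    refine ⟨u, ?_, hRS⟩
    rw [order_two_iff]
    obtain ⟨μ, _, hM, _⟩ := hRS
    exact ⟨⟨_, hM⟩, fun ⟨b, hb⟩ => hns b hb⟩
  have hex2 : ∀ _u : Fin (if Even n then 1 else 0), ∃ g : GL (Fin n) F,
      orderOf (g : GL (Fin n) F ⧸ Subgroup.center (GL (Fin n) F)) = 2 ∧
        NS (g : Matrix (Fin n) (Fin n) F) := by
    intro u
    have heven : Even n := by
      by_contra h
      have h0 : (if Even n then 1 else 0) = 0 := if_neg h
      exact (Fin.cast h0 u).elim0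
    obtain ⟨M, ⟨u, rfl⟩, hns, hNS⟩ := exists_NS (F := F) (n := n) hchar hn1 heven
    refine ⟨u, ?_, hNS⟩
    rw [order_two_iff]
    obtain ⟨c, _, hM⟩ := hNS
    exact ⟨⟨_, hM⟩, fun ⟨b, hb⟩ => hns b hb⟩
  choose r1 hr1 using hex1
  choose r2 hr2 using hex2
  let rep : Fin (n / 2) ⊕ Fin (if Even n then 1 else 0) → GL (Fin n) F := Sum.elim r1 r2
  have hrep : ∀ l, orderOf (rep l : GL (Fin n) F ⧸ Subgroup.center (GL (Fin n) F)) = 2 := by
    rintro (i | u)
    · exact (hr1 i).1
    · exact (hr2 u).1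
  let φ : Fin (n / 2) ⊕ Fin (if Even n then 1 else 0) →
      {C : ConjClasses (GL (Fin n) F ⧸ Subgroup.center (GL (Fin n) F)) //
        ∃ g : GL (Fin n) F ⧸ Subgroup.center (GL (Fin n) F), ConjClasses.mk g = C ∧ orderOf g = 2} :=
    fun l => ⟨ConjClasses.mk (rep l : GL (Fin n) F ⧸ Subgroup.center (GL (Fin n) F)),
      (rep l : GL (Fin n) F ⧸ Subgroup.center (GL (Fin n) F)), rfl, hrep l⟩
  have hsub : ∀ u u' : Fin (if Even n then 1 else 0), u = u' := by
    intro u u'
    apply Fin.ext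
    have h1 := u.2
    have h1' := u'.2
    by_cases h : Even n
    · simp only [if_pos h] at h1 h1'
      omega
    · simp only [if_neg h] at h1 h1'
      omega
  have hbij : Function.Bijective φ := by
    constructor
    · intro l l' hll
      have h1 : ConjClasses.mk (rep l : GL (Fin n) F ⧸ Subgroup.center (GL (Fin n) F)) =
          ConjClasses.mk (rep l' : GL (Fin n) F ⧸ Subgroup.center (GL (Fin n) F)) :=
        congrArg Subtype.val hll
      rw [ConjClasses.mk_eq_mk_iff_isConj] at h1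
      rcases l with i | u <;> rcases l' with i' | u'
      · obtain ⟨Hm, c, hu, hc, hH⟩ := (conj_iff hn1 _ _).mp h1
        have := RS_conj hn1 h2 hu hc hH (hr1 i).2 (hr1 i').2
        have hi := i.2
        have hi' := i'.2
        congr 1
        apply Fin.ext
        omega
      · exfalso
        obtain ⟨Hm, c, hu, hc, hH⟩ := (conj_iff hn1 _ _).mp h1
        exact not_RS_NS hn1 hu hc hH (hr1 i).2 (hr2 u').2
      · exfalso
        obtain ⟨Hm, c, hu, hc, hH⟩ := (conj_iff hn1 _ _).mp h1.symm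
        exact not_RS_NS hn1 hu hc hH (hr1 i').2 (hr2 u).2
      · rw [hsub u u']
    · rintro ⟨C, x, rfl, hord⟩
      obtain ⟨g, rfl⟩ := QuotientGroup.mk_surjective x
      obtain ⟨⟨a, ha⟩, hns⟩ := (order_two_iff g).mp hord
      have hns' : ∀ b : F, (g : Matrix (Fin n) (Fin n) F) ≠ b • (1 : Matrix (Fin n) (Fin n) F) :=
        fun b hb => hns ⟨b, hb⟩
      rcases classify hn1 h2 g.isUnit ha hns' with ⟨k, hk1, hk2, hRS⟩ | hNS
      · refine ⟨Sum.inl ⟨k - 1, by omega⟩, ?_⟩
        apply Subtype.ext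
        show ConjClasses.mk _ = ConjClasses.mk _
        rw [ConjClasses.mk_eq_mk_iff_isConj, conj_iff hn1]
        have h3 := (hr1 ⟨k - 1, by omega⟩).2
        have h4 : ((⟨k - 1, by omega⟩ : Fin (n / 2)) : ℕ) + 1 = k := by
          show k - 1 + 1 = k
          omega
        rw [h4] at h3
        exact conj_of_RS h2 h3 hRS
      · have heven : Even n := by
          by_contra h
          rw [Nat.not_even_iff_odd] at h
          obtain ⟨c, hc, hM⟩ := hNS
          exact hc (isSquare_of_odd h hM)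
        have h0 : (if Even n then 1 else 0) = 1 := if_pos heven
        refine ⟨Sum.inr (Fin.cast h0.symm 0), ?_⟩
        apply Subtype.ext
        show ConjClasses.mk _ = ConjClasses.mk _
        rw [ConjClasses.mk_eq_mk_iff_isConj, conj_iff hn1]
        exact conj_of_NS (hr2 _).2 hNS
  rw [← Nat.card_congr (Equiv.ofBijective φ hbij), Nat.card_eq_fintype_card, Fintype.card_sum,
    Fintype.card_fin, Fintype.card_fin]

end Cfsg.Agent.S2577
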