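import Cfsg.Statements.S0721
import Mathlib
import Cfsg.Agent.Helper4.CharSimple

set_option autoImplicit false
open Cfsg

namespace Cfsg.Agent.S0721

/-- A minimal normal subgroup of a finite group is isomorphic to a direct power `T ^ m` of a simple group `T` (possibly of prime order). -/
theorem result {H : Type*} [Group H] [Finite H] (N : Subgroup H) [N.Normal] (hN : N ≠ ⊥) (hmin : ∀ M : Subgroup H, M.Normal → M ≤ N → M = ⊥ ∨ M = N) : ∃ (T : Type) (_ : Group T) (m : ℕ), IsSimpleGroup T ∧ 0 < m ∧ Nonempty (N ≃* (Fin m → T)) := by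
  classical
  haveI : Nontrivial N := by
    rw [Subgroup.nontrivial_iff_ne_bot]
    exact hN
  obtain ⟨T, m, hT, ⟨e⟩⟩ := Cfsg.Agent.Helper4.charSimple_iso_pi (Γ := ↥N) (A := H)
    (MulAut.conjNormal (H := N)) (by
      intro M hM hinv
      have hMn : (M.map N.subtype).Normal := by
        constructor
        intro x hx g
        obtain ⟨y, hy, rfl⟩ := hx
        have h1 : (MulAut.conjNormal (H := N) g) y ∈ M.map (MulAut.conjNormal (H := N) g).toMonoidHom :=
          ⟨y, hy, rfl⟩
        have h2 := hinv g h1
        refine ⟨_, h2, ?_⟩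
        simp [MulAut.conjNormal_apply]
      have hle : M.map N.subtype ≤ N := by
        rintro x ⟨y, _, rfl⟩
        exact y.2
      rcases hmin _ hMn hle with h | h
      · left
        rw [Subgroup.map_eq_bot_iff_of_injective _ N.subtype_injective] at h
        exact h
      · right
        rw [eq_top_iff]
        intro x _
        have hx : (x : H) ∈ M.map N.subtype := by
          rw [h]; exact x.2
        obtain ⟨y, hy, hyx⟩ := hx
        have : y = x := N.subtype_injective hyx
        rwa [← this])
  haveI : Small.{0} T := Countable.toSmall _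
  refine ⟨Shrink.{0} T, inferInstance, m + 1, ?_, Nat.succ_pos m, ?_⟩
  · exact (Shrink.mulEquiv (α := T)).symm.isSimpleGroup_congr.mp hT
  · exact ⟨e.trans (MulEquiv.piCongrRight (fun _ => (Shrink.mulEquiv (α := T)).symm))⟩

end Cfsg.Agent.S0721
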