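import Cfsg.Statements.S1077
import Mathlib
import Cfsg.Agent.Helper2.Stb.Center

set_option autoImplicit false
open Cfsg

namespace Cfsg.Agent.S1077

open Cfsg.Lie Cfsg.Agent.Helper6 Cfsg.Agent.Helper2.Stb

/-- Steinberg's Theorem: there is a homomorphism `x̄_r(t) ↦ x_r(t)` from the presented group onto the Chevalley group whose kernel is precisely the centre; hence `L(K) ≅ Ḡ/Z(Ḡ)`. -/
theorem result {K : Type*} [Field K] (D : Cfsg.Lie.ChevalleyDatum) (hD : D ∈ [Cfsg.Lie.chevG2, Cfsg.Lie.chevB2, Cfsg.Lie.chevD4, Cfsg.Lie.chevF4, Cfsg.Lie.chevE6, Cfsg.Lie.chevE7, Cfsg.Lie.chevE8]) :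
    ∃ θ : D.SteinbergGroup K →* ↥(D.group K), Function.Surjective θ ∧ θ.ker = Subgroup.center (D.SteinbergGroup K) ∧
      ∀ (r : ℕ) (t : K), r < D.nroots → ((θ (D.stGen K r t) : GL D.Idx K) : Matrix D.Idx D.Idx K) = D.x K r t := by
  have hD' : IsTabulated D := hD
  have hsub : D.steinbergRelsAB K ⊆ D.steinbergRels K := fun g hg => Or.inl hg
  have hθ : ∀ (r : ℕ) (t : K), r < D.nroots →
      ((thetaABC hD' K (pX D (D.steinbergRels K) r t) : GL D.Idx K) : Matrix D.Idx D.Idx K) =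
        D.x K r t := fun r t hr => thetaABC_apply hD' r t hr
  have hsurj := surjective_pres hsub _ hθ
  refine ⟨thetaABC hD' K, hsurj, le_antisymm (ker_le_center_pres hD' hsub _ hθ) ?_, hθ⟩
  intro z hz
  rw [MonoidHom.mem_ker]
  have h1 : thetaABC hD' K z ∈ Subgroup.center ↥(D.group K) := by
    rw [Subgroup.mem_center_iff]
    intro g
    obtain ⟨x, rfl⟩ := hsurj g
    rw [← map_mul, ← map_mul, Subgroup.mem_center_iff.1 hz x]
  rw [center_group_eq_bot hD', Subgroup.mem_bot] at h1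
  exact h1

end Cfsg.Agent.S1077
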