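import Mathlib
import Cfsg.Statements.S3803
import Cfsg.Agent.S3736
import Cfsg.Agent.Helper19.Basic
import Cfsg.Agent.Helper19.Sylow
import Cfsg.Agent.Helper19.Class2
import Cfsg.Agent.Lead.Coprime3
import Cfsg.Agent.Helper1.PGroup

set_option autoImplicit false
open Cfsg

namespace Cfsg.Agent.S3803

open Subgroup Cfsg.Agent.Lead Cfsg.Agent.Helper19
open scoped commutatorElement

/-- Subgroups of prescribed `p`-power order between `H` and `Q`. -/
lemma exists_subgroup_card_between {X : Type*} [Group X] [Finite X] {p : ℕ} [Fact p.Prime]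
    {H Q : Subgroup X} (hHQ : H ≤ Q) {n m : ℕ} (hH : Nat.card H = p ^ n) (hnm : n ≤ m)
    (hQ : p ^ m ∣ Nat.card Q) : ∃ K : Subgroup X, H ≤ K ∧ K ≤ Q ∧ Nat.card K = p ^ m := by
  have hH' : Nat.card (H.subgroupOf Q) = p ^ n := by
    rw [Nat.card_congr (subgroupOfEquivOfLe hHQ).toEquiv, hH]
  obtain ⟨K', hK', hHK'⟩ := Sylow.exists_subgroup_card_pow_prime_le p hQ (H.subgroupOf Q) hH' hnm
  refine ⟨K'.map Q.subtype, ?_, map_subtype_le _, ?_⟩
  · rw [← map_subgroupOf_eq_of_le hHQ]
    exact map_mono hHK'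
  · rw [Nat.card_congr (K'.equivMapOfInjective _ Q.subtype_injective).symm.toEquiv, hK']

/-- In a finite special `p`-group every element has order dividing `p²`. -/
lemma special_pow {Q : Type*} [Group Q] [Finite Q] {p : ℕ} [Fact p.Prime]
    (h : Cfsg.IsSpecial p Q) (x : Q) : (x ^ p) ^ p = 1 := by
  obtain ⟨hP, hΦZ, hDZ⟩ := h
  have hxp : ∀ x : Q, x ^ p ∈ center Q := fun x => by
    rw [← hΦZ]; exact Helper1.IsPGroup.pow_mem_frattini hP x
  have hc : ∀ x y : Q, ⁅y, x⁆ ∈ center Q := fun x y => by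
    rw [← hDZ, _root_.commutator_def]
    exact commutator_mem_commutator (mem_top _) (mem_top _)
  have hcp : ∀ x y : Q, ⁅y, x⁆ ^ p = 1 := by
    intro x y
    have hy : Commute ⁅y, x⁆ y := (Subgroup.mem_center_iff.mp (hc x y) y).symm
    rw [← commutator_pow_left_of_commute_comm x y hy p, commutatorElement_eq_one_iff_mul_comm]
    exact (Subgroup.mem_center_iff.mp (hxp y) x).symm
  have hD : ∀ c ∈ _root_.commutator Q, c ^ p = 1 := by
    intro c hcm
    have hcm' := hcm
    rw [_root_.commutator_def, Subgroup.commutator_def] at hcm'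
    induction hcm' using Subgroup.closure_induction with
    | mem w hw =>
      obtain ⟨a, _, b, _, rfl⟩ := hw
      exact hcp b a
    | one => exact one_pow _
    | mul a b ha hb iha ihb =>
      have ha' : a ∈ _root_.commutator Q := by
        rw [_root_.commutator_def, Subgroup.commutator_def]; exact ha
      have hb' : b ∈ _root_.commutator Q := by
        rw [_root_.commutator_def, Subgroup.commutator_def]; exact hb
      have hab : Commute a b := by
        rw [hDZ] at ha'
        exact (Subgroup.mem_center_iff.mp ha' b).symm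
      rw [hab.mul_pow, iha ha', ihb hb', one_mul]
    | inv a ha iha =>
      have ha' : a ∈ _root_.commutator Q := by
        rw [_root_.commutator_def, Subgroup.commutator_def]; exact ha
      rw [inv_pow, iha ha', inv_one]
  apply hD
  rw [hDZ]
  exact hxp x

/-- If an odd-order group `A` normalizes a `2`-group `R` and all of its subgroups of index two,
then `A` centralizes `R`. -/
lemma commutator_eq_bot_of_maximal_invariant {X : Type*} [Group X] [Finite X] (R A : Subgroup X)
    (hR : IsPGroup 2 R) (hAR : A ≤ normalizer (R : Set X)) (hcop : (Nat.card A).Coprime 2)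
    (hmax : ∀ M : Subgroup X, M ≤ R → Nat.card M * 2 = Nat.card R →
      A ≤ normalizer (M : Set X)) : ⁅R, A⁆ = ⊥ := by
  have : Fact (Nat.Prime 2) := ⟨Nat.prime_two⟩
  have hcopR : (Nat.card A).Coprime (Nat.card R) := by
    obtain ⟨n, hn⟩ := IsPGroup.iff_card.mp hR
    rw [hn]; exact Nat.Coprime.pow_right n hcop
  have hsolv : Group.IsSolvable R := by
    have : Group.IsNilpotent R := hR.isNilpotent
    infer_instance
  have hRA_le : ⁅R, A⁆ ≤ R := commutator_le_of_le_normalizer hAR
  have h1 : ∀ M' : Subgroup ↥R, IsCoatom M' → (⁅R, A⁆).subgroupOf R ≤ M' := by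
    intro M' hM'
    have hidx : M'.index = 2 := Helper1.IsPGroup.coatom_index hR hM'
    have hMR : M'.map R.subtype ≤ R := map_subtype_le _
    have hcard : Nat.card (M'.map R.subtype) * 2 = Nat.card R := by
      rw [Nat.card_congr (M'.equivMapOfInjective _ R.subtype_injective).symm.toEquiv, ← hidx,
        Subgroup.card_mul_index]
    have hAM := hmax _ hMR hcard
    have hmemM : ∀ r : ↥R, r ∈ M' ↔ (r : X) ∈ M'.map R.subtype := by
      intro r
      constructor
      · intro hr; exact ⟨r, hr, rfl⟩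
      · rintro ⟨s, hs, hsr⟩
        have : s = r := Subtype.ext hsr
        exact this ▸ hs
    have hle : ⁅R, A⁆ ≤ M'.map R.subtype := by
      rw [commutator_le]
      intro r hr a ha
      have hs : a * r⁻¹ * a⁻¹ ∈ R := (mem_normalizer_iff.mp (hAR ha) r⁻¹).mp (R.inv_mem hr)
      have e : ⁅r, a⁆ = r * (a * r⁻¹ * a⁻¹) := by rw [commutatorElement_def]; group
      rw [e]
      have key := Subgroup.mul_mem_iff_of_index_two hidx (a := (⟨r, hr⟩ : ↥R))
        (b := (⟨a * r⁻¹ * a⁻¹, hs⟩ : ↥R))
      have hiff : ((⟨r, hr⟩ : ↥R) ∈ M' ↔ (⟨a * r⁻¹ * a⁻¹, hs⟩ : ↥R) ∈ M') := by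
        rw [hmemM, hmemM]
        change r ∈ M'.map R.subtype ↔ a * r⁻¹ * a⁻¹ ∈ M'.map R.subtype
        rw [← mem_normalizer_iff.mp (hAM ha) r⁻¹, inv_mem_iff]
      have := key.mpr hiff
      rw [hmemM] at this
      exact this
    intro x hx
    rw [mem_subgroupOf] at hx
    exact (hmemM x).mpr (hle hx)
  have h2 : (⁅R, A⁆).subgroupOf R ≤ frattini ↥R := (Helper1.le_frattini_iff _).mpr h1
  have h3 := coprime_commutator_sup_centralizer A R hAR hcopR (Or.inr hsolv)
  have h4 : (R ⊓ centralizer (A : Set X)).subgroupOf R ⊔ frattini ↥R = ⊤ := by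
    rw [eq_top_iff]
    calc (⊤ : Subgroup ↥R) = R.subgroupOf R := (subgroupOf_self R).symm
      _ = (⁅R, A⁆ ⊔ (R ⊓ centralizer (A : Set X))).subgroupOf R := by rw [h3]
      _ = (⁅R, A⁆).subgroupOf R ⊔ (R ⊓ centralizer (A : Set X)).subgroupOf R :=
        subgroupOf_sup hRA_le inf_le_left
      _ ≤ (R ⊓ centralizer (A : Set X)).subgroupOf R ⊔ frattini ↥R := by
        rw [sup_comm]
        exact sup_le_sup le_rfl h2
  have h5 := frattini_nongenerating h4
  rw [commutator_eq_bot_iff_le_centralizer]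
  intro r hr
  have : (⟨r, hr⟩ : ↥R) ∈ (R ⊓ centralizer (A : Set X)).subgroupOf R := by rw [h5]; exact mem_top _
  rw [mem_subgroupOf] at this
  exact this.2


/-- In a cyclic group there is at most one element of order two. -/
lemma eq_of_sq_eq_one_of_mem_zpowers {G : Type*} [Group G] [Finite G] (r x y : G)
    (hx : x ∈ zpowers r) (hy : y ∈ zpowers r) (hx2 : x ^ 2 = 1) (hy2 : y ^ 2 = 1) (hx1 : x ≠ 1)
    (hy1 : y ≠ 1) : x = y := by
  classical
  by_contra hxy
  haveI : Fintype ↥(zpowers r) := Fintype.ofFinite _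
  have h := IsCyclic.card_pow_eq_one_le (α := ↥(zpowers r)) (n := 2) (by norm_num)
  have hsub : ({1, ⟨x, hx⟩, ⟨y, hy⟩} : Finset ↥(zpowers r)) ⊆
      Finset.univ.filter (fun a : ↥(zpowers r) => a ^ 2 = 1) := by
    intro z hz
    simp only [Finset.mem_insert, Finset.mem_singleton] at hz
    rw [Finset.mem_filter]
    refine ⟨Finset.mem_univ _, ?_⟩
    rcases hz with rfl | rfl | rfl
    · exact one_pow _
    · exact Subtype.ext hx2
    · exact Subtype.ext hy2
  have hcard : ({1, ⟨x, hx⟩, ⟨y, hy⟩} : Finset ↥(zpowers r)).card = 3 := by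
    rw [Finset.card_insert_of_notMem, Finset.card_insert_of_notMem, Finset.card_singleton]
    · rw [Finset.mem_singleton]
      intro h'
      exact hxy (congrArg Subtype.val h')
    · simp only [Finset.mem_insert, Finset.mem_singleton, not_or]
      refine ⟨fun h' => hx1 (congrArg Subtype.val h').symm, fun h' => hy1 (congrArg Subtype.val h').symm⟩
  have := (Finset.card_le_card hsub).trans (by convert h)
  omega

/-- Let P be a 2-subgroup and A a subgroup of odd order of a finite group, with A normalizing P. Let D ≤ P with 1 < |D| < |P|. If every subgroup of P of order |D|, and also every subgroup of P of order 4 in case |D| = 2, is normalized by A, then A centralizes P. -/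
theorem result {X : Type*} [Group X] [Finite X] (P A D : Subgroup X) (hP : IsPGroup 2 P) (hA : Odd (Nat.card A))
    (hAP : A ≤ Subgroup.normalizer (P : Set X)) (hDP : D ≤ P) (hD1 : 1 < Nat.card D) (hD2 : Nat.card D < Nat.card P)
    (hinv : ∀ E : Subgroup X, E ≤ P → (Nat.card E = Nat.card D ∨ (Nat.card D = 2 ∧ Nat.card E = 4)) → A ≤ Subgroup.normalizer (E : Set X)) :
    A ≤ Subgroup.centralizer (P : Set X) := by
  classical
  have hf2 : Fact (Nat.Prime 2) := ⟨Nat.prime_two⟩
  have hcop : (Nat.card A).Coprime 2 := Nat.coprime_two_right.mpr hA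
  obtain ⟨d, hd⟩ := IsPGroup.iff_card.mp (hP.to_le hDP)
  obtain ⟨n, hn⟩ := IsPGroup.iff_card.mp hP
  have hd1 : 1 ≤ d := by
    by_contra h
    have h0 : d = 0 := by omega
    rw [h0, pow_zero] at hd
    omega
  have hdn : d < n := by
    rw [hd, hn] at hD2
    exact (Nat.pow_lt_pow_iff_right (by norm_num)).mp hD2
  rw [← commutator_eq_bot_iff_le_centralizer, commutator_comm]
  by_contra hne
  -- a minimal `A`-invariant subgroup on which `A` acts nontrivially
  let S : Set (Subgroup X) := {U | U ≤ P ∧ A ≤ normalizer (U : Set X) ∧ ⁅U, A⁆ ≠ ⊥}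
  obtain ⟨P₁, ⟨hP₁P, hAP₁, hP₁ne⟩, hP₁min⟩ := wellFounded_lt.has_min S ⟨P, le_rfl, hAP, hne⟩
  have hmin : ∀ U : Subgroup X, U < P₁ → A ≤ normalizer (U : Set X) → ⁅U, A⁆ = ⊥ := by
    intro U hU hAU
    by_contra hUne
    exact hP₁min U ⟨hU.le.trans hP₁P, hAU, hUne⟩ hU
  have hP₁ : IsPGroup 2 P₁ := hP.to_le hP₁P
  obtain ⟨hPA, hdich, -, -⟩ :=
    Cfsg.Agent.S3736.result (p := 2) A A P₁ hP₁ hAP₁ le_rfl le_normalizer hcop hP₁ne hmin
  -- exponent
  have hexp : (∀ x ∈ P₁, (x ^ 2) ^ 2 = 1) ∧
      ((∀ x ∈ P₁, ∀ y ∈ P₁, x * y = y * x) → ∀ x ∈ P₁, x ^ 2 = 1) := by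
    rcases hdich with ⟨_, he⟩ | hs
    · exact ⟨fun x hx => by rw [he x hx, one_pow], fun _ => he⟩
    · refine ⟨fun x hx => ?_, fun hab x hx => ?_⟩
      · have := special_pow hs ⟨x, hx⟩
        exact congrArg Subtype.val this
      · have hZ : center ↥P₁ = ⊤ := by
          rw [eq_top_iff]
          intro y _
          rw [Subgroup.mem_center_iff]
          intro z
          exact Subtype.ext (hab z z.2 y y.2)
        have hΦ : frattini ↥P₁ = ⊤ := hs.2.1.trans hZ
        have hbot : (⊥ : Subgroup ↥P₁) = ⊤ := frattini_nongenerating (by rw [hΦ, bot_sup_eq])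
        have hx1 : (⟨x, hx⟩ : ↥P₁) ∈ (⊥ : Subgroup ↥P₁) := by rw [hbot]; exact mem_top _
        rw [mem_bot] at hx1
        have : x = 1 := congrArg Subtype.val hx1
        rw [this, one_pow]
  have hcentral : ∀ x, (∃ E : Subgroup X, x ∈ E ∧ E ≤ P₁ ∧ E ≠ P₁ ∧
      A ≤ normalizer (E : Set X)) → ∀ a ∈ A, ⁅x, a⁆ = 1 := by
    rintro x ⟨E, hxE, hEP₁, hEne, hAE⟩ a ha
    have := hmin E (lt_of_le_of_ne hEP₁ hEne) hAE
    have h2 : ⁅x, a⁆ ∈ ⁅E, A⁆ := commutator_mem_commutator hxE ha
    rw [this, mem_bot] at h2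
    exact h2
  obtain ⟨m, hm⟩ := IsPGroup.iff_card.mp hP₁
  by_cases hcase : d < m
  · -- case (ii): `|D| < |P₁|`
    apply hP₁ne
    rw [eq_bot_iff, commutator_le]
    intro x hx a ha
    rw [mem_bot]
    have hx4 : x ^ 4 = 1 := by
      have := hexp.1 x hx
      rw [← pow_mul] at this
      exact this
    have hord : orderOf x ∣ 2 ^ 2 := orderOf_dvd_of_pow_eq_one (by norm_num; exact hx4)
    obtain ⟨j, hj2, hj⟩ := (Nat.dvd_prime_pow Nat.prime_two).mp hord
    have hcardz : Nat.card (zpowers x) = 2 ^ j := by rw [Nat.card_zpowers, hj]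
    by_cases hd2 : 2 ≤ d
    · apply hcentral x _ a ha
      obtain ⟨E, hzE, hEP₁, hEcard⟩ := exists_subgroup_card_between (p := 2) (H := zpowers x)
        (Q := P₁) (zpowers_le.mpr hx) hcardz (hj2.trans hd2)
        (by rw [hm]; exact pow_dvd_pow 2 hcase.le)
      refine ⟨E, hzE (mem_zpowers x), hEP₁, ?_,
        hinv E (hEP₁.trans hP₁P) (Or.inl (by rw [hEcard, hd]))⟩
      intro h
      rw [h, hm] at hEcard
      exact absurd (Nat.pow_right_injective (le_refl 2) hEcard) hcase.ne'
    · have hd1' : d = 1 := by omega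
      subst hd1'
      have hj3 : j = 0 ∨ j = 1 ∨ j = 2 := by omega
      rcases hj3 with rfl | rfl | rfl
      · rw [pow_zero, orderOf_eq_one_iff] at hj
        rw [hj]; simp
      · apply hcentral x _ a ha
        refine ⟨zpowers x, mem_zpowers x, zpowers_le.mpr hx, ?_,
          hinv _ ((zpowers_le.mpr hx).trans hP₁P) (Or.inl (by rw [hcardz, hd]))⟩
        intro h
        rw [h, hm] at hcardz
        exact absurd (Nat.pow_right_injective (le_refl 2) hcardz) hcase.ne'
      · apply hcentral x _ a ha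
        refine ⟨zpowers x, mem_zpowers x, zpowers_le.mpr hx, ?_,
          hinv _ ((zpowers_le.mpr hx).trans hP₁P) (Or.inr ⟨by rw [hd]; norm_num,
            by rw [hcardz]; norm_num⟩)⟩
        intro h
        have hab : ∀ u ∈ P₁, ∀ v ∈ P₁, u * v = v * u := by
          intro u hu v hv
          rw [← h] at hu hv
          obtain ⟨i, rfl⟩ := mem_zpowers_iff.mp hu
          obtain ⟨k, rfl⟩ := mem_zpowers_iff.mp hv
          rw [← zpow_add, ← zpow_add, add_comm]
        have hx2 := hexp.2 hab x hx
        have : orderOf x ∣ 2 := orderOf_dvd_of_pow_eq_one hx2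
        rw [hj] at this
        have := Nat.le_of_dvd (by norm_num) this
        omega
  · -- case (i): `|P₁| ≤ |D|`
    have hmd : m ≤ d := by omega
    obtain ⟨R, hP₁R, hRP, hRcard⟩ := exists_subgroup_card_between (p := 2) hP₁P hm
      (hmd.trans (Nat.le_succ d)) (by rw [hn]; exact pow_dvd_pow 2 hdn)
    have hRp : IsPGroup 2 R := hP.to_le hRP
    have hmaxinv : ∀ M : Subgroup X, M ≤ R → Nat.card M * 2 = Nat.card R →
        A ≤ normalizer (M : Set X) := by
      intro M hMR hMc
      apply hinv M (hMR.trans hRP)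
      left
      rw [hRcard, pow_succ] at hMc
      rw [hd]
      exact Nat.eq_of_mul_eq_mul_right (by norm_num) hMc
    have hAR : A ≤ normalizer (R : Set X) := by
      intro a ha
      apply mem_normalizer_of_forall
      intro r hr
      rcases eq_top_or_exists_le_coatom (zpowers (⟨r, hr⟩ : ↥R)) with htop | ⟨M', hM', hle⟩
      · exfalso
        -- `R` is cyclic, so `P₁` is commutative of exponent two with at most one involution
        have hRz : ∀ u ∈ R, u ∈ zpowers r := by
          intro u hu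
          have : (⟨u, hu⟩ : ↥R) ∈ zpowers (⟨r, hr⟩ : ↥R) := by rw [htop]; exact mem_top _
          obtain ⟨i, hi⟩ := mem_zpowers_iff.mp this
          rw [mem_zpowers_iff]
          exact ⟨i, by simpa using congrArg Subtype.val hi⟩
        have hab : ∀ u ∈ P₁, ∀ v ∈ P₁, u * v = v * u := by
          intro u hu v hv
          obtain ⟨i, rfl⟩ := mem_zpowers_iff.mp (hRz u (hP₁R hu))
          obtain ⟨k, rfl⟩ := mem_zpowers_iff.mp (hRz v (hP₁R hv))
          rw [← zpow_add, ← zpow_add, add_comm]
        have hx2 := hexp.2 hab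
        apply hP₁ne
        rw [eq_bot_iff, commutator_le]
        intro x hx b hb
        rw [mem_bot]
        by_cases hx1 : x = 1
        · rw [hx1]; simp
        · have hconj : b * x * b⁻¹ ∈ P₁ := (mem_normalizer_iff.mp (hAP₁ hb) x).mp hx
          have hconj1 : b * x * b⁻¹ ≠ 1 := by
            intro h
            apply hx1
            have : x = b⁻¹ * (b * x * b⁻¹) * b := by group
            rw [this, h]; group
          have heq := eq_of_sq_eq_one_of_mem_zpowers r x (b * x * b⁻¹) (hRz x (hP₁R hx))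
            (hRz _ (hP₁R hconj)) (hx2 x hx) (hx2 _ hconj) hx1 hconj1
          rw [commutatorElement_def]
          calc x * b * x⁻¹ * b⁻¹ = x * (b * x * b⁻¹)⁻¹ := by group
            _ = 1 := by rw [← heq, mul_inv_cancel]
      · have hidx : M'.index = 2 := Helper1.IsPGroup.coatom_index hRp hM'
        have hcard : Nat.card (M'.map R.subtype) * 2 = Nat.card R := by
          rw [Nat.card_congr (M'.equivMapOfInjective _ R.subtype_injective).symm.toEquiv, ← hidx,
            Subgroup.card_mul_index]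
        have hAM := hmaxinv _ (map_subtype_le _) hcard
        have hrM : r ∈ M'.map R.subtype := ⟨⟨r, hr⟩, hle (mem_zpowers _), rfl⟩
        exact map_subtype_le _ ((mem_normalizer_iff.mp (hAM ha) r).mp hrM)
    have hRA := commutator_eq_bot_of_maximal_invariant R A hRp hAR hcop hmaxinv
    exact hP₁ne (le_bot_iff.mp (hRA ▸ commutator_mono hP₁R le_rfl))

end Cfsg.Agent.S3803
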