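import Mathlib
import Cfsg.Statements.S3886
import Cfsg.Agent.Helper19.Metacyclic4
import Cfsg.Agent.S3879

set_option autoImplicit false
open Cfsg

namespace Cfsg.Agent.S3886

open Subgroup Cfsg.Agent.Helper19.Metacyclic

theorem arith_noncomm (r z d D I x : ℕ) (hx : 0 < x) (hd : 0 < d) (h1 : r = z * d ^ 2)
    (h2 : r * x = D * I) (h3 : d * x = D) : r * z = I ^ 2 := by
  have h4 : r = d * I := by
    apply Nat.eq_of_mul_eq_mul_right hx
    rw [h2, ← h3]; ring
  have h5 : z * d = I := by
    apply Nat.eq_of_mul_eq_mul_right hd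
    have : z * d * d = z * d ^ 2 := by ring
    rw [this, ← h1, h4]; ring
  rw [h4, ← h5]; ring

/-- The value of `|R| · |Z(R)|` for a subgroup of a metacyclic `p`-group, `p` odd. -/
theorem central_product {G : Type*} [Group G] [Finite G] {p : ℕ} [Fact p.Prime] (hp : p ≠ 2)
    (hG : IsPGroup p G) (hmc : Cfsg.IsMetacyclic G) (R : Subgroup G) :
    (¬ IsMulCommutative ↥R ∧
        Nat.card ↥R * Nat.card ↥(Subgroup.center ↥R) = (commutator G).index ^ 2) ∨
      (IsMulCommutative ↥R ∧ Nat.card ↥R * Nat.card ↥(Subgroup.center ↥R) = Nat.card ↥R ^ 2 ∧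
        Nat.card ↥R ≤ (commutator G).index) := by
  have hP := card_commutator_subgroup hp hG hmc R
  have hZ := Cfsg.Agent.S3879.result hp (hG.to_subgroup R)
    (Cfsg.Agent.Helper1.Metacyclic.isMetacyclic_subgroup hmc R)
  have h1 := R.card_mul_index
  have h2 := (commutator G).card_mul_index
  have h3 := (Subgroup.center ↥R).card_mul_index
  rw [hZ] at h3
  have hx : 0 < R.index := Nat.pos_of_ne_zero (by
    intro h; rw [h, mul_zero] at h1; exact Nat.card_pos.ne h1)
  have hd : 0 < Nat.card ↥(commutator ↥R) := Nat.card_pos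
  by_cases hc : IsMulCommutative ↥R
  · right
    refine ⟨hc, ?_, (isMulCommutative_iff_card_le hp hG hmc R).mp hc⟩
    have hd1 := (isMulCommutative_iff_card_commutator ↥R).mp hc
    rw [hd1, one_pow, mul_one] at h3
    rw [h3, pow_two]
  · left
    refine ⟨hc, ?_⟩
    rcases hP with h | ⟨h, _⟩
    · exact arith_noncomm _ _ _ _ _ _ hx hd h3.symm (h1.trans h2.symm) h
    · exact absurd ((isMulCommutative_iff_card_commutator ↥R).mpr h) hc

/-- Let p be an odd prime and G a finite metacyclic p-group (G has a cyclic normal subgroup with cyclic quotient). Then the largest value of |R| · |Z(R)| over subgroups R of G is |G : G'|², and the subgroups attaining it (the centrally large subgroups) are exactly the non-abelian subgroups together with the maximal abelian subgroups of G. -/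
theorem result {G : Type*} [Group G] [Finite G] {p : ℕ} [Fact p.Prime] (hp : p ≠ 2) (hG : IsPGroup p G) (hmc : Cfsg.IsMetacyclic G) : Cfsg.maxCentralProduct G = (commutator G).index ^ 2 ∧
    ∀ R : Subgroup G, Cfsg.IsCentrallyLarge R ↔ (¬ IsMulCommutative ↥R ∨ Maximal (fun K : Subgroup G => IsMulCommutative ↥K) R) := by
  have hmax : Cfsg.maxCentralProduct G = (commutator G).index ^ 2 := by
    unfold Cfsg.maxCentralProduct
    apply IsGreatest.csSup_eq
    constructor
    · refine ⟨⊤, ?_⟩
      rcases central_product hp hG hmc (⊤ : Subgroup G) with ⟨_, h⟩ | ⟨_, h, hle⟩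
      · exact h
      · rw [h]
        congr 1
        apply le_antisymm hle
        rw [Subgroup.card_top]
        exact Nat.le_of_dvd Nat.card_pos (commutator G).index_dvd_card
    · rintro k ⟨R, rfl⟩
      rcases central_product hp hG hmc R with ⟨_, h⟩ | ⟨_, h, hle⟩
      · exact h.le
      · rw [h]
        exact Nat.pow_le_pow_left hle 2
  refine ⟨hmax, fun R => ?_⟩
  unfold Cfsg.IsCentrallyLarge
  rw [hmax, maximal_abelian_iff_card_eq hp hG hmc R]
  rcases central_product hp hG hmc R with ⟨hnc, h⟩ | ⟨hc, h, hle⟩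
  · exact ⟨fun _ => Or.inl hnc, fun _ => h⟩
  · rw [h]
    constructor
    · intro heq
      right
      exact Nat.pow_left_injective (by norm_num : 2 ≠ 0) heq
    · rintro (hnc | heq)
      · exact absurd hc hnc
      · rw [heq]

end Cfsg.Agent.S3886
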