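import Mathlib
import Cfsg.Statements.S0752

set_option autoImplicit false
open Cfsg

namespace Cfsg.Agent.S0752

open LinearMap LinearMap.BilinForm Module

theorem li_of_rel {F V : Type*} [Field F] [AddCommGroup V] [Module F V]
    (B : LinearMap.BilinForm F V) (hA : B.IsAlt) {m k : ℕ} (e f : Fin m → V) (r : Fin k → V)
    (hef : ∀ i j : Fin m, B (e i) (f j) = if i = j then 1 else 0)
    (hee : ∀ i j : Fin m, B (e i) (e j) = 0)
    (hff : ∀ i j : Fin m, B (f i) (f j) = 0)
    (hr : ∀ (j : Fin k) (v : V), B (r j) v = 0)
    (hrli : LinearIndependent F r) :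
    LinearIndependent F (Sum.elim (Sum.elim e f) r) := by
  rw [Fintype.linearIndependent_iff]
  intro g hg
  rw [Fintype.sum_sum_type, Fintype.sum_sum_type] at hg
  simp only [Sum.elim_inl, Sum.elim_inr] at hg
  have hfe : ∀ i j : Fin m, B (f i) (e j) = if i = j then -1 else 0 := by
    intro i j
    rw [← hA.neg_eq, hef]
    by_cases h : i = j
    · subst h; simp
    · have : j ≠ i := fun h' => h h'.symm
      simp [h, this]
  have ha : ∀ i, g (Sum.inl (Sum.inl i)) = 0 := by
    intro i₀
    have := congrArg (fun x => B x (f i₀)) hg
    simpa [hef, hff, hr] using this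
  have hb : ∀ i, g (Sum.inl (Sum.inr i)) = 0 := by
    intro i₀
    have := congrArg (fun x => B x (e i₀)) hg
    simpa [hfe, hee, hr] using this
  have hc : ∀ j, g (Sum.inr j) = 0 := by
    simp only [ha, hb, zero_smul, Finset.sum_const_zero, zero_add] at hg
    exact Fintype.linearIndependent_iff.mp hrli _ hg
  rintro ((i | i) | j)
  · exact ha i
  · exact hb i
  · exact hc j

theorem aux {F : Type*} [Field F] (n : ℕ) :
    ∀ {V : Type*} [AddCommGroup V] [Module F V] [FiniteDimensional F V]
    (B : LinearMap.BilinForm F V), B.IsAlt → finrank F V = n →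
    ∃ (m k : ℕ) (e f : Fin m → V) (r : Fin k → V),
      (∀ i j : Fin m, B (e i) (f j) = if i = j then 1 else 0) ∧
      (∀ i j : Fin m, B (e i) (e j) = 0) ∧
      (∀ i j : Fin m, B (f i) (f j) = 0) ∧
      (∀ (j : Fin k) (v : V), B (r j) v = 0) ∧
      LinearIndependent F r ∧ 2 * m + k = n := by
  induction n using Nat.strong_induction_on with
  | _ n ih =>
    intro V _ _ _ B hA hn
    by_cases hB0 : ∀ x y, B x y = 0
    · refine ⟨0, n, Fin.elim0, Fin.elim0, ⇑((finBasis F V).reindex (finCongr hn)), ?_, ?_, ?_, ?_, ?_, ?_⟩
      · intro i; exact i.elim0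
      · intro i; exact i.elim0
      · intro i; exact i.elim0
      · intro j v; exact hB0 _ _
      · exact Basis.linearIndependent _
      · omega
    · push Not at hB0
      obtain ⟨e₀, y, hxy⟩ := hB0
      set f₀ := (B e₀ y)⁻¹ • y with hf₀
      have h1 : B e₀ f₀ = 1 := by
        simp [hf₀, inv_mul_cancel₀ hxy]
      have h1' : B f₀ e₀ = -1 := by
        rw [← hA.neg_eq, h1]
      set W : Submodule F V := LinearMap.ker (B e₀) ⊓ LinearMap.ker (B f₀) with hW
      have hWmem : ∀ w, w ∈ W ↔ B e₀ w = 0 ∧ B f₀ w = 0 := by
        intro w
        simp [hW]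
      have hWmem' : ∀ w ∈ W, B w e₀ = 0 ∧ B w f₀ = 0 := by
        intro w hw
        rw [← hA.neg_eq, ← hA.neg_eq f₀ w, ((hWmem w).1 hw).1, ((hWmem w).1 hw).2]
        simp
      -- dimension of W
      have hfr : finrank F W + 2 = n := by
        set φ : V →ₗ[F] F × F := (B e₀).prod (B f₀) with hφ
        have hker : LinearMap.ker φ = W := by
          rw [hφ, LinearMap.ker_prod]
        have hrange : LinearMap.range φ = ⊤ := by
          rw [LinearMap.range_eq_top]
          rintro ⟨a, b⟩
          refine ⟨a • f₀ - b • e₀, ?_⟩
          simp [hφ, h1, h1', hA.self_eq_zero]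
        have := LinearMap.finrank_range_add_finrank_ker φ
        rw [hker, hrange, finrank_top, Module.finrank_prod, finrank_self, hn] at this
        omega
      have hA' : (B.restrict W).IsAlt := fun w => hA w.1
      obtain ⟨m', k', e', f', r', hef, hee, hff, hr, hli, hcount⟩ :=
        ih (finrank F W) (by omega) (B.restrict W) hA' rfl
      -- decomposition
      have hdecomp : ∀ v : V, v - (B v f₀) • e₀ + (B v e₀) • f₀ ∈ W := by
        intro v
        rw [hWmem]
        simp only [map_add, map_sub, map_smul, smul_eq_mul, h1, h1', hA.self_eq_zero]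
        constructor
        · rw [← hA.neg_eq v e₀]; ring
        · rw [← hA.neg_eq v f₀]; ring
      refine ⟨m' + 1, k', Fin.cons e₀ (fun i => (e' i : V)), Fin.cons f₀ (fun i => (f' i : V)),
        fun j => (r' j : V), ?_, ?_, ?_, ?_, ?_, ?_⟩
      · intro i j
        induction i using Fin.cases with
        | zero =>
          induction j using Fin.cases with
          | zero => simpa using h1
          | succ j =>
            have := ((hWmem _).1 (f' j).2).1
            simp only [Fin.cons_zero, Fin.cons_succ, this]
            rw [if_neg (Fin.succ_ne_zero j).symm]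
        | succ i =>
          induction j using Fin.cases with
          | zero =>
            have := (hWmem' _ (e' i).2).2
            simp only [Fin.cons_zero, Fin.cons_succ, this]
            rw [if_neg (Fin.succ_ne_zero i)]
          | succ j =>
            have := hef i j
            simp only [Fin.cons_succ, Fin.succ_inj]
            exact this
      · intro i j
        induction i using Fin.cases with
        | zero =>
          induction j using Fin.cases with
          | zero => simpa using hA.self_eq_zero e₀
          | succ j => simpa using ((hWmem _).1 (e' j).2).1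
        | succ i =>
          induction j using Fin.cases with
          | zero => simpa using (hWmem' _ (e' i).2).1
          | succ j => simpa using hee i j
      · intro i j
        induction i using Fin.cases with
        | zero =>
          induction j using Fin.cases with
          | zero => simpa using hA.self_eq_zero f₀
          | succ j => simpa using ((hWmem _).1 (f' j).2).2
        | succ i =>
          induction j using Fin.cases with
          | zero => simpa using (hWmem' _ (f' i).2).2
          | succ j => simpa using hff i j
      · intro j v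
        have h3 := hr j ⟨_, hdecomp v⟩
        simp only [BilinForm.restrict_apply, LinearMap.domRestrict_apply, map_add, map_sub, map_smul,
          smul_eq_mul] at h3
        rw [(hWmem' _ (r' j).2).1, (hWmem' _ (r' j).2).2] at h3
        simpa using h3
      · have := hli.map' W.subtype (Submodule.ker_subtype W)
        exact this
      · omega

/-- Classification of alternating forms: for an alternating bilinear form B on a finite-dimensional space over any field there is a basis indexed by (Fin m ⊕ Fin m) ⊕ Fin k such that B (e_i, f_j) = δ_ij, the e's are pairwise orthogonal, the f's are pairwise orthogonal, and the last k basis vectors are orthogonal to everything (they span the radical). -/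
theorem result {F V : Type*} [Field F] [AddCommGroup V] [Module F V] [FiniteDimensional F V] (B : LinearMap.BilinForm F V) (hA : B.IsAlt) : ∃ (m k : ℕ) (b : Module.Basis ((Fin m ⊕ Fin m) ⊕ Fin k) F V), (∀ i j : Fin m, B (b (Sum.inl (Sum.inl i))) (b (Sum.inl (Sum.inr j))) = if i = j then 1 else 0) ∧ (∀ i j : Fin m, B (b (Sum.inl (Sum.inl i))) (b (Sum.inl (Sum.inl j))) = 0) ∧ (∀ i j : Fin m, B (b (Sum.inl (Sum.inr i))) (b (Sum.inl (Sum.inr j))) = 0) ∧ (∀ (j : Fin k) (v : V), B (b (Sum.inr j)) v = 0) := by
  obtain ⟨m, k, e, f, r, hef, hee, hff, hr, hli, hcount⟩ := aux (finrank F V) B hA rfl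
  have hLI := li_of_rel B hA e f r hef hee hff hr hli
  have hspan := hLI.span_eq_top_of_card_eq_finrank' (by simp; omega)
  refine ⟨m, k, Basis.mk hLI hspan.ge, ?_⟩
  simp only [Basis.coe_mk, Sum.elim_inl, Sum.elim_inr]
  exact ⟨hef, hee, hff, hr⟩

end Cfsg.Agent.S0752
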