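import Mathlib
import Cfsg.Statements.S5420
import Cfsg.Agent.Helper14.PCore

set_option autoImplicit false
open Cfsg

namespace Cfsg.Agent.S5420

/-- an element of an odd-order subgroup killed by a power of two is trivial -/
theorem eq_one_of_odd_of_pow_two {G : Type*} [Group G] (K : Subgroup G) (hK : Odd (Nat.card K))
    (x : G) (hx : x ∈ K) (n : ℕ) (hxn : x ^ (2 ^ n) = 1) : x = 1 := by
  have hfin : Finite K := Nat.finite_of_card_ne_zero (by
    intro h; rw [h] at hK; exact absurd hK (by decide))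
  have h1 : orderOf x ∣ 2 ^ n := orderOf_dvd_of_pow_eq_one hxn
  have h2 : orderOf x ∣ Nat.card K := by
    have := orderOf_dvd_natCard (⟨x, hx⟩ : K)
    rwa [Subgroup.orderOf_mk] at this
  have hcop : Nat.Coprime (2 ^ n) (Nat.card K) := by
    apply Nat.Coprime.pow_left
    rw [Nat.coprime_two_left]
    exact hK
  have h3 : orderOf x = 1 := Nat.eq_one_of_dvd_coprimes hcop h1 h2
  exact orderOf_eq_one_iff.mp h3

theorem result {G : Type*} [Group G] [Finite G] (Q : Subgroup G) (hL1 : Cfsg.IsExtraspecial 2 ↥Q) (hL2 : Subgroup.centralizer (Q : Set G) = ((Subgroup.center ↥Q).map Q.subtype)) (hL3 : Subgroup.centralizer (((Subgroup.center ↥Q).map Q.subtype) : Set G) ≤ Subgroup.normalizer (Q : Set G)) (hZ : ((Subgroup.center ↥Q).map Q.subtype) ≤ Cfsg.pCore 2 G) : Cfsg.IsLargeExtraspecial Q := by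
  refine ⟨hL1, hL2, hL3, ?_⟩
  intro K hKodd hQK
  have hQp : IsPGroup 2 Q := hL1.1.1
  have hRp : IsPGroup 2 (pCore 2 G) := Cfsg.Agent.Helper14.pCore_isPGroup 2
  have hRn : (pCore 2 G).Normal := Cfsg.Agent.Helper14.pCore_normal 2
  have hZQ : ∀ z ∈ (Subgroup.center ↥Q).map Q.subtype, z ∈ Q := by
    rintro z ⟨w, _, rfl⟩
    exact w.2
  -- Step 1: Z centralizes K
  have h1 : ∀ z ∈ (Subgroup.center ↥Q).map Q.subtype, ∀ k ∈ K, z * k = k * z := by
    intro z hz k hk
    have hzR : z ∈ pCore 2 G := hZ hz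
    have hzN : z ∈ Subgroup.normalizer (K : Set G) := hQK (hZQ z hz)
    have hcK : z * k * z⁻¹ * k⁻¹ ∈ K :=
      K.mul_mem ((Subgroup.mem_normalizer_iff.mp hzN k).mp hk) (K.inv_mem hk)
    have hcR : z * k * z⁻¹ * k⁻¹ ∈ pCore 2 G := by
      have : z * k * z⁻¹ * k⁻¹ = z * (k * z⁻¹ * k⁻¹) := by group
      rw [this]
      exact (pCore 2 G).mul_mem hzR (hRn.conj_mem _ ((pCore 2 G).inv_mem hzR) k)
    obtain ⟨n, hn⟩ := hRp ⟨_, hcR⟩
    have hn' : (z * k * z⁻¹ * k⁻¹) ^ (2 ^ n) = 1 := by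
      have := congrArg Subtype.val hn
      simpa using this
    have := eq_one_of_odd_of_pow_two K hKodd _ hcK n hn'
    calc z * k = (z * k * z⁻¹ * k⁻¹) * (k * z) := by group
      _ = k * z := by rw [this, one_mul]
  -- Step 2: K normalizes Q
  have h2 : K ≤ Subgroup.normalizer (Q : Set G) := by
    intro k hk
    apply hL3
    rw [Subgroup.mem_centralizer_iff]
    intro z hz
    exact h1 z hz k hk
  -- Step 3: K centralizes Q
  have h3 : K ≤ Subgroup.centralizer (Q : Set G) := by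
    intro k hk
    rw [Subgroup.mem_centralizer_iff]
    intro q hq
    have hqN : q ∈ Subgroup.normalizer (K : Set G) := hQK hq
    have hkN := h2 hk
    have hcK : q * k * q⁻¹ * k⁻¹ ∈ K :=
      K.mul_mem ((Subgroup.mem_normalizer_iff.mp hqN k).mp hk) (K.inv_mem hk)
    have hcQ : q * k * q⁻¹ * k⁻¹ ∈ Q := by
      have : q * k * q⁻¹ * k⁻¹ = q * (k * q⁻¹ * k⁻¹) := by group
      rw [this]
      exact Q.mul_mem hq ((Subgroup.mem_normalizer_iff.mp hkN q⁻¹).mp (Q.inv_mem hq))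
    obtain ⟨n, hn⟩ := hQp ⟨_, hcQ⟩
    have hn' : (q * k * q⁻¹ * k⁻¹) ^ (2 ^ n) = 1 := by
      have := congrArg Subtype.val hn
      simpa using this
    have := eq_one_of_odd_of_pow_two K hKodd _ hcK n hn'
    calc q * k = (q * k * q⁻¹ * k⁻¹) * (k * q) := by group
      _ = k * q := by rw [this, one_mul]
  -- conclusion
  rw [eq_bot_iff]
  intro k hk
  have hkZ : k ∈ (Subgroup.center ↥Q).map Q.subtype := by
    rw [← hL2]; exact h3 hk
  have hkQ : k ∈ Q := hZQ k hkZ
  obtain ⟨n, hn⟩ := hQp ⟨k, hkQ⟩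
  have hn' : k ^ (2 ^ n) = 1 := by
    have := congrArg Subtype.val hn
    simpa using this
  rw [Subgroup.mem_bot]
  exact eq_one_of_odd_of_pow_two K hKodd k hk n hn'

end Cfsg.Agent.S5420
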