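import Mathlib
import Cfsg.Statements.S2585

set_option autoImplicit false
open Cfsg

namespace Cfsg.Agent.S2585

open Matrix

theorem result {F : Type*} [Field F] [Fintype F] [CharP F 2] {m : ℕ} (A : Matrix.symplecticGroup (Fin m) F) : ∃ Q : QuadraticForm F (Fin m ⊕ Fin m → F), (∀ u v : Fin m ⊕ Fin m → F, QuadraticMap.polar ⇑Q u v = Cfsg.sympForm m F u v) ∧ ∀ v : Fin m ⊕ Fin m → F, Q ((A : Matrix (Fin m ⊕ Fin m) (Fin m ⊕ Fin m) F).mulVec v) = Q v := by
  classical
  have h2F : (2 : F) = 0 := by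
    have := CharP.cast_eq_zero F 2
    exact_mod_cast this
  have hneg : ∀ t : F, -t = t := fun t => CharTwo.neg_eq t
  have hadd : ∀ t : F, t + t = 0 := fun t => CharTwo.add_self_eq_zero t
  set M : Matrix (Fin m ⊕ Fin m) (Fin m ⊕ Fin m) F := (A : Matrix (Fin m ⊕ Fin m) (Fin m ⊕ Fin m) F) with hM
  let f : LinearMap.BilinForm F (Fin m ⊕ Fin m → F) := Matrix.toBilin' (Matrix.J (Fin m) F)
  have hfapp : ∀ x y, f x y = Cfsg.sympForm m F x y := by
    intro x y
    simp only [f, Matrix.toBilin'_apply', Cfsg.sympForm]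
  have hfnd : f.Nondegenerate := by
    apply LinearMap.BilinForm.nondegenerate_toBilin'_iff_det_ne_zero.mpr
    exact (Matrix.isUnit_det_J (Fin m) F).ne_zero
  have hMJ : Mᵀ * Matrix.J (Fin m) F * M = Matrix.J (Fin m) F :=
    SymplecticGroup.mem_iff'.mp A.2
  have hpres : ∀ x y, f (M *ᵥ x) (M *ᵥ y) = f x y := by
    intro x y
    simp only [f, Matrix.toBilin'_apply']
    rw [← Matrix.vecMul_transpose, ← Matrix.dotProduct_mulVec, Matrix.mulVec_mulVec, Matrix.mulVec_mulVec,
      hMJ]
  have hfsymm : ∀ x y, f x y = f y x := by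
    intro x y
    simp only [f, Matrix.toBilin'_apply']
    rw [dotProduct_comm, ← Matrix.vecMul_transpose, ← Matrix.dotProduct_mulVec, Matrix.J_transpose,
      Matrix.neg_mulVec, dotProduct_neg, hneg]
  -- the base quadratic form
  let M₀ : Matrix (Fin m ⊕ Fin m) (Fin m ⊕ Fin m) F := Matrix.fromBlocks 0 1 0 0
  let B₀ : LinearMap.BilinForm F (Fin m ⊕ Fin m → F) := Matrix.toBilin' M₀
  let Q₀ : QuadraticForm F (Fin m ⊕ Fin m → F) := LinearMap.BilinMap.toQuadraticMap B₀
  have hJ : Matrix.J (Fin m) F = M₀ + M₀ᵀ := by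
    simp only [M₀, Matrix.J, Matrix.fromBlocks_transpose, Matrix.fromBlocks_add]
    congr 1 <;> simp [hneg]
    ext i j
    simp [hneg]
  have hpolar₀ : ∀ u v, QuadraticMap.polar ⇑Q₀ u v = f u v := by
    intro u v
    rw [LinearMap.BilinMap.polar_toQuadraticMap]
    simp only [B₀, f, Matrix.toBilin'_apply', hJ, Matrix.add_mulVec, dotProduct_add]
    congr 1
    rw [dotProduct_comm, ← Matrix.vecMul_transpose, ← Matrix.dotProduct_mulVec]
  have hQ₀add : ∀ x y, Q₀ (x + y) = Q₀ x + Q₀ y + f x y := by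
    intro x y
    rw [← hpolar₀, QuadraticMap.polar]; ring
  -- the defect D
  let D : (Fin m ⊕ Fin m → F) → F := fun v => Q₀ (M *ᵥ v) - Q₀ v
  have hDadd : ∀ u v, D (u + v) = D u + D v := by
    intro u v
    simp only [D]
    rw [Matrix.mulVec_add, hQ₀add, hQ₀add, hpres]; ring
  have hDsmul : ∀ (c : F) v, D (c • v) = c ^ 2 * D v := by
    intro c v
    simp only [D]
    rw [Matrix.mulVec_smul, QuadraticMap.map_smul, QuadraticMap.map_smul, smul_eq_mul, smul_eq_mul]; ring
  -- square roots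
  let sq : F ≃+* F := (frobeniusEquiv F 2).symm
  have hsq : ∀ t, (sq t) ^ 2 = t := fun t => frobeniusEquiv_symm_pow_p F 2 t
  have hsq' : ∀ t, sq (t ^ 2) = t := fun t => frobeniusEquiv_symm_pow F 2 t
  let lam : (Fin m ⊕ Fin m → F) →ₗ[F] F :=
    { toFun := fun v => sq (D v)
      map_add' := fun u v => by rw [hDadd, map_add]
      map_smul' := fun c v => by
        rw [hDsmul, map_mul, hsq', RingHom.id_apply, smul_eq_mul] }
  have hlam : ∀ v, (lam v) ^ 2 = D v := fun v => hsq (D v)
  -- representing vector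
  let a := (f.toDual hfnd).symm lam
  have ha : ∀ v, f a v = lam v := fun v => LinearMap.BilinForm.apply_toDual_symm_apply (B := f) (hB := hfnd) lam v
  -- kernel and range of M + 1
  let T : (Fin m ⊕ Fin m → F) →ₗ[F] (Fin m ⊕ Fin m → F) := Matrix.mulVecLin (M + 1)
  have hTapp : ∀ v, T v = M *ᵥ v + v := by
    intro v
    simp [T, Matrix.add_mulVec]
  have hKfix : ∀ u ∈ LinearMap.ker T, M *ᵥ u = u := by
    intro u hu
    rw [LinearMap.mem_ker, hTapp] at hu
    have : M *ᵥ u = -u := eq_neg_of_add_eq_zero_left hu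
    rw [this]
    ext i
    simp [hneg]
  have hRle : LinearMap.range T ≤ f.orthogonal (LinearMap.ker T) := by
    rintro _ ⟨z, rfl⟩
    rw [LinearMap.BilinForm.mem_orthogonal_iff]
    intro u hu
    show f u (T z) = 0
    rw [hTapp, map_add]
    nth_rewrite 1 [← hKfix u hu]
    rw [hpres, hadd]
  have hV : Module.finrank F (Fin m ⊕ Fin m → F) = 2 * m := by
    simp; ring
  have hReq : LinearMap.range T = f.orthogonal (LinearMap.ker T) := by
    apply Submodule.eq_of_le_of_finrank_le hRle
    rw [LinearMap.BilinForm.finrank_orthogonal hfnd]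
    have := LinearMap.finrank_range_add_finrank_ker T
    omega
  have haR : a ∈ LinearMap.range T := by
    rw [hReq, LinearMap.BilinForm.mem_orthogonal_iff]
    intro u hu
    show f u a = 0
    rw [hfsymm, ha]
    show sq (D u) = 0
    have : D u = 0 := by
      simp only [D]
      rw [hKfix u hu, sub_self]
    rw [this, map_zero]
  obtain ⟨z, hz⟩ := haR
  rw [hTapp] at hz
  -- the invariant form
  let w := M *ᵥ z
  let ell : (Fin m ⊕ Fin m → F) →ₗ[F] F := f w
  refine ⟨Q₀ + QuadraticMap.linMulLin ell ell, ?_, ?_⟩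
  · intro u v
    rw [QuadraticMap.coeFn_add, QuadraticMap.polar_add, hpolar₀, hfapp]
    have : QuadraticMap.polar (⇑(QuadraticMap.linMulLin ell ell)) u v = 0 := by
      simp only [QuadraticMap.polar, QuadraticMap.linMulLin_apply, map_add]
      linear_combination (ell u * ell v) * h2F
    rw [this, add_zero]
  · intro v
    simp only [QuadraticMap.add_apply, QuadraticMap.linMulLin_apply]
    have h1 : ell (M *ᵥ v) = f z v := hpres z v
    have h2 : Q₀ (M *ᵥ v) = Q₀ v + D v := by simp only [D]; ring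
    have h3 : D v = (f w v + f z v) ^ 2 := by
      rw [← hlam, ← ha, ← hz, map_add, LinearMap.add_apply]
    rw [h1, h2, h3]
    show Q₀ v + (f w v + f z v) ^ 2 + f z v * f z v = Q₀ v + f w v * f w v
    linear_combination (f w v * f z v + f z v * f z v) * h2F

end Cfsg.Agent.S2585
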