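import Cfsg.Statements.S0416
import Mathlib
import Cfsg.Agent.Helper4.Sharp4
import Cfsg.Agent.Helper4.SharpStab

set_option autoImplicit false
open Cfsg

namespace Cfsg.Agent.S0416

/-- Degrees of sharply 5-transitive permutation groups are 5, 6, 7, 12. -/
theorem result {α : Type*} [Fintype α] [DecidableEq α] (G : Subgroup (Equiv.Perm α)) (h5 : 5 ≤ Fintype.card α) [MulAction.IsMultiplyPretransitive G α 5] (hsharp : ∀ x : Fin 5 ↪ α, MulAction.stabilizer G x = ⊥) : Fintype.card α = 5 ∨ Fintype.card α = 6 ∨ Fintype.card α = 7 ∨ Fintype.card α = 12 := by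
  classical
  have hne0 : Nonempty α := by
    rw [← Fintype.card_pos_iff]
    omega
  obtain ⟨a⟩ := hne0
  have hpre : MulAction.IsPretransitive G α := by
    have : MulAction.IsMultiplyPretransitive G α 1 :=
      MulAction.isMultiplyPretransitive_of_le (n := 5) (by norm_num) (by
        rw [Nat.card_eq_fintype_card]
        exact h5)
    exact MulAction.is_one_pretransitive_iff.mp this
  have h4' : MulAction.IsMultiplyPretransitive (MulAction.stabilizer G a)
      (SubMulAction.ofStabilizer G a) 4 :=
    SubMulAction.ofStabilizer.isMultiplyPretransitive.mp inferInstance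
  have hsharp' := Cfsg.Agent.Helper4.SharpStab.sharp_ofStabilizer (n := 4) hsharp a
  have hcard : Nat.card (SubMulAction.ofStabilizer G a) = Fintype.card α - 1 := by
    rw [SubMulAction.nat_card_ofStabilizer_eq, Nat.card_eq_fintype_card]
  have hne : Nonempty (Fin 4 ↪ SubMulAction.ofStabilizer G a) := by
    let _ : Fintype (SubMulAction.ofStabilizer G a) := Fintype.ofFinite _
    rw [Function.Embedding.nonempty_iff_card_le, Fintype.card_fin,
      ← Nat.card_eq_fintype_card (α := SubMulAction.ofStabilizer G a), hcard]
    omega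
  obtain ⟨_, h⟩ := Cfsg.Agent.Helper4.Sharp4.card_mem h4' hsharp' hne
  rw [hcard] at h
  omega

end Cfsg.Agent.S0416
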