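import Cfsg.Statements.S2397
import Mathlib
import Cfsg.Agent.Helper2.Stb.RankOne

set_option autoImplicit false
open Cfsg

namespace Cfsg.Agent.S2397

open Cfsg.Lie Cfsg.Agent.Helper6 Cfsg.Agent.Helper2.Stb Cfsg.Agent.Helper2.StPerf

/-- Over a finite field the relators (R3) h̄_r(t₁) h̄_r(t₂) = h̄_r(t₁ t₂) are consequences of (R1) and (R2): for each of the types G₂, B₂, D₄, F₄, E₆, E₇, E₈ (for types B₂ and G₂ the field must have more than two elements — the cases where the Chevalley group is not simple are set aside) the group presented by (R1), (R2) is canonically isomorphic to the one presented by (R1)–(R3), by an isomorphism matching the generators x̄_r(t). -/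
theorem result {K : Type*} [Field K] [Finite K] (D : Cfsg.Lie.ChevalleyDatum) (hD : D ∈ [Cfsg.Lie.chevG2, Cfsg.Lie.chevB2, Cfsg.Lie.chevD4, Cfsg.Lie.chevF4, Cfsg.Lie.chevE6, Cfsg.Lie.chevE7, Cfsg.Lie.chevE8]) (hK : D ∈ [Cfsg.Lie.chevB2, Cfsg.Lie.chevG2] → ∃ x : K, x ≠ 0 ∧ x ≠ 1) :
    ∃ e : D.SteinbergCover K ≃* D.SteinbergGroup K, ∀ (r : ℕ) (t : K), e (D.scGen K r t) = D.stGen K r t := by
  have hD' : IsTabulated D := hD
  have hsub : D.steinbergRelsAB K ⊆ D.steinbergRelsAB K := subset_rfl
  have hθ : ∀ (r : ℕ) (t : K), r < D.nroots →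
      ((thetaAB hD' K (pX D (D.steinbergRelsAB K) r t) : GL D.Idx K) : Matrix D.Idx D.Idx K) =
        D.x K r t := fun r t hr => thetaAB_apply hD' r t hr
  have hR3 : ∀ r < D.nroots, R3At (pX D (D.steinbergRelsAB K)) D r := fun r hr =>
    r3At_of_finite (r12_pX hsub) hD' ((D.group K).subtype.comp (thetaAB hD' K))
      (hπ_of hD' hsub _ hθ) gen_pX hr
  have h1 : ∀ g ∈ D.steinbergRelsAB K,
      FreeGroup.lift (fun a => (PresentedGroup.of a : D.SteinbergGroup K)) g = 1 := by
    intro g hg
    rw [lift_of_eq_mk]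
    exact PresentedGroup.one_of_mem (Or.inl hg)
  have h2 : ∀ g ∈ D.steinbergRels K,
      FreeGroup.lift (fun a => (PresentedGroup.of a : D.SteinbergCover K)) g = 1 := by
    intro g hg
    rw [lift_of_eq_mk]
    rcases hg with hg | ⟨r, t₁, t₂, hr, ht1, ht2, rfl⟩
    · exact PresentedGroup.one_of_mem hg
    · rw [map_mul, map_mul, map_inv, mul_inv_eq_one]
      unfold ChevalleyDatum.stH
      rw [mk_stWord, mk_stWord, mk_stWord]
      exact hR3 r hr t₁ t₂ ht1 ht2
  refine ⟨MonoidHom.toMulEquiv (PresentedGroup.toGroup h1) (PresentedGroup.toGroup h2) ?_ ?_, ?_⟩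
  · apply PresentedGroup.ext
    intro a
    rw [MonoidHom.comp_apply, PresentedGroup.toGroup.of, PresentedGroup.toGroup.of]
    rfl
  · apply PresentedGroup.ext
    intro a
    rw [MonoidHom.comp_apply, PresentedGroup.toGroup.of, PresentedGroup.toGroup.of]
    rfl
  · intro r t
    change PresentedGroup.toGroup h1 (D.scGen K r t) = D.stGen K r t
    unfold ChevalleyDatum.scGen ChevalleyDatum.stGen
    have e : PresentedGroup.toGroup h1 (PresentedGroup.mk (D.steinbergRelsAB K) (D.stX r t)) =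
        FreeGroup.lift (fun a => (PresentedGroup.of a : D.SteinbergGroup K)) (D.stX r t) := rfl
    rw [e, lift_of_eq_mk]

end Cfsg.Agent.S2397
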