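import Cfsg.Statements.S0296
import Cfsg.Agent.Helper28.Siegel6
import Cfsg.Agent.S2613

set_option autoImplicit false
open Cfsg

namespace Cfsg.Agent.S0296

open Cfsg.Agent.Helper28.Spin Cfsg.Agent.Helper28.Sg

/-- PΩ^+_{2m}(q) is simple for m at least 4. -/
theorem result {F : Type*} [Field F] [Fintype F] (m : ℕ) (hm : 4 ≤ m) : IsSimpleGroup (Cfsg.POmega F (Cfsg.quadFormPlus m F)) := by
  have hQ := QfPlus_nondeg (F := F) m
  have hcardι : Fintype.card (Fin m ⊕ Fin m) = 2 * m := by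
    rw [Fintype.card_sum, Fintype.card_fin]; omega
  let a : Fin 3 → Fin m ⊕ Fin m := fun j => Sum.inl (Fin.castLE (by omega) j)
  let b : Fin 3 → Fin m ⊕ Fin m := fun j => Sum.inr (Fin.castLE (by omega) j)
  have hinj : Function.Injective (Sum.elim a b) := by
    intro x y h
    rcases x with x | x <;> rcases y with y | y <;>
      simp only [Sum.elim_inl, Sum.elim_inr, a, b, Sum.inl.injEq, Sum.inr.injEq, reduceCtorEq,
        Fin.castLE_inj] at h
    · rw [h]
    · rw [h]
  let fr : Frame3 (QfPlus m F) := frameOf a b hinj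
    (fun j => Cfsg.Agent.S2613.hypPair_plus m _)
  have hgen : ∀ (H : Subgroup ↥(Cfsg.isometryGroup F ⇑(QfPlus m F))),
      (∀ (v : Fin m ⊕ Fin m → F) (hv : QfPlus m F v ≠ 0), reflO (QfPlus m F) v hv ∈ H) →
        ∀ g, g ∈ H := by
    by_cases h2 : (2 : F) = 0
    · exact hgen_even h2 hQ (Or.inr (by rw [hcardι]; omega))
    · exact hgen_odd h2 hQ
  exact POmega_simple hQ fr hgen

end Cfsg.Agent.S0296
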