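import Cfsg.Statements.S0070
import Cfsg.Agent.Helper7.Fitting

set_option autoImplicit false
open Cfsg

namespace Cfsg.Agent.S0070

/-- The Fitting subgroup commutes with passing to the Frattini quotient: the Fitting subgroup of G modulo its Frattini subgroup is the image of the Fitting subgroup of G. -/
theorem result {G : Type*} [Group G] [Finite G] :
    Cfsg.fittingSubgroup (G ⧸ frattini G) = (Cfsg.fittingSubgroup G).map (QuotientGroup.mk' (frattini G)) := by
  open Subgroup Cfsg.Agent.Helper7 Cfsg.Agent.Helper14 in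
  classical
  set Φ := frattini G with hΦ
  set φ := QuotientGroup.mk' Φ with hφdef
  have hφ : Function.Surjective φ := QuotientGroup.mk'_surjective Φ
  have hker : φ.ker = Φ := QuotientGroup.ker_mk' Φ
  apply le_antisymm
  · -- F(G/Φ) ≤ image of F(G)
    rw [fittingSubgroup_eq_pCoreSup, pCoreSup_le_iff]
    intro p hp
    have : Fact p.Prime := ⟨hp⟩
    set M : Subgroup G := (pCore p (G ⧸ Φ)).comap φ with hM
    have hMn : M.Normal := (Cfsg.pCore_normal p (G ⧸ Φ)).comap φ
    have hΦM : Φ ≤ M := by
      have := ker_le_comap φ (pCore p (G ⧸ Φ))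
      rwa [hker] at this
    have hMmap : M.map φ = pCore p (G ⧸ Φ) := map_comap_eq_self_of_surjective hφ _
    obtain ⟨P⟩ : Nonempty (Sylow p M) := inferInstance
    set P₀ : Subgroup G := (P : Subgroup M).map M.subtype with hP₀
    have hP₀M : P₀ ≤ M := map_subtype_le _
    have hfrat := Sylow.normalizer_sup_eq_top P
    -- M ≤ P₀ ⊔ Φ
    have hrel : (P₀ ⊔ Φ).relIndex M = 1 := by
      have h1 : (P₀.map φ).relIndex (M.map φ) = (P₀ ⊔ Φ).relIndex M := by
        rw [relIndex_map_map, hker, sup_eq_left.mpr hΦM]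
      have h2 : (P₀ ⊔ Φ).relIndex M ∣ P₀.relIndex M := relIndex_dvd_of_le_left M le_sup_left
      have h3 : P₀.relIndex M = (P : Subgroup M).index := by
        rw [relIndex, hP₀]
        congr 1
        exact comap_map_eq_self_of_injective (subtype_injective M) _
      have h4 : ¬ p ∣ (P : Subgroup M).index := P.not_dvd_index
      obtain ⟨k, hk⟩ := (pCore_isPGroup (p := p) (G := G ⧸ Φ)).exists_card_eq
      have h5 : (P₀ ⊔ Φ).relIndex M ∣ p ^ k := by
        rw [← h1, hMmap, ← hk]; exact relIndex_dvd_card _ _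
      obtain ⟨j, -, hj⟩ := (Nat.dvd_prime_pow hp).mp h5
      rcases Nat.eq_zero_or_pos j with h0 | hpos
      · rw [hj, h0, pow_zero]
      · exfalso
        apply h4
        rw [← h3]
        exact dvd_trans (hj ▸ dvd_pow_self p hpos.ne') h2
    have hMle : M ≤ P₀ ⊔ Φ := relIndex_eq_one.mp hrel
    have hP₀N : P₀ ≤ normalizer (P₀ : Set G) := le_normalizer
    have htop : normalizer (P₀ : Set G) ⊔ Φ = ⊤ := by
      rw [eq_top_iff, ← hfrat]
      apply sup_le le_sup_left
      exact hMle.trans (sup_le (hP₀N.trans le_sup_left) le_sup_right)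
    have hnorm : normalizer (P₀ : Set G) = ⊤ := frattini_nongenerating htop
    have hP₀n : P₀.Normal := normalizer_eq_top_iff.mp hnorm
    have hP₀p : IsPGroup p P₀ := P.2.map _
    have hP₀core : P₀ ≤ pCore p G := le_pCore p hP₀n hP₀p
    have hΦmap : Φ.map φ = ⊥ := by
      rw [Subgroup.map_eq_bot_iff, hker]
    calc pCore p (G ⧸ Φ) = M.map φ := hMmap.symm
      _ ≤ (P₀ ⊔ Φ).map φ := map_mono hMle
      _ = P₀.map φ := by rw [Subgroup.map_sup, hΦmap, sup_bot_eq]
      _ ≤ (pCore p G).map φ := map_mono hP₀core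
      _ ≤ (fittingSubgroup G).map φ := map_mono (pCore_le_fittingSubgroup p)
  · -- image of F(G) is a normal nilpotent subgroup
    apply le_fittingSubgroup
    · exact (fittingSubgroup_normal G).map φ hφ
    · have : Group.IsNilpotent (fittingSubgroup G) := fittingSubgroup_isNilpotent
      exact Group.nilpotent_of_surjective (φ.subgroupMap (fittingSubgroup G))
        (φ.subgroupMap_surjective _)

end Cfsg.Agent.S0070
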