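import Mathlib
import Cfsg.Statements.S0794
import Cfsg.Agent.Helper28.Spin1
import Cfsg.Agent.Helper28.Quad

set_option autoImplicit false

namespace Cfsg.Agent.S0794

open Matrix Cfsg.Agent.Helper28 Cfsg.Agent.Helper28.Spin Cfsg.Agent.Helper28.IsoTransport
open scoped commutatorElement

variable {F : Type*} [Field F] {n : ℕ} (Q : QuadraticForm F (Fin n → F))


theorem siegel_pres {u v : Fin n → F} (hu : Q u = 0) (hv : Q v = 0) (huv : QuadraticMap.polar ⇑Q u v = 0) (c : F)
    (x : Fin n → F) : Q (Cfsg.siegelMatrix ⇑Q u v c *ᵥ x) = Q x := by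
  rw [siegelMatrix_mulVec, sub_eq_add_neg, ← neg_smul, QuadraticMap.map_add (⇑Q),
    QuadraticMap.map_add (⇑Q), QuadraticMap.map_smul, QuadraticMap.map_smul, hu, hv,
    QuadraticMap.polar_add_left, QuadraticMap.polar_smul_right, QuadraticMap.polar_smul_right,
    QuadraticMap.polar_smul_left, QuadraticMap.polar_smul_right, QuadraticMap.polar_comm (⇑Q) v u, huv,
    QuadraticMap.polar_comm (⇑Q) x v, QuadraticMap.polar_comm (⇑Q) x u]
  simp only [smul_eq_mul]
  ring

theorem siegel_mul {u v : Fin n → F} (hu : Q u = 0) (hv : Q v = 0) (huv : QuadraticMap.polar ⇑Q u v = 0) (c c' : F) :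
    Cfsg.siegelMatrix ⇑Q u v c * Cfsg.siegelMatrix ⇑Q u v c' = Cfsg.siegelMatrix ⇑Q u v (c + c') := by
  apply matrix_ext_mulVec
  intro x
  rw [← Matrix.mulVec_mulVec, siegelMatrix_mulVec Q u v x c', siegelMatrix_mulVec,
    siegelMatrix_mulVec]
  have huu : QuadraticMap.polar ⇑Q u u = 0 := by rw [polar_self' Q, hu, mul_zero]
  have hvv : QuadraticMap.polar ⇑Q v v = 0 := by rw [polar_self' Q, hv, mul_zero]
  have hvu : QuadraticMap.polar ⇑Q v u = 0 := by rw [QuadraticMap.polar_comm]; exact huv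
  simp only [QuadraticMap.polar_add_right, QuadraticMap.polar_sub_right, QuadraticMap.polar_smul_right,
    huu, hvv, huv, hvu, smul_eq_mul, mul_zero, add_zero, sub_zero]
  module

theorem siegel_zero (u v : Fin n → F) : Cfsg.siegelMatrix ⇑Q u v 0 = 1 := by
  simp [Cfsg.siegelMatrix]

/-- Siegel transformation as an element of the isometry group -/
noncomputable def siegO {u v : Fin n → F} (hu : Q u = 0) (hv : Q v = 0) (huv : QuadraticMap.polar ⇑Q u v = 0) (c : F) :
    ↥(Cfsg.isometryGroup F ⇑Q) :=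
  ⟨⟨Cfsg.siegelMatrix ⇑Q u v c, Cfsg.siegelMatrix ⇑Q u v (-c),
    by rw [siegel_mul Q hu hv huv, add_neg_cancel, siegel_zero],
    by rw [siegel_mul Q hu hv huv, neg_add_cancel, siegel_zero]⟩, by
    rw [mem_isometryGroup_iff]
    intro x
    exact siegel_pres Q hu hv huv c x⟩

theorem siegO_val {u v : Fin n → F} (hu : Q u = 0) (hv : Q v = 0) (huv : QuadraticMap.polar ⇑Q u v = 0) (c : F) :
    ((siegO Q hu hv huv c : GL (Fin n) F) : Matrix (Fin n) (Fin n) F) = Cfsg.siegelMatrix ⇑Q u v c :=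
  rfl

theorem siegO_inv {u v : Fin n → F} (hu : Q u = 0) (hv : Q v = 0) (huv : QuadraticMap.polar ⇑Q u v = 0) (c : F) :
    (siegO Q hu hv huv c)⁻¹ = siegO Q hu hv huv (-c) := by
  apply inv_eq_of_mul_eq_one_right
  apply Subtype.ext
  apply Units.ext
  simp only [Subgroup.coe_mul, Units.val_mul, siegO_val]
  rw [siegel_mul Q hu hv huv, add_neg_cancel, siegel_zero]
  rfl

/-- conjugation by an isometry scaling `u` and fixing `v` -/
theorem conj_siegel (h : ↥(Cfsg.isometryGroup F ⇑Q)) {u v : Fin n → F} (l : F)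
    (hhu : ((h : GL (Fin n) F) : Matrix (Fin n) (Fin n) F) *ᵥ u = l • u)
    (hhv : ((h : GL (Fin n) F) : Matrix (Fin n) (Fin n) F) *ᵥ v = v) (c : F) :
    ((h : GL (Fin n) F) : Matrix (Fin n) (Fin n) F) * Cfsg.siegelMatrix ⇑Q u v c =
      Cfsg.siegelMatrix ⇑Q u v (l * c) * ((h : GL (Fin n) F) : Matrix (Fin n) (Fin n) F) := by
  apply matrix_ext_mulVec
  intro x
  rw [← Matrix.mulVec_mulVec, ← Matrix.mulVec_mulVec, siegelMatrix_mulVec, siegelMatrix_mulVec,
    Matrix.mulVec_sub, Matrix.mulVec_add, Matrix.mulVec_smul, Matrix.mulVec_smul, hhu, hhv]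
  have h1 : QuadraticMap.polar ⇑Q u (((h : GL (Fin n) F) : Matrix (Fin n) (Fin n) F) *ᵥ x) * l = QuadraticMap.polar ⇑Q u x := by
    have := polar_isom Q (isom_apply Q h) u x
    rw [hhu, QuadraticMap.polar_smul_left, smul_eq_mul] at this
    rw [← this]; ring
  have h2 : QuadraticMap.polar ⇑Q v (((h : GL (Fin n) F) : Matrix (Fin n) (Fin n) F) *ᵥ x) = QuadraticMap.polar ⇑Q v x := by
    have := polar_isom Q (isom_apply Q h) v x
    rw [hhv] at this
    exact this
  rw [h2, ← h1]
  module


theorem siegO_mul {u v : Fin n → F} (hu : Q u = 0) (hv : Q v = 0)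
    (huv : QuadraticMap.polar ⇑Q u v = 0) (c c' : F) :
    siegO Q hu hv huv c * siegO Q hu hv huv c' = siegO Q hu hv huv (c + c') := by
  apply Subtype.ext
  apply Units.ext
  simp only [Subgroup.coe_mul, Units.val_mul, siegO_val]
  exact siegel_mul Q hu hv huv c c'

theorem result {F : Type*} [Field F] [Fintype F] (h2 : (2 : F) ≠ 0) {n : ℕ} (hn : 5 ≤ n) (Q : QuadraticForm F (Fin n → F)) (hQ : (QuadraticMap.polarBilin Q).Nondegenerate) (u v : Fin n → F) (hu : Q u = 0) (hv : Q v = 0) (huv : QuadraticMap.polar ⇑Q u v = 0) (c : F) (g : ↥(Cfsg.isometryGroup F ⇑Q)) (hg : ((g : Matrix.GeneralLinearGroup (Fin n) F) : Matrix (Fin n) (Fin n) F) = Cfsg.siegelMatrix ⇑Q u v c) : g ∈ commutatorSet ↥(Cfsg.isometryGroup F ⇑Q) ∧ g ∈ Cfsg.Omega F ⇑Q := by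
  suffices hcomm : g ∈ commutatorSet ↥(Cfsg.isometryGroup F ⇑Q) by
    refine ⟨hcomm, ?_⟩
    rw [Cfsg.Omega, commutator_eq_closure]
    exact Subgroup.subset_closure hcomm
  have hgS : g = siegO Q hu hv huv c := Subtype.ext (Units.ext hg)
  by_cases hmem : u ∈ Submodule.span F {v}
  · obtain ⟨l, rfl⟩ := Submodule.mem_span_singleton.1 hmem
    have h1 : g = 1 := by
      apply Subtype.ext
      apply Units.ext
      rw [hg]
      apply matrix_ext_mulVec
      intro x
      rw [siegelMatrix_mulVec, QuadraticMap.polar_smul_left]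
      simp only [Subgroup.coe_one, Units.val_one, Matrix.one_mulVec, smul_eq_mul]
      module
    rw [h1]
    exact ⟨1, 1, by simp⟩
  · obtain ⟨f, hfu, hfv⟩ := Submodule.exists_le_ker_of_notMem hmem
    have hfv0 : f v = 0 := hfv (Submodule.mem_span_singleton_self v)
    set w0 : Fin n → F := (LinearMap.BilinForm.toDual (QuadraticMap.polarBilin Q) hQ).symm ((f u)⁻¹ • f) with hw0
    have hw0u : QuadraticMap.polar ⇑Q w0 u = 1 := by
      have := LinearMap.BilinForm.apply_toDual_symm_apply (B := QuadraticMap.polarBilin Q) (hB := hQ)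
        ((f u)⁻¹ • f) u
      rw [QuadraticMap.polarBilin_apply_apply] at this
      rw [this]
      simp [hfu]
    have hw0v : QuadraticMap.polar ⇑Q w0 v = 0 := by
      have := LinearMap.BilinForm.apply_toDual_symm_apply (B := QuadraticMap.polarBilin Q) (hB := hQ)
        ((f u)⁻¹ • f) v
      rw [QuadraticMap.polarBilin_apply_apply] at this
      rw [this]
      simp [hfv0]
    set u' : Fin n → F := w0 - Q w0 • u with hu'
    have huu : QuadraticMap.polar ⇑Q u u = 0 := by rw [polar_self' Q, hu, mul_zero]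
    have hQu' : Q u' = 0 := by
      rw [hu', map_sub'' Q, QuadraticMap.map_smul, hu, QuadraticMap.polar_smul_right, hw0u]
      simp
    have hBuu' : QuadraticMap.polar ⇑Q u u' = 1 := by
      rw [hu', QuadraticMap.polar_sub_right, QuadraticMap.polar_smul_right, huu,
        QuadraticMap.polar_comm, hw0u]
      simp
    have hBvu' : QuadraticMap.polar ⇑Q v u' = 0 := by
      rw [hu', QuadraticMap.polar_sub_right, QuadraticMap.polar_smul_right,
        QuadraticMap.polar_comm (⇑Q) v w0, hw0v, QuadraticMap.polar_comm (⇑Q) v u, huv]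
      simp
    have hnorm : ∀ μ : F, Q (u - μ • u') = -μ := by
      intro μ
      rw [map_sub'' Q, QuadraticMap.map_smul, hu, hQu', QuadraticMap.polar_smul_right, hBuu']
      simp
    have ha : Q (u - (1 : F) • u') ≠ 0 := by rw [hnorm]; simp
    have hb : Q (u - (2 : F) • u') ≠ 0 := by rw [hnorm]; simpa using h2
    set h : ↥(Cfsg.isometryGroup F ⇑Q) :=
      reflO Q (u - (1 : F) • u') ha * reflO Q (u - (2 : F) • u') hb with hh
    have hu'u' : QuadraticMap.polar ⇑Q u' u' = 0 := by rw [polar_self' Q, hQu', mul_zero]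
    have hu'u : QuadraticMap.polar ⇑Q u' u = 1 := by rw [QuadraticMap.polar_comm]; exact hBuu'
    have hhu : ((h : GL (Fin n) F) : Matrix (Fin n) (Fin n) F) *ᵥ u = (2 : F) • u := by
      simp only [hh, Subgroup.coe_mul, Units.val_mul, reflO_val]
      rw [← Matrix.mulVec_mulVec, refl_mulVec Q (u - (2 : F) • u') u, hnorm,
        QuadraticMap.polar_sub_left, QuadraticMap.polar_smul_left, huu, hu'u]
      have e1 : u - ((-(2 : F))⁻¹ * (0 - (2 : F) • (1 : F))) • (u - (2 : F) • u') = (2 : F) • u' := by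
        have : (-(2 : F))⁻¹ * (0 - (2 : F) • (1 : F)) = 1 := by
          simp only [smul_eq_mul, mul_one, zero_sub]
          field_simp
        rw [this]
        module
      rw [e1, Matrix.mulVec_smul, refl_mulVec, hnorm, QuadraticMap.polar_sub_left,
        QuadraticMap.polar_smul_left, hBuu', hu'u']
      have : (-(1 : F))⁻¹ * (1 - (1 : F) • (0 : F)) = -1 := by simp
      rw [this]
      module
    have hhv : ((h : GL (Fin n) F) : Matrix (Fin n) (Fin n) F) *ᵥ v = v := by
      simp only [hh, Subgroup.coe_mul, Units.val_mul, reflO_val]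
      have hvu : QuadraticMap.polar ⇑Q u v = 0 := huv
      have hu'v : QuadraticMap.polar ⇑Q u' v = 0 := by rw [QuadraticMap.polar_comm]; exact hBvu'
      have f1 : Cfsg.reflectionMatrix ⇑Q (u - (2 : F) • u') *ᵥ v = v := refl_fix Q (by
        rw [QuadraticMap.polar_sub_left, QuadraticMap.polar_smul_left, hvu, hu'v]; simp)
      have f2 : Cfsg.reflectionMatrix ⇑Q (u - (1 : F) • u') *ᵥ v = v := refl_fix Q (by
        rw [QuadraticMap.polar_sub_left, QuadraticMap.polar_smul_left, hvu, hu'v]; simp)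
      rw [← Matrix.mulVec_mulVec, f1, f2]
    have hconj : h * siegO Q hu hv huv c = siegO Q hu hv huv (2 * c) * h := by
      apply Subtype.ext
      apply Units.ext
      simp only [Subgroup.coe_mul, Units.val_mul, siegO_val]
      exact conj_siegel Q h 2 hhu hhv c
    refine ⟨h, siegO Q hu hv huv c, ?_⟩
    rw [hgS, commutatorElement_def, hconj, siegO_inv, mul_assoc (siegO Q hu hv huv (2 * c)),
      mul_inv_cancel, mul_one, siegO_mul]
    congr 1
    ring

end Cfsg.Agent.S0794
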