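import Cfsg.Statements.S1365
import Mathlib
import Cfsg.Agent.S1350
import Cfsg.Agent.S1352
import Cfsg.Agent.S1353
import Cfsg.Agent.S1404
import Cfsg.Agent.S1426
import Cfsg.Agent.Helper21.BG10e
import Cfsg.Agent.Helper1.BG16C2

set_option autoImplicit false
open Cfsg

namespace Cfsg.Agent.S1365

/-- Let G be a minimal simple group of odd order and M a maximal subgroup with standard factorisation M = K U M_σ and K ≠ 1. Then the derived subgroup of M is generated by U and M_σ, and M_σ ∩ C_G(K) is contained in the second derived subgroup of M. -/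
theorem result {G : Type*} [Group G] [Finite G] (hG : Cfsg.IsMinSimpleOddOrder G)
    (M : Subgroup G) (hM : IsCoatom M) (K U : Subgroup G) (hKU : Cfsg.IsSigmaDecomposition M K U) (hK1 : K ≠ ⊥) :
    ⁅M, M⁆ = U ⊔ Cfsg.sigmaCore M ∧ (Cfsg.sigmaCore M ⊓ Subgroup.centralizer (K : Set G)) ≤ ⁅⁅M, M⁆, ⁅M, M⁆⁆ := by
  exact Cfsg.Agent.Helper1.BG16C.s1365_of
    (fun M hM => Cfsg.Agent.S1350.result hG M hM) hM hKU hK1
    ((Cfsg.Agent.S1352.result hG M hM K hKU.cyclic hKU.hall).2 U hKU)
    (Cfsg.Agent.S1353.result hG M hM K U hKU)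
    (fun E hE => (Cfsg.Agent.S1426.result hG M hM E hE).2.1)
    (Cfsg.Agent.Helper21.BG10.sigmaCore_le_commutator hG
      (fun M hM p _ hp X h1 h2 h3 => (Cfsg.Agent.S1404.result hG M hM p hp X h1 h2 h3).1) hM)

end Cfsg.Agent.S1365
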