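import Cfsg.Statements.S0877
import Mathlib
import Cfsg.Agent.Helper20.HallCompC
import Cfsg.Agent.Helper5.CharKer

set_option autoImplicit false

open Cfsg

namespace Cfsg.Agent.S0877

open Cfsg.Agent.Helper24 Cfsg.Agent.Helper20.HallComp in
/-- Isaacs 8.22 in universe-polymorphic form. -/
theorem main {G : Type*} [Group G] [Finite G] (H : Subgroup G)
    (hHall : Nat.Coprime (Nat.card H) H.index)
    (hfus : ∀ x ∈ H, ∀ y ∈ H, IsConj x y → ∃ h ∈ H, h * x * h⁻¹ = y)
    (helem : ∀ (E : Subgroup G) (p : ℕ), p.Prime → Cfsg.IsElementary p E →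
      Nat.card E ∣ Nat.card H → ∃ g : G, E.map (MulAut.conj g).toMonoidHom ≤ H) :
    ∃ K : Subgroup G, K.Normal ∧ K ⊔ H = ⊤ ∧ K ⊓ H = ⊥ := by
  classical
  haveI : Fintype G := Fintype.ofFinite G
  haveI : Fintype H := Fintype.ofFinite H
  haveI : Fintype (IrrCharacter G) := Fintype.ofFinite _
  haveI : Fintype (IrrCharacter H) := Fintype.ofFinite _
  obtain ⟨a, ha1, ha0⟩ := Nat.chineseRemainder hHall 1 0
  have hc : HC H (Nat.card H) H.index a :=
    { hn := rfl
      hcard := (Subgroup.card_mul_index H).symm
      hcop := hHall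
      ha1 := ha1
      ham := (Nat.modEq_zero_iff_dvd).mp ha0
      hfus := hfus
      helem := helem }
  let K : Subgroup G := ⨅ θ : IrrCharacter H,
    Cfsg.Agent.Helper5.charKer ⟨tilde hc (θ : H → ℂ), isIrrCharacter_tilde hc θ⟩
  have hKmem : ∀ g : G, g ∈ K ↔ g ^ a = 1 := by
    intro g
    simp only [K, Subgroup.mem_iInf, Cfsg.Agent.Helper5.mem_charKer]
    constructor
    · intro h
      have h1 : ∀ θ : IrrCharacter H, (θ : H → ℂ) (rep hc g) = (θ : H → ℂ) 1 := by
        intro θ
        have := h θ
        rw [tilde_one hc (isClassFunction_irr θ)] at this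
        exact this
      have h2 : rep hc g = 1 := by
        by_contra hne
        have h3 := sum_irr_one_mul_eq_zero (G := H) hne
        have h4 : ∑ χ : IrrCharacter H, (χ : H → ℂ) 1 * (χ : H → ℂ) (rep hc g) =
            ∑ χ : IrrCharacter H, (χ : H → ℂ) 1 ^ 2 := by
          refine Finset.sum_congr rfl (fun χ _ => ?_)
          rw [h1 χ, pow_two]
        rw [h4, sum_sq_irr_one] at h3
        have : (Nat.card H : ℂ) ≠ 0 := by exact_mod_cast (Nat.card_pos (α := H)).ne'
        exact this h3
      have h5 := isConj_rep hc g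
      rw [h2, Subgroup.coe_one] at h5
      exact isConj_one_left.mp h5
    · intro hg θ
      rw [tilde_one hc (isClassFunction_irr θ)]
      exact tilde_of_pow_eq_one hc (isClassFunction_irr θ) hg
  have hKn : K.Normal := Subgroup.normal_iInf_normal (fun θ => inferInstance)
  have hdisj : K ⊓ H = ⊥ := by
    rw [eq_bot_iff]
    intro x hx
    rw [Subgroup.mem_inf] at hx
    rw [Subgroup.mem_bot, ← hc.pow_of_mem hx.2]
    exact (hKmem x).mp hx.1
  have hKcard : Nat.card K = H.index := by
    rw [← card_pow_eq_one hc]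
    exact Nat.card_congr (Equiv.subtypeEquivRight (fun g => hKmem g))
  refine ⟨K, hKn, ?_, hdisj⟩
  have hcompl : Subgroup.IsComplement' K H := by
    apply Subgroup.isComplement'_of_card_mul_and_disjoint
    · rw [hKcard, mul_comm]
      exact Subgroup.card_mul_index H
    · rw [disjoint_iff]
      exact hdisj
  exact hcompl.sup_eq_top

/-- Let H be a subgroup of the finite group G whose order is coprime to its index. Suppose that elements of H conjugate in G are conjugate in H, and that every subgroup E of G that is elementary for some prime (in the sense used for Brauer's characterisation of characters) and whose order divides the order of H is conjugate to a subgroup of H. Then there is a normal subgroup K with K ⊔ H = ⊤ and K ⊓ H trivial. -/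
theorem result {G : Type*} [Group G] [Finite G] (H : Subgroup G) (hHall : Nat.Coprime (Nat.card H) H.index) (hfus : ∀ x ∈ H, ∀ y ∈ H, IsConj x y → ∃ h ∈ H, h * x * h⁻¹ = y) (helem : ∀ (E : Subgroup G) (p : ℕ), p.Prime → Cfsg.IsElementary p E → Nat.card E ∣ Nat.card H → ∃ g : G, E.map (MulAut.conj g).toMonoidHom ≤ H) : ∃ K : Subgroup G, K.Normal ∧ K ⊔ H = ⊤ ∧ K ⊓ H = ⊥ := by
  exact main H hHall hfus helem

end Cfsg.Agent.S0877
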