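import Cfsg.Statements.S0203
import Cfsg.Agent.Helper16.KleinSylow

set_option autoImplicit false
open Cfsg

namespace Cfsg.Agent.S0203

/-- If a Sylow 2-subgroup P of a finite group G is a Klein four-group, then G has three classes of involutions if and only if P has a normal complement in G. -/
theorem result {G : Type*} [Group G] [Finite G] (P : Sylow 2 G) (hP : IsKleinFour (P : Subgroup G)) : Nat.card {C : ConjClasses G // ∃ t : G, orderOf t = 2 ∧ ConjClasses.mk t = C} = 3 ↔ ∃ N : Subgroup G, N.Normal ∧ Subgroup.IsComplement' N (P : Subgroup G) := by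
  have : Fact (Nat.Prime 2) := ⟨Nat.prime_two⟩
  obtain ⟨a, b, ha, hb, ha1, hb1, hab⟩ := Cfsg.Agent.Helper16.klein_exists_gens P hP
  show Nat.card ↥(Cfsg.Agent.Helper16.invClassSet G) = 3 ↔ _
  rw [Nat.card_coe_set_eq]
  constructor
  · intro h3
    have hNC := Cfsg.Agent.Helper16.klein_normalizer_le_centralizer P hP h3
    exact ⟨(MonoidHom.transferSylow P hNC).ker, inferInstance,
      MonoidHom.ker_transferSylow_isComplement' P hNC⟩
  · rintro ⟨N, hNn, hN⟩
    rcases Cfsg.Agent.Helper16.klein_dichotomy P hP ha hb ha1 hb1 hab with ⟨h1, h2⟩ | ⟨h1, h2, h3⟩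
    · exact absurd (Cfsg.Agent.Helper16.klein_no_fusion_of_complement P hP N hN ha hb h1) hab
    · exact Cfsg.Agent.Helper16.klein_card_three P hP ha hb ha1 hb1 hab h1 h2 h3

end Cfsg.Agent.S0203
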