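import Mathlib
import Cfsg.Statements.S3864
import Cfsg.Agent.Helper16.DihFusion

set_option autoImplicit false
open Cfsg

namespace Cfsg.Agent.S3864

open Cfsg.Agent.Helper16.DihFusion DihedralGroup
open Cfsg.Agent.Helper18.QD (hh)

/-- Let G be a finite group whose Sylow 2-subgroups are dihedral of order 2 ^ n with n ≥ 3, and count the conjugacy classes of involutions of G. Then exactly one of the following holds: there is one class of involutions and no normal subgroup of index 2; there are two classes of involutions, a normal subgroup of index 2 and none of index 4; there are three classes of involutions and G has a normal 2-complement. -/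
theorem result {G : Type*} [Group G] [Finite G] (P : Sylow 2 G) (n : ℕ) (hn : 3 ≤ n) (hdih : Nonempty (↥(P : Subgroup G) ≃* DihedralGroup (2 ^ (n - 1)))) : (Nat.card {C : ConjClasses G // ∃ g : G, ConjClasses.mk g = C ∧ orderOf g = 2} = 1 ∧ ∀ N : Subgroup G, N.Normal → N.index ≠ 2) ∨ (Nat.card {C : ConjClasses G // ∃ g : G, ConjClasses.mk g = C ∧ orderOf g = 2} = 2 ∧ (∃ N : Subgroup G, N.Normal ∧ N.index = 2) ∧ ∀ N : Subgroup G, N.Normal → N.index ≠ 4) ∨ (Nat.card {C : ConjClasses G // ∃ g : G, ConjClasses.mk g = C ∧ orderOf g = 2} = 3 ∧ Cfsg.HasNormalPComplement 2 G) := by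
  obtain ⟨e⟩ := hdih
  have hk : 2 ≤ n - 1 := by omega
  by_cases hza : IsConj (iota P e (r (hh (n - 1)))) (iota P e (sr 0))
  · by_cases hzb : IsConj (iota P e (r (hh (n - 1)))) (iota P e (sr 1))
    · exact Or.inl (case_one P e hk hza hzb)
    · exact Or.inr (Or.inl (case_two P e hk hza hzb))
  · by_cases hzb : IsConj (iota P e (r (hh (n - 1)))) (iota P e (sr 1))
    · right; left
      apply case_two P (e.trans (shift (2 ^ (n - 1)))) hk
      · rw [iota_shift, iota_shift, shift_symm_r, shift_symm_sr]
        obtain ⟨c, hc⟩ := sr_odd_conj (k := n - 1) (-1)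
        have e1 : (2 * (-1) + 1 : ZMod (2 ^ (n - 1))) = 0 - 1 := by ring
        rw [e1] at hc
        exact hzb.trans (iota_conj P e hc).symm
      · rw [iota_shift, iota_shift, shift_symm_r, shift_symm_sr, sub_self]
        exact hza
    · exact Or.inr (Or.inr (case_three P e hk hza hzb))

end Cfsg.Agent.S3864
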