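import Cfsg.Statements.S0077
import Mathlib
import Cfsg.Agent.Helper9.WeakClosure

set_option autoImplicit false
open Cfsg

namespace Cfsg.Agent.S0077
open scoped commutatorElement

/-- If a subgroup Z of the centre of a Sylow p-subgroup P is weakly closed in P, then P meets the derived subgroup of G exactly where it meets the derived subgroup of the normalizer of Z. -/
theorem result {G : Type*} [Group G] [Finite G] {p : ℕ} [Fact p.Prime] (P : Sylow p G) (Z : Subgroup G) (hZ : Z ≤ Subgroup.centralizer (P : Set G)) (hW : Cfsg.IsWeaklyClosed Z P) : commutator G ⊓ (P : Subgroup G) = ⁅Subgroup.normalizer (Z : Set G), Subgroup.normalizer (Z : Set G)⁆ ⊓ (P : Subgroup G) := by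
  classical
  have hPM : (P : Subgroup G) ≤ Subgroup.normalizer (Z : Set G) := by
    refine le_trans ?_ (Subgroup.centralizer_le_normalizer (Z : Set G))
    intro x hx
    rw [Subgroup.mem_centralizer_iff]
    intro z hz
    exact ((Subgroup.mem_centralizer_iff.mp (hZ hz)) x hx).symm
  apply le_antisymm
  · apply le_inf _ inf_le_right
    rw [Subgroup.commutator_inf_eq_focalSubgroup P, Subgroup.focalSubgroup_def, Subgroup.closure_le]
    rintro g ⟨hg, x, hx, u, rfl⟩
    have h1 : u * x⁻¹ * u⁻¹ ∈ (P : Subgroup G) := by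
      have h2 := (P : Subgroup G).mul_mem ((P : Subgroup G).inv_mem hx) hg
      have h3 : x⁻¹ * ⁅x, u⁆ = u * x⁻¹ * u⁻¹ := by
        rw [commutatorElement_def]; group
      rwa [h3] at h2
    obtain ⟨n, hn, hnx⟩ := Cfsg.Agent.Helper9.exists_normalizer_conj_of_weaklyClosed P Z hZ hW
      x⁻¹ u (inv_mem hx) h1
    have h4 : ⁅x, u⁆ = ⁅x, n⁆ := by
      rw [commutatorElement_def, commutatorElement_def]
      have e1 : x * u * x⁻¹ * u⁻¹ = x * (u * x⁻¹ * u⁻¹) := by group
      have e2 : x * n * x⁻¹ * n⁻¹ = x * (n * x⁻¹ * n⁻¹) := by group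
      rw [e1, e2, hnx]
    rw [h4]
    exact Subgroup.commutator_mem_commutator (hPM hx) hn
  · apply inf_le_inf_right
    rw [commutator_def]
    exact Subgroup.commutator_mono le_top le_top

end Cfsg.Agent.S0077
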