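import Cfsg.Statements.S0078
import Mathlib
import Cfsg.Agent.Helper9.TateGeneral
import Cfsg.Agent.S0077

set_option autoImplicit false
open Cfsg

namespace Cfsg.Agent.S0078

open scoped Pointwise

/-- In a p-normal group, a Sylow p-subgroup P meets O^p(G) exactly where it meets O^p(V), for any subgroup V containing the normalizer of the centre of P. -/
theorem result {G : Type*} [Group G] [Finite G] {p : ℕ} [Fact p.Prime] (P : Sylow p G) (hn : ∀ Q : Sylow p G, (P : Subgroup G) ⊓ Subgroup.centralizer (P : Set G) ≤ (Q : Subgroup G) → (Q : Subgroup G) ⊓ Subgroup.centralizer (Q : Set G) = (P : Subgroup G) ⊓ Subgroup.centralizer (P : Set G)) (V : Subgroup G) (hV : Subgroup.normalizer (((P : Subgroup G) ⊓ Subgroup.centralizer (P : Set G) : Subgroup G) : Set G) ≤ V) : (P : Subgroup G) ⊓ Cfsg.pResidual p G = (P : Subgroup G) ⊓ (Cfsg.pResidual p V).map V.subtype := by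
  classical
  set Z : Subgroup G := (P : Subgroup G) ⊓ Subgroup.centralizer (P : Set G) with hZdef
  have hmemconj : ∀ (H : Subgroup G) (g x : G), x ∈ MulAut.conj g • H ↔ g⁻¹ * x * g ∈ H := by
    intro H g x
    rw [Subgroup.mem_pointwise_smul_iff_inv_smul_mem, ← map_inv, MulAut.smul_def,
      MulAut.conj_apply, inv_inv]
  have hZc : Z ≤ Subgroup.centralizer (P : Set G) := inf_le_right
  have hW : Cfsg.IsWeaklyClosed Z (P : Subgroup G) := by
    refine ⟨inf_le_left, ?_⟩
    intro g hg
    set Q : Sylow p G := g⁻¹ • P with hQ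
    have hQmem : ∀ x : G, x ∈ (Q : Subgroup G) ↔ g * x * g⁻¹ ∈ (P : Subgroup G) := by
      intro x
      rw [hQ, Sylow.coe_subgroup_smul, hmemconj, inv_inv]
    have hZQ : Z ≤ (Q : Subgroup G) := by
      intro z hz
      rw [hQmem]
      apply hg
      exact ⟨z, hz, rfl⟩
    have hQZ := hn Q hZQ
    have hle : Z.map (MulAut.conj g).toMonoidHom ≤ Z := by
      rintro _ ⟨z, hz, rfl⟩
      have hzQ : z ∈ (Q : Subgroup G) ⊓ Subgroup.centralizer (Q : Set G) := by
        rw [hQZ]; exact hz
      obtain ⟨hz1, hz2⟩ := Subgroup.mem_inf.mp hzQ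
      refine Subgroup.mem_inf.mpr ⟨hg ⟨z, hz, rfl⟩, ?_⟩
      rw [Subgroup.mem_centralizer_iff]
      intro a ha
      have ha' : g⁻¹ * a * g ∈ (Q : Subgroup G) := by
        rw [hQmem]
        have : g * (g⁻¹ * a * g) * g⁻¹ = a := by group
        rw [this]; exact ha
      have hcomm := (Subgroup.mem_centralizer_iff.mp hz2) _ ha'
      show a * (g * z * g⁻¹) = (g * z * g⁻¹) * a
      have e1 : a * (g * z * g⁻¹) = g * ((g⁻¹ * a * g) * z) * g⁻¹ := by group
      have e2 : (g * z * g⁻¹) * a = g * (z * (g⁻¹ * a * g)) * g⁻¹ := by group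
      rw [e1, e2, hcomm]
    apply Subgroup.eq_of_le_of_card_ge hle
    rw [Subgroup.card_map_of_injective (MulAut.conj g).injective]
  have h77 := Cfsg.Agent.S0077.result P Z hZc hW
  have hPN : (P : Subgroup G) ≤ Subgroup.normalizer (Z : Set G) := by
    refine le_trans ?_ (Subgroup.centralizer_le_normalizer (Z : Set G))
    intro x hx
    rw [Subgroup.mem_centralizer_iff]
    intro z hz
    exact ((Subgroup.mem_centralizer_iff.mp (hZc hz)) x hx).symm
  have hPV : (P : Subgroup G) ≤ V := hPN.trans hV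
  have hfoc : commutator G ⊓ (P : Subgroup G) ≤ ⁅V, V⁆ := by
    rw [h77]
    exact inf_le_left.trans (Subgroup.commutator_mono hV hV)
  apply le_antisymm
  · exact le_inf inf_le_left (Cfsg.Agent.Helper9.tate_general P V hPV hfoc)
  · apply inf_le_inf_left
    rw [Cfsg.pResidual, MonoidHom.map_closure, Cfsg.pResidual]
    apply Subgroup.closure_mono
    rintro _ ⟨n, hn', rfl⟩
    change (orderOf ((n : G))).Coprime p
    rw [Subgroup.orderOf_coe]
    exact hn'

end Cfsg.Agent.S0078
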