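import Cfsg.Statements.S0995
-- import your own Cfsg.Agent.* helpers here
import Mathlib
import Cfsg.Agent.Helper11.OrderP
import Cfsg.Agent.Helper11.SylowCount

set_option autoImplicit false
open Cfsg

namespace Cfsg.Agent.S0995

/-- Let G be a finite perfect group containing an element z of prime order p whose centralizer is the cyclic group it generates. Let t be the number of conjugacy classes of elements of order p. Then t divides p - 1, the number of Sylow p-subgroups has the form 1 + n * p, and |G| * t = (p - 1) * p * (1 + n * p). -/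
theorem result {G : Type*} [Group G] [Finite G] (hperf : commutator G = ⊤) (p : ℕ) [Fact p.Prime] (z : G) (hz : orderOf z = p) (hC : Subgroup.centralizer ({z} : Set G) = Subgroup.zpowers z) : ∃ n t : ℕ, t = Nat.card {c : ConjClasses G // ∃ g : G, ConjClasses.mk g = c ∧ orderOf g = p} ∧ t ∣ p - 1 ∧ Nat.card (Sylow p G) = 1 + n * p ∧ Nat.card G * t = (p - 1) * p * (1 + n * p) := by
  classical
  have hp : p.Prime := Fact.out
  have : Fintype G := Fintype.ofFinite G
  have : Fintype (ConjClasses G) := Fintype.ofFinite _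
  obtain ⟨P, hPz⟩ := Cfsg.Agent.Helper11.exists_sylow_eq_zpowers_of_centralizer z hz hC
  have hP : Nat.card ↥(P : Subgroup G) = p := by rw [hPz, Nat.card_zpowers, hz]
  have hcount := Cfsg.Agent.Helper11.card_orderOf_eq_prime P hP
  -- fiberwise count over classes
  let s : Finset G := Finset.univ.filter (fun g => orderOf g = p)
  let T : Finset (ConjClasses G) :=
    Finset.univ.filter (fun c => ∃ g : G, ConjClasses.mk g = c ∧ orderOf g = p)
  have hmaps : ∀ x ∈ s, ConjClasses.mk x ∈ T := by
    intro x hx
    simp only [T, Finset.mem_filter, Finset.mem_univ, true_and]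
    exact ⟨x, rfl, (Finset.mem_filter.1 hx).2⟩
  have hfib := Finset.card_eq_sum_card_fiberwise (f := ConjClasses.mk) (s := s) (t := T) hmaps
  have hfibcard : ∀ b ∈ T, (s.filter (fun a => ConjClasses.mk a = b)).card * p = Nat.card G := by
    intro b hb
    simp only [T, Finset.mem_filter, Finset.mem_univ, true_and] at hb
    obtain ⟨g, rfl, hg⟩ := hb
    have hcen := Cfsg.Agent.Helper11.centralizer_eq_zpowers_of_orderOf z hz hC g hg
    have hcl := Cfsg.Agent.Helper11.card_isConj_mul_card_centralizer g
    rw [hcen, Nat.card_zpowers, hg] at hcl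
    rw [← hcl]
    congr 1
    rw [Nat.card_eq_fintype_card, Fintype.card_subtype]
    congr 1
    ext a
    simp only [s, Finset.mem_filter, Finset.mem_univ, true_and]
    constructor
    · rintro ⟨_, h⟩
      rw [ConjClasses.mk_eq_mk_iff_isConj] at h
      exact h.symm
    · intro h
      refine ⟨?_, ?_⟩
      · obtain ⟨c, hc⟩ := h
        rw [← hg]
        exact (hc.orderOf_eq).symm
      · rw [ConjClasses.mk_eq_mk_iff_isConj]
        exact h.symm
  have hsum : s.card * p = T.card * Nat.card G := by
    rw [hfib, Finset.sum_mul, Finset.sum_congr rfl hfibcard]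
    simp
  have hs : s.card = Nat.card (Sylow p G) * (p - 1) := by
    rw [← hcount, Nat.card_eq_fintype_card, Fintype.card_subtype]
  have hT : T.card = Nat.card {c : ConjClasses G // ∃ g : G, ConjClasses.mk g = c ∧ orderOf g = p} := by
    rw [Nat.card_eq_fintype_card, Fintype.card_subtype]
  -- Sylow count
  have hmod : Nat.card (Sylow p G) ≡ 1 [MOD p] := card_sylow_modEq_one p G
  have hpos : 0 < Nat.card (Sylow p G) := Nat.card_pos
  obtain ⟨n, hn⟩ : ∃ n, Nat.card (Sylow p G) = 1 + n * p := by
    refine ⟨(Nat.card (Sylow p G) - 1) / p, ?_⟩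
    have h1 : p ∣ Nat.card (Sylow p G) - 1 := (Nat.modEq_iff_dvd' hpos).1 hmod.symm
    rw [Nat.div_mul_cancel h1]
    omega
  refine ⟨n, T.card, hT, ?_, hn, ?_⟩
  · -- t ∣ p - 1
    have hN := Cfsg.Agent.Helper11.card_sylow_mul_card_normalizer P
    have hPN : Nat.card ↥(P : Subgroup G) ∣ Nat.card ↥(Subgroup.normalizer ((P : Subgroup G) : Set G)) :=
      Subgroup.card_dvd_of_le Subgroup.le_normalizer
    rw [hP] at hPN
    obtain ⟨m, hm⟩ := hPN
    rw [hs, ← hN, hm] at hsum
    have h2 : Nat.card (Sylow p G) * p * (p - 1) = Nat.card (Sylow p G) * p * (T.card * m) := by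
      calc Nat.card (Sylow p G) * p * (p - 1) = Nat.card (Sylow p G) * (p - 1) * p := by ring
        _ = T.card * (Nat.card (Sylow p G) * (p * m)) := hsum
        _ = Nat.card (Sylow p G) * p * (T.card * m) := by ring
    have h3 : p - 1 = T.card * m := Nat.eq_of_mul_eq_mul_left (Nat.mul_pos hpos hp.pos) h2
    exact ⟨m, h3⟩
  · rw [← hn, mul_comm (Nat.card G), ← hsum, hs]
    ring

end Cfsg.Agent.S0995
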