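import Cfsg.Statements.S1470
import Mathlib

set_option autoImplicit false
open Cfsg

namespace Cfsg.Agent.S1470

/-- Let p and q be odd primes with (p^q − 1)/(p − 1) coprime to p − 1, and let E be the set of elements a of the field with p ^ q elements whose norm to the prime field is 1 and for which 2 − a also has norm 1. If a⁻¹ ∈ E for every a ∈ E and E has at least two elements, then p ≤ q. -/
theorem result (p q : ℕ) [Fact p.Prime] [Fact q.Prime] (hp : p ≠ 2) (hq : q ≠ 2) (hA : Nat.Coprime ((p ^ q - 1) / (p - 1)) (p - 1))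
    (hinv : ∀ a ∈ {a : GaloisField p q | Algebra.norm (ZMod p) a = 1 ∧ Algebra.norm (ZMod p) (2 - a) = 1}, a⁻¹ ∈ {a : GaloisField p q | Algebra.norm (ZMod p) a = 1 ∧ Algebra.norm (ZMod p) (2 - a) = 1})
    (h2 : 2 ≤ Set.ncard {a : GaloisField p q | Algebra.norm (ZMod p) a = 1 ∧ Algebra.norm (ZMod p) (2 - a) = 1}) :
    p ≤ q := by
  classical
  by_contra hpq
  push Not at hpq
  have hpp : p.Prime := Fact.out
  have hqp : q.Prime := Fact.out
  have hq0 : q ≠ 0 := hqp.ne_zero
  have hfr : Module.finrank (ZMod p) (GaloisField p q) = q := GaloisField.finrank p hq0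
  -- gcd (q, p - 1) = 1
  have hgcd : Nat.gcd q (p - 1) = 1 := by
    have hm : (p ^ q - 1) / (p - 1) = ∑ k ∈ Finset.range q, p ^ k := (Nat.geomSum_eq hpp.two_le q).symm
    have hd1 : Nat.gcd q (p - 1) ∣ p - 1 := Nat.gcd_dvd_right _ _
    have hd2 : Nat.gcd q (p - 1) ∣ q := Nat.gcd_dvd_left _ _
    have hp1 : ((p : ℕ) : ZMod (Nat.gcd q (p - 1))) = 1 := by
      have h1 : (((p - 1 : ℕ)) : ZMod (Nat.gcd q (p - 1))) = 0 :=
        (ZMod.natCast_eq_zero_iff _ _).mpr hd1
      have h2 : p = (p - 1) + 1 := (Nat.sub_add_cancel hpp.one_lt.le).symm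
      rw [h2, Nat.cast_add, h1, zero_add, Nat.cast_one]
    have hmd : Nat.gcd q (p - 1) ∣ (p ^ q - 1) / (p - 1) := by
      rw [hm, ← ZMod.natCast_eq_zero_iff, Nat.cast_sum]
      simp only [Nat.cast_pow, hp1, one_pow, Finset.sum_const, Finset.card_range, nsmul_eq_mul,
        mul_one]
      exact (ZMod.natCast_eq_zero_iff _ _).mpr hd2
    have h3 := Nat.dvd_gcd hmd hd1
    rw [Nat.Coprime] at hA
    rw [hA] at h3
    exact Nat.dvd_one.mp h3
  -- elements of the prime field with q-th power one are trivial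
  have hK1 : ∀ c : ZMod p, c ^ q = 1 → c = 1 := by
    intro c hc
    have hc0 : c ≠ 0 := by
      intro h0
      rw [h0, zero_pow hq0] at hc
      exact zero_ne_one hc
    have h1 : c ^ (p - 1) = 1 := ZMod.pow_card_sub_one_eq_one hc0
    have h2 : orderOf c ∣ Nat.gcd q (p - 1) :=
      Nat.dvd_gcd (orderOf_dvd_of_pow_eq_one hc) (orderOf_dvd_of_pow_eq_one h1)
    rw [hgcd, Nat.dvd_one, orderOf_eq_one_iff] at h2
    exact h2
  obtain ⟨a, haE, ha1⟩ := Set.exists_ne_of_one_lt_ncard (lt_of_lt_of_le one_lt_two h2) (1 : GaloisField p q)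
  -- a is not in the prime field
  have haK : ∀ c : ZMod p, algebraMap (ZMod p) (GaloisField p q) c ≠ a := by
    intro c hc
    have h1 : Algebra.norm (ZMod p) a = 1 := haE.1
    rw [← hc, Algebra.norm_algebraMap, hfr] at h1
    apply ha1
    rw [← hc, hK1 c h1, map_one]
  -- closure under x ↦ 2 - x⁻¹
  have hσ : ∀ x ∈ {a : GaloisField p q | Algebra.norm (ZMod p) a = 1 ∧ Algebra.norm (ZMod p) (2 - a) = 1},
      2 - x⁻¹ ∈ {a : GaloisField p q | Algebra.norm (ZMod p) a = 1 ∧ Algebra.norm (ZMod p) (2 - a) = 1} := by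
    intro x hx
    have h1 := hinv x hx
    refine ⟨h1.2, ?_⟩
    rw [sub_sub_cancel]
    exact h1.1
  have hsub : a - 1 ≠ 0 := sub_ne_zero.mpr ha1
  set t := (a - 1)⁻¹ with ht
  have ht0 : t ≠ 0 := inv_ne_zero hsub
  have htk : ∀ k : ℕ, t + (k : GaloisField p q) ≠ 0 := by
    intro k hk
    have h1 : t = algebraMap (ZMod p) (GaloisField p q) (-(k : ZMod p)) := by
      rw [map_neg, map_natCast]
      exact eq_neg_of_add_eq_zero_left hk
    have h2 : a = algebraMap (ZMod p) (GaloisField p q) ((-(k : ZMod p))⁻¹ + 1) := by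
      rw [map_add, map_inv₀, ← h1, ht, inv_inv, map_one]
      ring
    exact haK _ h2.symm
  have hxk : ∀ k : ℕ, 1 + (t + (k : GaloisField p q))⁻¹ ∈
      {a : GaloisField p q | Algebra.norm (ZMod p) a = 1 ∧ Algebra.norm (ZMod p) (2 - a) = 1} := by
    intro k
    induction k with
    | zero =>
      have : 1 + (t + ((0 : ℕ) : GaloisField p q))⁻¹ = a := by
        rw [Nat.cast_zero, add_zero, ht, inv_inv]; ring
      rw [this]; exact haE
    | succ k ih =>
      have h1 := hσ _ ih
      have h2 : 2 - (1 + (t + (k : GaloisField p q))⁻¹)⁻¹ =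
          1 + (t + ((k + 1 : ℕ) : GaloisField p q))⁻¹ := by
        have hk0 := htk k
        have hk1 := htk (k + 1)
        rw [Nat.cast_add, Nat.cast_one] at hk1 ⊢
        have hk2 : t + (k : GaloisField p q) + 1 ≠ 0 := by rw [add_assoc]; exact hk1
        field_simp
        ring
      rw [h2] at h1
      exact h1
  have hNk : ∀ k : ℕ, Algebra.norm (ZMod p) (t + (k : GaloisField p q)) = Algebra.norm (ZMod p) t := by
    intro k
    induction k with
    | zero => rw [Nat.cast_zero, add_zero]
    | succ k ih =>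
      have h1 := (hxk k).1
      have h2 : t + ((k + 1 : ℕ) : GaloisField p q) =
          (1 + (t + (k : GaloisField p q))⁻¹) * (t + (k : GaloisField p q)) := by
        have hk0 := htk k
        rw [Nat.cast_add, Nat.cast_one]
        field_simp
        ring
      rw [h2, map_mul, h1, one_mul, ih]
  -- the polynomial
  set g : Polynomial (GaloisField p q) :=
    ∏ σ : GaloisField p q ≃ₐ[ZMod p] GaloisField p q, (Polynomial.X + Polynomial.C (σ t)) with hg
  have hgmonic : g.Monic := Polynomial.monic_prod_of_monic _ _ (fun σ _ => Polynomial.monic_X_add_C _)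
  have hgdeg : g.natDegree = q := by
    rw [hg, Polynomial.natDegree_prod_of_monic _ _ (fun σ _ => Polynomial.monic_X_add_C _)]
    simp only [Polynomial.natDegree_X_add_C, Finset.sum_const, Finset.card_univ, smul_eq_mul, mul_one]
    rw [← Nat.card_eq_fintype_card, IsGalois.card_aut_eq_finrank, hfr]
  have hgeval : ∀ k : ℕ, Polynomial.eval (k : GaloisField p q) g =
      algebraMap (ZMod p) (GaloisField p q) (Algebra.norm (ZMod p) t) := by
    intro k
    rw [← hNk k, Algebra.norm_eq_prod_automorphisms, hg, Polynomial.eval_prod]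
    refine Finset.prod_congr rfl ?_
    intro σ _
    rw [Polynomial.eval_add, Polynomial.eval_X, Polynomial.eval_C, map_add, map_natCast, add_comm]
  set h : Polynomial (GaloisField p q) :=
    g - Polynomial.C (algebraMap (ZMod p) (GaloisField p q) (Algebra.norm (ZMod p) t)) with hh
  have hhdeg : h.natDegree = q := by rw [hh, Polynomial.natDegree_sub_C, hgdeg]
  have hinj : Function.Injective (fun i : Fin p => ((i : ℕ) : GaloisField p q)) := by
    intro i j hij
    have := CharP.natCast_injOn_Iio (GaloisField p q) p (Set.mem_Iio.mpr i.2) (Set.mem_Iio.mpr j.2) hij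
    exact Fin.ext this
  have hzero : h = 0 := by
    apply Polynomial.eq_zero_of_natDegree_lt_card_of_eval_eq_zero h hinj
    · intro i
      rw [hh, Polynomial.eval_sub, Polynomial.eval_C, hgeval, sub_self]
    · rw [hhdeg, Fintype.card_fin]; exact hpq
  rw [hzero, Polynomial.natDegree_zero] at hhdeg
  exact hq0 hhdeg.symm

end Cfsg.Agent.S1470
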