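import Cfsg.Statements.S1472
import Mathlib
import Cfsg.Agent.Helper20.BGCMain
import Cfsg.Agent.S1470
import Cfsg.Agent.S1471

set_option autoImplicit false
open Cfsg

namespace Cfsg.Agent.S1472

/-- Let p, q be primes with (p^q − 1)/(p − 1) coprime to p − 1, G a finite group, F a field with p ^ q elements, and P, U, Q subgroups of G with: f : G → F bijective from P onto F and additive on P; U normalizing P and acting through ψ : G → F, injective and multiplicative on U with ψ(u) ≠ 0 and f(uxu⁻¹) = ψ(u) f(x); #U · (p − 1) = p^q − 1; Q abelian of order coprime to p, normalized by every x ∈ P with f(x) in the prime field; and some y ∈ Q such that y x y⁻¹ normalizes U for every such x. Then p ≤ q. -/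
theorem result {G : Type*} [Group G] [Finite G] (p q : ℕ) [Fact p.Prime] [Fact q.Prime] (hA : Nat.Coprime ((p ^ q - 1) / (p - 1)) (p - 1))
    (F : Type*) [Field F] [Fintype F] (hF : Fintype.card F = p ^ q) (P U Q : Subgroup G) (f ψ : G → F)
    (hf : Set.BijOn f (P : Set G) Set.univ) (hfadd : ∀ x ∈ P, ∀ z ∈ P, f (x * z) = f x + f z)
    (hUP : U ≤ Subgroup.normalizer (P : Set G)) (hψ : ∀ u ∈ U, ψ u ≠ 0 ∧ ∀ x ∈ P, f (u * x * u⁻¹) = ψ u * f x)
    (hψmul : ∀ u ∈ U, ∀ v ∈ U, ψ (u * v) = ψ u * ψ v) (hψinj : Set.InjOn ψ (U : Set G)) (hUcard : Nat.card U * (p - 1) = p ^ q - 1)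
    (hQ : IsMulCommutative Q) (hQp : (Nat.card Q).Coprime p) (hP0Q : ∀ x ∈ P, f x ^ p = f x → x ∈ Subgroup.normalizer (Q : Set G))
    (y : G) (hy : y ∈ Q) (hP0U : ∀ x ∈ P, f x ^ p = f x → y * x * y⁻¹ ∈ Subgroup.normalizer (U : Set G)) :
    p ≤ q := by
  classical
  by_contra hpq
  push Not at hpq
  have hp : p.Prime := Fact.out
  have hq : q.Prime := Fact.out
  have hp2 : p ≠ 2 := by have := hq.two_le; omega
  have hq2 : q ≠ 2 := by
    intro hq2
    subst hq2
    have hodd : Odd p := hp.odd_of_ne_two hp2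
    have h1 : (p ^ 2 - 1) / (p - 1) = 1 + p := by
      have := Cfsg.Agent.Helper20.BGC.nrm_eq_sum hp.two_le 2
      simp only [Cfsg.Agent.Helper20.BGC.nrm, Finset.sum_range_succ, Finset.sum_range_zero,
        pow_zero, pow_one, zero_add] at this
      exact this
    rw [h1] at hA
    obtain ⟨k, hk⟩ := hodd
    have h2 : 2 ∣ Nat.gcd (1 + p) (p - 1) := Nat.dvd_gcd ⟨k + 1, by omega⟩ ⟨k, by omega⟩
    rw [Nat.Coprime] at hA
    rw [hA] at h2
    exact absurd (Nat.le_of_dvd one_pos h2) (by norm_num)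
  have hEinv := Cfsg.Agent.Helper20.BGC.E_inv_of_hyps p q hA F hF P U Q f ψ hf hfadd hUP hψ hψmul
    hψinj hUcard hQ hQp hP0Q y hy hP0U hpq
  have hq0 : q ≠ 0 := hq.ne_zero
  letI : Fintype (GaloisField p q) := Fintype.ofFinite _
  have hcardG : Fintype.card (GaloisField p q) = p ^ q := by
    rw [← Nat.card_eq_fintype_card, GaloisField.card p q hq0]
  let e : GaloisField p q ≃+* F := FiniteField.ringEquivOfCardEq (by rw [hcardG, hF])
  have hnorm : ∀ a : GaloisField p q,
      Algebra.norm (ZMod p) a = 1 ↔ a ^ Cfsg.Agent.Helper20.BGC.nrm p q = 1 := by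
    intro a
    have h := FiniteField.algebraMap_norm_eq_pow (K := ZMod p) (K' := GaloisField p q) (x := a)
    rw [GaloisField.card p q hq0, Nat.card_zmod] at h
    constructor
    · intro h1
      rw [h1, map_one] at h
      exact h.symm
    · intro h1
      apply (algebraMap (ZMod p) (GaloisField p q)).injective
      rw [h, map_one]
      exact h1
  have hiff : ∀ a : GaloisField p q,
      (Algebra.norm (ZMod p) a = 1 ∧ Algebra.norm (ZMod p) (2 - a) = 1) ↔
        Cfsg.Agent.Helper20.BGC.InE p q (e a) := by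
    intro a
    rw [hnorm, hnorm]
    unfold Cfsg.Agent.Helper20.BGC.InE
    constructor
    · rintro ⟨h1, h2⟩
      refine ⟨by rw [← map_pow, h1, map_one], ?_⟩
      have : (2 : F) - e a = e (2 - a) := by rw [map_sub, map_ofNat]
      rw [this, ← map_pow, h2, map_one]
    · rintro ⟨h1, h2⟩
      refine ⟨e.injective (by rw [map_pow, h1, map_one]), e.injective ?_⟩
      rw [map_pow, map_sub, map_ofNat, h2, map_one]
  have hfin := Cfsg.Agent.S1470.result p q hp2 hq2 hA ?_ (Cfsg.Agent.S1471.result p q hp2 hq2 hA)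
  · omega
  · intro a ha
    rw [Set.mem_ofPred_eq] at ha ⊢
    rw [hiff] at ha ⊢
    rw [map_inv₀]
    exact hEinv _ ha

end Cfsg.Agent.S1472
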