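import Cfsg.Statements.S0076
import Cfsg.Agent.Helper9.SylowFusion

set_option autoImplicit false
open Cfsg

namespace Cfsg.Agent.S0076

/-- Two P-invariant subsets of a Sylow p-subgroup P that are conjugate in G are conjugate under the normalizer of P. -/
theorem result {G : Type*} [Group G] [Finite G] {p : ℕ} [Fact p.Prime] (P : Sylow p G) (X Y : Set G) (hXP : X ⊆ P) (hYP : Y ⊆ P) (hX : ∀ x ∈ P, (fun y => x * y * x⁻¹) '' X = X) (hY : ∀ x ∈ P, (fun y => x * y * x⁻¹) '' Y = Y) (g : G) (hg : (fun y => g * y * g⁻¹) '' X = Y) : ∃ n ∈ Subgroup.normalizer (P : Set G), (fun y => n * y * n⁻¹) '' X = Y := by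
  classical
  -- K = set-normalizer of Y
  have conjimg : ∀ (a b : G) (S : Set G),
      (fun y => a * y * a⁻¹) '' ((fun y => b * y * b⁻¹) '' S) = (fun y => (a * b) * y * (a * b)⁻¹) '' S := by
    intro a b S
    rw [Set.image_image]
    congr 1
    funext y
    group
  have memK : ∀ h : G, h ∈ Subgroup.normalizer Y ↔ (fun y => h * y * h⁻¹) '' Y = Y := by
    intro h
    rw [Subgroup.mem_normalizer_iff_conj_image_eq]
    rfl
  have hPK : (P : Subgroup G) ≤ Subgroup.normalizer Y := by
    intro x hx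
    exact (memK x).mpr (hY x hx)
  have hQK : ((g • P : Sylow p G) : Subgroup G) ≤ Subgroup.normalizer Y := by
    rw [Cfsg.Agent.Helper9.sylow_smul_coe_eq_map]
    rintro _ ⟨x, hx, rfl⟩
    rw [memK]
    simp only [MulEquiv.coe_toMonoidHom, MulAut.conj_apply]
    rw [← hg, conjimg]
    have : g * x * g⁻¹ * g = g * x := by group
    rw [this, ← conjimg, hX x hx]
  obtain ⟨k, hkK, hk⟩ := Cfsg.Agent.Helper9.exists_mem_conj_sylow_of_le (g • P) P _ hQK hPK
  refine ⟨k * g, ?_, ?_⟩
  · show k * g ∈ Subgroup.normalizer (((P : Subgroup G)) : Set G)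
    rw [← Cfsg.Agent.Helper9.map_conj_eq_iff_mem_normalizer]
    rw [Cfsg.Agent.Helper9.sylow_smul_coe_eq_map, Subgroup.map_map] at hk
    rw [← hk]
    congr 1
    ext y
    simp [mul_assoc]
  · rw [← conjimg, hg]
    exact (memK k).mp hkK

end Cfsg.Agent.S0076
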