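import Cfsg.Statements.S2581
import Cfsg.Agent.Helper21.JC6

set_option autoImplicit false
open Cfsg

namespace Cfsg.Agent.S2581

open Cfsg.Agent.Helper21.JC in
/-- the centraliser in `GL` is parametrised by the parameters with invertible matrix -/
def centEquiv {F : Type*} [Field F] {t : ℕ} (d : Fin t → ℕ) (hd : ∀ k, 1 ≤ d k) :
    {g : GL ((k : Fin t) × Fin (d k)) F // (g : Matrix ((k : Fin t) × Fin (d k)) ((k : Fin t) × Fin (d k)) F) * Cfsg.jordanTypeMatrix d F = Cfsg.jordanTypeMatrix d F * (g : Matrix ((k : Fin t) × Fin (d k)) ((k : Fin t) × Fin (d k)) F)} ≃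
      {c : Par d F // (toMat d c).det ≠ 0} where
  toFun g := ⟨toPar d hd (g.1 : Matrix (Idx d) (Idx d) F), by
    rw [toMat_toPar d hd ((commute_iff d _).1 g.2)]
    exact (Matrix.isUnits_det_units g.1).ne_zero⟩
  invFun c := ⟨Matrix.GeneralLinearGroup.mkOfDetNeZero (toMat d c.1) c.2, by
    rw [commute_iff]
    exact toMat_comm d c.1⟩
  left_inv g := by
    apply Subtype.ext
    apply Units.ext
    exact toMat_toPar d hd ((commute_iff d _).1 g.2)
  right_inv c := by
    apply Subtype.ext
    exact toPar_toMat d hd c.1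

theorem prod_fin_congr (q : ℕ) {n n' : ℕ} (h : n = n') :
    ∏ i : Fin n, (q ^ n - q ^ (i : ℕ)) = ∏ i : Fin n', (q ^ n' - q ^ (i : ℕ)) := by
  subst h; rfl

/-- Order of the centraliser in GL of a unipotent matrix of given Jordan type over the field with q elements: if the type has a_i blocks of size i (all block sizes at least 1), the invertible matrices commuting with it number q^γ · Π_i |GL_(a_i)(q)| with γ = 2 Σ_(i<j) i a_i a_j + Σ_i (i − 1) a_i² (a group of order q^γ extended by Π GL_(a_i)(q)). -/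
theorem result {F : Type*} [Field F] [Fintype F] {q : ℕ} (hF : Fintype.card F = q) {t : ℕ} (d : Fin t → ℕ) (hd : ∀ k, 1 ≤ d k) : Nat.card {g : GL ((k : Fin t) × Fin (d k)) F // (g : Matrix ((k : Fin t) × Fin (d k)) ((k : Fin t) × Fin (d k)) F) * Cfsg.jordanTypeMatrix d F = Cfsg.jordanTypeMatrix d F * (g : Matrix ((k : Fin t) × Fin (d k)) ((k : Fin t) × Fin (d k)) F)} = q ^ (2 * (∑ i ∈ Finset.range (Finset.univ.sup d + 1), ∑ j ∈ Finset.range (Finset.univ.sup d + 1), if i < j then i * (Finset.univ.filter (fun k : Fin t => d k = i)).card * (Finset.univ.filter (fun k : Fin t => d k = j)).card else 0) + ∑ i ∈ Finset.range (Finset.univ.sup d + 1), (i - 1) * (Finset.univ.filter (fun k : Fin t => d k = i)).card ^ 2) * ∏ i ∈ Finset.range (Finset.univ.sup d + 1), ∏ j : Fin ((Finset.univ.filter (fun k : Fin t => d k = i)).card), (q ^ (Finset.univ.filter (fun k : Fin t => d k = i)).card - q ^ (j : ℕ)) := by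
  subst hF
  rw [Nat.card_congr (centEquiv d hd), Cfsg.Agent.Helper21.JC.card_invertible d hd, mul_assoc,
    ← pow_add, Cfsg.Agent.Helper21.JC.exponent_eq d hd, mul_comm]
  congr 1
  rw [← Fin.prod_univ_eq_prod_range (fun i => ∏ j : Fin ((Finset.univ.filter (fun k : Fin t => d k = i)).card), (Fintype.card F ^ (Finset.univ.filter (fun k : Fin t => d k = i)).card - Fintype.card F ^ (j : ℕ)))]
  apply Finset.prod_congr rfl
  intro a _
  exact prod_fin_congr _ (Cfsg.Agent.Helper21.JC.card_block d a)

end Cfsg.Agent.S2581
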