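import Mathlib
import Cfsg.Statements.S0707
import Cfsg.Agent.Helper4.Basic
-- import your own Cfsg.Agent.* helpers here

set_option autoImplicit false
open Cfsg

namespace Cfsg.Agent.S0707

/-- In a primitive permutation group, distinct points have distinct stabilisers unless the group is regular of prime degree. -/
theorem result {α : Type*} (G : Subgroup (Equiv.Perm α)) [MulAction.IsPreprimitive G α] (h : ¬ (Nat.card α).Prime ∨ ∃ a : α, MulAction.stabilizer G a ≠ ⊥) {a b : α} (hab : a ≠ b) : MulAction.stabilizer G a ≠ MulAction.stabilizer G b := by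
  classical
  intro heq
  have hnt : Nontrivial α := ⟨⟨a, b, hab⟩⟩
  have hcoatom : IsCoatom (MulAction.stabilizer G a) :=
    MulAction.IsPreprimitive.isCoatom_stabilizer_of_isPreprimitive (G := G) a
  obtain ⟨g, hg⟩ := MulAction.exists_smul_eq G a b
  have hconj : MulAction.stabilizer G b =
      (MulAction.stabilizer G a).map (MulAut.conj g).toMonoidHom := by
    rw [← hg]; exact MulAction.stabilizer_smul_eq_stabilizer_map_conj g a
  have hgN : g ∈ Subgroup.normalizer ((MulAction.stabilizer G a : Subgroup G) : Set G) := by
    rw [Subgroup.mem_normalizer_iff]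
    intro k
    constructor
    · intro hk
      have : g * k * g⁻¹ ∈ MulAction.stabilizer G b := by
        rw [hconj]; exact ⟨k, hk, rfl⟩
      rwa [← heq] at this
    · intro hk
      rw [heq, hconj] at hk
      obtain ⟨k', hk', e⟩ := hk
      have : k' = k := by
        simpa using e
      rwa [← this]
  have hgna : g ∉ MulAction.stabilizer G a := by
    intro h1
    rw [MulAction.mem_stabilizer_iff] at h1
    exact hab (h1.symm.trans hg)
  have hNtop : Subgroup.normalizer ((MulAction.stabilizer G a : Subgroup G) : Set G) = ⊤ := by
    apply hcoatom.2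
    exact lt_of_le_of_ne Subgroup.le_normalizer (fun e => hgna (e ▸ hgN))
  have hnormal : (MulAction.stabilizer G a).Normal := Subgroup.normalizer_eq_top_iff.mp hNtop
  have hall : ∀ x : α, MulAction.stabilizer G x = MulAction.stabilizer G a := by
    intro x
    obtain ⟨k, rfl⟩ := MulAction.exists_smul_eq G a x
    rw [MulAction.stabilizer_smul_eq_stabilizer_map_conj]
    ext y
    constructor
    · rintro ⟨z, hz, rfl⟩
      exact hnormal.conj_mem z hz k
    · intro hy
      refine ⟨k⁻¹ * y * k, ?_, by simp [mul_assoc]⟩
      have := hnormal.conj_mem y hy k⁻¹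
      simpa using this
  have hbot : MulAction.stabilizer G a = ⊥ := by
    rw [Subgroup.eq_bot_iff_forall]
    intro y hy
    apply Subtype.ext
    ext x
    have : y ∈ MulAction.stabilizer G x := by rw [hall x]; exact hy
    exact this
  rcases h with h | ⟨x, hx⟩
  · apply h
    rw [Cfsg.Agent.Helper4.card_eq_of_regular (G := G) a hbot]
    apply Cfsg.Agent.Helper4.prime_card_of_isCoatom_bot
    rw [← hbot]; exact hcoatom
  · exact hx ((hall x).trans hbot)

end Cfsg.Agent.S0707
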