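import Mathlib
import Cfsg.Statements.S0959
import Cfsg.Agent.Helper5.DefectGroups

set_option autoImplicit false
open Cfsg

namespace Cfsg.Agent.S0959

open Cfsg.Agent.Helper5.CC Cfsg.Agent.Helper5.Loc Cfsg.Agent.Helper14

/-- Let B be a block of the finite group G with defect group D (relative to a maximal ideal M of the algebraic integers containing the prime p), and let P be a p-subgroup. Then there is an element g whose idempotent coefficient for B is a local integer outside the local ideal at M and which has a conjugate centralizing P, if and only if some conjugate of P is contained in D. -/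
theorem result {G : Type*} [Group G] [Finite G] (p : ℕ) [Fact p.Prime] (M : Ideal Cfsg.AlgInt) (hM : Cfsg.IsPModular p M) (B : Set (Cfsg.IrrCharacter G)) (hB : Cfsg.IsPBlock M B) (D : Subgroup G) (hD : Cfsg.IsDefectGroup p M B D) (P : Subgroup G) (hP : IsPGroup p P) : (∃ g : G, Cfsg.MemLocalRing M (Cfsg.blockCoeff B g) ∧ ¬ Cfsg.MemLocalIdeal M (Cfsg.blockCoeff B g) ∧ ∃ c : G, IsConj g c ∧ c ∈ Subgroup.centralizer (P : Set G)) ↔ ∃ x : G, P.map (MulAut.conj x).toMonoidHom ≤ D := by
  classical
  have : Fintype G := Fintype.ofFinite G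
  have : Fintype (IrrCharacter G) := Fintype.ofFinite _
  have hMp := isPrime_of_isPModular hM
  obtain ⟨g₀, hg₀, hDS⟩ := isDefectGroup_iff.mp hD
  constructor
  · rintro ⟨g, -, hg, c, hgc, hcP⟩
    -- the coefficient at `c` is the same
    have hc : ¬ MemLocalIdeal M (blockCoeff B c) := by
      rw [← Cfsg.Agent.Helper24.IsClassFunction.eq_of_isConj (isClassFunction_blockCoeff B) hgc]
      exact hg
    have hPc : P ≤ Subgroup.centralizer ({c} : Set G) := by
      intro x hx
      rw [mem_centralizer_singleton_iff']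
      rw [Subgroup.mem_centralizer_iff] at hcP
      exact (hcP x hx).symm
    obtain ⟨t, htc, ht⟩ := exists_conj_mem_centralizer hM B hB g₀ c hg₀.2.2 hc P hP hPc
    rw [isConj_iff] at htc
    obtain ⟨z, rfl⟩ := htc
    have hPt : P ≤ Subgroup.centralizer ({z * g₀ * z⁻¹} : Set G) := by
      intro x hx
      rw [mem_centralizer_singleton_iff']
      rw [Subgroup.mem_centralizer_iff] at ht
      exact (ht x hx).symm
    have hD' : IsSylowIn p (D.map (cj z)) (Subgroup.centralizer ({z * g₀ * z⁻¹} : Set G)) := by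
      have := hDS.map_cj z
      rwa [map_cj_centralizer_singleton] at this
    obtain ⟨V, hV, hPV⟩ := exists_isSylowIn_ge hPt hP
    obtain ⟨k, -, hk⟩ := hD'.exists_conj hV
    -- `P ≤ D.map (cj (k z))`
    have h1 : P ≤ D.map (cj (k * z)) := by
      rw [← map_cj_mul, ← hk]; exact hPV
    refine ⟨(k * z)⁻¹, ?_⟩
    have := (map_cj_le_iff P D (k * z)⁻¹).mpr (by rw [inv_inv]; exact h1)
    exact this
  · rintro ⟨x, hx⟩
    refine ⟨g₀, hg₀.1, hg₀.2.1, x⁻¹ * g₀ * x, ?_, ?_⟩
    · rw [isConj_iff]
      exact ⟨x⁻¹, by group⟩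
    · rw [Subgroup.mem_centralizer_iff]
      intro y hy
      have h1 : x * y * x⁻¹ ∈ D := hx ⟨y, hy, rfl⟩
      have h2 : x * y * x⁻¹ ∈ Subgroup.centralizer ({g₀} : Set G) := hDS.1 h1
      rw [mem_centralizer_singleton_iff'] at h2
      calc y * (x⁻¹ * g₀ * x) = x⁻¹ * (x * y * x⁻¹ * g₀) * x := by group
        _ = x⁻¹ * (g₀ * (x * y * x⁻¹)) * x := by rw [h2]
        _ = x⁻¹ * g₀ * x * y := by group

end Cfsg.Agent.S0959
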