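import Mathlib
import Cfsg.Statements.S0966
import Cfsg.Agent.S0963
import Cfsg.Agent.Helper5.BlockSupport

set_option autoImplicit false
open Cfsg

namespace Cfsg.Agent.S0966

open Cfsg.Agent.Helper5.CC Cfsg.Agent.Helper5.Loc Cfsg.Agent.Helper24

/-- Let N be a normal subgroup of p-power index in the finite group G and b a block of N relative to a maximal ideal M of the algebraic integers containing p. Then there is exactly one block B of G containing a character whose restriction to N has a constituent in b. -/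
theorem result {G : Type*} [Group G] [Fintype G] (p : ℕ) [Fact p.Prime] (M : Ideal Cfsg.AlgInt) (hM : Cfsg.IsPModular p M) (N : Subgroup G) [N.Normal] [Fintype N] (hidx : ∃ k : ℕ, N.index = p ^ k) (b : Set (Cfsg.IrrCharacter N)) (hb : Cfsg.IsPBlock M b) : ∃! B : Set (Cfsg.IrrCharacter G), Cfsg.IsPBlock M B ∧ ∃ χ ∈ B, ∃ θ ∈ b, Cfsg.classInner (fun n : N => (χ : G → ℂ) n) (θ : N → ℂ) ≠ 0 := by
  classical
  have : Fintype (IrrCharacter G) := Fintype.ofFinite _
  have hMp := isPrime_of_isPModular hM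
  obtain ⟨θ, hθ⟩ := IsPBlock.nonempty hMp hb
  obtain ⟨χ, hχ⟩ := Cfsg.Agent.S0963.exists_irr_over N θ
  refine ⟨blockOf M (χ : G → ℂ), ⟨isPBlock_blockOf χ, χ, mem_blockOf_self hMp χ, θ, hθ, hχ⟩, ?_⟩
  rintro B' ⟨hB', χ', hχ', θ', hθ', hχθ'⟩
  rw [IsPBlock_eq_blockOf hMp hB' hχ']
  apply blockOf_eq_of_sameBlock hMp
  apply sameBlock_of_regular hM χ' χ
  intro g hg
  have hgN := mem_of_regular_of_index_pow N hidx g hg
  have e1 := Cfsg.Agent.S0963.centralChar_eq_of_constituent N χ' θ' hχθ' ⟨g, hgN⟩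
  have e2 := Cfsg.Agent.S0963.centralChar_eq_of_constituent N χ θ hχ ⟨g, hgN⟩
  simp only at e1 e2
  rw [e1, e2, Cfsg.Agent.S0933.inducedCentralChar_eq_act, Cfsg.Agent.S0933.inducedCentralChar_eq_act]
  apply act_sub_act_memLocalIdeal hMp (Cfsg.Agent.S0933.isClassFunction_fusionIndicator N g)
  · intro t
    exact memLocalRing_classIndicator hMp g _
  · exact sameBlock_of_mem hMp hb hθ' hθ

end Cfsg.Agent.S0966
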