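import Cfsg.Statements.S4637
import Mathlib
import Cfsg.Agent.Helper23.KleinCount
import Cfsg.Agent.Helper23.KleinInertial

set_option autoImplicit false
open Cfsg

namespace Cfsg.Agent.S4637

/-- Let B be a block of the finite group G relative to a maximal ideal M of the algebraic integers containing 2, with a Klein four defect group P. Let c be a block of C_G(P) inducing B, T the stabilizer of c in N_G(P) and e the index of C_G(P) in T (the inertial index). Then e is 1 or 3, B contains exactly four irreducible characters, and the 2-regular rank of B (its number of irreducible Brauer characters) equals e. -/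
theorem result {G : Type*} [Group G] [Finite G] (M : Ideal Cfsg.AlgInt) (hM : Cfsg.IsPModular 2 M) (B : Set (Cfsg.IrrCharacter G)) (hB : Cfsg.IsPBlock M B) (P : Subgroup G) (hPD : Cfsg.IsDefectGroup 2 M B P) (hV : IsKleinFour P) (c : Set (Cfsg.IrrCharacter (Subgroup.centralizer (P : Set G)))) (hc : Cfsg.IsInducedBlock M (Subgroup.centralizer (P : Set G)) c B) (T : Subgroup G) (hT : ∀ g : G, g ∈ T ↔ (g ∈ Subgroup.normalizer (P : Set G) ∧ Cfsg.StabilizesBlock (Subgroup.centralizer (P : Set G)) c g)) (e : ℕ) (he : (Subgroup.centralizer (P : Set G)).relIndex T = e) : (e = 1 ∨ e = 3) ∧ Nat.card B = 4 ∧ Cfsg.blockRank 2 B = e := by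
  classical
  haveI : Fintype G := Fintype.ofFinite _
  haveI : Fintype (Cfsg.IrrCharacter G) := Fintype.ofFinite _
  haveI : Fact (Nat.Prime 2) := ⟨Nat.prime_two⟩
  have hMp := Cfsg.Agent.Helper5.Loc.isPrime_of_isPModular hM
  have hmax := Cfsg.Agent.Helper23.MOD.isMaximalBrauerPair_of_defectGroup hM B P hPD c hc
  -- the defect of `B`
  have hdB : Cfsg.blockDefect 2 B = 2 := by
    have h2 := Cfsg.Agent.Helper5.CC.card_defectGroup hM hB hPD
    haveI := hV
    rw [IsKleinFour.card_four] at h2
    have h3 : 2 ^ 2 = 2 ^ Cfsg.blockDefect 2 B := by rw [← h2]; norm_num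
    exact (Nat.pow_right_injective (le_refl 2) h3).symm
  -- representatives of the classes of `2`-elements
  obtain ⟨X, -, hX, hXrep⟩ := Cfsg.Agent.Helper23.KLA.exists_reps (G := G) (p := 2) (∅ : Finset G)
    (by intro x hx; exact absurd hx (Finset.notMem_empty x))
    (by intro x hx; exact absurd hx (Finset.notMem_empty x))
  -- an involution of `P`
  have hPbot : P ≠ ⊥ := by
    intro h
    haveI := hV
    have h4 : Nat.card P = 4 := IsKleinFour.card_four
    rw [h] at h4
    simp at h4
  obtain ⟨u', hu1'⟩ := (Subgroup.ne_bot_iff_exists_ne_one).mp hPbot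
  have huP : (u' : G) ∈ P := u'.2
  have hu1 : (u' : G) ≠ 1 := fun h => hu1' (Subtype.ext h)
  have hu2 : orderOf (u' : G) = 2 := Cfsg.Agent.Helper23.KLA.klein_orderOf P hV huP hu1
  -- `k(B) = 4`
  have hcard : Nat.card B = 4 := by
    obtain ⟨x, b, g, a, hx, hb, hg, -, -, -⟩ :=
      Cfsg.Agent.Helper23.KCt.exists_marked hM B P c hmax hV X hXrep (u' : G) huP hu1
    obtain ⟨hx1, hxX⟩ := Finset.mem_erase.mp hx
    have hx2 : orderOf x = 2 := by
      apply orderOf_eq_prime _ hx1
      rw [← hg, pow_two]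
      have : g * (u' : G) * g⁻¹ * (g * (u' : G) * g⁻¹) = g * ((u' : G) * (u' : G)) * g⁻¹ := by group
      rw [this, Cfsg.Agent.Helper23.KLA.klein_mul_self P hV huP]
      group
    have hpair := Cfsg.Agent.Helper23.MOD.isBrauerPairOf_of_induced hM (Subgroup.zpowers x)
      (Cfsg.Agent.Helper23.KCt.isPGroup_zpowers ⟨1, by rw [hx2, pow_one]⟩) b B hb
    obtain ⟨hrank, hdef⟩ := Cfsg.Agent.Helper23.KLB.pair_rank_one hM B P c hmax hV
      (Subgroup.zpowers x) b hpair (Subgroup.zpowers_ne_bot.mpr hx1)
    have key : ∀ K : Subgroup G,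
        Subgroup.centralizer ((Subgroup.zpowers x : Subgroup G) : Set G) = K →
        ∃ e : Set (Cfsg.IrrCharacter K), Cfsg.IsInducedBlock M K e B ∧
          Cfsg.blockDefect 2 e = 2 ∧ Cfsg.blockRank 2 e = 1 := by
      rintro _ rfl
      exact ⟨b, hb, hdef, hrank⟩
    obtain ⟨e', he'ind, he'def, he'rank⟩ :=
      key _ (Cfsg.Agent.Helper23.KCt.centralizer_singleton_eq x).symm
    haveI : Fintype (Subgroup.centralizer ({x} : Set G)) := Fintype.ofFinite _
    haveI : Fintype (Cfsg.IrrCharacter (Subgroup.centralizer ({x} : Set G))) := Fintype.ofFinite _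
    have hxC : x ∈ Subgroup.centralizer ({x} : Set G) := by
      rw [Subgroup.mem_centralizer_iff]
      intro w hw
      rw [Set.mem_singleton_iff] at hw
      rw [hw]
    have hcomm : ∀ k : Subgroup.centralizer ({x} : Set G), x * (k : G) = (k : G) * x := by
      intro k
      have := k.2
      rw [Subgroup.mem_centralizer_iff] at this
      exact this x rfl
    exact Cfsg.Agent.Helper23.KC.klein_core hM x hx2 _ hxC hcomm le_rfl he'ind he'def hdB he'rank
  -- Brauer's count
  have hmain := Cfsg.Agent.Helper8.SecCount.main' hM B hB X hX hXrep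
  have hconv : ∀ x : G,
      (∑ᶠ b ∈ {b : Set (Cfsg.IrrCharacter ↥(Subgroup.centralizer ({x} : Set G))) |
        Cfsg.IsInducedBlock M (Subgroup.centralizer ({x} : Set G)) b B}, Cfsg.blockRank 2 b) =
      Cfsg.Agent.Helper23.KCt.secTerm M 2 B
        (Subgroup.centralizer ((Subgroup.zpowers x : Subgroup G) : Set G)) := by
    intro x
    exact congrArg (Cfsg.Agent.Helper23.KCt.secTerm M 2 B)
      (Cfsg.Agent.Helper23.KCt.centralizer_singleton_eq x)
  rw [Finset.sum_congr rfl (fun x _ => hconv x), hcard] at hmain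
  have hpos := Cfsg.Agent.Helper23.KLA.blockRank_pos 2
    (Cfsg.Agent.Helper5.CC.IsPBlock.nonempty hMp hB)
  rcases Cfsg.Agent.Helper23.KI.inertial_klein hM B P c hmax hV T hT with ⟨h1, hTC⟩ | ⟨h3, htrans⟩
  · have hcount := Cfsg.Agent.Helper23.KCt.count_trivial hM B P c hmax hV hTC X hX hXrep
    rw [he] at h1
    refine ⟨Or.inl h1, hcard, ?_⟩
    omega
  · have hcount := Cfsg.Agent.Helper23.KCt.count_transitive hM B P c hmax hV T hT htrans X hX hXrep
    rw [he] at h3
    refine ⟨Or.inr h3, hcard, ?_⟩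
    omega

end Cfsg.Agent.S4637
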