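import Cfsg.Statements.S0809
import Cfsg.Agent.Helper12.SL2OrderFour

set_option autoImplicit false
open Cfsg Cfsg.Agent.Helper12

namespace Cfsg.Agent.S0809

/-- In SL_2(q), q odd: any two subgroups of order 4 are conjugate, and the normaliser of a subgroup of order 4 has order 2(q − 1) if q ≡ 1 (mod 4) and 2(q + 1) if q ≡ 3 (mod 4); consequently all involutions of PSL_2(q) are conjugate. -/
theorem result {F : Type*} [Field F] [Fintype F] {q : ℕ} (hF : Fintype.card F = q) (hodd : Odd q) (A : Subgroup (Matrix.SpecialLinearGroup (Fin 2) F)) (hA : Nat.card A = 4) : (∀ B : Subgroup (Matrix.SpecialLinearGroup (Fin 2) F), Nat.card B = 4 → ∃ g : Matrix.SpecialLinearGroup (Fin 2) F, B = A.map (MulAut.conj g).toMonoidHom) ∧ (q % 4 = 1 → Nat.card ↥(Subgroup.normalizer (A : Set (Matrix.SpecialLinearGroup (Fin 2) F))) = 2 * (q - 1)) ∧ (q % 4 = 3 → Nat.card ↥(Subgroup.normalizer (A : Set (Matrix.SpecialLinearGroup (Fin 2) F))) = 2 * (q + 1)) ∧ (∀ x y : Matrix.ProjectiveSpecialLinearGroup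 (Fin 2) F, orderOf x = 2 → orderOf y = 2 → IsConj x y) := by
  subst hF
  have h2 := two_ne_zero_of_odd_card hodd
  obtain ⟨a, ha, hAa⟩ := exists_gen_of_card_four h2 A hA
  have hcards := card_normalizer_zpowers_of_sq hodd a ha
  refine ⟨?_, ?_, ?_, ?_⟩
  · intro B hB
    obtain ⟨b, hb, hBb⟩ := exists_gen_of_card_four h2 B hB
    obtain ⟨g, hg⟩ := isConj_iff.1 (isConj_of_sq_eq_neg_one h2 a b ha hb)
    refine ⟨g, ?_⟩
    rw [hAa, hBb, MonoidHom.map_zpowers]
    congr 1
    rw [← hg]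
    rfl
  · intro hq
    rw [hAa]
    exact hcards.1 hq
  · intro hq
    rw [hAa]
    exact hcards.2 hq
  · intro x y hx hy
    exact psl2_isConj_of_orderOf_two h2 x y hx hy

end Cfsg.Agent.S0809
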