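import Cfsg.Statements.S0587
import Cfsg.Agent.Helper14.PCore

set_option autoImplicit false
open Cfsg

namespace Cfsg.Agent.S0587

open Subgroup

section
variable {G : Type*} [Group G]

theorem sup_eq_top_of_not_le {M K : Subgroup G} (hM : IsCoatom M) (h : ¬ K ≤ M) : K ⊔ M = ⊤ :=
  hM.2 _ (right_lt_sup.mpr h)

theorem not_le_of_normal {M K : Subgroup G} (hcore : M.normalCore = ⊥) [K.Normal] (hK : K ≠ ⊥) :
    ¬ K ≤ M := by
  intro h
  apply hK
  rw [eq_bot_iff, ← hcore]
  exact normal_le_normalCore.mpr h

theorem eq_bot_of_normalized {M A D : Subgroup G} (hcore : M.normalCore = ⊥) [A.Normal]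
    (hAM : A ⊔ M = ⊤) (hDM : D ≤ M) (hM : ∀ m ∈ M, ∀ x ∈ D, m * x * m⁻¹ ∈ D)
    (hA : ∀ a ∈ A, ∀ x ∈ D, a * x * a⁻¹ ∈ D) : D = ⊥ := by
  have hn : D.Normal := by
    constructor
    intro x hx g
    have hg : g ∈ A ⊔ M := hAM ▸ mem_top g
    obtain ⟨a, ha, m, hm, rfl⟩ := mem_sup_of_normal_left.mp hg
    have := hA a ha _ (hM m hm x hx)
    convert this using 1
    group
  rw [eq_bot_iff, ← hcore]
  exact normal_le_normalCore.mpr hDM

theorem isComplement'_of_normal {K M : Subgroup G} [K.Normal] (h1 : K ⊓ M = ⊥)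
    (h2 : K ⊔ M = ⊤) : IsComplement' K M := by
  apply isComplement'_of_disjoint_and_mul_eq_univ (disjoint_iff.mpr h1)
  rw [← normal_mul, h2, coe_top]

end

/-- Let G be a finite group whose largest normal p-subgroup L is nontrivial, and M a maximal subgroup of G with trivial normal core. Then L is elementary abelian, M is a complement to L, L is a minimal normal subgroup of G, the centralizer of L is L, and for every prime q such that the largest normal q-subgroup of M is nontrivial, the order of L is congruent to 1 modulo q and q ≠ p. -/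
theorem result {G : Type*} [Group G] [Finite G] (p : ℕ) [Fact p.Prime] (hL : Cfsg.pCore p G ≠ ⊥) (M : Subgroup G) (hM : IsCoatom M) (hcore : M.normalCore = ⊥) : Cfsg.IsElementaryAbelian p (Cfsg.pCore p G) ∧ Subgroup.IsComplement' (Cfsg.pCore p G) M ∧ (∀ K : Subgroup G, K.Normal → K ≤ Cfsg.pCore p G → K = ⊥ ∨ K = Cfsg.pCore p G) ∧ Subgroup.centralizer ((Cfsg.pCore p G : Subgroup G) : Set G) = Cfsg.pCore p G ∧ ∀ (q : ℕ) [Fact q.Prime], Cfsg.pCore q ↥M ≠ ⊥ → Nat.card (Cfsg.pCore p G) % q = 1 % q ∧ q ≠ p := by
  set L := Cfsg.pCore p G with hLdef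
  have hLn : L.Normal := Helper14.pCore_normal p
  have hLp : IsPGroup p L := Helper14.pCore_isPGroup p
  have hLM : ¬ L ≤ M := not_le_of_normal hcore hL
  have hLMtop : L ⊔ M = ⊤ := sup_eq_top_of_not_le hM hLM
  -- the centre of L
  set Z : Subgroup G := L ⊓ centralizer (L : Set G) with hZ
  have hZn : Z.Normal := inferInstance
  have hZne : Z ≠ ⊥ := by
    have : Nontrivial L := (Subgroup.nontrivial_iff_ne_bot L).mpr hL
    have := hLp.center_nontrivial
    obtain ⟨z, hz⟩ := exists_ne (1 : Subgroup.center L)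
    intro hbot
    apply hz
    have hzZ : ((z : L) : G) ∈ Z := by
      refine Subgroup.mem_inf.mpr ⟨(z : L).2, ?_⟩
      rw [mem_centralizer_iff]
      intro y hy
      have := (Subgroup.mem_center_iff.mp z.2) ⟨y, hy⟩
      exact congrArg Subtype.val this
    rw [hbot, mem_bot] at hzZ
    exact Subtype.ext (Subtype.ext hzZ)
  have hZM : Z ⊔ M = ⊤ := sup_eq_top_of_not_le hM (not_le_of_normal hcore hZne)
  have hLMbot : L ⊓ M = ⊥ := by
    apply eq_bot_of_normalized hcore hZM inf_le_right
    · intro m hm x hx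
      exact ⟨hLn.conj_mem x hx.1 m, M.mul_mem (M.mul_mem hm hx.2) (M.inv_mem hm)⟩
    · intro a ha x hx
      have h1 : x * a = a * x := mem_centralizer_iff.mp ha.2 x hx.1
      rw [← h1, mul_inv_cancel_right]
      exact hx
  have hcompl : IsComplement' L M := isComplement'_of_normal hLMbot hLMtop
  have hmin : ∀ K : Subgroup G, K.Normal → K ≤ L → K = ⊥ ∨ K = L := by
    intro K hKn hKL
    by_cases hK : K = ⊥
    · left; exact hK
    right
    have hKM : K ⊔ M = ⊤ := sup_eq_top_of_not_le hM (not_le_of_normal hcore hK)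
    have hKMbot : K ⊓ M = ⊥ := le_bot_iff.mp (hLMbot ▸ inf_le_inf_right M hKL)
    have hc : IsComplement' K M := isComplement'_of_normal hKMbot hKM
    have h1 := hc.card_mul_card
    have h2 := hcompl.card_mul_card
    have : Nat.card K = Nat.card L := Nat.eq_of_mul_eq_mul_right Nat.card_pos (h1.trans h2.symm)
    exact Subgroup.eq_of_le_of_card_ge hKL this.ge
  have hZL : Z = L := (hmin Z hZn inf_le_left).resolve_left hZne
  have hLcomm : ∀ x ∈ L, ∀ y ∈ L, x * y = y * x := by
    intro x hx y hy
    have : y ∈ Z := hZL ▸ hy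
    exact mem_centralizer_iff.mp this.2 x hx
  -- elements of order dividing p
  set Om : Subgroup G :=
    { carrier := {x | x ∈ L ∧ x ^ p = 1}
      mul_mem' := by
        rintro a b ⟨ha, hap⟩ ⟨hb, hbp⟩
        refine ⟨L.mul_mem ha hb, ?_⟩
        rw [(show Commute a b from hLcomm a ha b hb).mul_pow, hap, hbp, one_mul]
      one_mem' := ⟨L.one_mem, one_pow _⟩
      inv_mem' := by
        rintro a ⟨ha, hap⟩
        exact ⟨L.inv_mem ha, by rw [inv_pow, hap, inv_one]⟩ } with hOm
  have hOmn : Om.Normal := by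
    constructor
    rintro x ⟨hx, hxp⟩ g
    refine ⟨hLn.conj_mem x hx g, ?_⟩
    rw [conj_pow, hxp]; simp
  have hpdvd : p ∣ Nat.card L := by
    rcases hLp.card_eq_or_dvd with h | h
    · exact absurd (Subgroup.card_eq_one.mp h) hL
    · exact h
  have hOmne : Om ≠ ⊥ := by
    obtain ⟨x, hx⟩ := exists_prime_orderOf_dvd_card' p hpdvd
    intro hbot
    have hxOm : (x : G) ∈ Om := by
      refine ⟨x.2, ?_⟩
      rw [← hx, ← Subgroup.orderOf_coe, pow_orderOf_eq_one]
    rw [hbot, mem_bot] at hxOm
    have : orderOf (x : G) = 1 := by rw [hxOm, orderOf_one]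
    rw [Subgroup.orderOf_coe, hx] at this
    exact (Fact.out : p.Prime).one_lt.ne' this
  have hOmL : Om = L := (hmin Om hOmn (fun x hx => hx.1)).resolve_left hOmne
  refine ⟨?_, hcompl, hmin, ?_, ?_⟩
  · refine ⟨⟨⟨fun a b => Subtype.ext (hLcomm a a.2 b b.2)⟩⟩, fun a ha => ?_⟩
    have : a ∈ Om := hOmL ▸ ha
    exact this.2
  · -- centralizer
    set C : Subgroup G := centralizer (L : Set G) with hC
    have hCn : C.Normal := inferInstance
    have hLC : L ≤ C := by
      intro x hx
      rw [hC, mem_centralizer_iff]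
      intro y hy
      exact hLcomm y hy x hx
    have hCMbot : C ⊓ M = ⊥ := by
      apply eq_bot_of_normalized hcore hLMtop inf_le_right
      · intro m hm x hx
        exact ⟨hCn.conj_mem x hx.1 m, M.mul_mem (M.mul_mem hm hx.2) (M.inv_mem hm)⟩
      · intro a ha x hx
        have h1 : a * x = x * a := mem_centralizer_iff.mp hx.1 a ha
        rw [h1, mul_inv_cancel_right]
        exact hx
    have hCMtop : C ⊔ M = ⊤ := top_le_iff.mp (hLMtop ▸ sup_le_sup_right hLC M)
    have hc : IsComplement' C M := isComplement'_of_normal hCMbot hCMtop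
    have h1 := hc.card_mul_card
    have h2 := hcompl.card_mul_card
    have : Nat.card C = Nat.card L := Nat.eq_of_mul_eq_mul_right Nat.card_pos (h1.trans h2.symm)
    exact (Subgroup.eq_of_le_of_card_ge hLC this.le).symm
  · intro q hq hQ
    have hQ'n : (Cfsg.pCore q ↥M).Normal := Helper14.pCore_normal q
    have hQ'p : IsPGroup q (Cfsg.pCore q ↥M) := Helper14.pCore_isPGroup q
    set Q : Subgroup G := (Cfsg.pCore q ↥M).map M.subtype with hQdef
    have hQM : Q ≤ M := by
      rintro _ ⟨x, _, rfl⟩
      exact x.2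
    have hQne : Q ≠ ⊥ := by
      intro h
      apply hQ
      exact (Subgroup.map_eq_bot_iff_of_injective _ M.subtype_injective).mp h
    have hQp : IsPGroup q Q := hQ'p.map _
    have hMQ : ∀ m ∈ M, ∀ x ∈ Q, m * x * m⁻¹ ∈ Q := by
      rintro m hm _ ⟨x, hx, rfl⟩
      exact ⟨⟨m, hm⟩ * x * ⟨m, hm⟩⁻¹, hQ'n.conj_mem x hx _, by simp⟩
    let _ : MulAction Q L := MulAction.compHom L ((MulAut.conjNormal (H := L)).comp Q.subtype)
    have hsmul : ∀ (y : Q) (x : L), ((y • x : L) : G) = y * x * (y : G)⁻¹ := fun y x => rfl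
    have hfix : ∀ x : L, x ∈ MulAction.fixedPoints Q L → x = 1 := by
      intro x hx
      have hcomm : ∀ y ∈ Q, y * (x : G) = x * y := by
        intro y hy
        have h1 := hx ⟨y, hy⟩
        have h2 := congrArg Subtype.val h1
        rw [hsmul] at h2
        simp only at h2
        calc y * (x : G) = (y * (x : G) * y⁻¹) * y := by group
          _ = x * y := by rw [h2]
      by_contra hx1
      have hxM : (x : G) ∉ M := by
        intro hxM
        have : (x : G) ∈ L ⊓ M := Subgroup.mem_inf.mpr ⟨x.2, hxM⟩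
        rw [hLMbot, mem_bot] at this
        exact hx1 (Subtype.ext this)
      have hxN : (x : G) ∈ normalizer (Q : Set G) := by
        rw [mem_normalizer_iff]
        intro h
        constructor
        · intro hh
          rw [← hcomm h hh, mul_inv_cancel_right]
          exact hh
        · intro hh
          have h3 := hcomm _ hh
          have h4 : h = (x : G) * h * (x : G)⁻¹ := by
            have : (x : G) * h * (x : G)⁻¹ * x = x * h := by group
            rw [this] at h3
            exact (mul_left_cancel h3)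
          rw [h4]
          exact hh
      have hMN : M ≤ normalizer (Q : Set G) := by
        intro g hg
        rw [mem_normalizer_iff]
        intro x
        constructor
        · exact hMQ g hg x
        · intro hx
          have := hMQ g⁻¹ (M.inv_mem hg) _ hx
          simpa [mul_assoc] using this
      have hNtop : normalizer (Q : Set G) = ⊤ := by
        apply hM.2
        refine lt_of_le_of_ne hMN ?_
        intro h
        exact hxM (h ▸ hxN)
      have hQn : Q.Normal := normalizer_eq_top_iff.mp hNtop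
      exact not_le_of_normal hcore hQne hQM
    have hcard : Nat.card (MulAction.fixedPoints Q L) = 1 := by
      rw [Nat.card_eq_one_iff_unique]
      refine ⟨⟨fun a b => Subtype.ext ((hfix a a.2).trans (hfix b b.2).symm)⟩, ⟨⟨1, ?_⟩⟩⟩
      intro y
      apply Subtype.ext
      rw [hsmul]
      simp
    have hmod := hQp.card_modEq_card_fixedPoints L
    rw [hcard] at hmod
    refine ⟨hmod, ?_⟩
    intro hqp
    subst hqp
    have h0 : Nat.card L % q = 0 := Nat.mod_eq_zero_of_dvd hpdvd
    have h1 : 1 % q = 1 := Nat.mod_eq_of_lt hq.out.one_lt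
    have : Nat.card L % q = 1 % q := hmod
    omega

end Cfsg.Agent.S0587
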