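import Cfsg.Statements.S0607
import Cfsg.Agent.Helper26.Replacement
import Cfsg.Agent.Helper26.NilAction
import Cfsg.Agent.S0599

set_option autoImplicit false
open Cfsg

namespace Cfsg.Agent.S0607

/-- The replacement Theorem for the Thompson subgroup: from A of maximal order among elementary abelian p-subgroups one obtains A₀ = [V, A] C_A([V, A]) of the same kind, quadratic on V and nontrivial on V when A is. -/
theorem result {G : Type*} [Group G] [Finite G] {p : ℕ} [Fact p.Prime] (V : Subgroup G) [V.Normal] (hV : Cfsg.IsElementaryAbelian p V) (A : Subgroup G) (hA : A ∈ Cfsg.maxElementaryAbelianSubgroups p G) : (⁅V, A⁆ ⊔ (A ⊓ Subgroup.centralizer ((⁅V, A⁆ : Subgroup G) : Set G))) ∈ Cfsg.maxElementaryAbelianSubgroups p G ∧ ⁅⁅V, ⁅V, A⁆ ⊔ (A ⊓ Subgroup.centralizer ((⁅V, A⁆ : Subgroup G) : Set G))⁆, ⁅V, A⁆ ⊔ (A ⊓ Subgroup.centralizer ((⁅V, A⁆ : Subgroup G) : Set G))⁆ = ⊥ ∧ (⁅V, A⁆ ≠ ⊥ → ⁅V, ⁅V, A⁆ ⊔ (A ⊓ Subgroup.centralizer ((⁅V, A⁆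 : Subgroup G) : Set G))⁆ ≠ ⊥) := by
  have hAV : A ≤ Subgroup.normalizer (V : Set G) := by
    rw [Subgroup.normalizer_eq_top]; exact le_top
  have hVab := Cfsg.Agent.Helper26.le_centralizer_of_isElementaryAbelian hV
  have hBO := Cfsg.Agent.Helper26.isBestOffenderOn_of_mem_maxElementaryAbelianSubgroups hV hA
  obtain ⟨hBO', hCV, hnt⟩ := Cfsg.Agent.S0599.result V A hV hAV hBO V le_rfl
  have hAab : ∀ a ∈ A, ∀ b ∈ A, a * b = b * a := fun a ha b hb =>
    Cfsg.Agent.Helper26.isElementaryAbelian_commute hA.1 ha hb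
  -- fval equality
  have hmax : ∀ B : Subgroup G, B ≤ A → Cfsg.Agent.Helper26.fval V B ≤ Cfsg.Agent.Helper26.fval V A := hBO.1
  obtain ⟨hf, -⟩ := Cfsg.Agent.Helper26.replProp_all hVab hAV hBO.2.1 hmax (le_rfl : V ≤ V)
  set As : Subgroup G := A ⊓ Subgroup.centralizer ((⁅V, A⁆ : Subgroup G) : Set G) with hAs
  set CVs : Subgroup G := V ⊓ Subgroup.centralizer (As : Set G) with hCVs
  set CVA : Subgroup G := V ⊓ Subgroup.centralizer (A : Set G) with hCVA
  have hAsA : As ≤ A := inf_le_left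
  have hAsEA : Cfsg.IsElementaryAbelian p As := Cfsg.Agent.Helper26.isElementaryAbelian_of_le hA.1 hAsA
  have hCVsEA : Cfsg.IsElementaryAbelian p CVs := Cfsg.Agent.Helper26.isElementaryAbelian_of_le hV inf_le_left
  have hcomm : ∀ a ∈ As, ∀ b ∈ CVs, a * b = b * a := by
    intro a ha b hb
    exact (Subgroup.mem_centralizer_iff.mp hb.2 a ha)
  have hE : Cfsg.IsElementaryAbelian p (As ⊔ CVs) := Cfsg.Agent.Helper26.isElementaryAbelian_sup hAsEA hCVsEA hcomm
  -- C_V(A) ≤ A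
  have hCVA_le : CVA ≤ A := by
    intro x hx
    apply Cfsg.Agent.Helper26.mem_of_mem_maxElementaryAbelianSubgroups_of_commute hA (hV.2 x hx.1)
    intro a ha
    exact (Subgroup.mem_centralizer_iff.mp hx.2 a ha)
  have hinf_le : As ⊓ CVs ≤ CVA := by
    intro x hx
    refine Subgroup.mem_inf.mpr ⟨hx.2.1, ?_⟩
    rw [Subgroup.mem_centralizer_iff]
    intro a ha
    exact hAab a ha x (hAsA hx.1)
  have hnorm : As ≤ Subgroup.normalizer (CVs : Set G) := by
    have : As ≤ Subgroup.centralizer (CVs : Set G) := by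
      rw [Subgroup.le_centralizer_iff]; exact inf_le_right
    exact this.trans (Subgroup.centralizer_le_normalizer _)
  have hprod := Cfsg.Agent.Helper26.card_sup_mul_card_inf hnorm
  have hEle : Nat.card ↥(As ⊔ CVs) ≤ Nat.card A := hA.2 _ hE
  have hile : Nat.card ↥(As ⊓ CVs) ≤ Nat.card CVA := Subgroup.card_le_of_le hinf_le
  change Nat.card As * Nat.card CVs = Nat.card A * Nat.card CVA at hf
  have hApos : 0 < Nat.card A := Nat.card_pos
  have hCpos : 0 < Nat.card CVA := Nat.card_pos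
  have hEpos : 0 < Nat.card ↥(As ⊔ CVs) := Nat.card_pos
  have hcardE : Nat.card ↥(As ⊔ CVs) = Nat.card A := by
    by_contra hne
    have hlt : Nat.card ↥(As ⊔ CVs) < Nat.card A := lt_of_le_of_ne hEle hne
    have : Nat.card ↥(As ⊔ CVs) * Nat.card ↥(As ⊓ CVs) < Nat.card A * Nat.card CVA :=
      calc Nat.card ↥(As ⊔ CVs) * Nat.card ↥(As ⊓ CVs) ≤ Nat.card ↥(As ⊔ CVs) * Nat.card CVA :=
            Nat.mul_le_mul_left _ hile
        _ < Nat.card A * Nat.card CVA := Nat.mul_lt_mul_of_pos_right hlt hCpos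
    omega
  have hcardI : Nat.card ↥(As ⊓ CVs) = Nat.card CVA := by
    have : Nat.card A * Nat.card ↥(As ⊓ CVs) = Nat.card A * Nat.card CVA := by
      rw [← hcardE, hprod, hf, hcardE]
    exact Nat.eq_of_mul_eq_mul_left hApos this
  have hinf_eq : As ⊓ CVs = CVA := Subgroup.eq_of_le_of_card_ge hinf_le (le_of_eq hcardI.symm)
  have hEeq : As ⊔ CVs = ⁅V, A⁆ ⊔ As := by
    rw [hCV]
    have hCle : CVA ≤ As := by rw [← hinf_eq]; exact inf_le_left
    apply le_antisymm
    · apply sup_le le_sup_right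
      exact sup_le le_sup_left (hCle.trans le_sup_right)
    · exact sup_le (le_sup_left.trans le_sup_right) le_sup_left
  have hA0 : ⁅V, A⁆ ⊔ As ∈ Cfsg.maxElementaryAbelianSubgroups p G := by
    rw [← hEeq]
    refine ⟨hE, fun B hB => ?_⟩
    rw [hcardE]; exact hA.2 B hB
  refine ⟨hA0, ?_, ?_⟩
  · -- quadratic
    have h1 : ⁅V, ⁅V, A⁆ ⊔ As⁆ ≤ ⁅V, A⁆ := by
      rw [Subgroup.commutator_comm]
      apply Cfsg.Agent.Helper10.commutator_sup_le_of_conj_mem
      · intro g hg w hw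
        have hgN : g ∈ Subgroup.normalizer ((⁅V, A⁆ : Subgroup G) : Set G) := by
          have h1 : ⁅V, A⁆ ≤ Subgroup.normalizer ((⁅V, A⁆ : Subgroup G) : Set G) := Subgroup.le_normalizer
          have h2 : As ≤ Subgroup.normalizer ((⁅V, A⁆ : Subgroup G) : Set G) :=
            hAsA.trans (Cfsg.Agent.Lead.le_normalizer_commutator_right V A)
          exact (sup_le h1 h2) hg
        exact (Subgroup.mem_normalizer_iff.mp hgN w).mp hw
      · rw [Subgroup.commutator_comm]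
        have : ⁅V, ⁅V, A⁆⁆ = ⊥ := by
          rw [Subgroup.commutator_eq_bot_iff_le_centralizer]
          exact hVab.trans (Subgroup.centralizer_le (by
            exact_mod_cast (Cfsg.Agent.Helper26.commutator_le_of_le_of_le_normalizer le_rfl hAV : ⁅V, A⁆ ≤ V)))
        rw [this]; exact bot_le
      · rw [Subgroup.commutator_comm]
        exact Subgroup.commutator_mono le_rfl hAsA
    have h2 : ⁅⁅V, ⁅V, A⁆ ⊔ As⁆, ⁅V, A⁆ ⊔ As⁆ ≤ ⁅⁅V, A⁆ ⊔ As, ⁅V, A⁆ ⊔ As⁆ :=
      Subgroup.commutator_mono (h1.trans le_sup_left) le_rfl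
    have h3 : ⁅⁅V, A⁆ ⊔ As, ⁅V, A⁆ ⊔ As⁆ = ⊥ := by
      rw [Subgroup.commutator_eq_bot_iff_le_centralizer]
      intro x hx
      rw [Subgroup.mem_centralizer_iff]
      intro y hy
      exact Cfsg.Agent.Helper26.isElementaryAbelian_commute hA0.1 hy hx
    exact le_bot_iff.mp (h2.trans (le_of_eq h3))
  · intro hne hbot
    apply hnt hne
    rw [← le_bot_iff, ← hbot]
    exact Subgroup.commutator_mono le_rfl le_sup_right

end Cfsg.Agent.S0607
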