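import Cfsg.Statements.S4574
import Mathlib
import Cfsg.Agent.Helper23.CharGalois
import Cfsg.Agent.Helper23.CharOrtho
import Cfsg.Agent.Helper24.Regular

set_option autoImplicit false
open Cfsg

namespace Cfsg.Agent.S4574

/-- Let χ be an irreducible character of the finite group G, of degree d, and let Z(χ) be the set of elements g with |χ g| = d (the centre of χ). Then χ vanishes on at least (d ^ 2 - 1) · |Z(χ)| elements of G, with equality when every value |χ g| is 0, 1 or d. -/
theorem result {G : Type*} [Group G] [Fintype G] [DecidableEq G] (χ : G → ℂ) (hχ : Cfsg.IsIrrCharacter G χ) : (Cfsg.charDegree χ ^ 2 - 1) * (Finset.univ.filter (fun g : G => ‖χ g‖ = (Cfsg.charDegree χ : ℝ))).card ≤ (Finset.univ.filter (fun g : G => χ g = 0)).card ∧ ((∀ g : G, ‖χ g‖ = 0 ∨ ‖χ g‖ = 1 ∨ ‖χ g‖ = (Cfsg.charDegree χ : ℝ)) → (Cfsg.charDegree χ ^ 2 - 1) * (Finset.univ.filter (fun g : G => ‖χ g‖ = (Cfsg.charDegree χ : ℝ))).card = (Finset.univ.filter (fun g : G => χ g = 0)).card) :=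 by
  classical
  have hirrχ := hχ
  obtain ⟨n, ρ, hirr, rfl⟩ := hχ
  have := hirr
  have hnpos : 0 < Module.finrank ℂ (Fin n → ℂ) := Cfsg.Agent.Helper24.finrank_pos_of_isIrreducible ρ
  have hfin : Module.finrank ℂ (Fin n → ℂ) = n := Module.finrank_fin_fun ℂ
  have hd : Cfsg.charDegree ρ.character = Module.finrank ℂ (Fin n → ℂ) := by
    unfold Cfsg.charDegree
    rw [Representation.char_one]
    simp
  rw [hd]
  set d := Module.finrank ℂ (Fin n → ℂ) with hddef
  set χ := ρ.character with hχdef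
  set Z := Finset.univ.filter (fun g : G => ‖χ g‖ = (d : ℝ)) with hZ
  set V := Finset.univ.filter (fun g : G => χ g = 0) with hV
  set R := Finset.univ.filter (fun g : G => χ g ≠ 0 ∧ ‖χ g‖ ≠ (d : ℝ)) with hR
  have hdpos : (0 : ℝ) < d := by exact_mod_cast hnpos
  -- partition
  have hZV : Disjoint Z V := by
    rw [Finset.disjoint_left]
    intro g hgZ hgV
    have h1 := (Finset.mem_filter.mp hgZ).2
    have h2 := (Finset.mem_filter.mp hgV).2
    rw [h2, norm_zero] at h1
    exact hdpos.ne h1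
  have hZVR : Disjoint (Z ∪ V) R := by
    rw [Finset.disjoint_left]
    intro g hg hgR
    have h3 := (Finset.mem_filter.mp hgR).2
    rcases Finset.mem_union.mp hg with h | h
    · exact h3.2 (Finset.mem_filter.mp h).2
    · exact h3.1 (Finset.mem_filter.mp h).2
  have hcover : (Z ∪ V) ∪ R = Finset.univ := by
    ext g
    simp only [Finset.mem_union, Finset.mem_univ, iff_true, hZ, hV, hR, Finset.mem_filter, true_and]
    by_cases h1 : χ g = 0
    · exact Or.inl (Or.inr h1)
    · by_cases h2 : ‖χ g‖ = (d : ℝ)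
      · exact Or.inl (Or.inl h2)
      · exact Or.inr ⟨h1, h2⟩
  have hcard : (Fintype.card G : ℝ) = Z.card + V.card + R.card := by
    rw [← Finset.card_univ, ← hcover, Finset.card_union_of_disjoint hZVR,
      Finset.card_union_of_disjoint hZV]
    push_cast; ring
  -- sum of squares
  have hsum : ∑ g : G, ‖χ g‖ ^ 2 = (Fintype.card G : ℝ) := by
    have h1 := Cfsg.Agent.Helper23.classInner_irrCharacter χ χ hirrχ hirrχ
    rw [if_pos rfl] at h1
    unfold Cfsg.classInner at h1
    have hc : (Nat.card G : ℂ) ≠ 0 := by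
      have : 0 < Nat.card G := Nat.card_pos
      exact_mod_cast this.ne'
    have h2 : ∑ g : G, χ g * (starRingEnd ℂ) (χ g) = (Nat.card G : ℂ) := by
      have := congrArg (fun t => (Nat.card G : ℂ) * t) h1
      beta_reduce at this
      rw [← mul_assoc, mul_inv_cancel₀ hc, one_mul, mul_one] at this
      exact this
    have h3 : ∀ g : G, χ g * (starRingEnd ℂ) (χ g) = ((‖χ g‖ ^ 2 : ℝ) : ℂ) := by
      intro g
      rw [Complex.mul_conj, Complex.normSq_eq_norm_sq]
    rw [Finset.sum_congr rfl (fun g _ => h3 g), ← Complex.ofReal_sum] at h2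
    rw [Nat.card_eq_fintype_card] at h2
    have h4 : ((∑ g : G, ‖χ g‖ ^ 2 : ℝ) : ℂ) = ((Fintype.card G : ℝ) : ℂ) := by
      rw [h2]; push_cast; rfl
    exact_mod_cast h4
  have hsplit : ∑ g : G, ‖χ g‖ ^ 2 = (d : ℝ) ^ 2 * Z.card + ∑ g ∈ R, ‖χ g‖ ^ 2 := by
    rw [← hcover, Finset.sum_union hZVR, Finset.sum_union hZV]
    have hz : ∑ g ∈ Z, ‖χ g‖ ^ 2 = (d : ℝ) ^ 2 * Z.card := by
      rw [Finset.sum_congr rfl (fun g hg => by rw [(Finset.mem_filter.mp hg).2]),
        Finset.sum_const, nsmul_eq_mul, mul_comm]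
    have hv : ∑ g ∈ V, ‖χ g‖ ^ 2 = 0 := by
      apply Finset.sum_eq_zero
      intro g hg
      rw [(Finset.mem_filter.mp hg).2, norm_zero]; ring
    rw [hz, hv, add_zero]
  have hRbound : (R.card : ℝ) ≤ ∑ g ∈ R, ‖χ g‖ ^ 2 :=
    Cfsg.Agent.Helper23.card_le_sum_norm_sq_char ρ
  have hd1 : 1 ≤ d ^ 2 := Nat.one_le_pow _ _ hnpos
  constructor
  · have : (((d ^ 2 - 1) * Z.card : ℕ) : ℝ) ≤ (V.card : ℝ) := by
      rw [Nat.cast_mul, Nat.cast_sub hd1]
      push_cast
      nlinarith [hsum, hsplit, hcard, hRbound]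
    exact_mod_cast this
  · intro hvals
    have hReq : ∑ g ∈ R, ‖χ g‖ ^ 2 = (R.card : ℝ) := by
      rw [Finset.sum_congr rfl (fun g hg => by
        have h3 := (Finset.mem_filter.mp hg).2
        rcases hvals g with h | h | h
        · exact absurd (norm_eq_zero.mp h) h3.1
        · rw [h]
        · exact absurd h h3.2), Finset.sum_const, nsmul_eq_mul]
      ring
    have : (((d ^ 2 - 1) * Z.card : ℕ) : ℝ) = (V.card : ℝ) := by
      rw [Nat.cast_mul, Nat.cast_sub hd1]
      push_cast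
      nlinarith [hsum, hsplit, hcard, hReq]
    exact_mod_cast this

end Cfsg.Agent.S4574
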