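import Cfsg.Statements.S1505
import Cfsg.Agent.Helper8.CyclicTI

set_option autoImplicit false
open Cfsg

namespace Cfsg.Agent.S1505

open scoped ComplexConjugate
open Cfsg.Agent.Helper8 Cfsg.Agent.Helper23

/-- a linear character as a complex function -/
noncomputable def lc {W : Type*} [Group W] (ω : W →* ℂˣ) : W → ℂ := fun w => ((ω w : ℂˣ) : ℂ)

theorem lc_orth {W : Type*} [Group W] [Fintype W] (ω ω' : W →* ℂˣ) (h : ω ≠ ω') :
    Cfsg.classInner (lc ω) (lc ω') = 0 := by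
  have := classInner_hom_units ω ω'
  rw [if_neg h] at this
  exact this

theorem lc_self {W : Type*} [Group W] [Fintype W] (ω : W →* ℂˣ) :
    Cfsg.classInner (lc ω) (lc ω) = 1 := by
  have := classInner_hom_units ω ω
  rw [if_pos rfl] at this
  exact this

theorem alpha_eq {W : Type*} [Group W] (φ ψ : W →* ℂˣ) :
    (fun w => 1 - ((φ w : ℂˣ) : ℂ) - ((ψ w : ℂˣ) : ℂ) + ((φ w : ℂˣ) : ℂ) * ((ψ w : ℂˣ) : ℂ))
      = lc 1 - lc φ - lc ψ + lc (φ * ψ) := by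
  funext w
  simp [lc]

/-- the inner product of two of the functions `(1 - φ)(1 - ψ)` -/
theorem inner_alpha {G : Type*} [Group G] (W₁ W₂ : Subgroup G) [Fintype ↥(W₁ ⊔ W₂)]
    (φ φ' ψ ψ' : ↥(W₁ ⊔ W₂) →* ℂˣ) [Decidable (φ = φ')] [Decidable (ψ = ψ')]
    (hφ : φ ≠ 1) (hφ' : φ' ≠ 1) (hψ : ψ ≠ 1) (hψ' : ψ' ≠ 1)
    (hφ₂ : ∀ w : ↥(W₁ ⊔ W₂), (w : G) ∈ W₂ → φ w = 1 ∧ φ' w = 1)
    (hψ₁ : ∀ w : ↥(W₁ ⊔ W₂), (w : G) ∈ W₁ → ψ w = 1 ∧ ψ' w = 1) :
    Cfsg.classInner (lc 1 - lc φ - lc ψ + lc (φ * ψ)) (lc 1 - lc φ' - lc ψ' + lc (φ' * ψ'))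
      = 1 + (if φ = φ' then 1 else 0) + (if ψ = ψ' then 1 else 0)
        + (if φ = φ' then 1 else 0) * (if ψ = ψ' then 1 else 0) := by
  classical
  -- a hom trivial on both factors is trivial
  have triv : ∀ ω : ↥(W₁ ⊔ W₂) →* ℂˣ, (∀ w : ↥(W₁ ⊔ W₂), (w : G) ∈ W₁ → ω w = 1) →
      (∀ w : ↥(W₁ ⊔ W₂), (w : G) ∈ W₂ → ω w = 1) → ω = 1 :=
    fun ω h1 h2 => hom_eq_one_of_trivial W₁ W₂ ω h1 h2
  have e1 : φ ≠ ψ' := by
    rintro rfl
    exact hφ (triv _ (fun w hw => (hψ₁ w hw).2) (fun w hw => (hφ₂ w hw).1))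
  have e2 : ψ ≠ φ' := by
    rintro rfl
    exact hψ (triv _ (fun w hw => (hψ₁ w hw).1) (fun w hw => (hφ₂ w hw).2))
  have e3 : (1 : ↥(W₁ ⊔ W₂) →* ℂˣ) ≠ φ' * ψ' := by
    intro h
    apply hφ'
    apply triv _ _ (fun w hw => (hφ₂ w hw).2)
    intro w hw
    have := DFunLike.congr_fun h w
    simp only [MonoidHom.one_apply, MonoidHom.mul_apply, (hψ₁ w hw).2, mul_one] at this
    exact this.symm
  have e4 : φ * ψ ≠ 1 := by
    intro h
    apply hφ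
    apply triv _ _ (fun w hw => (hφ₂ w hw).1)
    intro w hw
    have := DFunLike.congr_fun h w
    simp only [MonoidHom.one_apply, MonoidHom.mul_apply, (hψ₁ w hw).1, mul_one] at this
    exact this
  have e5 : φ ≠ φ' * ψ' := by
    intro h
    apply hψ'
    apply triv _ (fun w hw => (hψ₁ w hw).2)
    intro w hw
    have := DFunLike.congr_fun h w
    simp only [MonoidHom.mul_apply, (hφ₂ w hw).1, (hφ₂ w hw).2, one_mul] at this
    exact this.symm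
  have e6 : ψ ≠ φ' * ψ' := by
    intro h
    apply hφ'
    apply triv _ _ (fun w hw => (hφ₂ w hw).2)
    intro w hw
    have := DFunLike.congr_fun h w
    simp only [MonoidHom.mul_apply, (hψ₁ w hw).1, (hψ₁ w hw).2, mul_one] at this
    exact this.symm
  have e7 : φ * ψ ≠ φ' := by
    intro h
    apply hψ
    apply triv _ (fun w hw => (hψ₁ w hw).1)
    intro w hw
    have := DFunLike.congr_fun h w
    simp only [MonoidHom.mul_apply, (hφ₂ w hw).1, (hφ₂ w hw).2, one_mul] at this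
    exact this
  have e8 : φ * ψ ≠ ψ' := by
    intro h
    apply hφ
    apply triv _ _ (fun w hw => (hφ₂ w hw).1)
    intro w hw
    have := DFunLike.congr_fun h w
    simp only [MonoidHom.mul_apply, (hψ₁ w hw).1, (hψ₁ w hw).2, mul_one] at this
    exact this
  have e9 : φ * ψ = φ' * ψ' ↔ (φ = φ' ∧ ψ = ψ') := by
    constructor
    · intro h
      have h1 : φ * φ'⁻¹ = 1 := by
        apply triv _ _ (fun w hw => by
          simp only [MonoidHom.mul_apply, MonoidHom.inv_apply, (hφ₂ w hw).1, (hφ₂ w hw).2, inv_one,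
            mul_one])
        intro w hw
        have := DFunLike.congr_fun h w
        simp only [MonoidHom.mul_apply, (hψ₁ w hw).1, (hψ₁ w hw).2, mul_one] at this
        simp only [MonoidHom.mul_apply, MonoidHom.inv_apply, this, mul_inv_cancel]
      have h2 : φ = φ' := by
        apply MonoidHom.ext
        intro w
        have := DFunLike.congr_fun h1 w
        simp only [MonoidHom.mul_apply, MonoidHom.inv_apply, MonoidHom.one_apply] at this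
        exact mul_inv_eq_one.mp this
      subst h2
      exact ⟨rfl, mul_left_cancel h⟩
    · rintro ⟨rfl, rfl⟩; rfl
  simp only [classInner_add_left, classInner_sub_left, classInner_add_right, classInner_sub_right]
  rw [lc_self 1, lc_orth 1 φ' (Ne.symm hφ'), lc_orth 1 ψ' (Ne.symm hψ'), lc_orth 1 _ e3,
    lc_orth φ 1 hφ, lc_orth φ ψ' e1, lc_orth φ _ e5,
    lc_orth ψ 1 hψ, lc_orth ψ φ' e2, lc_orth ψ _ e6,
    lc_orth _ 1 e4, lc_orth _ φ' e7, lc_orth _ ψ' e8]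
  have hif : ∀ ω ω' : ↥(W₁ ⊔ W₂) →* ℂˣ,
      Cfsg.classInner (lc ω) (lc ω') = if ω = ω' then 1 else 0 := fun ω ω' => by
    have := classInner_hom_units ω ω'
    unfold lc
    convert this
  rw [hif φ φ', hif ψ ψ', hif (φ * ψ) (φ' * ψ')]
  by_cases h1 : φ = φ' <;> by_cases h2 : ψ = ψ' <;> simp [h1, h2, e9]

open Classical in
/-- Let W₁, W₂ ≤ G form a self-normalising cyclic subgroup W = W₁ ⊔ W₂. For nontrivial linear characters φ, φ' of W trivial on W₂ and ψ, ψ' trivial on W₁, put α = (1 − φ)(1 − ψ) and α' = (1 − φ')(1 − ψ'). Then the function induced from α to G has inner product 1 with the principal character, and the inner product of the functions induced from α and α' is 1 + a + b + ab where a = 1 if φ = φ' (else 0) and b = 1 if ψ = ψ' (else 0). -/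
theorem result {G : Type*} [Group G] [Fintype G] (W₁ W₂ : Subgroup G) (hW : Cfsg.IsSelfNormalizingCyclic W₁ W₂) (φ φ' ψ ψ' : ↥(W₁ ⊔ W₂) →* ℂˣ) (hφ : φ ≠ 1) (hφ' : φ' ≠ 1) (hψ : ψ ≠ 1) (hψ' : ψ' ≠ 1) (hφ₂ : ∀ w : ↥(W₁ ⊔ W₂), (w : G) ∈ W₂ → φ w = 1 ∧ φ' w = 1) (hψ₁ : ∀ w : ↥(W₁ ⊔ W₂), (w : G) ∈ W₁ → ψ w = 1 ∧ ψ' w = 1) : Cfsg.classInner (Cfsg.indFun (W₁ ⊔ W₂) (fun w => 1 - (φ w : ℂ) - (ψ w : ℂ) + (φ w : ℂ) * (ψ w : ℂ))) (fun _ => 1) = 1 ∧ Cfsg.classInner (Cfsg.indFun (W₁ ⊔ W₂) (fun w => 1 - (φ w : ℂ) - (ψ w : ℂ) + (φ w : ℂ) * (ψ w : ℂ))) (Cfsg.indFun (W₁ ⊔ W₂) (fun w => 1 - (φ' w : ℂ) - (ψ' w : ℂ) + (φ' w : ℂ) * (ψ' w : ℂ))) = 1 + (if φ = φ' then 1 else 0) + (if ψ = ψ' then 1 else 0) + (if φ = φ' then 1 else 0) * (if ψ = ψ' then 1 else 0) := by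
  have hα0 : ∀ (φ ψ : ↥(W₁ ⊔ W₂) →* ℂˣ), (∀ w : ↥(W₁ ⊔ W₂), (w : G) ∈ W₂ → φ w = 1) →
      (∀ w : ↥(W₁ ⊔ W₂), (w : G) ∈ W₁ → ψ w = 1) → ∀ w : ↥(W₁ ⊔ W₂),
      ((w : G) ∈ W₁ ∨ (w : G) ∈ W₂) →
      (1 - ((φ w : ℂˣ) : ℂ) - ((ψ w : ℂˣ) : ℂ) + ((φ w : ℂˣ) : ℂ) * ((ψ w : ℂˣ) : ℂ)) = 0 := by
    intro φ ψ h2 h1 w hw
    rcases hw with hw | hw
    · simp only [h1 w hw, Units.val_one]; ring
    · simp only [h2 w hw, Units.val_one]; ring
  constructor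
  · rw [frobenius_reciprocity _ _ _ (fun _ _ => rfl)]
    have e : (fun _ : ↥(W₁ ⊔ W₂) => (1 : ℂ)) = lc 1 := by
      funext w; simp [lc]
    rw [e, alpha_eq]
    simp only [classInner_add_left, classInner_sub_left]
    rw [lc_self, lc_orth φ 1 hφ, lc_orth ψ 1 hψ, lc_orth (φ * ψ) 1]
    · ring
    · intro h
      apply hφ
      apply hom_eq_one_of_trivial W₁ W₂ φ _ (fun w hw => (hφ₂ w hw).1)
      intro w hw
      have := DFunLike.congr_fun h w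
      simp only [MonoidHom.one_apply, MonoidHom.mul_apply, (hψ₁ w hw).1, mul_one] at this
      exact this
  · rw [frobenius_reciprocity _ _ _ (indFun_isClassFunction _ _)]
    have key : Cfsg.classInner (fun w => 1 - ((φ w : ℂˣ) : ℂ) - ((ψ w : ℂˣ) : ℂ)
          + ((φ w : ℂˣ) : ℂ) * ((ψ w : ℂˣ) : ℂ))
        (fun h : ↥(W₁ ⊔ W₂) => Cfsg.indFun (W₁ ⊔ W₂) (fun w => 1 - ((φ' w : ℂˣ) : ℂ)
          - ((ψ' w : ℂˣ) : ℂ) + ((φ' w : ℂˣ) : ℂ) * ((ψ' w : ℂˣ) : ℂ)) (h : G))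
        = Cfsg.classInner (fun w => 1 - ((φ w : ℂˣ) : ℂ) - ((ψ w : ℂˣ) : ℂ)
          + ((φ w : ℂˣ) : ℂ) * ((ψ w : ℂˣ) : ℂ))
          (fun w => 1 - ((φ' w : ℂˣ) : ℂ) - ((ψ' w : ℂˣ) : ℂ)
            + ((φ' w : ℂˣ) : ℂ) * ((ψ' w : ℂˣ) : ℂ)) := by
      unfold Cfsg.classInner
      congr 1
      apply Finset.sum_congr rfl
      intro w _
      beta_reduce
      by_cases hw : (w : G) ∈ W₁ ∨ (w : G) ∈ W₂
      · rw [hα0 φ ψ (fun w hw => (hφ₂ w hw).1) (fun w hw => (hψ₁ w hw).1) w hw, zero_mul, zero_mul]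
      · push Not at hw
        rw [snc_indFun_apply hW _ (hα0 φ' ψ' (fun w hw => (hφ₂ w hw).2)
          (fun w hw => (hψ₁ w hw).2)) w hw.1 hw.2]
    rw [key, alpha_eq, alpha_eq]
    exact inner_alpha W₁ W₂ φ φ' ψ ψ' hφ hφ' hψ hψ' hφ₂ hψ₁

end Cfsg.Agent.S1505
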