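import Cfsg.Statements.S1503
import Cfsg.Agent.Helper8.CyclicTI
import Cfsg.Agent.Helper24.Rep

set_option autoImplicit false
open Cfsg

namespace Cfsg.Agent.S1503

open scoped ComplexConjugate
open Cfsg.Agent.Helper8 Cfsg.Agent.Helper23

/-- A class function orthogonal to all the `χ ω` restricts to `W` orthogonally to every
`(1 - φ)(1 - ψ)`. -/
theorem restrict_orth {G : Type*} [Group G] [Fintype G] (W₁ W₂ : Subgroup G)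
    [Fintype ↥(W₁ ⊔ W₂)]
    (χ : (↥(W₁ ⊔ W₂) →* ℂˣ) → (G → ℂ)) (hχ : Cfsg.IsCyclicTIFamily W₁ W₂ χ) (θ : G → ℂ)
    (hθ : Cfsg.IsClassFunction G θ) (horth : ∀ ω, Cfsg.classInner θ (χ ω) = 0)
    (φ ψ : ↥(W₁ ⊔ W₂) →* ℂˣ) (hφ₂ : ∀ w : ↥(W₁ ⊔ W₂), (w : G) ∈ W₂ → φ w = 1)
    (hψ₁ : ∀ w : ↥(W₁ ⊔ W₂), (w : G) ∈ W₁ → ψ w = 1) :
    ∑ w : ↥(W₁ ⊔ W₂), (1 - ((φ w : ℂˣ) : ℂ)) * (1 - ((ψ w : ℂˣ) : ℂ)) * conj (θ w) = 0 := by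
  by_cases h1 : φ = 1
  · subst h1; simp
  by_cases h2 : ψ = 1
  · subst h2; simp
  have h3 := hχ.induced_eq φ ψ h1 h2 hφ₂ hψ₁
  have h4 : (fun g => 1 - χ φ g - χ ψ g + χ (φ * ψ) g) = χ 1 - χ φ - χ ψ + χ (φ * ψ) := by
    funext g
    simp [hχ.map_one]
  rw [h4] at h3
  have h5 : Cfsg.classInner θ (Cfsg.indFun (W₁ ⊔ W₂)
      (fun w => 1 - ((φ w : ℂˣ) : ℂ) - ((ψ w : ℂˣ) : ℂ) + ((φ w : ℂˣ) : ℂ) * ((ψ w : ℂˣ) : ℂ))) = 0 := by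
    rw [h3, classInner_add_right, classInner_sub_right, classInner_sub_right, horth, horth, horth,
      horth]
    ring
  rw [classInner_conj_symm, frobenius_reciprocity _ _ θ hθ] at h5
  have h6 := (map_eq_zero _).mp h5
  unfold Cfsg.classInner at h6
  have hne : (Nat.card ↥(W₁ ⊔ W₂) : ℂ)⁻¹ ≠ 0 :=
    inv_ne_zero (Nat.cast_ne_zero.mpr Nat.card_pos.ne')
  have h7 := (mul_eq_zero.mp h6).resolve_left hne
  rw [← h7]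
  apply Finset.sum_congr rfl
  intro w _
  ring

theorem swap_sum {ι κ V : Type*} [Fintype V] (Φ : Finset ι) (Ψ : Finset κ) (a : ι → ℂ) (b : κ → ℂ)
    (f : ι → V → ℂ) (g : κ → V → ℂ) (c : V → ℂ) :
    ∑ φ ∈ Φ, ∑ ψ ∈ Ψ, a φ * b ψ * ∑ v, f φ v * g ψ v * c v
      = ∑ v, c v * ((∑ φ ∈ Φ, a φ * f φ v) * (∑ ψ ∈ Ψ, b ψ * g ψ v)) := by
  have h1 : ∀ v, c v * ((∑ φ ∈ Φ, a φ * f φ v) * (∑ ψ ∈ Ψ, b ψ * g ψ v))
      = ∑ φ ∈ Φ, ∑ ψ ∈ Ψ, a φ * b ψ * (f φ v * g ψ v * c v) := by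
    intro v
    rw [Finset.sum_mul_sum, Finset.mul_sum]
    apply Finset.sum_congr rfl
    intro φ _
    rw [Finset.mul_sum]
    apply Finset.sum_congr rfl
    intro ψ _
    ring
  calc ∑ φ ∈ Φ, ∑ ψ ∈ Ψ, a φ * b ψ * ∑ v, f φ v * g ψ v * c v
      = ∑ φ ∈ Φ, ∑ ψ ∈ Ψ, ∑ v, a φ * b ψ * (f φ v * g ψ v * c v) := by
        simp only [Finset.mul_sum]
    _ = ∑ φ ∈ Φ, ∑ v, ∑ ψ ∈ Ψ, a φ * b ψ * (f φ v * g ψ v * c v) := by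
        apply Finset.sum_congr rfl
        intro φ _
        exact Finset.sum_comm
    _ = ∑ v, ∑ φ ∈ Φ, ∑ ψ ∈ Ψ, a φ * b ψ * (f φ v * g ψ v * c v) := Finset.sum_comm
    _ = ∑ v, c v * ((∑ φ ∈ Φ, a φ * f φ v) * (∑ ψ ∈ Ψ, b ψ * g ψ v)) := by
        apply Finset.sum_congr rfl
        intro v _
        exact (h1 v).symm

/-- Let W₁, W₂ ≤ G with W = W₁ ⊔ W₂ and let χ an orthonormal family of irreducible characters of G up to sign, indexed by the linear characters ω of W, with χ_1 = 1, χ_ω = ω on W outside W₁ ∪ W₂, and the induction identity for (1 − φ)(1 − ψ). If θ is an irreducible character of G orthogonal to χ ω for every linear character ω of W, then θ vanishes at every element of W lying outside W₁ ∪ W₂. -/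
theorem result {G : Type*} [Group G] [Fintype G] (W₁ W₂ : Subgroup G) (hW : Cfsg.IsSelfNormalizingCyclic W₁ W₂) (χ : (↥(W₁ ⊔ W₂) →* ℂˣ) → (G → ℂ)) (hχ : Cfsg.IsCyclicTIFamily W₁ W₂ χ) (θ : G → ℂ) (hθ : Cfsg.IsIrrCharacter G θ) (horth : ∀ ω, Cfsg.classInner θ (χ ω) = 0) (w : ↥(W₁ ⊔ W₂)) (hw₁ : (w : G) ∉ W₁) (hw₂ : (w : G) ∉ W₂) : θ w = 0 := by
  classical
  have hcl : Cfsg.IsClassFunction G θ :=
    Cfsg.Agent.Helper24.IsCharacter.isClassFunction (Cfsg.Agent.Helper24.IsIrrCharacter.isCharacter hθ)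
  have hc := snc_comm hW
  have hdisj : W₁ ⊓ W₂ = ⊥ := hW.2.2.1
  have : Fintype ↥(W₁ ⊔ W₂) := Fintype.ofFinite _
  have : Finite (↥(W₁ ⊔ W₂) →* ℂˣ) := finite_hom_units hc
  have : Fintype (↥(W₁ ⊔ W₂) →* ℂˣ) := Fintype.ofFinite _
  set H₁ : Subgroup ↥(W₁ ⊔ W₂) := W₁.subgroupOf (W₁ ⊔ W₂) with hH₁
  set H₂ : Subgroup ↥(W₁ ⊔ W₂) := W₂.subgroupOf (W₁ ⊔ W₂) with hH₂
  set Φ := Finset.univ.filter (fun φ : ↥(W₁ ⊔ W₂) →* ℂˣ => ∀ y ∈ H₂, φ y = 1) with hΦ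
  set Ψ := Finset.univ.filter (fun φ : ↥(W₁ ⊔ W₂) →* ℂˣ => ∀ y ∈ H₁, φ y = 1) with hΨ
  have hT : ∀ φ ∈ Φ, ∀ ψ ∈ Ψ,
      ∑ v : ↥(W₁ ⊔ W₂), (1 - ((φ v : ℂˣ) : ℂ)) * (1 - ((ψ v : ℂˣ) : ℂ)) * conj (θ v) = 0 := by
    intro φ hφ ψ hψ
    rw [hΦ, Finset.mem_filter] at hφ
    rw [hΨ, Finset.mem_filter] at hψ
    exact restrict_orth W₁ W₂ χ hχ θ hcl horth φ ψ
      (fun v hv => hφ.2 v (Subgroup.mem_subgroupOf.mpr hv))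
      (fun v hv => hψ.2 v (Subgroup.mem_subgroupOf.mpr hv))
  have hw₁' : w ∉ H₁ := fun h => hw₁ (Subgroup.mem_subgroupOf.mp h)
  have hw₂' : w ∉ H₂ := fun h => hw₂ (Subgroup.mem_subgroupOf.mp h)
  -- the weighted double sum
  have hsum : ∑ φ ∈ Φ, ∑ ψ ∈ Ψ, conj ((φ w : ℂˣ) : ℂ) * conj ((ψ w : ℂˣ) : ℂ) *
      ∑ v : ↥(W₁ ⊔ W₂), (1 - ((φ v : ℂˣ) : ℂ)) * (1 - ((ψ v : ℂˣ) : ℂ)) * conj (θ v) = 0 := by
    apply Finset.sum_eq_zero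
    intro φ hφ
    apply Finset.sum_eq_zero
    intro ψ hψ
    rw [hT φ hφ ψ hψ, mul_zero]
  rw [swap_sum Φ Ψ (fun φ => conj ((φ w : ℂˣ) : ℂ)) (fun ψ => conj ((ψ w : ℂˣ) : ℂ))
    (fun φ v => 1 - ((φ v : ℂˣ) : ℂ)) (fun ψ v => 1 - ((ψ v : ℂˣ) : ℂ))
    (fun v => conj (θ v))] at hsum
  simp only [hΦ, hΨ, sum_annihilator_conj_mul hc H₂ w _ hw₂',
    sum_annihilator_conj_mul hc H₁ w _ hw₁'] at hsum
  rw [Finset.sum_eq_single w] at hsum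
  · simp only [inv_mul_cancel, one_mem, if_true] at hsum
    have h1 := card_annihilator_ne_zero H₁
    have h2 := card_annihilator_ne_zero H₂
    have h3 : conj (θ w) = 0 := by
      rcases mul_eq_zero.mp hsum with h | h
      · exact h
      · exfalso
        rcases mul_eq_zero.mp h with h | h
        · exact h2 (neg_eq_zero.mp h)
        · exact h1 (neg_eq_zero.mp h)
    exact (map_eq_zero _).mp h3
  · intro v _ hv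
    have : ¬ (w⁻¹ * v ∈ H₂ ∧ w⁻¹ * v ∈ H₁) := by
      rintro ⟨h2, h1⟩
      apply hv
      have h2' : ((w⁻¹ * v : ↥(W₁ ⊔ W₂)) : G) ∈ W₂ := Subgroup.mem_subgroupOf.mp h2
      have h1' : ((w⁻¹ * v : ↥(W₁ ⊔ W₂)) : G) ∈ W₁ := Subgroup.mem_subgroupOf.mp h1
      have h3 : ((w⁻¹ * v : ↥(W₁ ⊔ W₂)) : G) ∈ W₁ ⊓ W₂ := ⟨h1', h2'⟩
      rw [hdisj, Subgroup.mem_bot] at h3
      have h4 : w⁻¹ * v = 1 := Subtype.ext h3
      exact (inv_mul_eq_one.mp h4).symm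
    by_cases h2 : w⁻¹ * v ∈ H₂
    · have h1 : w⁻¹ * v ∉ H₁ := fun h1 => this ⟨h2, h1⟩
      simp [h1]
    · simp [h2]
  · intro h
    exact absurd (Finset.mem_univ w) h

end Cfsg.Agent.S1503
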