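import Cfsg.Statements.S1500
import Cfsg.Agent.Helper8.Dade
import Cfsg.Agent.Helper8.Ind

set_option autoImplicit false
open Cfsg

namespace Cfsg.Agent.S1500

open scoped ComplexConjugate
open Cfsg.Agent.Helper8

/-- second part: the adjoint of the Dade map is the averaging map -/
theorem part2 {G : Type*} [Group G] [Fintype G] (A : Set G) (L : Subgroup G) [Fintype L]
    (H : G → Subgroup G) (hD : Cfsg.DadeHypothesis A L H) (α : L → ℂ)
    (hα : Cfsg.IsClassFunction L α) (hαA : ∀ x : L, (x : G) ∉ A → α x = 0)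
    (χ : G → ℂ) (ψ : L → ℂ) (hχ : Cfsg.IsClassFunction G χ)
    (hψ : ∀ a : L, (a : G) ∈ A →
      ψ a = (Nat.card (H a) : ℂ)⁻¹ * ∑ᶠ u ∈ (H a : Set G), χ (a * u)) :
    Cfsg.classInner (Cfsg.dadeIsometry A L H α) χ = Cfsg.classInner α ψ := by
  classical
  unfold Cfsg.classInner
  set F : G → ℂ := fun g => Cfsg.dadeIsometry A L H α g * conj (χ g) with hFdef
  have hF : Cfsg.IsClassFunction G F := by
    intro g y
    simp only [hFdef]
    rw [dadeIsometry_isClassFunction hD α hα g y, hχ g y]
  have h1 : ∑ g : G, F g = ∑ g : G,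
      (if (∃ a ∈ A, ∃ u ∈ H a, ∃ x : G, x * g * x⁻¹ = a * u) then F g else 0) := by
    apply Finset.sum_congr rfl
    intro g _
    split_ifs with hg
    · rfl
    · simp only [hFdef]
      rw [dadeIsometry_eq_zero α hg, zero_mul]
  have h2 := dade_sum_formula hD F hF
  have h3 : ∀ a : G, (if a ∈ A then (Nat.card (H a) : ℂ)⁻¹ *
      ∑ u : G, (if u ∈ H a then F (a * u) else 0) else 0)
      = Cfsg.extendByZero L (fun a' : L => α a' * conj (ψ a')) a * 1 := by
    intro a
    rw [mul_one]
    by_cases haL : a ∈ L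
    · rw [ebz_mem L _ haL]
      by_cases ha : a ∈ A
      · rw [if_pos ha, hψ ⟨a, haL⟩ ha, finsum_mem_eq_sum_ite]
        have h4 : ∀ u : G, (if u ∈ H a then F (a * u) else 0)
            = α ⟨a, haL⟩ * conj (if u ∈ ((H a : Subgroup G) : Set G) then χ (a * u) else 0) := by
          intro u
          by_cases hu : u ∈ H a
          · rw [if_pos hu, if_pos (by exact hu)]
            simp only [hFdef]
            rw [dadeIsometry_apply hD α hα ⟨a, haL⟩ ha (x := 1) hu (by group)]
          · rw [if_neg hu, if_neg (by exact hu), map_zero, mul_zero]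
        rw [Finset.sum_congr rfl (fun u _ => h4 u), ← Finset.mul_sum, ← map_sum, map_mul, map_inv₀,
          Complex.conj_natCast]
        ring
      · rw [if_neg ha, hαA ⟨a, haL⟩ ha, zero_mul]
    · rw [ebz_not_mem L _ haL, if_neg (fun ha => haL (hD.subset ha))]
  rw [Finset.sum_congr rfl (fun a _ => h3 a), sum_ebz_mul] at h2
  have hG : (Nat.card G : ℂ) ≠ 0 := Nat.cast_ne_zero.mpr Nat.card_pos.ne'
  have hL : (Nat.card L : ℂ) ≠ 0 := Nat.cast_ne_zero.mpr Nat.card_pos.ne'
  rw [← h1] at h2
  simp only [mul_one] at h2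
  have h6 : ∑ g : G, F g
      = (Nat.card L : ℂ)⁻¹ * ((Nat.card G : ℂ) * ∑ a' : L, α a' * conj (ψ a')) := by
    rw [← h2, ← mul_assoc, inv_mul_cancel₀ hL, one_mul]
  show (Nat.card G : ℂ)⁻¹ * ∑ g : G, F g = _
  rw [h6, ← mul_assoc, ← mul_assoc, mul_comm ((Nat.card G : ℂ)⁻¹), mul_assoc ((Nat.card L : ℂ)⁻¹),
    inv_mul_cancel₀ hG, mul_one]

/-- Under the Dade hypothesis for (A, L, H), let α be a class function of L vanishing outside A. Then (i) for every class function β of L vanishing outside A, the inner product over G of the Dade images of α and β equals the inner product of α and β over L; and (ii) for every class function χ of G and every function ψ on L whose value at each a ∈ A is the average of χ over the coset a·H(a), the inner product over G of the Dade image of α with χ equals the inner product over L of α with ψ. -/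
theorem result {G : Type*} [Group G] [Fintype G] (A : Set G) (L : Subgroup G) [Fintype L] (H : G → Subgroup G) (hD : Cfsg.DadeHypothesis A L H) (α : L → ℂ) (hα : Cfsg.IsClassFunction L α) (hαA : ∀ x : L, (x : G) ∉ A → α x = 0) : (∀ β : L → ℂ, Cfsg.IsClassFunction L β → (∀ x : L, (x : G) ∉ A → β x = 0) → Cfsg.classInner (Cfsg.dadeIsometry A L H α) (Cfsg.dadeIsometry A L H β) = Cfsg.classInner α β) ∧ (∀ (χ : G → ℂ) (ψ : L → ℂ), Cfsg.IsClassFunction G χ → (∀ a : L, (a : G) ∈ A → ψ a = (Nat.card (H a) : ℂ)⁻¹ * ∑ᶠ u ∈ (H a : Set G), χ (a * u)) → Cfsg.classInner (Cfsg.dadeIsometry A L H α) χ = Cfsg.classInner α ψ) := by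
  classical
  refine ⟨?_, fun χ ψ hχ hψ => part2 A L H hD α hα hαA χ ψ hχ hψ⟩
  intro β hβ _
  apply part2 A L H hD α hα hαA _ β (dadeIsometry_isClassFunction hD β hβ)
  intro a ha
  rw [finsum_mem_eq_sum_ite]
  have h4 : ∀ u : G, (if u ∈ ((H a : Subgroup G) : Set G) then
      Cfsg.dadeIsometry A L H β ((a : G) * u) else 0)
      = if u ∈ ((H a : Subgroup G) : Set G) then β a else 0 := by
    intro u
    by_cases hu : u ∈ ((H a : Subgroup G) : Set G)
    · rw [if_pos hu, if_pos hu]
      exact dadeIsometry_apply hD β hβ a ha (x := 1) hu (by group)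
    · rw [if_neg hu, if_neg hu]
  rw [Finset.sum_congr rfl (fun u _ => h4 u), Finset.sum_ite, Finset.sum_const_zero, add_zero,
    Finset.sum_const, nsmul_eq_mul]
  have hcard : ((Finset.univ.filter (fun u : G => u ∈ ((H a : Subgroup G) : Set G))).card : ℂ)
      = (Nat.card (H a) : ℂ) := by
    rw [Nat.card_eq_fintype_card, Fintype.card_subtype]
    rfl
  rw [hcard]
  have hne : (Nat.card (H a) : ℂ) ≠ 0 := Nat.cast_ne_zero.mpr Nat.card_pos.ne'
  field_simp

end Cfsg.Agent.S1500
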