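import Cfsg.Statements.S2800
import Mathlib
import Cfsg.Agent.Helper9.ThompsonS4

set_option autoImplicit false
open Cfsg

namespace Cfsg.Agent.S2800

universe u

/-- the two functors `Z` and `J_A` -/
def wFam : Bool → ∀ (Q : Type u) [Group Q], Subgroup Q
  | true => fun Q _ => Subgroup.center Q
  | false => fun Q _ => Cfsg.thompsonSubgroupA Q

theorem wFam_char (p : ℕ) [Fact p.Prime] : ∀ i, Cfsg.IsCharPFunctor.{u} p (wFam.{u} i) := by
  intro i
  cases i
  · exact Cfsg.Agent.Helper9.TS4.isCharPFunctor_thompsonA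
  · exact Cfsg.Agent.Helper9.TS4.isCharPFunctor_center

theorem main {G : Type u} [Group G] [Finite G] {p : ℕ} [Fact p.Prime] (S : Sylow p G)
    (h : p ≠ 2 ∨ ¬ Cfsg.Involves (Equiv.Perm (Fin 4)) G)
    (hC : Cfsg.HasNormalPComplement p ↥(Subgroup.centralizer (((S : Subgroup G) ⊓
      Subgroup.centralizer ((S : Subgroup G) : Set G) : Subgroup G) : Set G)))
    (hN : Cfsg.HasNormalPComplement p
      ↥(Subgroup.normalizer ((Cfsg.thompsonSubgroupAOf (S : Subgroup G)) : Set G))) :
    Cfsg.HasNormalPComplement p G := by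
  have hJle : Subgroup.normalizer ((S : Subgroup G) : Set G) ≤
      Subgroup.normalizer ((Cfsg.thompsonSubgroupAOf (S : Subgroup G)) : Set G) :=
    Cfsg.Agent.Helper10.normalizer_le_normalizer_iF
      (Cfsg.Agent.Helper9.TS4.isCharPFunctor_thompsonA (p := p)) S.2
  have hNS : Cfsg.HasNormalPComplement p ↥(Subgroup.normalizer ((S : Subgroup G) : Set G)) :=
    Cfsg.Agent.Helper10.npc_of_le hJle hN
  have hZ : Cfsg.HasNormalPComplement p ↥(Subgroup.normalizer (((S : Subgroup G) ⊓
      Subgroup.centralizer ((S : Subgroup G) : Set G) : Subgroup G) : Set G)) :=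
    Cfsg.Agent.Helper10.npc_of_le
      (Cfsg.Agent.Helper9.TS4.normalizer_center_le_centralizer S hNS) hC
  refine Cfsg.Agent.Helper9.TR2.thompson_reduction_fam (p := p) (W := wFam.{u}) (wFam_char p) true
    (fun (Y : Type u) [Group Y] => p ≠ 2 ∨ ¬ Cfsg.Involves (Equiv.Perm (Fin 4)) Y)
    ?_ ?_ ?_ (Nat.card G) G rfl h S ?_
  · intro Y _ hY M
    rcases hY with hY | hY
    · exact Or.inl hY
    · exact Or.inr (fun hinv => hY (Cfsg.Agent.Helper9.S4Sec.involves_of_subgroup M hinv))
  · intro Y _ hY N _
    rcases hY with hY | hY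
    · exact Or.inl hY
    · exact Or.inr (fun hinv => hY (Cfsg.Agent.Helper9.S4Sec.involves_of_quotient N hinv))
  · intro Y _ _ hY hCU hQ T hco hnpc hall
    have h1 := hall true
    have h2 := hall false
    have e1 : Cfsg.inducedFunctor (wFam.{u} true) (T : Subgroup Y) =
        (T : Subgroup Y) ⊓ Subgroup.centralizer ((T : Subgroup Y) : Set Y) :=
      Cfsg.Agent.Helper9.TS4.inducedFunctor_center (T : Subgroup Y)
    rw [e1] at h1
    exact Cfsg.Agent.Helper9.TS4.endgame_S4 Y hY hCU hQ T hco hnpc h1 h2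
  · intro i
    cases i
    · exact hN
    · have e1 : Cfsg.inducedFunctor (wFam.{u} true) (S : Subgroup G) =
          (S : Subgroup G) ⊓ Subgroup.centralizer ((S : Subgroup G) : Set G) :=
        Cfsg.Agent.Helper9.TS4.inducedFunctor_center (S : Subgroup G)
      rw [e1]
      exact hZ

/-- Let S be a Sylow p-subgroup of the finite group G and J(S) the subgroup generated by the abelian subgroups of S of largest order. Suppose p is odd, or the symmetric group of degree 4 is not involved in G. If both C_G(Z(S)) and N_G(J(S)) have normal p-complements, then G has a normal p-complement. -/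
theorem result {G : Type*} [Group G] [Finite G] {p : ℕ} [Fact p.Prime] (S : Sylow p G) (h : p ≠ 2 ∨ ¬ Cfsg.Involves (Equiv.Perm (Fin 4)) G) (hC : Cfsg.HasNormalPComplement p ↥(Subgroup.centralizer (((S : Subgroup G) ⊓ Subgroup.centralizer ((S : Subgroup G) : Set G) : Subgroup G) : Set G))) (hN : Cfsg.HasNormalPComplement p ↥(Subgroup.normalizer ((Cfsg.thompsonSubgroupAOf (S : Subgroup G)) : Set G))) : Cfsg.HasNormalPComplement p G := by
  exact main S h hC hN

end Cfsg.Agent.S2800
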