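import Cfsg.Statements.S2799
import Cfsg.Agent.Helper10.S2799G1
import Cfsg.Agent.Helper10.S2799G2
import Cfsg.Agent.Helper26.GJ2
import Cfsg.Agent.S1974

set_option autoImplicit false
open Cfsg

namespace Cfsg.Agent.S2799

/-- Let S be a Sylow p-subgroup of the finite group G, J(S) the subgroup generated by the abelian subgroups of S of largest order, and x an element of S lying in the centre of N_G(J(S)). Assume that p is odd, or that x is a p-th power of an element of Z(S), or that the symmetric group of degree 4 is not involved in G. Then x is weakly closed in S with respect to G: every G-conjugate of x that lies in S equals x. -/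
theorem result {G : Type*} [Group G] [Finite G] {p : ℕ} [Fact p.Prime] (S : Sylow p G) (x : G) (hxS : x ∈ (S : Subgroup G)) (hxZ : x ∈ (Subgroup.center ↥(Subgroup.normalizer ((Cfsg.thompsonSubgroupAOf (S : Subgroup G)) : Set G))).map (Subgroup.normalizer ((Cfsg.thompsonSubgroupAOf (S : Subgroup G)) : Set G)).subtype) (h : p ≠ 2 ∨ (∃ z ∈ (S : Subgroup G) ⊓ Subgroup.centralizer ((S : Subgroup G) : Set G), z ^ p = x) ∨ ¬ Cfsg.Involves (Equiv.Perm (Fin 4)) G) : ∀ g : G, g * x * g⁻¹ ∈ (S : Subgroup G) → g * x * g⁻¹ = x := by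
  classical
  -- `x` commutes with `N_G(J(S))`
  have hxC : x ∈ Subgroup.centralizer ((Subgroup.normalizer
      ((Cfsg.thompsonSubgroupAOf (S : Subgroup G) : Subgroup G) : Set G) : Subgroup G) : Set G) := by
    obtain ⟨y, hy, hyx⟩ := hxZ
    rw [Subgroup.mem_centralizer_iff]
    intro n hn
    have h1 := Subgroup.mem_center_iff.1 hy ⟨n, hn⟩
    have h2 := congrArg Subtype.val h1
    rw [← hyx]
    exact h2
  have hW : Cfsg.IsConjugacyFunctor p (Cfsg.inducedFunctor (G := G) Cfsg.Agent.Helper26.GJ.Wj) :=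
    Cfsg.Agent.Helper10.iF_isConjugacyFunctor (Cfsg.Agent.Helper9.TS4.isCharPFunctor_thompsonA (p := p))
  have hWZ : ∀ P : Subgroup G, IsPGroup p ↥P →
      P ⊓ Subgroup.centralizer ((P : Subgroup G) : Set G) ≤
        Cfsg.inducedFunctor Cfsg.Agent.Helper26.GJ.Wj P := by
    intro P _
    exact Cfsg.Agent.Helper26.CF.center_le_thompsonSubgroupAOf P
  have hTi : ¬ p ∣ (S : Subgroup G).relIndex ⊤ := by
    rw [Subgroup.relIndex_top_right]
    exact S.not_dvd_index
  have hxTop : x ∈ (S : Subgroup G) ⊓ Subgroup.centralizer (((⊤ : Subgroup G) ⊓ Subgroup.normalizer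
      ((Cfsg.thompsonSubgroupAOf (S : Subgroup G) : Subgroup G) : Set G) : Subgroup G) : Set G) := by
    refine ⟨hxS, ?_⟩
    rw [top_inf_eq]
    exact hxC
  have hodd : p ≠ 2 → ∀ g : G, g * x * g⁻¹ ∈ (S : Subgroup G) → g * x * g⁻¹ = x := by
    intro hp g hg
    exact Cfsg.Agent.Helper26.GJ.weakly_closed_of_odd hp ⊤ (S : Subgroup G) le_top S.isPGroup' hTi x
      hxTop g (Subgroup.mem_top g) hg
  rcases h with hp | ⟨z, hz, hzx⟩ | hfree
  · exact hodd hp
  · -- `x` is a `p`-th power of an element of `Z(S)`: S1974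
    have h1 := (Cfsg.Agent.S1974.result S (Cfsg.inducedFunctor (G := G) Cfsg.Agent.Helper26.GJ.Wj) hW hWZ
      (fun H T hTH hTp hTi hnn => Cfsg.Agent.Helper26.GJ.hloc_quad H T hTH hTp hTi hnn) _ rfl).1
    refine h1 x ⟨?_, hxC⟩
    apply Subgroup.subset_closure
    exact ⟨z, hz, hzx⟩
  · by_cases hp : p = 2
    · subst hp
      intro g hg
      exact Cfsg.Agent.Helper10.wc_elt_rel_core (Cfsg.inducedFunctor (G := G) Cfsg.Agent.Helper26.GJ.Wj)
        hW hWZ
        (fun H T hTH hTp hTi x hxT hxQ hmax hnc hNW =>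
          Cfsg.Agent.S2799P.hcore_S4free hfree H T hTH hTp hTi x hxT hxQ hmax hnc hNW)
        _ ⊤ (S : Subgroup G) rfl le_top S.isPGroup' hTi x hxTop g (Subgroup.mem_top g) hg
    · exact hodd hp

end Cfsg.Agent.S2799
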