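import Cfsg.Statements.S1949
import Cfsg.Agent.Helper15.SmallExp

set_option autoImplicit false
open Cfsg

namespace Cfsg.Agent.S1949

/-- Let P be a finite p-group and G a group of automorphisms of P containing the inner automorphisms. Then there is a G-invariant subgroup D of P, contained in the subgroup generated by the elements x⁻¹α(x) with x in P and α in O^p(G), of exponent dividing p when p is odd and dividing 4 when p = 2, with [D, P] ≤ Z(D), such that every automorphism in G of order prime to p that fixes D elementwise is the identity; moreover every maximal abelian subgroup A of D is normal in P and every automorphism in G fixing A elementwise has p-power order. -/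
theorem result {P : Type*} [Group P] [Finite P] {p : ℕ} [Fact p.Prime] (hP : IsPGroup p P)
    (G : Subgroup (MulAut P)) (hG : Cfsg.Inn P ≤ G) :
    ∃ D : Subgroup P,
      (∀ α ∈ G, D.map α.toMonoidHom = D) ∧
      D ≤ Subgroup.closure {y : P | ∃ α ∈ Cfsg.pResidual p ↥G, ∃ x : P, y = x⁻¹ * (α : MulAut P) x} ∧
      (∀ d ∈ D, d ^ p = 1 ∨ (p = 2 ∧ d ^ 4 = 1)) ∧
      ⁅D, (⊤ : Subgroup P)⁆ ≤ D ⊓ Subgroup.centralizer (D : Set P) ∧
      (∀ α ∈ G, (orderOf α).Coprime p → (∀ d ∈ D, α d = d) → α = 1) ∧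
      ∀ A : Subgroup P, A ≤ D → IsMulCommutative ↥A →
        (∀ B : Subgroup P, A ≤ B → B ≤ D → IsMulCommutative ↥B → B = A) →
        A.Normal ∧ ∀ α ∈ G, (∀ a ∈ A, α a = a) → ∃ k : ℕ, orderOf α = p ^ k := by
  classical
  have hpr := (Fact.out : p.Prime)
  obtain ⟨C, hCchar, hC1, hC2, hC3⟩ := Cfsg.Agent.S0093.result hP
  have hCinv : ∀ α : MulAut P, ∀ x ∈ C, α x ∈ C :=
    fun α x hx => Cfsg.Agent.Helper15.char_apply_mem hCchar α hx
  have hCp : IsPGroup p ↥C := hP.to_subgroup C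
  obtain ⟨e, he⟩ : ∃ e : ℕ, e = if p = 2 then 4 else p := ⟨_, rfl⟩
  have hmulpow : ∀ x ∈ C, ∀ y ∈ C, (x * y) ^ e = x ^ e * y ^ e := by
    rw [he]; exact Cfsg.Agent.Helper15.mul_pow_of_frattini_central C hCp hC1
  -- `D₀ = Ω_e(C)`
  obtain ⟨D₀, hD₀⟩ : ∃ D₀ : Subgroup P, ∀ x, x ∈ D₀ ↔ x ∈ C ∧ x ^ e = 1 := by
    refine ⟨{ carrier := {x | x ∈ C ∧ x ^ e = 1}
              one_mem' := ⟨C.one_mem, one_pow _⟩
              mul_mem' := ?_
              inv_mem' := ?_ }, fun x => Iff.rfl⟩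
    · rintro x y ⟨hx, hxe⟩ ⟨hy, hye⟩
      exact ⟨C.mul_mem hx hy, by rw [hmulpow x hx y hy, hxe, hye, one_mul]⟩
    · rintro x ⟨hx, hxe⟩
      exact ⟨C.inv_mem hx, by rw [inv_pow, hxe, inv_one]⟩
  have hD₀C : D₀ ≤ C := fun x hx => ((hD₀ x).mp hx).1
  have hD₀inv : ∀ α : MulAut P, ∀ x ∈ D₀, α x ∈ D₀ := by
    intro α x hx
    rw [hD₀] at hx ⊢
    exact ⟨hCinv α x hx.1, by rw [← map_pow, hx.2, map_one]⟩
  have hD₀exp : ∀ x ∈ D₀, x ^ p = 1 ∨ (p = 2 ∧ x ^ 4 = 1) := by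
    intro x hx
    have hxe := ((hD₀ x).mp hx).2
    by_cases hp2 : p = 2
    · right; rw [he, if_pos hp2] at hxe; exact ⟨hp2, hxe⟩
    · left; rw [he, if_neg hp2] at hxe; exact hxe
  have hmemD₀ : ∀ x ∈ C, (x ^ p = 1 ∨ (p = 2 ∧ x ^ 4 = 1)) → x ∈ D₀ := by
    intro x hx hxe
    rw [hD₀]
    refine ⟨hx, ?_⟩
    by_cases hp2 : p = 2
    · rw [he, if_pos hp2]
      rcases hxe with h1 | ⟨-, h2⟩
      · rw [hp2] at h1
        have : x ^ 4 = (x ^ 2) ^ 2 := by rw [← pow_mul]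
        rw [this, h1, one_pow]
      · exact h2
    · rw [he, if_neg hp2]
      rcases hxe with h1 | ⟨h2, -⟩
      · exact h1
      · exact absurd h2 hp2
  -- `D = [D₀, O^p(G)]`
  obtain ⟨S, hS⟩ : ∃ S : Set P, S = {y : P | ∃ α ∈ Cfsg.pResidual p ↥G, ∃ d ∈ D₀,
      y = d⁻¹ * (α : MulAut P) d} := ⟨_, rfl⟩
  obtain ⟨D, hD⟩ : ∃ D : Subgroup P, D = Subgroup.closure S := ⟨_, rfl⟩
  have hSD₀ : S ⊆ D₀ := by
    rw [hS]
    rintro _ ⟨α, -, d, hd, rfl⟩
    exact D₀.mul_mem (D₀.inv_mem hd) (hD₀inv _ d hd)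
  have hDD₀ : D ≤ D₀ := by rw [hD, Subgroup.closure_le]; exact hSD₀
  have hSD : S ⊆ D := by rw [hD]; exact Subgroup.subset_closure
  have hinv : ∀ β ∈ G, ∀ x ∈ D, β x ∈ D := by
    intro β hβ x hx
    rw [hD] at hx
    induction hx using Subgroup.closure_induction with
    | mem y hy =>
      apply hSD
      rw [hS] at hy ⊢
      obtain ⟨α, hα, d, hd, rfl⟩ := hy
      have hconj : (⟨β, hβ⟩ : ↥G) * α * (⟨β, hβ⟩ : ↥G)⁻¹ ∈ Cfsg.pResidual p ↥G :=
        (Cfsg.Agent.Helper14.pResidual_normal (p := p) (H := ↥G)).conj_mem α hα _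
      refine ⟨_, hconj, β d, hD₀inv β d hd, ?_⟩
      simp [map_mul, map_inv]
    | one => rw [map_one]; exact D.one_mem
    | mul y z _ _ hy hz => rw [map_mul]; exact D.mul_mem hy hz
    | inv y _ hy => rw [map_inv]; exact D.inv_mem hy
  have hDn : ∀ g : P, ∀ x ∈ D, g * x * g⁻¹ ∈ D := by
    intro g x hx
    have := hinv (MulAut.conj g) (hG ⟨g, rfl⟩) x hx
    simpa [MulAut.conj_apply] using this
  have hcomm : ⁅D, (⊤ : Subgroup P)⁆ ≤ D ⊓ Subgroup.centralizer (D : Set P) := by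
    rw [Subgroup.commutator_le]
    intro d hd g _
    refine ⟨?_, ?_⟩
    · show d * g * d⁻¹ * g⁻¹ ∈ D
      have h1 : g * d⁻¹ * g⁻¹ ∈ D := hDn g _ (D.inv_mem hd)
      have e1 : d * g * d⁻¹ * g⁻¹ = d * (g * d⁻¹ * g⁻¹) := by group
      rw [e1]; exact D.mul_mem hd h1
    · have h1 : d * g * d⁻¹ * g⁻¹ ∈ ⁅C, (⊤ : Subgroup P)⁆ :=
        Subgroup.commutator_mem_commutator (hD₀C (hDD₀ hd)) (Subgroup.mem_top g)
      have h2 := (hC2 h1).2
      exact Subgroup.centralizer_le (SetLike.coe_subset_coe.mpr (hDD₀.trans hD₀C)) h2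
  have hfaith : ∀ α ∈ G, (orderOf α).Coprime p → (∀ d ∈ D, α d = d) → α = 1 := by
    intro α hα hcop hfix
    have hαR : (⟨α, hα⟩ : ↥G) ∈ Cfsg.pResidual p ↥G := by
      apply Subgroup.subset_closure
      show Nat.Coprime (orderOf (⟨α, hα⟩ : ↥G)) p
      rw [Subgroup.orderOf_mk]; exact hcop
    have hfixD₀ : ∀ d ∈ D₀, α d = d := by
      intro d hd
      apply Cfsg.Agent.Helper23.aut_fixes_of_fixes_comm hP α hcop d
      apply hfix
      apply hSD
      rw [hS]
      exact ⟨⟨α, hα⟩, hαR, d, hd, rfl⟩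
    have hfixC : ∀ x ∈ C, α x = x :=
      Cfsg.Agent.Helper15.aut_fixes_of_fixes_omega' C hCp α (hCinv α) hcop
        (fun x hx hxe => hfixD₀ x (hmemD₀ x hx hxe))
    exact Cfsg.Agent.S0121.result hP C hCchar hC1 hC2 hC3 α hcop hfixC
  refine ⟨D, ?_, ?_, ?_, hcomm, hfaith, ?_⟩
  · intro α hα
    apply le_antisymm
    · rintro _ ⟨x, hx, rfl⟩
      exact hinv α hα x hx
    · intro x hx
      refine ⟨α⁻¹ x, hinv α⁻¹ (G.inv_mem hα) x hx, ?_⟩
      simp
  · rw [hD]
    apply Subgroup.closure_mono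
    rw [hS]
    rintro _ ⟨α, hα, d, -, rfl⟩
    exact ⟨α, hα, d, rfl⟩
  · intro d hd
    exact hD₀exp d (hDD₀ hd)
  · intro A hAD hAab hAmax
    have hCA : ∀ x ∈ D, (∀ a ∈ A, a * x = x * a) → x ∈ A := by
      intro x hx hxA
      have h1 : IsMulCommutative ↥(Subgroup.zpowers x) := inferInstance
      have h2 : A ≤ Subgroup.centralizer ((Subgroup.zpowers x : Subgroup P) : Set P) := by
        intro a ha
        rw [Subgroup.mem_centralizer_iff]
        intro y hy
        obtain ⟨k, rfl⟩ := Subgroup.mem_zpowers_iff.mp hy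
        have : Commute a x := hxA a ha
        exact (this.zpow_right k).eq.symm
      have h3 : IsMulCommutative ↥(A ⊔ Subgroup.zpowers x) :=
        Cfsg.Agent.Helper15.isMulCommutative_sup hAab h1 h2
      have h4 := hAmax (A ⊔ Subgroup.zpowers x) le_sup_left
        (sup_le hAD (Subgroup.zpowers_le.mpr hx)) h3
      rw [← h4]
      exact le_sup_right (a := A) (Subgroup.mem_zpowers x)
    refine ⟨⟨?_⟩, ?_⟩
    · intro a ha g
      have h1 : a * g * a⁻¹ * g⁻¹ ∈ D ⊓ Subgroup.centralizer (D : Set P) :=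
        hcomm (Subgroup.commutator_mem_commutator (hAD ha) (Subgroup.mem_top g))
      have h2 : a * g * a⁻¹ * g⁻¹ ∈ A := by
        apply hCA _ h1.1
        intro b hb
        exact Subgroup.mem_centralizer_iff.mp h1.2 b (hAD hb)
      have e1 : g * a * g⁻¹ = (a * g * a⁻¹ * g⁻¹)⁻¹ * a := by
        group
      rw [e1]
      exact A.mul_mem (A.inv_mem h2) ha
    · intro α hα hfixA
      have hpos : 0 < orderOf α := orderOf_pos α
      obtain ⟨k, m, hm, hkm⟩ := Nat.exists_eq_pow_mul_and_not_dvd hpos.ne' p hpr.ne_one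
      obtain ⟨β, hβ⟩ : ∃ β : MulAut P, β = α ^ (p ^ k) := ⟨_, rfl⟩
      have hβG : β ∈ G := by rw [hβ]; exact G.pow_mem hα _
      have hβord : orderOf β = m := by
        rw [hβ, orderOf_pow' α (pow_ne_zero k hpr.ne_zero), hkm,
          Nat.gcd_eq_right (Dvd.intro _ rfl), Nat.mul_div_cancel_left _ (pow_pos hpr.pos k)]
      have hβcop : (orderOf β).Coprime p := by
        rw [hβord]
        exact ((Nat.Prime.coprime_iff_not_dvd hpr).mpr hm).symm
      have hβA : ∀ a ∈ A, β a = a := by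
        intro a ha
        rw [hβ]
        have : ∀ n : ℕ, (α ^ n) a = a := by
          intro n
          induction n with
          | zero => simp
          | succ n ih => rw [pow_succ, MulAut.mul_apply, hfixA a ha, ih]
        exact this _
      have hβD : ∀ x ∈ D, β x = x :=
        Cfsg.Agent.Helper15.aut_fixes_of_fixes_selfCentralizing D A (hP.to_subgroup D) hAD hCA β
          (hinv β hβG) hβcop hβA
      have hβ1 : β = 1 := hfaith β hβG hβcop hβD
      rw [hβ1, orderOf_one] at hβord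
      refine ⟨k, ?_⟩
      rw [hkm, ← hβord, mul_one]

end Cfsg.Agent.S1949
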