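import Cfsg.Statements.S0444
import Cfsg.Agent.Helper3.S3Lift

set_option autoImplicit false
open Cfsg

namespace Cfsg.Agent.S0444

/-- Two members of a set of 3-transpositions which do not commute generate a subgroup isomorphic to the symmetric group on three letters. -/
theorem result {G : Type*} [Group G] {E : Set G} (hE : Cfsg.IsThreeTranspositionSet E) {d e : G} (hd : d ∈ E) (he : e ∈ E) (h : ¬ Commute d e) : Nonempty (Subgroup.closure ({d, e} : Set G) ≃* Equiv.Perm (Fin 3)) := by
  obtain ⟨hord, hprod⟩ := hE
  have inv_of : ∀ d ∈ E, d * d = 1 := by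
    intro d hd
    have := hord d hd
    have h2 : d ^ 2 = 1 := by rw [← this]; exact pow_orderOf_eq_one d
    simpa [pow_two] using h2
  have hd2 := inv_of d hd
  have he2 := inv_of e he
  have hde : (d * e) ^ 3 = 1 := by
    rcases hprod d hd e he with h' | h'
    · exfalso
      apply h
      have h'' : d * e * (d * e) = 1 := by simpa [pow_two] using h'
      show d * e = e * d
      have : d * e = (d * e)⁻¹ := eq_inv_of_mul_eq_one_left h''
      rw [this, mul_inv_rev, inv_eq_of_mul_eq_one_left hd2, inv_eq_of_mul_eq_one_left he2]
    · exact h'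
  exact Cfsg.Agent.Helper3.closure_pair_equiv_perm d e hd2 he2 hde h

end Cfsg.Agent.S0444
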