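import Cfsg.Statements.S3559
import Cfsg.Agent.Helper26.SchurF

set_option autoImplicit false
open Cfsg

namespace Cfsg.Agent.S3559

/-- Let G act faithfully and transitively on a finite set whose number of points n ≥ 2 is not a prime power, and suppose G has a cyclic subgroup acting regularly (transitively with trivial point stabilizers). Then G is imprimitive or doubly transitive. -/
theorem result {G Ω : Type*} [Group G] [Finite G] [MulAction G Ω] [FaithfulSMul G Ω] [Finite Ω]
    (htrans : MulAction.IsPretransitive G Ω) (hn : 2 ≤ Nat.card Ω) (hnp : ¬ IsPrimePow (Nat.card Ω))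
    (C : Subgroup G) (hcyc : IsCyclic ↥C) (hC : MulAction.IsPretransitive ↥C Ω ∧ ∀ a : Ω, MulAction.stabilizer ↥C a = ⊥) :
    ¬ MulAction.IsPreprimitive G Ω ∨ MulAction.IsMultiplyPretransitive G Ω 2 := by
  by_cases hprim : MulAction.IsPreprimitive G Ω
  · right
    have hne : Nonempty Ω := by
      by_contra h
      rw [not_nonempty_iff] at h
      rw [Nat.card_of_isEmpty] at hn
      omega
    obtain ⟨ω₀⟩ := hne
    letI : CommGroup ↥C := IsCyclic.commGroup
    have hbij : Function.Bijective fun h : ↥C => C.subtype h • ω₀ := by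
      constructor
      · intro a b hab
        simp only [Subgroup.coe_subtype] at hab
        have hmem : b⁻¹ * a ∈ MulAction.stabilizer ↥C ω₀ := by
          rw [MulAction.mem_stabilizer_iff, mul_smul, inv_smul_eq_iff]
          exact hab
        rw [hC.2 ω₀, Subgroup.mem_bot, inv_mul_eq_one] at hmem
        exact hmem.symm
      · intro b
        obtain ⟨c, hc⟩ := hC.1.exists_smul_eq ω₀ b
        exact ⟨c, hc⟩
    have hcard : Nat.card ↥C = Nat.card Ω := Nat.card_congr (Equiv.ofBijective _ hbij)
    have hn1 : Nat.card Ω ≠ 1 := by omega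
    have hp : (Nat.card Ω).minFac.Prime := Nat.minFac_prime hn1
    have hpn : (Nat.card Ω).minFac ∣ Nat.card ↥C := by rw [hcard]; exact Nat.minFac_dvd _
    have hnep : Nat.card ↥C ≠ (Nat.card Ω).minFac := by
      rw [hcard]
      intro h
      apply hnp
      rw [h]
      exact hp.isPrimePow
    exact Cfsg.Agent.Helper26.Schur.two_transitive_of_regular_cyclic C.subtype ω₀ hbij _ hp hpn hnep
  · left
    exact hprim

end Cfsg.Agent.S3559
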