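import Cfsg.Statements.S5226
import Cfsg.Agent.Helper26.FusionChainLocal
import Cfsg.Agent.Helper25.FusionChar

set_option autoImplicit false
open Cfsg
open scoped commutatorElement

namespace Cfsg.Agent.S5226

/-- Let F be a saturated fusion system over a finite p-group S and Q a subgroup of S. Then Q is normal in F (F equals the normalizer system of Q) if and only if Q is strongly closed in F and admits a central series 1 = Q₀ ≤ Q₁ ≤ ⋯ ≤ Qₙ = Q ([Qᵢ₊₁, Q] ≤ Qᵢ) all of whose proper terms are weakly closed in F. -/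
theorem result {Ω : Type*} [Group Ω] {S : Subgroup Ω} [Finite S] (p : ℕ) [Fact p.Prime] (hS : IsPGroup p S) (F : Cfsg.FusionSystem S) (hF : F.IsSaturated p) (Q : Subgroup Ω) : F.IsNormal Q ↔ F.StronglyClosed Q ∧ ∃ (n : ℕ) (C : Fin (n + 1) → Subgroup Ω), C 0 = ⊥ ∧ C (Fin.last n) = Q ∧ Monotone C ∧ (∀ i : Fin n, ⁅C i.succ, Q⁆ ≤ C i.castSucc) ∧ ∀ i : Fin n, F.WeaklyClosed (C i.castSucc) := by
  open Cfsg.Agent.Helper25 Cfsg.Agent.Helper26 Cfsg.FusionSystem in
  constructor
  · intro hQ
    refine ⟨stronglyClosed_of_isNormal F hQ, ?_⟩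
    have hQS : Q ≤ S := hQ.1
    have hfinQ : Finite Q := finite_of_le hQS
    have hQp : IsPGroup p Q := isPGroup_of_le hS hQS
    have hnil : Group.IsNilpotent Q := hQp.isNilpotent
    refine ⟨Group.nilpotencyClass Q, fun i => (Subgroup.upperCentralSeries Q (i : ℕ)).map Q.subtype, ?_, ?_, ?_, ?_, ?_⟩
    · show (Subgroup.upperCentralSeries Q 0).map Q.subtype = ⊥
      rw [Subgroup.upperCentralSeries_zero, Subgroup.map_bot]
    · show (Subgroup.upperCentralSeries Q (Group.nilpotencyClass Q)).map Q.subtype = Q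
      rw [Subgroup.upperCentralSeries_nilpotencyClass, ← MonoidHom.range_eq_map, Subgroup.range_subtype]
    · intro i j hij
      exact Subgroup.map_mono (Subgroup.upperCentralSeries_mono Q hij)
    · intro i
      rw [Subgroup.commutator_le]
      rintro _ ⟨z, hz, rfl⟩ b hb
      have hz' : z ∈ Subgroup.upperCentralSeries Q ((i : ℕ) + 1) := hz
      rw [Subgroup.mem_upperCentralSeries_succ_iff] at hz'
      exact ⟨_, hz' ⟨b, hb⟩, rfl⟩
    · intro i
      have h1 : F.IsNormal ((Subgroup.upperCentralSeries Q (i : ℕ)).map Q.subtype) :=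
        isNormal_of_characteristic F hQ (Subgroup.upperCentralSeries Q (i : ℕ))
      exact weaklyClosed_of_stronglyClosed F (stronglyClosed_of_isNormal F h1)
  · rintro ⟨hQsc, n, C, h0, hn, hmono, hcomm, hwc⟩
    let Cn : ℕ → Subgroup Ω := fun i => C ⟨min i n, by omega⟩
    have hCn : ∀ i (hi : i ≤ n), Cn i = C ⟨i, by omega⟩ := by
      intro i hi
      show C ⟨min i n, _⟩ = C ⟨i, _⟩
      congr 1
      exact Fin.ext (Nat.min_eq_left hi)
    refine isNormal_of_weaklyClosed_chain p hS F hF Q hQsc Cn n ?_ ?_ ?_ ?_ ?_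
    · rw [hCn 0 (Nat.zero_le _)]
      exact h0
    · rw [hCn n le_rfl]
      exact hn
    · intro i j hij
      apply hmono
      show (⟨min i n, _⟩ : Fin (n + 1)) ≤ ⟨min j n, _⟩
      rw [Fin.mk_le_mk]
      exact min_le_min_right n hij
    · intro i hi
      rw [hCn (i + 1) hi, hCn i hi.le]
      exact hcomm ⟨i, hi⟩
    · intro i hi
      rw [hCn i hi.le]
      exact hwc ⟨i, hi⟩

end Cfsg.Agent.S5226
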