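import Cfsg.Statements.S5081
import Cfsg.Agent.Helper25.FusionEssential
import Cfsg.Agent.Helper25.FusionNormal

set_option autoImplicit false
open Cfsg

namespace Cfsg.Agent.S5081

open Cfsg.Agent.Helper25 Cfsg.FusionSystem

/-- An automorphism extending properly is a map of the system. -/
theorem mem_autGroup_of_extendsProperly {Ω : Type*} [Group Ω] {S : Subgroup Ω}
    (F : Cfsg.FusionSystem S) {P : Subgroup Ω} {α : MulAut P} (h : ExtendsProperly F P α) :
    α ∈ F.autGroup P := by
  obtain ⟨Q, hPQ, φ, hφ, hφα⟩ := h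
  apply Subgroup.subset_closure
  show autHom α ∈ F.Hom P
  have h1 := restrict_mem F hPQ.le hφ
  have h2 : φ.comp (Subgroup.inclusion hPQ.le) = autHom α := by
    ext x; exact hφα x
  rwa [h2] at h1

/-- Let F be a saturated fusion system over a finite p-group S, P a proper subgroup of S that is fully normalized, and H the subgroup of Aut_F(P) generated by the automorphisms that extend to maps of the system defined on strictly larger subgroups of S. Then either P is not essential and H is all of Aut_F(P), or P is essential and the image of H in Out_F(P) = Aut_F(P)/Inn(P) is strongly p-embedded there. -/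
theorem result {Ω : Type*} [Group Ω] {S : Subgroup Ω} [Finite S] (p : ℕ) [Fact p.Prime] (hS : IsPGroup p S) (F : Cfsg.FusionSystem S) (hF : F.IsSaturated p) (P : Subgroup Ω) (hPS : P < S) (hPn : F.IsFullyNormalized P) (H : Subgroup (MulAut P)) (hH : H = Subgroup.closure {α : MulAut P | ∃ (Q : Subgroup Ω) (hPQ : P < Q) (φ : Q →* Ω), φ ∈ F.Hom Q ∧ ∀ x : P, φ (Subgroup.inclusion hPQ.le x) = α x}) : (¬ F.IsEssential p P ∧ H = F.autGroup P) ∨ (F.IsEssential p P ∧ ∃ _ : ((Cfsg.Inn P).subgroupOf (F.autGroup P)).Normal, Cfsg.IsStronglyPEmbedded p ((H.subgroupOf (F.autGroup P)).map (QuotientGroup.mk' ((Cfsg.Inn P).subgroupOf (F.autGroup P))))) := by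
  have hPle : P ≤ S := hPS.le
  have hne : P ≠ S := hPS.ne
  have hfinP : Finite P := finite_of_le hPle
  have hHA : H ≤ F.autGroup P := by
    rw [hH, Subgroup.closure_le]
    intro α hα
    exact mem_autGroup_of_extendsProperly F hα
  by_cases hess : F.IsEssential p P
  · right
    refine ⟨hess, inn_normal_in_autGroup F P, ?_⟩
    have hIn : ((Cfsg.Inn P).subgroupOf (F.autGroup P)).Normal := inn_normal_in_autGroup F P
    obtain ⟨hFC, hFA⟩ := Cfsg.Agent.S5077.sylow_axiom p hS F hF P hPn
    have hrec : F.IsReceptive P := Cfsg.Agent.S5077.extension_axiom p hS F hF P hFC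
    obtain ⟨-, R₀, hR₀⟩ := hFA
    have hC : centralizerIn S P ≤ P := hess.1.2 P (isConj_refl F hPle)
    obtain ⟨-, -, hN', E, hpdvd, hEtop, T', hT'⟩ := hess
    have hsurj : Function.Surjective
        (QuotientGroup.mk' ((Cfsg.Inn P).subgroupOf (F.autGroup P))) :=
      QuotientGroup.mk'_surjective _
    set T : Sylow p (F.autGroup P ⧸ (Cfsg.Inn P).subgroupOf (F.autGroup P)) :=
      R₀.mapSurjective hsurj with hT
    have hTcoe : (T : Subgroup (F.autGroup P ⧸ (Cfsg.Inn P).subgroupOf (F.autGroup P))) =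
        (R₀ : Subgroup (F.autGroup P)).map
          (QuotientGroup.mk' ((Cfsg.Inn P).subgroupOf (F.autGroup P))) := rfl
    have hH' : H = Subgroup.closure {α : MulAut P | ExtendsProperly F P α} := hH
    have hΓle : kGeneratedCore p 1
        (T : Subgroup (F.autGroup P ⧸ (Cfsg.Inn P).subgroupOf (F.autGroup P))) ≤
        (H.subgroupOf (F.autGroup P)).map
          (QuotientGroup.mk' ((Cfsg.Inn P).subgroupOf (F.autGroup P))) := by
      rw [hH']
      exact kGeneratedCore_le_image p hS F hPle hrec hIn R₀ hR₀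
    refine ⟨hpdvd, ?_, T, hΓle⟩
    -- properness
    have hΓne : kGeneratedCore p 1
        (T : Subgroup (F.autGroup P ⧸ (Cfsg.Inn P).subgroupOf (F.autGroup P))) ≠ ⊤ := by
      intro htop
      obtain ⟨g, hg⟩ := MulAction.exists_smul_eq
        (F.autGroup P ⧸ (Cfsg.Inn P).subgroupOf (F.autGroup P)) T T'
      have h1 := kGeneratedCore_map_conj_le p 1
        (T : Subgroup (F.autGroup P ⧸ (Cfsg.Inn P).subgroupOf (F.autGroup P))) g
      rw [htop] at h1
      have h2 : (T' : Subgroup (F.autGroup P ⧸ (Cfsg.Inn P).subgroupOf (F.autGroup P))) =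
          (T : Subgroup (F.autGroup P ⧸ (Cfsg.Inn P).subgroupOf (F.autGroup P))).map
            (MulAut.conj g).toMonoidHom := by
        rw [← hg, Sylow.coe_subgroup_smul]
        rfl
      rw [← h2] at h1
      apply hEtop
      rw [eq_top_iff]
      refine le_trans ?_ (h1.trans hT')
      intro x _
      exact ⟨(MulAut.conj g)⁻¹ x, Subgroup.mem_top _, by simp; group⟩
    have hHle : (H.subgroupOf (F.autGroup P)).map
        (QuotientGroup.mk' ((Cfsg.Inn P).subgroupOf (F.autGroup P))) ≤ kGeneratedCore p 1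
          (T : Subgroup (F.autGroup P ⧸ (Cfsg.Inn P).subgroupOf (F.autGroup P))) := by
      rintro _ ⟨⟨h, hhA⟩, hhH, rfl⟩
      have hhH' : h ∈ H := hhH
      have key : ∀ h ∈ H, ∃ hA : h ∈ F.autGroup P,
          QuotientGroup.mk' ((Cfsg.Inn P).subgroupOf (F.autGroup P)) ⟨h, hA⟩ ∈ kGeneratedCore p 1
            (T : Subgroup (F.autGroup P ⧸ (Cfsg.Inn P).subgroupOf (F.autGroup P))) := by
        intro h hh
        rw [hH'] at hh
        induction hh using Subgroup.closure_induction with
        | mem α hα =>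
          have hαA : α ∈ F.autGroup P := mem_autGroup_of_extendsProperly F hα
          refine ⟨hαA, ?_⟩
          obtain ⟨Q, hPQ, φ, hφ, hφα⟩ := hα
          have hQS : Q ≤ S := (F.le_of_mem hφ).1
          have hfinQ : Finite Q := finite_of_le hQS
          obtain ⟨g, hgN, hgP⟩ := exists_mem_normalizerIn_not_mem (S := Q) p
            (isPGroup_of_le hS hQS) hPQ.le hPQ.ne
          have hgS : g ∈ S := hQS hgN.1
          -- the automorphism induced by g
          set cg : MulAut P := P.normalizerMonoidHom ⟨g, hgN.2⟩ with hcg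
          have hcgS : cg ∈ autInducedBy S P := by
            rw [mem_autInducedBy_iff]
            exact ⟨g, hgS, fun x => rfl⟩
          have hcgA : cg ∈ F.autGroup P := autInducedBy_le_autGroup F hPle hcgS
          -- φ(g) normalizes P and induces α cg α⁻¹
          have hφgS : φ ⟨g, hgN.1⟩ ∈ S := (F.le_of_mem hφ).2 _
          have hconj : ∀ x : P, (((α * cg * α⁻¹) x : P) : Ω) =
              φ ⟨g, hgN.1⟩ * (x : Ω) * (φ ⟨g, hgN.1⟩)⁻¹ := by
            intro x
            show ((α (cg (α⁻¹ x)) : P) : Ω) = _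
            rw [← hφα]
            have h1 : Subgroup.inclusion hPQ.le (cg (α⁻¹ x)) =
                ⟨g, hgN.1⟩ * Subgroup.inclusion hPQ.le (α⁻¹ x) * ⟨g, hgN.1⟩⁻¹ :=
              Subtype.ext rfl
            rw [h1, map_mul, map_mul, map_inv, hφα]
            simp
          have hc'S : α * cg * α⁻¹ ∈ autInducedBy S P := by
            rw [mem_autInducedBy_iff]
            exact ⟨_, hφgS, hconj⟩
          have hc'A : α * cg * α⁻¹ ∈ F.autGroup P := autInducedBy_le_autGroup F hPle hc'S
          have hinv := mem_kGeneratedCore_of_inf_conj_ne_bot p T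
            (QuotientGroup.mk' ((Cfsg.Inn P).subgroupOf (F.autGroup P)) ⟨α, hαA⟩)⁻¹
            ⟨QuotientGroup.mk' ((Cfsg.Inn P).subgroupOf (F.autGroup P)) ⟨cg, hcgA⟩, ?_, ?_, ?_⟩
          · have := Subgroup.inv_mem _ hinv
            rwa [inv_inv] at this
          · rw [hTcoe]
            refine ⟨⟨cg, hcgA⟩, ?_, rfl⟩
            rw [SetLike.mem_coe, hR₀]
            exact hcgS
          · intro h1
            have h2 : (⟨cg, hcgA⟩ : F.autGroup P) ∈ (Cfsg.Inn P).subgroupOf (F.autGroup P) :=
              (QuotientGroup.eq_one_iff _).mp h1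
            have h3 : cg ∈ Cfsg.Inn P := h2
            exact hgP (mem_of_normalizerMonoidHom_mem_inn hPle hC ⟨g, hgN.2⟩ hgS h3)
          · rw [inv_inv, hTcoe]
            refine ⟨⟨α * cg * α⁻¹, hc'A⟩, ?_, ?_⟩
            · rw [SetLike.mem_coe, hR₀]
              exact hc'S
            · rw [← map_inv, ← map_mul, ← map_mul]
              rfl
        | one => exact ⟨Subgroup.one_mem _, by
            have : (⟨1, Subgroup.one_mem _⟩ : F.autGroup P) = 1 := rfl
            rw [this, map_one]; exact Subgroup.one_mem _⟩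
        | mul a b _ _ ha hb =>
          obtain ⟨haA, ha'⟩ := ha
          obtain ⟨hbA, hb'⟩ := hb
          refine ⟨Subgroup.mul_mem _ haA hbA, ?_⟩
          have : (⟨a * b, Subgroup.mul_mem _ haA hbA⟩ : F.autGroup P) = ⟨a, haA⟩ * ⟨b, hbA⟩ := rfl
          rw [this, map_mul]
          exact Subgroup.mul_mem _ ha' hb'
        | inv a _ ha =>
          obtain ⟨haA, ha'⟩ := ha
          refine ⟨Subgroup.inv_mem _ haA, ?_⟩
          have : (⟨a⁻¹, Subgroup.inv_mem _ haA⟩ : F.autGroup P) = ⟨a, haA⟩⁻¹ := rfl
          rw [this, map_inv]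
          exact Subgroup.inv_mem _ ha'
      obtain ⟨_, h2⟩ := key h hhH'
      exact h2
    intro htop
    apply hΓne
    rw [eq_top_iff, ← htop]
    exact hHle
  · left
    refine ⟨hess, le_antisymm hHA ?_⟩
    have hH' : H = Subgroup.closure {α : MulAut P | ExtendsProperly F P α} := hH
    rw [hH']
    exact autGroup_le_closure_extendsProperly p hS F hF hPn hne hess

end Cfsg.Agent.S5081
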