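import Cfsg.Statements.S5084
import Cfsg.Agent.S5089

set_option autoImplicit false
open Cfsg

namespace Cfsg.Agent.S5084

open Cfsg.Agent.Helper25 Cfsg.FusionSystem

/-- The restriction of a map of the system to a cyclic subgroup witnesses conjugacy of elements. -/
theorem isConjElt_of_mem {Ω : Type*} [Group Ω] {S : Subgroup Ω} (F : Cfsg.FusionSystem S)
    {R : Subgroup Ω} {φ : R →* Ω} (hφ : φ ∈ F.Hom R) (x : R) : F.IsConjElt (x : Ω) (φ x) := by
  have hle : Subgroup.zpowers (x : Ω) ≤ R := by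
    rw [Subgroup.zpowers_le]
    exact x.2
  exact ⟨φ.comp (Subgroup.inclusion hle), restrict_mem F hle hφ, rfl⟩

/-- In a saturated fusion system over a finite p-group S, a subgroup Q is central in the system if and only if Q ≤ S and no element of Q is conjugate in the system to any element other than itself. -/
theorem result {Ω : Type*} [Group Ω] {S : Subgroup Ω} [Finite S] (p : ℕ) [Fact p.Prime] (hS : IsPGroup p S) (F : Cfsg.FusionSystem S) (hF : F.IsSaturated p) (Q : Subgroup Ω) : F.IsCentral Q ↔ (Q ≤ S ∧ ∀ x ∈ Q, ∀ y : Ω, F.IsConjElt x y → y = x) := by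
  constructor
  · intro hQ
    refine ⟨hQ.1, ?_⟩
    rintro x hx y ⟨φ, hφ, rfl⟩
    obtain ⟨ψ, hψ, hext, hfix⟩ := hQ.2 _ φ hφ
    have h1 := hext ⟨x, Subgroup.mem_zpowers x⟩
    have h2 := hfix ⟨x, hx⟩
    rw [← h1]
    exact h2
  · rintro ⟨hQS, hno⟩
    have hcomm : ∀ a ∈ Q, ∀ b ∈ Q, a * b = b * a := by
      intro a ha b hb
      have hle : Subgroup.zpowers b ≤ S := by
        rw [Subgroup.zpowers_le]
        exact hQS hb
      have h1 : F.IsConjElt b (a * b * a⁻¹) :=
        ⟨conjHom (Subgroup.zpowers b) a, F.conj_mem hle (hQS ha), rfl⟩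
      have h2 := hno b hb _ h1
      calc a * b = a * b * a⁻¹ * a := by group
        _ = b * a := by rw [h2]
    have hsc : F.StronglyClosed Q := by
      refine ⟨hQS, fun R hRQ φ hφ x => ?_⟩
      have h1 := hno (x : Ω) (hRQ x.2) _ (isConjElt_of_mem F hφ x)
      rw [h1]
      exact hRQ x.2
    have hN : F.IsNormal Q :=
      Cfsg.Agent.S5089.isNormal_of_abelian_stronglyClosed p hS F hF Q hcomm hsc
    refine ⟨hQS, fun P φ hφ => ?_⟩
    obtain ⟨ψ, hψ, hext, -⟩ := hN.2 P φ hφ
    refine ⟨ψ, hψ, hext, fun x => ?_⟩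
    exact hno (x : Ω) x.2 _ (isConjElt_of_mem F hψ (Subgroup.inclusion le_sup_right x))

end Cfsg.Agent.S5084
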