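import Mathlib
import Cfsg.Statements.S3763
import Cfsg.Agent.S4416
import Cfsg.Agent.Helper3.ES2Rank

set_option autoImplicit false
set_option linter.style.haveILetI false
open Cfsg

namespace Cfsg.Agent.S3763

open Cfsg.Agent.Helper3 Cfsg.Agent.Helper3.ES2

variable {G : Type*} [Group G] [Finite G] {z : G}

theorem EA_of (A : Subgroup G) (hA : IsMulCommutative A) (hA2 : ∀ a ∈ A, a ^ 2 = 1) : EA A :=
  ⟨fun a ha b hb => congrArg Subtype.val (hA.is_comm.comm ⟨a, ha⟩ ⟨b, hb⟩),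
    fun a ha => by rw [← pow_two]; exact hA2 a ha⟩

theorem pRankLE_succ (h : ES2 G z) (n : ℕ) (hn : Nat.card G = 2 ^ (2 * n + 1)) :
    Cfsg.PRankLE 2 (n + 1) G := by
  intro A hA hA2
  have h1 := abelian_card_sq_le h A (EA_of A hA hA2).1
  rw [hn] at h1
  have h2 : Nat.card A ^ 2 ≤ (2 ^ (n + 1)) ^ 2 := by
    calc Nat.card A ^ 2 = Nat.card A * Nat.card A := pow_two _
      _ ≤ 2 * 2 ^ (2 * n + 1) := h1
      _ = (2 ^ (n + 1)) ^ 2 := by ring
  exact (Nat.pow_le_pow_iff_left (by norm_num)).mp h2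

theorem one_le_n (h : ES2 G z) (n : ℕ) (hn : Nat.card G = 2 ^ (2 * n + 1)) : 1 ≤ n := by
  by_contra hcon
  have : n = 0 := by omega
  subst this
  have := three_le_card h
  rw [hn] at this
  norm_num at this

theorem not_pRankLE_pred (h : ES2 G z) (n : ℕ) (hn : Nat.card G = 2 ^ (2 * n + 1)) :
    ¬ Cfsg.PRankLE 2 (n - 1) G := by
  intro hP
  obtain ⟨⟨B, -, hEA, hcard⟩, -⟩ := exists_ea_aux n G z h hn
  have := hP B ⟨⟨fun a b => Subtype.ext (hEA.1 a.1 a.2 b.1 b.2)⟩⟩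
    (fun a ha => by rw [pow_two]; exact hEA.2 a ha)
  rw [hcard] at this
  have h1 := one_le_n h n hn
  have h2 : 2 ^ (n - 1) < 2 ^ n := Nat.pow_lt_pow_right (by norm_num) (by omega)
  omega

theorem not_pRankLE_of_plus (h : ES2 G z) (n : ℕ) (hn : Nat.card G = 2 ^ (2 * n + 1))
    (hj : jj G = 2 ^ (2 * n) + 2 ^ n) : ¬ Cfsg.PRankLE 2 n G := by
  intro hP
  obtain ⟨-, h2⟩ := exists_ea_aux n G z h hn
  obtain ⟨B, -, hEA, hcard⟩ := h2 hj
  have := hP B ⟨⟨fun a b => Subtype.ext (hEA.1 a.1 a.2 b.1 b.2)⟩⟩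
    (fun a ha => by rw [pow_two]; exact hEA.2 a ha)
  rw [hcard] at this
  have h2 : 2 ^ n < 2 ^ (n + 1) := Nat.pow_lt_pow_right (by norm_num) (by omega)
  omega

theorem pRankLE_of_not_plus (h : ES2 G z) (n : ℕ) (hn : Nat.card G = 2 ^ (2 * n + 1))
    (hj : jj G ≠ 2 ^ (2 * n) + 2 ^ n) : Cfsg.PRankLE 2 n G := by
  haveI : Fact (Nat.Prime 2) := ⟨Nat.prime_two⟩
  intro A hA hA2
  have hG : IsPGroup 2 G := IsPGroup.of_card hn
  obtain ⟨k, hk⟩ := IsPGroup.iff_card.mp (hG.to_subgroup A)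
  have hle := pRankLE_succ h n hn A hA hA2
  rw [hk] at hle ⊢
  have hk1 : k ≤ n + 1 := (Nat.pow_le_pow_iff_right (by norm_num)).mp hle
  rcases Nat.lt_or_ge k (n + 1) with hlt | hge
  · exact Nat.pow_le_pow_right (by norm_num) (by omega)
  · exfalso
    have hkn : k = n + 1 := by omega
    subst hkn
    have hsq : Nat.card A * Nat.card A = 2 * Nat.card G := by
      rw [hk, hn]; ring
    have := jj_of_large_ea h A (EA_of A hA hA2) hsq
    rw [hk, hn] at this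
    apply hj
    have h3 : (2 * (jj G : ℤ)) = 2 * ((2 : ℤ) ^ (2 * n) + 2 ^ n) := by
      push_cast at this
      have e1 : (2 : ℤ) ^ (2 * n + 1) = 2 * 2 ^ (2 * n) := by ring
      have e2 : (2 : ℤ) ^ (n + 1) = 2 * 2 ^ n := by ring
      linarith
    have h4 : (jj G : ℤ) = (2 : ℤ) ^ (2 * n) + 2 ^ n := by linarith
    exact_mod_cast h4

theorem jj_cases (h : ES2 G z) (n : ℕ) (hn : Nat.card G = 2 ^ (2 * n + 1)) :
    jj G = 2 ^ (2 * n) + 2 ^ n ∨ jj G = 2 ^ (2 * n) - 2 ^ n := by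
  have hg := gauss h
  rw [hn] at hg
  set j := jj G with hj
  set A : ℕ := 2 ^ n with hA
  have e1 : (2 : ℕ) ^ (2 * n + 1) = 2 * A ^ 2 := by rw [hA]; ring
  have e2 : (2 : ℕ) ^ (2 * n) = A ^ 2 := by rw [hA]; ring
  rw [e1] at hg
  rw [e2]
  have h3 : (2 * (j : ℤ) - ((2 * A ^ 2 : ℕ) : ℤ)) ^ 2 = (2 * (A : ℤ)) ^ 2 := by
    rw [hg]; push_cast; ring
  rcases sq_eq_sq_iff_eq_or_eq_neg.mp h3 with h4 | h4
  · left
    have h5 : (j : ℤ) = (A : ℤ) ^ 2 + A := by push_cast at h4; linarith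
    exact_mod_cast h5
  · right
    have h5 : (j : ℤ) + A = (A : ℤ) ^ 2 := by push_cast at h4; linarith
    have h6 : j + A = A ^ 2 := by exact_mod_cast h5
    omega

theorem result {E : Type*} [Group E] [Finite E] (hE : Cfsg.IsExtraspecial 2 E) (n : ℕ) (hn : Nat.card E = 2 ^ (2 * n + 1)) : ((Cfsg.PRankLE 2 n E ∧ ¬ Cfsg.PRankLE 2 (n - 1) E) ∨ (Cfsg.PRankLE 2 (n + 1) E ∧ ¬ Cfsg.PRankLE 2 n E)) ∧ ∀ (E' : Type*) [Group E'] [Finite E'], Cfsg.IsExtraspecial 2 E' → Nat.card E' = Nat.card E → (∀ k : ℕ, Cfsg.PRankLE 2 k E ↔ Cfsg.PRankLE 2 k E') → Nonempty (E ≃* E') := by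
  obtain ⟨z, hz⟩ := Cfsg.Agent.S4416.exists_es2 E hE
  constructor
  · by_cases hj : jj E = 2 ^ (2 * n) + 2 ^ n
    · exact Or.inr ⟨pRankLE_succ hz n hn, not_pRankLE_of_plus hz n hn hj⟩
    · exact Or.inl ⟨pRankLE_of_not_plus hz n hn hj, not_pRankLE_pred hz n hn⟩
  · intro E' _ _ hE' hcard hrank
    obtain ⟨z', hz'⟩ := Cfsg.Agent.S4416.exists_es2 E' hE'
    have hn' : Nat.card E' = 2 ^ (2 * n + 1) := hcard.trans hn
    apply ES2.nonempty_mulEquiv hz hz' hcard.symm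
    by_cases hj : jj E = 2 ^ (2 * n) + 2 ^ n
    · have h1 := not_pRankLE_of_plus hz n hn hj
      have h2 : ¬ Cfsg.PRankLE 2 n E' := fun hh => h1 ((hrank n).mpr hh)
      have h3 : jj E' = 2 ^ (2 * n) + 2 ^ n := by
        by_contra hcon
        exact h2 (pRankLE_of_not_plus hz' n hn' hcon)
      rw [hj, h3]
    · have h1 := pRankLE_of_not_plus hz n hn hj
      have h2 : Cfsg.PRankLE 2 n E' := (hrank n).mp h1
      have h3 : jj E' ≠ 2 ^ (2 * n) + 2 ^ n := fun hh => not_pRankLE_of_plus hz' n hn' hh h2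
      rcases jj_cases hz n hn with h4 | h4
      · exact absurd h4 hj
      · rcases jj_cases hz' n hn' with h5 | h5
        · exact absurd h5 h3
        · rw [h4, h5]

end Cfsg.Agent.S3763
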