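import Mathlib
import Cfsg.Statements.S5396
import Cfsg.Agent.S3763
import Cfsg.Agent.Helper3.ES2Build
import Cfsg.Agent.Helper14.Frattini
import Cfsg.Agent.Helper1.PGroup

set_option autoImplicit false
set_option linter.style.haveILetI false
open Cfsg

namespace Cfsg.Agent.S5396

open Cfsg.Agent.Helper3 Cfsg.Agent.Helper3.ES2
open scoped commutatorElement

/-- the elementwise axioms give an extraspecial 2-group in the sense of the Prelude -/
theorem isExtraspecial_of_es2 {E : Type*} [Group E] [Finite E] {z : E} (h : ES2 E z) :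
    Cfsg.IsExtraspecial 2 E := by
  haveI : Fact (Nat.Prime 2) := ⟨Nat.prime_two⟩
  have hP : IsPGroup 2 E := by
    intro g
    refine ⟨2, ?_⟩
    have : g ^ 2 ^ 2 = (g ^ 2) ^ 2 := by rw [← pow_mul]; norm_num
    rw [this]
    rcases h.sq g with h1 | h1 <;> rw [h1]
    · simp
    · rw [pow_two, h.zz]
  have hzc : z ∈ Subgroup.center E := Subgroup.mem_center_iff.mpr (fun g => h.central g)
  have hcenter : ∀ g ∈ Subgroup.center E, g = 1 ∨ g = z := by
    intro g hg
    apply h.center_sub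
    intro k
    exact (Subgroup.mem_center_iff.mp hg k).symm
  have hcomm : commutator E = Subgroup.center E := by
    apply le_antisymm
    · rw [commutator_def, Subgroup.commutator_le]
      intro a _ b _
      exact commutator_mem_center h a b
    · intro g hg
      rcases hcenter g hg with rfl | rfl
      · exact one_mem _
      · obtain ⟨x, y, hxy⟩ := h.nonab
        have h1 := h.eq_mul_z hxy
        have h2 : ⁅x, y⁆ = g := by
          rw [commutatorElement_def, h1]
          calc y * x * g * x⁻¹ * y⁻¹ = y * x * (g * x⁻¹) * y⁻¹ := by group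
            _ = y * x * (x⁻¹ * g) * y⁻¹ := by rw [h.central x⁻¹]
            _ = y * (g * y⁻¹) := by group
            _ = y * (y⁻¹ * g) := by rw [h.central y⁻¹]
            _ = g := by group
        rw [← h2, commutator_def]
        exact Subgroup.commutator_mem_commutator (Subgroup.mem_top x) (Subgroup.mem_top y)
  have hfr : frattini E = Subgroup.center E := by
    apply le_antisymm
    · apply Cfsg.Agent.Helper14.frattini_le_of_elemAb 2 (Subgroup.center E)
        (fun a b => commutator_mem_center h a b)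
      intro a
      rcases h.sq a with h1 | h1 <;> rw [h1]
      · exact one_mem _
      · exact hzc
    · rw [← hcomm]
      exact Cfsg.Agent.Helper1.IsPGroup.commutator_le_frattini hP
  exact ⟨⟨hP, hfr, hcomm⟩, card_center h⟩

theorem sSup_eq {E : Type*} [Group E] [Finite E] {z : E} (h : ES2 E z) (n r : ℕ)
    (hr : ∃ A : Subgroup E, Cfsg.IsElementaryAbelian 2 A ∧ Nat.card A = 2 ^ r)
    (hle : Cfsg.PRankLE 2 r E) :
    sSup {k : ℕ | ∃ A : Subgroup E, Cfsg.IsElementaryAbelian 2 A ∧ Nat.card A = 2 ^ k} = r := by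
  apply IsGreatest.csSup_eq
  refine ⟨hr, ?_⟩
  rintro k ⟨A, ⟨hA1, hA2⟩, hcard⟩
  have := hle A hA1 hA2
  rw [hcard] at this
  exact (Nat.pow_le_pow_iff_right (by norm_num)).mp this

theorem isEA_of_EA {E : Type*} [Group E] {B : Subgroup E} (hB : EA B) :
    Cfsg.IsElementaryAbelian 2 B :=
  ⟨⟨⟨fun a b => Subtype.ext (hB.1 a.1 a.2 b.1 b.2)⟩⟩, fun a ha => by rw [pow_two]; exact hB.2 a ha⟩

theorem result (n : ℕ) (hn : 1 ≤ n) : ∀ r ∈ ({n, n + 1} : Set ℕ), ∃ (E : Type) (_ : Group E) (_ : Finite E), Cfsg.IsExtraspecial 2 E ∧ Nat.card E = 2 ^ (2 * n + 1) ∧ sSup {k : ℕ | ∃ A : Subgroup E, Cfsg.IsElementaryAbelian 2 A ∧ Nat.card A = 2 ^ k} = r := by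
  intro r hr
  obtain ⟨⟨E1, g1, f1, z1, h1, hc1, hj1⟩, ⟨E2, g2, f2, z2, h2, hc2, hj2⟩⟩ := exists_types n hn
  rcases hr with rfl | rfl
  · -- rank n: minus type
    refine ⟨E2, g2, f2, isExtraspecial_of_es2 h2, hc2, ?_⟩
    have hne : jj E2 ≠ 2 ^ (2 * r) + 2 ^ r := by
      rw [hj2]
      have : 0 < 2 ^ r := Nat.pos_of_ne_zero (by positivity)
      omega
    obtain ⟨⟨B, -, hEA, hcard⟩, -⟩ := exists_ea_aux r E2 z2 h2 hc2
    exact sSup_eq h2 r r ⟨B, isEA_of_EA hEA, hcard⟩
      (Cfsg.Agent.S3763.pRankLE_of_not_plus h2 r hc2 hne)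
  · -- rank n + 1: plus type
    refine ⟨E1, g1, f1, isExtraspecial_of_es2 h1, hc1, ?_⟩
    obtain ⟨-, hex⟩ := exists_ea_aux n E1 z1 h1 hc1
    obtain ⟨B, -, hEA, hcard⟩ := hex hj1
    exact sSup_eq h1 n (n + 1) ⟨B, isEA_of_EA hEA, hcard⟩
      (Cfsg.Agent.S3763.pRankLE_succ h1 n hc1)

end Cfsg.Agent.S5396
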