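import Cfsg.Statements.S0351
import Mathlib

set_option autoImplicit false
open Cfsg

namespace Cfsg.Agent.S0351

/-- Derived design: removing a point p from the blocks through p of an S(t+1, k+1, v) yields an S(t, k, v-1) on the points other than p. -/
theorem result {α : Type*} [Fintype α] [DecidableEq α] {t k : ℕ} {B : Set (Finset α)} (hB : Cfsg.IsSteinerSystem (t + 1) (k + 1) B) (p : α) : Cfsg.IsSteinerSystem t k {b' : Finset {a : α // a ≠ p} | ∃ b ∈ B, p ∈ b ∧ b' = Finset.subtype (fun a => a ≠ p) b} := by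
  obtain ⟨hcard, huniq⟩ := hB
  -- membership in the restricted block
  have hmem : ∀ (b : Finset α) (x : {a : α // a ≠ p}),
      x ∈ Finset.subtype (fun a => a ≠ p) b ↔ (x : α) ∈ b := fun b x => Finset.mem_subtype
  constructor
  · rintro b' ⟨b, hb, hpb, rfl⟩
    rw [Finset.card_subtype]
    have h1 : b.filter (fun a => a ≠ p) = b.erase p := by
      ext a
      simp only [Finset.mem_filter, Finset.mem_erase]
      tauto
    rw [h1, Finset.card_erase_of_mem hpb, hcard b hb]
    rfl
  · intro s hs
    -- the `(t+1)`-set `insert p s`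
    set s0 : Finset α := s.map (Function.Embedding.subtype _) with hs0
    have hp0 : p ∉ s0 := by
      rw [hs0, Finset.mem_map]
      rintro ⟨x, -, hx⟩
      exact x.2 hx
    have hc : (insert p s0).card = t + 1 := by
      rw [Finset.card_insert_of_notMem hp0, hs0, Finset.card_map, hs]
    obtain ⟨b, ⟨hb, hsb⟩, hbu⟩ := huniq (insert p s0) hc
    have hpb : p ∈ b := hsb (Finset.mem_insert_self p s0)
    refine ⟨Finset.subtype (fun a => a ≠ p) b, ⟨⟨b, hb, hpb, rfl⟩, ?_⟩, ?_⟩
    · intro x hx
      rw [hmem]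
      apply hsb
      apply Finset.mem_insert_of_mem
      rw [hs0, Finset.mem_map]
      exact ⟨x, hx, rfl⟩
    · rintro b1' ⟨⟨b1, hb1, hpb1, rfl⟩, hsb1⟩
      have h2 : insert p s0 ⊆ b1 := by
        intro a ha
        rw [Finset.mem_insert] at ha
        rcases ha with rfl | ha
        · exact hpb1
        · rw [hs0, Finset.mem_map] at ha
          obtain ⟨x, hx, rfl⟩ := ha
          exact (hmem b1 x).1 (hsb1 hx)
      rw [hbu b1 ⟨hb1, h2⟩]

end Cfsg.Agent.S0351
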