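import Cfsg.Statements.S0357
import Cfsg.Agent.Helper22.Steiner

set_option autoImplicit false
open Cfsg

namespace Cfsg.Agent.S0357

/-- In a Steiner system S(5, 6, 12), the complement of every block is again a block. -/
theorem result {α : Type*} [Fintype α] [DecidableEq α] (hα : Fintype.card α = 12) {B : Set (Finset α)} (hB : Cfsg.IsSteinerSystem 5 6 B) {b : Finset α} (hb : b ∈ B) : bᶜ ∈ B := by
  open Cfsg.Agent.Helper22.Design in
  classical
  have hv := meet_5612_values hα hB hb ∅ (Finset.empty_subset b)
  have hpos : 0 < meet (toFin B) b ∅ := by rw [hv, Finset.card_empty]; decide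
  unfold meet at hpos
  rw [Finset.card_pos] at hpos
  obtain ⟨c, hc⟩ := hpos
  rw [Finset.mem_filter, mem_toFin] at hc
  obtain ⟨hcB, hcb⟩ := hc
  have hsub : c ⊆ bᶜ := by
    intro p hp
    rw [Finset.mem_compl]
    intro hpb
    have : p ∈ c ∩ b := Finset.mem_inter.mpr ⟨hp, hpb⟩
    rw [hcb] at this
    simp at this
  have : c = bᶜ := by
    apply Finset.eq_of_subset_of_card_le hsub
    rw [Finset.card_compl, hα, hB.1 b hb, hB.1 c hcB]
  rw [← this]
  exact hcB

end Cfsg.Agent.S0357
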