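import Cfsg.Statements.S0356
import Cfsg.Agent.Helper22.Steiner2

set_option autoImplicit false
open Cfsg

namespace Cfsg.Agent.S0356

/-- In a Steiner system S(3, 6, 22), two distinct blocks intersect in 0 or 2 points. -/
theorem result {α : Type*} [Fintype α] [DecidableEq α] (hα : Fintype.card α = 22) {B : Set (Finset α)} (hB : Cfsg.IsSteinerSystem 3 6 B) {b c : Finset α} (hb : b ∈ B) (hc : c ∈ B) (hbc : b ≠ c) : (b ∩ c).card = 0 ∨ (b ∩ c).card = 2 := by
  open Cfsg.Agent.Helper22.Design in
  have hstep : ∀ i < 3, 0 < 6 - i ∧ (6 - i) * ch3622 i = (Fintype.card α - i) * ch3622 (i + 1) := by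
    rw [hα]; exact step3622
  have hpos := tri_pos_of_blocks hB ch3622 rfl hstep hb hc
  have h6 : b.card = 6 := hB.1 b hb
  have hle : (b ∩ c).card ≤ 6 := h6 ▸ Finset.card_le_card Finset.inter_subset_left
  have hne : (b ∩ c).card ≠ 6 := by
    intro h
    apply hbc
    exact block_eq_of_inter hB hb hc (by omega)
  revert hpos
  interval_cases (b ∩ c).card <;> first | omega | decide

end Cfsg.Agent.S0356
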