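import Cfsg.Statements.S0350
import Cfsg.Agent.Helper22.Steiner

set_option autoImplicit false
open Cfsg

namespace Cfsg.Agent.S0350

/-- Counting pairs (t-subset, block containing it) in two ways: the number of blocks of a Steiner system with parameters (t, k, v), multiplied by C(k, t), equals C(v, t). -/
theorem result {α : Type*} [Fintype α] [DecidableEq α] {t k : ℕ} {B : Set (Finset α)} (hB : Cfsg.IsSteinerSystem t k B) : B.ncard * Nat.choose k t = Nat.choose (Fintype.card α) t := by
  open Cfsg.Agent.Helper22.Design in
  classical
  have key := Finset.sum_card_bipartiteAbove_eq_sum_card_bipartiteBelow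
    (s := Finset.powersetCard t (Finset.univ : Finset α)) (t := toFin B) (fun (s b : Finset α) => s ⊆ b)
  have hL : ∀ s ∈ Finset.powersetCard t (Finset.univ : Finset α),
      (Finset.bipartiteAbove (fun (s b : Finset α) => s ⊆ b) (toFin B) s).card = 1 := fun s hs => by
    obtain ⟨_, hsc⟩ := Finset.mem_powersetCard.mp hs
    exact cnt_eq_one hB s hsc
  have hR : ∀ b ∈ toFin B,
      (Finset.bipartiteBelow (fun (s b : Finset α) => s ⊆ b) (Finset.powersetCard t (Finset.univ : Finset α)) b).card =
      Nat.choose k t := fun b hb => by
    have : Finset.bipartiteBelow (fun (s b : Finset α) => s ⊆ b) (Finset.powersetCard t (Finset.univ : Finset α)) b =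
        Finset.powersetCard t b := by
      ext s
      simp only [Finset.bipartiteBelow, Finset.mem_filter, Finset.mem_powersetCard, Finset.subset_univ, true_and]
      tauto
    rw [this, Finset.card_powersetCard, card_of_mem_toFin hB b hb]
  rw [Finset.sum_congr rfl hL, Finset.sum_congr rfl hR, Finset.sum_const, Finset.sum_const,
    Finset.card_powersetCard, Finset.card_univ, smul_eq_mul, smul_eq_mul, mul_one] at key
  rw [ncard_eq_card]
  exact key.symm

end Cfsg.Agent.S0350
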