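import Mathlib
import Cfsg.Statements.S5421
import Cfsg.Agent.Helper3.LargeES

set_option autoImplicit false
set_option linter.style.haveILetI false
open Cfsg

namespace Cfsg.Agent.S5421

open Cfsg.Agent.Helper3.LargeES

/-- Let Q be an extraspecial 2-subgroup of the finite group G whose centralizer in G is its centre Z and which is normal in the centralizer of Z. If some involution b of Q outside Z has Z inside the largest normal 2-subgroup of the centralizer of b, then Q is a large extraspecial 2-subgroup of G. -/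
theorem result {G : Type*} [Group G] [Finite G] (Q : Subgroup G) (hL1 : Cfsg.IsExtraspecial 2 ↥Q) (hL2 : Subgroup.centralizer (Q : Set G) = ((Subgroup.center ↥Q).map Q.subtype)) (hL3 : Subgroup.centralizer (((Subgroup.center ↥Q).map Q.subtype) : Set G) ≤ Subgroup.normalizer (Q : Set G)) (b : G) (hbQ : b ∈ Q) (hbZ : b ∉ ((Subgroup.center ↥Q).map Q.subtype)) (hb : orderOf b = 2) (hZ : ((Subgroup.center ↥Q).map Q.subtype) ≤ (Cfsg.pCore 2 ↥(Subgroup.centralizer ({b} : Set G))).map (Subgroup.centralizer ({b} : Set G)).subtype) : Cfsg.IsLargeExtraspecial Q := by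
  obtain ⟨zq, hzq, hZs⟩ := exists_es2_sub hL1
  refine ⟨hL1, hL2, hL3, ?_⟩
  intro K hK hQK
  have hC := centralizer_elts hZs hL2
  have hN := normalizer_elts hZs hL3
  have hb1 : b ≠ 1 := by
    intro h1
    rw [h1, orderOf_one] at hb
    exact absurd hb (by norm_num)
  have hbb : b * b = 1 := by
    have := pow_orderOf_eq_one b
    rwa [hb, pow_two] at this
  have hbz : b ≠ (zq : G) := fun h1 => hbZ ((hZs b).mpr (Or.inr h1))
  have hT2 : IsPGroup 2 ((Cfsg.pCore 2 ↥(Subgroup.centralizer ({b} : Set G))).map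
      (Subgroup.centralizer ({b} : Set G)).subtype) :=
    (Cfsg.Agent.Helper14.pCore_isPGroup 2).map _
  have hzT : (zq : G) ∈ (Cfsg.pCore 2 ↥(Subgroup.centralizer ({b} : Set G))).map
      (Subgroup.centralizer ({b} : Set G)).subtype := hZ ((hZs _).mpr (Or.inr rfl))
  have hTn : ∀ x : G, x * b = b * x → ∀ t ∈ (Cfsg.pCore 2 ↥(Subgroup.centralizer ({b} : Set G))).map
      (Subgroup.centralizer ({b} : Set G)).subtype, x * t * x⁻¹ ∈
      (Cfsg.pCore 2 ↥(Subgroup.centralizer ({b} : Set G))).map
      (Subgroup.centralizer ({b} : Set G)).subtype := by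
    rintro x hx t ⟨w, hw, rfl⟩
    have hxC : x ∈ Subgroup.centralizer ({b} : Set G) := by
      rw [Subgroup.mem_centralizer_iff]
      intro u hu
      rw [Set.mem_singleton_iff.mp hu]
      exact hx.symm
    exact ⟨⟨x, hxC⟩ * w * ⟨x, hxC⟩⁻¹,
      (Cfsg.Agent.Helper14.pCore_normal 2).conj_mem w hw ⟨x, hxC⟩, rfl⟩
  exact odd_normalized_eq_bot hzq hC hN hbQ hb1 hbz hbb _ hT2 hzT hTn K hK hQK

end Cfsg.Agent.S5421
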