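import Mathlib
import Cfsg.Statements.S5422
import Cfsg.Agent.Helper3.LargeES2

set_option autoImplicit false
set_option linter.style.haveILetI false
open Cfsg

namespace Cfsg.Agent.S5422

open Cfsg.Agent.Helper3 Cfsg.Agent.Helper3.LargeES

/-- Let Q be an extraspecial 2-subgroup of the finite group G whose centralizer in G is its centre Z and which is normal in the centralizer of Z; suppose Q has width at least 2 (order 2^(2w+1) with w ≥ 2) and g is an element of G not normalizing Z with g Z g⁻¹ inside Q. Then Z lies inside g Q g⁻¹; writing V for the subgroup generated by Z and g Z g⁻¹ (a four-group), the normalizer of V induces on V its full automorphism group, that is, the centralizer of V has index 6 in the normalizer of V; and Q is a large extraspecial 2-subgroup of G. -/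
theorem result {G : Type*} [Group G] [Finite G] (Q : Subgroup G) (hL1 : Cfsg.IsExtraspecial 2 ↥Q) (hL2 : Subgroup.centralizer (Q : Set G) = ((Subgroup.center ↥Q).map Q.subtype)) (hL3 : Subgroup.centralizer (((Subgroup.center ↥Q).map Q.subtype) : Set G) ≤ Subgroup.normalizer (Q : Set G)) (w : ℕ) (hw : 2 ≤ w) (hcard : Nat.card ↥Q = 2 ^ (2 * w + 1)) (g : G) (hg : g ∉ Subgroup.normalizer (((Subgroup.center ↥Q).map Q.subtype) : Set G)) (hZg : (((Subgroup.center ↥Q).map Q.subtype)).map (MulAut.conj g).toMonoidHom ≤ Q) : ((Subgroup.center ↥Q).map Q.subtype) ≤ (Q).map (MulAut.conj g).toMonoidHom ∧ (Subgroup.centralizer ((((Subgroup.center ↥Q).map Q.subtype) ⊔ (((Subgroup.center ↥Q).map Q.subtype)).map (MulAut.conj g).toMonoidHom : Subgroup G) : Set G)).relIndex (Subgroup.normalizer ((((Subgroup.center ↥Q).map Q.subtype) ⊔ (((Subgroup.center ↥Q).map Q.subtype)).map (MulAut.conj g).toMonoidHom : Subgroup G) : Set G)) = 6 ∧ Cfsg.IsLargeExtraspecial Q := by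
  obtain ⟨zq, hzq, hZs⟩ := exists_es2_sub hL1
  have hC := centralizer_elts hZs hL2
  have hN := normalizer_elts hZs hL3
  obtain ⟨z, hz⟩ : ∃ z : G, z = (zq : G) := ⟨_, rfl⟩
  rw [← hz] at hC hN hZs
  have hzz : z * z = 1 := by rw [hz]; exact sub_zz hzq
  have hz1 : z ≠ 1 := by rw [hz]; exact sub_ne_one hzq
  have hzQ : z ∈ Q := by rw [hz]; exact zq.2
  have hzZ : z ∈ (Subgroup.center ↥Q).map Q.subtype := (hZs z).mpr (Or.inr rfl)
  obtain ⟨a, ha⟩ : ∃ a : G, a = g * z * g⁻¹ := ⟨_, rfl⟩
  have hgz : a ≠ z := by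
    intro hh
    apply hg
    apply mem_normalizer_of_conj_mem'
    intro v hv
    rcases (hZs v).mp hv with rfl | rfl
    · simp [Subgroup.one_mem]
    · rw [← ha, hh]; exact hzZ
  have haQ : a ∈ Q := hZg ⟨z, hzZ, by rw [ha]; rfl⟩
  have haa : a * a = 1 := by
    calc a * a = g * (z * z) * g⁻¹ := by rw [ha]; group
      _ = 1 := by rw [hzz]; group
  have ha1 : a ≠ 1 := by
    intro h1
    apply hz1
    calc z = g⁻¹ * a * g := by rw [ha]; group
      _ = 1 := by rw [h1]; group
  have haz : a * z = z * a := by rw [hz]; exact sub_central hzq haQ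
  have hmemP : ∀ x, x ∈ Q.map (MulAut.conj g).toMonoidHom ↔ ∃ q ∈ Q, g * q * g⁻¹ = x := by
    intro x
    simp [Subgroup.mem_map, MulAut.conj_apply]
  obtain ⟨q, hqQ, hgq⟩ : ∃ q ∈ Q, g * q * g⁻¹ = z := by
    have := mem_conj_of_conj_mem hzq (by rw [← hz]; exact hC) (by rw [← hz]; exact hN) g
      (by rw [← hz, ← ha]; exact hgz) (by rw [← hz, ← ha]; exact haQ)
    rwa [← hz] at this
  have hzP : z ∈ Q.map (MulAut.conj g).toMonoidHom := (hmemP z).mpr ⟨q, hqQ, hgq⟩
  -- elements commuting with `a` normalize `P`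
  have hNP : ∀ x : G, x * a = a * x → ∀ p ∈ Q.map (MulAut.conj g).toMonoidHom,
      x * p * x⁻¹ ∈ Q.map (MulAut.conj g).toMonoidHom := by
    intro x hx p hp
    obtain ⟨r, hr, rfl⟩ := (hmemP p).mp hp
    have hx' : (g⁻¹ * x * g) * z = z * (g⁻¹ * x * g) := by
      calc g⁻¹ * x * g * z = g⁻¹ * (x * a) * g := by rw [ha]; group
        _ = g⁻¹ * (a * x) * g := by rw [hx]
        _ = z * (g⁻¹ * x * g) := by rw [ha]; group
    have := hN _ hx' r hr
    exact (hmemP _).mpr ⟨_, this, by group⟩
  refine ⟨?_, ?_, hL1, hL2, hL3, ?_⟩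
  · -- (1)
    intro v hv
    rcases (hZs v).mp hv with rfl | rfl
    · exact Subgroup.one_mem _
    · exact hzP
  · -- (2)
    obtain ⟨y, hyQ, hy⟩ : ∃ y ∈ Q, y * a * y⁻¹ = a * z := by
      have := sub_exists_conj hzq haQ ha1 (by rw [← hz]; exact hgz)
      rwa [← hz] at this
    have hyz : y * z * y⁻¹ = z := by
      have : y * z = z * y := by rw [hz]; exact sub_central hzq hyQ
      rw [this]; group
    have hq1 : q ≠ 1 := by
      intro h1
      apply hz1
      rw [← hgq, h1]; group
    have hqz : q ≠ z := by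
      intro h1
      apply hgz
      rw [ha, ← h1, hgq, h1]
    obtain ⟨y', hy'Q, hy'⟩ : ∃ y' ∈ Q, y' * q * y'⁻¹ = q * z := by
      have := sub_exists_conj hzq hqQ hq1 (by rw [← hz]; exact hqz)
      rwa [← hz] at this
    have hy'z : y' * z * y'⁻¹ = z := by
      have : y' * z = z * y' := by rw [hz]; exact sub_central hzq hy'Q
      rw [this]; group
    have hxz : (g * y' * g⁻¹) * z * (g * y' * g⁻¹)⁻¹ = z * a := by
      calc (g * y' * g⁻¹) * z * (g * y' * g⁻¹)⁻¹
          = g * y' * (g⁻¹ * z * g) * y'⁻¹ * g⁻¹ := by group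
        _ = g * y' * (g⁻¹ * (g * q * g⁻¹) * g) * y'⁻¹ * g⁻¹ := by rw [hgq]
        _ = g * (y' * q * y'⁻¹) * g⁻¹ := by group
        _ = g * (q * z) * g⁻¹ := by rw [hy']
        _ = (g * q * g⁻¹) * (g * z * g⁻¹) := by group
        _ = z * a := by rw [hgq, ← ha]
    have hxa : (g * y' * g⁻¹) * a * (g * y' * g⁻¹)⁻¹ = a := by
      calc (g * y' * g⁻¹) * a * (g * y' * g⁻¹)⁻¹
          = g * y' * (g⁻¹ * a * g) * y'⁻¹ * g⁻¹ := by group
        _ = g * y' * (g⁻¹ * (g * z * g⁻¹) * g) * y'⁻¹ * g⁻¹ := by rw [← ha]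
        _ = g * (y' * z * y'⁻¹) * g⁻¹ := by group
        _ = a := by rw [hy'z, ← ha]
    have hV : ∀ v, v ∈ ((Subgroup.center ↥Q).map Q.subtype ⊔
        ((Subgroup.center ↥Q).map Q.subtype).map (MulAut.conj g).toMonoidHom : Subgroup G) ↔
        v = 1 ∨ v = z ∨ v = a ∨ v = z * a := by
      have heq : ((Subgroup.center ↥Q).map Q.subtype ⊔
          ((Subgroup.center ↥Q).map Q.subtype).map (MulAut.conj g).toMonoidHom : Subgroup G) =
          kleinOf z a hzz haa haz.symm := by
        apply le_antisymm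
        · apply sup_le
          · intro v hv
            rcases (hZs v).mp hv with rfl | rfl
            · exact Subgroup.one_mem _
            · exact left_mem_kleinOf
          · rintro _ ⟨v, hv, rfl⟩
            rcases (hZs v).mp hv with rfl | rfl
            · simp [Subgroup.one_mem]
            · have : (MulAut.conj g).toMonoidHom v = a := by rw [ha]; rfl
              rw [this]; exact right_mem_kleinOf
        · apply kleinOf_le
          · exact le_sup_left (a := (Subgroup.center ↥Q).map Q.subtype) hzZ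
          · exact le_sup_right (a := (Subgroup.center ↥Q).map Q.subtype)
              ⟨z, hzZ, by rw [ha]; rfl⟩
      intro v
      rw [heq]
      exact mem_kleinOf
    have hya : y * a * y⁻¹ = z * a := by rw [hy, haz]
    exact relIndex_eq_six hzz haa haz.symm hz1 ha1 hgz.symm _ hV hyz hya hxa hxz
  · -- (3)
    intro K hK hQK
    have hT2 : IsPGroup 2 (Q.map (MulAut.conj g).toMonoidHom) := (sub_isPGroup hzq).map _
    exact odd_normalized_eq_bot hzq (by rw [← hz]; exact hC) (by rw [← hz]; exact hN) haQ ha1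
      (by rw [← hz]; exact hgz) haa _ hT2 (by rw [← hz]; exact hzP) hNP K hK hQK

end Cfsg.Agent.S5422
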