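import Mathlib
import Cfsg.Statements.S5427
import Cfsg.Agent.Helper3.LargeSimple
import Cfsg.Agent.Helper7.FStar
import Cfsg.Agent.S5421
import Cfsg.Agent.S5422

set_option autoImplicit false
set_option linter.style.haveILetI false
open Cfsg

namespace Cfsg.Agent.S5427

section aux

variable {G : Type*} [Group G] [Finite G]

/-- the bridge from `F*(C_G(z)) = Q` to the first three conditions of largeness -/
theorem bridge (z : G) (hz : orderOf z = 2) (Q : Subgroup G)
    (hQC : Q ≤ Subgroup.centralizer ({z} : Set G))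
    (hF : (Cfsg.generalizedFittingSubgroup ↥(Subgroup.centralizer ({z} : Set G))).map
      (Subgroup.centralizer ({z} : Set G)).subtype = Q)
    (hQ : Cfsg.IsExtraspecial 2 ↥Q) :
    z ∈ Q ∧ Subgroup.centralizer (Q : Set G) = (Subgroup.center ↥Q).map Q.subtype ∧
    (Subgroup.center ↥Q).map Q.subtype = Subgroup.zpowers z ∧
    Subgroup.centralizer (((Subgroup.center ↥Q).map Q.subtype : Subgroup G) : Set G) ≤
      Subgroup.normalizer (Q : Set G) := by
  have hcF := Cfsg.Agent.Helper7.centralizer_generalizedFitting_le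
    (G := ↥(Subgroup.centralizer ({z} : Set G)))
  have hFn : (Cfsg.generalizedFittingSubgroup ↥(Subgroup.centralizer ({z} : Set G))).Normal :=
    Cfsg.Agent.Helper7.generalizedFittingSubgroup_normal _
  have hzH : z ∈ Subgroup.centralizer ({z} : Set G) :=
    Subgroup.mem_centralizer_singleton_iff.mpr rfl
  -- membership in Q from centralizing Q
  have key : ∀ x : G, x * z = z * x → (∀ q ∈ Q, x * q = q * x) → x ∈ Q := by
    intro x hxz hxQ
    have hxH : x ∈ Subgroup.centralizer ({z} : Set G) :=
      Subgroup.mem_centralizer_singleton_iff.mpr hxz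
    have h1 : (⟨x, hxH⟩ : ↥(Subgroup.centralizer ({z} : Set G))) ∈
        Subgroup.centralizer ((Cfsg.generalizedFittingSubgroup
          ↥(Subgroup.centralizer ({z} : Set G)) : Subgroup _) : Set _) := by
      rw [Subgroup.mem_centralizer_iff]
      intro f hf
      apply Subtype.ext
      have hfQ : (f : G) ∈ Q := by
        rw [← hF]; exact ⟨f, hf, rfl⟩
      exact (hxQ _ hfQ).symm
    have h2 := hcF h1
    rw [← hF]
    exact ⟨_, h2, rfl⟩
  have hzQ : z ∈ Q := by
    apply key z rfl
    intro q hq
    exact (Subgroup.mem_centralizer_singleton_iff.mp (hQC hq)).symm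
  have hZz : (Subgroup.center ↥Q).map Q.subtype = Subgroup.zpowers z := by
    symm
    apply Subgroup.eq_of_le_of_card_ge
    · rw [Subgroup.zpowers_le]
      refine ⟨⟨z, hzQ⟩, Subgroup.mem_center_iff.mpr ?_, rfl⟩
      intro q
      apply Subtype.ext
      exact Subgroup.mem_centralizer_singleton_iff.mp (hQC q.2)
    · rw [Subgroup.card_map_of_injective Q.subtype_injective, hQ.2, Nat.card_zpowers, hz]
  refine ⟨hzQ, ?_, hZz, ?_⟩
  · apply le_antisymm
    · intro x hx
      rw [Subgroup.mem_centralizer_iff] at hx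
      have hxz : x * z = z * x := (hx z hzQ).symm
      have hxQ : x ∈ Q := key x hxz (fun q hq => (hx q hq).symm)
      refine ⟨⟨x, hxQ⟩, Subgroup.mem_center_iff.mpr ?_, rfl⟩
      intro q
      apply Subtype.ext
      exact hx q q.2
    · rintro _ ⟨c, hc, rfl⟩
      rw [Subgroup.mem_centralizer_iff]
      intro q hq
      have := (Subgroup.mem_center_iff.mp hc) ⟨q, hq⟩
      exact congrArg Subtype.val this
  · intro x hx
    rw [hZz, Subgroup.mem_centralizer_iff] at hx
    have hxz : x * z = z * x := (hx z (Subgroup.mem_zpowers z)).symm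
    have hxH : x ∈ Subgroup.centralizer ({z} : Set G) :=
      Subgroup.mem_centralizer_singleton_iff.mpr hxz
    apply Cfsg.Agent.Helper3.LargeES.mem_normalizer_of_conj_mem'
    intro q hq
    rw [← hF] at hq ⊢
    obtain ⟨f, hf, rfl⟩ := hq
    exact ⟨_, hFn.conj_mem f hf ⟨x, hxH⟩, rfl⟩

end aux

/-- Let z be an involution of the finite group G whose centralizer C has generalized Fitting subgroup Q, an extraspecial 2-group of width at least 2 (order 2^(2w+1), w ≥ 2). Let K be a subgroup of G such that the subgroup U generated by the K-conjugates of z is abelian and C is generated by the C-conjugates of U. Suppose that either some K-conjugate of z other than z lies in Q, or some element u of U ∩ Q outside the subgroup generated by z has z in the largest normal 2-subgroup of its centralizer. Then G is simple and Q is a large extraspecial 2-subgroup of G. -/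
theorem result {G : Type*} [Group G] [Finite G] (z : G) (hz : orderOf z = 2) (Q : Subgroup G) (hQC : Q ≤ Subgroup.centralizer ({z} : Set G)) (hF : (Cfsg.generalizedFittingSubgroup ↥(Subgroup.centralizer ({z} : Set G))).map (Subgroup.centralizer ({z} : Set G)).subtype = Q) (hQ : Cfsg.IsExtraspecial 2 ↥Q) (w : ℕ) (hw : 2 ≤ w) (hcard : Nat.card ↥Q = 2 ^ (2 * w + 1)) (K U : Subgroup G) (hU : U = Subgroup.closure {x : G | ∃ k ∈ K, x = k * z * k⁻¹}) (hUab : IsMulCommutative ↥U) (hgen : Subgroup.closure {x : G | ∃ c ∈ Subgroup.centralizer ({z} : Set G), ∃ u ∈ U, x = c * u * c⁻¹} = Subgroup.centralizer ({z} : Set G)) (h3 : (∃ k ∈ K, k * z * k⁻¹ ∈ Q ∧ k * z * k⁻¹ ≠ z) ∨ ∃ u ∈ U ⊓ Q, u ∉ Subgroup.zpowers z ∧ (∃ hz' : z ∈ Subgroup.centralizer ({u} : Set G), (⟨z, hz'⟩ : ↥(Subgroup.centralizer ({u} : Set G))) ∈ Cfsg.pCore 2 ↥(Subgroup.centralizer ({u} : Set G)))) : IsSimpleGroup G ∧ Cfsg.IsLargeExtraspecial Q := by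
  obtain ⟨hzQ, hL2, hZz, hL3⟩ := bridge z hz Q hQC hF hQ
  have hz1 : z ≠ 1 := by
    intro h1
    rw [h1, orderOf_one] at hz
    exact absurd hz (by norm_num)
  have hzz : z * z = 1 := by
    have := pow_orderOf_eq_one z
    rwa [hz, pow_two] at this
  have hzp : ∀ x ∈ Subgroup.zpowers z, x = 1 ∨ x = z := by
    intro x hx
    obtain ⟨n, rfl⟩ := Subgroup.mem_zpowers_iff.mp hx
    rcases Int.even_or_odd' n with ⟨m, hm | hm⟩
    · left
      rw [hm, zpow_mul, zpow_two, hzz, one_zpow]
    · right
      rw [hm, zpow_add, zpow_mul, zpow_two, hzz, one_zpow, one_mul, zpow_one]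
  have hLarge : Cfsg.IsLargeExtraspecial Q := by
    rcases h3 with ⟨k, hkK, hkQ, hkz⟩ | ⟨u, hu, huz, hz', hcore⟩
    · refine (Cfsg.Agent.S5422.result Q hQ hL2 hL3 w hw hcard k ?_ ?_).2.2
      · intro hk
        rw [hZz] at hk
        have h1 : k * z * k⁻¹ ∈ Subgroup.zpowers z :=
          (Subgroup.mem_normalizer_iff.mp hk z).mp (Subgroup.mem_zpowers z)
        rcases hzp _ h1 with h2 | h2
        · apply hz1
          have : z = k⁻¹ * (k * z * k⁻¹) * k := by group
          rw [this, h2]; group
        · exact hkz h2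
      · rw [hZz]
        rintro _ ⟨x, hx, rfl⟩
        rcases hzp x hx with h1 | h1
        · rw [h1, map_one]; exact Q.one_mem
        · rw [h1]; exact hkQ
    · have huU : u ∈ U := hu.1
      have huQ : u ∈ Q := hu.2
      have hsq : ∀ x ∈ U, x * x = 1 := by
        intro x hx
        rw [hU] at hx
        induction hx using Subgroup.closure_induction with
        | mem x hx =>
          obtain ⟨k, _, rfl⟩ := hx
          calc k * z * k⁻¹ * (k * z * k⁻¹) = k * (z * z) * k⁻¹ := by group
            _ = 1 := by rw [hzz]; group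
        | one => exact one_mul 1
        | mul x y hx hy ihx ihy =>
          have hxU : x ∈ U := hU ▸ hx
          have hyU : y ∈ U := hU ▸ hy
          have hc : x * y = y * x :=
            congrArg Subtype.val (hUab.is_comm.comm ⟨x, hxU⟩ ⟨y, hyU⟩)
          calc x * y * (x * y) = x * (y * x) * y := by group
            _ = x * (x * y) * y := by rw [hc]
            _ = (x * x) * (y * y) := by group
            _ = 1 := by rw [ihx, ihy, one_mul]
        | inv x hx ihx =>
          calc x⁻¹ * x⁻¹ = (x * x)⁻¹ := by group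
            _ = 1 := by rw [ihx, inv_one]
      have hu1 : u ≠ 1 := by
        intro h1
        apply huz
        rw [h1]; exact Subgroup.one_mem _
      have hou : orderOf u = 2 := by
        apply orderOf_eq_prime
        · rw [pow_two]; exact hsq u huU
        · exact hu1
      refine Cfsg.Agent.S5421.result Q hQ hL2 hL3 u huQ ?_ hou ?_
      · rw [hZz]; exact huz
      · rw [hZz, Subgroup.zpowers_le]
        exact ⟨_, hcore, rfl⟩
  refine ⟨Cfsg.Agent.Helper3.LargeSimple.isSimpleGroup_of_large Q hLarge z hZz ?_, hLarge⟩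
  rw [← hgen, Subgroup.closure_le]
  rintro _ ⟨c, _, u, hu, rfl⟩
  have hUle : U ≤ Subgroup.normalClosure ({z} : Set G) := by
    rw [hU, Subgroup.closure_le]
    rintro _ ⟨k, _, rfl⟩
    exact Subgroup.normalClosure_normal.conj_mem z
      (Subgroup.subset_normalClosure (Set.mem_singleton z)) k
  exact Subgroup.normalClosure_normal.conj_mem u (hUle hu) c

end Cfsg.Agent.S5427
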