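import Cfsg.Statements.S1592
import Cfsg.Agent.Helper22.Ternary
import Cfsg.Agent.Helper22.Bitmask
import Mathlib

set_option autoImplicit false
open Cfsg

namespace Cfsg.Agent.S1592

open Cfsg.Agent.Helper22.Tern
open Cfsg.Agent.Helper22.Bitmask

/-- Indexing of the twelve positions. -/
def eA : ArrayPt ≃ Fin 12 := (finProdFinEquiv : Fin 4 × Fin 3 ≃ Fin (4 * 3))

/-- Masks of the supports of the weight-6 words. -/
def HM : Finset ℕ :=
  (Finset.univ.filter (fun c : E => (ternarySupport (enc c)).card = 6)).image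
    (fun c => toMask eA (ternarySupport (enc c)))

theorem cardHM : HM.card = 132 := by decide +kernel

theorem steiner_masks : ∀ a ∈ Finset.range 64, ∀ b ∈ Finset.range 64,
    popc 12 (64 * a + b) = 5 →
      (HM.filter (fun h => (64 * a + b) &&& h = (64 * a + b))).card = 1 := by
  decide +kernel

theorem steiner_mask (m : ℕ) (hm : m < 2 ^ 12) (h5 : popc 12 m = 5) :
    (HM.filter (fun h => m &&& h = m)).card = 1 := by
  have h1 : m = 64 * (m / 64) + m % 64 := (Nat.div_add_mod m 64).symm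
  have h2 : m / 64 < 64 := by omega
  have h3 : m % 64 < 64 := Nat.mod_lt _ (by norm_num)
  have := steiner_masks (m / 64) (Finset.mem_range.2 h2) (m % 64) (Finset.mem_range.2 h3)
  rw [← h1] at this
  exact this h5

def Hset : Set (Finset ArrayPt) :=
  {h : Finset ArrayPt | ∃ x ∈ ternaryGolayCode, ternarySupport x = h ∧ h.card = 6}

theorem mem_HM_iff (h : ℕ) : h ∈ HM ↔
    ∃ c : E, (ternarySupport (enc c)).card = 6 ∧ toMask eA (ternarySupport (enc c)) = h := by
  simp [HM]

theorem mem_Hset_iff (h : Finset ArrayPt) : h ∈ Hset ↔ toMask eA h ∈ HM := by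
  rw [mem_HM_iff]
  constructor
  · rintro ⟨x, hx, rfl, h6⟩
    obtain ⟨c, rfl⟩ := (mem_code_iff x).1 hx
    exact ⟨c, h6, rfl⟩
  · rintro ⟨c, h6, hc⟩
    have := toMask_injective eA hc
    subst this
    exact ⟨enc c, enc_mem c, rfl, h6⟩

theorem ofMask_mem_Hset (h : ℕ) (hh : h ∈ HM) : ofMask eA h ∈ Hset ∧ toMask eA (ofMask eA h) = h := by
  obtain ⟨c, h6, rfl⟩ := (mem_HM_iff h).1 hh
  rw [ofMask_toMask]
  exact ⟨⟨enc c, enc_mem c, rfl, h6⟩, rfl⟩

/-- The supports of the weight-6 words of the length-12 ternary code form a Steiner system S(5, 6, 12) with 132 blocks. -/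
theorem result : Cfsg.IsSteinerSystem 5 6 {h : Finset Cfsg.ArrayPt | ∃ x ∈ Cfsg.ternaryGolayCode, Cfsg.ternarySupport x = h ∧ h.card = 6} ∧ {h : Finset Cfsg.ArrayPt | ∃ x ∈ Cfsg.ternaryGolayCode, Cfsg.ternarySupport x = h ∧ h.card = 6}.ncard = 132 := by
  change IsSteinerSystem 5 6 Hset ∧ Hset.ncard = 132
  refine ⟨⟨?_, ?_⟩, ?_⟩
  · rintro b ⟨x, _, _, h6⟩
    exact h6
  · intro s hs
    have hm := toMask_lt eA s
    have h5 : popc 12 (toMask eA s) = 5 := by rw [← card_eq_popc eA s, hs]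
    obtain ⟨h0, hh0⟩ := Finset.card_eq_one.1 (steiner_mask _ hm h5)
    have hmem : h0 ∈ HM.filter (fun h => toMask eA s &&& h = toMask eA s) := by
      rw [hh0]; exact Finset.mem_singleton_self _
    rw [Finset.mem_filter] at hmem
    obtain ⟨hb0, hb0'⟩ := ofMask_mem_Hset h0 hmem.1
    refine ⟨ofMask eA h0, ⟨hb0, ?_⟩, ?_⟩
    · have := ofMask_subset_of_land eA _ _ hmem.2
      rwa [ofMask_toMask] at this
    · rintro b ⟨hb, hsb⟩
      have h1 : toMask eA b ∈ HM := (mem_Hset_iff b).1 hb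
      have h2 : toMask eA s &&& toMask eA b = toMask eA s := (toMask_subset_iff eA s b).1 hsb
      have h3 : toMask eA b ∈ HM.filter (fun h => toMask eA s &&& h = toMask eA s) :=
        Finset.mem_filter.2 ⟨h1, h2⟩
      rw [hh0, Finset.mem_singleton] at h3
      rw [← h3, ofMask_toMask]
  · have himg : toMask eA '' Hset = ↑HM := by
      ext h
      constructor
      · rintro ⟨b, hb, rfl⟩
        exact (mem_Hset_iff b).1 hb
      · intro hh
        obtain ⟨h1, h2⟩ := ofMask_mem_Hset h hh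
        exact ⟨_, h1, h2⟩
    rw [← Set.ncard_image_of_injective _ (toMask_injective eA), himg, Set.ncard_coe_finset, cardHM]

end Cfsg.Agent.S1592
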