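import Cfsg.Statements.S1593
import Cfsg.Agent.Helper22.Ternary
import Cfsg.Agent.Helper22.Bitmask
import Mathlib

set_option autoImplicit false
open Cfsg

namespace Cfsg.Agent.S1593

open Cfsg.Agent.Helper22.Tern
open Cfsg.Agent.Helper22.Bitmask

/-- Indexing of the twelve positions. -/
def eA : ArrayPt ≃ Fin 12 := (finProdFinEquiv : Fin 4 × Fin 3 ≃ Fin (4 * 3))

/-- Sign pattern attached to a mask. -/
def sgn (m : ℕ) (p : ArrayPt) : ZMod 3 := if m.testBit (eA p) = true then 2 else 1

theorem brute : ∀ a ∈ Finset.range 64, ∀ b ∈ Finset.range 64,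
    (IsTG (fun p => sgn (64 * a + b) p * B0 p) ∧ IsTG (fun p => sgn (64 * a + b) p * B1 p) ∧
     IsTG (fun p => sgn (64 * a + b) p * B2 p) ∧ IsTG (fun p => sgn (64 * a + b) p * B3 p) ∧
     IsTG (fun p => sgn (64 * a + b) p * B4 p) ∧ IsTG (fun p => sgn (64 * a + b) p * B5 p)) →
    (64 * a + b = 0 ∨ 64 * a + b = 4095) := by
  decide +kernel

theorem brute' (m : ℕ) (hm : m < 2 ^ 12)
    (h : IsTG (fun p => sgn m p * B0 p) ∧ IsTG (fun p => sgn m p * B1 p) ∧
     IsTG (fun p => sgn m p * B2 p) ∧ IsTG (fun p => sgn m p * B3 p) ∧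
     IsTG (fun p => sgn m p * B4 p) ∧ IsTG (fun p => sgn m p * B5 p)) :
    m = 0 ∨ m = 4095 := by
  have h1 : m = 64 * (m / 64) + m % 64 := (Nat.div_add_mod m 64).symm
  have h2 : m / 64 < 64 := by omega
  have h3 : m % 64 < 64 := Nat.mod_lt _ (by norm_num)
  have := brute (m / 64) (Finset.mem_range.2 h2) (m % 64) (Finset.mem_range.2 h3)
  rw [← h1] at this
  exact this h

theorem units_cases : ∀ u : (ZMod 3)ˣ, u = 1 ∨ u = -1 := by decide

/-- The only sign changes preserving the length-12 ternary code are the identity and negation of all coordinates. -/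
theorem result (c : Cfsg.ArrayPt → (ZMod 3)ˣ) (h : (∀ x ∈ Cfsg.ternaryGolayCode, Cfsg.monomialMap 1 c x ∈ Cfsg.ternaryGolayCode)) : (∀ p, c p = 1) ∨ (∀ p, c p = -1) := by
  set S : Finset ArrayPt := Finset.univ.filter (fun p => c p = -1) with hS
  set m := toMask eA S with hm
  have hlt : m < 2 ^ 12 := toMask_lt eA S
  have hsgn : ∀ p, ((c p : (ZMod 3)ˣ) : ZMod 3) = sgn m p := by
    intro p
    have hbit : (m.testBit (eA p) = true) ↔ c p = -1 := by
      rw [hm, testBit_toMask_apply, hS]; simp
    unfold sgn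
    by_cases hc : c p = -1
    · rw [if_pos (hbit.2 hc), hc]; rfl
    · rw [if_neg (fun hb => hc (hbit.1 hb))]
      rcases units_cases (c p) with h1 | h1
      · rw [h1]; rfl
      · exact absurd h1 hc
  have hmap : ∀ x : ArrayPt → ZMod 3, monomialMap 1 c x = fun p => sgn m p * x p := by
    intro x
    funext p
    unfold monomialMap
    rw [hsgn]
    rfl
  have hB : ∀ x ∈ ternaryGolayCode, IsTG (fun p => sgn m p * x p) := by
    intro x hx
    rw [← hmap, ← mem_code_iff_isTG]
    exact h x hx
  rcases brute' m hlt ⟨hB _ B0_mem, hB _ B1_mem, hB _ B2_mem, hB _ B3_mem, hB _ B4_mem, hB _ B5_mem⟩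
    with h0 | h1
  · left
    intro p
    have h2 : sgn m p = 1 := by
      unfold sgn
      rw [h0]
      simp
    rcases units_cases (c p) with h3 | h3
    · exact h3
    · exfalso
      have := hsgn p
      rw [h2, h3] at this
      revert this
      decide
  · right
    intro p
    have h2 : sgn m p = 2 := by
      unfold sgn
      rw [h1]
      have : (4095 : ℕ) = 2 ^ 12 - 1 := by norm_num
      rw [this, Nat.testBit_two_pow_sub_one]
      simp [(eA p).2]
    rcases units_cases (c p) with h3 | h3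
    · exfalso
      have := hsgn p
      rw [h2, h3] at this
      revert this
      decide
    · exact h3

end Cfsg.Agent.S1593
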