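import Cfsg.Statements.S0295
import Cfsg.Agent.Helper28.Siegel6
import Cfsg.Agent.S2614
import Cfsg.Agent.S0292

set_option autoImplicit false
open Cfsg

namespace Cfsg.Agent.S0295

open Cfsg.Agent.Helper28.Spin Cfsg.Agent.Helper28.Sg Cfsg.Agent.S2614

/-- PΩ_{2m+1}(q) is simple for q odd and m at least 3. -/
theorem result {F : Type*} [Field F] [Fintype F] (hodd : Odd (Fintype.card F)) (m : ℕ) (hm : 3 ≤ m) : IsSimpleGroup (Cfsg.POmega F (Cfsg.quadFormOdd m F)) := by
  have h2 : (2 : F) ≠ 0 := by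
    apply Ring.two_ne_zero
    intro h
    rw [FiniteField.even_card_iff_char_two] at h
    rcases hodd with ⟨k, hk⟩
    omega
  have hQ := Cfsg.Agent.S0292.QfOdd_nondeg h2 (F := F) m
  let a : Fin 3 → Unit ⊕ (Fin m ⊕ Fin m) := fun j => Sum.inr (Sum.inl (Fin.castLE (by omega) j))
  let b : Fin 3 → Unit ⊕ (Fin m ⊕ Fin m) := fun j => Sum.inr (Sum.inr (Fin.castLE (by omega) j))
  have hinj : Function.Injective (Sum.elim a b) := by
    intro x y h
    rcases x with x | x <;> rcases y with y | y <;>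
      simp only [Sum.elim_inl, Sum.elim_inr, a, b, Sum.inl.injEq, Sum.inr.injEq, reduceCtorEq,
        Fin.castLE_inj] at h
    · rw [h]
    · rw [h]
  let fr : Frame3 (QfOdd m F) := frameOf a b hinj (fun j => hypPair_odd m _)
  have := POmega_simple hQ fr (hgen_odd h2 hQ)
  rw [QfOdd_coe] at this
  exact this

end Cfsg.Agent.S0295
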