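import Cfsg.Statements.S0316
import Cfsg.Agent.Helper2.BN.Parabolic

set_option autoImplicit false
open Cfsg

namespace Cfsg.Agent.S0316

open Cfsg.Agent.Helper2.BN

/-- The map `J ↦ P_J` is a lattice isomorphism from the power set of the set of distinguished generators onto the
subgroups containing `B`. -/
theorem result {G : Type*} [Group G] (P : Cfsg.BNPair G) :
    ∃ e : Set P.S ≃o {M : Subgroup G // P.B ≤ M},
      ∀ J : Set P.S, ((e J : {M : Subgroup G // P.B ≤ M}) : Subgroup G) = P.parabolic (Subtype.val '' J) := by
  have himg : ∀ J : Set P.S, Subtype.val '' J ⊆ P.S := by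
    rintro J _ ⟨s, _, rfl⟩
    exact s.2
  have hmem : ∀ (J : Set P.S) (s : P.S), (s : G) ∈ P.parabolic (Subtype.val '' J) ↔ s ∈ J := by
    intro J s
    constructor
    · intro h
      have := mem_of_mem_parabolic (himg J) s.2 h
      exact (Subtype.val_injective.mem_set_image).mp this
    · intro h
      exact closure_le_parabolic _ (Subgroup.subset_closure ⟨s, h, rfl⟩)
  refine ⟨{ toFun := fun J => ⟨P.parabolic (Subtype.val '' J), B_le_parabolic _⟩
            invFun := fun M => {s : P.S | (s : G) ∈ M.1}
            left_inv := ?_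
            right_inv := ?_
            map_rel_iff' := ?_ }, ?_⟩
  · intro J
    ext s
    exact hmem J s
  · rintro ⟨M, hM⟩
    apply Subtype.ext
    show P.parabolic (Subtype.val '' {s : P.S | (s : G) ∈ M}) = M
    have : Subtype.val '' {s : P.S | (s : G) ∈ M} = P.S ∩ (M : Set G) := by
      ext x
      constructor
      · rintro ⟨s, hs, rfl⟩
        exact ⟨s.2, hs⟩
      · rintro ⟨hx1, hx2⟩
        exact ⟨⟨x, hx1⟩, hx2, rfl⟩
    rw [this]
    exact (eq_parabolic_of_le M hM).symm
  · intro J K
    show P.parabolic (Subtype.val '' J) ≤ P.parabolic (Subtype.val '' K) ↔ J ≤ K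
    constructor
    · intro h s hs
      exact (hmem K s).mp (h ((hmem J s).mpr hs))
    · intro h
      exact parabolic_mono (Set.image_mono h)
  · intro J
    rfl

end Cfsg.Agent.S0316
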