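import Mathlib
import Cfsg.Statements.S1456
import Cfsg.Agent.Helper19.RankTwoAut
import Cfsg.Agent.Helper19.NarrowAut
import Cfsg.Agent.Helper19.FitCrit
import Cfsg.Agent.Helper7.RankSylow
import Cfsg.Agent.Helper7.Fitting
import Cfsg.Agent.Helper14.PCore
import Cfsg.Agent.Helper26.Thompson
import Cfsg.Agent.S1451
import Cfsg.Agent.S1453

set_option autoImplicit false
open Cfsg

namespace Cfsg.Agent.S1456

open Subgroup Cfsg.Agent.Helper7 Cfsg.Agent.Helper19 Cfsg.Agent.S3785 Cfsg.Agent.Helper26
open scoped commutatorElement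

/-- A `p'`-element `x` commutes with `w` as soon as some power `x ^ p ^ a` does. -/
theorem commute_of_pow_commute {G : Type*} [Group G] [Finite G] {p : ℕ}
    (x w : G) (hx : (orderOf x).Coprime p) (a : ℕ) (h : w * x ^ p ^ a = x ^ p ^ a * w) :
    x * w = w * x := by
  by_cases h1 : orderOf x = 1
  · rw [orderOf_eq_one_iff] at h1
    rw [h1]; simp
  have h2 : 1 < orderOf x := by
    have := orderOf_pos x
    omega
  have h3 : Nat.Coprime (p ^ a) (orderOf x) := (Nat.Coprime.pow_right a hx).symm
  obtain ⟨m, -, hm⟩ := Nat.exists_mul_mod_eq_one_of_coprime h3 h2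
  have h4 : (x ^ p ^ a) ^ m = x := by
    rw [← pow_mul, ← pow_mod_orderOf, hm, pow_one]
  have h5 : Commute w (x ^ p ^ a) := h
  have h6 : Commute w ((x ^ p ^ a) ^ m) := h5.pow_right m
  rw [h4] at h6
  exact h6.eq.symm

/-- Let G be a solvable group of odd order, p a prime, and E an elementary abelian p-subgroup of the Fitting subgroup F(G) such that F(G) ∩ C_G(E) has no elementary abelian subgroup of order q ^ 3 for any prime q. Then the derived subgroup of G is contained in F(G). -/
theorem result {G : Type*} [Group G] [Finite G] [Group.IsSolvable G] (hodd : Odd (Nat.card G)) (p : ℕ) [Fact p.Prime] (E : Subgroup G) (hE : E ≤ Cfsg.fittingSubgroup G) (hEe : Cfsg.IsElementaryAbelian p E)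
    (hr : Cfsg.RankLE 2 ↥(Cfsg.fittingSubgroup G ⊓ Subgroup.centralizer (E : Set G))) :
    commutator G ≤ Cfsg.fittingSubgroup G := by
  classical
  have hsolv : Group.IsSolvable G := inferInstance
  have hpp : p.Prime := Fact.out
  set F := Cfsg.fittingSubgroup G with hF
  set D : Subgroup G := commutator G with hD
  have hDn : D.Normal := inferInstance
  set K : Subgroup G := F ⊓ Subgroup.centralizer (E : Set G) with hK
  have hQp : ∀ (q : ℕ) [Fact q.Prime], IsPGroup q ↥(pCore q G) :=
    fun q _ => Cfsg.Agent.Helper14.pCore_isPGroup q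
  -- `E ≤ O_p(G)`
  have hEP : E ≤ pCore p G := by
    intro x hx
    have hxp : x ^ p = 1 := hEe.2 x hx
    have h1 : orderOf x ∣ p := orderOf_dvd_of_pow_eq_one hxp
    rcases (Nat.dvd_prime hpp).mp h1 with h | h
    · exact mem_pCore_of_mem_fitting (hE hx) (j := 0) (by rw [h, pow_zero])
    · exact mem_pCore_of_mem_fitting (hE hx) (j := 1) (by rw [h, pow_one])
  have hconj : ∀ (q : ℕ) [Fact q.Prime] (x : G),
      (MulAut.conjNormal x : MulAut ↥(pCore q G)) = 1 → ∀ w ∈ pCore q G, x * w = w * x := by
    intro q _ x hx w hw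
    have h1 := congrArg (fun f : MulAut ↥(pCore q G) => ((f ⟨w, hw⟩ : ↥(pCore q G)) : G)) hx
    have h2 : x * w * x⁻¹ = w := h1
    calc x * w = (x * w * x⁻¹) * x := by group
      _ = w * x := by rw [h2]
  have hDCP : ∀ q : ℕ, D ≤ Cfsg.Agent.Helper19.NarrowAut.commPow q G := by
    intro q
    rw [hD, _root_.commutator_def, Subgroup.commutator_le]
    intro x _ y _
    exact Subgroup.subset_closure (Or.inl ⟨x, y, rfl⟩)
  -- `q'`-elements of `G'` centralize `O_q(G)`
  have K1 : ∀ (q : ℕ) [Fact q.Prime], ∀ x ∈ D, (orderOf x).Coprime q →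
      ∀ w ∈ pCore q G, x * w = w * x := by
    intro q hq x hx hxq w hw
    by_cases hq2 : q = 2
    · subst hq2
      rw [Cfsg.Agent.S1451.pCore_two_eq_bot hodd, mem_bot] at hw
      rw [hw]; simp
    by_cases hrkq : Cfsg.PRankLE q 2 ↥(pCore q G)
    · apply hconj q x _ w hw
      let ρ : G →* MulAut ↥(pCore q G) := MulAut.conjNormal
      obtain ⟨k, hk⟩ := Cfsg.Agent.Helper19.RankTwoAut.commutator_pow_eq_one q hq2 (hQp q)
        hrkq hodd ρ x hx
      have h2 : ρ x ^ orderOf x = 1 := by rw [← map_pow, pow_orderOf_eq_one, map_one]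
      have h3 := pow_gcd_eq_one.mpr ⟨hk, h2⟩
      have h4 : Nat.gcd (q ^ k) (orderOf x) = 1 := (Nat.Coprime.pow_right k hxq).symm
      rw [h4, pow_one] at h3
      exact h3
    -- now `q = p` and `O_p(G)` has rank at least three
    have hqp : q = p := by
      by_contra hne
      apply hrkq
      have hle : pCore q G ≤ K := by
        apply le_inf (pCore_le_fittingSubgroup q)
        intro y hy
        rw [mem_centralizer_iff]
        intro z hz
        have h1 : ⁅y, z⁆ ∈ ⁅pCore q G, pCore p G⁆ := commutator_mem_commutator hy (hEP hz)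
        haveI : Fact p.Prime := ⟨hpp⟩
        rw [pCore_commute_of_ne hne, mem_bot, commutatorElement_eq_one_iff_mul_comm] at h1
        exact h1.symm
      exact PRankLE.of_injective (Subgroup.inclusion hle) (Subgroup.inclusion_injective hle)
        (hr q hq.out)
    subst hqp
    set P : Subgroup G := pCore q G with hPdef
    have hPp : IsPGroup q ↥P := hQp q
    have hPF : P ≤ F := pCore_le_fittingSubgroup q
    -- a maximal elementary abelian subgroup of `P` containing `E`
    let 𝒜 : Set (Subgroup G) := {A | E ≤ A ∧ A ≤ P ∧ Cfsg.IsElementaryAbelian q A}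
    obtain ⟨A, hA𝒜, hAmax⟩ := (wellFounded_gt (α := Subgroup G)).has_min 𝒜 ⟨E, le_rfl, hEP, hEe⟩
    obtain ⟨hEA, hAP, hAe⟩ := hA𝒜
    have hAcomm : ∀ a ∈ A, ∀ b ∈ A, a * b = b * a := (isElementaryAbelian_iff.mp hAe).1
    have hAexp : ∀ a ∈ A, a ^ q = 1 := hAe.2
    have hm1 : ∀ d ∈ P, d ^ q = 1 → (∀ a ∈ A, d * a = a * d) → d ∈ A := by
      intro d hdP hdq hdA
      by_contra hdn
      have h1 : Cfsg.IsElementaryAbelian q (A ⊔ zpowers d) := by
        apply isElementaryAbelian_sup hAe (isElementaryAbelian_zpowers_of_orderOf_eq hdq)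
        intro a ha b hb
        obtain ⟨k, rfl⟩ := mem_zpowers_iff.mp hb
        have h2 : Commute d a := hdA a ha
        exact ((h2.zpow_left k).eq).symm
      have h2 : A ⊔ zpowers d ∈ 𝒜 :=
        ⟨hEA.trans le_sup_left, sup_le hAP (zpowers_le.mpr hdP), h1⟩
      apply hAmax _ h2
      refine lt_of_le_of_ne le_sup_left ?_
      intro h3
      apply hdn
      rw [h3]
      exact (le_sup_right : zpowers d ≤ A ⊔ zpowers d) (mem_zpowers d)
    -- `|A| ≤ q ^ 2`
    have hAK : A ≤ K := by
      apply le_inf (hAP.trans hPF)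
      intro y hy
      rw [mem_centralizer_iff]
      intro z hz
      exact hAcomm z (hEA hz) y hy
    have hAcard : Nat.card A ≤ q ^ 2 := by
      have h1 := hr q hq.out (A.subgroupOf K) (isElementaryAbelian_subgroupOf K hAe).1
        (isElementaryAbelian_subgroupOf K hAe).2
      rwa [Nat.card_congr (Subgroup.subgroupOfEquivOfLe hAK).toEquiv] at h1
    -- `A` is not central in `P`
    have hm3 : ∃ e ∈ A, ∃ y ∈ P, e * y ≠ y * e := by
      by_contra hcon
      push Not at hcon
      apply hrkq
      have hle : P ≤ K := by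
        apply le_inf hPF
        intro y hy
        rw [mem_centralizer_iff]
        intro z hz
        exact hcon z (hEA hz) y hy
      exact PRankLE.of_injective (Subgroup.inclusion hle) (Subgroup.inclusion_injective hle)
        (hr q hq.out)
    obtain ⟨e, heA, y₀, hy₀P, hey₀⟩ := hm3
    have heP : e ∈ P := hAP heA
    have he1 : e ≠ 1 := by
      rintro rfl
      exact hey₀ (by simp)
    -- the central part of `A`
    set Zc : Subgroup G := A ⊓ centralizer (P : Set G) with hZc
    have heZc : e ∉ Zc := by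
      intro h
      have h1 : e ∈ centralizer (P : Set G) := h.2
      rw [mem_centralizer_iff] at h1
      exact hey₀ (h1 y₀ hy₀P).symm
    have hZcne : Zc ≠ A := fun h => heZc (h ▸ heA)
    have hZcbot : Zc ≠ ⊥ := by
      -- a central element of order `q` of `P`
      haveI : Nontrivial ↥P := by
        refine ⟨⟨⟨e, heP⟩, 1, ?_⟩⟩
        intro h
        exact he1 (congrArg Subtype.val h)
      haveI : Nontrivial ↥(center ↥P) := hPp.center_nontrivial
      have h1 : q ∣ Nat.card ↥(center ↥P) := by
        obtain ⟨n, hn⟩ := IsPGroup.iff_card.mp (hPp.to_subgroup (center ↥P))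
        have hn0 : n ≠ 0 := by
          rintro rfl
          rw [pow_zero] at hn
          have := Finite.one_lt_card_iff_nontrivial.mpr (inferInstance : Nontrivial ↥(center ↥P))
          omega
        rw [hn]
        exact dvd_pow_self q hn0
      obtain ⟨z, hz⟩ := exists_prime_orderOf_dvd_card' q h1
      have hzc : ∀ y ∈ P, ((z : ↥P) : G) * y = y * ((z : ↥P) : G) := by
        intro y hy
        have h2 := (mem_center_iff.mp z.2) ⟨y, hy⟩
        exact (congrArg Subtype.val h2).symm
      have hzq : ((z : ↥P) : G) ^ q = 1 := by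
        have h2 : z ^ q = 1 := by rw [← hz]; exact pow_orderOf_eq_one z
        have h3 := congrArg (fun t : ↥(center ↥P) => ((t : ↥P) : G)) h2
        simpa using h3
      have hzA : ((z : ↥P) : G) ∈ A := hm1 _ (z : ↥P).2 hzq (fun a ha => hzc a (hAP ha))
      have hz1 : ((z : ↥P) : G) ≠ 1 := by
        intro h
        have h2 : z = 1 := by
          apply Subtype.ext; apply Subtype.ext; exact h
        rw [h2, orderOf_one] at hz
        exact hq.out.one_lt.ne hz
      intro hbot
      have h2' : ((z : ↥P) : G) ∈ centralizer (P : Set G) := by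
        rw [mem_centralizer_iff]
        intro y hy
        exact (hzc y hy).symm
      have h2 : ((z : ↥P) : G) ∈ Zc := ⟨hzA, h2'⟩
      rw [hbot, mem_bot] at h2
      exact hz1 h2
    have hApg : IsPGroup q ↥A := hPp.to_le hAP
    have hZccard : Nat.card Zc = q := by
      have h1 := Cfsg.Agent.Helper19.NarrowAut.mul_card_le_of_ne hApg (inf_le_left : Zc ≤ A) hZcne
      have h2 : Nat.card Zc ≤ q := by
        have h3 : q * Nat.card Zc ≤ q * q := by rw [← sq]; exact h1.trans hAcard
        exact Nat.le_of_mul_le_mul_left h3 hq.out.pos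
      have h4 : q * Nat.card (⊥ : Subgroup G) ≤ Nat.card Zc :=
        Cfsg.Agent.Helper19.NarrowAut.mul_card_le_of_ne
        (hApg.to_le (inf_le_left : Zc ≤ A)) (bot_le : (⊥ : Subgroup G) ≤ Zc) (Ne.symm hZcbot)
      rw [Subgroup.card_bot, mul_one] at h4
      exact le_antisymm h2 h4
    have hAcard2 : Nat.card A = q ^ 2 := by
      have h1 := Cfsg.Agent.Helper19.NarrowAut.mul_card_le_of_ne hApg (inf_le_left : Zc ≤ A) hZcne
      rw [hZccard, ← sq] at h1
      omega
    have hAeq : Zc ⊔ zpowers e = A :=
      Cfsg.Agent.S1453.sup_zpowers_eq Zc A inf_le_left hZccard hAcard2 e heA heZc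
    -- elements of `P` commuting with `e` commute with `A`
    have hcentA : ∀ d ∈ P, d * e = e * d → ∀ a ∈ A, d * a = a * d := by
      intro d hdP hde a ha
      have h1 : A ≤ centralizer ({d} : Set G) := by
        rw [← hAeq]
        apply sup_le
        · intro z hz
          rw [mem_centralizer_iff]
          intro y hy
          rw [Set.mem_singleton_iff] at hy
          subst hy
          have h2 : z ∈ centralizer (P : Set G) := hz.2
          rw [mem_centralizer_iff] at h2
          exact h2 y hdP
        · rw [zpowers_le, mem_centralizer_iff]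
          intro y hy
          rw [Set.mem_singleton_iff] at hy
          subst hy
          exact hde
      have h2 := h1 ha
      rw [mem_centralizer_iff] at h2
      exact h2 d rfl
    have hDA : ∀ D' : Subgroup G, D' ≤ P → (∀ d ∈ D', d ^ q = 1) → (∀ d ∈ D', d * e = e * d) →
        D' ≤ A := by
      intro D' hD'P hD'exp hD'e d hd
      exact hm1 d (hD'P hd) (hD'exp d hd) (hcentA d (hD'P hd) (hD'e d hd))
    -- an elementary abelian subgroup of order larger than `q ^ 2`
    unfold Cfsg.PRankLE at hrkq
    push Not at hrkq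
    obtain ⟨A₀, hA₀c, hA₀e, hA₀card⟩ := hrkq
    have hq2' : q ≠ 2 := hq2
    obtain ⟨a, ha⟩ := Cfsg.Agent.Helper19.NarrowAut.exists_pow_centralizes hq2' P hPp e heP he1
      (fun D' hD'P hD'exp hD'e heD' => by
        have h1 := hDA D' hD'P hD'exp hD'e
        have h2 : D' ≠ A := fun h => heD' (h ▸ heA)
        have h3 := Cfsg.Agent.Helper19.NarrowAut.mul_card_le_of_ne hApg h1 h2
        have h4 : q * Nat.card D' ≤ q * q := by rw [← sq]; exact h3.trans hAcard
        exact Nat.le_of_mul_le_mul_left h4 hq.out.pos)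
      (fun D' hD'P hD'exp hD'e => by
        have h1 := hDA D' hD'P hD'exp hD'e
        exact (Subgroup.card_le_of_le h1).trans hAcard)
      (A₀.map P.subtype) (by rintro _ ⟨a, -, rfl⟩; exact a.2)
      (by
        rintro _ ⟨a, ha, rfl⟩ _ ⟨b, hb, rfl⟩
        have := hA₀c.is_comm.comm (⟨a, ha⟩ : ↥A₀) ⟨b, hb⟩
        have h2 := congrArg (fun t : ↥A₀ => ((t : ↥P) : G)) this
        simpa using h2)
      (by
        rintro _ ⟨a, ha, rfl⟩
        have h2 := congrArg (fun t : ↥P => (t : G)) (hA₀e a ha)
        simpa using h2)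
      (by rw [Subgroup.card_map_of_injective P.subtype_injective]; exact hA₀card)
      x (hDCP q hx)
    exact commute_of_pow_commute x w hxq a (ha w hw)
  exact Cfsg.Agent.Helper19.FitCrit.le_fitting_of_coprime_centralizes hsolv D hDn K1

end Cfsg.Agent.S1456
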