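import Cfsg.Statements.S0583
import Mathlib

set_option autoImplicit false
open Cfsg

namespace Cfsg.Agent.S0583

/-- In a finite group the Fitting subgroup is contained in the centralizer of each minimal normal subgroup. -/
theorem result {G : Type*} [Group G] [Finite G] (M : Subgroup G) [M.Normal] (hM : M ≠ ⊥) (hmin : ∀ K : Subgroup G, K.Normal → K ≤ M → K = ⊥ ∨ K = M) : Cfsg.fittingSubgroup G ≤ Subgroup.centralizer (M : Set G) := by
  unfold Cfsg.fittingSubgroup
  apply sSup_le
  rintro N ⟨hNn, hNnil⟩
  have := hNn
  rw [← Subgroup.commutator_eq_bot_iff_le_centralizer, Subgroup.commutator_comm]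
  rcases hmin (M ⊓ N) inferInstance inf_le_left with h | h
  · have := Subgroup.commutator_le_inf (H₁ := M) (H₂ := N)
    rw [h] at this
    exact le_bot_iff.mp this
  · have hMN : M ≤ N := by rw [← h]; exact inf_le_right
    obtain ⟨n, hn⟩ := (Subgroup.isNilpotent_iff_lowerCentralSeries N).mp hNnil
    rcases hmin ⁅M, N⁆ inferInstance (Subgroup.commutator_le_left M N) with h1 | h1
    · exact h1
    · exfalso
      have key : ∀ k, M ≤ N.lowerCentralSeries k := by
        intro k
        induction k with
        | zero => simpa using hMN
        | succ k ih =>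
          rw [Subgroup.lowerCentralSeries_succ]
          calc M = ⁅M, N⁆ := h1.symm
            _ ≤ ⁅N.lowerCentralSeries k, N⁆ := Subgroup.commutator_mono ih le_rfl
      have := key n
      rw [hn] at this
      exact hM (le_bot_iff.mp this)

end Cfsg.Agent.S0583
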