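import Cfsg.Statements.S0493
import Mathlib
import Cfsg.Agent.Helper11.NoSimple
import Cfsg.Agent.S0144

set_option autoImplicit false
set_option linter.style.haveILetI false
open Cfsg

namespace Cfsg.Agent.S0493

theorem key (n : ℕ) (hn : n ≤ 100) (h0 : 0 < n) : n = 60 ∨ n = 84 ∨ (n % 4 = 2 ∧ 2 < n) ∨
    ∃ p q a b : ℕ, p.Prime ∧ q.Prime ∧ n = p ^ a * q ^ b := by
  interval_cases n
  · exact Or.inr (Or.inr (Or.inr ⟨2, 2, 0, 0, by norm_num, by norm_num, by norm_num⟩))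
  · exact Or.inr (Or.inr (Or.inr ⟨2, 2, 1, 0, by norm_num, by norm_num, by norm_num⟩))
  · exact Or.inr (Or.inr (Or.inr ⟨3, 2, 1, 0, by norm_num, by norm_num, by norm_num⟩))
  · exact Or.inr (Or.inr (Or.inr ⟨2, 2, 2, 0, by norm_num, by norm_num, by norm_num⟩))
  · exact Or.inr (Or.inr (Or.inr ⟨5, 2, 1, 0, by norm_num, by norm_num, by norm_num⟩))
  · exact Or.inr (Or.inr (Or.inr ⟨2, 3, 1, 1, by norm_num, by norm_num, by norm_num⟩))
  · exact Or.inr (Or.inr (Or.inr ⟨7, 2, 1, 0, by norm_num, by norm_num, by norm_num⟩))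
  · exact Or.inr (Or.inr (Or.inr ⟨2, 2, 3, 0, by norm_num, by norm_num, by norm_num⟩))
  · exact Or.inr (Or.inr (Or.inr ⟨3, 2, 2, 0, by norm_num, by norm_num, by norm_num⟩))
  · exact Or.inr (Or.inr (Or.inr ⟨2, 5, 1, 1, by norm_num, by norm_num, by norm_num⟩))
  · exact Or.inr (Or.inr (Or.inr ⟨11, 2, 1, 0, by norm_num, by norm_num, by norm_num⟩))
  · exact Or.inr (Or.inr (Or.inr ⟨2, 3, 2, 1, by norm_num, by norm_num, by norm_num⟩))
  · exact Or.inr (Or.inr (Or.inr ⟨13, 2, 1, 0, by norm_num, by norm_num, by norm_num⟩))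
  · exact Or.inr (Or.inr (Or.inr ⟨2, 7, 1, 1, by norm_num, by norm_num, by norm_num⟩))
  · exact Or.inr (Or.inr (Or.inr ⟨3, 5, 1, 1, by norm_num, by norm_num, by norm_num⟩))
  · exact Or.inr (Or.inr (Or.inr ⟨2, 2, 4, 0, by norm_num, by norm_num, by norm_num⟩))
  · exact Or.inr (Or.inr (Or.inr ⟨17, 2, 1, 0, by norm_num, by norm_num, by norm_num⟩))
  · exact Or.inr (Or.inr (Or.inr ⟨2, 3, 1, 2, by norm_num, by norm_num, by norm_num⟩))
  · exact Or.inr (Or.inr (Or.inr ⟨19, 2, 1, 0, by norm_num, by norm_num, by norm_num⟩))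
  · exact Or.inr (Or.inr (Or.inr ⟨2, 5, 2, 1, by norm_num, by norm_num, by norm_num⟩))
  · exact Or.inr (Or.inr (Or.inr ⟨3, 7, 1, 1, by norm_num, by norm_num, by norm_num⟩))
  · exact Or.inr (Or.inr (Or.inr ⟨2, 11, 1, 1, by norm_num, by norm_num, by norm_num⟩))
  · exact Or.inr (Or.inr (Or.inr ⟨23, 2, 1, 0, by norm_num, by norm_num, by norm_num⟩))
  · exact Or.inr (Or.inr (Or.inr ⟨2, 3, 3, 1, by norm_num, by norm_num, by norm_num⟩))
  · exact Or.inr (Or.inr (Or.inr ⟨5, 2, 2, 0, by norm_num, by norm_num, by norm_num⟩))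
  · exact Or.inr (Or.inr (Or.inr ⟨2, 13, 1, 1, by norm_num, by norm_num, by norm_num⟩))
  · exact Or.inr (Or.inr (Or.inr ⟨3, 2, 3, 0, by norm_num, by norm_num, by norm_num⟩))
  · exact Or.inr (Or.inr (Or.inr ⟨2, 7, 2, 1, by norm_num, by norm_num, by norm_num⟩))
  · exact Or.inr (Or.inr (Or.inr ⟨29, 2, 1, 0, by norm_num, by norm_num, by norm_num⟩))
  · exact Or.inr (Or.inr (Or.inl ⟨by norm_num, by norm_num⟩))
  · exact Or.inr (Or.inr (Or.inr ⟨31, 2, 1, 0, by norm_num, by norm_num, by norm_num⟩))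
  · exact Or.inr (Or.inr (Or.inr ⟨2, 2, 5, 0, by norm_num, by norm_num, by norm_num⟩))
  · exact Or.inr (Or.inr (Or.inr ⟨3, 11, 1, 1, by norm_num, by norm_num, by norm_num⟩))
  · exact Or.inr (Or.inr (Or.inr ⟨2, 17, 1, 1, by norm_num, by norm_num, by norm_num⟩))
  · exact Or.inr (Or.inr (Or.inr ⟨5, 7, 1, 1, by norm_num, by norm_num, by norm_num⟩))
  · exact Or.inr (Or.inr (Or.inr ⟨2, 3, 2, 2, by norm_num, by norm_num, by norm_num⟩))
  · exact Or.inr (Or.inr (Or.inr ⟨37, 2, 1, 0, by norm_num, by norm_num, by norm_num⟩))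
  · exact Or.inr (Or.inr (Or.inr ⟨2, 19, 1, 1, by norm_num, by norm_num, by norm_num⟩))
  · exact Or.inr (Or.inr (Or.inr ⟨3, 13, 1, 1, by norm_num, by norm_num, by norm_num⟩))
  · exact Or.inr (Or.inr (Or.inr ⟨2, 5, 3, 1, by norm_num, by norm_num, by norm_num⟩))
  · exact Or.inr (Or.inr (Or.inr ⟨41, 2, 1, 0, by norm_num, by norm_num, by norm_num⟩))
  · exact Or.inr (Or.inr (Or.inl ⟨by norm_num, by norm_num⟩))
  · exact Or.inr (Or.inr (Or.inr ⟨43, 2, 1, 0, by norm_num, by norm_num, by norm_num⟩))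
  · exact Or.inr (Or.inr (Or.inr ⟨2, 11, 2, 1, by norm_num, by norm_num, by norm_num⟩))
  · exact Or.inr (Or.inr (Or.inr ⟨3, 5, 2, 1, by norm_num, by norm_num, by norm_num⟩))
  · exact Or.inr (Or.inr (Or.inr ⟨2, 23, 1, 1, by norm_num, by norm_num, by norm_num⟩))
  · exact Or.inr (Or.inr (Or.inr ⟨47, 2, 1, 0, by norm_num, by norm_num, by norm_num⟩))
  · exact Or.inr (Or.inr (Or.inr ⟨2, 3, 4, 1, by norm_num, by norm_num, by norm_num⟩))
  · exact Or.inr (Or.inr (Or.inr ⟨7, 2, 2, 0, by norm_num, by norm_num, by norm_num⟩))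
  · exact Or.inr (Or.inr (Or.inr ⟨2, 5, 1, 2, by norm_num, by norm_num, by norm_num⟩))
  · exact Or.inr (Or.inr (Or.inr ⟨3, 17, 1, 1, by norm_num, by norm_num, by norm_num⟩))
  · exact Or.inr (Or.inr (Or.inr ⟨2, 13, 2, 1, by norm_num, by norm_num, by norm_num⟩))
  · exact Or.inr (Or.inr (Or.inr ⟨53, 2, 1, 0, by norm_num, by norm_num, by norm_num⟩))
  · exact Or.inr (Or.inr (Or.inr ⟨2, 3, 1, 3, by norm_num, by norm_num, by norm_num⟩))
  · exact Or.inr (Or.inr (Or.inr ⟨5, 11, 1, 1, by norm_num, by norm_num, by norm_num⟩))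
  · exact Or.inr (Or.inr (Or.inr ⟨2, 7, 3, 1, by norm_num, by norm_num, by norm_num⟩))
  · exact Or.inr (Or.inr (Or.inr ⟨3, 19, 1, 1, by norm_num, by norm_num, by norm_num⟩))
  · exact Or.inr (Or.inr (Or.inr ⟨2, 29, 1, 1, by norm_num, by norm_num, by norm_num⟩))
  · exact Or.inr (Or.inr (Or.inr ⟨59, 2, 1, 0, by norm_num, by norm_num, by norm_num⟩))
  · exact Or.inl rfl
  · exact Or.inr (Or.inr (Or.inr ⟨61, 2, 1, 0, by norm_num, by norm_num, by norm_num⟩))
  · exact Or.inr (Or.inr (Or.inr ⟨2, 31, 1, 1, by norm_num, by norm_num, by norm_num⟩))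
  · exact Or.inr (Or.inr (Or.inr ⟨3, 7, 2, 1, by norm_num, by norm_num, by norm_num⟩))
  · exact Or.inr (Or.inr (Or.inr ⟨2, 2, 6, 0, by norm_num, by norm_num, by norm_num⟩))
  · exact Or.inr (Or.inr (Or.inr ⟨5, 13, 1, 1, by norm_num, by norm_num, by norm_num⟩))
  · exact Or.inr (Or.inr (Or.inl ⟨by norm_num, by norm_num⟩))
  · exact Or.inr (Or.inr (Or.inr ⟨67, 2, 1, 0, by norm_num, by norm_num, by norm_num⟩))
  · exact Or.inr (Or.inr (Or.inr ⟨2, 17, 2, 1, by norm_num, by norm_num, by norm_num⟩))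
  · exact Or.inr (Or.inr (Or.inr ⟨3, 23, 1, 1, by norm_num, by norm_num, by norm_num⟩))
  · exact Or.inr (Or.inr (Or.inl ⟨by norm_num, by norm_num⟩))
  · exact Or.inr (Or.inr (Or.inr ⟨71, 2, 1, 0, by norm_num, by norm_num, by norm_num⟩))
  · exact Or.inr (Or.inr (Or.inr ⟨2, 3, 3, 2, by norm_num, by norm_num, by norm_num⟩))
  · exact Or.inr (Or.inr (Or.inr ⟨73, 2, 1, 0, by norm_num, by norm_num, by norm_num⟩))
  · exact Or.inr (Or.inr (Or.inr ⟨2, 37, 1, 1, by norm_num, by norm_num, by norm_num⟩))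
  · exact Or.inr (Or.inr (Or.inr ⟨3, 5, 1, 2, by norm_num, by norm_num, by norm_num⟩))
  · exact Or.inr (Or.inr (Or.inr ⟨2, 19, 2, 1, by norm_num, by norm_num, by norm_num⟩))
  · exact Or.inr (Or.inr (Or.inr ⟨7, 11, 1, 1, by norm_num, by norm_num, by norm_num⟩))
  · exact Or.inr (Or.inr (Or.inl ⟨by norm_num, by norm_num⟩))
  · exact Or.inr (Or.inr (Or.inr ⟨79, 2, 1, 0, by norm_num, by norm_num, by norm_num⟩))
  · exact Or.inr (Or.inr (Or.inr ⟨2, 5, 4, 1, by norm_num, by norm_num, by norm_num⟩))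
  · exact Or.inr (Or.inr (Or.inr ⟨3, 2, 4, 0, by norm_num, by norm_num, by norm_num⟩))
  · exact Or.inr (Or.inr (Or.inr ⟨2, 41, 1, 1, by norm_num, by norm_num, by norm_num⟩))
  · exact Or.inr (Or.inr (Or.inr ⟨83, 2, 1, 0, by norm_num, by norm_num, by norm_num⟩))
  · exact Or.inr (Or.inl rfl)
  · exact Or.inr (Or.inr (Or.inr ⟨5, 17, 1, 1, by norm_num, by norm_num, by norm_num⟩))
  · exact Or.inr (Or.inr (Or.inr ⟨2, 43, 1, 1, by norm_num, by norm_num, by norm_num⟩))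
  · exact Or.inr (Or.inr (Or.inr ⟨3, 29, 1, 1, by norm_num, by norm_num, by norm_num⟩))
  · exact Or.inr (Or.inr (Or.inr ⟨2, 11, 3, 1, by norm_num, by norm_num, by norm_num⟩))
  · exact Or.inr (Or.inr (Or.inr ⟨89, 2, 1, 0, by norm_num, by norm_num, by norm_num⟩))
  · exact Or.inr (Or.inr (Or.inl ⟨by norm_num, by norm_num⟩))
  · exact Or.inr (Or.inr (Or.inr ⟨7, 13, 1, 1, by norm_num, by norm_num, by norm_num⟩))
  · exact Or.inr (Or.inr (Or.inr ⟨2, 23, 2, 1, by norm_num, by norm_num, by norm_num⟩))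
  · exact Or.inr (Or.inr (Or.inr ⟨3, 31, 1, 1, by norm_num, by norm_num, by norm_num⟩))
  · exact Or.inr (Or.inr (Or.inr ⟨2, 47, 1, 1, by norm_num, by norm_num, by norm_num⟩))
  · exact Or.inr (Or.inr (Or.inr ⟨5, 19, 1, 1, by norm_num, by norm_num, by norm_num⟩))
  · exact Or.inr (Or.inr (Or.inr ⟨2, 3, 5, 1, by norm_num, by norm_num, by norm_num⟩))
  · exact Or.inr (Or.inr (Or.inr ⟨97, 2, 1, 0, by norm_num, by norm_num, by norm_num⟩))
  · exact Or.inr (Or.inr (Or.inr ⟨2, 7, 1, 2, by norm_num, by norm_num, by norm_num⟩))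
  · exact Or.inr (Or.inr (Or.inr ⟨3, 11, 2, 1, by norm_num, by norm_num, by norm_num⟩))
  · exact Or.inr (Or.inr (Or.inr ⟨2, 5, 2, 2, by norm_num, by norm_num, by norm_num⟩))

/-- A finite simple group of order at most 100 that is not cyclic has order 60. -/
theorem result {G : Type*} [Group G] [Finite G] [IsSimpleGroup G]
    (hG : ¬ IsCyclic G) (h : Nat.card G ≤ 100) : Nat.card G = 60 := by
  have hnp : ¬ (Nat.card G).Prime := by
    intro hp
    haveI : Fact (Nat.card G).Prime := ⟨hp⟩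
    exact hG (isCyclic_of_prime_card rfl)
  have hnc : ¬ IsMulCommutative G := Cfsg.Agent.Helper11.simple_noncomm_of_card hnp
  have hns : ¬ Group.IsSolvable G := by
    intro hs
    apply hnc
    exact ⟨⟨IsSimpleGroup.comm_iff_isSolvable.mpr hs⟩⟩
  have hpos : 0 < Nat.card G := Nat.card_pos
  rcases key (Nat.card G) h hpos with h60 | h84 | ⟨h2, hgt⟩ | ⟨p, q, a, b, hp, hq, hpq⟩
  · exact h60
  · exfalso
    haveI : Fact (Nat.Prime 7) := ⟨by norm_num⟩
    have hmem := Cfsg.Agent.Helper11.card_sylow_mem_filter (G := G) (p := 7) 12 1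
      (by rw [h84]; norm_num) (by norm_num)
    have hf : (Nat.divisors 12).filter (fun d => d % 7 = 1) = {1} := by decide
    rw [hf, Finset.mem_singleton] at hmem
    exact Cfsg.Agent.Helper11.simple_card_sylow_ne_one hnc 7 (by rw [h84]; norm_num) hmem
  · exfalso
    haveI : Fact (Nat.Prime 2) := ⟨Nat.prime_two⟩
    have hmf : (Nat.card G).minFac = 2 := by
      rw [Nat.minFac_eq_two_iff]; omega
    have hm : Nat.card G = (Nat.card G / 2) * 2 ^ 1 := by omega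
    have hodd : ¬ 2 ∣ (Nat.card G / 2) := by omega
    have P : Sylow 2 G := default
    obtain ⟨hcP, -⟩ := Cfsg.Agent.Helper11.sylow_card_of_card_eq_pow (Nat.card G / 2) 1 hm hodd P
    rw [pow_one] at hcP
    have hPc : IsCyclic (P : Subgroup G) := isCyclic_of_prime_card hcP
    have hcompl := IsCyclic.isComplement' hmf hPc
    have hcm := hcompl.card_mul_card
    rw [hcP] at hcm
    rcases (inferInstance : (MonoidHom.transferSylow P
      (hPc.normalizer_le_centralizer hmf)).ker.Normal).eq_bot_or_eq_top with hK | hK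
    · rw [hK, Subgroup.card_bot] at hcm
      omega
    · rw [hK, Subgroup.card_top] at hcm
      omega
  · exfalso
    exact hns (Cfsg.Agent.S0144.result p q a b hp hq hpq)

end Cfsg.Agent.S0493
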