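import Cfsg.Statements.S3224
import Mathlib
import Cfsg.Agent.Helper1.SuzukiInvolution
import Cfsg.Agent.Helper1.NormalAbelianCyclic
import Cfsg.Agent.Helper11.DihedralLift
import Cfsg.Agent.S0646

set_option autoImplicit false
open Cfsg

namespace Cfsg.Agent.S3224

/-- A finite 2-group containing an involution whose centralizer has order 4 is dihedral, quasi-dihedral (semidihedral), or of order 4. -/
theorem result {S : Type*} [Group S] [Finite S] (hS : IsPGroup 2 S)
    (x : S) (hx : orderOf x = 2) (hC : Nat.card ↥(Subgroup.centralizer ({x} : Set S)) = 4) :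
    (∃ n : ℕ, Nonempty (S ≃* DihedralGroup n)) ∨ Cfsg.IsQuasiDihedral S ∨ Nat.card S = 4 := by
  open Cfsg.Agent.Helper1.CyclicMax2 Cfsg.Agent.Helper1.NAC in
  have hC4 : Nat.card ↥(Subgroup.centralizer ({x} : Set S)) ≤ 4 := hC.le
  have hxC : x ∈ Subgroup.centralizer ({x} : Set S) := by
    rw [Subgroup.mem_centralizer_iff]
    intro y hy
    rw [Set.mem_singleton_iff] at hy
    rw [hy]
  have hx2 : x * x = 1 := by rw [← pow_two, ← hx, pow_orderOf_eq_one]
  have hx1 : x ≠ 1 := by
    intro h
    rw [h, orderOf_one] at hx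
    norm_num at hx
  rcases Cfsg.Agent.Helper1.Suzuki.maxClass_aux _ S rfl hS x hx hC4 with h4 | ⟨n, hn3, hcard, hclass⟩
  · right; right
    have := Subgroup.card_le_card_group (Subgroup.centralizer ({x} : Set S))
    omega
  -- maximal class: a cyclic subgroup of index two
  obtain ⟨C, hCcyc, hCidx⟩ :=
    Cfsg.Agent.Helper9.exists_isCyclic_index_two_of_maxClass_aux n hn3 S hcard hclass
  -- `x` is not central
  have hxZ : x ∉ Subgroup.center S := by
    intro hxZ
    have htop : Subgroup.centralizer ({x} : Set S) = ⊤ := by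
      rw [Subgroup.centralizer_eq_top_iff_subset]
      intro y hy
      rw [Set.mem_singleton_iff] at hy
      rw [hy]; exact hxZ
    rw [htop, Subgroup.card_top, hcard] at hC
    have : 2 ^ 3 ≤ 2 ^ n := Nat.pow_le_pow_right (by norm_num) hn3
    omega
  have hna : ∃ u v : S, u * v ≠ v * u := by
    by_contra hcon
    push Not at hcon
    apply hxZ
    rw [Subgroup.mem_center_iff]
    intro g
    exact hcon g x
  obtain ⟨a, b, hord, hbA, hcases⟩ := Cfsg.Agent.S0646.result n hn3 hcard C hCcyc hCidx hna
  obtain ⟨m, rfl⟩ : ∃ m, n = m + 2 := ⟨n - 2, by omega⟩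
  have hm1 : 1 ≤ m := by omega
  have e1 : m + 2 - 1 = m + 1 := by omega
  have e2 : m + 2 - 2 = m := by omega
  rw [e1] at hord
  rw [e2] at hcases
  -- `⟨a⟩` has index two
  have hidx : (Subgroup.zpowers a).index = 2 := by
    have := Subgroup.card_mul_index (Subgroup.zpowers a)
    rw [Nat.card_zpowers, hord, hcard] at this
    have h2 : 2 ^ (m + 1) * (Subgroup.zpowers a).index = 2 ^ (m + 1) * 2 := by
      rw [this]; ring
    exact Nat.eq_of_mul_eq_mul_left (by positivity) h2
  have hAn : (Subgroup.zpowers a).Normal := Subgroup.normal_of_index_eq_two hidx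
  have hform : ∀ g : S, g ∉ Subgroup.zpowers a → ∃ i : ℤ, g = b * a ^ i := by
    intro g hg
    have h1 : b⁻¹ * g ∈ Subgroup.zpowers a := by
      rw [Subgroup.mul_mem_iff_of_index_two hidx]
      constructor
      · intro h; exact absurd ((Subgroup.zpowers a).inv_mem_iff.mp h) hbA
      · intro h; exact absurd h hg
    obtain ⟨i, hi⟩ := Subgroup.mem_zpowers_iff.mp h1
    exact ⟨i, by rw [hi]; group⟩
  set z : S := a ^ 2 ^ m with hz
  have hzz : z * z = 1 := z_mul_self a m hord
  have hz1 : z ≠ 1 := z_ne_one a m hord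
  have hzconj : ∀ g : S, g * z * g⁻¹ = z := z_conj a m hord hAn
  have hordZ : ((orderOf a : ℕ) : ℤ) = 2 ^ (m + 1) := by rw [hord]; push_cast; rfl
  have hb1 : b ≠ 1 := fun h => hbA (h ▸ one_mem _)
  rcases hcases with ⟨hb2, h⟩ | ⟨hb2, h⟩ | ⟨hm4, hb2, h⟩ | ⟨hm4, hb2, h⟩
  · -- dihedral
    left
    have hbb : b * b = 1 := by rw [← pow_two]; exact hb2
    have hbinv : b⁻¹ = b := inv_eq_of_mul_eq_one_right hbb
    refine ⟨2 ^ (m + 1), ?_⟩
    apply Cfsg.Agent.Helper11.nonempty_mulEquiv_dihedralGroup (2 ^ (m + 1))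
      (by rw [hcard, pow_succ]; ring) a b hord hbb _ hbA
    rw [← h, hbinv]
  · -- generalized quaternion: the only involution is central
    exfalso
    apply hxZ
    have hxz : x = z := by
      by_cases hxA : x ∈ Subgroup.zpowers a
      · obtain ⟨i, hi⟩ := Subgroup.mem_zpowers_iff.mp hxA
        have h1 : a ^ (i * 2) = 1 := by rw [zpow_mul, hi, zpow_ofNat, pow_two, hx2]
        rw [← orderOf_dvd_iff_zpow_eq_one, hordZ] at h1
        have h2 : (2 : ℤ) ^ m ∣ i := by
          rw [pow_succ, mul_comm i 2, mul_comm ((2 : ℤ) ^ m) 2] at h1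
          exact (mul_dvd_mul_iff_left (by norm_num : (2 : ℤ) ≠ 0)).mp h1
        obtain ⟨k, hk⟩ := h2
        have h3 : x = z ^ k := by
          rw [← hi, hk, zpow_mul, hz, ← zpow_natCast a (2 ^ m)]; push_cast; rfl
        rcases zpow_of_mul_self_eq_one hzz k with h' | h'
        · exact absurd (h3.trans h') hx1
        · exact h3.trans h'
      · exfalso
        obtain ⟨i, hi⟩ := hform x hxA
        have h1 : b * a ^ i * b⁻¹ = a ^ (-i) := by
          have := conj_zpow_of_conj b a (-1) i (by rw [zpow_neg_one]; exact h)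
          rw [this]; congr 1; ring
        have h2 : x * x = z := by
          have e : (b * a ^ i) * (b * a ^ i) = (b * a ^ i * b⁻¹) * (b * b) * a ^ i := by group
          rw [hi, e, h1, ← pow_two b, hb2]
          have hc : Commute (a ^ (-i)) z := ((Commute.refl a).zpow_left (-i)).pow_right _
          rw [hc.eq, mul_assoc, ← zpow_add]
          simp
        rw [hx2] at h2
        exact hz1 h2.symm
    rw [hxz, Subgroup.mem_center_iff]
    intro g
    calc g * z = (g * z * g⁻¹) * g := by group
      _ = z * g := by rw [hzconj g]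
  · -- modular: centralizers of involutions are too large
    exfalso
    have hm2 : 2 ≤ m := by omega
    have hxa2 : x * a ^ 2 = a ^ 2 * x := by
      by_cases hxA : x ∈ Subgroup.zpowers a
      · obtain ⟨i, hi⟩ := Subgroup.mem_zpowers_iff.mp hxA
        rw [← hi]
        exact (((Commute.refl a).zpow_left i).pow_right 2).eq
      · obtain ⟨i, hi⟩ := hform x hxA
        have hba2 : b * a ^ 2 * b⁻¹ = a ^ 2 := by
          rw [← conj_pow, h, ← pow_mul]
          have : (1 + 2 ^ m) * 2 = 2 + 2 ^ (m + 1) := by rw [pow_succ]; ring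
          rw [this, pow_add, ← hord, pow_orderOf_eq_one, mul_one]
        have hcb : Commute b (a ^ 2) := by
          show b * a ^ 2 = a ^ 2 * b
          calc b * a ^ 2 = (b * a ^ 2 * b⁻¹) * b := by group
            _ = a ^ 2 * b := by rw [hba2]
        rw [hi]
        exact (hcb.mul_left (((Commute.refl a).zpow_left i).pow_right 2)).eq
    have hle : Subgroup.zpowers (a ^ 2) ≤ Subgroup.centralizer ({x} : Set S) := by
      rw [Subgroup.zpowers_le, Subgroup.mem_centralizer_iff]
      intro y hy
      rw [Set.mem_singleton_iff] at hy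
      rw [hy]; exact hxa2
    have hcardA2 : Nat.card (Subgroup.zpowers (a ^ 2)) = 2 ^ m := by
      rw [Nat.card_zpowers, orderOf_pow_of_dvd (by norm_num) (by rw [hord, pow_succ]; exact dvd_mul_left 2 _), hord, pow_succ, Nat.mul_div_cancel _ (by norm_num)]
    have h4le : 4 ≤ 2 ^ m := by
      calc 4 = 2 ^ 2 := by norm_num
        _ ≤ 2 ^ m := Nat.pow_le_pow_right (by norm_num) hm2
    have hge : Nat.card (Subgroup.centralizer ({x} : Set S)) ≤
        Nat.card (Subgroup.zpowers (a ^ 2)) := by rw [hC, hcardA2]; exact h4le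
    have heq := Subgroup.eq_of_le_of_card_ge hle hge
    have hxA2 : x ∈ Subgroup.zpowers (a ^ 2) := heq ▸ hxC
    -- then `x ∈ ⟨a⟩` centralizes `a`: centralizer has order at least 8
    have hxA : x ∈ Subgroup.zpowers a :=
      (Subgroup.zpowers_le.mpr ((Subgroup.zpowers a).pow_mem (Subgroup.mem_zpowers a) 2)) hxA2
    have hle2 : Subgroup.zpowers a ≤ Subgroup.centralizer ({x} : Set S) := by
      rw [Subgroup.zpowers_le, Subgroup.mem_centralizer_iff]
      intro y hy
      rw [Set.mem_singleton_iff] at hy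
      rw [hy]
      obtain ⟨i, hi⟩ := Subgroup.mem_zpowers_iff.mp hxA
      rw [← hi]
      exact ((Commute.refl a).zpow_left i).eq
    have := Subgroup.card_le_of_le hle2
    rw [Nat.card_zpowers, hord, hC, pow_succ] at this
    omega
  · -- quasi-dihedral
    right; left
    refine ⟨m + 1, by omega, by rw [hcard], a, b, hord, orderOf_eq_prime hb2 hb1, ?_⟩
    rw [h]; rfl

end Cfsg.Agent.S3224
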