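import Cfsg.Statements.S0369
import Cfsg.Agent.Helper27.GolayPerm

set_option autoImplicit false
open Cfsg

namespace Cfsg.Agent.S0369

open Cfsg.Agent.Helper27
open scoped Pointwise

theorem octads_finite' : (octads : Set (Finset GolayPt)).Finite := Set.toFinite _

theorem basis_weight : ∀ b ∈ basisL, popc 24 b = 8 := by decide +kernel

theorem basis_octad {b : ℕ} (hb : b ∈ basisL) : support₂ (decW b) ∈ octads :=
  ⟨⟨decW b, decW_basis_mem b hb, rfl⟩, by rw [card_support_decW, basis_weight b hb]⟩

/-- The group of the length-24 code coincides with the automorphism group of its octad system. -/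
theorem result : Cfsg.M24 = Cfsg.setSystemAut Cfsg.octads := by
  ext σ
  constructor
  · intro hσ
    show σ ∈ MulAction.stabilizer (Equiv.Perm GolayPt) octads
    rw [MulAction.mem_stabilizer_set' octads_finite']
    rintro b ⟨hb, hc⟩
    have h1 : σ ∈ MulAction.stabilizer (Equiv.Perm GolayPt) (supports (golayCode : Set (GolayPt → ZMod 2))) := hσ
    rw [MulAction.mem_stabilizer_set' supports_finite] at h1
    exact ⟨h1 hb, by rw [Finset.card_smul_finset, hc]⟩
  · intro hσ
    have hσ' : σ ∈ MulAction.stabilizer (Equiv.Perm GolayPt) octads := hσ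
    rw [MulAction.mem_stabilizer_set' octads_finite'] at hσ'
    rw [mem_M24_iff_symm]
    -- the words whose transform stays in the code
    let S : Submodule (ZMod 2) (GolayPt → ZMod 2) :=
      { carrier := {w | (fun p => w (σ.symm p)) ∈ golayCode}
        zero_mem' := golayCode.zero_mem
        add_mem' := fun {a b} ha hb => golayCode.add_mem ha hb
        smul_mem' := fun c {a} ha => golayCode.smul_mem c ha }
    have hbasis : ∀ b ∈ basisL, decW b ∈ S := by
      intro b hb
      have h1 := hσ' (basis_octad hb)
      rw [smul_support₂] at h1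
      obtain ⟨⟨w', hw', hww'⟩, _⟩ := h1
      show (fun p => decW b (σ.symm p)) ∈ golayCode
      rw [← support₂_injective hww']
      exact hw'
    have hle : golayCode ≤ S := by
      apply Submodule.span_le.mpr
      intro g hg
      obtain ⟨a, ha, rfl⟩ := gen_cases hg
      have h2 : decW (cw (a % 4096)) ∈ S := decW_combo_mem S basisL hbasis _
      rwa [gens_eq_cw a ha] at h2
    intro w hw
    exact hle hw

end Cfsg.Agent.S0369
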