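import Cfsg.Statements.S0799
import Cfsg.Agent.Helper18.DihEven3

set_option autoImplicit false
open Cfsg

namespace Cfsg.Agent.S0799

/-- Dickson's classification of the subgroups of PSL_2(q), q a power of the prime p, d = gcd(2, q − 1): every subgroup H is (a) cyclic or dihedral with k dividing (q+1)/d or (q−1)/d (cyclic of order k, or dihedral of order 2k), (b) isomorphic to a subgroup of the normaliser of a Sylow p-subgroup, (c) isomorphic to A_4, S_4 or A_5, or (d) isomorphic to PSL_2(K) or PGL_2(K) for a finite field K with |K|^m = q. -/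
theorem result {F : Type*} [Field F] [Fintype F] {q : ℕ} (hF : Fintype.card F = q) (p : ℕ) [Fact p.Prime] [CharP F p] (H : Subgroup (Matrix.ProjectiveSpecialLinearGroup (Fin 2) F)) : (∃ k : ℕ, (k ∣ (q + 1) / Nat.gcd 2 (q - 1) ∨ k ∣ (q - 1) / Nat.gcd 2 (q - 1)) ∧ ((IsCyclic H ∧ Nat.card H = k) ∨ Nonempty (H ≃* DihedralGroup k))) ∨ (∃ (P : Sylow p (Matrix.ProjectiveSpecialLinearGroup (Fin 2) F)) (K : Subgroup (Matrix.ProjectiveSpecialLinearGroup (Fin 2) F)), K ≤ Subgroup.normalizer ((P : Subgroup (Matrix.ProjectiveSpecialLinearGroup (Fin 2) F)) : Set (Matrix.ProjectiveSpecialLinearGroup (Fin 2) F)) ∧ Nonempty (H ≃* K)) ∨ Nonempty (H ≃* alternatingGroup (Fin 4)) ∨ Nonempty (H ≃* Equiv.Perm (Fin 4)) ∨ Nonempty (H ≃* alternatingGroup (Fin 5)) ∨ (∃ (K : Type) (_ : Field K) (_ : Fintype K) (m : ℕ), Fintype.card K ^ m = q ∧ (Nonempty (H ≃* Matrix.ProjectiveSpecialLinearGroup (Fin 2) K) ∨ Nonempty (H ≃* Matrix.ProjGenLinGroup (Fin 2) K))) := by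
  classical
  subst hF
  by_cases hp : p = 2
  · subst hp
    obtain ⟨j, hj⟩ := Cfsg.Agent.Helper11.L2E.two_dvd_card_F (F := F)
    have hq2 : 2 ≤ Fintype.card F := Fintype.one_lt_card
    have hg : Nat.gcd 2 (Fintype.card F - 1) = 1 := by
      have : Odd (Fintype.card F - 1) := ⟨j - 1, by omega⟩
      exact (Nat.coprime_two_left.2 this)
    rw [hg, Nat.div_one, Nat.div_one]
    rcases Cfsg.Agent.Helper18.DihEven.dickson_even H with h | h | h
    · exact Or.inl h
    · exact Or.inr (Or.inl h)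
    · obtain ⟨K, iF, iT, m, hm, hiso⟩ := h
      exact Or.inr (Or.inr (Or.inr (Or.inr (Or.inr ⟨K, iF, iT, m, hm, Or.inl hiso⟩))))
  · obtain ⟨k, hk⟩ := Cfsg.Agent.Helper18.Dickson.odd_card_of_char (F := F) p hp
    have hg : Nat.gcd 2 (Fintype.card F - 1) = 2 := by
      have : Fintype.card F - 1 = 2 * k := by omega
      rw [this]
      exact Nat.gcd_mul_right_right k 2
    rw [hg]
    exact Cfsg.Agent.Helper18.Dickson.dickson_odd p hp H

end Cfsg.Agent.S0799
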