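import Cfsg.Statements.S2946
import Cfsg.Agent.Helper15.JComp4

set_option autoImplicit false
open Cfsg

namespace Cfsg.Agent.S2946

/-- Let G be a finite group of characteristic 2 type in which every 2-local subgroup is solvable and the centralizer of Ω₁(Z(S)) lies in N_G(S) for every Sylow 2-subgroup S, and let T be a nontrivial 2-subgroup (below, J is the Thompson subgroup generated by the elementary abelian 2-subgroups of largest order), K a J(T)-component and Z₀ = Ω₁(Z(J(T))). Then Z₀ meets W_K = [Ω₁(Z(O₂(K))), K] in a subgroup of order 2, and Z₀ is the product of Z₀ ∩ Z(⟨K, J(T)⟩) and Z₀ ∩ W_K. -/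
theorem result {G : Type*} [Group G] [Finite G] (hL : Cfsg.IsCharacteristicTwoType G) (hN : ∀ N : Subgroup G, Cfsg.IsTwoLocal N → Group.IsSolvable ↥N)
    (hZ : ∀ S : Sylow 2 G, Subgroup.centralizer (Cfsg.omegaCenterOf (S : Subgroup G) : Set G) ≤ Subgroup.normalizer ((S : Subgroup G) : Set G)) (T : Subgroup G) (hT : IsPGroup 2 ↥T) (hT1 : T ≠ ⊥) (K : Subgroup G) (hK : Cfsg.IsJComponent T K)
    (Z₀ : Subgroup G) (hZ₀ : Z₀ = Cfsg.omegaCenterOf (Cfsg.thompsonSubgroupOf 2 T)) :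
    Nat.card ↥(Z₀ ⊓ Cfsg.wOf K) = 2 ∧
      (Z₀ ⊓ ((K ⊔ Cfsg.thompsonSubgroupOf 2 T) ⊓ Subgroup.centralizer ((K ⊔ Cfsg.thompsonSubgroupOf 2 T) : Set G))) ⊔ (Z₀ ⊓ Cfsg.wOf K) = Z₀ := by
  subst hZ₀
  constructor
  · rw [Cfsg.Agent.Helper15.JComp.jc_omega_inf_wOf hT hK]
    exact Cfsg.Agent.Helper15.JComp.jc_card_fix hT hK
  · apply le_antisymm
    · exact sup_le inf_le_left inf_le_left
    · intro z hz
      obtain ⟨c, hc, w, hw, hcX, hwJ, rfl⟩ := Cfsg.Agent.Helper15.JComp.jc_decomp hT hK hz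
      have hwZ : w ∈ Cfsg.omegaCenterOf (Cfsg.thompsonSubgroupOf 2 T) ⊓ Cfsg.wOf K := by
        rw [Cfsg.Agent.Helper15.JComp.jc_omega_inf_wOf hT hK]
        exact ⟨hw, hwJ⟩
      have hcJ : c ∈ Cfsg.thompsonSubgroupOf 2 T :=
        (Cfsg.Agent.Helper15.JComp.omegaCenterOf_le _ hc).1
      have hsub : ((K : Set G) ⊔ (Cfsg.thompsonSubgroupOf 2 T : Set G)) ⊆
          ((K ⊔ Cfsg.thompsonSubgroupOf 2 T : Subgroup G) : Set G) := by
        rintro x (hx | hx)
        · exact Subgroup.mem_sup_left hx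
        · exact Subgroup.mem_sup_right hx
      have hcX' := Subgroup.centralizer_le hsub hcX
      have hcmem : c ∈ Cfsg.omegaCenterOf (Cfsg.thompsonSubgroupOf 2 T) ⊓
          ((K ⊔ Cfsg.thompsonSubgroupOf 2 T) ⊓
            Subgroup.centralizer ((K ⊔ Cfsg.thompsonSubgroupOf 2 T) : Set G)) :=
        ⟨hc, Subgroup.mem_sup_right hcJ, hcX'⟩
      exact Subgroup.mul_mem _ (Subgroup.mem_sup_right hwZ) (Subgroup.mem_sup_left hcmem)

end Cfsg.Agent.S2946
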