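import Cfsg.Statements.S0746
import Cfsg.Agent.S0736
import Cfsg.Agent.S0745

set_option autoImplicit false
open Cfsg

namespace Cfsg.Agent.S0746

/-- The Livingstone–Wagner Theorem, first form: a `k`-homogeneous group of degree `n` with `4 ≤ 2k ≤ n` is `(k-1)`-transitive. -/
theorem result {α : Type*} [Fintype α] [DecidableEq α] (G : Subgroup (Equiv.Perm α)) {k : ℕ} (hk : 2 ≤ k) (hkn : 2 * k ≤ Fintype.card α) (hh : MulAction.IsPretransitive G (Set.powersetCard α k)) : MulAction.IsMultiplyPretransitive G α (k - 1) := by
  -- homogeneity for all `1 ≤ j ≤ k`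
  have hom : ∀ d : ℕ, d < k → MulAction.IsPretransitive G (Set.powersetCard α (k - d)) := by
    intro d
    induction d with
    | zero => intro _; simpa using hh
    | succ d ih =>
      intro hd
      have h1 := ih (by omega)
      have h2 := Cfsg.Agent.S0736.result G (k := k - d) (by omega) h1 (by
        intro q hq hqd
        have : q ≤ k - d := Nat.le_of_dvd (by omega) hqd
        omega)
      have e : k - d - 1 = k - (d + 1) := by omega
      rwa [e] at h2
  have homj : ∀ j : ℕ, 1 ≤ j → j ≤ k → MulAction.IsPretransitive G (Set.powersetCard α j) := by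
    intro j hj1 hjk
    have := hom (k - j) (by omega)
    have e : k - (k - j) = j := by omega
    rwa [e] at this
  -- transitivity
  have tr : ∀ j : ℕ, j ≤ k - 1 → MulAction.IsMultiplyPretransitive G α j := by
    intro j
    induction j with
    | zero => intro _; exact MulAction.is_zero_pretransitive
    | succ j ih =>
      intro hj
      have ihj := ih (by omega)
      rcases Nat.eq_zero_or_pos j with rfl | hjpos
      · rw [zero_add, MulAction.is_one_pretransitive_iff]
        refine ⟨fun x y => ?_⟩
        obtain ⟨g, hg, hgx⟩ := Cfsg.Agent.S0745P.hom_elt G 1 (homj 1 le_rfl (by omega)) {x} {y}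
          (Finset.card_singleton x) (Finset.card_singleton y)
        refine ⟨⟨g, hg⟩, ?_⟩
        have := (hgx x).mpr (Finset.mem_singleton_self x)
        exact Finset.mem_singleton.mp this
      · by_contra hnt
        have := Cfsg.Agent.S0745.result G (k := j + 2) (by omega) (by omega)
          (by simpa using ihj) (by simpa using hnt)
          (by simpa using homj (j + 1) (by omega) (by omega))
          (homj (j + 2) (by omega) (by omega))
        rcases this with ⟨h1, -⟩ | ⟨h1, h2, -⟩ | ⟨h1, h2, -⟩ | ⟨h1, h2, -⟩ <;> omega
  exact tr (k - 1) le_rfl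

end Cfsg.Agent.S0746
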