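import Cfsg.Statements.S4472
import Cfsg.Agent.Helper29.PRatC
import Cfsg.Agent.Helper29.PRatD
import Cfsg.Prelude.Def_Blocks
-- import your own Cfsg.Agent.* helpers here

set_option autoImplicit false
open Cfsg

namespace Cfsg.Agent.S4472

/-- Let the finite p-solvable group G have a faithful character of degree n, and let p^a be the index of O_p(G) in a Sylow p-subgroup of G (the p-part of [G : O_p(G)]). Then a ≤ Σ_{i ≥ 0} ⌊n / ((p − 1) p^i)⌋ (a finite sum; the terms vanish for p^i > n). -/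
theorem result {G : Type*} [Group G] [Finite G] (χ : G → ℂ) (hχ : Cfsg.IsCharacter G χ) (hfaith : ∀ g : G, χ g = χ 1 → g = 1) (n : ℕ) (hn : Cfsg.charDegree χ = n) (p : ℕ) (hp : p.Prime) (hsolv : Cfsg.IsPSolvable p G) : ((Cfsg.pCore p G).index).factorization p ≤ ∑ i ∈ Finset.range (n + 1), n / ((p - 1) * p ^ i) := by
  classical
  haveI : Fact p.Prime := ⟨hp⟩
  have hχ1 : χ 1 = (n : ℂ) := by
    obtain ⟨nn, ρ, hρ⟩ := hχ
    have h1 : χ 1 = (nn : ℂ) := by
      rw [← hρ]
      simp
    have hnn : nn = n := by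
      rw [← hn]
      unfold charDegree
      rw [h1]
      simp
    rw [h1, hnn]
  obtain ⟨K, P₁, a₁, c, hKp, hP₁, hnorm, hc, hle⟩ :=
    Cfsg.Agent.Helper29.PRat.exists_coprime_action_data p hsolv
  have hb := Cfsg.Agent.Helper29.PRat.bound_of_coprime_action p χ hχ hfaith n hχ1 K P₁ hKp a₁ hP₁
    hnorm c hc
  omega

end Cfsg.Agent.S4472
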