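import Cfsg.Statements.S4435
import Cfsg.Agent.Helper5.FongReynolds3

set_option autoImplicit false
open Cfsg

namespace Cfsg.Agent.S4435

/-- Let N be a normal subgroup of the finite group G, b a block of N (relative to a maximal ideal M of the algebraic integers containing p), and T the stabilizer of b in G (the elements g such that conjugating any member of b by g gives a member of b); N ≤ T. Say that a block of T (or of G) covers b when some member has a constituent in b on restriction to N. Then: (i) every block B′ of T covering b induces a block B of G, B covers b, every ψ ∈ B′ induces to an irreducible character of G, and B consists exactly of the characters induced from members of B′; (ii) distinct blocks of T covering b induce distinct blocks of G; (iii) every block of G covering b is induced by some block of T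 covering b. -/
theorem result {G : Type*} [Group G] [Fintype G] (p : ℕ) [Fact p.Prime] (M : Ideal Cfsg.AlgInt) (hM : Cfsg.IsPModular p M) (N : Subgroup G) [hN : N.Normal] [Fintype N] (b : Set (Cfsg.IrrCharacter N)) (hb : Cfsg.IsPBlock M b) (T : Subgroup G) [Fintype T] (hT : ∀ g : G, g ∈ T ↔ ∀ θ ∈ b, ∀ θ' : Cfsg.IrrCharacter N, (∀ n : N, (θ' : N → ℂ) n = (θ : N → ℂ) ⟨g * n * g⁻¹, hN.conj_mem n n.2 g⟩) → θ' ∈ b) (hNT : N ≤ T) : (∀ B' : Set (Cfsg.IrrCharacter T), Cfsg.IsPBlock M B' → (∃ ψ ∈ B', ∃ θ ∈ b, Cfsg.classInner (fun n : N => (ψ : T → ℂ) ⟨(n : G), hNT n.2⟩) (θ : N → ℂ) ≠ 0) → ∃ B : Set (Cfsg.IrrCharacter G), Cfsg.IsInducedBlock M T B' B ∧ (∃ χ ∈ B, ∃ θ ∈ b, Cfsg.classInner (fun n : N => (χ : G → ℂ) n) (θ : N → ℂ) ≠ 0) ∧ (∀ ψ ∈ B', Cfsg.IsIrrCharacter G (Cfsg.indFun T (ψ : T → ℂ))) ∧ ∀ χ : Cfsg.IrrCharacter G, χ ∈ B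 ↔ ∃ ψ ∈ B', (χ : G → ℂ) = Cfsg.indFun T (ψ : T → ℂ)) ∧ (∀ B'₁ B'₂ : Set (Cfsg.IrrCharacter T), Cfsg.IsPBlock M B'₁ → Cfsg.IsPBlock M B'₂ → (∃ ψ ∈ B'₁, ∃ θ ∈ b, Cfsg.classInner (fun n : N => (ψ : T → ℂ) ⟨(n : G), hNT n.2⟩) (θ : N → ℂ) ≠ 0) → (∃ ψ ∈ B'₂, ∃ θ ∈ b, Cfsg.classInner (fun n : N => (ψ : T → ℂ) ⟨(n : G), hNT n.2⟩) (θ : N → ℂ) ≠ 0) → ∀ B : Set (Cfsg.IrrCharacter G), Cfsg.IsInducedBlock M T B'₁ B → Cfsg.IsInducedBlock M T B'₂ B → B'₁ = B'₂) ∧ (∀ B : Set (Cfsg.IrrCharacter G), Cfsg.IsPBlock M B → (∃ χ ∈ B, ∃ θ ∈ b, Cfsg.classInner (fun n : N => (χ : G → ℂ) n) (θ : N → ℂ) ≠ 0) → ∃ B' : Set (Cfsg.IrrCharacter T), Cfsg.IsPBlock M B' ∧ (∃ ψ ∈ B', ∃ θ ∈ b, Cfsg.classInner (fun n : N => (ψ : T → ℂ) ⟨(n : G), hNT n.2⟩) (θ : N → ℂ) ≠ 0) ∧ Cfsg.IsInducedBlock M T B' B) := by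
  classical
  have hMp := Cfsg.Agent.Helper5.Loc.isPrime_of_isPModular hM
  have hstab := Cfsg.Agent.Helper5.FR.IsStab.stab (hN := hN) hT
  have hdisj := Cfsg.Agent.Helper5.FR.IsStab.disj (hN := hN) hMp hb hT
  refine ⟨?_, ?_, ?_⟩
  · rintro B' hB' ⟨ψ₀, hψ₀, θ₀, hθ₀, h₀⟩
    have hover : Cfsg.Agent.Helper5.FR.Over N T b hNT (ψ₀ : T → ℂ) := ⟨θ₀, hθ₀, h₀⟩
    obtain ⟨hall, hind, himg⟩ := Cfsg.Agent.Helper5.FR.image_block N T b hM hb hNT hstab hdisj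
      B' hB' ψ₀ hψ₀ hover
    have hirr : ∀ ψ ∈ B', Cfsg.IsIrrCharacter G (Cfsg.indFun T (ψ : T → ℂ)) := fun ψ hψ =>
      Cfsg.Agent.Helper5.FR.isIrrCharacter_indFun N T b hNT hstab hdisj ψ (hall ψ hψ)
    refine ⟨Cfsg.blockOf M (Cfsg.indFun T (ψ₀ : T → ℂ)), hind, ?_, hirr, ?_⟩
    · refine ⟨⟨Cfsg.indFun T (ψ₀ : T → ℂ), hirr ψ₀ hψ₀⟩, ?_, θ₀, hθ₀, ?_⟩
      · exact Cfsg.Agent.Helper5.CC.sameBlock_refl hMp _
      · exact Cfsg.Agent.Helper5.FR.classInner_indFun_restrict_ne_zero N T b hNT hstab hdisj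
          ψ₀ θ₀ hθ₀ h₀
    · intro χ
      rw [← himg]
      constructor
      · rintro ⟨ψ, hψ, rfl⟩
        exact ⟨ψ, hψ, Cfsg.Agent.Helper5.FR.indIrr_coe T ψ (hirr ψ hψ)⟩
      · rintro ⟨ψ, hψ, h⟩
        refine ⟨ψ, hψ, Subtype.ext ?_⟩
        rw [Cfsg.Agent.Helper5.FR.indIrr_coe T ψ (hirr ψ hψ), h]
  · rintro B'₁ B'₂ hB'₁ hB'₂ ⟨ψ₁, hψ₁, θ₁, hθ₁, h₁⟩ ⟨ψ₂, hψ₂, θ₂, hθ₂, h₂⟩ B hi₁ hi₂
    have hover₁ : Cfsg.Agent.Helper5.FR.Over N T b hNT (ψ₁ : T → ℂ) := ⟨θ₁, hθ₁, h₁⟩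
    have hover₂ : Cfsg.Agent.Helper5.FR.Over N T b hNT (ψ₂ : T → ℂ) := ⟨θ₂, hθ₂, h₂⟩
    obtain ⟨hall₁, hind₁, himg₁⟩ := Cfsg.Agent.Helper5.FR.image_block N T b hM hb hNT hstab hdisj
      B'₁ hB'₁ ψ₁ hψ₁ hover₁
    obtain ⟨hall₂, hind₂, himg₂⟩ := Cfsg.Agent.Helper5.FR.image_block N T b hM hb hNT hstab hdisj
      B'₂ hB'₂ ψ₂ hψ₂ hover₂
    have e₁ := Cfsg.Agent.Helper23.IC.induced_unique hMp T hi₁ hind₁
    have e₂ := Cfsg.Agent.Helper23.IC.induced_unique hMp T hi₂ hind₂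
    have hmem : Cfsg.Agent.Helper5.FR.indIrr T ψ₁ ∈ Cfsg.Agent.Helper5.FR.indIrr T '' B'₂ := by
      rw [himg₂, ← e₂, e₁, ← himg₁]
      exact ⟨ψ₁, hψ₁, rfl⟩
    obtain ⟨ψ, hψ, hψe⟩ := hmem
    have := Cfsg.Agent.Helper5.FR.indIrr_inj N T b hNT hstab hdisj ψ ψ₁ (hall₂ ψ hψ)
      (hall₁ ψ₁ hψ₁) hψe
    rw [this] at hψ
    rw [Cfsg.Agent.Helper5.CC.IsPBlock_eq_blockOf hMp hB'₁ hψ₁,
      Cfsg.Agent.Helper5.CC.IsPBlock_eq_blockOf hMp hB'₂ hψ]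
  · rintro B hB ⟨χ, hχ, θ, hθ, h⟩
    obtain ⟨ψ, hψθ, hψχ⟩ := Cfsg.Agent.Helper5.FR.exists_indFun_eq N T b hNT hstab hdisj χ θ hθ h
    have hover : Cfsg.Agent.Helper5.FR.Over N T b hNT (ψ : T → ℂ) := ⟨θ, hθ, hψθ⟩
    have hmem : ψ ∈ Cfsg.blockOf M (ψ : T → ℂ) := Cfsg.Agent.Helper5.CC.mem_blockOf_self hMp ψ
    obtain ⟨hall, hind, himg⟩ := Cfsg.Agent.Helper5.FR.image_block N T b hM hb hNT hstab hdisj
      (Cfsg.blockOf M (ψ : T → ℂ)) (Cfsg.Agent.Helper5.CC.isPBlock_blockOf ψ) ψ hmem hover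
    refine ⟨Cfsg.blockOf M (ψ : T → ℂ), Cfsg.Agent.Helper5.CC.isPBlock_blockOf ψ,
      ⟨ψ, hmem, θ, hθ, hψθ⟩, ?_⟩
    rw [hψχ, ← Cfsg.Agent.Helper5.CC.IsPBlock_eq_blockOf hMp hB hχ] at hind
    exact hind

end Cfsg.Agent.S4435
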