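import Mathlib
import Cfsg.Statements.S4219

set_option autoImplicit false
open Cfsg

namespace Cfsg.Agent.S4219

open scoped Pointwise

theorem key {G : Type*} [Group G] [Finite G] {β : Type*} [MulAction G β] (x : β)
    (S : Subgroup G) (hS : ∀ g : G, g ∈ S ↔ g • x = x)
    {p : ℕ} [Fact p.Prime] (P : Sylow p S) (c : β)
    (hc : ∀ q ∈ (P : Subgroup S).map S.subtype, q • c = c)
    (g₁ : G) (hg₁ : g₁ • x = c) :
    ∃ k ∈ Subgroup.normalizer ((((P : Subgroup S).map S.subtype) : Subgroup G) : Set G), k • x = c := by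
  set Q : Subgroup G := (P : Subgroup S).map S.subtype with hQ
  -- Q₂ = g₁⁻¹ Q g₁ ≤ S
  set Q₂ : Subgroup G := Q.map (MulAut.conj g₁⁻¹).toMonoidHom with hQ₂
  have hQ₂S : Q₂ ≤ S := by
    rintro _ ⟨q, hq, rfl⟩
    rw [hS]
    show (g₁⁻¹ * q * g₁⁻¹⁻¹) • x = x
    rw [inv_inv, mul_smul, mul_smul, hg₁, hc q hq, ← hg₁, inv_smul_smul]
  set P₂ : Subgroup S := Q₂.subgroupOf S with hP₂
  have hcardQ : Nat.card Q = Nat.card (P : Subgroup S) :=
    Subgroup.card_map_of_injective S.subtype_injective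
  have hcardQ₂ : Nat.card Q₂ = Nat.card Q :=
    Subgroup.card_map_of_injective (MulAut.conj g₁⁻¹).injective
  have hcardP₂ : Nat.card P₂ = Nat.card Q₂ :=
    Nat.card_congr (Subgroup.subgroupOfEquivOfLe hQ₂S).toEquiv
  have hP₂p : IsPGroup p P₂ := by
    rw [IsPGroup.iff_card]
    obtain ⟨n, hn⟩ := IsPGroup.iff_card.mp P.isPGroup'
    exact ⟨n, by rw [hcardP₂, hcardQ₂, hcardQ, hn]⟩
  obtain ⟨P₃, hP₃⟩ := hP₂p.exists_le_sylow
  have hP₂₃ : P₂ = (P₃ : Subgroup S) := by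
    apply Subgroup.eq_of_le_of_card_ge hP₃
    rw [hcardP₂, hcardQ₂, hcardQ, P₃.card_eq_multiplicity, P.card_eq_multiplicity]
  obtain ⟨s, hs⟩ := MulAction.exists_smul_eq S P P₃
  -- s P s⁻¹ = P₂ in S
  have hs' : (MulAut.conj s • (P : Subgroup S)) = P₂ := by
    rw [hP₂₃, ← hs, Sylow.coe_subgroup_smul]
  have hle : Q.map (MulAut.conj (g₁ * (s : G))).toMonoidHom ≤ Q := by
    rintro _ ⟨q, hq, rfl⟩
    obtain ⟨q', hq', rfl⟩ := hq
    have h1 : s * q' * s⁻¹ ∈ P₂ := by
      rw [← hs']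
      exact Subgroup.smul_mem_pointwise_smul q' (MulAut.conj s) _ hq'
    rw [hP₂, Subgroup.mem_subgroupOf] at h1
    obtain ⟨q₂, hq₂, h2⟩ := h1
    have h3 : g₁⁻¹ * q₂ * g₁ = (s : G) * (q' : G) * (s : G)⁻¹ := by
      have := h2
      simp only [MulEquiv.coe_toMonoidHom, MulAut.conj_apply, inv_inv] at this
      rw [this]; simp
    show (MulAut.conj (g₁ * (s : G))) (S.subtype q') ∈ Q
    rw [MulAut.conj_apply]
    have : g₁ * (s : G) * (S.subtype q') * (g₁ * (s : G))⁻¹ = q₂ := by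
      calc g₁ * (s : G) * (S.subtype q') * (g₁ * (s : G))⁻¹
          = g₁ * ((s : G) * (q' : G) * (s : G)⁻¹) * g₁⁻¹ := by
            simp only [Subgroup.coe_subtype]; group
        _ = g₁ * (g₁⁻¹ * q₂ * g₁) * g₁⁻¹ := by rw [h3]
        _ = q₂ := by group
    rw [this]; exact hq₂
  have heq : Q.map (MulAut.conj (g₁ * (s : G))).toMonoidHom = Q := by
    apply Subgroup.eq_of_le_of_card_ge hle
    exact le_of_eq (Subgroup.card_map_of_injective (K := Q)
      (f := (MulAut.conj (g₁ * (s : G))).toMonoidHom) (MulAut.conj (g₁ * (s : G))).injective).symm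
  refine ⟨g₁ * (s : G), ?_, ?_⟩
  · rw [Subgroup.mem_normalizer_iff_map_conj_eq]
    exact heq
  · rw [mul_smul]
    have : (s : G) • x = x := (hS _).mp s.2
    rw [this, hg₁]

/-- If a finite group G is t-transitive and P is a Sylow p-subgroup of the stabilizer of t points, then N_G(P) is t-transitive on the fixed points of P. -/
theorem result {G : Type*} [Group G] [Finite G] {α : Type*} [Fintype α] [MulAction G α] {t : ℕ} (hG : MulAction.IsMultiplyPretransitive G α t) (x : Fin t ↪ α) {p : ℕ} [Fact p.Prime] (P : Sylow p (MulAction.stabilizer G x)) (a b : Fin t ↪ α) (ha : ∀ i, a i ∈ MulAction.fixedPoints ((P : Subgroup (MulAction.stabilizer G x)).map (MulAction.stabilizer G x).subtype) α) (hb : ∀ i, b i ∈ MulAction.fixedPoints ((P : Subgroup (MulAction.stabilizer G x)).map (MulAction.stabilizer G x).subtype) α) : ∃ g ∈ Subgroup.normalizer ((((P : Subgroup (MulAction.stabilizer G x)).map (MulAction.stabilizer G x).subtype) : Subgroup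 G) : Set G), g • a = b := by
  have hfix : ∀ c : Fin t ↪ α, (∀ i, c i ∈ MulAction.fixedPoints ((P : Subgroup (MulAction.stabilizer G x)).map (MulAction.stabilizer G x).subtype) α) →
      ∀ q ∈ (P : Subgroup (MulAction.stabilizer G x)).map (MulAction.stabilizer G x).subtype, q • c = c := by
    intro c hc q hq
    ext i
    rw [Function.Embedding.smul_apply]
    exact hc i ⟨q, hq⟩
  obtain ⟨g₁, hg₁⟩ := hG.exists_smul_eq x a
  obtain ⟨g₂, hg₂⟩ := hG.exists_smul_eq x b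
  have hS : ∀ g : G, g ∈ MulAction.stabilizer G x ↔ g • x = x := fun g => MulAction.mem_stabilizer_iff
  obtain ⟨k₁, hk₁, hk₁'⟩ := key x _ hS P a (hfix a ha) g₁ hg₁
  obtain ⟨k₂, hk₂, hk₂'⟩ := key x _ hS P b (hfix b hb) g₂ hg₂
  refine ⟨k₂ * k₁⁻¹, Subgroup.mul_mem _ hk₂ (Subgroup.inv_mem _ hk₁), ?_⟩
  rw [mul_smul, ← hk₁', inv_smul_smul, hk₂']

end Cfsg.Agent.S4219
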