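import Cfsg.Statements.S2544
import Cfsg.Agent.Helper12.SteinM
import Cfsg.Agent.Helper12.SteinN
import Cfsg.Agent.Helper12.PSL2Char
import Cfsg.Agent.Helper24.DefectZero

set_option autoImplicit false
open Cfsg

namespace Cfsg.Agent.S2544

/-- Let F be a finite field of characteristic p and consider the projective special linear group PSL_n(F) with n ≥ 2. This group has an irreducible complex character χ whose degree equals the order of a Sylow p-subgroup (namely q^(n(n−1)/2) when #F = q) and whose restriction to any Sylow p-subgroup P is the regular character of P: χ vanishes on the non-identity elements of P. (This is the Steinberg character.) -/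
theorem result {F : Type*} [Field F] [Fintype F] (p : ℕ) [Fact p.Prime] [CharP F p] (n : ℕ) (hn : 2 ≤ n) : ∃ χ : Matrix.ProjectiveSpecialLinearGroup (Fin n) F → ℂ, Cfsg.IsIrrCharacter (Matrix.ProjectiveSpecialLinearGroup (Fin n) F) χ ∧ ∀ P : Sylow p (Matrix.ProjectiveSpecialLinearGroup (Fin n) F), χ 1 = Nat.card P ∧ ∀ x : Matrix.ProjectiveSpecialLinearGroup (Fin n) F, x ∈ P → x ≠ 1 → χ x = 0 := by
  classical
  have hp : p.Prime := Fact.out
  have hirr := Cfsg.Agent.Helper12.Stein.isIrrCharacter_unipotent_SL (F := F) (n := n)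
    (by omega) (fun _ => 1) monotone_const (by simp)
  obtain ⟨ψ, hψ⟩ := Cfsg.Agent.Helper12.exists_irr_quotient'
    (Subgroup.center (Matrix.SpecialLinearGroup (Fin n) F))
    (⟨_, hirr⟩ : IrrCharacter (Matrix.SpecialLinearGroup (Fin n) F))
    (fun z hz => Cfsg.Agent.Helper12.Stein.unipotent_SL_center _ z hz)
  refine ⟨ψ.1, ψ.2, ?_⟩
  intro P
  have hdeg : ψ.1 1 = ((Fintype.card F ^ (n * (n - 1) / 2) : ℕ) : ℂ) := by
    have h1 := hψ 1
    rw [map_one] at h1
    rw [h1]
    show unipotentCharacterGL n F _ (Matrix.SpecialLinearGroup.toGL 1) = _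
    rw [map_one, Cfsg.Agent.Helper12.Stein.steinberg_degree]
    push_cast
    rfl
  have hcard := Cfsg.Agent.Helper12.Stein.card_sylow_PSL p n (by omega) P
  refine ⟨by rw [hdeg, hcard], ?_⟩
  intro x hx hx1
  have : Fintype (Matrix.ProjectiveSpecialLinearGroup (Fin n) F) := Fintype.ofFinite _
  have : Fintype (IrrCharacter (Matrix.ProjectiveSpecialLinearGroup (Fin n) F)) :=
    Fintype.ofFinite _
  apply Cfsg.Agent.Helper24.irr_eq_zero_of_defect_zero ψ p
    ((Nat.card (Matrix.ProjectiveSpecialLinearGroup (Fin n) F)).factorization p)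
    (Fintype.card F ^ (n * (n - 1) / 2)) hp (Nat.ordProj_dvd _ _)
    (Nat.pow_succ_factorization_not_dvd Nat.card_pos.ne' hp) hdeg
    (by rw [← hcard, Sylow.card_eq_multiplicity]) x
  obtain ⟨k, hk⟩ := (IsPGroup.iff_orderOf.mp P.2) ⟨x, hx⟩
  rw [Subgroup.orderOf_mk] at hk
  rw [hk]
  apply dvd_pow_self
  rintro rfl
  rw [pow_zero, orderOf_eq_one_iff] at hk
  exact hx1 hk

end Cfsg.Agent.S2544
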