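import Mathlib
import Cfsg.Statements.S2566
import Cfsg.Agent.S0287

set_option autoImplicit false
open Cfsg

namespace Cfsg.Agent.S2566

open Matrix Equiv

abbrev I4 := Fin 2 ⊕ Fin 2
abbrev K2 := ZMod 2
abbrev Q4 : (I4 → K2) → K2 := Cfsg.quadFormPlus 2 (ZMod 2)
abbrev O4 := ↥(Cfsg.isometryGroup (ZMod 2) (Cfsg.quadFormPlus 2 (ZMod 2)))

/-- the action of `S₃` on the sum-zero plane -/
def m2 (σ : Perm (Fin 3)) : Matrix (Fin 2) (Fin 2) K2 := fun i j =>
  (if σ j.castSucc = i.castSucc then 1 else 0) + (if σ 2 = i.castSucc then 1 else 0)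

/-- coordinates as positions of a `2 × 2` matrix, the form being the determinant -/
def dec : I4 → Fin 2 × Fin 2
  | Sum.inl s => (0, s)
  | Sum.inr s => (1, 1 - s)

/-- left multiplication -/
def LA (g : Matrix (Fin 2) (Fin 2) K2) : Matrix I4 I4 K2 := fun x y =>
  if (dec x).2 = (dec y).2 then g (dec x).1 (dec y).1 else 0

/-- right multiplication by the transpose -/
def RB (g : Matrix (Fin 2) (Fin 2) K2) : Matrix I4 I4 K2 := fun x y =>
  if (dec x).1 = (dec y).1 then g (dec x).2 (dec y).2 else 0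

/-- transposition -/
def TT : Matrix I4 I4 K2 := fun x y =>
  if (dec x).1 = (dec y).2 ∧ (dec x).2 = (dec y).1 then 1 else 0

set_option maxRecDepth 100000 in
theorem LA_one : LA (m2 1) = 1 := by decide

set_option maxRecDepth 100000 in
theorem RB_one : RB (m2 1) = 1 := by decide

set_option maxRecDepth 100000 in
theorem LA_mul : ∀ σ τ : Perm (Fin 3), LA (m2 (σ * τ)) = LA (m2 σ) * LA (m2 τ) := by decide

set_option maxRecDepth 100000 in
theorem RB_mul : ∀ σ τ : Perm (Fin 3), RB (m2 (σ * τ)) = RB (m2 σ) * RB (m2 τ) := by decide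

set_option maxRecDepth 100000 in
theorem LA_iso : ∀ (σ : Perm (Fin 3)) (u : I4 → K2), Q4 (LA (m2 σ) *ᵥ u) = Q4 u := by decide

set_option maxRecDepth 100000 in
theorem RB_iso : ∀ (σ : Perm (Fin 3)) (u : I4 → K2), Q4 (RB (m2 σ) *ᵥ u) = Q4 u := by decide

set_option maxRecDepth 100000 in
theorem TT_iso : ∀ (u : I4 → K2), Q4 (TT *ᵥ u) = Q4 u := by decide

set_option maxRecDepth 100000 in
theorem TT_sq : TT * TT = 1 := by decide

set_option maxRecDepth 100000 in
theorem LA_RB_comm : ∀ σ τ : Perm (Fin 3), LA (m2 σ) * RB (m2 τ) = RB (m2 τ) * LA (m2 σ) := by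
  decide

set_option maxRecDepth 100000 in
theorem LA_RB_ker : ∀ σ τ : Perm (Fin 3), LA (m2 σ) * RB (m2 τ) = 1 → σ = 1 ∧ τ = 1 := by
  decide

set_option maxRecDepth 100000 in
theorem TT_conj : ∀ σ : Perm (Fin 3), TT * LA (m2 σ) = RB (m2 σ) * TT := by decide


/-- the two factors as homomorphisms to matrices -/
def fA0 : Perm (Fin 3) →* Matrix I4 I4 K2 where
  toFun σ := LA (m2 σ)
  map_one' := LA_one
  map_mul' := LA_mul

def fB0 : Perm (Fin 3) →* Matrix I4 I4 K2 where
  toFun σ := RB (m2 σ)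
  map_one' := RB_one
  map_mul' := RB_mul

theorem fA_mem (σ : Perm (Fin 3)) : fA0.toHomUnits σ ∈ Cfsg.isometryGroup (ZMod 2) Q4 := by
  intro u _
  exact LA_iso σ u

theorem fB_mem (σ : Perm (Fin 3)) : fB0.toHomUnits σ ∈ Cfsg.isometryGroup (ZMod 2) Q4 := by
  intro u _
  exact RB_iso σ u

def fA : Perm (Fin 3) →* O4 := fA0.toHomUnits.codRestrict _ fA_mem

def fB : Perm (Fin 3) →* O4 := fB0.toHomUnits.codRestrict _ fB_mem

theorem fA_coe (σ : Perm (Fin 3)) : ((fA σ : GL I4 K2) : Matrix I4 I4 K2) = LA (m2 σ) := rfl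

theorem fB_coe (σ : Perm (Fin 3)) : ((fB σ : GL I4 K2) : Matrix I4 I4 K2) = RB (m2 σ) := rfl

theorem O4_ext {x y : O4} (h : ((x : GL I4 K2) : Matrix I4 I4 K2) = ((y : GL I4 K2) : Matrix I4 I4 K2)) :
    x = y := Subtype.ext (Units.ext h)

theorem fAB_comm (σ τ : Perm (Fin 3)) : Commute (fA σ) (fB τ) := by
  apply O4_ext
  show ((fA σ : GL I4 K2) : Matrix I4 I4 K2) * ((fB τ : GL I4 K2) : Matrix I4 I4 K2) =
    ((fB τ : GL I4 K2) : Matrix I4 I4 K2) * ((fA σ : GL I4 K2) : Matrix I4 I4 K2)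
  rw [fA_coe, fB_coe]
  exact LA_RB_comm σ τ

theorem fAB_ker (σ τ : Perm (Fin 3)) (h : fA σ * fB τ = 1) : σ = 1 ∧ τ = 1 := by
  apply LA_RB_ker
  have := congrArg (fun x : O4 => ((x : GL I4 K2) : Matrix I4 I4 K2)) h
  exact this

/-- the transposition as an isometry -/
def tU : GL I4 K2 := ⟨TT, TT, TT_sq, TT_sq⟩

theorem tU_mem : tU ∈ Cfsg.isometryGroup (ZMod 2) Q4 := by
  intro u _
  exact TT_iso u

def tO : O4 := ⟨tU, tU_mem⟩

theorem fA_injective : Function.Injective fA := by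
  rw [injective_iff_map_eq_one]
  intro σ h
  have := fAB_ker σ 1 (by rw [h, map_one, mul_one])
  exact this.1

theorem fB_injective : Function.Injective fB := by
  rw [injective_iff_map_eq_one]
  intro τ h
  have := fAB_ker 1 τ (by rw [h, map_one, mul_one])
  exact this.2

/-- the product map -/
def psi : Perm (Fin 3) × Perm (Fin 3) →* O4 := MonoidHom.noncommCoprod fA fB fAB_comm

theorem psi_injective : Function.Injective psi := by
  rw [injective_iff_map_eq_one]
  rintro ⟨σ, τ⟩ h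
  have := fAB_ker σ τ h
  rw [this.1, this.2]
  rfl

theorem card_O4 : Nat.card O4 = 72 := by
  have := Cfsg.Agent.S0287.result (F := ZMod 2) (q := 2) (ZMod.card 2) 2 (by norm_num)
  rw [this]
  norm_num [Finset.prod_range_succ]

/-- The full orthogonal group of the plus-type form x₁y₁ + x₂y₂ in dimension 4 over the field of two elements has order 72 and is isomorphic to the wreath product of the symmetric group of degree 3 by a group of order 2: it has a normal subgroup isomorphic to the direct product of two symmetric groups of degree 3, of index 2, whose two direct factors are interchanged by conjugation by some element. -/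
theorem result :
    Nat.card ↥(Cfsg.isometryGroup (ZMod 2) (Cfsg.quadFormPlus 2 (ZMod 2))) = 72 ∧
    ∃ (A B : Subgroup ↥(Cfsg.isometryGroup (ZMod 2) (Cfsg.quadFormPlus 2 (ZMod 2)))),
      Nonempty (↥A ≃* Equiv.Perm (Fin 3)) ∧ Nonempty (↥B ≃* Equiv.Perm (Fin 3)) ∧ A ⊓ B = ⊥ ∧ (∀ a ∈ A, ∀ b ∈ B, a * b = b * a) ∧
      (A ⊔ B).index = 2 ∧ ∃ g : ↥(Cfsg.isometryGroup (ZMod 2) (Cfsg.quadFormPlus 2 (ZMod 2))), A.map (MulAut.conj g).toMonoidHom = B := by
  refine ⟨card_O4, fA.range, fB.range, ⟨(MonoidHom.ofInjective fA_injective).symm⟩,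
    ⟨(MonoidHom.ofInjective fB_injective).symm⟩, ?_, ?_, ?_, tO, ?_⟩
  · rw [eq_bot_iff]
    rintro x ⟨⟨σ, rfl⟩, ⟨τ, hτ⟩⟩
    have h1 : fA σ * fB τ⁻¹ = 1 := by
      rw [map_inv, hτ, mul_inv_cancel]
    have := fAB_ker σ τ⁻¹ h1
    rw [Subgroup.mem_bot, this.1, map_one]
  · rintro a ⟨σ, rfl⟩ b ⟨τ, rfl⟩
    exact fAB_comm σ τ
  · have hr : fA.range ⊔ fB.range = psi.range := (MonoidHom.noncommCoprod_range fA fB fAB_comm).symm
    rw [hr]
    have h1 : Nat.card psi.range = 36 := by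
      rw [← Nat.card_congr (MonoidHom.ofInjective psi_injective).toEquiv, Nat.card_prod,
        Nat.card_eq_fintype_card, Fintype.card_perm, Fintype.card_fin]
      rfl
    have h2 := Subgroup.card_mul_index psi.range
    rw [h1, card_O4] at h2
    omega
  · rw [MonoidHom.map_range]
    congr 1
    apply MonoidHom.ext
    intro σ
    show tO * fA σ * tO⁻¹ = fB σ
    rw [mul_inv_eq_iff_eq_mul]
    apply O4_ext
    show TT * LA (m2 σ) = RB (m2 σ) * TT
    exact TT_conj σ

end Cfsg.Agent.S2566
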