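import Mathlib
import Cfsg.Statements.S3444
import Cfsg.Agent.Helper17.SolvRad
-- import your own Cfsg.Agent.* helpers here

set_option autoImplicit false
open Cfsg

namespace Cfsg.Agent.S3444

/-- A finite group with a non-trivial solvable normal subgroup is not determined by its set of element orders, not even up to finitely many possibilities: for every bound N there is a finite group of order greater than N with exactly the same set of element orders. -/
theorem result {G : Type*} [Group G] [Finite G] (K : Subgroup G) [K.Normal] (hK : K ≠ ⊥)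
    (hs : Group.IsSolvable K) (N : ℕ) :
    ∃ (H : Type) (_ : Group H) (_ : Fintype H), N < Fintype.card H ∧ Set.range (orderOf : H → ℕ) = Set.range (orderOf : G → ℕ) := by
  obtain ⟨M, hMn, hM, hcomm⟩ :=
    Cfsg.Agent.Helper17.exists_normal_abelian (Nat.card K) K inferInstance hK hs rfl
  obtain ⟨V, p, hVn, hV, hp, hexp⟩ := Cfsg.Agent.Helper17.exists_normal_elementary M hMn hM hcomm
  obtain ⟨G', hG', hF', hcard, hsp⟩ :=
    Cfsg.Agent.Helper17.exists_large_isospectral N G V hVn hV p hp hexp
  obtain ⟨H, hH, hFH, hcardH, hspH⟩ := Cfsg.Agent.Helper17.exists_small_model G'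
  refine ⟨H, hH, hFH, ?_, hspH.trans hsp⟩
  rw [hcardH]
  have h1 : N < 2 ^ N := Nat.lt_two_pow_self
  have h2 : 0 < Nat.card G := Nat.card_pos
  calc N < 2 ^ N := h1
    _ = 2 ^ N * 1 := (mul_one _).symm
    _ ≤ 2 ^ N * Nat.card G := Nat.mul_le_mul_left _ h2
    _ ≤ Nat.card G' := hcard

end Cfsg.Agent.S3444
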