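import Mathlib
import Cfsg.Statements.S0783
import Cfsg.Agent.Helper28.Herm
import Cfsg.Agent.Helper28.GU

set_option autoImplicit false

namespace Cfsg.Agent.S0783

open Matrix Cfsg.Agent.Helper28 Cfsg.Agent.Helper28.GUlib

theorem result {F : Type*} [Field F] [Fintype F] {q : ℕ} (hF : Fintype.card F = q ^ 2) (n : ℕ) (hn : 2 ≤ n) : ∃ φ : ↥(Cfsg.GU n F q) →* Multiplicative (ZMod (Nat.gcd n (q + 1))), Function.Surjective φ ∧ φ.ker = (Matrix.GeneralLinearGroup.det : Matrix.GeneralLinearGroup (Fin n) F →* Fˣ).ker.subgroupOf (Cfsg.GU n F q) ⊔ Subgroup.center ↥(Cfsg.GU n F q) := by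
  classical
  obtain ⟨σ, hσ, hσ2⟩ := exists_frob hF
  have hq1 : 1 ≤ q := by
    rcases Nat.eq_zero_or_pos q with h | h
    · subst h
      have : 0 < Fintype.card F := Fintype.card_pos
      rw [hF] at this
      simp at this
    · exact h
  obtain ⟨i₀, hi₀⟩ : ∃ i₀ : Fin n, i₀ = ⟨0, by omega⟩ := ⟨_, rfl⟩
  -- μ : the norm-one group
  obtain ⟨μ, hμ⟩ : ∃ μ : Subgroup Fˣ, μ = (powMonoidHom (q + 1) : Fˣ →* Fˣ).ker := ⟨_, rfl⟩
  have hμmem : ∀ x : Fˣ, x ∈ μ ↔ x ^ (q + 1) = 1 := by
    intro x
    rw [hμ, MonoidHom.mem_ker, powMonoidHom_apply]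
  have hcardμ : Nat.card μ = q + 1 := by
    rw [hμ, IsCyclic.card_powMonoidHom_ker, Nat.card_units, Nat.card_eq_fintype_card, hF]
    apply Nat.gcd_eq_right
    obtain ⟨t, rfl⟩ : ∃ t, q = t + 1 := ⟨q - 1, by omega⟩
    refine ⟨t, ?_⟩
    have : (t + 1) ^ 2 = (t + 1 + 1) * t + 1 := by ring
    omega
  -- determinant into μ
  have hdetmem : ∀ g : ↥(Cfsg.GU n F q),
      ((Matrix.GeneralLinearGroup.det : Matrix.GeneralLinearGroup (Fin n) F →* Fˣ).comp
        (Cfsg.GU n F q).subtype) g ∈ μ := by
    intro g
    rw [hμmem]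
    apply Units.ext
    have := det_pow_of_unitary σ hσ _ ((mem_GU_iff σ hσ g.1).mp g.2)
    simpa using this
  let det' : ↥(Cfsg.GU n F q) →* ↥μ :=
    ((Matrix.GeneralLinearGroup.det : Matrix.GeneralLinearGroup (Fin n) F →* Fˣ).comp
        (Cfsg.GU n F q).subtype).codRestrict μ hdetmem
  have hdet'_val : ∀ g : ↥(Cfsg.GU n F q), (((det' g : ↥μ) : Fˣ) : F)
      = ((g : Matrix.GeneralLinearGroup (Fin n) F) : Matrix (Fin n) (Fin n) F).det := by
    intro g
    rfl
  -- R : n-th powers in μ
  obtain ⟨R, hR⟩ : ∃ R : Subgroup ↥μ, R = (powMonoidHom n : ↥μ →* ↥μ).range := ⟨_, rfl⟩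
  have hRmem : ∀ x : ↥μ, x ∈ R ↔ ∃ y : ↥μ, y ^ n = x := by
    intro x
    rw [hR, MonoidHom.mem_range]
    rfl
  have hRidx : R.index = Nat.gcd n (q + 1) := by
    rw [hR, IsCyclic.index_powMonoidHom_range, hcardμ, Nat.gcd_comm]
  have hcycQ : IsCyclic (↥μ ⧸ R) :=
    isCyclic_of_surjective (QuotientGroup.mk' R) (QuotientGroup.mk'_surjective R)
  have hcardeq : Nat.card (↥μ ⧸ R) = Nat.card (Multiplicative (ZMod (Nat.gcd n (q + 1)))) := by
    rw [← Subgroup.index_eq_card, hRidx, Nat.card_congr Multiplicative.toAdd, Nat.card_zmod]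
  let ψ : ↥μ ⧸ R ≃* Multiplicative (ZMod (Nat.gcd n (q + 1))) := mulEquivOfCyclicCardEq hcardeq
  let φ : ↥(Cfsg.GU n F q) →* Multiplicative (ZMod (Nat.gcd n (q + 1))) :=
    ψ.toMonoidHom.comp ((QuotientGroup.mk' R).comp det')
  have hφ1 : ∀ g, φ g = 1 ↔ det' g ∈ R := by
    intro g
    show ψ ((QuotientGroup.mk' R) (det' g)) = 1 ↔ _
    rw [MulEquiv.map_eq_one_iff, QuotientGroup.mk'_apply, QuotientGroup.eq_one_iff]
  -- diagonal elements
  have hdiagU : ∀ (i : Fin n) (a : ↥μ),
      (Matrix.diagonal (Function.update (fun _ => (1 : F)) i ((a : Fˣ) : F)))ᵀ *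
        (Matrix.diagonal (Function.update (fun _ => (1 : F)) i ((a : Fˣ) : F))).map σ = 1 := by
    intro i a
    apply diagonal_unitary σ hσ
    intro k
    by_cases hk : k = i
    · subst hk
      rw [Function.update_self]
      have := congrArg Units.val ((hμmem a.1).mp a.2)
      rwa [Units.val_pow_eq_pow_val] at this
    · rw [Function.update_of_ne hk, one_pow]
  refine ⟨φ, ?_, ?_⟩
  · -- surjectivity
    have hdet'surj : Function.Surjective det' := by
      intro a
      refine ⟨mkGU σ hσ _ (hdiagU i₀ a), ?_⟩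
      apply Subtype.ext
      apply Units.ext
      rw [hdet'_val, mkGU_coe, Matrix.det_diagonal, Finset.prod_update_of_mem (Finset.mem_univ _)]
      simp
    exact ψ.surjective.comp ((QuotientGroup.mk'_surjective R).comp hdet'surj)
  · -- kernel
    apply le_antisymm
    · intro g hg
      rw [MonoidHom.mem_ker, hφ1, hRmem] at hg
      obtain ⟨lam, hlam⟩ := hg
      -- scalar element
      have hscU : (Matrix.diagonal (fun _ : Fin n => ((lam : Fˣ) : F)))ᵀ *
          (Matrix.diagonal (fun _ : Fin n => ((lam : Fˣ) : F))).map σ = 1 := by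
        apply diagonal_unitary σ hσ
        intro _
        have := congrArg Units.val ((hμmem lam.1).mp lam.2)
        rwa [Units.val_pow_eq_pow_val] at this
      set z : ↥(Cfsg.GU n F q) := mkGU σ hσ _ hscU with hz
      have hzc : z ∈ Subgroup.center ↥(Cfsg.GU n F q) := by
        rw [Subgroup.mem_center_iff]
        intro w
        apply Subtype.ext
        apply Units.ext
        show ((w : Matrix.GeneralLinearGroup (Fin n) F) : Matrix (Fin n) (Fin n) F) *
            Matrix.diagonal (fun _ : Fin n => ((lam : Fˣ) : F)) =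
          Matrix.diagonal (fun _ : Fin n => ((lam : Fˣ) : F)) *
            ((w : Matrix.GeneralLinearGroup (Fin n) F) : Matrix (Fin n) (Fin n) F)
        ext i j
        rw [Matrix.mul_diagonal, Matrix.diagonal_mul, mul_comm]
      have hdz : det' z = lam ^ n := by
        apply Subtype.ext
        apply Units.ext
        rw [hdet'_val, hz, mkGU_coe, Matrix.det_diagonal, Finset.prod_const, Finset.card_univ,
          Fintype.card_fin]
        simp
      have hgz : g * z⁻¹ ∈ (Matrix.GeneralLinearGroup.det :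
          Matrix.GeneralLinearGroup (Fin n) F →* Fˣ).ker.subgroupOf (Cfsg.GU n F q) := by
        rw [Subgroup.mem_subgroupOf, MonoidHom.mem_ker]
        have h1 : det' (g * z⁻¹) = 1 := by
          rw [map_mul, map_inv, hdz, hlam, mul_inv_cancel]
        have := congrArg (fun x : ↥μ => (x : Fˣ)) h1
        exact this
      have : g = (g * z⁻¹) * z := by group
      rw [this]
      exact Subgroup.mul_mem_sup hgz hzc
    · apply sup_le
      · intro g hg
        rw [Subgroup.mem_subgroupOf, MonoidHom.mem_ker] at hg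
        rw [MonoidHom.mem_ker, hφ1]
        have : det' g = 1 := Subtype.ext hg
        rw [this]
        exact one_mem R
      · intro z hz
        rw [Subgroup.mem_center_iff] at hz
        rw [MonoidHom.mem_ker, hφ1, hRmem]
        -- a non-identity element of μ
        have hnt : Nontrivial ↥μ := by
          rw [← Finite.one_lt_card_iff_nontrivial, hcardμ]
          omega
        obtain ⟨a, ha⟩ := exists_ne (1 : ↥μ)
        have ha' : ((a : Fˣ) : F) ≠ 1 := by
          intro h
          apply ha
          apply Subtype.ext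
          apply Units.ext
          exact h
        set Z : Matrix (Fin n) (Fin n) F :=
          ((z : Matrix.GeneralLinearGroup (Fin n) F) : Matrix (Fin n) (Fin n) F) with hZ
        have hsc := scalar_of_commute Z ((a : Fˣ) : F) ha' (by
          intro i
          have := hz (mkGU σ hσ _ (hdiagU i a))
          have := congrArg (fun x : ↥(Cfsg.GU n F q) =>
            ((x : Matrix.GeneralLinearGroup (Fin n) F) : Matrix (Fin n) (Fin n) F)) this
          exact this.symm) (by
          intro i j
          have := hz (mkGU σ hσ _ (perm_unitary σ (Equiv.swap i j)))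
          have := congrArg (fun x : ↥(Cfsg.GU n F q) =>
            ((x : Matrix.GeneralLinearGroup (Fin n) F) : Matrix (Fin n) (Fin n) F)) this
          exact this.symm) i₀
        -- λ := Z i₀ i₀
        have hZU : Zᵀ * Z.map σ = 1 := (mem_GU_iff σ hσ z.1).mp z.2
        have hlam1 : Z i₀ i₀ ^ (q + 1) = 1 := by
          have := congrFun (congrFun hZU i₀) i₀
          rw [hsc, Matrix.diagonal_transpose, Matrix.diagonal_map (map_zero σ),
            Matrix.diagonal_mul_diagonal, Matrix.diagonal_apply_eq, Matrix.one_apply_eq] at this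
          rw [pow_succ']
          rw [hσ] at this
          exact this
        have hlam0 : Z i₀ i₀ ≠ 0 := by
          intro h0
          rw [h0, zero_pow (Nat.succ_ne_zero q)] at hlam1
          exact zero_ne_one hlam1
        let lam : ↥μ := ⟨Units.mk0 _ hlam0, by
          rw [hμmem]
          apply Units.ext
          simpa using hlam1⟩
        refine ⟨lam, ?_⟩
        apply Subtype.ext
        apply Units.ext
        rw [hdet'_val]
        show (Z i₀ i₀) ^ n = Z.det
        conv_rhs => rw [hsc]
        rw [Matrix.det_diagonal, Finset.prod_const, Finset.card_univ, Fintype.card_fin]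

end Cfsg.Agent.S0783
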