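import Cfsg.Statements.S2722
import Cfsg.Agent.Helper28.PgoAut4
import Cfsg.Agent.S2613

set_option autoImplicit false
open Cfsg

namespace Cfsg.Agent.S2722

open Matrix Cfsg.Agent.Helper28.Spin Cfsg.Agent.Helper28.Sg Cfsg.Agent.Helper28.PG

/-- Let T = PΩ⁺_{2m}(F) with m ≥ 4 and |F| = q odd. Inside Aut(T), the image G̃ of the conformal orthogonal group of the form modulo the image of the special orthogonal group is elementary abelian of order 4. -/
theorem result {F : Type*} [Field F] [Fintype F] (hodd : Odd (Fintype.card F)) {m : ℕ} (hm : 4 ≤ m) :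
    (∃ φ : ↥(Cfsg.pgoAut F (Cfsg.quadFormPlus m F)) →* Multiplicative (ZMod 2 × ZMod 2), Function.Surjective φ ∧ φ.ker = (Cfsg.psoAut F (Cfsg.quadFormPlus m F)).subgroupOf (Cfsg.pgoAut F (Cfsg.quadFormPlus m F))) := by
  classical
  have h2 : (2 : F) ≠ 0 := by
    apply Ring.two_ne_zero
    intro h
    rw [FiniteField.even_card_iff_char_two] at h
    rcases hodd with ⟨k, hk⟩
    omega
  have hQ := QfPlus_nondeg (F := F) m
  have hcardι : Fintype.card (Fin m ⊕ Fin m) = 2 * m := by
    rw [Fintype.card_sum, Fintype.card_fin]; omega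
  let a : Fin 3 → Fin m ⊕ Fin m := fun j => Sum.inl (Fin.castLE (by omega) j)
  let b : Fin 3 → Fin m ⊕ Fin m := fun j => Sum.inr (Fin.castLE (by omega) j)
  have hinj : Function.Injective (Sum.elim a b) := by
    intro x y h
    rcases x with x | x <;> rcases y with y | y <;>
      simp only [Sum.elim_inl, Sum.elim_inr, a, b, Sum.inl.injEq, Sum.inr.injEq, reduceCtorEq,
        Fin.castLE_inj] at h
    · rw [h]
    · rw [h]
  let fr : Frame3 (QfPlus m F) := frameOf a b hinj
    (fun j => Cfsg.Agent.S2613.hypPair_plus m _)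
  have hperf := Omega_perfect' hQ fr (hgen_odd h2 hQ)
  have hex : ∃ v : Fin m ⊕ Fin m → F, QfPlus m F v ≠ 0 := by
    refine ⟨fr.e 0 + fr.f 0, ?_⟩
    rw [Cfsg.Agent.Helper28.Sg.Q_add, fr.Qe, fr.Qf]
    simp only [B, fr.Bef]
    simp
  obtain ⟨v, hv⟩ := hex
  -- a similarity with non-square multiplier
  obtain ⟨ν, hν⟩ := FiniteField.exists_nonsquare (F := F) (by
    intro h
    apply h2
    have := ringChar.Nat.cast_ringChar (R := F)
    rw [h] at this
    exact_mod_cast this)
  have hν0 : ν ≠ 0 := by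
    rintro rfl
    exact hν ⟨0, by simp⟩
  set c : Fˣ := Units.mk0 ν hν0 with hc
  set A : Matrix (Fin m ⊕ Fin m) (Fin m ⊕ Fin m) F :=
    Matrix.diagonal (Sum.elim (fun _ => ν) (fun _ => 1)) with hA
  have hAsim : ∀ w, QfPlus m F (A *ᵥ w) = (c : F) * QfPlus m F w := by
    intro w
    rw [QfPlus_coe]
    unfold Cfsg.quadFormPlus
    rw [Finset.mul_sum]
    apply Finset.sum_congr rfl
    intro i _
    rw [hA, Matrix.mulVec_diagonal, Matrix.mulVec_diagonal]
    simp only [Sum.elim_inl, Sum.elim_inr, one_mul]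
    show ν * w (Sum.inl i) * w (Sum.inr i) = ν * (w (Sum.inl i) * w (Sum.inr i))
    ring
  obtain ⟨h, hh⟩ := exists_GO_of_sim (QfPlus m F) hQ A c hAsim
  have hchi : chi (QfPlus m F) h = -1 := by
    apply chi_of_nonsquare (QfPlus m F) ⟨v, hv⟩ h c _ hν
    intro w
    rw [hh]
    exact hAsim w
  have := pgo_mod_pso (QfPlus m F) hQ fr h2 hperf hcardι (reflGO (QfPlus m F) v hv)
    (chi_reflGO (QfPlus m F) ⟨v, hv⟩ v hv) (sgn_reflGO (QfPlus m F) ⟨v, hv⟩ m v hv) h hchi
  exact this

end Cfsg.Agent.S2722
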