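import Cfsg.Statements.S2724
import Cfsg.Agent.Helper28.PgoAut5
import Cfsg.Agent.S2613
import Cfsg.Agent.S0790
import Cfsg.Agent.S2722
import Cfsg.Agent.S2723

set_option autoImplicit false
open Cfsg

namespace Cfsg.Agent.S2724

open Matrix Cfsg.Agent.Helper28.Spin Cfsg.Agent.Helper28.Sg Cfsg.Agent.Helper28.PG

/-- Let T = PΩ⁺_{2m}(F) with m ≥ 4 and |F| = q odd. The image G̃ of the conformal orthogonal group in Aut(T), taken modulo the inner automorphism group T, is elementary abelian of order 4 when m is odd and q ≡ 3 (mod 4), and dihedral of order 8 otherwise. -/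
theorem result {F : Type*} [Field F] [Fintype F] (hodd : Odd (Fintype.card F)) {m : ℕ} (hm : 4 ≤ m) :
    ((Odd m ∧ Fintype.card F % 4 = 3) → (∃ φ : ↥(Cfsg.pgoAut F (Cfsg.quadFormPlus m F)) →* Multiplicative (ZMod 2 × ZMod 2), Function.Surjective φ ∧ φ.ker = (Cfsg.Inn (Cfsg.POmega F (Cfsg.quadFormPlus m F))).subgroupOf (Cfsg.pgoAut F (Cfsg.quadFormPlus m F)))) ∧ (¬ (Odd m ∧ Fintype.card F % 4 = 3) → (∃ φ : ↥(Cfsg.pgoAut F (Cfsg.quadFormPlus m F)) →* DihedralGroup 4, Function.Surjective φ ∧ φ.ker = (Cfsg.Inn (Cfsg.POmega F (Cfsg.quadFormPlus m F))).subgroupOf (Cfsg.pgoAut F (Cfsg.quadFormPlus m F)))) := by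
  classical
  have h2 : (2 : F) ≠ 0 := by
    apply Ring.two_ne_zero
    intro h
    rw [FiniteField.even_card_iff_char_two] at h
    rcases hodd with ⟨k, hk⟩
    omega
  have hQ := QfPlus_nondeg (F := F) m
  have hcardι : Fintype.card (Fin m ⊕ Fin m) = 2 * m := by
    rw [Fintype.card_sum, Fintype.card_fin]; omega
  constructor
  · intro hcase
    obtain ⟨φ, hφs, hφk⟩ := Cfsg.Agent.S2722.result hodd hm
    have hrel := (Cfsg.Agent.S2723.result hodd hm).1 hcase
    rw [Subgroup.relIndex_eq_one] at hrel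
    have hle := Inn_le_psoAut (QfPlus m F)
    rw [QfPlus_coe] at hle
    refine ⟨φ, hφs, ?_⟩
    rw [hφk, le_antisymm hrel hle]
  · intro hcase
    let a : Fin 3 → Fin m ⊕ Fin m := fun j => Sum.inl (Fin.castLE (by omega) j)
    let b : Fin 3 → Fin m ⊕ Fin m := fun j => Sum.inr (Fin.castLE (by omega) j)
    have hinj : Function.Injective (Sum.elim a b) := by
      intro x y h
      rcases x with x | x <;> rcases y with y | y <;>
        simp only [Sum.elim_inl, Sum.elim_inr, a, b, Sum.inl.injEq, Sum.inr.injEq, reduceCtorEq,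
          Fin.castLE_inj] at h
      · rw [h]
      · rw [h]
    let fr : Frame3 (QfPlus m F) := frameOf a b hinj
      (fun j => Cfsg.Agent.S2613.hypPair_plus m _)
    have hperf := Omega_perfect' hQ fr (hgen_odd h2 hQ)
    have hex : ∃ v : Fin m ⊕ Fin m → F, QfPlus m F v ≠ 0 := by
      refine ⟨fr.e 0 + fr.f 0, ?_⟩
      rw [Cfsg.Agent.Helper28.Sg.Q_add, fr.Qe, fr.Qf]
      simp only [B, fr.Bef]
      simp
    obtain ⟨v, hv⟩ := hex
    obtain ⟨ν, hν⟩ := FiniteField.exists_nonsquare (F := F) (by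
      intro h
      apply h2
      have := ringChar.Nat.cast_ringChar (R := F)
      rw [h] at this
      exact_mod_cast this)
    have hν0 : ν ≠ 0 := by
      rintro rfl
      exact hν ⟨0, by simp⟩
    set c : Fˣ := Units.mk0 ν hν0 with hc
    set A : Matrix (Fin m ⊕ Fin m) (Fin m ⊕ Fin m) F :=
      Matrix.diagonal (Sum.elim (fun _ => ν) (fun _ => 1)) with hA
    have hAsim : ∀ w, QfPlus m F (A *ᵥ w) = (c : F) * QfPlus m F w := by
      intro w
      rw [QfPlus_coe]
      unfold Cfsg.quadFormPlus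
      rw [Finset.mul_sum]
      apply Finset.sum_congr rfl
      intro i _
      rw [hA, Matrix.mulVec_diagonal, Matrix.mulVec_diagonal]
      simp only [Sum.elim_inl, Sum.elim_inr, one_mul]
      show ν * w (Sum.inl i) * w (Sum.inr i) = ν * (w (Sum.inl i) * w (Sum.inr i))
      ring
    obtain ⟨h, hh⟩ := exists_GO_of_sim (QfPlus m F) hQ A c hAsim
    have hchi : chi (QfPlus m F) h = -1 := by
      apply chi_of_nonsquare (QfPlus m F) ⟨v, hv⟩ h c _ hν
      intro w
      rw [hh]
      exact hAsim w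
    have hcrit := Cfsg.Agent.S0790.result (F := F) rfl hodd m (by omega)
    rw [← QfPlus_coe] at hcrit
    have hpow := Cfsg.Agent.S2723.pow_mod_four hodd m
    have hneg := hcrit.2 (by rw [hpow, if_neg (fun hh => hcase ⟨hh.2, hh.1⟩)])
    have := pgo_mod_inn_D4 (QfPlus m F) hQ fr h2 hperf hcardι (by rw [hcardι]; omega) hneg v hv h hchi
    rw [QfPlus_coe] at this
    exact this

end Cfsg.Agent.S2724
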