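import Mathlib
import Cfsg.Statements.S1060
import Cfsg.Agent.Helper6.Chev.WeylB2
import Cfsg.Agent.Helper6.Chev.TablesBN
import Cfsg.Agent.S1027
import Cfsg.Agent.S1035

set_option autoImplicit false
set_option linter.unusedSimpArgs false
open Cfsg

namespace Cfsg.Agent.S1060

open Cfsg.Lie Cfsg.Agent.Helper6

/-- `gcd(2, q-1) · |B₂(q)| = q⁴ (q² - 1)(q⁴ - 1)`. -/
theorem result {F : Type*} [Field F] [Fintype F] {q : ℕ} (hq : Fintype.card F = q) : Nat.gcd 2 (q - 1) * Nat.card ↥(Cfsg.Lie.chevB2.group F) = q ^ 4 * (q ^ 2 - 1) * (q ^ 4 - 1) := by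
  subst hq
  have hD : IsTabulated chevB2 := by simp [IsTabulated]
  have Δ := bnData_of_tabulated F hD
  have hU := Cfsg.Agent.S1027.result (F := F) chevB2 (by simp)
  have hd := Cfsg.Agent.S1035.result (F := F) rfl (chevB2, Nat.gcd 2 (Fintype.card F - 1)) (by simp)
  have h := Δ.order_formula hU (J := [1, 0]) (by decide) (tsum_B2 Δ) hd [2, 4] poly_B2
  have e : chevB2.nroots / 2 = 4 := by decide
  rw [e] at h
  simp only [List.map_cons, List.map_nil, List.prod_cons, List.prod_nil, one_mul, mul_one] at h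
  rw [h]; ring

end Cfsg.Agent.S1060
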