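import Cfsg.Statements.S0297
import Cfsg.Agent.Helper28.Siegel6
import Cfsg.Agent.S2615
import Cfsg.Agent.S2171
import Cfsg.Agent.S2621

set_option autoImplicit false
open Cfsg

namespace Cfsg.Agent.S0297

open Cfsg.Agent.Helper28.Spin Cfsg.Agent.Helper28.Sg

/-- PΩ^-_{2m}(q) is simple for m at least 4 (the form is quadFormMinus (m-1) with anisotropic binary part). -/
theorem result {F : Type*} [Field F] [Fintype F] (m : ℕ) (hm : 4 ≤ m) (a b : F) (hab : ∀ z₁ z₂ : F, z₁ ^ 2 + a * z₁ * z₂ + b * z₂ ^ 2 = 0 → z₁ = 0 ∧ z₂ = 0) : IsSimpleGroup (Cfsg.POmega F (Cfsg.quadFormMinus (m - 1) F a b)) := by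
  have hcardι : Fintype.card ((Fin (m - 1) ⊕ Fin (m - 1)) ⊕ Fin 2) = 2 * m := by
    rw [Fintype.card_sum, Fintype.card_sum, Fintype.card_fin, Fintype.card_fin]; omega
  let a' : Fin 3 → (Fin (m - 1) ⊕ Fin (m - 1)) ⊕ Fin 2 :=
    fun j => Sum.inl (Sum.inl (Fin.castLE (by omega) j))
  let b' : Fin 3 → (Fin (m - 1) ⊕ Fin (m - 1)) ⊕ Fin 2 :=
    fun j => Sum.inl (Sum.inr (Fin.castLE (by omega) j))
  have hinj : Function.Injective (Sum.elim a' b') := by
    intro x y h
    rcases x with x | x <;> rcases y with y | y <;>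
      simp only [Sum.elim_inl, Sum.elim_inr, a', b', Sum.inl.injEq, Sum.inr.injEq, reduceCtorEq,
        Fin.castLE_inj] at h
    · rw [h]
    · rw [h]
  let fr : Frame3 (QfMinus (m - 1) F a b) := frameOf a' b' hinj
    (fun j => Cfsg.Agent.S2615.hypPair_minus (m - 1) a b _)
  by_cases h2 : (2 : F) = 0
  · -- characteristic two
    haveI : CharP F 2 := CharTwo.of_one_ne_zero_of_two_eq_zero one_ne_zero h2
    have ha := Cfsg.Agent.S2171.ne_zero_of_aniso a b hab
    have hQ : (QuadraticMap.polarBilin (QfMinus (m - 1) F a b)).Nondegenerate := by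
      apply Cfsg.Agent.S2171.QfMinus_nondeg_of
      rw [show (4 : F) = 2 * 2 by norm_num, h2]
      simpa using ha
    exact POmega_simple hQ fr (hgen_even h2 hQ (Or.inr (by rw [hcardι]; omega)))
  · -- odd characteristic
    have hδ := Cfsg.Agent.S2621.not_isSquare_disc h2 a b hab
    have hQ : (QuadraticMap.polarBilin (QfMinus (m - 1) F a b)).Nondegenerate := by
      apply Cfsg.Agent.S2171.QfMinus_nondeg_of
      intro h
      apply hδ
      have : a ^ 2 - 4 * b = 0 := by linear_combination -h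
      rw [this]
      exact ⟨0, by simp⟩
    exact POmega_simple hQ fr (hgen_odd h2 hQ)

end Cfsg.Agent.S0297
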