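import Mathlib
import Cfsg.Statements.S2677
import Cfsg.Agent.S2636
import Cfsg.Agent.Helper28.Herm
import Cfsg.Agent.Helper28.GU
import Cfsg.Agent.Helper28.Norm
import Cfsg.Agent.S0837
import Cfsg.Agent.Helper2.UnitaryGU

set_option autoImplicit false
set_option linter.style.haveILetI false
open Cfsg

namespace Cfsg.Agent.S2677

open Matrix Cfsg.Agent.S2636 Cfsg.Agent.Helper28 Cfsg.Agent.Helper28.GUlib

theorem two_le_of_card {F : Type*} [Field F] [Fintype F] {q : ℕ} (hF : Fintype.card F = q ^ 2) :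
    2 ≤ q := by
  have h1 : 1 < Fintype.card F := Fintype.one_lt_card
  rw [hF] at h1
  by_contra hcon
  have : q ≤ 1 := by omega
  have : q ^ 2 ≤ 1 ^ 2 := Nat.pow_le_pow_left this 2
  omega

/-- number of norm-one elements -/
theorem card_norm_one {F : Type*} [Field F] [Fintype F] {q : ℕ} (hF : Fintype.card F = q ^ 2) :
    Nat.card (powMonoidHom (q + 1) : Fˣ →* Fˣ).ker = q + 1 := by
  have hq := two_le_of_card hF
  rw [IsCyclic.card_powMonoidHom_ker, Nat.card_units, Nat.card_eq_fintype_card, hF]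
  have : q ^ 2 - 1 = (q - 1) * (q + 1) := by
    obtain ⟨k, rfl⟩ : ∃ k, q = k + 1 := ⟨q - 1, by omega⟩
    simp only [Nat.add_sub_cancel]
    have : (k + 1) ^ 2 = k * (k + 1 + 1) + 1 := by ring
    rw [this, Nat.add_sub_cancel]
  rw [this, Nat.gcd_mul_left_left]

/-- the order of `GU` as an integer formula -/
theorem card_GU_int {F : Type*} [Field F] [Fintype F] {q : ℕ} (hF : Fintype.card F = q ^ 2)
    (n : ℕ) :
    (Nat.card (Cfsg.GU n F q) : ℤ) = (q : ℤ) ^ (n * (n - 1) / 2) *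
      ∏ i : Fin n, ((q : ℤ) ^ ((i : ℕ) + 1) - (-1) ^ ((i : ℕ) + 1)) := by
  have hq := two_le_of_card hF
  rw [Cfsg.Agent.Helper2.Herm.card_GU_closed hF n, Finset.prod_range]
  push_cast
  congr 1
  apply Finset.prod_congr rfl
  intro i _
  have h1 : 1 ≤ q ^ ((i : ℕ) + 1) := Nat.one_le_pow _ _ (by omega)
  split_ifs with hi
  · have : Odd ((i : ℕ) + 1) := hi.add_one
    rw [this.neg_one_pow]
    push_cast
    ring
  · have : Even ((i : ℕ) + 1) := by
      rw [Nat.not_even_iff_odd] at hi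
      exact hi.add_one
    rw [this.neg_one_pow, Nat.cast_sub h1]
    push_cast
    ring



section generic

variable {K K₀ : Type*} [Field K] [Field K₀] (ι : K₀ →+* K) {q q₀ n : ℕ}
  (φ : K →+* K) (hφ : ∀ x, φ x = x ^ q) (hφ2 : ∀ x, φ (φ x) = x)
  (τ : K₀ →+* K₀) (hτ : ∀ x, τ x = x ^ q₀) (hτ2 : ∀ x, τ (τ x) = x)
  (hφι : ∀ x, φ (ι x) = ι (τ x))

/-- scalar matrices of norm one are unitary -/
theorem sc_mem_GU (b : Kˣ) (hb : (b : K) ^ (q + 1) = 1) : sc n K b ∈ Cfsg.GU n K q := by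
  intro u v
  show Cfsg.hermForm n K q (((sc n K b : GL (Fin n) K) : Matrix (Fin n) (Fin n) K) *ᵥ u)
    (((sc n K b : GL (Fin n) K) : Matrix (Fin n) (Fin n) K) *ᵥ v) = _
  rw [coe_sc, Matrix.smul_mulVec, Matrix.smul_mulVec, Matrix.one_mulVec, Matrix.one_mulVec,
    hermForm_smul_left, hermForm_smul_right, ← mul_assoc, ← pow_succ', hb, one_mul]

include hφ hτ hφι in
/-- extension of scalars preserves unitarity -/
theorem map_mem_GU (g₀ : GL (Fin n) K₀) (hg₀ : g₀ ∈ Cfsg.GU n K₀ q₀) :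
    Matrix.GeneralLinearGroup.map ι g₀ ∈ Cfsg.GU n K q := by
  rw [mem_GU_iff φ hφ]
  rw [mem_GU_iff τ hτ] at hg₀
  have h1 : ((Matrix.GeneralLinearGroup.map ι g₀ : GL (Fin n) K) : Matrix (Fin n) (Fin n) K) =
      (g₀ : Matrix (Fin n) (Fin n) K₀).map ι := rfl
  rw [h1]
  have h2 : ((g₀ : Matrix (Fin n) (Fin n) K₀).map ι).map φ =
      ((g₀ : Matrix (Fin n) (Fin n) K₀).map τ).map ι := by
    ext i j
    simp only [Matrix.map_apply, hφι]
  rw [h2, ← Matrix.transpose_map, ← Matrix.map_mul, hg₀, Matrix.map_one _ (map_zero ι) (map_one ι)]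

/-- the norm-one units -/
abbrev NU (K : Type*) [Field K] (q : ℕ) : Subgroup Kˣ := (powMonoidHom (q + 1) : Kˣ →* Kˣ).ker

theorem mem_NU (b : Kˣ) : b ∈ NU K q ↔ (b : K) ^ (q + 1) = 1 := by
  rw [MonoidHom.mem_ker, powMonoidHom_apply, Units.ext_iff, Units.val_pow_eq_pow_val,
    Units.val_one]

/-- the product map -/
noncomputable def Phi : ↥(NU K q) × ↥(Cfsg.GU n K₀ q₀) →* GL (Fin n) K :=
  MonoidHom.noncommCoprod ((sc n K).comp (NU K q).subtype)
    ((Matrix.GeneralLinearGroup.map ι).comp (Cfsg.GU n K₀ q₀).subtype)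
    (fun b g => sc_commute n K _ _)

theorem Phi_apply (b : ↥(NU K q)) (g₀ : ↥(Cfsg.GU n K₀ q₀)) (i j : Fin n) :
    ((Phi (q := q) (q₀ := q₀) (n := n) ι (b, g₀) : GL (Fin n) K) : Matrix (Fin n) (Fin n) K) i j =
      ((b : Kˣ) : K) * ι (((g₀ : GL (Fin n) K₀) : Matrix (Fin n) (Fin n) K₀) i j) := by
  show ((sc n K (b : Kˣ) * Matrix.GeneralLinearGroup.map ι (g₀ : GL (Fin n) K₀) : GL (Fin n) K) :
    Matrix (Fin n) (Fin n) K) i j = _
  rw [Units.val_mul, coe_sc, Matrix.smul_mul, one_mul, Matrix.smul_apply,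
    Matrix.GeneralLinearGroup.map_apply, smul_eq_mul]

include hφ hφ2 hτ hτ2 hφι in
theorem range_Phi [Finite K₀] (hτid : τ ≠ RingHom.id K₀) (hn : 1 ≤ n) (σ : K ≃+* K)
    (hfix : ∀ x : K, σ x = x ↔ ∃ y, ι y = x) (g : GL (Fin n) K) :
    g ∈ (Phi (q := q) (q₀ := q₀) (n := n) ι).range ↔ (g ∈ Cfsg.GU n K q ∧ ∃ c : K, c ≠ 0 ∧
      (g : Matrix (Fin n) (Fin n) K).map σ = c • (g : Matrix (Fin n) (Fin n) K)) := by
  classical
  constructor
  · rintro ⟨⟨b, g₀⟩, rfl⟩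
    refine ⟨?_, ?_⟩
    · show (sc n K (b : Kˣ) * Matrix.GeneralLinearGroup.map ι (g₀ : GL (Fin n) K₀)) ∈
        Cfsg.GU n K q
      exact Subgroup.mul_mem _ (sc_mem_GU (b : Kˣ) ((mem_NU (b : Kˣ)).mp b.2))
        (map_mem_GU ι φ hφ τ hτ hφι _ g₀.2)
    · refine ⟨σ ((b : Kˣ) : K) / ((b : Kˣ) : K),
        div_ne_zero ((map_ne_zero _).mpr (b : Kˣ).ne_zero) (b : Kˣ).ne_zero, ?_⟩
      ext i j
      rw [Matrix.map_apply, Matrix.smul_apply, Phi_apply, map_mul, smul_eq_mul,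
        (hfix _).mpr ⟨_, rfl⟩]
      have := (b : Kˣ).ne_zero
      field_simp
  · rintro ⟨hgU, c, hc, hg⟩
    have hg' : ∀ k l, σ ((g : Matrix (Fin n) (Fin n) K) k l) =
        c * (g : Matrix (Fin n) (Fin n) K) k l := by
      intro k l
      have := congrFun (congrFun hg k) l
      simpa using this
    have hne : (g : Matrix (Fin n) (Fin n) K) ≠ 0 := by
      intro h0
      have h1 : (g : Matrix (Fin n) (Fin n) K) * ((g⁻¹ : GL (Fin n) K) : Matrix (Fin n) (Fin n) K)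
          = 1 := by
        rw [← Units.val_mul, mul_inv_cancel, Units.val_one]
      rw [h0, zero_mul] at h1
      have := congrFun (congrFun h1 ⟨0, hn⟩) ⟨0, hn⟩
      simp at this
    obtain ⟨i, j, hij⟩ : ∃ i j, (g : Matrix (Fin n) (Fin n) K) i j ≠ 0 := by
      by_contra hcon
      push Not at hcon
      apply hne
      ext i j
      exact hcon i j
    set b : K := (g : Matrix (Fin n) (Fin n) K) i j with hb
    have hσb : σ b = c * b := hg' i j
    have hfixed : ∀ k l, ∃ y, ι y = b⁻¹ * (g : Matrix (Fin n) (Fin n) K) k l := by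
      intro k l
      rw [← hfix, map_mul, map_inv₀, hσb, hg']
      field_simp
    choose M₀ hM₀ using hfixed
    have hM₀' : (Matrix.of M₀).map ι = b⁻¹ • (g : Matrix (Fin n) (Fin n) K) := by
      ext k l
      simp only [Matrix.map_apply, Matrix.of_apply, Matrix.smul_apply, smul_eq_mul, hM₀]
    have hgU' := (mem_GU_iff φ hφ g).mp hgU
    set P : Matrix (Fin n) (Fin n) K₀ := (Matrix.of M₀)ᵀ * (Matrix.of M₀).map τ with hPdef
    have hφb : φ b ≠ 0 := (map_ne_zero φ).mpr hij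
    have hP : P.map ι = (b * φ b)⁻¹ • (1 : Matrix (Fin n) (Fin n) K) := by
      have h2 : ((Matrix.of M₀).map τ).map ι = ((Matrix.of M₀).map ι).map φ := by
        ext k l
        simp only [Matrix.map_apply, hφι]
      rw [hPdef, Matrix.map_mul, Matrix.transpose_map, h2, hM₀']
      have h3 : (b⁻¹ • (g : Matrix (Fin n) (Fin n) K)).map φ =
          (φ b)⁻¹ • ((g : Matrix (Fin n) (Fin n) K).map φ) := by
        ext k l
        simp only [Matrix.map_apply, Matrix.smul_apply, smul_eq_mul, map_mul, map_inv₀]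
      rw [h3, Matrix.transpose_smul, Matrix.smul_mul, Matrix.mul_smul, hgU', smul_smul, mul_inv]
    set k₀ : Fin n := ⟨0, hn⟩ with hk₀
    set μ : K₀ := P k₀ k₀ with hμdef
    have hιμ : ι μ = (b * φ b)⁻¹ := by
      have := congrFun (congrFun hP k₀) k₀
      simpa using this
    have hPμ : P = μ • (1 : Matrix (Fin n) (Fin n) K₀) := by
      ext k l
      apply ι.injective
      have := congrFun (congrFun hP k) l
      rw [Matrix.map_apply] at this
      rw [this, Matrix.smul_apply, Matrix.smul_apply, smul_eq_mul, smul_eq_mul, map_mul, hιμ]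
      by_cases hkl : k = l
      · subst hkl; simp
      · simp [hkl]
    have hτμ : τ μ = μ := by
      apply ι.injective
      rw [← hφι, hιμ, map_inv₀, map_mul, hφ2, mul_comm]
    have hμ0 : μ ≠ 0 := by
      intro h0
      rw [h0, map_zero] at hιμ
      exact inv_ne_zero (mul_ne_zero hij hφb) hιμ.symm
    obtain ⟨ν, hν⟩ := exists_norm_eq τ hτid hτ2 μ⁻¹ (inv_ne_zero hμ0) (by rw [map_inv₀, hτμ])
    have hν0 : ν ≠ 0 := by
      rintro rfl
      rw [zero_mul] at hν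
      exact inv_ne_zero hμ0 hν.symm
    set N₀ : Matrix (Fin n) (Fin n) K₀ := ν • Matrix.of M₀ with hN₀
    have hN₀U : N₀ᵀ * N₀.map τ = 1 := by
      have h3 : N₀.map τ = τ ν • (Matrix.of M₀).map τ := by
        ext k l
        simp only [hN₀, Matrix.map_apply, Matrix.smul_apply, smul_eq_mul, map_mul]
      rw [h3, hN₀, Matrix.transpose_smul, Matrix.smul_mul, Matrix.mul_smul, ← hPdef, hPμ,
        smul_smul, smul_smul, hν, inv_mul_cancel₀ hμ0, one_smul]
    set κ : K := b / ι ν with hκ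
    have hιν : ι ν ≠ 0 := (map_ne_zero ι).mpr hν0
    have hκ0 : κ ≠ 0 := div_ne_zero hij hιν
    have hκN : κ ^ (q + 1) = 1 := by
      rw [pow_succ', ← hφ, hκ, map_div₀, hφι]
      have h4 : ι ν * ι (τ ν) = (ι μ)⁻¹ := by rw [← map_mul, hν, map_inv₀]
      have hτν : ι (τ ν) ≠ 0 := by
        intro h0
        rw [h0, mul_zero] at h4
        exact inv_ne_zero ((map_ne_zero ι).mpr hμ0) h4.symm
      rw [div_mul_div_comm, h4, hιμ, inv_inv, div_self (mul_ne_zero hij hφb)]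
    refine ⟨(⟨Units.mk0 κ hκ0, (mem_NU _).mpr hκN⟩, mkGU τ hτ N₀ hN₀U), ?_⟩
    apply Units.ext
    ext k l
    rw [Phi_apply, mkGU_coe]
    show κ * ι (ν * M₀ k l) = _
    rw [map_mul, hM₀, hκ]
    field_simp

theorem card_ker_Phi [Fintype K₀] (hK₀ : Fintype.card K₀ = q₀ ^ 2)
    (hpow : ∀ x : K₀, x ^ q = x ^ q₀) (hn : 1 ≤ n) :
    Nat.card (Phi (q := q) (q₀ := q₀) (n := n) ι).ker = q₀ + 1 := by
  classical
  rw [← card_norm_one hK₀]
  symm
  have hpow' : ∀ x : K₀, x ^ (q + 1) = x ^ (q₀ + 1) := by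
    intro x
    rw [pow_succ, hpow, ← pow_succ]
  have h1 : ∀ a : ↥(NU K₀ q₀), Units.map ι.toMonoidHom (a : K₀ˣ) ∈ NU K q := by
    intro a
    rw [mem_NU]
    have ha := (mem_NU (a : K₀ˣ)).mp a.2
    show (ι ((a : K₀ˣ) : K₀)) ^ (q + 1) = 1
    rw [← map_pow, hpow', ha, map_one]
  have h2 : ∀ a : ↥(NU K₀ q₀), (sc n K₀ (a : K₀ˣ))⁻¹ ∈ Cfsg.GU n K₀ q₀ := by
    intro a
    exact Subgroup.inv_mem _ (sc_mem_GU (a : K₀ˣ) ((mem_NU (a : K₀ˣ)).mp a.2))
  have hmk : ∀ a : ↥(NU K₀ q₀),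
      ((⟨_, h1 a⟩ : ↥(NU K q)), (⟨_, h2 a⟩ : ↥(Cfsg.GU n K₀ q₀))) ∈
        (Phi (q := q) (q₀ := q₀) (n := n) ι).ker := by
    intro a
    rw [MonoidHom.mem_ker]
    apply Units.ext
    ext k l
    rw [Phi_apply]
    have h3 : (((sc n K₀ (a : K₀ˣ))⁻¹ : GL (Fin n) K₀) : Matrix (Fin n) (Fin n) K₀) =
        (((a : K₀ˣ)⁻¹ : K₀ˣ) : K₀) • (1 : Matrix (Fin n) (Fin n) K₀) := by
      rw [← map_inv, coe_sc]
    show ι ((a : K₀ˣ) : K₀) * ι ((((sc n K₀ (a : K₀ˣ))⁻¹ : GL (Fin n) K₀) :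
      Matrix (Fin n) (Fin n) K₀) k l) = _
    rw [h3, ← map_mul]
    by_cases hkl : k = l
    · subst hkl
      simp
    · simp [hkl]
  apply Nat.card_eq_of_bijective (fun a : ↥(NU K₀ q₀) =>
    (⟨_, hmk a⟩ : (Phi (q := q) (q₀ := q₀) (n := n) ι).ker))
  constructor
  · intro a a' haa'
    have h4 := congrArg (fun x : (Phi (q := q) (q₀ := q₀) (n := n) ι).ker =>
      (((x : ↥(NU K q) × ↥(Cfsg.GU n K₀ q₀)).1 : Kˣ) : K)) haa'
    apply Subtype.ext
    apply Units.ext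
    exact ι.injective h4
  · rintro ⟨⟨b, g₀⟩, hbg⟩
    rw [MonoidHom.mem_ker] at hbg
    have hent : ∀ k l, ((b : Kˣ) : K) * ι (((g₀ : GL (Fin n) K₀) : Matrix (Fin n) (Fin n) K₀) k l) =
        (1 : Matrix (Fin n) (Fin n) K) k l := by
      intro k l
      rw [← Phi_apply, hbg]; rfl
    set k₀ : Fin n := ⟨0, hn⟩
    set y₀ : K₀ := ((g₀ : GL (Fin n) K₀) : Matrix (Fin n) (Fin n) K₀) k₀ k₀ with hy₀
    have hby : ((b : Kˣ) : K) * ι y₀ = 1 := by
      have := hent k₀ k₀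
      rwa [Matrix.one_apply_eq] at this
    have hy₀0 : y₀ ≠ 0 := by
      rintro h0
      rw [h0, map_zero, mul_zero] at hby
      exact zero_ne_one hby
    have hbι : ((b : Kˣ) : K) = ι y₀⁻¹ := by
      rw [map_inv₀]
      exact eq_inv_of_mul_eq_one_left hby
    have hyN : (y₀⁻¹) ^ (q₀ + 1) = 1 := by
      apply ι.injective
      rw [← hpow', map_pow, ← hbι, map_one]
      exact (mem_NU (b : Kˣ)).mp b.2
    refine ⟨⟨Units.mk0 y₀⁻¹ (inv_ne_zero hy₀0), (mem_NU _).mpr hyN⟩, ?_⟩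
    apply Subtype.ext
    apply Prod.ext
    · apply Subtype.ext
      apply Units.ext
      exact hbι.symm
    · apply Subtype.ext
      show (sc n K₀ (Units.mk0 y₀⁻¹ (inv_ne_zero hy₀0)))⁻¹ = (g₀ : GL (Fin n) K₀)
      rw [inv_eq_iff_eq_inv, eq_comm, inv_eq_iff_mul_eq_one]
      apply Units.ext
      ext k l
      rw [Units.val_mul, coe_sc, Matrix.mul_smul, mul_one, Matrix.smul_apply, Units.val_one,
        smul_eq_mul, Units.val_mk0]
      apply ι.injective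
      rw [map_mul, ← hbι, hent k l]
      by_cases hkl : k = l
      · subst hkl; simp
      · simp [hkl]

end generic

theorem result {K : Type*} [Field K] [Fintype K] {q₀ q r n : ℕ} (hr : r.Prime) (hr2 : r ≠ 2) (hn : 1 ≤ n) (hq : q = q₀ ^ r) (hK : Fintype.card K = q ^ 2) (σ : K ≃+* K) (hσ : orderOf σ = r) : (Nat.card {g : ↥(Cfsg.GU n K q) // ∃ c : K, c ≠ 0 ∧ ((g : GL (Fin n) K) : Matrix (Fin n) (Fin n) K).map σ = c • ((g : GL (Fin n) K) : Matrix (Fin n) (Fin n) K)} : ℤ) = ((q + 1) / (q₀ + 1) : ℕ) * ((q₀ : ℤ) ^ (n * (n - 1) / 2) * ∏ i : Fin n, ((q₀ : ℤ) ^ ((i : ℕ) + 1) - (-1) ^ ((i : ℕ) + 1))) := by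
  classical
  haveI : Finite (K ≃+* K) :=
    Finite.of_injective (fun e : K ≃+* K => (e : K → K)) DFunLike.coe_injective
  let G := Subgroup.zpowers σ
  haveI : Fintype G := Fintype.ofFinite G
  let K₀ : Subfield K := FixedPoints.subfield G K
  have hmem : ∀ x : K, x ∈ K₀ ↔ σ x = x := by
    intro x
    constructor
    · intro hx
      exact hx ⟨σ, Subgroup.mem_zpowers σ⟩
    · intro hx g
      have hle : Subgroup.zpowers σ ≤ MulAction.stabilizer (K ≃+* K) x := by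
        rw [Subgroup.zpowers_le]
        exact hx
      exact hle g.2
  haveI : Fintype K₀ := Fintype.ofFinite K₀
  have hfr : Module.finrank K₀ K = r := by
    have h1 := FixedPoints.finrank_eq_card G K
    rw [h1, ← Nat.card_eq_fintype_card, Nat.card_zpowers, hσ]
  have hK₀ : Fintype.card K₀ = q₀ ^ 2 := by
    have h1 := Module.card_eq_pow_finrank (K := K₀) (V := K)
    rw [hfr, hK, hq] at h1
    have h2 : (q₀ ^ 2) ^ r = (Fintype.card K₀) ^ r := by rw [← h1]; ring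
    exact (Nat.pow_left_injective hr.ne_zero h2).symm
  have hq₀ : 2 ≤ q₀ := two_le_of_card hK₀
  have hq2 : 2 ≤ q := two_le_of_card hK
  have hrodd : Odd r := hr.odd_of_ne_two hr2
  -- Frobenius maps
  obtain ⟨φ, hφ, hφ2⟩ := exists_frob hK
  obtain ⟨τ, hτ, hτ2⟩ := exists_frob hK₀
  have hφid := Cfsg.Agent.S0837.frob_ne_id hK φ hφ
  have hτid := Cfsg.Agent.S0837.frob_ne_id hK₀ τ hτ
  let ι : K₀ →+* K := K₀.subtype
  -- on the fixed field the two Frobenius maps agree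
  have hpow₀ : ∀ x : K₀, x ^ q = x ^ q₀ := by
    intro x
    obtain ⟨s, hs⟩ := hrodd
    have h1 : x ^ (Fintype.card K₀) ^ s = x := FiniteField.pow_card_pow s x
    rw [hq, hs, pow_succ, pow_mul, pow_mul q₀ 2 s, ← hK₀, h1]
  have hφι : ∀ x : K₀, φ (ι x) = ι (τ x) := by
    intro x
    rw [hφ, hτ, ← hpow₀, map_pow]
  have hfix : ∀ x : K, σ x = x ↔ ∃ y, ι y = x := by
    intro x
    rw [← hmem]
    constructor
    · intro hx
      exact ⟨⟨x, hx⟩, rfl⟩
    · rintro ⟨y, rfl⟩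
      exact y.2
  have hrange := range_Phi (q := q) (q₀ := q₀) (n := n) ι φ hφ hφ2 τ hτ hτ2 hφι hτid hn σ hfix
  have hker := card_ker_Phi (q := q) (q₀ := q₀) (n := n) ι hK₀ hpow₀ hn
  set Φ := Phi (q := q) (q₀ := q₀) (n := n) ι with hΦdef
  have hcount : Nat.card Φ.ker * Nat.card Φ.range = Nat.card (↥(NU K q) × ↥(Cfsg.GU n K₀ q₀)) := by
    rw [← Subgroup.index_ker, Subgroup.card_mul_index]
  have hS : Nat.card {g : ↥(Cfsg.GU n K q) // ∃ c : K, c ≠ 0 ∧
      ((g : GL (Fin n) K) : Matrix (Fin n) (Fin n) K).map σ =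
        c • ((g : GL (Fin n) K) : Matrix (Fin n) (Fin n) K)} = Nat.card Φ.range := by
    apply Nat.card_congr
    refine ⟨fun g => ⟨(g.1 : GL (Fin n) K), (hrange _).mpr ⟨g.1.2, g.2⟩⟩,
      fun g => ⟨⟨g.1, ((hrange _).mp g.2).1⟩, ((hrange _).mp g.2).2⟩, ?_, ?_⟩
    · intro g
      rfl
    · intro g
      rfl
  rw [hS]
  rw [Nat.card_prod, hker, card_norm_one hK] at hcount
  obtain ⟨M, hM⟩ : q₀ + 1 ∣ q + 1 := by
    have := Odd.nat_add_dvd_pow_add_pow q₀ 1 hrodd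
    rwa [one_pow, ← hq] at this
  have hpos : 0 < q₀ + 1 := by omega
  rw [hM, Nat.mul_div_cancel_left _ hpos]
  rw [hM, mul_assoc] at hcount
  have h5 : Nat.card Φ.range = M * Nat.card ↥(Cfsg.GU n K₀ q₀) :=
    Nat.eq_of_mul_eq_mul_left hpos hcount
  rw [h5, Nat.cast_mul, card_GU_int hK₀]

end Cfsg.Agent.S2677
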