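import Mathlib
import Cfsg.Statements.S3781
import Cfsg.Agent.Helper19.Subnormal

set_option autoImplicit false
open Cfsg

namespace Cfsg.Agent.S3781

open Subgroup Cfsg.Agent.Helper19

variable {G : Type*} [Group G]

/-- Three subgroups lemma for normal subgroups. -/
lemma three_subgroups_normal (A B C : Subgroup G) [A.Normal] [B.Normal] [C.Normal] :
    ⁅⁅B, C⁆, A⁆ ≤ ⁅⁅A, B⁆, C⁆ ⊔ ⁅⁅C, A⁆, B⁆ := by
  set N : Subgroup G := ⁅⁅A, B⁆, C⁆ ⊔ ⁅⁅C, A⁆, B⁆ with hN
  have hNn : N.Normal := inferInstance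
  have h1 : ⁅⁅A.map (QuotientGroup.mk' N), B.map (QuotientGroup.mk' N)⁆,
      C.map (QuotientGroup.mk' N)⁆ = ⊥ := by
    rw [← map_commutator, ← map_commutator, Subgroup.map_eq_bot_iff, QuotientGroup.ker_mk']
    exact le_sup_left
  have h2 : ⁅⁅C.map (QuotientGroup.mk' N), A.map (QuotientGroup.mk' N)⁆,
      B.map (QuotientGroup.mk' N)⁆ = ⊥ := by
    rw [← map_commutator, ← map_commutator, Subgroup.map_eq_bot_iff, QuotientGroup.ker_mk']
    exact le_sup_right
  have h3 := commutator_commutator_eq_bot_of_rotate h2 h1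
  rw [← map_commutator, ← map_commutator, Subgroup.map_eq_bot_iff, QuotientGroup.ker_mk'] at h3
  exact h3

/-- The chain `H ≥ [H,G] ≥ [H,G,G] ≥ ⋯`. -/
def dchain (H : Subgroup G) : ℕ → Subgroup G
  | 0 => H
  | j + 1 => ⁅dchain H j, ⊤⁆

lemma dchain_normal (H : Subgroup G) [hH : H.Normal] : ∀ j, (dchain H j).Normal
  | 0 => hH
  | j + 1 => by
    have := dchain_normal H j
    exact commutator_normal (dchain H j) ⊤

lemma dchain_comm (H : Subgroup G) : ∀ j, dchain ⁅H, ⊤⁆ j = dchain H (j + 1)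
  | 0 => rfl
  | j + 1 => by
    change ⁅dchain ⁅H, ⊤⁆ j, ⊤⁆ = ⁅dchain H (j + 1), ⊤⁆
    rw [dchain_comm H j]

lemma dchain_succ_le (H : Subgroup G) [H.Normal] (j : ℕ) : dchain H (j + 1) ≤ dchain H j := by
  have := dchain_normal H j
  exact commutator_le_left (dchain H j) ⊤

lemma dchain_antitone (H : Subgroup G) [H.Normal] : Antitone (dchain H) :=
  antitone_nat_of_succ_le (dchain_succ_le H)

/-- `[H, γ_{k+1}(G)] ≤ [H, G, …, G]` (`k+1` copies of `G`) for normal `H`. -/
lemma commutator_lcs_le_dchain : ∀ (k : ℕ) (H : Subgroup G) [H.Normal],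
    ⁅H, (⊤ : Subgroup G).lowerCentralSeries k⁆ ≤ dchain H (k + 1)
  | 0, H, _ => le_rfl
  | k + 1, H, hH => by
    have hL : ((⊤ : Subgroup G).lowerCentralSeries k).Normal := inferInstance
    have hHG : (⁅H, (⊤ : Subgroup G)⁆).Normal := commutator_normal H ⊤
    rw [Subgroup.lowerCentralSeries_succ, commutator_comm]
    refine (three_subgroups_normal H ((⊤ : Subgroup G).lowerCentralSeries k) ⊤).trans ?_
    apply sup_le
    · exact commutator_mono (commutator_lcs_le_dchain k H) le_rfl
    · rw [commutator_comm ⊤ H]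
      have := commutator_lcs_le_dchain k ⁅H, (⊤ : Subgroup G)⁆
      rw [dchain_comm] at this
      exact this


/-- In a nilpotent group a subgroup `K` with `[K,G] = K` is trivial. -/
lemma eq_bot_of_commutator_top_eq [hnil : Group.IsNilpotent G] (K : Subgroup G)
    (hK : ⁅K, (⊤ : Subgroup G)⁆ = K) : K = ⊥ := by
  have h : ∀ k, K ≤ (⊤ : Subgroup G).lowerCentralSeries k := by
    intro k
    induction k with
    | zero => exact le_top
    | succ k ih =>
      calc K = ⁅K, (⊤ : Subgroup G)⁆ := hK.symm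
        _ ≤ ⁅(⊤ : Subgroup G).lowerCentralSeries k, ⊤⁆ := commutator_mono ih le_rfl
  obtain ⟨n, hn⟩ := Subgroup.nilpotent_iff_lowerCentralSeries.mp hnil
  exact le_bot_iff.mp (hn ▸ h n)

lemma lcs_normal (N : Subgroup G) [hN : N.Normal] : ∀ k, (N.lowerCentralSeries k).Normal
  | 0 => hN
  | k + 1 => by
    have := lcs_normal N k
    exact commutator_normal (N.lowerCentralSeries k) N

/-- Let G be a finite p-group and n ≥ 1, and write γ_1(G) = G, γ_{k+1}(G) = [γ_k(G), G], and likewise γ_k(N) for a subgroup N. Let N be a normal subgroup of G contained in γ_n(G). If i > 1 and γ_{i+1}(N) ≠ 1, then |γ_i(N) : γ_{i+1}(N)| ≥ p^n. -/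
theorem result {G : Type*} [Group G] [Finite G] {p : ℕ} [Fact p.Prime] (hG : IsPGroup p G) (n : ℕ) (hn : 1 ≤ n) (N : Subgroup G) [N.Normal] (hN : N ≤ (⊤ : Subgroup G).lowerCentralSeries (n - 1)) (i : ℕ) (hi : 1 < i) (hne : N.lowerCentralSeries i ≠ ⊥) : p ^ n ≤ (N.lowerCentralSeries i).relIndex (N.lowerCentralSeries (i - 1)) := by
  have hp : p.Prime := Fact.out
  have hnil : Group.IsNilpotent G := hG.isNilpotent
  obtain ⟨i', rfl⟩ : ∃ i', i = i' + 1 := ⟨i - 1, by omega⟩
  rw [Nat.add_sub_cancel]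
  set H := N.lowerCentralSeries i' with hH
  have hHn : H.Normal := lcs_normal N i'
  have hsucc : N.lowerCentralSeries (i' + 1) = ⁅H, N⁆ := rfl
  have hle_n : N.lowerCentralSeries (i' + 1) ≤ dchain H n := by
    rw [hsucc]
    have h1 := commutator_lcs_le_dchain (n - 1) H
    rw [Nat.sub_add_cancel hn] at h1
    exact (commutator_mono le_rfl hN).trans h1
  have hle_H : N.lowerCentralSeries (i' + 1) ≤ H := by
    rw [hsucc]; exact commutator_le_left H N
  have hstrict : ∀ j, j < n → dchain H (j + 1) < dchain H j := by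
    intro j hj
    refine lt_of_le_of_ne (dchain_succ_le H j) (fun heq => hne ?_)
    have hbot : dchain H j = ⊥ := eq_bot_of_commutator_top_eq (dchain H j) heq
    exact le_bot_iff.mp (hbot ▸ hle_n.trans (dchain_antitone H hj.le))
  have hcard : ∀ j, j ≤ n → p ^ j * Nat.card (dchain H j) ≤ Nat.card H := by
    intro j
    induction j with
    | zero => intro _; simp [dchain]
    | succ j ih =>
      intro hj
      have hlt := hstrict j (by omega)
      obtain ⟨a, ha⟩ := IsPGroup.iff_card.mp (hG.to_subgroup (dchain H (j + 1)))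
      obtain ⟨b, hb⟩ := IsPGroup.iff_card.mp (hG.to_subgroup (dchain H j))
      have hcl := card_lt_card_of_lt hlt
      rw [ha, hb] at hcl
      have hab : a < b := (Nat.pow_lt_pow_iff_right hp.one_lt).mp hcl
      have h1 : p * Nat.card (dchain H (j + 1)) ≤ Nat.card (dchain H j) := by
        rw [ha, hb]
        calc p * p ^ a = p ^ (a + 1) := by ring
          _ ≤ p ^ b := Nat.pow_le_pow_right hp.pos hab
      calc p ^ (j + 1) * Nat.card (dchain H (j + 1)) = p ^ j * (p * Nat.card (dchain H (j + 1))) := by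
            ring
        _ ≤ p ^ j * Nat.card (dchain H j) := Nat.mul_le_mul_left _ h1
        _ ≤ Nat.card H := ih (by omega)
  have hrel : Nat.card (N.lowerCentralSeries (i' + 1)) *
      (N.lowerCentralSeries (i' + 1)).relIndex H = Nat.card H := by
    have := Subgroup.relIndex_mul_relIndex ⊥ (N.lowerCentralSeries (i' + 1)) H bot_le hle_H
    rw [Subgroup.relIndex_bot_left, Subgroup.relIndex_bot_left] at this
    exact this
  have hpos : 0 < Nat.card (N.lowerCentralSeries (i' + 1)) := Nat.card_pos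
  have h2 : p ^ n * Nat.card (N.lowerCentralSeries (i' + 1)) ≤
      (N.lowerCentralSeries (i' + 1)).relIndex H * Nat.card (N.lowerCentralSeries (i' + 1)) := by
    calc p ^ n * Nat.card (N.lowerCentralSeries (i' + 1))
        ≤ p ^ n * Nat.card (dchain H n) :=
          Nat.mul_le_mul_left _ (Subgroup.card_le_of_le hle_n)
      _ ≤ Nat.card H := hcard n le_rfl
      _ = _ := by rw [← hrel, mul_comm]
  exact Nat.le_of_mul_le_mul_right h2 hpos

end Cfsg.Agent.S3781
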