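import Cfsg.Statements.S1946
import Cfsg.Agent.Helper15.OmegaFus
import Cfsg.Agent.S0071

set_option autoImplicit false
open Cfsg

namespace Cfsg.Agent.S1946

/-- Let P be a Sylow p-subgroup of the finite group G. Then G has a normal p-complement if and only if P controls the fusion of its elements of order dividing p (dividing 4 when p = 2): whenever such an element a of P has a G-conjugate g a g⁻¹ in P, that conjugate is already x a x⁻¹ for some x in P. -/
theorem result {G : Type*} [Group G] [Finite G] {p : ℕ} [Fact p.Prime] (P : Sylow p G) :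
    Cfsg.HasNormalPComplement p G ↔
      ∀ a ∈ (P : Subgroup G), (a ^ p = 1 ∨ (p = 2 ∧ a ^ 4 = 1)) → ∀ g : G, g * a * g⁻¹ ∈ (P : Subgroup G) →
        ∃ x ∈ (P : Subgroup G), g * a * g⁻¹ = x * a * x⁻¹ := by
  constructor
  · rintro ⟨P', N, hN, hc⟩ a ha _ g hg
    -- `N` is also a complement of `P`
    have hcard : Nat.card N * Nat.card (P' : Subgroup G) = Nat.card G := hc.card_mul_card
    have hPP' : Nat.card (P : Subgroup G) = Nat.card (P' : Subgroup G) := by
      rw [Sylow.card_eq_multiplicity, Sylow.card_eq_multiplicity]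
    have hidx : Nat.card N = (P' : Subgroup G).index := by
      have h1 := (P' : Subgroup G).card_mul_index
      have hpos : 0 < Nat.card (P' : Subgroup G) := Nat.card_pos
      rw [← hcard] at h1
      exact (Nat.eq_of_mul_eq_mul_left hpos (by rw [h1, mul_comm])).symm
    have hcop : Nat.Coprime (Nat.card N) (Nat.card (P : Subgroup G)) := by
      rw [hidx, hPP']
      exact (Sylow.card_coprime_index P').symm
    have hc' : N.IsComplement' (P : Subgroup G) :=
      Subgroup.isComplement'_of_coprime (by rw [hPP']; exact hcard) hcop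
    have hdisj : N ⊓ (P : Subgroup G) = ⊥ := hc'.disjoint.eq_bot
    obtain ⟨⟨⟨n, hn⟩, ⟨u, hu⟩⟩, hnu⟩ := hc'.existsUnique g |>.exists
    have hg' : g = n * u := hnu.symm
    obtain ⟨a', ha'⟩ : ∃ a', a' = u * a * u⁻¹ := ⟨_, rfl⟩
    have ha'P : a' ∈ (P : Subgroup G) := by
      rw [ha']; exact mul_mem (mul_mem hu ha) (inv_mem hu)
    have hconj : g * a * g⁻¹ = n * a' * n⁻¹ := by rw [hg', ha']; group
    have h1 : n * a' * n⁻¹ * a'⁻¹ ∈ N ⊓ (P : Subgroup G) := by
      refine ⟨?_, ?_⟩
      · have : n * a' * n⁻¹ * a'⁻¹ = n * (a' * n⁻¹ * a'⁻¹) := by group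
        rw [this]
        exact N.mul_mem hn (hN.conj_mem _ (N.inv_mem hn) _)
      · rw [← hconj]
        exact Subgroup.mul_mem _ hg (Subgroup.inv_mem _ ha'P)
    rw [hdisj, Subgroup.mem_bot] at h1
    refine ⟨u, hu, ?_⟩
    rw [hconj, ← ha']
    calc n * a' * n⁻¹ = (n * a' * n⁻¹ * a'⁻¹) * a' := by group
      _ = a' := by rw [h1, one_mul]
  · intro hfus
    obtain ⟨N, hN, hc⟩ := (Cfsg.Agent.S0071.result P).mpr
      (fun Q hQ g hg hcop =>
        Cfsg.Agent.Helper15.centralizes_of_controls_omega P hfus _ Q hQ rfl g hg hcop)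
    exact ⟨P, N, hN, hc⟩

end Cfsg.Agent.S1946
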