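import Cfsg.Statements.S5111
import Cfsg.Agent.Helper25.FusionStancu

set_option autoImplicit false
open Cfsg

namespace Cfsg.Agent.S5111

open Cfsg.Agent.Helper25 Cfsg.FusionSystem

/-- A fusion system over a finite p-group S is saturated if and only if the inner automorphisms of S form a Sylow p-subgroup of Aut_F(S) and every fully normalized subgroup of S is receptive. -/
theorem result {Ω : Type*} [Group Ω] {S : Subgroup Ω} [Finite S] (p : ℕ) [Fact p.Prime] (hS : IsPGroup p S) (F : Cfsg.FusionSystem S) : F.IsSaturated p ↔ (F.IsFullyAutomized p S ∧ ∀ P : Subgroup Ω, F.IsFullyNormalized P → F.IsReceptive P) := by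
  constructor
  · intro hF
    have hFN : F.IsFullyNormalized S := by
      refine ⟨le_rfl, fun Q _ => ?_⟩
      have h1 : normalizerIn S Q ≤ normalizerIn S S := fun x hx =>
        ⟨hx.1, Subgroup.le_normalizer hx.1⟩
      have : Finite (normalizerIn S S) := finite_of_le inf_le_left
      exact Nat.card_le_card_of_injective (Subgroup.inclusion h1)
        (Subgroup.inclusion_injective _)
    refine ⟨(Cfsg.Agent.S5077.sylow_axiom p hS F hF S hFN).2, fun P hP => ?_⟩
    exact Cfsg.Agent.S5077.extension_axiom p hS F hF P
      (Cfsg.Agent.S5077.sylow_axiom p hS F hF P hP).1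
  · rintro ⟨hSA, hrec⟩
    have key : ∀ n : ℕ, ∀ R : Subgroup Ω, F.IsFullyNormalized R →
        Nat.card S - Nat.card R = n → F.IsFullyAutomized p R := by
      intro n
      induction n using Nat.strong_induction_on with
      | _ n ih =>
        intro R hFN hn
        by_cases hRS : R = S
        · rw [hRS]; exact hSA
        · apply stancu_step p hS F hrec hFN hRS
          intro N' hFN' hlt
          have hle : Nat.card N' ≤ Nat.card S :=
            Nat.card_le_card_of_injective (Subgroup.inclusion hFN'.1)
              (Subgroup.inclusion_injective _)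
          exact ih (Nat.card S - Nat.card N') (by omega) N' hFN' rfl
    intro P hP
    obtain ⟨R, hPR, hFN⟩ := exists_isConj_fullyNormalized F hP
    exact ⟨R, hPR, key _ R hFN rfl, hrec R hFN⟩

end Cfsg.Agent.S5111
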