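import Cfsg.Statements.S1780
import Mathlib

set_option autoImplicit false
open Cfsg

namespace Cfsg.Agent.S1780

/-- Let A be a finite abelian 2-group and t an automorphism of A whose order is a power of 2. If every element of A fixed by t² is fixed by t, then t fixes every element of A. -/
theorem result {A : Type*} [CommGroup A] [Finite A]
    (hA : IsPGroup 2 A) (t : MulAut A) (ht : ∃ k : ℕ, orderOf t = 2 ^ k) (hC : ∀ a : A, t (t a) = a → t a = a) :
    ∀ a : A, t a = a := by
  classical
  by_contra hne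
  rw [not_forall] at hne
  obtain ⟨a0, ha0⟩ := hne
  obtain ⟨k, hk⟩ := ht
  -- the homomorphism a ↦ t a / a
  let φ : A →* A :=
    { toFun := fun a => t a / a
      map_one' := by simp
      map_mul' := by intro a b; simp [mul_div_mul_comm] }
  have hφ : ∀ a, φ a = t a / a := fun a => rfl
  let Ω : Subgroup A := φ.range ⊓ (powMonoidHom 2 : A →* A).ker
  have hP : IsPGroup 2 (Subgroup.zpowers t) :=
    IsPGroup.of_card (n := k) (by rw [Nat.card_zpowers, hk])
  -- every element of `zpowers t` commutes with `t`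
  have hcomm : ∀ g ∈ Subgroup.zpowers t, g * t = t * g := by
    intro g hg
    obtain ⟨n, rfl⟩ := Subgroup.mem_zpowers_iff.mp hg
    exact ((Commute.refl t).zpow_left n).eq
  let S : SubMulAction (Subgroup.zpowers t) A :=
    { carrier := (Ω : Set A)
      smul_mem' := by
        rintro ⟨g, hg⟩ x ⟨⟨a, ha⟩, hx2⟩
        refine ⟨⟨g a, ?_⟩, ?_⟩
        · show φ (g a) = g x
          rw [← ha, hφ, hφ, map_div]
          have := congrArg (fun f : MulAut A => f a) (hcomm g hg)
          simp only [MulAut.mul_apply] at this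
          rw [this]
        · show (powMonoidHom 2 : A →* A) (g x) = 1
          have hx2' : x ^ 2 = 1 := hx2
          simp only [powMonoidHom_apply]
          rw [← map_pow, hx2', map_one] }
  -- Ω is nontrivial
  have hI : φ.range ≠ ⊥ := by
    intro h
    have : φ a0 ∈ φ.range := ⟨a0, rfl⟩
    rw [h, Subgroup.mem_bot, hφ, div_eq_one] at this
    exact ha0 this
  have hIp : IsPGroup 2 φ.range := hA.to_subgroup _
  have hcardI : 2 ∣ Nat.card φ.range := by
    obtain ⟨n, hn⟩ := IsPGroup.iff_card.mp hIp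
    have hn0 : n ≠ 0 := by
      rintro rfl
      rw [pow_zero] at hn
      exact hI ((Subgroup.card_eq_one).mp hn)
    rw [hn]
    exact dvd_pow_self 2 hn0
  haveI : Fact (Nat.Prime 2) := ⟨Nat.prime_two⟩
  obtain ⟨⟨y, hyI⟩, hy⟩ := exists_prime_orderOf_dvd_card' 2 hcardI
  have hy2 : y ^ 2 = 1 := by
    have := pow_orderOf_eq_one (⟨y, hyI⟩ : φ.range)
    rw [hy] at this
    exact congrArg Subtype.val this
  have hy1 : y ≠ 1 := by
    rintro rfl
    have : (⟨1, hyI⟩ : φ.range) = 1 := rfl
    rw [this, orderOf_one] at hy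
    exact absurd hy (by norm_num)
  have hyΩ : y ∈ Ω := ⟨hyI, hy2⟩
  have hΩp : IsPGroup 2 Ω := hA.to_subgroup _
  have hcardΩ : 2 ∣ Nat.card Ω := by
    obtain ⟨n, hn⟩ := IsPGroup.iff_card.mp hΩp
    have hn0 : n ≠ 0 := by
      rintro rfl
      rw [pow_zero] at hn
      have := (Subgroup.card_eq_one).mp hn
      rw [this, Subgroup.mem_bot] at hyΩ
      exact hy1 hyΩ
    rw [hn]
    exact dvd_pow_self 2 hn0
  have hcardS : 2 ∣ Nat.card S := hcardΩ
  have h1S : (1 : A) ∈ S := Ω.one_mem
  have hfix1 : (⟨1, h1S⟩ : S) ∈ MulAction.fixedPoints (Subgroup.zpowers t) S := by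
    rintro ⟨g, hg⟩
    apply Subtype.ext
    show g (1 : A) = 1
    exact map_one g
  haveI : Fact (Nat.Prime 2) := ⟨Nat.prime_two⟩
  obtain ⟨⟨x, hxS⟩, hxfix, hx1⟩ :=
    hP.exists_fixed_point_of_prime_dvd_card_of_fixed_point S hcardS hfix1
  have htx : t x = x := by
    have := hxfix ⟨t, Subgroup.mem_zpowers t⟩
    exact congrArg Subtype.val this
  obtain ⟨⟨a, ha⟩, hx2⟩ := hxS
  have hx2' : x ^ 2 = 1 := hx2
  have hta : t a = x * a := by
    rw [← ha, hφ, div_mul_cancel]
  have htta : t (t a) = a := by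
    rw [hta, map_mul, htx, hta, ← mul_assoc, ← sq, hx2', one_mul]
  have := hC a htta
  rw [hta] at this
  have hx1' : x = 1 := by
    have h := mul_eq_right.mp this
    exact h
  apply hx1
  apply Subtype.ext
  exact hx1'.symm

end Cfsg.Agent.S1780
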