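import Mathlib
import Cfsg.Statements.S0007

set_option autoImplicit false
open Pointwise
open Cfsg

namespace Cfsg.Agent.S0007

/-- Subgroups of coprime index: the intersection has index equal to the product of the indices, and every element is a product of an element of the first subgroup and an element of the second. -/
theorem result {G : Type*} [Group G] [Finite G] (H K : Subgroup G)
    (h : H.index.Coprime K.index) :
    (H ⊓ K).index = H.index * K.index ∧ ∀ g : G, ∃ x ∈ H, ∃ y ∈ K, g = x * y := by
  have h1 : (H ⊓ K).index = H.index * K.index := by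
    apply Nat.le_antisymm Subgroup.index_inf_le
    apply Nat.le_of_dvd (Nat.pos_of_ne_zero Subgroup.index_ne_zero_of_finite)
    exact Nat.Coprime.mul_dvd_of_dvd_of_dvd h (Subgroup.index_dvd_of_le inf_le_left)
        (Subgroup.index_dvd_of_le inf_le_right)
  refine ⟨h1, ?_⟩
  -- relIndex H K = H.index
  have h2 : H.relIndex K = H.index := by
    have := Subgroup.relIndex_mul_index (inf_le_right : H ⊓ K ≤ K)
    rw [Subgroup.inf_relIndex_right, h1] at this
    exact Nat.eq_of_mul_eq_mul_right (Nat.pos_of_ne_zero Subgroup.index_ne_zero_of_finite) this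
  -- K acts on G ⧸ H; orbit of the trivial coset is everything
  have key : ∀ g : G, ∃ y ∈ K, ∃ x ∈ H, g = y * x := by
    intro g
    have hstab : MulAction.stabilizer K ((1 : G) : G ⧸ H) = H.subgroupOf K := by
      ext k
      have : k • (((1 : G) : G ⧸ H)) = (((k : G) * 1 : G) : G ⧸ H) := rfl
      rw [MulAction.mem_stabilizer_iff, this, QuotientGroup.eq, Subgroup.mem_subgroupOf]
      simp
    have horb : (MulAction.orbit K ((1 : G) : G ⧸ H)).ncard = Nat.card (G ⧸ H) := by
      rw [← MulAction.index_stabilizer, hstab, ← Subgroup.index_eq_card]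
      exact h2
    have huniv : MulAction.orbit K ((1 : G) : G ⧸ H) = Set.univ :=
      (Set.eq_univ_iff_ncard _).mpr horb
    have hg : ((g : G) : G ⧸ H) ∈ MulAction.orbit K ((1 : G) : G ⧸ H) := by
      rw [huniv]; trivial
    obtain ⟨k, hk⟩ := hg
    have : k • (((1 : G) : G ⧸ H)) = (((k : G) * 1 : G) : G ⧸ H) := rfl
    have hk2 : (((k : G) * 1 : G) : G ⧸ H) = ((g : G) : G ⧸ H) := this ▸ hk
    have hk' := QuotientGroup.eq.mp hk2
    refine ⟨k, k.2, _, hk', ?_⟩
    simp
  intro g
  obtain ⟨y, hy, x, hx, hg⟩ := key g⁻¹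
  refine ⟨x⁻¹, H.inv_mem hx, y⁻¹, K.inv_mem hy, ?_⟩
  rw [← mul_inv_rev, ← hg, inv_inv]

end Cfsg.Agent.S0007
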