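import Cfsg.Statements.S0019
import Mathlib
import Cfsg.Agent.Helper1.MinNormal
import Cfsg.Agent.Helper1.HallAux

set_option autoImplicit false
open Cfsg

namespace Cfsg.Agent.S0019

universe u

/-- A `p`-subgroup is conjugate into any subgroup of index prime to `p`. -/
theorem pgroup_conj_le_of_index {G : Type*} [Group G] [Finite G] {p : ℕ} [Fact p.Prime]
    (N H : Subgroup G) (hN : IsPGroup p N) (hH : ¬ p ∣ H.index) :
    ∃ g : G, ∀ n ∈ N, g⁻¹ * n * g ∈ H := by
  have hcard : ¬ p ∣ Nat.card (G ⧸ H) := by rwa [← Subgroup.index_eq_card]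
  obtain ⟨q, hq⟩ := hN.nonempty_fixed_point_of_prime_not_dvd_card (G ⧸ H) hcard
  obtain ⟨g, rfl⟩ := QuotientGroup.mk_surjective q
  refine ⟨g, fun n hn => ?_⟩
  have := hq ⟨n, hn⟩
  have h2 : (⟨n, hn⟩ : N) • (g : G ⧸ H) = ((n * g : G) : G ⧸ H) := rfl
  rw [h2, QuotientGroup.eq] at this
  have h3 : (n * g)⁻¹ * g = (g⁻¹ * n * g)⁻¹ := by group
  rw [h3] at this
  exact (Subgroup.inv_mem_iff H).mp this

/-- Key step: a `p`-subgroup `N` normalised by `H₁` has its normal closure inside `H`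
whenever `G = H₁ H` and the index of `H` is prime to `p`. -/
theorem normalClosure_le_of_factor {G : Type*} [Group G] [Finite G] {p : ℕ} [Fact p.Prime]
    (H₁ H N : Subgroup G) (hN : IsPGroup p N) (hH : ¬ p ∣ H.index)
    (hnorm : H₁ ≤ Subgroup.normalizer (N : Set G))
    (hfac : ∀ g : G, ∃ x ∈ H₁, ∃ y ∈ H, g = x * y) :
    Subgroup.normalClosure (N : Set G) ≤ H := by
  -- first N ≤ H
  have hNH : N ≤ H := by
    obtain ⟨g, hg⟩ := pgroup_conj_le_of_index N H hN hH
    obtain ⟨x, hx, y, hy, rfl⟩ := hfac g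
    intro n hn
    have hx' := hnorm hx
    rw [Subgroup.mem_normalizer_iff] at hx'
    -- x n' x⁻¹ = n for some n' ∈ N : n' = x⁻¹ n x
    have hn' : x * n * x⁻¹ ∈ N := (hx' n).mp hn
    have h1 := hg _ hn'
    have h2 : (x * y)⁻¹ * (x * n * x⁻¹) * (x * y) = y⁻¹ * n * y := by group
    rw [h2] at h1
    have h3 : n = y * (y⁻¹ * n * y) * y⁻¹ := by group
    rw [h3]
    exact H.mul_mem (H.mul_mem hy h1) (H.inv_mem hy)
  rw [Subgroup.normalClosure, Subgroup.closure_le]
  rintro z hz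
  rw [Group.mem_conjugatesOfSet_iff] at hz
  obtain ⟨n, hn, hz⟩ := hz
  rw [isConj_iff] at hz
  obtain ⟨g, rfl⟩ := hz
  -- write g⁻¹ = x y, so g = y⁻¹ x⁻¹
  obtain ⟨x, hx, y, hy, hg⟩ := hfac g⁻¹
  have hg' : g = y⁻¹ * x⁻¹ := by
    rw [← inv_inv g, hg]; group
  have hx' := hnorm (H₁.inv_mem hx)
  rw [Subgroup.mem_normalizer_iff] at hx'
  have hn' : x⁻¹ * n * x⁻¹⁻¹ ∈ N := (hx' n).mp hn
  have h1 : g * n * g⁻¹ = y⁻¹ * (x⁻¹ * n * x⁻¹⁻¹) * y := by rw [hg']; group
  rw [SetLike.mem_coe, h1]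
  exact H.mul_mem (H.mul_mem (H.inv_mem hy) (hNH hn')) hy

theorem aux : ∀ (k : ℕ) (G : Type u) [Group G] [Finite G], Nat.card G = k →
    ∀ (H₁ H₂ H₃ : Subgroup G), Group.IsSolvable H₁ → Group.IsSolvable H₂ → Group.IsSolvable H₃ →
    (∀ g : G, ∃ x ∈ H₁, ∃ y ∈ H₂, g = x * y) → (∀ g : G, ∃ x ∈ H₁, ∃ y ∈ H₃, g = x * y) →
    H₂.index.Coprime H₃.index → Group.IsSolvable G := by
  intro k
  induction k using Nat.strong_induction_on with
  | _ k ih =>
  intro G _ _ hk H₁ H₂ H₃ h₁ h₂ h₃ h12 h13 hcop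
  by_cases hbot : H₁ = ⊥
  · -- then H₂ = ⊤
    have htop : H₂ = ⊤ := by
      rw [eq_top_iff]
      intro g _
      obtain ⟨x, hx, y, hy, rfl⟩ := h12 g
      rw [hbot, Subgroup.mem_bot] at hx
      rw [hx, one_mul]; exact hy
    rw [htop] at h₂
    exact Group.isSolvable_of_surjective (f := (⊤ : Subgroup G).subtype)
      (fun g => ⟨⟨g, Subgroup.mem_top g⟩, rfl⟩)
  · have hnt : Nontrivial H₁ := by rwa [Subgroup.nontrivial_iff_ne_bot]
    obtain ⟨p, N₀, hp, hN₀n, hN₀ne, hN₀p, -, -⟩ :=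
      Cfsg.Agent.Helper1.exists_normal_pgroup_of_solvable (G := H₁)
    have : Fact p.Prime := ⟨hp⟩
    set N := N₀.map H₁.subtype with hN
    have hNp : IsPGroup p N := hN₀p.map H₁.subtype
    have hNne : N ≠ ⊥ := by
      intro h
      apply hN₀ne
      rw [hN, Subgroup.map_eq_bot_iff_of_injective _ H₁.subtype_injective] at h
      exact h
    have hnorm : H₁ ≤ Subgroup.normalizer (N : Set G) := by
      intro x hx
      rw [Subgroup.mem_normalizer_iff]
      intro n
      constructor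
      · rintro ⟨n₀, hn₀, rfl⟩
        exact ⟨⟨x, hx⟩ * n₀ * ⟨x, hx⟩⁻¹, hN₀n.conj_mem n₀ hn₀ ⟨x, hx⟩, rfl⟩
      · rintro ⟨m₀, hm₀, hm⟩
        refine ⟨⟨x, hx⟩⁻¹ * m₀ * ⟨x, hx⟩, ?_, ?_⟩
        · have := hN₀n.conj_mem m₀ hm₀ ⟨x, hx⟩⁻¹
          simpa using this
        · simp only [Subgroup.subtype_apply, Subgroup.coe_mul, Subgroup.coe_inv] at hm ⊢
          rw [hm]; group
    -- p does not divide one of the indices
    have hpi : ¬ p ∣ H₂.index ∨ ¬ p ∣ H₃.index := by
      by_contra h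
      push Not at h
      have := Nat.dvd_gcd h.1 h.2
      rw [hcop.gcd_eq_one] at this
      exact hp.one_lt.ne' (Nat.dvd_one.mp this)
    -- a nontrivial solvable normal subgroup M
    obtain ⟨M, hMn, hMne, hMs⟩ : ∃ M : Subgroup G, M.Normal ∧ M ≠ ⊥ ∧ Group.IsSolvable M := by
      refine ⟨Subgroup.normalClosure (N : Set G), Subgroup.normalClosure_normal, ?_, ?_⟩
      · intro h
        apply hNne
        rw [eq_bot_iff, ← h]
        exact Subgroup.le_normalClosure
      · rcases hpi with h | h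
        · have hle := normalClosure_le_of_factor H₁ H₂ N hNp h hnorm h12
          exact Group.isSolvable_of_isSolvable_injective (f := Subgroup.inclusion hle)
            (Subgroup.inclusion_injective hle)
        · have hle := normalClosure_le_of_factor H₁ H₃ N hNp h hnorm h13
          exact Group.isSolvable_of_isSolvable_injective (f := Subgroup.inclusion hle)
            (Subgroup.inclusion_injective hle)
    set π := QuotientGroup.mk' M with hπ
    have hπs : Function.Surjective π := QuotientGroup.mk'_surjective M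
    have hlt : Nat.card (G ⧸ M) < k := by
      have h1 := Cfsg.Agent.Helper1.card_quotient_mul_card M
      rw [hk] at h1
      have h2 : 1 < Nat.card M := by
        rw [Subgroup.one_lt_card_iff_ne_bot]; exact hMne
      have h3 : 0 < Nat.card (G ⧸ M) := Nat.card_pos
      nlinarith
    have hsolvmap : ∀ H : Subgroup G, Group.IsSolvable H → Group.IsSolvable (H.map π) := by
      intro H hH
      exact Group.isSolvable_of_surjective (f := (π.subgroupMap H)) (π.subgroupMap_surjective H)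
    have hfacmap : ∀ H : Subgroup G, (∀ g : G, ∃ x ∈ H₁, ∃ y ∈ H, g = x * y) →
        ∀ q : G ⧸ M, ∃ x ∈ H₁.map π, ∃ y ∈ H.map π, q = x * y := by
      intro H hH q
      obtain ⟨g, rfl⟩ := hπs q
      obtain ⟨x, hx, y, hy, rfl⟩ := hH g
      exact ⟨π x, Subgroup.mem_map_of_mem π hx, π y, Subgroup.mem_map_of_mem π hy, map_mul π x y⟩
    have hQ : Group.IsSolvable (G ⧸ M) :=
      ih _ hlt (G ⧸ M) rfl (H₁.map π) (H₂.map π) (H₃.map π) (hsolvmap _ h₁) (hsolvmap _ h₂)
        (hsolvmap _ h₃) (hfacmap _ h12) (hfacmap _ h13)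
        (Nat.Coprime.of_dvd (Subgroup.index_map_dvd H₂ hπs) (Subgroup.index_map_dvd H₃ hπs) hcop)
    exact Group.isSolvable_of_ker_le_range M.subtype π (by
      rw [QuotientGroup.ker_mk', Subgroup.range_subtype])

/-- A finite group that factorises as H₁H₂ and as H₁H₃ with all three subgroups solvable and the indices of H₂ and H₃ coprime is solvable. -/
theorem result {G : Type*} [Group G] [Finite G] (H₁ H₂ H₃ : Subgroup G)
    (h₁ : Group.IsSolvable H₁) (h₂ : Group.IsSolvable H₂) (h₃ : Group.IsSolvable H₃)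
    (h12 : ∀ g : G, ∃ x ∈ H₁, ∃ y ∈ H₂, g = x * y) (h13 : ∀ g : G, ∃ x ∈ H₁, ∃ y ∈ H₃, g = x * y)
    (hcop : H₂.index.Coprime H₃.index) : Group.IsSolvable G := by
  exact aux _ G rfl H₁ H₂ H₃ h₁ h₂ h₃ h12 h13 hcop

end Cfsg.Agent.S0019
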