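import Cfsg.Statements.S0006
import Mathlib
import Cfsg.Agent.S0007
import Cfsg.Agent.S0019
import Cfsg.Agent.S0144

set_option autoImplicit false
open Cfsg

namespace Cfsg.Agent.S0006

universe u

/-- a number not divisible by three distinct primes is of the form `p ^ a * q ^ b`. -/
theorem two_primes_or_three (n : ℕ) (hn : n ≠ 0) :
    (∃ p q a b : ℕ, p.Prime ∧ q.Prime ∧ n = p ^ a * q ^ b) ∨
    (∃ p q r : ℕ, p.Prime ∧ q.Prime ∧ r.Prime ∧ p ≠ q ∧ p ≠ r ∧ q ≠ r ∧ p ∣ n ∧ q ∣ n ∧ r ∣ n) := by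
  by_cases h1 : n = 1
  · left
    exact ⟨2, 2, 0, 0, Nat.prime_two, Nat.prime_two, by simp [h1]⟩
  obtain ⟨p, hp, hpn⟩ := Nat.exists_prime_and_dvd h1
  obtain ⟨a, m, hpm, hnm⟩ := Nat.exists_eq_pow_mul_and_not_dvd hn p hp.ne_one
  by_cases hm1 : m = 1
  · left
    exact ⟨p, p, a, 0, hp, hp, by simp [hnm, hm1]⟩
  have hm0 : m ≠ 0 := by
    rintro rfl
    exact hpm (dvd_zero p)
  obtain ⟨q, hq, hqm⟩ := Nat.exists_prime_and_dvd hm1
  obtain ⟨b, m', hqm', hmm'⟩ := Nat.exists_eq_pow_mul_and_not_dvd hm0 q hq.ne_one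
  by_cases hm'1 : m' = 1
  · left
    exact ⟨p, q, a, b, hp, hq, by simp [hnm, hmm', hm'1]⟩
  obtain ⟨r, hr, hrm'⟩ := Nat.exists_prime_and_dvd hm'1
  right
  have hm'm : m' ∣ m := ⟨q ^ b, by rw [hmm', mul_comm]⟩
  have hmn : m ∣ n := ⟨p ^ a, by rw [hnm, mul_comm]⟩
  refine ⟨p, q, r, hp, hq, hr, ?_, ?_, ?_, hpn, hqm.trans hmn, (hrm'.trans hm'm).trans hmn⟩
  · rintro rfl
    exact hpm hqm
  · rintro rfl
    exact hpm (hrm'.trans hm'm)
  · rintro rfl
    exact hqm' hrm'

/-- the hypothesis passes to a Hall `p`-complement. -/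
theorem hyp_subgroup {G : Type*} [Group G] [Finite G]
    (h : ∀ p : ℕ, p.Prime → ∃ H : Subgroup G, H.index = p ^ (Nat.card G).factorization p)
    (p : ℕ) (hp : p.Prime) (H : Subgroup G) (hH : H.index = p ^ (Nat.card G).factorization p) :
    ∀ q : ℕ, q.Prime → ∃ K : Subgroup H, K.index = q ^ (Nat.card H).factorization q := by
  intro q hq
  have hcard : Nat.card G = Nat.card H * p ^ (Nat.card G).factorization p := by
    rw [← hH, Subgroup.card_mul_index]
  have hH0 : Nat.card H ≠ 0 := Nat.card_pos.ne'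
  have hfac : ∀ r : ℕ, (Nat.card G).factorization r =
      (Nat.card H).factorization r + (p ^ (Nat.card G).factorization p).factorization r := by
    intro r
    conv_lhs => rw [hcard]
    rw [Nat.factorization_mul hH0 (pow_ne_zero _ hp.ne_zero)]
    rfl
  by_cases hqp : q = p
  · subst hqp
    refine ⟨⊤, ?_⟩
    have := hfac q
    rw [hq.factorization_pow, Finsupp.single_eq_same] at this
    have h0 : (Nat.card H).factorization q = 0 := by omega
    rw [h0, pow_zero, Subgroup.index_top]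
  · obtain ⟨Hq, hHq⟩ := h q hq
    refine ⟨Hq.subgroupOf H, ?_⟩
    have hcop : Hq.index.Coprime H.index := by
      rw [hHq, hH]
      exact Nat.Coprime.pow _ _ ((Nat.coprime_primes hq hp).mpr hqp)
    have h1 := (Cfsg.Agent.S0007.result Hq H hcop).1
    have h2 := Subgroup.relIndex_mul_index (inf_le_right : Hq ⊓ H ≤ H)
    rw [Subgroup.inf_relIndex_right, h1] at h2
    have h3 : Hq.relIndex H = Hq.index :=
      Nat.eq_of_mul_eq_mul_right (Nat.pos_of_ne_zero Subgroup.index_ne_zero_of_finite) h2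
    have h4 := hfac q
    rw [hp.factorization_pow, Finsupp.single_eq_of_ne hqp] at h4
    show Hq.relIndex H = _
    rw [h3, hHq, h4, add_zero]

theorem aux : ∀ (k : ℕ) (G : Type u) [Group G] [Finite G], Nat.card G = k →
    (∀ p : ℕ, p.Prime → ∃ H : Subgroup G, H.index = p ^ (Nat.card G).factorization p) →
    Group.IsSolvable G := by
  intro k
  induction k using Nat.strong_induction_on with
  | _ k ih =>
  intro G _ _ hk h
  rcases two_primes_or_three (Nat.card G) Nat.card_pos.ne' with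
    ⟨p, q, a, b, hp, hq, hn⟩ | ⟨p, q, r, hp, hq, hr, hpq, hpr, hqr, hpn, hqn, hrn⟩
  · exact Cfsg.Agent.S0144.result p q a b hp hq hn
  · obtain ⟨H₁, hH₁⟩ := h p hp
    obtain ⟨H₂, hH₂⟩ := h q hq
    obtain ⟨H₃, hH₃⟩ := h r hr
    have hsolv : ∀ (s : ℕ) (hs : s.Prime) (hsn : s ∣ Nat.card G) (H : Subgroup G)
        (hH : H.index = s ^ (Nat.card G).factorization s), Group.IsSolvable H := by
      intro s hs hsn H hH
      have hlt : Nat.card H < k := by
        rw [← hk, ← Subgroup.card_mul_index H]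
        have hpos : 0 < (Nat.card G).factorization s :=
          hs.factorization_pos_of_dvd Nat.card_pos.ne' hsn
        have : 1 < H.index := by
          rw [hH]
          exact Nat.one_lt_pow hpos.ne' hs.one_lt
        have h0 : 0 < Nat.card H := Nat.card_pos
        nlinarith
      exact ih _ hlt H rfl (hyp_subgroup h s hs H hH)
    have c12 : H₁.index.Coprime H₂.index := by
      rw [hH₁, hH₂]; exact Nat.Coprime.pow _ _ ((Nat.coprime_primes hp hq).mpr hpq)
    have c13 : H₁.index.Coprime H₃.index := by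
      rw [hH₁, hH₃]; exact Nat.Coprime.pow _ _ ((Nat.coprime_primes hp hr).mpr hpr)
    have c23 : H₂.index.Coprime H₃.index := by
      rw [hH₂, hH₃]; exact Nat.Coprime.pow _ _ ((Nat.coprime_primes hq hr).mpr hqr)
    exact Cfsg.Agent.S0019.aux _ G rfl H₁ H₂ H₃ (hsolv p hp hpn H₁ hH₁) (hsolv q hq hqn H₂ hH₂)
      (hsolv r hr hrn H₃ hH₃) (Cfsg.Agent.S0007.result H₁ H₂ c12).2
      (Cfsg.Agent.S0007.result H₁ H₃ c13).2 c23

/-- Converse of Hall's Theorem: if for every prime p a finite group has a subgroup of index equal to the p-part of the group order (a Hall p-complement), then the group is solvable. -/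
theorem result {G : Type*} [Group G] [Finite G]
    (h : ∀ p : ℕ, p.Prime → ∃ H : Subgroup G, H.index = p ^ (Nat.card G).factorization p) :
    Group.IsSolvable G := by
  exact aux _ G rfl h

end Cfsg.Agent.S0006
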