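import Mathlib
import Cfsg.Statements.S0011

set_option autoImplicit false
set_option linter.style.haveILetI false
open Cfsg

namespace Cfsg.Agent.S0011

/-- If the Frattini quotient of a finite group is nilpotent then the group is nilpotent. -/
theorem result {G : Type*} [Group G] [Finite G]
    (h : Group.IsNilpotent (G ⧸ frattini G)) : Group.IsNilpotent G := by
  apply (Group.isNilpotent_of_finite_tfae (G := G)).out 3 0 |>.mp
  intro p hp P
  haveI := hp
  set Φ := frattini G with hΦ
  set π := QuotientGroup.mk' Φ with hπ
  have hπs : Function.Surjective π := QuotientGroup.mk'_surjective Φ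
  -- the image of P is a normal Sylow subgroup of the quotient
  have hPbar : ((P.mapSurjective hπs : Sylow p (G ⧸ Φ)) : Subgroup (G ⧸ Φ)).Normal := inferInstance
  rw [Sylow.coe_mapSurjective] at hPbar
  set K := ((P : Subgroup G).map π).comap π with hK
  haveI hKn : K.Normal := Subgroup.Normal.comap hPbar π
  have hPK : (P : Subgroup G) ≤ K := Subgroup.le_comap_map π _
  have hKeq : K = (P : Subgroup G) ⊔ Φ := by
    rw [hK, Subgroup.comap_map_eq, QuotientGroup.ker_mk']
  have h1 := Sylow.normalizer_sup_eq_top' P hPK
  rw [hKeq, ← sup_assoc] at h1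
  have hle : (P : Subgroup G) ≤ Subgroup.normalizer (P : Set G) := Subgroup.le_normalizer
  rw [sup_of_le_left hle] at h1
  have h2 := frattini_nongenerating h1
  exact Subgroup.normalizer_eq_top_iff.mp h2

end Cfsg.Agent.S0011
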