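import Mathlib
import Cfsg.Statements.S0013
import Cfsg.Agent.Helper1.PGroup

set_option autoImplicit false
open Pointwise
open Cfsg

namespace Cfsg.Agent.S0013

/-- In a finite p-group the Frattini subgroup is the smallest normal subgroup with elementary abelian quotient: it lies below any normal subgroup containing all commutators and all p-th powers. -/
theorem result {G : Type*} [Group G] [Finite G] (p : ℕ) [Fact p.Prime]
    (hG : IsPGroup p G) (N : Subgroup G) [N.Normal] (hcomm : commutator G ≤ N) (hpow : ∀ x : G, x ^ p ∈ N) :
    frattini G ≤ N := by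
  have hs : Function.Surjective (QuotientGroup.mk' N) := QuotientGroup.mk'_surjective N
  have h1 := frattini_le_comap_frattini_of_surjective hs
  have hc : IsMulCommutative (G ⧸ N) :=
    Subgroup.Normal.quotient_commutative_iff_commutator_le.mpr hcomm
  have h2 : frattini (G ⧸ N) = ⊥ := by
    apply Cfsg.Agent.Helper1.frattini_eq_bot_of_elementary (p := p) Fact.out
    · intro a b; exact mul_comm' a b
    · intro a
      obtain ⟨x, rfl⟩ := hs a
      rw [← map_pow]
      exact (QuotientGroup.eq_one_iff _).mpr (hpow x)
  rw [h2] at h1
  intro x hx
  have := h1 hx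
  rw [Subgroup.mem_comap, Subgroup.mem_bot] at this
  exact (QuotientGroup.eq_one_iff x).mp this

end Cfsg.Agent.S0013
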