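import Cfsg.Statements.S0018
import Mathlib
import Cfsg.Agent.S0017
import Cfsg.Agent.S0010
import Cfsg.Agent.Helper19.Cores
import Cfsg.Agent.Helper1.HallAux

set_option autoImplicit false
open Cfsg

namespace Cfsg.Agent.S0018

/-- A finite solvable group whose Sylow p-subgroups are abelian has p-length one: a Sylow p-subgroup together with the largest normal subgroup of order prime to p generates a normal subgroup. -/
theorem result {G : Type*} [Group G] [Finite G] [Group.IsSolvable G]
    (p : ℕ) [Fact p.Prime] (P : Sylow p G) (hP : IsMulCommutative P) :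
    ((P : Subgroup G) ⊔ Cfsg.pPrimeCore p G).Normal := by
  set N := Cfsg.pPrimeCore p G with hN
  have hNn : N.Normal := Subgroup.sSup_normal _ (fun _ h => h.1)
  have hNc : (Nat.card N).Coprime p := Cfsg.Agent.Helper19.pPrimeCore_coprime p
  set π := QuotientGroup.mk' N with hπ
  have hπs : Function.Surjective π := QuotientGroup.mk'_surjective N
  -- the p'-core of the quotient is trivial
  have h1 : Cfsg.pPrimeCore p (G ⧸ N) = ⊥ := by
    set M := Cfsg.pPrimeCore p (G ⧸ N) with hM
    have hMn : M.Normal := Subgroup.sSup_normal _ (fun _ h => h.1)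
    have hMc : (Nat.card M).Coprime p := Cfsg.Agent.Helper19.pPrimeCore_coprime p
    have hle : M.comap π ≤ N := by
      apply le_sSup
      refine ⟨Subgroup.Normal.comap hMn π, ?_⟩
      rw [Cfsg.Agent.Helper1.card_comap_mk']
      exact Nat.Coprime.mul_left hMc hNc
    rw [eq_bot_iff]
    intro x hx
    obtain ⟨g, rfl⟩ := hπs x
    have : g ∈ M.comap π := hx
    have hg := hle this
    rw [Subgroup.mem_bot]
    exact (QuotientGroup.eq_one_iff g).mpr hg
  have h2 := Cfsg.Agent.S0017.result (G := G ⧸ N) p h1
  -- the image of P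
  have hPbar : (P : Subgroup G).map π = Cfsg.pCore p (G ⧸ N) := by
    apply le_antisymm
    · refine le_trans ?_ h2
      intro x hx
      rw [Subgroup.mem_centralizer_iff]
      intro y hy
      have hy' : y ∈ (P : Subgroup G).map π := by
        rw [Cfsg.Agent.S0010.result] at hy
        have := (Subgroup.mem_iInf.mp hy) (P.mapSurjective hπs)
        exact this
      obtain ⟨a, ha, rfl⟩ := hx
      obtain ⟨b, hb, rfl⟩ := hy'
      rw [← map_mul, ← map_mul]
      have := mul_comm' (⟨b, hb⟩ : (P : Subgroup G)) ⟨a, ha⟩
      have h5 : b * a = a * b := congrArg Subtype.val this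
      rw [h5]
    · rw [Cfsg.Agent.S0010.result]
      exact iInf_le _ (P.mapSurjective hπs)
  have h3 : ((P : Subgroup G).map π).Normal := by
    rw [hPbar]; exact Subgroup.sSup_normal _ (fun _ h => h.1)
  have h4 : ((P : Subgroup G) ⊔ N) = ((P : Subgroup G).map π).comap π := by
    rw [Cfsg.Agent.Helper1.comap_map_mk']
  rw [h4]
  exact Subgroup.Normal.comap h3 π

end Cfsg.Agent.S0018
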