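import Cfsg.Statements.S0021
import Mathlib
import Cfsg.Agent.S0006

set_option autoImplicit false
open Pointwise
open Cfsg

namespace Cfsg.Agent.S0021

open scoped Pointwise

section
variable {G : Type*} [Group G]

/-- two subgroups permute -/
def Perm (A B : Subgroup G) : Prop := (A : Set G) * (B : Set G) = (B : Set G) * (A : Set G)

theorem perm_bot (A : Subgroup G) : Perm A ⊥ := by
  unfold Perm
  rw [Subgroup.coe_bot]
  simp

theorem bot_perm (A : Subgroup G) : Perm ⊥ A := (perm_bot A).symm

theorem sup_coe_of_perm {A B : Subgroup G} (h : Perm A B) :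
    ((A ⊔ B : Subgroup G) : Set G) = (A : Set G) * (B : Set G) := by
  apply Set.Subset.antisymm
  · let K : Subgroup G :=
      { carrier := (A : Set G) * (B : Set G)
        one_mem' := ⟨1, A.one_mem, 1, B.one_mem, by simp⟩
        mul_mem' := by
          rintro x y ⟨a, ha, b, hb, rfl⟩ ⟨a', ha', b', hb', rfl⟩
          have : b * a' ∈ (B : Set G) * (A : Set G) := ⟨b, hb, a', ha', rfl⟩
          rw [← h] at this
          obtain ⟨a'', ha'', b'', hb'', h2⟩ := this
          refine ⟨a * a'', A.mul_mem ha ha'', b'' * b', B.mul_mem hb'' hb', ?_⟩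
          simp only at h2 ⊢
          calc a * a'' * (b'' * b') = a * (a'' * b'') * b' := by group
            _ = a * (b * a') * b' := by rw [h2]
            _ = a * b * (a' * b') := by group
        inv_mem' := by
          rintro x ⟨a, ha, b, hb, rfl⟩
          have : b⁻¹ * a⁻¹ ∈ (B : Set G) * (A : Set G) :=
            ⟨b⁻¹, B.inv_mem hb, a⁻¹, A.inv_mem ha, rfl⟩
          rw [← h] at this
          simpa using this }
    have hA : A ≤ K := fun a ha => ⟨a, ha, 1, B.one_mem, by simp⟩
    have hB : B ≤ K := fun b hb => ⟨1, A.one_mem, b, hb, by simp⟩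
    exact sup_le hA hB
  · rintro x ⟨a, ha, b, hb, rfl⟩
    exact Subgroup.mul_mem_sup ha hb

theorem perm_sup {A B C : Subgroup G} (hAB : Perm A B) (hAC : Perm A C) (hBC : Perm B C) :
    Perm A (B ⊔ C) := by
  unfold Perm at *
  rw [sup_coe_of_perm hBC, ← mul_assoc, hAB, mul_assoc, hAC, ← mul_assoc]

theorem card_sup_le_of_perm {A B : Subgroup G} (h : Perm A B) :
    Nat.card (A ⊔ B : Subgroup G) ≤ Nat.card A * Nat.card B := by
  have h1 : Nat.card (A ⊔ B : Subgroup G) = Nat.card ((A : Set G) * (B : Set G) : Set G) := by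
    rw [← sup_coe_of_perm h]; rfl
  rw [h1]
  exact Set.natCard_mul_le

theorem finset_sup_perm (S' : ℕ → Subgroup G) (hperm : ∀ p q, Perm (S' p) (S' q))
    (T : Finset ℕ) :
    (∀ p, Perm (S' p) (T.sup S')) ∧ Nat.card (T.sup S' : Subgroup G) ≤ ∏ q ∈ T, Nat.card (S' q) := by
  classical
  induction T using Finset.induction_on with
  | empty =>
    refine ⟨fun p => ?_, ?_⟩
    · rw [Finset.sup_empty]; exact perm_bot _
    · rw [Finset.sup_empty, Finset.prod_empty, Subgroup.card_bot]
  | insert q T hq ih =>
    refine ⟨fun p => ?_, ?_⟩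
    · rw [Finset.sup_insert]
      exact perm_sup (hperm p q) (ih.1 p) (ih.1 q)
    · rw [Finset.sup_insert, Finset.prod_insert hq]
      exact (card_sup_le_of_perm (ih.1 q)).trans (Nat.mul_le_mul_left _ ih.2)

end

/-- A finite group with a family of pairwise permuting Sylow subgroups, one for each prime, is solvable (this direction rests on Burnside's two-prime Theorem). -/
theorem result {G : Type*} [Group G] [Finite G]
    (S : (p : Nat.Primes) → Sylow (p : ℕ) G)
    (hS : ∀ p q : Nat.Primes, (S p : Set G) * (S q : Set G) = (S q : Set G) * (S p : Set G)) :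
    Group.IsSolvable G := by
  classical
  apply Cfsg.Agent.S0006.result
  intro p hp
  set n := Nat.card G with hn
  have hn0 : n ≠ 0 := Nat.card_pos.ne'
  let S' : ℕ → Subgroup G := fun q => if h : q.Prime then (S ⟨q, h⟩ : Subgroup G) else ⊥
  have hS'p : ∀ q (h : q.Prime), S' q = (S ⟨q, h⟩ : Subgroup G) := fun q h => dif_pos h
  have hS'n : ∀ q (h : ¬ q.Prime), S' q = ⊥ := fun q h => dif_neg h
  have hperm : ∀ p q, Perm (S' p) (S' q) := by
    intro p q
    by_cases hp : p.Prime
    · by_cases hq : q.Prime
      · rw [hS'p p hp, hS'p q hq]; exact hS ⟨p, hp⟩ ⟨q, hq⟩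
      · rw [hS'n q hq]; exact perm_bot _
    · rw [hS'n p hp]; exact bot_perm _
  have hcardS' : ∀ q, q.Prime → Nat.card (S' q) = q ^ n.factorization q := by
    intro q hq
    rw [hS'p q hq]
    have : Fact q.Prime := ⟨hq⟩
    exact Sylow.card_eq_multiplicity (S ⟨q, hq⟩)
  set T := n.primeFactors.erase p with hT
  obtain ⟨-, hle⟩ := finset_sup_perm S' hperm T
  set H := T.sup S' with hH
  refine ⟨H, ?_⟩
  set m := ∏ q ∈ T, q ^ n.factorization q with hm
  have hprodeq : ∏ q ∈ T, Nat.card (S' q) = m := by
    apply Finset.prod_congr rfl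
    intro q hq
    exact hcardS' q (Nat.prime_of_mem_primeFactors (Finset.mem_of_mem_erase hq))
  rw [hprodeq] at hle
  have hdvd : m ∣ Nat.card H := by
    apply Finset.prod_dvd_of_isRelPrime
    · intro q hq q' hq' hne
      have hqp := Nat.prime_of_mem_primeFactors (Finset.mem_of_mem_erase hq)
      have hq'p := Nat.prime_of_mem_primeFactors (Finset.mem_of_mem_erase hq')
      show IsRelPrime _ _
      rw [← Nat.coprime_iff_isRelPrime]
      exact Nat.Coprime.pow _ _ ((Nat.coprime_primes hqp hq'p).mpr hne)
    · intro q hq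
      have hqp := Nat.prime_of_mem_primeFactors (Finset.mem_of_mem_erase hq)
      rw [← hcardS' q hqp]
      exact Subgroup.card_dvd_of_le (Finset.le_sup hq)
  have hcardH : Nat.card H = m := Nat.le_antisymm hle (Nat.le_of_dvd Nat.card_pos hdvd)
  have hnm : n = p ^ n.factorization p * m := by
    have h1 : n = ∏ q ∈ n.primeFactors, q ^ n.factorization q := by
      conv_lhs => rw [← Nat.prod_factorization_pow_eq_self hn0]
      rfl
    by_cases hpn : p ∈ n.primeFactors
    · rw [hm, hT, Finset.mul_prod_erase _ (fun q => q ^ n.factorization q) hpn]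
      exact h1
    · have h0 : n.factorization p = 0 := by
        rw [← Finsupp.notMem_support_iff, Nat.support_factorization]; exact hpn
      rw [h0, pow_zero, one_mul, hm, hT, Finset.erase_eq_of_notMem hpn]
      exact h1
  have hidx := H.index_mul_card
  rw [hcardH, ← hn] at hidx
  have hm0 : 0 < m := by rw [← hcardH]; exact Nat.card_pos
  have : H.index * m = p ^ n.factorization p * m := by rw [hidx]; exact hnm
  exact Nat.eq_of_mul_eq_mul_right hm0 this

end Cfsg.Agent.S0021
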