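import Mathlib
import Cfsg.Statements.S0031

set_option autoImplicit false
open Pointwise
open Cfsg

namespace Cfsg.Agent.S0031

/-- A fixed-point-free automorphism of a finite group maps some Sylow p-subgroup to itself. -/
theorem result {G : Type*} [Group G] [Finite G] (φ : G ≃* G)
    (hφ : MonoidHom.FixedPointFree (φ : G →* G)) (p : ℕ) [Fact p.Prime] :
    ∃ P : Sylow p G, (P : Subgroup G).map (φ : G →* G) = P := by
  obtain ⟨P⟩ : Nonempty (Sylow p G) := inferInstance
  -- the image Sylow subgroup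
  let φ' : MulAut G := φ
  obtain ⟨g, hg⟩ := MulAction.exists_smul_eq G P (φ' • P)
  -- find x with φ x * g = x
  obtain ⟨y, hy⟩ := hφ.commutatorMap_surjective g⁻¹
  have hy' : y / φ y = g⁻¹ := hy
  obtain ⟨x, hx⟩ : ∃ x : G, φ x * g = x := by
    refine ⟨y⁻¹, ?_⟩
    have : g = (y / φ y)⁻¹ := by rw [hy', inv_inv]
    rw [this, map_inv]; simp [div_eq_mul_inv]
  refine ⟨x • P, ?_⟩
  have h1 : ((φ' • P : Sylow p G) : Subgroup G) = (P : Subgroup G).map (φ : G →* G) := by
    rw [Sylow.pointwise_smul_def]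
    rfl
  have h2 : MulAut.conj g • (P : Subgroup G) = (P : Subgroup G).map (φ : G →* G) := by
    rw [← Sylow.coe_subgroup_smul, hg, h1]
  have h3 : ∀ w : G, g⁻¹ * w * g ∈ (P : Subgroup G) ↔ φ.symm w ∈ (P : Subgroup G) := by
    intro w
    have := congrArg (fun S : Subgroup G => w ∈ S) h2
    simp only [Subgroup.mem_pointwise_smul_iff_inv_smul_mem, MulAut.smul_def,
      ← map_inv, MulAut.conj_apply, inv_inv] at this
    rw [this]
    exact Subgroup.mem_map_equiv (f := φ)
  ext z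
  rw [Sylow.coe_subgroup_smul]
  have h4 : z ∈ Subgroup.map (φ : G →* G) (MulAut.conj x • (P : Subgroup G)) ↔
      φ.symm z ∈ MulAut.conj x • (P : Subgroup G) := Subgroup.mem_map_equiv (f := φ)
  rw [h4]
  simp only [Subgroup.mem_pointwise_smul_iff_inv_smul_mem, MulAut.smul_def,
      ← map_inv, MulAut.conj_apply, inv_inv]
  have h5 : x⁻¹ * φ.symm z * x = φ.symm ((φ x)⁻¹ * z * φ x) := by
    simp
  rw [h5, ← h3]
  have h6 : g⁻¹ * ((φ x)⁻¹ * z * φ x) * g = (φ x * g)⁻¹ * z * (φ x * g) := by group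
  rw [h6, hx]

end Cfsg.Agent.S0031
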