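import Cfsg.Statements.S0036
import Mathlib
import Cfsg.Agent.Helper1.Frobenius

set_option autoImplicit false
open Cfsg

namespace Cfsg.Agent.S0036

/-- When a Frobenius complement contains an involution, an elementary argument shows the Frobenius kernel is closed under multiplication (hence a subgroup). -/
theorem result {G : Type*} [Group G] [Finite G] (H : Subgroup G) (hH : Cfsg.IsFrobeniusComplement H)
    (t : G) (ht : t ∈ H) (ht1 : t ≠ 1) (ht2 : t * t = 1) :
    ∀ x ∈ Cfsg.frobeniusKernel H, ∀ y ∈ Cfsg.frobeniusKernel H, x * y ∈ Cfsg.frobeniusKernel H := by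
  classical
  -- Claim 0
  have claim0 : ∀ x g₁ g₂ : G, x ≠ 1 → g₁ * x * g₁⁻¹ ∈ H → g₂ * x * g₂⁻¹ ∈ H → g₂ * g₁⁻¹ ∈ H := by
    intro x g₁ g₂ hx h1 h2
    by_contra hn
    have h3 : (g₂ * g₁⁻¹) * (g₁ * x * g₁⁻¹) * (g₂ * g₁⁻¹)⁻¹ = g₂ * x * g₂⁻¹ := by group
    have := Cfsg.Agent.Helper1.frob_inter' hH hn h1 (by rw [h3]; exact h2)
    apply hx
    have e : x = g₁⁻¹ * (g₁ * x * g₁⁻¹) * g₁ := by group
    rw [e, this]; group
  -- the involutions
  let τ : G ⧸ H → G := fun q => q.out * t * (q.out)⁻¹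
  have hτ2 : ∀ q, τ q * τ q = 1 := by
    intro q
    show q.out * t * (q.out)⁻¹ * (q.out * t * (q.out)⁻¹) = 1
    calc q.out * t * (q.out)⁻¹ * (q.out * t * (q.out)⁻¹) = q.out * (t * t) * (q.out)⁻¹ := by group
      _ = 1 := by rw [ht2]; group
  have hτinv : ∀ q, (τ q)⁻¹ = τ q := fun q => inv_eq_of_mul_eq_one_left (hτ2 q)
  have hτ1 : ∀ q, τ q ≠ 1 := by
    intro q h
    apply ht1
    have e : t = (q.out)⁻¹ * (q.out * t * (q.out)⁻¹) * q.out := by group
    have h' : q.out * t * (q.out)⁻¹ = 1 := h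
    rw [e, h']; group
  have hτH : ∀ q, (q.out)⁻¹ * τ q * ((q.out)⁻¹)⁻¹ ∈ H := by
    intro q
    have e : (q.out)⁻¹ * (q.out * t * (q.out)⁻¹) * ((q.out)⁻¹)⁻¹ = t := by group
    show (q.out)⁻¹ * (q.out * t * (q.out)⁻¹) * ((q.out)⁻¹)⁻¹ ∈ H
    rw [e]; exact ht
  -- if τ q is conjugated into H by g then g * q.out ∈ H
  have hτg : ∀ q g, g * τ q * g⁻¹ ∈ H → g * q.out ∈ H := by
    intro q g hg
    have := claim0 (τ q) (q.out)⁻¹ g (hτ1 q) (hτH q) hg
    simpa using this
  -- Claim 1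
  have claim1 : ∀ q q', q ≠ q' → τ q * τ q' ∈ Cfsg.frobeniusKernel H := by
    intro q q' hne
    by_contra hnk
    rw [Cfsg.Agent.Helper1.not_mem_frobeniusKernel_iff] at hnk
    obtain ⟨hab1, g, hg⟩ := hnk
    set a := τ q with ha
    set b := τ q' with hb
    have hx1 : g * (a * b) * g⁻¹ ≠ 1 := by
      intro h
      apply hab1
      have e : a * b = g⁻¹ * (g * (a * b) * g⁻¹) * g := by group
      rw [e, h]; group
    -- a conjugated into H
    have haH : g * a * g⁻¹ ∈ H := by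
      by_contra hn
      apply hx1
      apply Cfsg.Agent.Helper1.frob_inter' hH hn hg
      have e : (g * a * g⁻¹) * (g * (a * b) * g⁻¹) * (g * a * g⁻¹)⁻¹ =
          g * ((a * a) * b * a⁻¹) * g⁻¹ := by group
      rw [e, hτ2 q, hτinv q, one_mul]
      have e2 : g * (b * a) * g⁻¹ = (g * (a * b) * g⁻¹)⁻¹ := by
        have : (a * b)⁻¹ = b * a := by rw [mul_inv_rev, hτinv q, hτinv q']
        rw [← this]; group
      rw [e2]; exact H.inv_mem hg
    have hbH : g * b * g⁻¹ ∈ H := by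
      by_contra hn
      apply hx1
      apply Cfsg.Agent.Helper1.frob_inter' hH hn hg
      have e : (g * b * g⁻¹) * (g * (a * b) * g⁻¹) * (g * b * g⁻¹)⁻¹ =
          g * (b * a * (b * b⁻¹)) * g⁻¹ := by group
      rw [e, mul_inv_cancel, mul_one]
      have e2 : g * (b * a) * g⁻¹ = (g * (a * b) * g⁻¹)⁻¹ := by
        have : (a * b)⁻¹ = b * a := by rw [mul_inv_rev, hτinv q, hτinv q']
        rw [← this]; group
      rw [e2]; exact H.inv_mem hg
    have h1 := hτg q g haH
    have h2 := hτg q' g hbH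
    apply hne
    rw [← q.out_eq', ← q'.out_eq']
    apply QuotientGroup.eq.mpr
    have e : (q.out)⁻¹ * q'.out = (g * q.out)⁻¹ * (g * q'.out) := by group
    rw [e]
    exact H.mul_mem (H.inv_mem h1) h2
  have hmemK : ∀ q q', τ q * τ q' ∈ Cfsg.frobeniusKernel H := by
    intro q q'
    by_cases h : q = q'
    · rw [h, hτ2]; exact Or.inl rfl
    · exact claim1 q q' h
  -- bijections G ⧸ H → K
  have hcard : Nat.card (G ⧸ H) = Nat.card (Cfsg.frobeniusKernel H) := by
    rw [Cfsg.Agent.Helper1.frob_card_kernel hH, Subgroup.index_eq_card]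
  have : Finite (Cfsg.frobeniusKernel H) := Set.toFinite _ |>.to_subtype
  let q₀ : G ⧸ H := ((1 : G) : G ⧸ H)
  let fL : G ⧸ H → Cfsg.frobeniusKernel H := fun q => ⟨τ q * τ q₀, hmemK q q₀⟩
  let fR : G ⧸ H → Cfsg.frobeniusKernel H := fun q => ⟨τ q₀ * τ q, hmemK q₀ q⟩
  have hτinj : Function.Injective τ := by
    intro q q' h
    by_contra hne
    -- τ q = τ q' conjugated into H by q.out⁻¹ and q'.out⁻¹
    have h1 := hτH q
    have h2 := hτH q'
    rw [← h] at h2
    have := claim0 (τ q) (q.out)⁻¹ (q'.out)⁻¹ (hτ1 q) h1 h2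
    apply hne
    rw [← q.out_eq', ← q'.out_eq']
    apply QuotientGroup.eq.mpr
    have e : (q.out)⁻¹ * q'.out = ((q'.out)⁻¹ * ((q.out)⁻¹)⁻¹)⁻¹ := by group
    rw [e]; exact H.inv_mem this
  have hfLinj : Function.Injective fL := by
    intro q q' h
    have : τ q * τ q₀ = τ q' * τ q₀ := congrArg Subtype.val h
    exact hτinj (mul_right_cancel this)
  have hfRinj : Function.Injective fR := by
    intro q q' h
    have : τ q₀ * τ q = τ q₀ * τ q' := congrArg Subtype.val h
    exact hτinj (mul_left_cancel this)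
  have hfLsurj : Function.Surjective fL :=
    (Function.Injective.bijective_of_nat_card_le hfLinj hcard.ge).2
  have hfRsurj : Function.Surjective fR :=
    (Function.Injective.bijective_of_nat_card_le hfRinj hcard.ge).2
  intro x hx y hy
  obtain ⟨q, hq⟩ := hfLsurj ⟨x, hx⟩
  obtain ⟨q', hq'⟩ := hfRsurj ⟨y, hy⟩
  have hxe : x = τ q * τ q₀ := (congrArg Subtype.val hq).symm
  have hye : y = τ q₀ * τ q' := (congrArg Subtype.val hq').symm
  have : x * y = τ q * τ q' := by
    rw [hxe, hye]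
    calc τ q * τ q₀ * (τ q₀ * τ q') = τ q * (τ q₀ * τ q₀) * τ q' := by group
      _ = τ q * τ q' := by rw [hτ2, mul_one]
  rw [this]
  exact hmemK q q'

end Cfsg.Agent.S0036
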