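import Cfsg.Statements.S0037
import Mathlib
import Cfsg.Agent.Helper1.FrobeniusConj

set_option autoImplicit false
open Pointwise
open Cfsg

namespace Cfsg.Agent.S0037

/-- Of two Frobenius complements in one finite group, the one of smaller (or equal) order is conjugate to a subgroup of the other. -/
theorem result {G : Type*} [Group G] [Finite G] (H H₀ : Subgroup G)
    (hH : Cfsg.IsFrobeniusComplement H) (hH₀ : Cfsg.IsFrobeniusComplement H₀) (hle : Nat.card H₀ ≤ Nat.card H) :
    ∃ g : G, MulAut.conj g • H₀ ≤ H := by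
  have : Fintype G := Fintype.ofFinite G
  obtain ⟨N, hNset, hNn, hNc⟩ := Cfsg.Agent.Helper1.frobenius_theorem hH
  obtain ⟨N₀, hN₀set, hN₀n, hN₀c⟩ := Cfsg.Agent.Helper1.frobenius_theorem hH₀
  have hcardN : Nat.card N = H.index := by
    rw [← Cfsg.Agent.Helper1.frob_card_kernel hH, ← hNset]; rfl
  have hcardN₀ : Nat.card N₀ = H₀.index := by
    rw [← Cfsg.Agent.Helper1.frob_card_kernel hH₀, ← hN₀set]; rfl
  have hidx : H.index ≤ H₀.index := by
    have h1 := H.card_mul_index
    have h2 := H₀.card_mul_index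
    by_contra hlt
    push Not at hlt
    have h3 : 0 < Nat.card H₀ := Nat.card_pos
    have : Nat.card H₀ * H₀.index < Nat.card H * H.index := by nlinarith
    omega
  have hNN₀ : N ≤ N₀ := by
    rcases Cfsg.Agent.Helper1.frob_normal_le_or_le hH hNset N₀ with h | h
    · have : N₀ = N := Subgroup.eq_of_le_of_card_ge h (by rw [hcardN, hcardN₀]; exact hidx)
      rw [this]
    · exact h
  have hcov : ∀ u ∈ H₀, u ≠ 1 → ∃ x : G, x * u * x⁻¹ ∈ H := by
    intro u hu hu1
    by_contra hcon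
    push Not at hcon
    have huK : u ∈ Cfsg.frobeniusKernel H :=
      (Cfsg.Agent.Helper1.mem_frobeniusKernel_iff H u).mpr (Or.inr hcon)
    have huN : u ∈ N := by rw [← SetLike.mem_coe, hNset]; exact huK
    have huN₀ : u ∈ N₀ := hNN₀ huN
    have hd := hN₀c.disjoint
    rw [Subgroup.disjoint_def] at hd
    exact hu1 (hd huN₀ hu)
  obtain ⟨g, hg⟩ := Cfsg.Agent.Helper1.frob_covered_le_conj hH H₀ hcov
  refine ⟨g⁻¹, ?_⟩
  intro x hx
  rw [Cfsg.Agent.Helper1.mem_conj_smul_iff] at hx
  have := hg hx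
  rw [Cfsg.Agent.Helper1.mem_conj_smul_iff] at this
  have e : g⁻¹ * (g⁻¹⁻¹ * x * g⁻¹) * g = x := by group
  rwa [e] at this

end Cfsg.Agent.S0037
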