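import Cfsg.Statements.S0038
import Mathlib
import Cfsg.Agent.Helper1.FrobeniusCompl
import Cfsg.Agent.S0037
import Cfsg.Agent.Helper26.Basic
import Cfsg.Agent.Helper23.Cyclic
import Cfsg.Agent.Helper3.Conj
import Cfsg.Agent.Helper1.Wielandt

set_option autoImplicit false
open Pointwise
open Cfsg

namespace Cfsg.Agent.S0038

open Pointwise Cfsg.Agent.Helper1

section
variable {G : Type*} [Group G] [Finite G]

theorem mem_normalizer_of_conj_mem (A : Subgroup G) (y : G) (h : ∀ a ∈ A, y * a * y⁻¹ ∈ A) :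
    y ∈ Subgroup.normalizer (A : Set G) := by
  rw [← conj_smul_eq_self_iff]
  apply Cfsg.Agent.Helper3.conj_smul_le_eq
  intro z hz
  rw [mem_conj_smul_iff] at hz
  have := h _ hz
  have e : y * (y⁻¹ * z * y) * y⁻¹ = z := by group
  rwa [e] at this

/-- a Frobenius complement properly containing another one: impossible -/
theorem no_proper_pair (H H₁ : Subgroup G) (hH : Cfsg.IsFrobeniusComplement H)
    (hH₁ : Cfsg.IsFrobeniusComplement H₁) (hlt : H₁ < H) : False := by
  classical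
  have : Fintype G := Fintype.ofFinite G
  obtain ⟨N, hNset, hNn, hNc⟩ := frobenius_theorem hH
  obtain ⟨N₁, hN₁set, hN₁n, hN₁c⟩ := frobenius_theorem hH₁
  have hcardN : Nat.card N = H.index := by
    rw [← frob_card_kernel hH, ← hNset]; rfl
  have hcardN₁ : Nat.card N₁ = H₁.index := by
    rw [← frob_card_kernel hH₁, ← hN₁set]; rfl
  have hcardlt : Nat.card H₁ < Nat.card H := Cfsg.Agent.Helper1.card_lt_of_lt' hlt
  have hidxlt : H.index < H₁.index := by
    have h1 := H.card_mul_index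
    have h2 := H₁.card_mul_index
    by_contra hcon
    push Not at hcon
    have h3 : 0 < H.index := Nat.pos_of_ne_zero Subgroup.index_ne_zero_of_finite
    have : Nat.card H₁ * H₁.index < Nat.card H * H.index := by nlinarith
    omega
  -- D = N₁ ⊓ H ≠ ⊥
  have hHN₁ : H ≤ Subgroup.normalizer (N₁ : Set G) := by
    rw [Subgroup.normalizer_eq_top_iff.mpr hN₁n]; exact le_top
  have hDbot : H ⊓ N₁ ≠ ⊥ := by
    intro h
    have h1 := Cfsg.Agent.Helper26.card_sup_mul_card_inf hHN₁
    rw [h, Subgroup.card_bot, mul_one, hcardN₁] at h1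
    have h2 : Nat.card (H ⊔ N₁ : Subgroup G) ≤ Nat.card G := Subgroup.card_le_card_group _
    have h3 := H.card_mul_index
    have h4 : 0 < Nat.card H := Nat.card_pos
    have : Nat.card H * H.index < Nat.card H * H₁.index := by nlinarith
    omega
  set D := H ⊓ N₁ with hD
  have hDH : D ≤ H := inf_le_left
  have hDN₁ : D ≤ N₁ := inf_le_right
  -- an element of prime order in H₁
  have hH₁card : Nat.card H₁ ≠ 1 := fun h => hH₁.1 (Subgroup.card_eq_one.mp h)
  obtain ⟨p, hp, hpd⟩ := Nat.exists_prime_and_dvd hH₁card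
  have : Fact p.Prime := ⟨hp⟩
  obtain ⟨h', hh'⟩ := exists_prime_orderOf_dvd_card' p hpd
  set h : G := (h' : G) with hh
  have hhH₁ : h ∈ H₁ := h'.2
  have hho : orderOf h = p := by rw [hh, Subgroup.orderOf_coe]; exact hh'
  have hh1 : h ≠ 1 := by
    intro e
    rw [e, orderOf_one] at hho
    exact hp.ne_one hho.symm
  have hF := frob_fpf hH₁ hN₁set h hhH₁ hh1
  -- normalizing
  have hHD : H ≤ Subgroup.normalizer (D : Set G) := by
    intro x hx
    apply mem_normalizer_of_conj_mem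
    intro d hd
    obtain ⟨hd1, hd2⟩ := Subgroup.mem_inf.mp hd
    exact Subgroup.mem_inf.mpr ⟨H.mul_mem (H.mul_mem hx hd1) (H.inv_mem hx), hN₁n.conj_mem d hd2 x⟩
  have hhD : Subgroup.zpowers h ≤ Subgroup.normalizer (D : Set G) :=
    (Subgroup.zpowers_le.mpr (hlt.le hhH₁)).trans hHD
  -- coprimality
  have hcopH₁ := frob_coprime hH₁
  have hcardD : Nat.card D ∣ H₁.index := by
    rw [← hcardN₁]; exact Subgroup.card_dvd_of_le hDN₁
  have hcardzp : Nat.card (Subgroup.zpowers h) = p := by rw [Nat.card_zpowers, hho]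
  have hcop : (Nat.card (Subgroup.zpowers h)).Coprime (Nat.card D) := by
    rw [hcardzp]
    exact Nat.Coprime.coprime_dvd_left hpd (Nat.Coprime.coprime_dvd_right hcardD hcopH₁)
  have hsolv : Group.IsSolvable (Subgroup.zpowers h) :=
    Group.isSolvable_of_comm (fun a b => mul_comm' a b)
  have hD1 : Nat.card D ≠ 1 := fun e => hDbot (Subgroup.card_eq_one.mp e)
  obtain ⟨q, hq, hqD⟩ := Nat.exists_prime_and_dvd hD1
  have : Fact q.Prime := ⟨hq⟩
  obtain ⟨Q, hQ⟩ := Cfsg.Agent.Lead.coprime_exists_invariant_sylow (Subgroup.zpowers h) D hhD hcop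
    (Or.inl hsolv) q
  set Q' : Subgroup G := (Q : Subgroup D).map D.subtype with hQ'
  have hQ'p : IsPGroup q Q' := Q.isPGroup'.map D.subtype
  have hQ'1 : Q' ≠ ⊥ := by
    intro e
    rw [hQ', Subgroup.map_eq_bot_iff_of_injective _ D.subtype_injective] at e
    have := Q.card_eq_multiplicity
    rw [e, Subgroup.card_bot] at this
    have hpos : 0 < (Nat.card D).factorization q :=
      hq.factorization_pos_of_dvd Nat.card_pos.ne' hqD
    have : 1 < q ^ (Nat.card D).factorization q := Nat.one_lt_pow hpos.ne' hq.one_lt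
    omega
  have hQ'D : Q' ≤ D := by
    intro x hx
    rw [hQ'] at hx
    obtain ⟨y, -, rfl⟩ := hx
    exact y.2
  set Z := centerIn Q' with hZ
  have hZc : IsMulCommutative Z := centerIn_comm Q'
  have hZ1 : Z ≠ ⊥ := centerIn_ne_bot hQ'p hQ'1
  have hZQ' : Z ≤ Q' := inf_le_left
  have hZH : Z ≤ H := hZQ'.trans (hQ'D.trans hDH)
  have hhZ : h ∈ Subgroup.normalizer (Z : Set G) :=
    normalizer_le_normalizer_centerIn Q' (hQ (Subgroup.mem_zpowers h))
  have hZcyc : IsCyclic Z := frob_compl_subgroup_cyclic hH hNset Z hZH (Or.inl hZc)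
  -- an element of order q in Z
  have hZp : IsPGroup q Z := hQ'p.to_le hZQ'
  have hqZ : q ∣ Nat.card Z := by
    rcases hZp.card_eq_or_dvd with e | e
    · exact absurd (Subgroup.card_eq_one.mp e) hZ1
    · exact e
  obtain ⟨z', hz'⟩ := exists_prime_orderOf_dvd_card' q hqZ
  set z : G := (z' : G) with hz
  have hzZ : z ∈ Z := z'.2
  have hzo : orderOf z = q := by rw [hz, Subgroup.orderOf_coe]; exact hz'
  have hz1 : z ≠ 1 := by
    intro e
    rw [e, orderOf_one] at hzo
    exact hq.ne_one hzo.symm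
  set Ω := Subgroup.zpowers z with hΩ
  have hΩZ : Ω ≤ Z := Subgroup.zpowers_le.mpr hzZ
  have hΩcard : Nat.card Ω = q := by rw [hΩ, Nat.card_zpowers, hzo]
  -- h normalizes Ω
  have hhΩ : h ∈ Subgroup.normalizer (Ω : Set G) := by
    rw [← conj_smul_eq_self_iff]
    apply Cfsg.Agent.Helper23.eq_of_card_eq_of_isCyclic Z hZcyc _ _ _ hΩZ
    · rw [Cfsg.Agent.Helper3.card_conj_smul]
    · have : MulAut.conj h • Z = Z := (conj_smul_eq_self_iff h Z).mpr hhZ
      rw [← this]
      exact Subgroup.pointwise_smul_le_pointwise_smul_iff.mpr hΩZ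
  have hzpΩ : Subgroup.zpowers h ≤ Subgroup.normalizer (Ω : Set G) := Subgroup.zpowers_le.mpr hhΩ
  -- A = ⟨h⟩ Ω of order p q
  have hpq : p.Coprime q := by
    have h1 : q ∣ H₁.index := (dvd_trans hqD hcardD)
    exact Nat.Coprime.coprime_dvd_left hpd (Nat.Coprime.coprime_dvd_right h1 hcopH₁)
  set A := Subgroup.zpowers h ⊔ Ω with hA
  have hAcard : Nat.card A = p * q := by
    have h1 := Cfsg.Agent.Helper26.card_sup_mul_card_inf hzpΩ
    have h2 : Subgroup.zpowers h ⊓ Ω = ⊥ :=
      (Subgroup.disjoint_of_coprime_natCard (by rw [hcardzp, hΩcard]; exact hpq)).eq_bot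
    rw [h2, Subgroup.card_bot, mul_one, hcardzp, hΩcard] at h1
    exact h1
  have hAH : A ≤ H := sup_le (Subgroup.zpowers_le.mpr (hlt.le hhH₁)) (hΩZ.trans hZH)
  have hAcyc : IsCyclic A :=
    frob_compl_subgroup_cyclic hH hNset A hAH (Or.inr ⟨p, q, hp, hq, hAcard⟩)
  have hAc : IsMulCommutative A := IsCyclic.isMulCommutative
  have hhA : h ∈ A := (le_sup_left : Subgroup.zpowers h ≤ A) (Subgroup.mem_zpowers h)
  have hzA : z ∈ A := (le_sup_right : Ω ≤ A) (Subgroup.mem_zpowers z)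
  have hcomm : z * h = h * z :=
    congrArg Subtype.val (mul_comm' (⟨z, hzA⟩ : A) ⟨h, hhA⟩)
  have hzmem : z ∈ N₁ ⊓ Subgroup.centralizer {h} := by
    refine Subgroup.mem_inf.mpr ⟨hDN₁ (hQ'D (hZQ' hzZ)), ?_⟩
    rw [Subgroup.mem_centralizer_singleton_iff]
    exact hcomm
  rw [hF] at hzmem
  exact hz1 hzmem

theorem aux (H H₀ : Subgroup G) (hH : Cfsg.IsFrobeniusComplement H)
    (hH₀ : Cfsg.IsFrobeniusComplement H₀) (hle : Nat.card H₀ ≤ Nat.card H) :
    ∃ g : G, MulAut.conj g • H₀ = H := by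
  obtain ⟨g, hg⟩ := Cfsg.Agent.S0037.result H H₀ hH hH₀ hle
  refine ⟨g, ?_⟩
  by_contra hne
  exact no_proper_pair H _ hH (frob_conj hH₀ g) (lt_of_le_of_ne hg hne)

end

/-- All Frobenius complements of a finite group are conjugate to one another. -/
theorem result {G : Type*} [Group G] [Finite G] (H H₀ : Subgroup G)
    (hH : Cfsg.IsFrobeniusComplement H) (hH₀ : Cfsg.IsFrobeniusComplement H₀) :
    ∃ g : G, MulAut.conj g • H₀ = H := by
  rcases le_total (Nat.card H₀) (Nat.card H) with h | h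
  · exact aux H H₀ hH hH₀ h
  · obtain ⟨g, hg⟩ := aux H₀ H hH₀ hH h
    refine ⟨g⁻¹, ?_⟩
    rw [← hg, map_inv, inv_smul_smul]

end Cfsg.Agent.S0038
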