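import Cfsg.Statements.S0046
import Mathlib
import Cfsg.Agent.Helper1.Frobenius

set_option autoImplicit false
open Cfsg

namespace Cfsg.Agent.S0046

universe u

open Pointwise

section
variable {G : Type*} [Group G] [Finite G]

theorem card_lt_of_lt {A B : Subgroup G} (h : A < B) : Nat.card A < Nat.card B := by
  have h1 : (A : Set G) ⊂ (B : Set G) := SetLike.coe_ssubset_coe.mpr h
  have h2 := Set.ncard_lt_ncard h1 (Set.toFinite _)
  exact h2

/-- distinct maximal subgroups intersect trivially -/
theorem coatom_inter_bot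
    (h : ∀ M : Subgroup G, IsCoatom M → Group.IsNilpotent M)
    (hsimple : ∀ N : Subgroup G, N.Normal → N = ⊥ ∨ N = ⊤) :
    ∀ (n : ℕ) (M₁ M₂ : Subgroup G), IsCoatom M₁ → IsCoatom M₂ → M₁ ≠ M₂ →
      Nat.card G - Nat.card (M₁ ⊓ M₂ : Subgroup G) = n → M₁ ⊓ M₂ = ⊥ := by
  intro n
  induction n using Nat.strong_induction_on with
  | _ n ih =>
  intro M₁ M₂ h₁ h₂ hne hn
  by_contra hD
  set D := M₁ ⊓ M₂ with hDdef
  -- N(D) ≠ ⊤
  have hND : Subgroup.normalizer (D : Set G) ≠ ⊤ := by
    intro htop
    rw [Subgroup.normalizer_eq_top_iff] at htop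
    rcases hsimple D htop with h0 | h0
    · exact hD h0
    · apply h₁.1
      rw [eq_top_iff, ← h0]
      exact inf_le_left
  obtain ⟨M, hM, hNM⟩ := (eq_top_or_exists_le_coatom _).resolve_left hND
  -- key: for a coatom M' with D < M', M = M'
  have key : ∀ M' : Subgroup G, IsCoatom M' → D ≤ M' → D ≠ M' → M = M' := by
    intro M' hM' hDM' hDne
    by_contra hMM'
    have hnil := h M' hM'
    have hnc := Group.normalizerCondition_of_isNilpotent (G := M')
    have hlt : D.subgroupOf M' < ⊤ := by
      rw [lt_top_iff_ne_top]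
      intro htop
      rw [Subgroup.subgroupOf_eq_top] at htop
      exact hDne (le_antisymm hDM' htop)
    have hlt2 := hnc _ hlt
    obtain ⟨x, hxN, hxD⟩ := SetLike.exists_of_lt hlt2
    have hxND : (x : G) ∈ Subgroup.normalizer (D : Set G) := by
      rw [Subgroup.mem_normalizer_iff] at hxN ⊢
      intro d
      constructor
      · intro hd
        have := (hxN ⟨d, hDM' hd⟩).mp (Subgroup.mem_subgroupOf.mpr hd)
        simpa [Subgroup.mem_subgroupOf] using this
      · intro hd
        have hdM' : d ∈ M' := by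
          have : d = (x : G)⁻¹ * ((x : G) * d * (x : G)⁻¹) * x := by group
          rw [this]
          exact M'.mul_mem (M'.mul_mem (M'.inv_mem x.2) (hDM' hd)) x.2
        have := (hxN ⟨d, hdM'⟩).mpr (by simpa [Subgroup.mem_subgroupOf] using hd)
        simpa [Subgroup.mem_subgroupOf] using this
    have hxM : (x : G) ∈ M := hNM hxND
    have hxnD : (x : G) ∉ D := fun hx => hxD (Subgroup.mem_subgroupOf.mpr hx)
    have hDlt : D < M ⊓ M' := by
      refine lt_of_le_of_ne (le_inf ((Subgroup.le_normalizer).trans hNM) hDM') ?_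
      intro heq
      apply hxnD
      rw [heq]
      exact ⟨hxM, x.2⟩
    have hcard : Nat.card D < Nat.card (M ⊓ M' : Subgroup G) := card_lt_of_lt hDlt
    have hle : Nat.card (M ⊓ M' : Subgroup G) ≤ Nat.card G := Subgroup.card_le_card_group _
    have h0 := ih (Nat.card G - Nat.card (M ⊓ M' : Subgroup G)) (by omega) M M' hM hM' hMM' rfl
    rw [h0] at hDlt
    exact not_lt_bot hDlt
  have hD1 : D ≠ M₁ := by
    intro heq
    have hle : M₁ ≤ M₂ := by rw [← heq]; exact inf_le_right
    exact h₂.1 (h₁.2 _ (lt_of_le_of_ne hle hne))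
  have hD2 : D ≠ M₂ := by
    intro heq
    have hle : M₂ ≤ M₁ := by rw [← heq]; exact inf_le_left
    exact h₁.1 (h₂.2 _ (lt_of_le_of_ne hle hne.symm))
  have e1 := key M₁ h₁ inf_le_left hD1
  have e2 := key M₂ h₂ inf_le_right hD2
  exact hne (e1.symm.trans e2)

/-- a conjugate of a coatom is a coatom -/
theorem coatom_conj {M : Subgroup G} (hM : IsCoatom M) (g : G) : IsCoatom (MulAut.conj g • M) := by
  exact (OrderIso.isCoatom_iff ((MulAut.conj g : G ≃* G).mapSubgroup) M).mpr hM

/-- the contradiction in the simple case -/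
theorem simple_case
    (h : ∀ M : Subgroup G, IsCoatom M → Group.IsNilpotent M)
    (hsimple : ∀ N : Subgroup G, N.Normal → N = ⊥ ∨ N = ⊤) : Group.IsSolvable G := by
  classical
  by_contra hns
  have hTI : ∀ M₁ M₂ : Subgroup G, IsCoatom M₁ → IsCoatom M₂ → M₁ ≠ M₂ → M₁ ⊓ M₂ = ⊥ :=
    fun M₁ M₂ h₁ h₂ hne => coatom_inter_bot h hsimple _ M₁ M₂ h₁ h₂ hne rfl
  -- cyclic subgroups are proper
  have hcyc : ∀ x : G, Subgroup.zpowers x ≠ ⊤ := by
    intro x htop
    apply hns
    apply Group.isSolvable_of_comm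
    intro a b
    have ha : a ∈ Subgroup.zpowers x := by rw [htop]; trivial
    have hb : b ∈ Subgroup.zpowers x := by rw [htop]; trivial
    obtain ⟨i, rfl⟩ := ha
    obtain ⟨j, rfl⟩ := hb
    exact (Commute.zpow_zpow_self x i j).eq
  -- every coatom is a Frobenius complement
  have hfrob : ∀ M : Subgroup G, IsCoatom M → Cfsg.IsFrobeniusComplement M := by
    intro M hM
    have hMbot : M ≠ ⊥ := by
      intro hbot
      -- then zpowers x = ⊤ for x ≠ 1 ... in fact for x = 1, zpowers 1 = ⊥ = M; G nontrivial?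
      by_cases hsub : ∀ x : G, x = 1
      · apply hM.1
        rw [eq_top_iff]
        intro x _
        rw [hsub x]; exact M.one_mem
      · push Not at hsub
        obtain ⟨x, hx⟩ := hsub
        have hlt : M < Subgroup.zpowers x := by
          rw [hbot, bot_lt_iff_ne_bot]
          intro h0
          apply hx
          have : x ∈ Subgroup.zpowers x := Subgroup.mem_zpowers x
          rw [h0] at this
          exact this
        exact hcyc x (hM.2 _ hlt)
    refine ⟨hMbot, hM.1, ?_⟩
    intro g hg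
    apply hTI M _ hM (coatom_conj hM g)
    intro heq
    have hgN : g ∈ Subgroup.normalizer (M : Set G) :=
      (Cfsg.Agent.Helper1.conj_smul_eq_self_iff g M).mp heq.symm
    -- N(M) = M
    have hNM : Subgroup.normalizer (M : Set G) = M := by
      by_contra hneq
      have hlt : M < Subgroup.normalizer (M : Set G) :=
        lt_of_le_of_ne Subgroup.le_normalizer (Ne.symm hneq)
      have htop := hM.2 _ hlt
      rw [Subgroup.normalizer_eq_top_iff] at htop
      rcases hsimple M htop with h0 | h0
      · exact hMbot h0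
      · exact hM.1 h0
    rw [hNM] at hgN
    exact hg hgN
  -- G is nontrivial, pick a coatom
  have hbt : (⊥ : Subgroup G) ≠ ⊤ := by
    intro hbt
    apply hns
    apply Group.isSolvable_of_comm
    intro a b
    have ha : a ∈ (⊥ : Subgroup G) := by rw [hbt]; trivial
    have hb : b ∈ (⊥ : Subgroup G) := by rw [hbt]; trivial
    rw [Subgroup.mem_bot] at ha hb
    rw [ha, hb]
  obtain ⟨M, hM, -⟩ := (eq_top_or_exists_le_coatom (⊥ : Subgroup G)).resolve_left hbt
  have hFM := hfrob M hM
  have hKM := Cfsg.Agent.Helper1.frob_card_kernel hFM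
  -- there is x ≠ 1 in the kernel of M
  have hidx : 1 < M.index := by
    have h1 : M.index ≠ 1 := fun h1 => hM.1 (Subgroup.index_eq_one.mp h1)
    have h0 : M.index ≠ 0 := Subgroup.index_ne_zero_of_finite
    omega
  obtain ⟨x, hxK, hx1⟩ : ∃ x ∈ Cfsg.frobeniusKernel M, x ≠ 1 := by
    by_contra hcon
    push Not at hcon
    have hsub : Cfsg.frobeniusKernel M ⊆ {1} := fun x hx => hcon x hx
    have := Set.ncard_le_ncard hsub (Set.toFinite _)
    rw [Set.ncard_singleton, ← Nat.card_coe_set_eq, hKM] at this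
    omega
  obtain ⟨M', hM', hxM'⟩ := (eq_top_or_exists_le_coatom (Subgroup.zpowers x)).resolve_left (hcyc x)
  have hxM'' : x ∈ M' := hxM' (Subgroup.mem_zpowers x)
  have hFM' := hfrob M' hM'
  have hKM' := Cfsg.Agent.Helper1.frob_card_kernel hFM'
  -- G is the union of the two kernels
  have hunion : Cfsg.frobeniusKernel M ∪ Cfsg.frobeniusKernel M' = Set.univ := by
    rw [Set.eq_univ_iff_forall]
    intro g
    by_contra hg
    rw [Set.mem_union, not_or, Cfsg.Agent.Helper1.not_mem_frobeniusKernel_iff,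
      Cfsg.Agent.Helper1.not_mem_frobeniusKernel_iff] at hg
    obtain ⟨⟨hg1, a, ha⟩, -, b, hb⟩ := hg
    -- g ∈ a⁻¹ M a ∩ b⁻¹ M' b
    have h1 : g ∈ MulAut.conj a⁻¹ • M := by
      rw [Cfsg.Agent.Helper1.mem_conj_smul_iff]; simpa using ha
    have h2 : g ∈ MulAut.conj b⁻¹ • M' := by
      rw [Cfsg.Agent.Helper1.mem_conj_smul_iff]; simpa using hb
    have heq : MulAut.conj a⁻¹ • M = MulAut.conj b⁻¹ • M' := by
      by_contra hne
      have := hTI _ _ (coatom_conj hM a⁻¹) (coatom_conj hM' b⁻¹) hne
      have hmem : g ∈ MulAut.conj a⁻¹ • M ⊓ MulAut.conj b⁻¹ • M' := ⟨h1, h2⟩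
      rw [this] at hmem
      exact hg1 hmem
    -- so x is in a conjugate of M
    have hx2 : b⁻¹ * x * b⁻¹⁻¹ ∈ MulAut.conj b⁻¹ • M' := by
      rw [Cfsg.Agent.Helper1.mem_conj_smul_iff]
      have : b⁻¹⁻¹ * (b⁻¹ * x * b⁻¹⁻¹) * b⁻¹ = x := by group
      rw [this]; exact hxM''
    rw [← heq, Cfsg.Agent.Helper1.mem_conj_smul_iff] at hx2
    rw [Cfsg.Agent.Helper1.mem_frobeniusKernel_iff] at hxK
    rcases hxK with hxK | hxK
    · exact hx1 hxK
    · apply hxK (a * b⁻¹)
      have : a * b⁻¹ * x * (a * b⁻¹)⁻¹ = a⁻¹⁻¹ * (b⁻¹ * x * b⁻¹⁻¹) * a⁻¹ := by group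
      rw [this]; exact hx2
  -- counting
  have hinter : 1 ≤ (Cfsg.frobeniusKernel M ∩ Cfsg.frobeniusKernel M').ncard := by
    have : 0 < (Cfsg.frobeniusKernel M ∩ Cfsg.frobeniusKernel M').ncard := by
      rw [Set.ncard_pos (Set.toFinite _)]
      exact ⟨1, Or.inl rfl, Or.inl rfl⟩
    omega
  have hcount := Set.ncard_union_add_ncard_inter (Cfsg.frobeniusKernel M) (Cfsg.frobeniusKernel M')
  have hK1 : (Cfsg.frobeniusKernel M).ncard = M.index := by
    rw [← Nat.card_coe_set_eq]; exact hKM
  have hK2 : (Cfsg.frobeniusKernel M').ncard = M'.index := by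
    rw [← Nat.card_coe_set_eq]; exact hKM'
  rw [hunion, Set.ncard_univ, hK1, hK2] at hcount
  -- index ≤ |G| / 2
  have hhalf : ∀ N : Subgroup G, N ≠ ⊥ → 2 * N.index ≤ Nat.card G := by
    intro N hN
    have h1 : 1 < Nat.card N := (Subgroup.one_lt_card_iff_ne_bot _).mpr hN
    have h2 := N.index_mul_card
    have h3 : 0 < N.index := Nat.pos_of_ne_zero Subgroup.index_ne_zero_of_finite
    nlinarith
  have h1 := hhalf M hFM.1
  have h2 := hhalf M' hFM'.1
  omega

end

theorem aux : ∀ (k : ℕ) (G : Type u) [Group G] [Finite G], Nat.card G = k →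
    (∀ M : Subgroup G, IsCoatom M → Group.IsNilpotent M) → Group.IsSolvable G := by
  intro k
  induction k using Nat.strong_induction_on with
  | _ k ih =>
  intro G _ _ hk h
  by_cases hsimple : ∀ N : Subgroup G, N.Normal → N = ⊥ ∨ N = ⊤
  · exact simple_case h hsimple
  · push Not at hsimple
    obtain ⟨N, hNn, hNbot, hNtop⟩ := hsimple
    -- N is nilpotent, hence solvable
    obtain ⟨M, hM, hNM⟩ := (eq_top_or_exists_le_coatom N).resolve_left hNtop
    have hMnil := h M hM
    have hMsol : Group.IsSolvable M := inferInstance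
    have hNsol : Group.IsSolvable N :=
      Group.isSolvable_of_isSolvable_injective (f := Subgroup.inclusion hNM)
        (Subgroup.inclusion_injective hNM)
    -- the quotient
    have hlt : Nat.card (G ⧸ N) < k := by
      have h1 := N.card_mul_index
      rw [hk, Subgroup.index_eq_card] at h1
      have h2 : 1 < Nat.card N := (Subgroup.one_lt_card_iff_ne_bot _).mpr hNbot
      have h3 : 0 < Nat.card (G ⧸ N) := Nat.card_pos
      nlinarith
    have hQ : Group.IsSolvable (G ⧸ N) := by
      apply ih _ hlt (G ⧸ N) rfl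
      intro M' hM'
      have hco := Subgroup.isCoatom_comap_of_surjective (QuotientGroup.mk'_surjective N) hM'
      have hnil := h _ hco
      exact Group.nilpotent_of_surjective ((QuotientGroup.mk' N).subgroupComap M')
        ((QuotientGroup.mk' N).subgroupComap_surjective_of_surjective M'
          (QuotientGroup.mk'_surjective N))
    exact Group.isSolvable_of_ker_le_range N.subtype (QuotientGroup.mk' N)
      (by rw [QuotientGroup.ker_mk', Subgroup.range_subtype])

/-- Schmidt's Theorem on minimal non-nilpotent groups: a finite group in which every maximal subgroup is nilpotent is solvable. -/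
theorem result {G : Type*} [Group G] [Finite G]
    (h : ∀ M : Subgroup G, IsCoatom M → Group.IsNilpotent M) : Group.IsSolvable G := by
  exact aux _ G rfl h

end Cfsg.Agent.S0046
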