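import Cfsg.Statements.S0047
import Mathlib

set_option autoImplicit false
open Cfsg

namespace Cfsg.Agent.S0047

section
variable {G : Type*} [Group G] (A B : Subgroup G)

/-- the set of commutators `a b a⁻¹ b⁻¹` -/
def commSet : Set G := {s | ∃ a ∈ A, ∃ b ∈ B, s = a * b * a⁻¹ * b⁻¹}

variable {A B}

theorem key (hA : ∀ x ∈ A, ∀ y ∈ A, x * y = y * x) (hB : ∀ x ∈ B, ∀ y ∈ B, x * y = y * x)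
    (hAB : ∀ g : G, ∃ a ∈ A, ∃ b ∈ B, g = a * b) (hBA : ∀ g : G, ∃ b ∈ B, ∃ a ∈ A, g = b * a)
    {a a₁ b b₁ : G} (ha : a ∈ A) (ha₁ : a₁ ∈ A) (hb : b ∈ B) (hb₁ : b₁ ∈ B) :
    ∃ a₃ ∈ A, ∃ b₂ ∈ B,
      (b₁ * a₁) * (a * b * a⁻¹ * b⁻¹) * (b₁ * a₁)⁻¹ = a₃ * b₂ * a₃⁻¹ * b₂⁻¹ ∧
      (a₁ * b₁) * (a * b * a⁻¹ * b⁻¹) * (a₁ * b₁)⁻¹ = a₃ * b₂ * a₃⁻¹ * b₂⁻¹ := by
  obtain ⟨b₂, hb₂, a₂, ha₂, h2⟩ := hBA (a₁ * b * a₁⁻¹)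
  obtain ⟨a₃, ha₃, b₃, hb₃, h3⟩ := hAB (b₁ * a * b₁⁻¹)
  refine ⟨a₃, ha₃, b₂, hb₂, ?_, ?_⟩
  · -- conj by a₁ first
    have e1 : a₁ * (a * b * a⁻¹ * b⁻¹) * a₁⁻¹ = a * (a₁ * b * a₁⁻¹) * a⁻¹ * (a₁ * b * a₁⁻¹)⁻¹ := by
      have hc : a₁ * a = a * a₁ := hA a₁ ha₁ a ha
      have hc' : a₁ * a⁻¹ = a⁻¹ * a₁ := by
        have := hA a₁ ha₁ a⁻¹ (A.inv_mem ha)
        exact this
      calc a₁ * (a * b * a⁻¹ * b⁻¹) * a₁⁻¹ = (a₁ * a) * b * a⁻¹ * b⁻¹ * a₁⁻¹ := by group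
        _ = (a * a₁) * b * a⁻¹ * b⁻¹ * a₁⁻¹ := by rw [hc]
        _ = a * (a₁ * b * a₁⁻¹) * (a₁ * a⁻¹) * b⁻¹ * a₁⁻¹ := by group
        _ = a * (a₁ * b * a₁⁻¹) * (a⁻¹ * a₁) * b⁻¹ * a₁⁻¹ := by rw [hc']
        _ = a * (a₁ * b * a₁⁻¹) * a⁻¹ * (a₁ * b * a₁⁻¹)⁻¹ := by group
    have e2 : a * (b₂ * a₂) * a⁻¹ * (b₂ * a₂)⁻¹ = a * b₂ * a⁻¹ * b₂⁻¹ := by
      have hc : a₂ * a⁻¹ = a⁻¹ * a₂ := hA a₂ ha₂ a⁻¹ (A.inv_mem ha)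
      calc a * (b₂ * a₂) * a⁻¹ * (b₂ * a₂)⁻¹ = a * b₂ * (a₂ * a⁻¹) * a₂⁻¹ * b₂⁻¹ := by group
        _ = a * b₂ * (a⁻¹ * a₂) * a₂⁻¹ * b₂⁻¹ := by rw [hc]
        _ = a * b₂ * a⁻¹ * b₂⁻¹ := by group
    have e3 : b₁ * (a * b₂ * a⁻¹ * b₂⁻¹) * b₁⁻¹ = (b₁ * a * b₁⁻¹) * b₂ * (b₁ * a * b₁⁻¹)⁻¹ * b₂⁻¹ := by
      have hc : b₁ * b₂ = b₂ * b₁ := hB b₁ hb₁ b₂ hb₂
      have hc' : b₂⁻¹ * b₁⁻¹ = b₁⁻¹ * b₂⁻¹ := hB _ (B.inv_mem hb₂) _ (B.inv_mem hb₁)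
      calc b₁ * (a * b₂ * a⁻¹ * b₂⁻¹) * b₁⁻¹ = b₁ * a * b₂ * a⁻¹ * (b₂⁻¹ * b₁⁻¹) := by group
        _ = b₁ * a * b₂ * a⁻¹ * (b₁⁻¹ * b₂⁻¹) := by rw [hc']
        _ = (b₁ * a * b₁⁻¹) * (b₁ * b₂) * a⁻¹ * b₁⁻¹ * b₂⁻¹ := by group
        _ = (b₁ * a * b₁⁻¹) * (b₂ * b₁) * a⁻¹ * b₁⁻¹ * b₂⁻¹ := by rw [hc]
        _ = (b₁ * a * b₁⁻¹) * b₂ * (b₁ * a * b₁⁻¹)⁻¹ * b₂⁻¹ := by group
    have e4 : (a₃ * b₃) * b₂ * (a₃ * b₃)⁻¹ * b₂⁻¹ = a₃ * b₂ * a₃⁻¹ * b₂⁻¹ := by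
      have hc : b₃ * b₂ = b₂ * b₃ := hB b₃ hb₃ b₂ hb₂
      calc (a₃ * b₃) * b₂ * (a₃ * b₃)⁻¹ * b₂⁻¹ = a₃ * (b₃ * b₂) * b₃⁻¹ * a₃⁻¹ * b₂⁻¹ := by group
        _ = a₃ * (b₂ * b₃) * b₃⁻¹ * a₃⁻¹ * b₂⁻¹ := by rw [hc]
        _ = a₃ * b₂ * a₃⁻¹ * b₂⁻¹ := by group
    calc (b₁ * a₁) * (a * b * a⁻¹ * b⁻¹) * (b₁ * a₁)⁻¹
        = b₁ * (a₁ * (a * b * a⁻¹ * b⁻¹) * a₁⁻¹) * b₁⁻¹ := by group
      _ = b₁ * (a * b₂ * a⁻¹ * b₂⁻¹) * b₁⁻¹ := by rw [e1, h2, e2]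
      _ = a₃ * b₂ * a₃⁻¹ * b₂⁻¹ := by rw [e3, h3, e4]
  · -- conj by b₁ first
    have e1 : b₁ * (a * b * a⁻¹ * b⁻¹) * b₁⁻¹ = (b₁ * a * b₁⁻¹) * b * (b₁ * a * b₁⁻¹)⁻¹ * b⁻¹ := by
      have hc : b₁ * b = b * b₁ := hB b₁ hb₁ b hb
      have hc' : b⁻¹ * b₁⁻¹ = b₁⁻¹ * b⁻¹ := hB _ (B.inv_mem hb) _ (B.inv_mem hb₁)
      calc b₁ * (a * b * a⁻¹ * b⁻¹) * b₁⁻¹ = b₁ * a * b * a⁻¹ * (b⁻¹ * b₁⁻¹) := by group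
        _ = b₁ * a * b * a⁻¹ * (b₁⁻¹ * b⁻¹) := by rw [hc']
        _ = (b₁ * a * b₁⁻¹) * (b₁ * b) * a⁻¹ * b₁⁻¹ * b⁻¹ := by group
        _ = (b₁ * a * b₁⁻¹) * (b * b₁) * a⁻¹ * b₁⁻¹ * b⁻¹ := by rw [hc]
        _ = (b₁ * a * b₁⁻¹) * b * (b₁ * a * b₁⁻¹)⁻¹ * b⁻¹ := by group
    have e2 : (a₃ * b₃) * b * (a₃ * b₃)⁻¹ * b⁻¹ = a₃ * b * a₃⁻¹ * b⁻¹ := by
      have hc : b₃ * b = b * b₃ := hB b₃ hb₃ b hb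
      calc (a₃ * b₃) * b * (a₃ * b₃)⁻¹ * b⁻¹ = a₃ * (b₃ * b) * b₃⁻¹ * a₃⁻¹ * b⁻¹ := by group
        _ = a₃ * (b * b₃) * b₃⁻¹ * a₃⁻¹ * b⁻¹ := by rw [hc]
        _ = a₃ * b * a₃⁻¹ * b⁻¹ := by group
    have e3 : a₁ * (a₃ * b * a₃⁻¹ * b⁻¹) * a₁⁻¹ = a₃ * (a₁ * b * a₁⁻¹) * a₃⁻¹ * (a₁ * b * a₁⁻¹)⁻¹ := by
      have hc : a₁ * a₃ = a₃ * a₁ := hA a₁ ha₁ a₃ ha₃
      have hc' : a₁ * a₃⁻¹ = a₃⁻¹ * a₁ := hA a₁ ha₁ a₃⁻¹ (A.inv_mem ha₃)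
      calc a₁ * (a₃ * b * a₃⁻¹ * b⁻¹) * a₁⁻¹ = (a₁ * a₃) * b * a₃⁻¹ * b⁻¹ * a₁⁻¹ := by group
        _ = (a₃ * a₁) * b * a₃⁻¹ * b⁻¹ * a₁⁻¹ := by rw [hc]
        _ = a₃ * (a₁ * b * a₁⁻¹) * (a₁ * a₃⁻¹) * b⁻¹ * a₁⁻¹ := by group
        _ = a₃ * (a₁ * b * a₁⁻¹) * (a₃⁻¹ * a₁) * b⁻¹ * a₁⁻¹ := by rw [hc']
        _ = a₃ * (a₁ * b * a₁⁻¹) * a₃⁻¹ * (a₁ * b * a₁⁻¹)⁻¹ := by group
    have e4 : a₃ * (b₂ * a₂) * a₃⁻¹ * (b₂ * a₂)⁻¹ = a₃ * b₂ * a₃⁻¹ * b₂⁻¹ := by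
      have hc : a₂ * a₃⁻¹ = a₃⁻¹ * a₂ := hA a₂ ha₂ a₃⁻¹ (A.inv_mem ha₃)
      calc a₃ * (b₂ * a₂) * a₃⁻¹ * (b₂ * a₂)⁻¹ = a₃ * b₂ * (a₂ * a₃⁻¹) * a₂⁻¹ * b₂⁻¹ := by group
        _ = a₃ * b₂ * (a₃⁻¹ * a₂) * a₂⁻¹ * b₂⁻¹ := by rw [hc]
        _ = a₃ * b₂ * a₃⁻¹ * b₂⁻¹ := by group
    calc (a₁ * b₁) * (a * b * a⁻¹ * b⁻¹) * (a₁ * b₁)⁻¹
        = a₁ * (b₁ * (a * b * a⁻¹ * b⁻¹) * b₁⁻¹) * a₁⁻¹ := by group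
      _ = a₁ * (a₃ * b * a₃⁻¹ * b⁻¹) * a₁⁻¹ := by rw [e1, h3, e2]
      _ = a₃ * b₂ * a₃⁻¹ * b₂⁻¹ := by rw [e3, h2, e4]

end

/-- A finite group which is the product AB of two abelian subgroups A and B is solvable. -/
theorem result {G : Type*} [Group G] [Finite G] (A B : Subgroup G)
    [IsMulCommutative A] [IsMulCommutative B] (hAB : ∀ g : G, ∃ a ∈ A, ∃ b ∈ B, g = a * b) :
    Group.IsSolvable G := by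
  have hA : ∀ x ∈ A, ∀ y ∈ A, x * y = y * x := fun x hx y hy =>
    congrArg Subtype.val (mul_comm' (⟨x, hx⟩ : A) ⟨y, hy⟩)
  have hB : ∀ x ∈ B, ∀ y ∈ B, x * y = y * x := fun x hx y hy =>
    congrArg Subtype.val (mul_comm' (⟨x, hx⟩ : B) ⟨y, hy⟩)
  have hBA : ∀ g : G, ∃ b ∈ B, ∃ a ∈ A, g = b * a := by
    intro g
    obtain ⟨a, ha, b, hb, h⟩ := hAB g⁻¹
    refine ⟨b⁻¹, B.inv_mem hb, a⁻¹, A.inv_mem ha, ?_⟩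
    rw [← mul_inv_rev, ← h, inv_inv]
  -- conjugation-invariance of the set of commutators
  have hconj : ∀ g : G, ∀ x ∈ commSet A B, g * x * g⁻¹ ∈ commSet A B := by
    intro g x hx
    obtain ⟨a, ha, b, hb, rfl⟩ := hx
    obtain ⟨b₁, hb₁, a₁, ha₁, rfl⟩ := hBA g
    obtain ⟨a₃, ha₃, b₂, hb₂, h1, -⟩ := key hA hB hAB hBA ha ha₁ hb hb₁
    exact ⟨a₃, ha₃, b₂, hb₂, h1⟩
  -- any two commutators commute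
  have hcomm : ∀ x ∈ commSet A B, ∀ y ∈ commSet A B, x * y = y * x := by
    intro x hx y hy
    obtain ⟨a₁, ha₁, b₁, hb₁, rfl⟩ := hy
    obtain ⟨a, ha, b, hb, rfl⟩ := hx
    obtain ⟨a₃, ha₃, b₂, hb₂, h1, h2⟩ :=
      key hA hB hAB hBA ha (A.inv_mem ha₁) hb (B.inv_mem hb₁)
    have h3 := h1.trans h2.symm
    set x := a * b * a⁻¹ * b⁻¹ with hxdef
    -- x commutes with the inverse of y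
    have h4 : (a₁ * b₁ * a₁⁻¹ * b₁⁻¹)⁻¹ * x = x * (a₁ * b₁ * a₁⁻¹ * b₁⁻¹)⁻¹ := by
      have : (a₁⁻¹ * b₁⁻¹)⁻¹ * (b₁⁻¹ * a₁⁻¹) * x * ((a₁⁻¹ * b₁⁻¹)⁻¹ * (b₁⁻¹ * a₁⁻¹))⁻¹ = x := by
        calc (a₁⁻¹ * b₁⁻¹)⁻¹ * (b₁⁻¹ * a₁⁻¹) * x * ((a₁⁻¹ * b₁⁻¹)⁻¹ * (b₁⁻¹ * a₁⁻¹))⁻¹
            = (a₁⁻¹ * b₁⁻¹)⁻¹ * ((b₁⁻¹ * a₁⁻¹) * x * (b₁⁻¹ * a₁⁻¹)⁻¹) * (a₁⁻¹ * b₁⁻¹) := by group
          _ = (a₁⁻¹ * b₁⁻¹)⁻¹ * ((a₁⁻¹ * b₁⁻¹) * x * (a₁⁻¹ * b₁⁻¹)⁻¹) * (a₁⁻¹ * b₁⁻¹) := by rw [h3]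
          _ = x := by group
      have e : (a₁⁻¹ * b₁⁻¹)⁻¹ * (b₁⁻¹ * a₁⁻¹) = (a₁ * b₁ * a₁⁻¹ * b₁⁻¹)⁻¹ := by group
      rw [e] at this
      calc (a₁ * b₁ * a₁⁻¹ * b₁⁻¹)⁻¹ * x
          = ((a₁ * b₁ * a₁⁻¹ * b₁⁻¹)⁻¹ * x * ((a₁ * b₁ * a₁⁻¹ * b₁⁻¹)⁻¹)⁻¹) *
              (a₁ * b₁ * a₁⁻¹ * b₁⁻¹)⁻¹ := by group
        _ = x * (a₁ * b₁ * a₁⁻¹ * b₁⁻¹)⁻¹ := by rw [this]
    have h5 : Commute (a₁ * b₁ * a₁⁻¹ * b₁⁻¹)⁻¹ x := h4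
    exact (Commute.inv_left_iff.mp h5).symm.eq
  -- K, the subgroup generated by the commutators
  let K : Subgroup G := Subgroup.closure (commSet A B)
  have hKn : K.Normal := by
    refine ⟨fun n hn g => ?_⟩
    have : K ≤ K.comap (MulAut.conj g).toMonoidHom := by
      refine (Subgroup.closure_le _).mpr ?_
      intro x hx
      exact Subgroup.subset_closure (hconj g x hx)
    exact this hn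
  have hKc : ∀ x ∈ K, ∀ y ∈ K, x * y = y * x := by
    intro x hx y hy
    have h1 : K ≤ Subgroup.centralizer (commSet A B) := by
      refine (Subgroup.closure_le _).mpr ?_
      intro y hy
      exact Subgroup.mem_centralizer_iff.mpr (fun z hz => hcomm z hz y hy)
    have h2 : K ≤ Subgroup.centralizer (K : Set G) := by
      refine (Subgroup.closure_le _).mpr ?_
      intro y hy
      refine Subgroup.mem_centralizer_iff.mpr (fun z hz => ?_)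
      exact ((Subgroup.mem_centralizer_iff.mp (h1 hz)) y hy).symm
    exact (Subgroup.mem_centralizer_iff.mp (h2 hy)) x hx
  have hKs : Group.IsSolvable K :=
    Group.isSolvable_of_comm (fun x y => Subtype.ext (hKc x x.2 y y.2))
  -- the quotient is commutative
  have hQ : ∀ x y : G ⧸ K, x * y = y * x := by
    have hab : ∀ a ∈ A, ∀ b ∈ B, Commute (QuotientGroup.mk a : G ⧸ K) (QuotientGroup.mk b) := by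
      intro a ha b hb
      have : a * b * a⁻¹ * b⁻¹ ∈ K := Subgroup.subset_closure ⟨a, ha, b, hb, rfl⟩
      have h := (QuotientGroup.eq_one_iff (N := K) _).mpr this
      simp only [QuotientGroup.mk_mul, QuotientGroup.mk_inv] at h
      show (a : G ⧸ K) * b = b * a
      calc (a : G ⧸ K) * b = ((a : G ⧸ K) * b * (a : G ⧸ K)⁻¹ * (b : G ⧸ K)⁻¹) * (b * a) := by group
        _ = b * a := by rw [h, one_mul]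
    have haa : ∀ a ∈ A, ∀ a' ∈ A, Commute (QuotientGroup.mk a : G ⧸ K) (QuotientGroup.mk a') := by
      intro a ha a' ha'
      show (a : G ⧸ K) * a' = a' * a
      rw [← QuotientGroup.mk_mul, hA a ha a' ha', QuotientGroup.mk_mul]
    have hbb : ∀ b ∈ B, ∀ b' ∈ B, Commute (QuotientGroup.mk b : G ⧸ K) (QuotientGroup.mk b') := by
      intro b hb b' hb'
      show (b : G ⧸ K) * b' = b' * b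
      rw [← QuotientGroup.mk_mul, hB b hb b' hb', QuotientGroup.mk_mul]
    intro x y
    induction x using QuotientGroup.induction_on with | _ g => ?_
    induction y using QuotientGroup.induction_on with | _ h => ?_
    obtain ⟨a, ha, b, hb, rfl⟩ := hAB g
    obtain ⟨a', ha', b', hb', rfl⟩ := hAB h
    simp only [QuotientGroup.mk_mul]
    have c1 : Commute ((a : G ⧸ K) * b) (a' : G ⧸ K) :=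
      (haa a ha a' ha').mul_left (hab a' ha' b hb).symm
    have c2 : Commute ((a : G ⧸ K) * b) (b' : G ⧸ K) :=
      (hab a ha b' hb').mul_left (hbb b hb b' hb')
    exact (c1.mul_right c2).eq
  have hQs : Group.IsSolvable (G ⧸ K) := Group.isSolvable_of_comm hQ
  exact Group.isSolvable_of_ker_le_range K.subtype (QuotientGroup.mk' K)
    (by rw [QuotientGroup.ker_mk', Subgroup.range_subtype])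

end Cfsg.Agent.S0047
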