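import Cfsg.Statements.S0048
import Mathlib
import Cfsg.Agent.Helper1.MinNormal
import Cfsg.Agent.Helper1.HallAux
import Cfsg.Agent.Helper26.Basic

set_option autoImplicit false
open Cfsg

namespace Cfsg.Agent.S0048

universe u

theorem aux : ∀ (k : ℕ) (G : Type u) [Group G] [Finite G] [Group.IsSolvable G], Nat.card G = k →
    ∀ M : Subgroup G, IsCoatom M → IsPrimePow M.index := by
  intro k
  induction k using Nat.strong_induction_on with
  | _ k ih =>
  intro G _ _ _ hk M hM
  have hnt : Nontrivial G := by
    by_contra h
    rw [not_nontrivial_iff_subsingleton] at h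
    exact hM.1 (Subsingleton.elim _ _)
  obtain ⟨p, N, hp, hNn, hNne, hNp, -, -⟩ := Cfsg.Agent.Helper1.exists_normal_pgroup_of_solvable (G := G)
  have : Fact p.Prime := ⟨hp⟩
  obtain ⟨a, ha⟩ := IsPGroup.iff_card.mp hNp
  set π := QuotientGroup.mk' N with hπ
  have hπs : Function.Surjective π := QuotientGroup.mk'_surjective N
  by_cases hNM : N ≤ M
  · -- pass to the quotient
    have hidx : (M.map π).index = M.index :=
      Subgroup.index_map_eq M hπs (by rw [QuotientGroup.ker_mk']; exact hNM)
    rw [← hidx]
    have hcm : (M.map π).comap π = M := by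
      rw [Cfsg.Agent.Helper1.comap_map_mk', sup_eq_left.mpr hNM]
    have hcoatom : IsCoatom (M.map π) := by
      refine ⟨?_, ?_⟩
      · intro h
        apply hM.1
        rw [← hcm, h, Subgroup.comap_top]
      · intro K' hK'
        have h1 : M < K'.comap π := by
          rw [← hcm]
          refine lt_of_le_of_ne (Subgroup.comap_mono hK'.le) ?_
          intro h
          have := congrArg (Subgroup.map π) h
          rw [Subgroup.map_comap_eq_self_of_surjective hπs,
            Subgroup.map_comap_eq_self_of_surjective hπs] at this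
          exact hK'.ne this
        have h2 := hM.2 _ h1
        have := congrArg (Subgroup.map π) h2
        rw [Subgroup.map_comap_eq_self_of_surjective hπs, Subgroup.map_top_of_surjective π hπs] at this
        exact this
    have hlt : Nat.card (G ⧸ N) < k := by
      have h1 := Cfsg.Agent.Helper1.card_quotient_mul_card N
      rw [hk] at h1
      have h2 : 1 < Nat.card N := by
        rw [Subgroup.one_lt_card_iff_ne_bot]; exact hNne
      have h3 : 0 < Nat.card (G ⧸ N) := Nat.card_pos
      nlinarith
    exact ih _ hlt (G ⧸ N) rfl _ hcoatom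
  · have hsup : M ⊔ N = ⊤ := by
      apply hM.2
      refine lt_of_le_of_ne le_sup_left ?_
      intro h
      apply hNM
      rw [h]; exact le_sup_right
    have h1 := Cfsg.Agent.Helper26.card_sup_mul_card_inf (H := M) (N := N)
      (by rw [Subgroup.normalizer_eq_top]; exact le_top)
    rw [hsup, Subgroup.card_top, ← M.card_mul_index, mul_assoc] at h1
    have h2 : M.index * Nat.card ↥(M ⊓ N) = Nat.card N :=
      Nat.eq_of_mul_eq_mul_left Nat.card_pos h1
    have h3 : M.index ∣ p ^ a := by rw [← ha, ← h2]; exact dvd_mul_right _ _
    obtain ⟨b, -, hb⟩ := (Nat.dvd_prime_pow hp).mp h3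
    have hb0 : b ≠ 0 := by
      intro h
      rw [h, pow_zero] at hb
      exact hM.1 (Subgroup.index_eq_one.mp hb)
    rw [hb]
    exact ⟨p, b, Nat.prime_iff.mp hp, Nat.pos_of_ne_zero hb0, rfl⟩

/-- In a finite solvable group every maximal subgroup has index a prime power. -/
theorem result {G : Type*} [Group G] [Finite G] [Group.IsSolvable G]
    (M : Subgroup G) (hM : IsCoatom M) : IsPrimePow M.index := by
  exact aux _ G rfl M hM

end Cfsg.Agent.S0048
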