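import Mathlib
import Cfsg.Statements.S0049
import Cfsg.Agent.Helper8.Basic

set_option autoImplicit false
set_option linter.style.haveILetI false
open Cfsg

namespace Cfsg.Agent.S0049

/-- A prime divisor of the order of a finite group also divides the index of the Frattini subgroup. -/
theorem result {G : Type*} [Group G] [Finite G] (p : ℕ) (hp : p.Prime) (hdvd : p ∣ Nat.card G) :
    p ∣ (frattini G).index := by
  haveI : Fact p.Prime := ⟨hp⟩
  by_contra hnd
  obtain ⟨P⟩ : Nonempty (Sylow p G) := inferInstance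
  set Φ := frattini G with hΦ
  -- P ≤ Φ
  obtain ⟨k, hk⟩ := IsPGroup.iff_card.mp P.isPGroup'
  have hPΦ : (P : Subgroup G) ≤ Φ := by
    apply Cfsg.Agent.Helper8.le_of_coprime_index
    have : Nat.card (↥(P : Subgroup G)) = p ^ k := hk
    rw [this]
    exact Nat.Coprime.pow_left k ((Nat.Prime.coprime_iff_not_dvd hp).mpr hnd)
  -- P is normal in G
  have h1 := Sylow.normalizer_sup_eq_top' P hPΦ
  have h2 := frattini_nongenerating h1
  haveI hPn : (P : Subgroup G).Normal := Subgroup.normalizer_eq_top_iff.mp h2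
  -- complement
  obtain ⟨K, hK⟩ := Subgroup.exists_right_complement'_of_coprime (N := (P : Subgroup G))
    P.card_coprime_index
  have h3 : K ⊔ Φ = ⊤ := by
    rw [eq_top_iff, ← hK.sup_eq_top, sup_comm]
    exact sup_le_sup_left hPΦ K
  have h4 := frattini_nongenerating h3
  have h5 := hK.card_mul_card
  rw [h4, Subgroup.card_top] at h5
  have h6 : Nat.card (↥(P : Subgroup G)) = 1 := by
    have hpos : 0 < Nat.card G := Nat.card_pos
    exact Nat.eq_of_mul_eq_mul_right hpos (by rw [h5, one_mul])
  have h7 : (P : Subgroup G) = ⊥ := Subgroup.card_eq_one.mp h6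
  have h8 := P.ne_bot_of_dvd_card hdvd
  exact h8 h7

end Cfsg.Agent.S0049
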