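import Cfsg.Statements.S0053
import Mathlib
import Cfsg.Agent.Helper1.PGroup
import Cfsg.Agent.Helper26.Basic

set_option autoImplicit false
open Cfsg

namespace Cfsg.Agent.S0053

/-- An abelian minimal normal subgroup N of a finite group is complemented exactly when N is not inside the Frattini subgroup. -/
theorem result {G : Type*} [Group G] [Finite G]
    (N : Subgroup G) [N.Normal] [IsMulCommutative N] (hN : N ≠ ⊥)
    (hmin : ∀ M : Subgroup G, M.Normal → M ≤ N → M = ⊥ ∨ M = N) :
    (∃ H : Subgroup G, Subgroup.IsComplement' N H) ↔ ¬ N ≤ frattini G := by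
  have hnorm : ∀ X : Subgroup G, X ≤ Subgroup.normalizer (N : Set G) := by
    intro X; rw [Subgroup.normalizer_eq_top]; exact le_top
  constructor
  · rintro ⟨H, hH⟩ hNΦ
    have h1 : H ⊔ frattini G = ⊤ := by
      rw [eq_top_iff, ← hH.sup_eq_top, sup_comm]
      exact sup_le_sup_left hNΦ H
    have h2 := frattini_nongenerating h1
    have h3 := hH.card_mul_card
    rw [h2, Subgroup.card_top] at h3
    have h4 : Nat.card N = 1 :=
      Nat.eq_of_mul_eq_mul_right (Nat.card_pos (α := G)) (by rw [h3, one_mul])
    exact hN (Subgroup.card_eq_one.mp h4)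
  · intro hNΦ
    rw [Cfsg.Agent.Helper1.le_frattini_iff] at hNΦ
    push Not at hNΦ
    obtain ⟨M, hM, hNM⟩ := hNΦ
    have hsup : M ⊔ N = ⊤ := by
      apply hM.2
      refine lt_of_le_of_ne le_sup_left ?_
      intro h
      apply hNM
      rw [h]; exact le_sup_right
    -- M ⊓ N is normal
    have hinfn : (M ⊓ N).Normal := by
      rw [← Subgroup.normalizer_eq_top_iff, eq_top_iff, ← hsup]
      apply sup_le
      · intro m hm
        rw [Subgroup.mem_normalizer_iff]
        intro x
        constructor
        · rintro ⟨hxM, hxN⟩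
          exact ⟨M.mul_mem (M.mul_mem hm hxM) (M.inv_mem hm), ‹N.Normal›.conj_mem x hxN m⟩
        · rintro ⟨hxM, hxN⟩
          refine ⟨?_, ?_⟩
          · have := M.mul_mem (M.mul_mem (M.inv_mem hm) hxM) hm
            simpa [mul_assoc] using this
          · have := ‹N.Normal›.conj_mem _ hxN m⁻¹
            simpa [mul_assoc] using this
      · intro n hn
        rw [Subgroup.mem_normalizer_iff]
        intro x
        have key : x ∈ N → n * x * n⁻¹ = x := by
          intro hxN
          have := mul_comm' (⟨n, hn⟩ : N) ⟨x, hxN⟩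
          have h5 : n * x = x * n := congrArg Subtype.val this
          rw [h5, mul_inv_cancel_right]
        constructor
        · rintro ⟨hxM, hxN⟩
          rw [key hxN]; exact ⟨hxM, hxN⟩
        · rintro ⟨hxM, hxN⟩
          have hxN' : x ∈ N := by
            have := ‹N.Normal›.conj_mem _ hxN n⁻¹
            simpa [mul_assoc] using this
          rw [key hxN'] at hxM
          exact ⟨hxM, hxN'⟩
    have hinf : M ⊓ N = ⊥ := by
      rcases hmin (M ⊓ N) hinfn inf_le_right with h | h
      · exact h
      · exfalso; apply hNM; rw [← h]; exact inf_le_left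
    refine ⟨M, ?_⟩
    apply Subgroup.isComplement'_of_card_mul_and_disjoint
    · have h1 := Cfsg.Agent.Helper26.card_sup_mul_card_inf (H := M) (N := N) (hnorm M)
      rw [hsup, Subgroup.card_top, hinf, Subgroup.card_bot, mul_one] at h1
      rw [h1, mul_comm]
    · rw [disjoint_iff, inf_comm]; exact hinf

end Cfsg.Agent.S0053
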