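import Cfsg.Statements.S0054
import Mathlib

set_option autoImplicit false
open Cfsg

namespace Cfsg.Agent.S0054

/-- A regular normal subgroup of a finite 2-transitive group is elementary abelian: it is commutative and all its elements have order dividing one prime. -/
theorem result {G : Type*} [Group G] [Finite G]
    {X : Type*} [Nonempty X] [MulAction G X] (h2 : MulAction.IsMultiplyPretransitive G X 2)
    (N : Subgroup G) [N.Normal] (htrans : MulAction.IsPretransitive N X) (hreg : ∀ x : X, MulAction.stabilizer N x = ⊥) :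
    IsMulCommutative N ∧ ∃ p : ℕ, p.Prime ∧ ∀ n ∈ N, n ^ p = 1 := by
  classical
  obtain ⟨x₀⟩ := ‹Nonempty X›
  have hsm : ∀ (n : N) (x : X), n • x = (n : G) • x := fun n x => rfl
  -- a nonidentity element of N moves x₀
  have hmove : ∀ n ∈ N, n • x₀ = x₀ → n = 1 := by
    intro n hn hfix
    have : (⟨n, hn⟩ : N) ∈ MulAction.stabilizer N x₀ := by
      rw [MulAction.mem_stabilizer_iff, hsm]; exact hfix
    rw [hreg x₀, Subgroup.mem_bot] at this
    exact congrArg Subtype.val this
  -- all nonidentity elements of N are conjugate in G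
  have hconj : ∀ n ∈ N, ∀ m ∈ N, n ≠ 1 → m ≠ 1 → ∃ g : G, g * n * g⁻¹ = m := by
    intro n hn m hm hn1 hm1
    have hx1 : x₀ ≠ n • x₀ := fun h => hn1 (hmove n hn h.symm)
    have hx2 : x₀ ≠ m • x₀ := fun h => hm1 (hmove m hm h.symm)
    obtain ⟨g, hg1, hg2⟩ := MulAction.is_two_pretransitive_iff.mp h2 hx1 hx2
    refine ⟨g, ?_⟩
    have hginv : g⁻¹ • x₀ = x₀ := by
      rw [inv_smul_eq_iff, hg1]
    have hfix : (m⁻¹ * (g * n * g⁻¹)) • x₀ = x₀ := by
      rw [mul_smul, mul_smul, mul_smul, hginv, hg2, inv_smul_smul]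
    have hmem : m⁻¹ * (g * n * g⁻¹) ∈ N :=
      N.mul_mem (N.inv_mem hm) (‹N.Normal›.conj_mem n hn g)
    have := hmove _ hmem hfix
    rw [inv_mul_eq_one] at this
    exact this.symm
  by_cases hbot : N = ⊥
  · subst hbot
    refine ⟨⟨⟨fun a b => ?_⟩⟩, 2, Nat.prime_two, ?_⟩
    · exact Subsingleton.elim _ _
    · intro n hn
      rw [Subgroup.mem_bot] at hn
      rw [hn, one_pow]
  · have hcard : 1 < Nat.card N := (Subgroup.one_lt_card_iff_ne_bot _).mpr hbot
    obtain ⟨p, hp, hpd⟩ := Nat.exists_prime_and_dvd hcard.ne'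
    have : Fact p.Prime := ⟨hp⟩
    obtain ⟨z, hz⟩ := exists_prime_orderOf_dvd_card' p hpd
    have hz1 : (z : G) ≠ 1 := by
      intro h
      have : z = 1 := Subtype.ext h
      rw [this, orderOf_one] at hz
      exact hp.ne_one hz.symm
    have hzp : (z : G) ^ p = 1 := by
      have := pow_orderOf_eq_one z
      rw [hz] at this
      exact_mod_cast congrArg Subtype.val this
    have hexp : ∀ n ∈ N, n ^ p = 1 := by
      intro n hn
      by_cases hn1 : n = 1
      · rw [hn1, one_pow]
      · obtain ⟨g, hg⟩ := hconj z z.2 n hn hz1 hn1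
        rw [← hg, conj_pow, hzp]; group
    have hpg : IsPGroup p N := by
      intro n
      refine ⟨1, ?_⟩
      rw [pow_one]
      exact Subtype.ext (by simpa using hexp n n.2)
    have hnt : Nontrivial N := (Subgroup.nontrivial_iff_ne_bot N).mpr hbot
    have hcen := hpg.center_nontrivial
    obtain ⟨c, hc1⟩ := exists_ne (1 : Subgroup.center N)
    have hc1' : ((c : N) : G) ≠ 1 := by
      intro h
      apply hc1
      exact Subtype.ext (Subtype.ext h)
    have hccomm : ∀ m ∈ N, ((c : N) : G) * m = m * ((c : N) : G) := by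
      intro m hm
      have := Subgroup.mem_center_iff.mp c.2 ⟨m, hm⟩
      exact (congrArg Subtype.val this).symm
    refine ⟨⟨⟨fun a b => Subtype.ext ?_⟩⟩, p, hp, hexp⟩
    show (a : G) * b = b * a
    by_cases ha1 : (a : G) = 1
    · rw [ha1, one_mul, mul_one]
    · obtain ⟨g, hg⟩ := hconj _ (c : N).2 a a.2 hc1' ha1
      have hb' : g⁻¹ * b * g ∈ N := by
        have := ‹N.Normal›.conj_mem b b.2 g⁻¹
        simpa using this
      have hcb := hccomm _ hb'
      calc (a : G) * b = g * (((c : N) : G) * (g⁻¹ * b * g)) * g⁻¹ := by rw [← hg]; group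
        _ = g * ((g⁻¹ * b * g) * ((c : N) : G)) * g⁻¹ := by rw [hcb]
        _ = b * a := by rw [← hg]; group

end Cfsg.Agent.S0054
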