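import Cfsg.Statements.S0059
import Cfsg.Agent.Lead.Glauberman

set_option autoImplicit false
open Cfsg

namespace Cfsg.Agent.S0059

/-- Let a finite group act on a set on which a normal subgroup K of coprime order and index is transitive, with K or the quotient solvable. Then any complement H of K has a fixed point, and any two H-fixed points are interchanged by an element of K centralising H. -/
theorem result {G : Type*} [Group G] [Finite G] {X : Type*} [Nonempty X] [MulAction G X]
    (K H : Subgroup G) [K.Normal] (hc : Subgroup.IsComplement' K H) (hcop : (Nat.card K).Coprime K.index)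
    (hsolv : Group.IsSolvable K ∨ Group.IsSolvable (G ⧸ K)) (htrans : MulAction.IsPretransitive K X) :
    (∃ x : X, ∀ h ∈ H, h • x = x) ∧
    ∀ x y : X, (∀ h ∈ H, h • x = x) → (∀ h ∈ H, h • y = y) → ∃ k ∈ K ⊓ Subgroup.centralizer (H : Set G), k • x = y := by
  have htr : ∀ x ∈ (Set.univ : Set X), ∀ y ∈ (Set.univ : Set X), ∃ k ∈ K, k • x = y := by
    intro x _ y _
    obtain ⟨k, hk⟩ := MulAction.exists_smul_eq K x y
    exact ⟨(k : G), k.2, hk⟩
  constructor
  · obtain ⟨x, -, hx⟩ := Cfsg.Agent.Lead.glauberman_exists_fixed K H hc hcop hsolv Set.univ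
      Set.univ_nonempty (fun _ _ _ => Set.mem_univ _) htr
    exact ⟨x, hx⟩
  · intro x y hx hy
    exact Cfsg.Agent.Lead.glauberman_fixed_trans K H hc hcop hsolv Set.univ htr x y
      (Set.mem_univ _) (Set.mem_univ _) hx hy

end Cfsg.Agent.S0059
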