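import Cfsg.Statements.S0060
import Cfsg.Agent.S0010
import Cfsg.Agent.Lead.Compl

set_option autoImplicit false
open Pointwise
open Cfsg

namespace Cfsg.Agent.S0060

/-- Brodkey's Theorem: in a finite group with abelian Sylow p-subgroups and no nontrivial normal p-subgroup, some conjugate of a Sylow p-subgroup meets it trivially. -/
theorem result {G : Type*} [Group G] [Finite G] (p : ℕ) [Fact p.Prime]
    (S : Sylow p G) (hS : IsMulCommutative S) (hOp : Cfsg.pCore p G = ⊥) :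
    ∃ g : G, (S : Subgroup G) ⊓ MulAut.conj g • (S : Subgroup G) = ⊥ := by
  open Cfsg.Agent.Lead Subgroup in
  classical
  -- all Sylow p-subgroups are abelian
  have hab : ∀ R : Sylow p G, ∀ x ∈ (R : Subgroup G), ∀ y ∈ (R : Subgroup G), x * y = y * x := by
    intro R x hx y hy
    obtain ⟨g, rfl⟩ := MulAction.exists_smul_eq G S R
    rw [Sylow.coe_subgroup_smul, mem_conj_smul_iff] at hx hy
    have h1 : (⟨g⁻¹ * x * g, hx⟩ : (S : Subgroup G)) * ⟨g⁻¹ * y * g, hy⟩ =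
        ⟨g⁻¹ * y * g, hy⟩ * ⟨g⁻¹ * x * g, hx⟩ := hS.is_comm.comm _ _
    have h2 := congrArg Subtype.val h1
    simp only [Subgroup.coe_mul] at h2
    have e1 : x * y = g * ((g⁻¹ * x * g) * (g⁻¹ * y * g)) * g⁻¹ := by group
    have e2 : y * x = g * ((g⁻¹ * y * g) * (g⁻¹ * x * g)) * g⁻¹ := by group
    rw [e1, e2, h2]
  obtain ⟨⟨P, Q⟩, hmin⟩ := Finite.exists_min
    (fun PQ : Sylow p G × Sylow p G => Nat.card ↥((PQ.1 : Subgroup G) ⊓ (PQ.2 : Subgroup G)))
  simp only at hmin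
  set D : Subgroup G := (P : Subgroup G) ⊓ (Q : Subgroup G) with hD
  set N : Subgroup G := normalizer (D : Set G) with hN
  have hcent : ∀ R : Sylow p G, D ≤ R → (R : Subgroup G) ≤ N := by
    intro R hDR
    refine le_trans ?_ (centralizer_le_normalizer (D : Set G))
    intro x hx
    rw [mem_centralizer_iff]
    intro d hd
    exact hab R d (hDR hd) x hx
  have hPN : (P : Subgroup G) ≤ N := hcent P inf_le_left
  have hQN : (Q : Subgroup G) ≤ N := hcent Q inf_le_right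
  have hall : ∀ R : Sylow p G, D ≤ R := by
    intro R
    have hpg : IsPGroup p (((R : Subgroup G) ⊓ N).subgroupOf N) :=
      (R.2.to_le inf_le_left).comap_subtype
    obtain ⟨Q', hQ'⟩ := hpg.exists_le_sylow
    obtain ⟨n, hn⟩ := MulAction.exists_smul_eq N (P.subtype hPN) Q'
    -- elements of R ⊓ N are conjugated into P by n⁻¹
    have hRN : ∀ x ∈ (R : Subgroup G) ⊓ N, (n : G)⁻¹ * x * n ∈ (P : Subgroup G) := by
      intro x hx
      have h1 : (⟨x, hx.2⟩ : N) ∈ (Q' : Subgroup N) := hQ' (by exact hx)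
      rw [← hn, Sylow.coe_subgroup_smul, mem_conj_smul_iff, Sylow.coe_subtype,
        mem_subgroupOf] at h1
      simpa using h1
    set R' : Sylow p G := (n : G)⁻¹ • R with hR'
    have hmemR' : ∀ y, y ∈ (R' : Subgroup G) ↔ (n : G) * y * (n : G)⁻¹ ∈ (R : Subgroup G) := by
      intro y
      rw [hR', Sylow.coe_subgroup_smul, mem_conj_smul_iff, inv_inv]
    set E : Subgroup G := (R' : Subgroup G) ⊓ (Q : Subgroup G) with hE
    have hEN : E ≤ N := inf_le_right.trans hQN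
    have hEP : E ≤ (P : Subgroup G) := by
      intro x hx
      have h1 : (n : G) * x * (n : G)⁻¹ ∈ (R : Subgroup G) ⊓ N :=
        ⟨(hmemR' x).mp hx.1, N.mul_mem (N.mul_mem n.2 (hEN hx)) (N.inv_mem n.2)⟩
      have h2 := hRN _ h1
      have e : (n : G)⁻¹ * ((n : G) * x * (n : G)⁻¹) * n = x := by group
      rwa [e] at h2
    have hED : E ≤ D := le_inf hEP inf_le_right
    have hcard : Nat.card D ≤ Nat.card E := hmin (R', Q)
    have hEeq : E = D := eq_of_le_of_card_ge hED hcard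
    intro x hx
    -- y = n⁻¹ x n ∈ D ≤ R'
    have hninv : (n : G)⁻¹ ∈ N := N.inv_mem n.2
    have hy : (n : G)⁻¹ * x * ((n : G)⁻¹)⁻¹ ∈ D := (mem_normalizer_iff.mp hninv x).mp hx
    rw [← hEeq] at hy
    have h3 := (hmemR' _).mp hy.1
    have e : (n : G) * ((n : G)⁻¹ * x * ((n : G)⁻¹)⁻¹) * (n : G)⁻¹ = x := by group
    rwa [e] at h3
  have hDbot : D = ⊥ := by
    rw [eq_bot_iff, ← hOp, Cfsg.Agent.S0010.result]
    exact le_iInf hall
  obtain ⟨g₁, hg₁⟩ := MulAction.exists_smul_eq G S P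
  obtain ⟨g₂, hg₂⟩ := MulAction.exists_smul_eq G S Q
  refine ⟨g₁⁻¹ * g₂, ?_⟩
  rw [eq_bot_iff]
  intro x hx
  obtain ⟨hx1, hx2⟩ := hx
  change x ∈ MulAut.conj (g₁⁻¹ * g₂) • (S : Subgroup G) at hx2
  change x ∈ (S : Subgroup G) at hx1
  rw [mem_conj_smul_iff] at hx2
  have h1 : g₁ * x * g₁⁻¹ ∈ (P : Subgroup G) := by
    rw [← hg₁, Sylow.coe_subgroup_smul, mem_conj_smul_iff]
    have e : g₁⁻¹ * (g₁ * x * g₁⁻¹) * g₁ = x := by group
    rw [e]; exact hx1
  have h2 : g₁ * x * g₁⁻¹ ∈ (Q : Subgroup G) := by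
    rw [← hg₂, Sylow.coe_subgroup_smul, mem_conj_smul_iff]
    have e : g₂⁻¹ * (g₁ * x * g₁⁻¹) * g₂ = (g₁⁻¹ * g₂)⁻¹ * x * (g₁⁻¹ * g₂) := by group
    rw [e]; exact hx2
  have h3 : g₁ * x * g₁⁻¹ ∈ D := ⟨h1, h2⟩
  rw [hDbot, mem_bot] at h3
  rw [mem_bot]
  have e : x = g₁⁻¹ * (g₁ * x * g₁⁻¹) * g₁ := by group
  rw [e, h3]; group

end Cfsg.Agent.S0060
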