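import Cfsg.Statements.S0069
import Mathlib
import Cfsg.Agent.Helper1.FpfCompl
import Cfsg.Agent.Helper1.ZGroupCenter
import Cfsg.Agent.Helper10.Crit19

set_option autoImplicit false
open Cfsg

namespace Cfsg.Agent.S0069

/-- A Frobenius complement has nontrivial centre: if H ≠ 1 complements a nontrivial normal subgroup K and every nonidentity element of H has trivial centraliser in K, then the centre of H is nontrivial. -/
theorem result {G : Type*} [Group G] [Finite G] (K H : Subgroup G) [K.Normal]
    (hc : Subgroup.IsComplement' K H) (hK : K ≠ ⊥) (hH : H ≠ ⊥) (hfpf : ∀ h ∈ H, h ≠ 1 → K ⊓ Subgroup.centralizer {h} = ⊥) :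
    Subgroup.center H ≠ ⊥ := by
  have : Fact (Nat.Prime 2) := ⟨Nat.prime_two⟩
  have hHnt : Nontrivial H := (Subgroup.nontrivial_iff_ne_bot H).mpr hH
  by_cases h2 : 2 ∣ Nat.card H
  · -- even order: the involution is central
    obtain ⟨t', ht'⟩ := exists_prime_orderOf_dvd_card' 2 h2
    set t : G := (t' : G) with ht
    have hto : orderOf t = 2 := by rw [← ht', ht]; exact Subgroup.orderOf_coe t'
    have htH : t ∈ H := t'.2
    have ht1 : t ≠ 1 := by
      intro h1; rw [h1, orderOf_one] at hto; omega
    have htt : t * t = 1 := by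
      rw [← pow_two, ← hto]; exact pow_orderOf_eq_one t
    have hinvert : ∀ s ∈ H, s ≠ 1 → s * s = 1 → ∀ k ∈ K, s * k * s⁻¹ = k⁻¹ := by
      intro s hs hs1 hss
      apply Cfsg.Agent.Helper10.conj_eq_inv_of_fpf hss
      intro n hn hfix
      have hmem : n ∈ K ⊓ Subgroup.centralizer {s} := by
        refine Subgroup.mem_inf.mpr ⟨hn, ?_⟩
        rw [Subgroup.mem_centralizer_iff]
        intro y hy
        rw [Set.mem_singleton_iff] at hy
        rw [hy]
        calc s * n = (s * n * s⁻¹) * s := by group
          _ = n * s := by rw [hfix]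
      rw [hfpf s hs hs1, Subgroup.mem_bot] at hmem
      exact hmem
    have hcomm : ∀ h ∈ H, h * t = t * h := by
      intro h hh
      set s : G := h * t * h⁻¹ with hs
      have hsH : s ∈ H := H.mul_mem (H.mul_mem hh htH) (H.inv_mem hh)
      have hss : s * s = 1 := by
        calc s * s = h * (t * t) * h⁻¹ := by rw [hs]; group
          _ = 1 := by rw [htt]; group
      have hs1 : s ≠ 1 := by
        intro h1
        apply ht1
        calc t = h⁻¹ * s * h := by rw [hs]; group
          _ = 1 := by rw [h1]; group
      have hu : s * t = 1 := by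
        by_contra hu1
        have huH : s * t ∈ H := H.mul_mem hsH htH
        apply hK
        rw [eq_bot_iff, ← hfpf (s * t) huH hu1]
        intro k hk
        refine Subgroup.mem_inf.mpr ⟨hk, ?_⟩
        rw [Subgroup.mem_centralizer_iff]
        intro y hy
        rw [Set.mem_singleton_iff] at hy
        rw [hy]
        have h1 := hinvert t htH ht1 htt k hk
        have h2 := hinvert s hsH hs1 hss k⁻¹ (K.inv_mem hk)
        rw [inv_inv] at h2
        have h3 : (s * t) * k * (s * t)⁻¹ = k := by
          calc (s * t) * k * (s * t)⁻¹ = s * (t * k * t⁻¹) * s⁻¹ := by group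
            _ = s * k⁻¹ * s⁻¹ := by rw [h1]
            _ = k := h2
        calc s * t * k = ((s * t) * k * (s * t)⁻¹) * (s * t) := by group
          _ = k * (s * t) := by rw [h3]
      have hst : s = t := by
        have h1 : s = t⁻¹ := eq_inv_of_mul_eq_one_left hu
        have h2 : t⁻¹ = t := inv_eq_of_mul_eq_one_left htt
        rw [h1, h2]
      calc h * t = (h * t * h⁻¹) * h := by group
        _ = t * h := by rw [← hs, hst]
    intro hbot
    have hmem : t' ∈ Subgroup.center H := by
      rw [Subgroup.mem_center_iff]
      intro g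
      apply Subtype.ext
      exact hcomm g g.2
    rw [hbot, Subgroup.mem_bot] at hmem
    apply ht1
    rw [ht, hmem]; rfl
  · -- odd order: Z-group
    have hfpf' : ∀ Q : Subgroup G, Q ≤ H → ∀ a ∈ Q, a ≠ 1 → K ⊓ Subgroup.centralizer {a} = ⊥ :=
      fun Q hQ a ha a1 => hfpf a (hQ ha) a1
    have hZ : IsZGroup H := by
      refine ⟨fun p hp P => ?_⟩
      have : Fact p.Prime := ⟨hp⟩
      by_cases hp2 : p = 2
      · subst hp2
        have hcard : Nat.card (P : Subgroup H) = 1 := by
          rw [P.card_eq_multiplicity, Nat.factorization_eq_zero_of_not_dvd h2, pow_zero]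
        have : Subsingleton (P : Subgroup H) := (Nat.card_eq_one_iff_unique.mp hcard).1
        exact isCyclic_of_subsingleton
      · set Q : Subgroup G := (P : Subgroup H).map H.subtype with hQdef
        let e : (P : Subgroup H) ≃* Q :=
          (P : Subgroup H).equivMapOfInjective H.subtype H.subtype_injective
        have hQ : IsPGroup p Q := P.isPGroup'.map H.subtype
        have hQH : Q ≤ H := Subgroup.map_subtype_le _
        rcases Cfsg.Agent.Helper1.fpf_pgroup_cyclic_or_quaternion hK Q hQ (hfpf' Q hQH)
          with h | ⟨h, -⟩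
        · exact isCyclic_of_surjective e.symm e.symm.surjective
        · exact absurd h hp2
    have hpq : ∀ A : Subgroup H, (∃ p q : ℕ, p.Prime ∧ q.Prime ∧ Nat.card A = p * q) →
        IsCyclic A := by
      intro A hA
      set A' : Subgroup G := A.map H.subtype with hA'
      let e : A ≃* A' := A.equivMapOfInjective H.subtype H.subtype_injective
      have hA'H : A' ≤ H := Subgroup.map_subtype_le _
      have hcard : Nat.card A' = Nat.card A := Subgroup.card_map_of_injective H.subtype_injective
      have hcyc : IsCyclic A' := by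
        apply Cfsg.Agent.Helper1.fpf_subgroup_cyclic hK A' (hfpf' A' hA'H)
        right
        obtain ⟨p, q, hp, hq, hc⟩ := hA
        exact ⟨p, q, hp, hq, by rw [hcard, hc]⟩
      exact isCyclic_of_surjective e.symm e.symm.surjective
    exact Cfsg.Agent.Helper1.zgroup_center_ne_bot hpq

end Cfsg.Agent.S0069
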