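import Cfsg.Statements.S0082
import Mathlib
import Cfsg.Agent.Helper9.NPC
import Cfsg.Agent.Helper9.Burnside
import Cfsg.Agent.Helper9.AbelianSylow

set_option autoImplicit false
open Cfsg

namespace Cfsg.Agent.S0082
open scoped commutatorElement Pointwise

/-- With a cyclic Sylow p-subgroup, either there is a normal p-complement or the elements of order prime to p generate the whole group. -/
theorem result {G : Type*} [Group G] [Finite G] {p : ℕ} [Fact p.Prime] (P : Sylow p G) (hP : IsCyclic P) : Cfsg.HasNormalPComplement p G ∨ Cfsg.pResidual p G = ⊤ := by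
  classical
  have hPc : IsMulCommutative P := IsCyclic.isMulCommutative
  by_cases hNC : Subgroup.normalizer (P : Set G) ≤ Subgroup.centralizer (P : Set G)
  · left
    exact Cfsg.Agent.Helper9.hasNormalPComplement_of_normalizer_le_centralizer P hNC
  · right
    apply Cfsg.Agent.Helper9.pResidual_eq_top_of_sylow_le P
    obtain ⟨h1, h2⟩ := Cfsg.Agent.Helper9.abelian_sylow_decomp P hPc
    have hW : ⁅(P : Subgroup G), Subgroup.normalizer (P : Set G)⁆ ≤ (P : Subgroup G) :=
      Cfsg.Agent.Lead.commutator_le_of_le_normalizer le_rfl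
    rcases Cfsg.Agent.Helper9.eq_bot_or_eq_bot_of_inf_eq_bot_of_isCyclic (P : Subgroup G) P.2 hP
      _ _ inf_le_left hW h1 with h | h
    · -- C_P(N(P)) = ⊥, so [P,N(P)] = P
      rw [h, bot_sup_eq] at h2
      have h3 : (P : Subgroup G) ⊓ Cfsg.pResidual p G = (P : Subgroup G) := by
        rw [Cfsg.Agent.Helper9.sylow_inf_pResidual_eq_of_comm P hPc,
          Cfsg.Agent.Helper9.commutator_inf_eq_commutator_normalizer P hPc, h2]
      exact inf_eq_left.mp h3
    · -- [P,N(P)] = ⊥ means N(P) ≤ C(P)
      exfalso
      apply hNC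
      rw [Subgroup.commutator_eq_bot_iff_le_centralizer] at h
      intro n hn
      rw [Subgroup.mem_centralizer_iff]
      intro x hx
      have := h hx
      rw [Subgroup.mem_centralizer_iff] at this
      exact (this n hn).symm

end Cfsg.Agent.S0082
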