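import Cfsg.Statements.S0083
import Mathlib
import Cfsg.Agent.Helper9.NPC
import Cfsg.Agent.Helper9.Burnside

set_option autoImplicit false
open Cfsg

namespace Cfsg.Agent.S0083
open scoped commutatorElement Pointwise

/-- For an abelian Sylow p-subgroup P, a normal p-complement exists exactly when the normalizer of P is an internal direct product of P with some subgroup. -/
theorem result {G : Type*} [Group G] [Finite G] {p : ℕ} [Fact p.Prime] (P : Sylow p G) (hP : IsMulCommutative P) : Cfsg.HasNormalPComplement p G ↔ ∃ Q : Subgroup G, Q ≤ Subgroup.centralizer (P : Set G) ∧ Q ⊓ (P : Subgroup G) = ⊥ ∧ Q ⊔ (P : Subgroup G) = Subgroup.normalizer (P : Set G) := by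
  classical
  have hcomm : ∀ a ∈ (P : Subgroup G), ∀ b ∈ (P : Subgroup G), a * b = b * a := fun a ha b hb =>
    congrArg Subtype.val (hP.is_comm.comm ⟨a, ha⟩ ⟨b, hb⟩)
  have hPC : (P : Subgroup G) ≤ Subgroup.centralizer (P : Set G) := by
    intro x hx
    rw [Subgroup.mem_centralizer_iff]
    intro y hy
    exact hcomm y hy x hx
  constructor
  · intro h
    obtain ⟨N, hN, hc⟩ := (Cfsg.Agent.Helper9.hasNormalPComplement_iff P).mp h
    have hdisj : N ⊓ (P : Subgroup G) = ⊥ := hc.disjoint.eq_bot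
    refine ⟨Subgroup.normalizer (P : Set G) ⊓ N, ?_, ?_, ?_⟩
    · intro q hq
      have hqN : q ∈ Subgroup.normalizer (P : Set G) := hq.1
      have hqn : q ∈ N := hq.2
      rw [Subgroup.mem_centralizer_iff]
      intro x hx
      have hx' : x ∈ (P : Subgroup G) := hx
      -- ⁅q, x⁆ ∈ P ∩ N
      have h1 : q * x * q⁻¹ ∈ (P : Subgroup G) := (Subgroup.mem_normalizer_iff.mp hqN x).mp hx'
      have h2 : q * x * q⁻¹ * x⁻¹ ∈ (P : Subgroup G) := mul_mem h1 (inv_mem hx')
      have h3 : q * x * q⁻¹ * x⁻¹ ∈ N := by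
        have : x * q⁻¹ * x⁻¹ ∈ N := hN.conj_mem q⁻¹ (inv_mem hqn) x
        have e : q * x * q⁻¹ * x⁻¹ = q * (x * q⁻¹ * x⁻¹) := by group
        rw [e]
        exact mul_mem hqn this
      have h4 : q * x * q⁻¹ * x⁻¹ ∈ N ⊓ (P : Subgroup G) := ⟨h3, h2⟩
      rw [hdisj, Subgroup.mem_bot] at h4
      have : q * x = x * q := by
        have e : q * x = (q * x * q⁻¹ * x⁻¹) * (x * q) := by group
        rw [e, h4, one_mul]
      exact this.symm
    · rw [eq_bot_iff, ← hdisj]
      intro x hx
      exact ⟨hx.1.2, hx.2⟩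
    · apply le_antisymm
      · exact sup_le inf_le_left Subgroup.le_normalizer
      · intro g hg
        have hgtop : g ∈ N ⊔ (P : Subgroup G) := by rw [hc.sup_eq_top]; trivial
        rw [← SetLike.mem_coe, Subgroup.normal_mul, Set.mem_mul] at hgtop
        obtain ⟨n, hn, x, hx, rfl⟩ := hgtop
        have hx' : x ∈ (P : Subgroup G) := hx
        have hnN : n ∈ Subgroup.normalizer (P : Set G) := by
          have e : n = (n * x) * x⁻¹ := by group
          rw [e]
          exact mul_mem hg (inv_mem (Subgroup.le_normalizer hx'))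
        exact Subgroup.mul_mem_sup ⟨hnN, hn⟩ hx'
  · rintro ⟨Q, hQC, _, hQP⟩
    apply Cfsg.Agent.Helper9.hasNormalPComplement_of_normalizer_le_centralizer P
    rw [← hQP]
    exact sup_le hQC hPC

end Cfsg.Agent.S0083
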