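import Cfsg.Statements.S0084
import Cfsg.Agent.Helper9.Burnside

set_option autoImplicit false
open Cfsg

namespace Cfsg.Agent.S0084

/-- A group whose Sylow 2-subgroups are Klein four-groups and whose order is prime to 3 has a normal 2-complement. -/
theorem result {G : Type*} [Group G] [Finite G] (T : Sylow 2 G) (hT : IsKleinFour T) (h3 : ¬ 3 ∣ Nat.card G) : Cfsg.HasNormalPComplement 2 G := by
  haveI : Fact (Nat.Prime 2) := ⟨Nat.prime_two⟩
  apply Cfsg.Agent.Helper9.hasNormalPComplement_of_normalizer_le_centralizer T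
  by_contra hN
  have hcomm : ∀ a ∈ (T : Subgroup G), ∀ b ∈ (T : Subgroup G), a * b = b * a := by
    intro a ha b hb
    have h := (IsKleinFour.isMulCommutative (G := T)).is_comm.comm ⟨a, ha⟩ ⟨b, hb⟩
    exact congrArg Subtype.val h
  obtain ⟨q, hq, hq2, hqG, α, hα⟩ :=
    Cfsg.Agent.Helper9.exists_prime_aut_of_not_le_centralizer T hcomm hN
  obtain ⟨d, hd1, hd2, hd3⟩ := Cfsg.Agent.Helper9.prime_order_aut_card α q hq hα
  have h4 : Nat.card (T : Subgroup G) = 4 := hT.card_four
  rw [h4] at hd1 hd2 hd3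
  have hq3 : q = 3 := by
    have hdle : d ≤ 3 := by omega
    interval_cases d
    · simp at hd1
    · -- q ∣ 3
      have : q ∣ 3 := hd3
      exact (Nat.prime_dvd_prime_iff_eq hq Nat.prime_three).mp this
    · -- q ∣ 2
      have : q ∣ 2 := hd3
      exact absurd ((Nat.prime_dvd_prime_iff_eq hq Nat.prime_two).mp this) hq2
    · norm_num at hd1
  exact h3 (hq3 ▸ hqG)

end Cfsg.Agent.S0084
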