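import Cfsg.Statements.S0085
import Cfsg.Agent.Helper9.Burnside

set_option autoImplicit false
open Cfsg

namespace Cfsg.Agent.S0085

/-- A group whose Sylow 2-subgroups are elementary abelian of order 8 and whose order is prime to 3 and to 7 has a normal 2-complement. -/
theorem result {G : Type*} [Group G] [Finite G] (T : Sylow 2 G) (h8 : Nat.card T = 8) (he : ∀ x : T, x * x = 1) (h3 : ¬ 3 ∣ Nat.card G) (h7 : ¬ 7 ∣ Nat.card G) : Cfsg.HasNormalPComplement 2 G := by
  have : Fact (Nat.Prime 2) := ⟨Nat.prime_two⟩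
  apply Cfsg.Agent.Helper9.hasNormalPComplement_of_normalizer_le_centralizer T
  by_contra hN
  have hcomm : ∀ a ∈ (T : Subgroup G), ∀ b ∈ (T : Subgroup G), a * b = b * a := by
    intro a ha b hb
    have key : ∀ x y : T, x * y = y * x := by
      intro x y
      have hx := he x
      have hy := he y
      have hxy := he (x * y)
      -- x y x y = 1 → x y = y⁻¹ x⁻¹ = y x
      have hxi : x⁻¹ = x := inv_eq_of_mul_eq_one_left hx
      have hyi : y⁻¹ = y := inv_eq_of_mul_eq_one_left hy
      have : x * y = (x * y)⁻¹ := (inv_eq_of_mul_eq_one_left hxy).symm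
      rw [this, mul_inv_rev, hxi, hyi]
    exact congrArg Subtype.val (key ⟨a, ha⟩ ⟨b, hb⟩)
  obtain ⟨q, hq, hq2, hqG, α, hα⟩ :=
    Cfsg.Agent.Helper9.exists_prime_aut_of_not_le_centralizer T hcomm hN
  obtain ⟨d, hd1, hd2, hd3⟩ := Cfsg.Agent.Helper9.prime_order_aut_card α q hq hα
  have h8' : Nat.card (T : Subgroup G) = 8 := h8
  rw [h8'] at hd1 hd2 hd3
  have hcases : q = 3 ∨ q = 7 := by
    have hdle : d ≤ 7 := by omega
    interval_cases d
    · simp at hd1
    · right
      have : q ∣ 7 := hd3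
      exact (Nat.prime_dvd_prime_iff_eq hq (by norm_num)).mp this
    · -- q ∣ 6
      have : q ∣ 2 * 3 := hd3
      rcases (Nat.Prime.dvd_mul hq).mp this with h | h
      · exact absurd ((Nat.prime_dvd_prime_iff_eq hq Nat.prime_two).mp h) hq2
      · left; exact (Nat.prime_dvd_prime_iff_eq hq Nat.prime_three).mp h
    · norm_num at hd1
    · -- q ∣ 4
      have : q ∣ 2 * 2 := hd3
      rcases (Nat.Prime.dvd_mul hq).mp this with h | h <;>
        exact absurd ((Nat.prime_dvd_prime_iff_eq hq Nat.prime_two).mp h) hq2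
    · norm_num at hd1
    · norm_num at hd1
    · norm_num at hd1
  rcases hcases with h | h
  · exact h3 (h ▸ hqG)
  · exact h7 (h ▸ hqG)

end Cfsg.Agent.S0085
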