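import Cfsg.Statements.S0088
import Mathlib

set_option autoImplicit false
open Cfsg

namespace Cfsg.Agent.S0088

/-- An abelian Hall subgroup meets G' ∩ Z(G) trivially. -/
theorem result {G : Type*} [Group G] [Finite G] (H : Subgroup G) (hc : IsMulCommutative H) (hHall : Nat.Coprime (Nat.card H) H.index) : H ⊓ commutator G ⊓ Subgroup.center G = ⊥ := by
  classical
  rw [eq_bot_iff]
  intro x hx
  obtain ⟨⟨hxH, hxG'⟩, hxZ⟩ := hx
  rw [Subgroup.mem_bot]
  let _ : CommGroup H := { (inferInstance : Group H) with mul_comm := hc.is_comm.comm }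
  have : H.FiniteIndex := Subgroup.finiteIndex_of_finite_quotient
  -- the transfer into `H`
  have key : ∀ (k : ℕ) (g₀ : G), g₀⁻¹ * x ^ k * g₀ ∈ H → g₀⁻¹ * x ^ k * g₀ = x ^ k := by
    intro k g₀ _
    have hc : x ^ k ∈ Subgroup.center G := Subgroup.pow_mem _ hxZ k
    have := (Subgroup.mem_center_iff.mp hc) g₀
    rw [mul_assoc, ← this, inv_mul_cancel_left]
  have h1 := MonoidHom.transfer_eq_pow (MonoidHom.id H) x key
  have h2 : MonoidHom.transfer (MonoidHom.id H) x = 1 := by
    have : commutator G ≤ (MonoidHom.transfer (MonoidHom.id H)).ker :=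
      Abelianization.commutator_subset_ker _
    exact this hxG'
  rw [h2] at h1
  have h3 : x ^ H.index = 1 := by
    have := congrArg (Subtype.val) h1
    simpa using this.symm
  have h4 : x ^ Nat.card H = 1 := by
    have h : (⟨x, hxH⟩ : H) ^ Nat.card H = 1 := pow_card_eq_one'
    have h' := congrArg Subtype.val h
    rwa [Subgroup.coe_pow, Subgroup.coe_one] at h'
  have h5 : orderOf x ∣ Nat.gcd (Nat.card H) H.index :=
    Nat.dvd_gcd (orderOf_dvd_of_pow_eq_one h4) (orderOf_dvd_of_pow_eq_one h3)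
  rw [hHall, Nat.dvd_one, orderOf_eq_one_iff] at h5
  exact h5

end Cfsg.Agent.S0088
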