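import Cfsg.Statements.S0089
import Mathlib
import Cfsg.Agent.S0088

set_option autoImplicit false
open Cfsg

namespace Cfsg.Agent.S0089

/-- When all Sylow subgroups are abelian, the derived subgroup meets the centre trivially. -/
theorem result {G : Type*} [Group G] [Finite G] (h : ∀ p : ℕ, p.Prime → ∀ P : Sylow p G, IsMulCommutative P) : commutator G ⊓ Subgroup.center G = ⊥ := by
  classical
  rw [eq_bot_iff]
  intro x hx
  rw [Subgroup.mem_bot]
  by_contra hx1
  -- a prime dividing the order of x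
  have hord : orderOf x ≠ 1 := by
    rwa [Ne, orderOf_eq_one_iff]
  obtain ⟨p, hp, hpd⟩ := Nat.exists_prime_and_dvd hord
  haveI : Fact p.Prime := ⟨hp⟩
  obtain ⟨m, hm⟩ := hpd
  set y := x ^ m with hy
  have hyo : orderOf y = p := by
    have hpos : 0 < orderOf x := orderOf_pos x
    have hm0 : m ≠ 0 := by
      rintro rfl
      rw [mul_zero] at hm
      omega
    have : orderOf (x ^ m) = orderOf x / Nat.gcd (orderOf x) m := orderOf_pow x
    rw [hy, this]
    have hg : Nat.gcd (orderOf x) m = m := by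
      rw [hm]; exact Nat.gcd_eq_right (Dvd.intro_left p rfl)
    rw [hg]
    conv_lhs => rw [hm]
    exact Nat.mul_div_cancel _ (Nat.pos_of_ne_zero hm0)
  have hyG : y ∈ commutator G ⊓ Subgroup.center G := Subgroup.pow_mem _ hx m
  have hpg : IsPGroup p (Subgroup.zpowers y) := by
    rw [IsPGroup.iff_card, Nat.card_zpowers, hyo]
    exact ⟨1, (pow_one p).symm⟩
  obtain ⟨P, hP⟩ := hpg.exists_le_sylow
  have hyP : y ∈ (P : Subgroup G) := hP (Subgroup.mem_zpowers y)
  have hHall : Nat.Coprime (Nat.card (P : Subgroup G)) (P : Subgroup G).index := P.card_coprime_index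
  have h88 := Cfsg.Agent.S0088.result (P : Subgroup G) (h p hp P) hHall
  have : y ∈ (P : Subgroup G) ⊓ commutator G ⊓ Subgroup.center G := ⟨⟨hyP, hyG.1⟩, hyG.2⟩
  rw [h88, Subgroup.mem_bot] at this
  rw [this, orderOf_one] at hyo
  exact hp.one_lt.ne hyo

end Cfsg.Agent.S0089
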