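import Cfsg.Statements.S0090
import Mathlib
import Cfsg.Agent.S0088
import Cfsg.Agent.Lead.CoprimeAbelian

set_option autoImplicit false
open Cfsg

namespace Cfsg.Agent.S0090
open scoped commutatorElement Pointwise

/-- An abelian normal Hall subgroup A splits as the internal direct product of G' ∩ A and Z(G) ∩ A, and [A, G] = G' ∩ A. -/
theorem result {G : Type*} [Group G] [Finite G] (A : Subgroup G) [A.Normal] (hc : IsMulCommutative A) (hHall : Nat.Coprime (Nat.card A) A.index) : ⁅A, (⊤ : Subgroup G)⁆ = commutator G ⊓ A ∧ (commutator G ⊓ A) ⊓ (Subgroup.center G ⊓ A) = ⊥ ∧ (commutator G ⊓ A) ⊔ (Subgroup.center G ⊓ A) = A := by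
  classical
  have : IsMulCommutative A := hc
  have hcomm : ∀ a ∈ A, ∀ b ∈ A, a * b = b * a := fun a ha b hb =>
    congrArg Subtype.val (hc.is_comm.comm ⟨a, ha⟩ ⟨b, hb⟩)
  -- Schur–Zassenhaus complement
  obtain ⟨K, hK⟩ := Subgroup.exists_right_complement'_of_coprime hHall
  have hKcard : Nat.card K = A.index := by
    have h1 := hK.symm.index_eq_card
    exact h1.symm
  have hcop : (Nat.card K).Coprime (Nat.card A) := by
    rw [hKcard]; exact hHall.symm
  have hKA : K ≤ Subgroup.normalizer (A : Set G) := by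
    rw [Subgroup.normalizer_eq_top]; exact le_top
  obtain ⟨hd1, hd2⟩ := Cfsg.Agent.Lead.coprime_abelian_decomp K A hKA hcop
  have hsup : A ⊔ K = ⊤ := hK.sup_eq_top
  -- C_A(K) = Z(G) ∩ A
  have hcent : A ⊓ Subgroup.centralizer (K : Set G) = Subgroup.center G ⊓ A := by
    apply le_antisymm
    · intro x hx
      have hxA : x ∈ A := hx.1
      have hxK : x ∈ Subgroup.centralizer (K : Set G) := hx.2
      refine ⟨?_, hxA⟩
      show x ∈ Subgroup.center G
      rw [Subgroup.mem_center_iff]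
      intro g
      have hg : g ∈ A ⊔ K := by rw [hsup]; trivial
      rw [← SetLike.mem_coe, Subgroup.normal_mul, Set.mem_mul] at hg
      obtain ⟨b, hb, k, hk, rfl⟩ := hg
      have h1 : k * x = x * k := (Subgroup.mem_centralizer_iff.mp hxK) k hk
      have h2 : b * x = x * b := hcomm b hb x hxA
      rw [mul_assoc, h1, ← mul_assoc, h2, mul_assoc]
    · intro x hx
      have hxZ : x ∈ Subgroup.center G := hx.1
      have hxA : x ∈ A := hx.2
      refine ⟨hxA, ?_⟩
      show x ∈ Subgroup.centralizer (K : Set G)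
      rw [Subgroup.mem_centralizer_iff]
      intro k _
      exact (Subgroup.mem_center_iff.mp hxZ) k
  -- [A,K] = [A,G]
  have hAK_le_A : ⁅A, K⁆ ≤ A := Subgroup.commutator_le_left A K
  have hcommAG : ⁅A, (⊤ : Subgroup G)⁆ = ⁅A, K⁆ := by
    apply le_antisymm
    · rw [Subgroup.commutator_le]
      intro a ha g _
      have hg : g ∈ A ⊔ K := by rw [hsup]; trivial
      rw [← SetLike.mem_coe, Subgroup.normal_mul, Set.mem_mul] at hg
      obtain ⟨b, hb, k, hk, rfl⟩ := hg
      have hak : ⁅a, k⁆ ∈ ⁅A, K⁆ := Subgroup.commutator_mem_commutator ha hk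
      have hakA : ⁅a, k⁆ ∈ A := hAK_le_A hak
      have hab : a * b = b * a := hcomm a ha b hb
      have e1 : ⁅a, b * k⁆ = b * ⁅a, k⁆ * b⁻¹ := by
        rw [commutatorElement_def, commutatorElement_def]
        calc a * (b * k) * a⁻¹ * (b * k)⁻¹ = (a * b) * k * a⁻¹ * k⁻¹ * b⁻¹ := by group
          _ = (b * a) * k * a⁻¹ * k⁻¹ * b⁻¹ := by rw [hab]
          _ = b * (a * k * a⁻¹ * k⁻¹) * b⁻¹ := by group
      have e2 : b * ⁅a, k⁆ * b⁻¹ = ⁅a, k⁆ := by
        rw [hcomm b hb _ hakA, mul_assoc, mul_inv_cancel, mul_one]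
      rw [e1, e2]
      exact hak
    · exact Subgroup.commutator_mono le_rfl le_top
  have hAG_le : ⁅A, (⊤ : Subgroup G)⁆ ≤ commutator G ⊓ A := by
    apply le_inf
    · rw [commutator_def]; exact Subgroup.commutator_mono le_top le_rfl
    · exact Subgroup.commutator_le_left A ⊤
  have h88 : A ⊓ commutator G ⊓ Subgroup.center G = ⊥ := Cfsg.Agent.S0088.result A hc hHall
  have hpart2 : (commutator G ⊓ A) ⊓ (Subgroup.center G ⊓ A) = ⊥ := by
    rw [eq_bot_iff, ← h88]
    intro x hx
    have h1 : x ∈ commutator G := hx.1.1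
    have h2 : x ∈ A := hx.1.2
    have h3 : x ∈ Subgroup.center G := hx.2.1
    exact ⟨⟨h2, h1⟩, h3⟩
  have hpart1 : ⁅A, (⊤ : Subgroup G)⁆ = commutator G ⊓ A := by
    apply le_antisymm hAG_le
    intro x hx
    have hx' : x ∈ commutator G := hx.1
    have hxA : x ∈ A := hx.2
    rw [← hd2, hcent, ← hcommAG] at hxA
    -- x = c * w with c central in A, w ∈ [A,G]
    have hnorm : ⁅A, (⊤ : Subgroup G)⁆.Normal := Subgroup.commutator_normal A ⊤
    rw [← SetLike.mem_coe, Subgroup.mul_normal, Set.mem_mul] at hxA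
    obtain ⟨c, hcZ, w, hw, rfl⟩ := hxA
    have hc1 : c ∈ (commutator G ⊓ A) ⊓ (Subgroup.center G ⊓ A) := by
      refine ⟨?_, hcZ⟩
      have : c = (c * w) * w⁻¹ := by group
      rw [this]
      have hw' : w ∈ commutator G ⊓ A := hAG_le hw
      have hw1 : w ∈ commutator G := hw'.1
      have hw2 : w ∈ A := hw'.2
      have hxA' : c * w ∈ A := hx.2
      exact ⟨(commutator G).mul_mem hx' ((commutator G).inv_mem hw1),
        A.mul_mem hxA' (A.inv_mem hw2)⟩
    rw [hpart2, Subgroup.mem_bot] at hc1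
    rw [hc1, one_mul]
    exact hw
  refine ⟨hpart1, hpart2, ?_⟩
  rw [← hpart1, hcommAG, sup_comm, ← hcent]
  exact hd2

end Cfsg.Agent.S0090
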