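import Mathlib
import Cfsg.Statements.S0094
import Cfsg.Agent.Helper1.PGroup

set_option autoImplicit false
open Pointwise
open Cfsg
open scoped commutatorElement

namespace Cfsg.Agent.S0094

theorem commutator_pow_of_central {P : Type*} [Group P] (a b : P)
    (hc : ⁅a, b⁆ ∈ Subgroup.center P) (n : ℕ) : ⁅a ^ n, b⁆ = ⁅a, b⁆ ^ n := by
  induction n with
  | zero => simp
  | succ n ih =>
    have hcn : ⁅a, b⁆ ^ n ∈ Subgroup.center P := Subgroup.pow_mem _ hc n
    have h1 : a ^ n * b * (a ^ n)⁻¹ = ⁅a, b⁆ ^ n * b := by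
      rw [← ih, commutatorElement_def]; group
    calc ⁅a ^ (n + 1), b⁆ = a * (a ^ n * b * (a ^ n)⁻¹) * a⁻¹ * b⁻¹ := by
          rw [commutatorElement_def, pow_succ']; group
      _ = a * (⁅a, b⁆ ^ n * b) * a⁻¹ * b⁻¹ := by rw [h1]
      _ = ⁅a, b⁆ ^ n * (a * b * a⁻¹ * b⁻¹) := by
          have := Subgroup.mem_center_iff.mp hcn a
          calc a * (⁅a, b⁆ ^ n * b) * a⁻¹ * b⁻¹ = (a * ⁅a, b⁆ ^ n) * b * a⁻¹ * b⁻¹ := by group
            _ = (⁅a, b⁆ ^ n * a) * b * a⁻¹ * b⁻¹ := by rw [this]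
            _ = ⁅a, b⁆ ^ n * (a * b * a⁻¹ * b⁻¹) := by group
      _ = ⁅a, b⁆ ^ (n + 1) := by rw [← commutatorElement_def, pow_succ]

/-- In a special p-group every central element has order dividing p. -/
theorem result {P : Type*} [Group P] [Finite P] {p : ℕ} [Fact p.Prime] (h : Cfsg.IsSpecial p P) (z : P) (hz : z ∈ Subgroup.center P) : z ^ p = 1 := by
  obtain ⟨hP, hfr, hcomm⟩ := h
  -- the subgroup of central elements killed by p
  let K : Subgroup P :=
    { carrier := {z | z ∈ Subgroup.center P ∧ z ^ p = 1}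
      one_mem' := ⟨Subgroup.one_mem _, one_pow p⟩
      mul_mem' := by
        rintro a b ⟨ha, hap⟩ ⟨hb, hbp⟩
        refine ⟨Subgroup.mul_mem _ ha hb, ?_⟩
        have : Commute a b := (Subgroup.mem_center_iff.mp ha b).symm
        rw [this.mul_pow, hap, hbp, one_mul]
      inv_mem' := by
        rintro a ⟨ha, hap⟩
        exact ⟨Subgroup.inv_mem _ ha, by rw [inv_pow, hap, inv_one]⟩ }
  have hK : commutator P ≤ K := by
    rw [commutator_eq_closure, Subgroup.closure_le]
    rintro c ⟨a, b, rfl⟩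
    have hc : ⁅a, b⁆ ∈ Subgroup.center P := by
      rw [← hcomm, commutator_eq_closure]
      exact Subgroup.subset_closure ⟨a, b, rfl⟩
    refine ⟨hc, ?_⟩
    rw [← commutator_pow_of_central a b hc p]
    have hap : a ^ p ∈ Subgroup.center P := by
      rw [← hfr]; exact Cfsg.Agent.Helper1.IsPGroup.pow_mem_frattini hP a
    rw [commutatorElement_def, (Subgroup.mem_center_iff.mp hap b).symm]
    group
  rw [← hcomm] at hz
  exact (hK hz).2

end Cfsg.Agent.S0094
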