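import Cfsg.Statements.S0097
import Mathlib
import Cfsg.Agent.Helper9.Class2
import Cfsg.Agent.Helper1.PGroup

set_option autoImplicit false
open Cfsg

namespace Cfsg.Agent.S0097
open scoped commutatorElement

/-- For odd p and E extraspecial, the subgroup generated by the elements of order dividing p has exponent dividing p and index at most p. -/
theorem result {E : Type*} [Group E] [Finite E] {p : ℕ} [Fact p.Prime] (hp : p ≠ 2) (h : Cfsg.IsExtraspecial p E) : (Subgroup.closure {x : E | x ^ p = 1}).index ≤ p ∧ ∀ g ∈ Subgroup.closure {x : E | x ^ p = 1}, g ^ p = 1 := by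
  classical
  have hpp : p.Prime := Fact.out
  obtain ⟨⟨hPG, hfr, hcomm⟩, hcard⟩ := h
  have hG : commutator E ≤ Subgroup.center E := hcomm.le
  have hexp := Cfsg.Agent.Helper9.pow_prime_eq_one_of_mem_closure_of_class_two (G := E) hpp hp hG
  refine ⟨?_, hexp⟩
  -- central elements have order dividing p
  have hzp : ∀ z ∈ Subgroup.center E, z ^ p = 1 := by
    intro z hz
    have h1 : (⟨z, hz⟩ : Subgroup.center E) ^ Nat.card (Subgroup.center E) = 1 := pow_card_eq_one'
    rw [hcard] at h1
    have := congrArg Subtype.val h1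
    simpa using this
  -- the p-th power map is a homomorphism into the centre
  have hpow_mem : ∀ x : E, x ^ p ∈ Subgroup.center E := by
    intro x
    rw [← hfr]
    exact Cfsg.Agent.Helper1.IsPGroup.pow_mem_frattini (p := p) hPG x
  have hmul : ∀ x y : E, (x * y) ^ p = x ^ p * y ^ p := by
    intro x y
    rw [Cfsg.Agent.S0841.result hG x y p]
    have hc : y⁻¹ * x⁻¹ * y * x ∈ Subgroup.center E := by
      have : y⁻¹ * x⁻¹ * y * x = ⁅y⁻¹, x⁻¹⁆ := by simp [commutatorElement_def]
      rw [this]
      exact Cfsg.Agent.Helper9.commutatorElement_mem_center hG _ _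
    obtain ⟨k, hk⟩ := hpp.odd_of_ne_two hp
    have h2 : p * (p - 1) / 2 = p * k := by
      have : p - 1 = 2 * k := by omega
      rw [this, ← mul_assoc, mul_comm p 2, mul_assoc,
        Nat.mul_div_cancel_left _ (by norm_num : 0 < 2)]
    rw [h2, pow_mul, hzp _ hc, one_pow, mul_one]
  let f : E →* Subgroup.center E :=
    { toFun := fun x => ⟨x ^ p, hpow_mem x⟩
      map_one' := by ext; simp
      map_mul' := fun x y => by ext; simp [hmul] }
  have hker : f.ker ≤ Subgroup.closure {x : E | x ^ p = 1} := by
    intro x hx
    apply Subgroup.subset_closure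
    have := congrArg Subtype.val (MonoidHom.mem_ker.mp hx)
    simpa [f] using this
  have h1 : (Subgroup.closure {x : E | x ^ p = 1}).index ∣ f.ker.index :=
    Subgroup.index_dvd_of_le hker
  have h2 : f.ker.index = Nat.card f.range := Subgroup.index_ker f
  have h3 : Nat.card f.range ≤ Nat.card (Subgroup.center E) := Subgroup.card_le_card_group _
  have h4 : 0 < f.ker.index := by
    rw [h2]; exact Nat.card_pos
  calc (Subgroup.closure {x : E | x ^ p = 1}).index ≤ f.ker.index := Nat.le_of_dvd h4 h1
    _ = Nat.card f.range := h2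
    _ ≤ Nat.card (Subgroup.center E) := h3
    _ = p := hcard

end Cfsg.Agent.S0097
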