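import Cfsg.Statements.S0098
import Mathlib
import Cfsg.Agent.Helper9.HeisOdd

set_option autoImplicit false
open Cfsg

namespace Cfsg.Agent.S0098

open scoped commutatorElement
open Cfsg.Agent.Helper9

/-- An extraspecial group of exponent `p` satisfies the elementwise predicate `ESp`. -/
theorem exists_ESp_of_isExtraspecial {E : Type*} [Group E] [Finite E] {p : ℕ} [Fact p.Prime]
    (h : Cfsg.IsExtraspecial p E) (he : Monoid.exponent E = p) : ∃ z : E, ESp p E z := by
  obtain ⟨⟨_, _, hcomm⟩, hcard⟩ := h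
  have hp : p.Prime := Fact.out
  have : IsCyclic (Subgroup.center E) := isCyclic_of_prime_card hcard
  obtain ⟨g, hg⟩ := IsCyclic.exists_generator (α := Subgroup.center E)
  have hord : orderOf g = p := by
    rw [orderOf_eq_card_of_forall_mem_zpowers hg, hcard]
  have hmem : ∀ c : E, c ∈ Subgroup.center E → ∃ k : ℤ, (g : E) ^ k = c := by
    intro c hc
    obtain ⟨k, hk⟩ := Subgroup.mem_zpowers_iff.mp (hg ⟨c, hc⟩)
    exact ⟨k, by simpa using congrArg Subtype.val hk⟩
  refine ⟨(g : E), ?_, ?_, ?_, ?_, ?_⟩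
  · intro h1
    have h2 : g = 1 := Subtype.ext h1
    rw [h2, orderOf_one] at hord
    exact hp.one_lt.ne hord
  · intro k
    exact Subgroup.mem_center_iff.mp g.2 k
  · intro c hc
    obtain ⟨k, hk⟩ := hmem c (Subgroup.mem_center_iff.mpr hc)
    exact Subgroup.mem_zpowers_iff.mpr ⟨k, hk⟩
  · intro x y
    have h1 : ⁅x, y⁆ ∈ commutator E := by
      rw [commutator_def]
      exact Subgroup.commutator_mem_commutator (Subgroup.mem_top _) (Subgroup.mem_top _)
    rw [hcomm] at h1
    obtain ⟨k, hk⟩ := hmem _ h1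
    refine ⟨k, ?_⟩
    rw [hk, (Subgroup.mem_center_iff.mp h1 (y * x))]
    rw [commutatorElement_def]
    group
  · intro x
    rw [← he]
    exact Monoid.pow_exponent_eq_one x

/-- For odd p, extraspecial p-groups of exponent p are determined up to isomorphism by their order. -/
theorem result {E₁ : Type*} {E₂ : Type*} [Group E₁] [Group E₂] [Finite E₁] [Finite E₂] {p : ℕ} [Fact p.Prime] (hp : p ≠ 2) (h₁ : Cfsg.IsExtraspecial p E₁) (h₂ : Cfsg.IsExtraspecial p E₂) (he₁ : Monoid.exponent E₁ = p) (he₂ : Monoid.exponent E₂ = p) (hc : Nat.card E₁ = Nat.card E₂) : Nonempty (E₁ ≃* E₂) := by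
  obtain ⟨z₁, hz₁⟩ := exists_ESp_of_isExtraspecial h₁ he₁
  obtain ⟨z₂, hz₂⟩ := exists_ESp_of_isExtraspecial h₂ he₂
  obtain ⟨φ, _⟩ := hz₁.exists_mulEquiv hz₂ hc
  exact ⟨φ⟩

end Cfsg.Agent.S0098
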