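import Cfsg.Statements.S0101
import Mathlib
import Cfsg.Agent.Helper1.PGroup

set_option autoImplicit false
open Cfsg

namespace Cfsg.Agent.S0101

/-- In a perfect central extension, the kernel meets each Sylow p-subgroup P inside the Frattini subgroup of P. -/
theorem result {H : Type*} {G : Type*} [Group H] [Group G] [Finite H] (σ : H →* G) (hσ : Function.Surjective σ) (hc : σ.ker ≤ Subgroup.center H) (hH : commutator H = ⊤) {p : ℕ} [Fact p.Prime] (P : Sylow p H) : σ.ker ⊓ (P : Subgroup H) ≤ (frattini P).map (P : Subgroup H).subtype := by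
  classical
  intro z hz
  have hzk : z ∈ σ.ker := hz.1
  have hzP : z ∈ (P : Subgroup H) := hz.2
  have hzZ : z ∈ Subgroup.center H := hc hzk
  have key : ∀ (k : ℕ) (g₀ : H), g₀⁻¹ * z ^ k * g₀ ∈ (P : Subgroup H) →
      g₀⁻¹ * z ^ k * g₀ = z ^ k := by
    intro k g₀ _
    have hc' : z ^ k ∈ Subgroup.center H := Subgroup.pow_mem _ hzZ k
    have := (Subgroup.mem_center_iff.mp hc') g₀
    rw [mul_assoc, ← this, inv_mul_cancel_left]
  have h1 := MonoidHom.transfer_eq_pow (Abelianization.of (G := (P : Subgroup H))) z key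
  have h2 : MonoidHom.transfer (Abelianization.of (G := (P : Subgroup H))) z = 1 := by
    have hle : commutator H ≤ (MonoidHom.transfer (Abelianization.of (G := (P : Subgroup H)))).ker :=
      Abelianization.commutator_subset_ker _
    have : z ∈ commutator H := by rw [hH]; trivial
    exact hle this
  rw [h2] at h1
  have h3 : (Abelianization.of (⟨z, hzP⟩ : (P : Subgroup H))) ^ (P : Subgroup H).index = 1 := by
    rw [← map_pow, h1]
    rfl
  have hQ : IsPGroup p (Abelianization (P : Subgroup H)) :=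
    P.2.to_quotient _
  obtain ⟨k, hk⟩ := hQ (Abelianization.of (⟨z, hzP⟩ : (P : Subgroup H)))
  have h4 : orderOf (Abelianization.of (⟨z, hzP⟩ : (P : Subgroup H))) ∣ p ^ k :=
    orderOf_dvd_of_pow_eq_one hk
  have h5 : orderOf (Abelianization.of (⟨z, hzP⟩ : (P : Subgroup H))) ∣ (P : Subgroup H).index :=
    orderOf_dvd_of_pow_eq_one h3
  have hcop : Nat.Coprime (p ^ k) (P : Subgroup H).index :=
    Nat.Coprime.pow_left k ((Fact.out : p.Prime).coprime_iff_not_dvd.mpr P.not_dvd_index)
  have h6 := Nat.eq_one_of_dvd_coprimes hcop h4 h5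
  rw [orderOf_eq_one_iff] at h6
  have h7 : (⟨z, hzP⟩ : (P : Subgroup H)) ∈ commutator (P : Subgroup H) := by
    rw [← Abelianization.ker_of, MonoidHom.mem_ker]; exact h6
  have h8 : (⟨z, hzP⟩ : (P : Subgroup H)) ∈ frattini (P : Subgroup H) :=
    Cfsg.Agent.Helper1.IsPGroup.commutator_le_frattini (p := p) P.2 h7
  exact ⟨⟨z, hzP⟩, h8, rfl⟩

end Cfsg.Agent.S0101
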