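import Cfsg.Statements.S0102
import Mathlib
import Cfsg.Agent.S0088

set_option autoImplicit false
open Cfsg

namespace Cfsg.Agent.S0102

/-- A finite perfect group with cyclic Sylow p-subgroups has no perfect central extension whose kernel has order divisible by p. -/
theorem result {G : Type*} {H : Type*} [Group G] [Group H] [Finite G] [Finite H] (hG : commutator G = ⊤) {p : ℕ} [Fact p.Prime] (hcyc : ∀ P : Sylow p G, IsCyclic P) (σ : H →* G) (hσ : Function.Surjective σ) (hz : σ.ker ≤ Subgroup.center H) (hH : commutator H = ⊤) : ¬ p ∣ Nat.card σ.ker := by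
  classical
  intro hdvd
  -- element of order p in the kernel
  obtain ⟨z', hz'⟩ := exists_prime_orderOf_dvd_card' (G := σ.ker) p hdvd
  set z : H := (z' : H) with hzdef
  have hzo : orderOf z = p := by rw [hzdef, Subgroup.orderOf_coe]; exact hz'
  have hzk : z ∈ σ.ker := z'.2
  have hzZ : z ∈ Subgroup.center H := hz hzk
  -- z lies in every Sylow p-subgroup
  have hpg : IsPGroup p (Subgroup.zpowers z) := by
    rw [IsPGroup.iff_card, Nat.card_zpowers, hzo]
    exact ⟨1, (pow_one p).symm⟩
  obtain ⟨Q, hQ⟩ := hpg.exists_le_sylow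
  have hzQ : z ∈ (Q : Subgroup H) := hQ (Subgroup.mem_zpowers z)
  -- the image of Q in G lies in a cyclic Sylow subgroup
  have himg : IsPGroup p ((Q : Subgroup H).map σ) := Q.2.map σ
  obtain ⟨P, hP⟩ := himg.exists_le_sylow
  haveI : IsCyclic P := hcyc P
  let f : (Q : Subgroup H) →* P :=
    { toFun := fun q => ⟨σ q, hP ⟨q, q.2, rfl⟩⟩
      map_one' := by ext; simp
      map_mul' := fun a b => by ext; simp }
  have hf : f.ker ≤ Subgroup.center (Q : Subgroup H) := by
    intro q hq
    have h1 : σ (q : H) = 1 := by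
      have := congrArg (fun t : P => (t : G)) (MonoidHom.mem_ker.mp hq)
      simpa [f] using this
    have h2 : (q : H) ∈ Subgroup.center H := hz (MonoidHom.mem_ker.mpr h1)
    rw [Subgroup.mem_center_iff]
    intro g
    exact Subtype.ext ((Subgroup.mem_center_iff.mp h2) (g : H))
  have hQc : IsMulCommutative (Q : Subgroup H) :=
    f.isMulCommutative_of_isCyclic_of_ker_le_center hf
  have h88 := Cfsg.Agent.S0088.result (Q : Subgroup H) hQc Q.card_coprime_index
  have hmem : z ∈ (Q : Subgroup H) ⊓ commutator H ⊓ Subgroup.center H := by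
    refine ⟨⟨hzQ, ?_⟩, hzZ⟩
    rw [hH]; trivial
  rw [h88, Subgroup.mem_bot] at hmem
  rw [hmem, orderOf_one] at hzo
  exact (Fact.out : p.Prime).one_lt.ne hzo

end Cfsg.Agent.S0102
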