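import Cfsg.Statements.S0104
import Cfsg.Agent.Helper9.SylowFusion

set_option autoImplicit false
open Cfsg

namespace Cfsg.Agent.S0104

/-- A subgroup Z of a Sylow p-subgroup P that is normalized by N_G(P) is weakly closed in P exactly when it is normal in every Sylow p-subgroup containing it. -/
theorem result {G : Type*} [Group G] [Finite G] {p : ℕ} [Fact p.Prime] (P : Sylow p G) (Z : Subgroup G) (hZP : Z ≤ (P : Subgroup G)) (hZN : Subgroup.normalizer (P : Set G) ≤ Subgroup.normalizer (Z : Set G)) : Cfsg.IsWeaklyClosed Z P ↔ ∀ R : Sylow p G, Z ≤ (R : Subgroup G) → (R : Subgroup G) ≤ Subgroup.normalizer (Z : Set G) := by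
  have hPN : (P : Subgroup G) ≤ Subgroup.normalizer (Z : Set G) :=
    (Subgroup.le_normalizer (H := (P : Subgroup G))).trans hZN
  constructor
  · rintro ⟨_, hwc⟩ R hZR
    obtain ⟨h, rfl⟩ := MulAction.exists_smul_eq G P R
    rw [Cfsg.Agent.Helper9.sylow_smul_coe_eq_map] at hZR ⊢
    -- h⁻¹ normalizes Z
    have h1 : Z.map (MulAut.conj h⁻¹).toMonoidHom ≤ (P : Subgroup G) := by
      rintro _ ⟨z, hz, rfl⟩
      have := hZR hz
      rw [Cfsg.Agent.Helper9.mem_map_conj_iff] at this
      simpa using this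
    have h2 := hwc h⁻¹ h1
    have h3 : h⁻¹ ∈ Subgroup.normalizer (Z : Set G) :=
      (Cfsg.Agent.Helper9.map_conj_eq_iff_mem_normalizer Z h⁻¹).mp h2
    have h4 : h ∈ Subgroup.normalizer (Z : Set G) := by
      have := (Subgroup.normalizer (Z : Set G)).inv_mem h3
      simpa using this
    rintro _ ⟨s, hs, rfl⟩
    simp only [MulEquiv.coe_toMonoidHom, MulAut.conj_apply]
    exact Subgroup.mul_mem _ (Subgroup.mul_mem _ h4 (hPN hs)) (Subgroup.inv_mem _ h4)
  · intro hall
    refine ⟨hZP, ?_⟩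
    intro g hg
    have hZR : Z ≤ ((g⁻¹ • P : Sylow p G) : Subgroup G) := by
      intro z hz
      rw [Cfsg.Agent.Helper9.sylow_smul_coe_eq_map, Cfsg.Agent.Helper9.mem_map_conj_iff]
      have : g * z * g⁻¹ ∈ (P : Subgroup G) := hg ⟨z, hz, rfl⟩
      simpa using this
    have hRN := hall _ hZR
    obtain ⟨k, hkN, hk⟩ := Cfsg.Agent.Helper9.exists_mem_conj_sylow_of_le (g⁻¹ • P) P _ hRN hPN
    rw [Cfsg.Agent.Helper9.sylow_smul_coe_eq_map, Subgroup.map_map] at hk
    have h1 : k * g⁻¹ ∈ Subgroup.normalizer (((P : Subgroup G)) : Set G) := by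
      rw [← Cfsg.Agent.Helper9.map_conj_eq_iff_mem_normalizer, ← hk]
      congr 1
      ext y
      simp [mul_assoc]
    have h2 : k * g⁻¹ ∈ Subgroup.normalizer (Z : Set G) := hZN h1
    have h3 : g ∈ Subgroup.normalizer (Z : Set G) := by
      have := Subgroup.mul_mem _ (Subgroup.inv_mem _ h2) hkN
      simpa using this
    exact (Cfsg.Agent.Helper9.map_conj_eq_iff_mem_normalizer Z g).mpr h3

end Cfsg.Agent.S0104
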