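import Cfsg.Statements.S0105
import Mathlib
import Cfsg.Agent.Helper9.AbelianSylow

set_option autoImplicit false
open Cfsg

namespace Cfsg.Agent.S0105
open scoped commutatorElement Pointwise

/-- With an abelian Sylow p-subgroup P, some quotient of G is isomorphic to the part of P central in N_G(P). -/
theorem result {G : Type*} [Group G] [Finite G] {p : ℕ} [Fact p.Prime] (P : Sylow p G) (hP : IsMulCommutative P) : ∃ (N : Subgroup G) (hN : N.Normal), Nonempty (G ⧸ N ≃* ((P : Subgroup G) ⊓ Subgroup.centralizer (Subgroup.normalizer (P : Set G) : Set G) : Subgroup G)) := by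
  classical
  have hcomm : ∀ a ∈ (P : Subgroup G), ∀ b ∈ (P : Subgroup G), a * b = b * a := fun a ha b hb =>
    congrArg Subtype.val (hP.is_comm.comm ⟨a, ha⟩ ⟨b, hb⟩)
  obtain ⟨hd1, hd2⟩ := Cfsg.Agent.Helper9.abelian_sylow_decomp P hP
  have hfoc : Subgroup.focalSubgroup (P : Subgroup G) =
      ⁅(P : Subgroup G), Subgroup.normalizer (P : Set G)⁆ :=
    Cfsg.Agent.Helper9.focalSubgroup_eq_commutator_normalizer P hP
  rw [← hfoc] at hd1 hd2
  refine ⟨(Subgroup.transferFocal (P : Subgroup G)).ker, inferInstance, ?_⟩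
  have e1 := Subgroup.transferFocal.quotientKerMulEquivQuotientFocalSubroupOf P
  set C : Subgroup G :=
    (P : Subgroup G) ⊓ Subgroup.centralizer (Subgroup.normalizer (P : Set G) : Set G) with hC
  have hCP : C ≤ (P : Subgroup G) := inf_le_left
  let φ : C →* (P : Subgroup G) ⧸ (P : Subgroup G).focalSubgroupOf :=
    (QuotientGroup.mk' _).comp (Subgroup.inclusion hCP)
  have hinj : Function.Injective φ := by
    rw [injective_iff_map_eq_one]
    intro c hc
    have h1 : Subgroup.inclusion hCP c ∈ (P : Subgroup G).focalSubgroupOf := by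
      rw [← QuotientGroup.eq_one_iff]; exact hc
    rw [Subgroup.focalSubgroupOf_def, Subgroup.mem_subgroupOf] at h1
    have h2 : (c : G) ∈ C ⊓ Subgroup.focalSubgroup (P : Subgroup G) := ⟨c.2, h1⟩
    rw [hd1, Subgroup.mem_bot] at h2
    exact Subtype.ext h2
  have hsurj : Function.Surjective φ := by
    intro y
    obtain ⟨x, rfl⟩ := QuotientGroup.mk_surjective y
    have hx : (x : G) ∈ C ⊔ Subgroup.focalSubgroup (P : Subgroup G) := by
      rw [hd2]; exact x.2
    have hWN : Subgroup.focalSubgroup (P : Subgroup G) ≤ Subgroup.normalizer (C : Set G) := by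
      refine le_trans ?_ (Subgroup.centralizer_le_normalizer (C : Set G))
      intro w hw
      have hwP : w ∈ (P : Subgroup G) := Subgroup.focalSubgroup_le _ hw
      rw [Subgroup.mem_centralizer_iff]
      intro c hc
      exact hcomm c (hCP hc) w hwP
    rw [← SetLike.mem_coe, Subgroup.coe_mul_of_right_le_normalizer_left C _ hWN, Set.mem_mul] at hx
    obtain ⟨c, hc, w, hw, hcw⟩ := hx
    refine ⟨⟨c, hc⟩, ?_⟩
    change (QuotientGroup.mk (Subgroup.inclusion hCP ⟨c, hc⟩) :
      (P : Subgroup G) ⧸ (P : Subgroup G).focalSubgroupOf) = QuotientGroup.mk x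
    rw [QuotientGroup.eq, Subgroup.focalSubgroupOf_def, Subgroup.mem_subgroupOf]
    have : (((Subgroup.inclusion hCP ⟨c, hc⟩)⁻¹ * x : (P : Subgroup G)) : G) = w := by
      rw [Subgroup.coe_mul, Subgroup.coe_inv, Subgroup.coe_inclusion, ← hcw]
      group
    rw [this]
    exact hw
  exact ⟨e1.trans (MulEquiv.ofBijective φ ⟨hinj, hsurj⟩).symm⟩

end Cfsg.Agent.S0105
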