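import Cfsg.Statements.S0107
import Mathlib
import Cfsg.Agent.S0111
import Cfsg.Agent.Helper23.Cyclic
import Cfsg.Agent.Helper9.PResidual
import Cfsg.Agent.Helper17.Basic

set_option autoImplicit false
open Cfsg

namespace Cfsg.Agent.S0107
open scoped Pointwise

/-- A finite group with no nontrivial 2-group quotient and dihedral Sylow 2-subgroups of order at least 8 has a single class of involutions. -/
theorem result {G : Type*} [Group G] [Finite G] (T : Sylow 2 G) (n : ℕ) (hn : 2 ≤ n) (hT : Nonempty ((T : Subgroup G) ≃* DihedralGroup (2 ^ n))) (hO : Cfsg.pResidual 2 G = ⊤) (x y : G) (hx : orderOf x = 2) (hy : orderOf y = 2) : ∃ g : G, g * x * g⁻¹ = y := by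
  classical
  have : Fact (Nat.Prime 2) := ⟨Nat.prime_two⟩
  obtain ⟨φ⟩ := hT
  -- no normal subgroup of index two
  have hno : ¬ ∃ M : Subgroup G, M.Normal ∧ M.index = 2 := by
    rintro ⟨M, hMn, hMi⟩
    have hPG : IsPGroup 2 (G ⧸ M) := by
      apply IsPGroup.of_card (n := 1)
      rw [pow_one]; exact hMi
    have := Cfsg.Agent.Helper9.pResidual_le_of_isPGroup_quotient M hPG
    rw [hO, top_le_iff] at this
    rw [this, Subgroup.index_top] at hMi
    omega
  -- the cyclic subgroup of index two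
  set q₀ : G := ((φ.symm (DihedralGroup.r 1) : (T : Subgroup G)) : G) with hq₀
  have hq₀T : q₀ ∈ (T : Subgroup G) := (φ.symm (DihedralGroup.r 1)).2
  have hQT : Subgroup.zpowers q₀ ≤ (T : Subgroup G) := Subgroup.zpowers_le.mpr hq₀T
  have hQcard : Nat.card (Subgroup.zpowers q₀) = 2 ^ n := by
    rw [Nat.card_zpowers, hq₀, Subgroup.orderOf_coe, MulEquiv.orderOf_eq, DihedralGroup.orderOf_r_one]
  have hTcard : Nat.card (T : Subgroup G) = 2 * 2 ^ n := by
    rw [Nat.card_congr φ.toEquiv, DihedralGroup.nat_card]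
  have hQi : (Subgroup.zpowers q₀).relIndex (T : Subgroup G) = 2 := by
    have h1 := Cfsg.Agent.Helper17.relIndex_mul_card_inf (Subgroup.zpowers q₀) (T : Subgroup G)
    rw [inf_eq_left.mpr hQT, hQcard, hTcard] at h1
    exact Nat.eq_of_mul_eq_mul_right (by positivity) h1
  have hQcyc : IsCyclic (Subgroup.zpowers q₀) := inferInstance
  -- uniqueness of involutions in `Q`
  have huniq : ∀ u v : G, u ∈ Subgroup.zpowers q₀ → v ∈ Subgroup.zpowers q₀ → orderOf u = 2 →
      orderOf v = 2 → u = v := by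
    intro u v hu hv huo hvo
    have h1 := Cfsg.Agent.Helper23.eq_of_card_eq_of_isCyclic (Subgroup.zpowers q₀) hQcyc
      (Subgroup.zpowers u) (Subgroup.zpowers v) (Subgroup.zpowers_le.mpr hu)
      (Subgroup.zpowers_le.mpr hv) (by rw [Nat.card_zpowers, Nat.card_zpowers, huo, hvo])
    have h2 : u ∈ Subgroup.zpowers v := by rw [← h1]; exact Subgroup.mem_zpowers u
    obtain ⟨k, hk⟩ := Subgroup.mem_zpowers_iff.mp h2
    have hv2n : v ^ 2 = 1 := by
      have := pow_orderOf_eq_one v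
      rwa [hvo] at this
    have hv2 : v ^ (2 : ℤ) = 1 := by exact_mod_cast hv2n
    rcases Int.emod_two_eq_zero_or_one k with h0 | h1'
    · exfalso
      obtain ⟨j, hj⟩ : ∃ j, k = 2 * j := ⟨k / 2, by omega⟩
      rw [hj, zpow_mul, hv2, one_zpow] at hk
      rw [← hk, orderOf_one] at huo
      omega
    · obtain ⟨j, hj⟩ : ∃ j, k = 2 * j + 1 := ⟨k / 2, by omega⟩
      rw [hj, zpow_add, zpow_mul, hv2, one_zpow, one_mul, zpow_one] at hk
      exact hk.symm
  -- every involution is conjugate to one in `Q`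
  have hconj : ∀ w : G, orderOf w = 2 → ∃ g : G, g * w * g⁻¹ ∈ Subgroup.zpowers q₀ := by
    intro w hw
    have hwP : IsPGroup 2 (Subgroup.zpowers w) := by
      apply IsPGroup.of_card (n := 1)
      rw [Nat.card_zpowers, hw, pow_one]
    obtain ⟨g, hg⟩ := hwP.exists_le_sylow
    obtain ⟨c, hc⟩ := MulAction.exists_smul_eq G g T
    have hwg : w ∈ (g : Subgroup G) := hg (Subgroup.mem_zpowers w)
    have hcw : c * w * c⁻¹ ∈ (T : Subgroup G) := by
      rw [← hc, Sylow.coe_subgroup_smul]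
      have := Subgroup.smul_mem_pointwise_smul w (MulAut.conj c) (g : Subgroup G) hwg
      simpa [MulAut.smul_def] using this
    have hcwo : orderOf (c * w * c⁻¹) = 2 := by
      rw [← hw]
      exact MulEquiv.orderOf_eq (MulAut.conj c) w
    by_cases hcQ : c * w * c⁻¹ ∈ Subgroup.zpowers q₀
    · exact ⟨c, hcQ⟩
    · rcases Cfsg.Agent.S0111.result T (Subgroup.zpowers q₀) hQT hQi (c * w * c⁻¹) hcwo hcw hcQ
        with ⟨M, hMn, hMi, -⟩ | ⟨g', hg'⟩
      · exact absurd ⟨M, hMn, hMi⟩ hno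
      · refine ⟨g' * c, ?_⟩
        have e : g' * c * w * (g' * c)⁻¹ = g' * (c * w * c⁻¹) * g'⁻¹ := by group
        rw [e]; exact hg'
  obtain ⟨gx, hgx⟩ := hconj x hx
  obtain ⟨gy, hgy⟩ := hconj y hy
  have hxo : orderOf (gx * x * gx⁻¹) = 2 := by
    rw [← hx]; exact MulEquiv.orderOf_eq (MulAut.conj gx) x
  have hyo : orderOf (gy * y * gy⁻¹) = 2 := by
    rw [← hy]; exact MulEquiv.orderOf_eq (MulAut.conj gy) y
  have heq := huniq _ _ hgx hgy hxo hyo
  refine ⟨gy⁻¹ * gx, ?_⟩
  have e : gy⁻¹ * gx * x * (gy⁻¹ * gx)⁻¹ = gy⁻¹ * (gx * x * gx⁻¹) * gy := by group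
  rw [e, heq]; group

end Cfsg.Agent.S0107
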