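import Cfsg.Statements.S0110
import Mathlib
import Cfsg.Agent.Helper9.HomCount
import Cfsg.Agent.Helper10.PGroupBasic
import Cfsg.Agent.Helper17.Basic

set_option autoImplicit false
open Cfsg

namespace Cfsg.Agent.S0110
open scoped Pointwise commutatorElement

theorem center_subtype_eq {G : Type*} [Group G] (E : Subgroup G) :
    Subgroup.center E = (Subgroup.centralizer (E : Set G)).subgroupOf E := by
  ext x
  rw [Subgroup.mem_center_iff, Subgroup.mem_subgroupOf, Subgroup.mem_centralizer_iff]
  constructor
  · intro h g hg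
    exact congrArg Subtype.val (h ⟨g, hg⟩)
  · intro h g
    exact Subtype.ext (h g g.2)

/-- In a p-group G, an extraspecial subgroup E with [G, E] ≤ Z(E) satisfies G = E C_G(E). -/
theorem result {G : Type*} [Group G] [Finite G] {p : ℕ} [Fact p.Prime] (hG : IsPGroup p G) (E : Subgroup G) (hE : Cfsg.IsExtraspecial p E) (h : ⁅(⊤ : Subgroup G), E⁆ ≤ E ⊓ Subgroup.centralizer (E : Set G)) : E ⊔ Subgroup.centralizer (E : Set G) = ⊤ := by
  obtain ⟨⟨hEP, hΦ, hcomm⟩, hZ⟩ := hE
  have hp : p.Prime := Fact.out
  have hZcard : Nat.card (Subgroup.centralizer (E : Set G) ⊓ E : Subgroup G) = p := by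
    rw [← Cfsg.Agent.Helper17.card_subgroupOf, ← center_subtype_eq]; exact hZ
  have hEn : E.Normal := Subgroup.commutator_top_left_le_iff.mp (h.trans inf_le_left)
  have hCn : (Subgroup.centralizer (E : Set G)).Normal := Subgroup.normal_centralizer
  have hZn : (Subgroup.centralizer (E : Set G) ⊓ E : Subgroup G).Normal := inferInstance
  have hZne : (Subgroup.centralizer (E : Set G) ⊓ E : Subgroup G) ≠ ⊥ := by
    intro hbot
    rw [hbot, Subgroup.card_bot] at hZcard
    have := hp.two_le
    omega
  have hZcen : (Subgroup.centralizer (E : Set G) ⊓ E : Subgroup G) ≤ Subgroup.center G := by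
    obtain ⟨z, hzZ, hz1, hzc⟩ := Cfsg.Agent.Helper10.exists_ne_one_mem_inf_center hG _ hZne
    have hle : Subgroup.zpowers z ≤ (Subgroup.centralizer (E : Set G) ⊓ E : Subgroup G) :=
      Subgroup.zpowers_le.mpr hzZ
    have hcard : Nat.card (Subgroup.zpowers z) = p := by
      have hdvd := Subgroup.card_dvd_of_le hle
      rw [hZcard] at hdvd
      rcases (Nat.dvd_prime hp).mp hdvd with h1 | h1
      · exfalso
        rw [Nat.card_zpowers, orderOf_eq_one_iff] at h1
        exact hz1 h1
      · exact h1
    have heq : Subgroup.zpowers z = (Subgroup.centralizer (E : Set G) ⊓ E : Subgroup G) :=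
      Subgroup.eq_of_le_of_card_ge hle (by rw [hcard, hZcard])
    rw [← heq]
    exact Subgroup.zpowers_le.mpr hzc
  have key := Cfsg.Agent.Helper9.relIndex_centralizer_eq
    (Subgroup.centralizer (E : Set G) ⊓ E : Subgroup G) ⊤ E hZcard
    (fun x _ z hz => (Subgroup.mem_center_iff.mp (hZcen hz) x).symm)
    (fun x hx z hz => by
      have hz' : z ∈ Subgroup.centralizer (E : Set G) := hz.1
      exact (hz' x hx).symm)
    (fun a _ b hb => by
      have := h (Subgroup.commutator_mem_commutator (Subgroup.mem_top a) hb)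
      exact ⟨this.2, this.1⟩)
  rw [Subgroup.relIndex_top_right, Subgroup.coe_top, Subgroup.centralizer_univ] at key
  have hinf : (Subgroup.center G ⊓ E : Subgroup G) =
      (Subgroup.centralizer (E : Set G) ⊓ E : Subgroup G) := by
    apply le_antisymm
    · exact inf_le_inf_right _ (Subgroup.center_le_centralizer _)
    · exact le_inf hZcen inf_le_right
  have h1 := Cfsg.Agent.Helper17.relIndex_mul_card_inf (Subgroup.center G) E
  rw [hinf, hZcard, ← key] at h1
  have h2 := Cfsg.Agent.Helper17.card_sup_mul_card_inf_of_normal E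
    (Subgroup.centralizer (E : Set G))
  rw [inf_comm, hZcard] at h2
  have h3 := Subgroup.card_mul_index (Subgroup.centralizer (E : Set G))
  apply Subgroup.eq_top_of_card_eq
  have h4 : Nat.card (E ⊔ Subgroup.centralizer (E : Set G) : Subgroup G) * p = Nat.card G * p := by
    rw [h2, ← h1, ← h3]; ring
  exact Nat.eq_of_mul_eq_mul_right hp.pos h4

end Cfsg.Agent.S0110
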