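import Cfsg.Statements.S0119
import Mathlib
import Cfsg.Agent.S0093
import Cfsg.Agent.Helper9.Class2
import Cfsg.Agent.Helper1.PGroup
import Cfsg.Agent.Helper14.Frattini

set_option autoImplicit false
open Cfsg

namespace Cfsg.Agent.S0119
open scoped Pointwise commutatorElement

/-- Norm argument: with `G = [G, A]`, `A` a `p'`-group of automorphisms of the `p`-group `G`, every
`A`-fixed element lies in the derived subgroup. -/
theorem mem_commutator_of_fixed {G : Type*} [Group G] [Finite G] {p : ℕ} [Fact p.Prime]
    (hG : IsPGroup p G) (A : Subgroup (MulAut G)) (hA : Nat.Coprime (Nat.card A) p)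
    (hGA : Subgroup.closure {x : G | ∃ g : G, ∃ a ∈ A, x = g⁻¹ * a g} = ⊤) (x : G)
    (hx : ∀ a ∈ A, a x = x) : x ∈ commutator G := by
  classical
  have hfinA : Finite A := inferInstance
  have := Fintype.ofFinite A
  let N : G →* Abelianization G :=
    ∏ a : A, (Abelianization.of.comp ((a : MulAut G) : G ≃* G).toMonoidHom)
  have hN : ∀ g : G, N g = ∏ a : A, Abelianization.of ((a : MulAut G) g) := by
    intro g
    simp only [N, MonoidHom.finsetProd_apply]
    rfl
  have hNa : ∀ (a₀ : A) (g : G), N ((a₀ : MulAut G) g) = N g := by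
    intro a₀ g
    rw [hN, hN]
    refine Fintype.prod_equiv (Equiv.mulRight a₀) _ _ (fun a => ?_)
    simp only [Equiv.coe_mulRight]
    rfl
  have hker : N.ker = ⊤ := by
    rw [eq_top_iff, ← hGA, Subgroup.closure_le]
    rintro _ ⟨g, a, ha, rfl⟩
    rw [SetLike.mem_coe, MonoidHom.mem_ker, map_mul, map_inv]
    have := hNa ⟨a, ha⟩ g
    simp only at this
    rw [this, inv_mul_cancel]
  have hNx : N x = 1 := by
    have : x ∈ N.ker := by rw [hker]; exact Subgroup.mem_top x
    exact MonoidHom.mem_ker.mp this
  have hNx' : N x = (Abelianization.of x) ^ Nat.card A := by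
    rw [hN]
    have : ∀ a : A, Abelianization.of ((a : MulAut G) x) = Abelianization.of x := by
      intro a; rw [hx a a.2]
    simp only [this, Finset.prod_const, Finset.card_univ, Nat.card_eq_fintype_card]
  rw [hNx'] at hNx
  obtain ⟨k, hk⟩ := hG x
  have hk' : (Abelianization.of x) ^ p ^ k = 1 := by rw [← map_pow, hk, map_one]
  have h1 : orderOf (Abelianization.of x) ∣ Nat.card A := orderOf_dvd_of_pow_eq_one hNx
  have h2 : orderOf (Abelianization.of x) ∣ p ^ k := orderOf_dvd_of_pow_eq_one hk'
  have h3 : orderOf (Abelianization.of x) ∣ Nat.gcd (Nat.card A) (p ^ k) := Nat.dvd_gcd h1 h2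
  have hcop : Nat.Coprime (Nat.card A) (p ^ k) := Nat.Coprime.pow_right _ hA
  rw [hcop] at h3
  have h4 : Abelianization.of x = 1 := orderOf_eq_one_iff.mp (Nat.dvd_one.mp h3)
  rw [← Abelianization.ker_of]
  exact MonoidHom.mem_ker.mpr h4

/-- If a p'-group A of automorphisms of a p-group G satisfies G = [G, A] and acts trivially on every characteristic abelian subgroup, then G is special with centre equal to the fixed points of A. -/
theorem result {G : Type*} [Group G] [Finite G] {p : ℕ} [Fact p.Prime] (hG : IsPGroup p G) (A : Subgroup (MulAut G)) (hA : Nat.Coprime (Nat.card A) p) (hGA : Subgroup.closure {x : G | ∃ g : G, ∃ a ∈ A, x = g⁻¹ * a g} = ⊤) (hchar : ∀ H : Subgroup G, H.Characteristic → IsMulCommutative H → ∀ a ∈ A, ∀ h ∈ H, a h = h) : Cfsg.IsSpecial p G ∧ (∀ g : G, (g ∈ Subgroup.center G ↔ ∀ a ∈ A, a g = g)) := by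
  classical
  have hp : p.Prime := Fact.out
  -- Step 1: characteristic abelian subgroups are central
  have step1 : ∀ B : Subgroup G, B.Characteristic → IsMulCommutative B → B ≤ Subgroup.center G := by
    intro B hBc hBa b hb
    have hBn : B.Normal := inferInstance
    have hcen : Subgroup.centralizer ({b} : Set G) = ⊤ := by
      rw [eq_top_iff, ← hGA, Subgroup.closure_le]
      rintro _ ⟨g, a, ha, rfl⟩
      rw [SetLike.mem_coe, Subgroup.mem_centralizer_singleton_iff]
      have h1 : g * b * g⁻¹ ∈ B := hBn.conj_mem b hb g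
      have h2 := hchar B hBc hBa a ha _ h1
      have h3 := hchar B hBc hBa a ha b hb
      rw [map_mul, map_mul, map_inv, h3] at h2
      calc g⁻¹ * a g * b = g⁻¹ * (a g * b * (a g)⁻¹) * a g := by group
        _ = g⁻¹ * (g * b * g⁻¹) * a g := by rw [h2]
        _ = b * (g⁻¹ * a g) := by group
    rw [Subgroup.mem_center_iff]
    intro g
    have : g ∈ Subgroup.centralizer ({b} : Set G) := by rw [hcen]; exact Subgroup.mem_top g
    exact Subgroup.mem_centralizer_singleton_iff.mp this
  -- Step 2: class at most two
  have step2 : commutator G ≤ Subgroup.center G := by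
    obtain ⟨H, hHchar, -, hHG, hCH⟩ := Cfsg.Agent.S0093.result hG
    have hZHchar : (H ⊓ Subgroup.centralizer (H : Set G)).Characteristic := inferInstance
    have hZHab : IsMulCommutative (H ⊓ Subgroup.centralizer (H : Set G) : Subgroup G) := by
      refine ⟨⟨fun a b => ?_⟩⟩
      apply Subtype.ext
      have ha : (a : G) ∈ Subgroup.centralizer (H : Set G) := a.2.2
      have hb : (b : G) ∈ H := b.2.1
      exact (ha b hb).symm
    have hZH := step1 _ hZHchar hZHab
    have hcomm_cen : ∀ h ∈ H, ∀ g : G, ⁅g, h⁆ ∈ Subgroup.center G := by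
      intro h hh g
      have h1 : ⁅h, g⁆ ∈ ⁅H, (⊤ : Subgroup G)⁆ :=
        Subgroup.commutator_mem_commutator hh (Subgroup.mem_top g)
      have h2 := hZH (hHG h1)
      have h3 := (Subgroup.center G).inv_mem h2
      rwa [commutatorElement_inv] at h3
    have hcent : ∀ x y : G, ⁅x, y⁆ ∈ Subgroup.centralizer (H : Set G) := by
      intro x y h hh
      let f : G →* Subgroup.center G := MonoidHom.mk' (fun g => ⟨⁅g, h⁆, hcomm_cen h hh g⟩) (by
        intro g g'
        apply Subtype.ext
        show ⁅g * g', h⁆ = ⁅g, h⁆ * ⁅g', h⁆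
        have e1 : ⁅g * g', h⁆ = (g * ⁅g', h⁆ * g⁻¹) * ⁅g, h⁆ := by
          simp only [commutatorElement_def]; group
        have hc := hcomm_cen h hh g'
        have e2 : g * ⁅g', h⁆ * g⁻¹ = ⁅g', h⁆ := by
          rw [Subgroup.mem_center_iff.mp hc g, mul_assoc, mul_inv_cancel, mul_one]
        rw [e1, e2]
        exact (Subgroup.mem_center_iff.mp hc _).symm)
      have h1 : f ⁅x, y⁆ = 1 := by
        rw [map_commutatorElement, commutatorElement_eq_one_iff_commute]
        show f x * f y = f y * f x
        exact Subtype.ext (Subgroup.mem_center_iff.mp (f y).2 (f x))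
      have h2 : ⁅⁅x, y⁆, h⁆ = 1 := congrArg Subtype.val h1
      rw [commutatorElement_eq_one_iff_commute] at h2
      exact h2.eq.symm
    have h1 : commutator G ≤ Subgroup.centralizer (H : Set G) := by
      rw [commutator_def, Subgroup.commutator_le]
      intro x _ y _
      exact hcent x y
    exact (le_inf (h1.trans hCH) h1).trans hZH
  -- Step 3: the centre is the derived subgroup and the fixed points
  have hcenfix : ∀ a ∈ A, ∀ z ∈ Subgroup.center G, a z = z :=
    fun a ha z hz => hchar (Subgroup.center G) inferInstance inferInstance a ha z hz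
  have step3 : Subgroup.center G ≤ commutator G := by
    intro z hz
    exact mem_commutator_of_fixed hG A hA hGA z (fun a ha => hcenfix a ha z hz)
  have hZeq : commutator G = Subgroup.center G := le_antisymm step2 step3
  -- Step 4: the centre has exponent `p`
  have hexp : ∀ z ∈ Subgroup.center G, z ^ p = 1 := by
    have hex : ∃ e : ℕ, ∀ z ∈ Subgroup.center G, z ^ p ^ e = 1 := by
      obtain ⟨k, hk⟩ := IsPGroup.iff_card.mp hG
      exact ⟨k, fun z _ => by rw [← hk]; exact pow_card_eq_one'⟩
    have hmin : ∀ {m : ℕ}, m < Nat.find hex → ¬ ∀ z ∈ Subgroup.center G, z ^ p ^ m = 1 :=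
      fun {m} hm => Nat.find_min hex hm
    have hspec := Nat.find_spec hex
    rcases Nat.lt_or_ge (Nat.find hex) 2 with hlt | hge
    · intro z hz
      have h1 := hspec z hz
      interval_cases hfe : Nat.find hex
      · rw [pow_zero, pow_one] at h1
        rw [h1, one_pow]
      · rwa [pow_one] at h1
    · exfalso
      obtain ⟨e', he'⟩ : ∃ e', Nat.find hex = e' + 2 := ⟨Nat.find hex - 2, by omega⟩
      apply hmin (m := e' + 1) (by omega)
      -- the characteristic abelian subgroup
      have hcommpow : ∀ x y : G, ⁅x ^ p ^ (e' + 1), y ^ p ^ (e' + 1)⁆ = 1 := by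
        intro x y
        rw [Cfsg.Agent.Helper9.commutatorElement_pow_left step2,
          Cfsg.Agent.Helper9.commutatorElement_pow_right step2, ← pow_mul]
        have hz : ⁅x, y⁆ ∈ Subgroup.center G :=
          Cfsg.Agent.Helper9.commutatorElement_mem_center step2 x y
        have h1 := hspec _ hz
        rw [he'] at h1
        have e : p ^ (e' + 1) * p ^ (e' + 1) = p ^ (e' + 2) * p ^ e' := by ring
        rw [e, pow_mul, h1, one_pow]
      have hBab : IsMulCommutative (Subgroup.closure
          (Set.range (fun x : G => x ^ p ^ (e' + 1)) ∪ (Subgroup.center G : Set G))) := by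
        apply Subgroup.isMulCommutative_closure
        rintro a (⟨x, rfl⟩ | ha) b (⟨y, rfl⟩ | hb)
        · have := hcommpow x y
          rw [commutatorElement_eq_one_iff_commute] at this
          exact this.eq
        · exact Subgroup.mem_center_iff.mp hb _
        · exact (Subgroup.mem_center_iff.mp ha _).symm
        · exact Subgroup.mem_center_iff.mp hb _
      have hBchar : (Subgroup.closure
          (Set.range (fun x : G => x ^ p ^ (e' + 1)) ∪ (Subgroup.center G : Set G))).Characteristic := by
        rw [Subgroup.characteristic_iff_map_le]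
        intro φ
        rw [MonoidHom.map_closure]
        apply Subgroup.closure_mono
        rintro _ ⟨g, (⟨x, rfl⟩ | hg), rfl⟩
        · left
          exact ⟨φ x, by simp⟩
        · right
          have hc : (Subgroup.center G).Characteristic := inferInstance
          have := (Subgroup.characteristic_iff_map_le.mp hc) φ
          exact this ⟨g, hg, rfl⟩
      have hB := step1 _ hBchar hBab
      have hpowcen : ∀ x : G, x ^ p ^ (e' + 1) ∈ Subgroup.center G := fun x =>
        hB (Subgroup.subset_closure (Or.inl ⟨x, rfl⟩))
      have hcommexp : ∀ x y : G, ⁅x, y⁆ ^ p ^ (e' + 1) = 1 := by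
        intro x y
        rw [← Cfsg.Agent.Helper9.commutatorElement_pow_left step2,
          commutatorElement_eq_one_iff_commute]
        exact (Subgroup.mem_center_iff.mp (hpowcen x) y).symm
      intro z hz
      rw [← hZeq, commutator_eq_closure] at hz
      induction hz using Subgroup.closure_induction with
      | mem c hc =>
        obtain ⟨x, y, rfl⟩ := hc
        exact hcommexp x y
      | one => exact one_pow _
      | mul a b ha hb iha ihb =>
        have hac : a ∈ Subgroup.center G := by
          rw [← hZeq, commutator_eq_closure]; exact ha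
        have hcomm : Commute a b := (Subgroup.mem_center_iff.mp hac b).symm
        rw [hcomm.mul_pow, iha, ihb, one_mul]
      | inv a ha iha => rw [inv_pow, iha, inv_one]
  have hpowcen : ∀ x : G, x ^ p ∈ Subgroup.center G := by
    intro x
    rw [Subgroup.mem_center_iff]
    intro y
    have h1 : ⁅x ^ p, y⁆ = 1 := by
      rw [Cfsg.Agent.Helper9.commutatorElement_pow_left step2]
      exact hexp _ (Cfsg.Agent.Helper9.commutatorElement_mem_center step2 x y)
    rw [commutatorElement_eq_one_iff_commute] at h1
    exact h1.eq.symm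
  -- Step 5: the Frattini subgroup
  have hfr : frattini G = Subgroup.center G := by
    apply le_antisymm
    · exact Cfsg.Agent.Helper14.frattini_le_of_elemAb p (Subgroup.center G)
        (fun a b => Cfsg.Agent.Helper9.commutatorElement_mem_center step2 a b) hpowcen
    · rw [← hZeq]
      exact Cfsg.Agent.Helper1.IsPGroup.commutator_le_frattini hG
  refine ⟨⟨hG, hfr, hZeq⟩, fun g => ⟨fun hg a ha => hcenfix a ha g hg, fun hg => ?_⟩⟩
  rw [← hZeq]
  exact mem_commutator_of_fixed hG A hA hGA g hg

end Cfsg.Agent.S0119
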