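import Cfsg.Statements.S0123
import Mathlib
import Cfsg.Agent.Helper9.Class2
import Cfsg.Agent.Helper9.Class3

set_option autoImplicit false
open Cfsg

namespace Cfsg.Agent.S0123
open scoped commutatorElement

/-- For a p-group of small class relative to p (class ≤ 2 with p odd, or class ≤ 3 with p > 3) whose derived subgroup is generated by elements of order dividing p, the p-th power map is multiplicative. -/
theorem result {R : Type*} [Group R] [Finite R] {p : ℕ} [Fact p.Prime] (hR : IsPGroup p R) (hcl : (p ≠ 2 ∧ ⁅commutator R, (⊤ : Subgroup R)⁆ = ⊥) ∨ (3 < p ∧ ⁅⁅commutator R, (⊤ : Subgroup R)⁆, (⊤ : Subgroup R)⁆ = ⊥)) (hder : commutator R ≤ Subgroup.closure {x : R | x ^ p = 1}) (x y : R) : (x * y) ^ p = x ^ p * y ^ p := by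
  have hpp : p.Prime := Fact.out
  rcases hcl with ⟨hp2, h2⟩ | ⟨h3, hcl3⟩
  · have hG := Cfsg.Agent.Helper9.commutator_le_center_of_class_two h2
    rw [Cfsg.Agent.S0841.result hG x y p]
    have hc : y⁻¹ * x⁻¹ * y * x ∈ commutator R := by
      have : y⁻¹ * x⁻¹ * y * x = ⁅y⁻¹, x⁻¹⁆ := by simp [commutatorElement_def]
      rw [this, commutator_def]
      exact Subgroup.commutator_mem_commutator (Subgroup.mem_top _) (Subgroup.mem_top _)
    have hcp : (y⁻¹ * x⁻¹ * y * x) ^ p = 1 :=
      Cfsg.Agent.Helper9.pow_prime_eq_one_of_mem_closure_of_class_two hpp hp2 hG _ (hder hc)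
    obtain ⟨k, hk⟩ := hpp.odd_of_ne_two hp2
    have h2' : p * (p - 1) / 2 = p * k := by
      have : p - 1 = 2 * k := by omega
      rw [this, ← mul_assoc, mul_comm p 2, mul_assoc,
        Nat.mul_div_cancel_left _ (by norm_num : 0 < 2)]
    rw [h2', pow_mul, hcp, one_pow, mul_one]
  · have key : ∀ g ∈ commutator R, g ^ p = 1 := fun g hg =>
      Cfsg.Agent.Helper9.pow_prime_eq_one_of_mem_closure_of_class_three hpp h3 hcl3 g (hder hg)
    exact Cfsg.Agent.Helper9.mul_pow_prime_of_class_three hpp h3 hcl3 x y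
      (key _ (Cfsg.Agent.Helper9.cm_mem_commutator _ _))
      (key _ (Cfsg.Agent.Helper9.cm_mem_commutator _ _))
      (key _ (Cfsg.Agent.Helper9.cm_mem_commutator _ _))

end Cfsg.Agent.S0123
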