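import Cfsg.Statements.S0125
import Mathlib
import Cfsg.Agent.Helper9.AbelianSylow
import Cfsg.Agent.Helper17.Basic

set_option autoImplicit false
open Cfsg

namespace Cfsg.Agent.S0125
open scoped Pointwise

/-- The centralizer of a self-centralizing normal subgroup A of a Sylow p-subgroup is the direct product of A with a normal p'-subgroup. -/
theorem result {G : Type*} [Group G] [Finite G] {p : ℕ} [Fact p.Prime] (R : Sylow p G) (A : Subgroup G) (hAR : A ≤ (R : Subgroup G)) (hAn : (R : Subgroup G) ≤ Subgroup.normalizer (A : Set G)) (hC : (R : Subgroup G) ⊓ Subgroup.centralizer (A : Set G) = A) : ∃ H : Subgroup G, H ≤ Subgroup.centralizer (A : Set G) ∧ Nat.Coprime (Nat.card H) p ∧ Subgroup.centralizer (A : Set G) ≤ Subgroup.normalizer (H : Set G) ∧ H ⊓ A = ⊥ ∧ H ⊔ A = Subgroup.centralizer (A : Set G) := by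
  classical
  set C := Subgroup.centralizer (A : Set G) with hCdef
  have hp : p.Prime := Fact.out
  -- A is abelian and contained in C
  have hAC : A ≤ C := by
    rw [← hC]; exact inf_le_right
  have hAcentral : ∀ a ∈ A, ∀ c ∈ C, c * a = a * c := by
    intro a ha c hc
    exact ((Subgroup.mem_centralizer_iff.mp hc) a ha).symm
  -- R normalizes C
  have hRC : (R : Subgroup G) ≤ Subgroup.normalizer (C : Set G) := by
    intro n hn
    have hnA : n ∈ Subgroup.normalizer (A : Set G) := hAn hn
    rw [Subgroup.mem_normalizer_iff]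
    intro c
    have key : ∀ m : G, m ∈ Subgroup.normalizer (A : Set G) → ∀ d ∈ C, m * d * m⁻¹ ∈ C := by
      intro m hm d hd
      rw [hCdef, Subgroup.mem_centralizer_iff]
      intro a ha
      have h1 : m⁻¹ * a * m ∈ A := by
        have := (Subgroup.mem_normalizer_iff.mp (inv_mem hm) a).mp ha
        rwa [inv_inv] at this
      have h2 := (Subgroup.mem_centralizer_iff.mp hd) _ h1
      calc a * (m * d * m⁻¹) = m * ((m⁻¹ * a * m) * d) * m⁻¹ := by group
        _ = m * (d * (m⁻¹ * a * m)) * m⁻¹ := by rw [h2]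
        _ = m * d * m⁻¹ * a := by group
    constructor
    · intro hc
      exact key n hnA c hc
    · intro hc
      have := key n⁻¹ (inv_mem hnA) _ hc
      have e : n⁻¹ * (n * c * n⁻¹) * n⁻¹⁻¹ = c := by group
      rwa [e] at this
  -- p does not divide the relative index of A in C
  have hidx : ¬ p ∣ A.relIndex C := by
    have h1 := Cfsg.Agent.Helper17.card_sup_mul_card_inf C (R : Subgroup G) hRC
    have h2 : C ⊓ (R : Subgroup G) = A := by rw [inf_comm]; exact hC
    rw [h2] at h1
    have h3 := Cfsg.Agent.Helper17.relIndex_mul_card_inf A C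
    rw [inf_eq_left.mpr hAC] at h3
    have h4 : Nat.card (C ⊔ (R : Subgroup G) : Subgroup G) = A.relIndex C * Nat.card (R : Subgroup G) := by
      have hApos : 0 < Nat.card A := Nat.card_pos
      apply Nat.eq_of_mul_eq_mul_right hApos
      rw [h1, ← h3]; ring
    have h5 : Nat.card (C ⊔ (R : Subgroup G) : Subgroup G) ∣ Nat.card G := Subgroup.card_subgroup_dvd_card _
    have h6 : Nat.card (R : Subgroup G) * (R : Subgroup G).index = Nat.card G :=
      Subgroup.card_mul_index _
    rw [h4, ← h6, mul_comm] at h5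
    have h7 : A.relIndex C ∣ (R : Subgroup G).index :=
      Nat.dvd_of_mul_dvd_mul_left Nat.card_pos h5
    intro h8
    exact R.not_dvd_index (h8.trans h7)
  have hcopA : Nat.Coprime (Nat.card A) (A.relIndex C) := by
    obtain ⟨k, hk⟩ := IsPGroup.iff_card.mp (R.2.to_le hAR)
    rw [hk]
    exact Nat.Coprime.pow_left k (hp.coprime_iff_not_dvd.mpr hidx)
  have hCNA : C ≤ Subgroup.normalizer (A : Set G) := Subgroup.centralizer_le_normalizer (A : Set G)
  obtain ⟨K, hKC, hKcard, hKA, hAK⟩ :=
    Cfsg.Agent.Helper9.exists_relative_complement A C hAC hCNA hcopA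
  refine ⟨K, hKC, ?_, ?_, hKA, ?_⟩
  · rw [hKcard]
    exact (hp.coprime_iff_not_dvd.mpr hidx).symm
  · intro c hc
    rw [← hAK, ← SetLike.mem_coe,
      Subgroup.coe_mul_of_right_le_normalizer_left A K (hKC.trans hCNA), Set.mem_mul] at hc
    obtain ⟨a, ha, k, hk, rfl⟩ := hc
    have key : ∀ h ∈ K, a * k * h * (a * k)⁻¹ = k * h * k⁻¹ := by
      intro h hh
      have hkh : k * h * k⁻¹ ∈ C := hKC (mul_mem (mul_mem hk hh) (inv_mem hk))
      have := hAcentral a ha _ hkh
      calc a * k * h * (a * k)⁻¹ = a * (k * h * k⁻¹) * a⁻¹ := by group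
        _ = (k * h * k⁻¹) * a * a⁻¹ := by rw [← this]
        _ = k * h * k⁻¹ := by group
    rw [Subgroup.mem_normalizer_iff]
    intro h
    constructor
    · intro hh
      rw [key h hh]
      exact mul_mem (mul_mem hk hh) (inv_mem hk)
    · intro hh
      -- h = (ak)⁻¹ (ak h (ak)⁻¹) (ak), and conjugation by (ak)⁻¹ = k⁻¹ a⁻¹ also preserves K
      have hconj : a * k * h * (a * k)⁻¹ ∈ K := hh
      have hkC : k ∈ C := hKC hk
      have e : h = k⁻¹ * (a⁻¹ * (a * k * h * (a * k)⁻¹) * a) * k := by group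
      have h2 : a⁻¹ * (a * k * h * (a * k)⁻¹) * a = a * k * h * (a * k)⁻¹ := by
        have := hAcentral a ha _ (hKC hconj)
        calc a⁻¹ * (a * k * h * (a * k)⁻¹) * a = a⁻¹ * ((a * k * h * (a * k)⁻¹) * a) := by group
          _ = a⁻¹ * (a * (a * k * h * (a * k)⁻¹)) := by rw [this]
          _ = a * k * h * (a * k)⁻¹ := by group
      rw [e, h2]
      exact mul_mem (mul_mem (inv_mem hk) hconj) hk
  · rw [sup_comm]; exact hAK

end Cfsg.Agent.S0125
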