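import Cfsg.Statements.S0131
import Mathlib
import Cfsg.Agent.Helper9.FocalCoprime

set_option autoImplicit false
open Cfsg

namespace Cfsg.Agent.S0131

/-- P/P' has a normal complement in G exactly when the focal subgroup G' ∩ P is as small as possible, namely P'. -/
theorem result {G : Type*} [Group G] [Finite G] {p : ℕ} [Fact p.Prime] (P : Sylow p G) : (∃ N : Subgroup G, N.Normal ∧ N ⊓ (P : Subgroup G) = ⁅(P : Subgroup G), (P : Subgroup G)⁆ ∧ N ⊔ (P : Subgroup G) = ⊤) ↔ commutator G ⊓ (P : Subgroup G) = ⁅(P : Subgroup G), (P : Subgroup G)⁆ := by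
  classical
  have hle : ⁅(P : Subgroup G), (P : Subgroup G)⁆ ≤ commutator G ⊓ (P : Subgroup G) := by
    apply le_inf
    · rw [commutator_def]; exact Subgroup.commutator_mono le_top le_top
    · rw [Subgroup.commutator_le]
      intro a ha b hb
      rw [commutatorElement_def]
      exact mul_mem (mul_mem (mul_mem ha hb) (inv_mem ha)) (inv_mem hb)
  constructor
  · rintro ⟨N, hN, hNP, hsup⟩
    apply le_antisymm _ hle
    rw [← hNP]
    apply inf_le_inf_right
    apply Cfsg.Agent.Helper9.commutator_le_of_sup_eq_top (P : Subgroup G) N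
    · rw [← hNP]; exact inf_le_left
    · rw [sup_comm]; exact hsup
  · intro h
    obtain ⟨h2, h3⟩ := Cfsg.Agent.Helper9.sylow_transferFocal_ker P
    refine ⟨(Subgroup.transferFocal (P : Subgroup G)).ker, inferInstance, ?_, h3⟩
    rw [h2, ← Subgroup.commutator_inf_eq_focalSubgroup P, h]

end Cfsg.Agent.S0131
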