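import Cfsg.Statements.S0166
import Cfsg.Agent.Helper5.SplitC

set_option autoImplicit false
open Cfsg

namespace Cfsg.Agent.S0166

/-- Brauer's splitting field Theorem: a complex representation of a finite group of exponent m is equivalent to a representation by matrices with entries in ℚ adjoined exp(2πi/m). -/
theorem result {G : Type*} [Group G] [Finite G] (n : ℕ) (ρ : Representation ℂ G (Fin n → ℂ)) : ∃ σ : Representation ℂ G (Fin n → ℂ), Nonempty (ρ.Equiv σ) ∧ ∀ g : G, ∀ i j : Fin n, LinearMap.toMatrix' (σ g) i j ∈ Algebra.adjoin ℚ ({Complex.exp (2 * Real.pi * Complex.I / (Monoid.exponent G : ℂ))} : Set ℂ) := by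
  classical
  haveI : Fintype G := Fintype.ofFinite G
  set ζ : ℂ := Complex.exp (2 * Real.pi * Complex.I / (Monoid.exponent G : ℂ)) with hζ
  have hm : Monoid.exponent G ≠ 0 := Monoid.exponent_ne_zero_of_finite
  have hprim : IsPrimitiveRoot ζ (Monoid.exponent G) := Complex.isPrimitiveRoot_exp _ hm
  have halg : IsAlgebraic ℚ ζ := by
    apply IsIntegral.isAlgebraic
    exact hprim.isIntegral (Nat.pos_of_ne_zero hm) |>.tower_top (R := ℤ)
  let K : IntermediateField ℚ ℂ := IntermediateField.adjoin ℚ {ζ}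
  have hKsub : K.toSubalgebra = Algebra.adjoin ℚ {ζ} :=
    IntermediateField.adjoin_simple_toSubalgebra_of_isAlgebraic halg
  have hζK : ζ ∈ K := IntermediateField.mem_adjoin_simple_self ℚ ζ
  have hK : ∀ (E : Subgroup G) (lam : E →* ℂˣ) (e : E), ((lam e : ℂˣ) : ℂ) ∈ K := by
    intro E lam e
    have h1 : (((lam e : ℂˣ) : ℂ)) ^ (Monoid.exponent G) = 1 := by
      have h2 : e ^ (Monoid.exponent G) = 1 := by
        apply Subtype.ext
        rw [Subgroup.coe_pow, Subgroup.coe_one]
        exact Monoid.pow_exponent_eq_one _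
      rw [← Units.val_pow_eq_pow_val, ← map_pow, h2, map_one, Units.val_one]
    haveI : NeZero (Monoid.exponent G) := ⟨hm⟩
    obtain ⟨i, _, hi⟩ := hprim.eq_pow_of_pow_eq_one h1
    rw [← hi]
    exact pow_mem hζK i
  obtain ⟨m, σ, hσ⟩ := Cfsg.Agent.Helper5.Split.isKChar_of_isCharacter K hK ρ
  have hchar : (Cfsg.Agent.Helper5.Split.bc K σ).character = ρ.character := by
    funext g
    rw [Cfsg.Agent.Helper5.Split.bc_character, hσ]
  have hmn : m = n := by
    have h1 := congrFun hchar 1
    rw [Representation.char_one, Representation.char_one] at h1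
    simp only [Module.finrank_fintype_fun_eq_card, Fintype.card_fin] at h1
    exact_mod_cast h1
  subst hmn
  refine ⟨Cfsg.Agent.Helper5.Split.bc K σ,
    Cfsg.Agent.Helper24.equiv_of_character_eq ρ _ hchar.symm, ?_⟩
  intro g i j
  rw [Cfsg.Agent.Helper5.Split.bc_toMatrix', ← hKsub]
  exact (LinearMap.toMatrix' (σ g) i j).2

end Cfsg.Agent.S0166
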