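import Mathlib
import Cfsg.Statements.S0196

set_option autoImplicit false
open Pointwise
open Cfsg

namespace Cfsg.Agent.S0196

/-- If every stabilizer of an action of a finite group on a finite type has the same index `k`,
then `k` divides the cardinality of the type. -/
theorem dvd_card_of_forall_index_stabilizer {N X : Type*} [Group N] [MulAction N X] [Finite X]
    (k : ℕ) (h : ∀ x : X, (MulAction.stabilizer N x).index = k) : k ∣ Nat.card X := by
  classical
  have e := MulAction.selfEquivSigmaOrbitsQuotientStabilizer N X
  haveI : Fintype (Quotient (MulAction.orbitRel N X)) := Fintype.ofFinite _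
  haveI : ∀ ω : Quotient (MulAction.orbitRel N X), Finite (N ⧸ MulAction.stabilizer N ω.out) := by
    intro ω
    apply Nat.finite_of_card_ne_zero
    rw [← Subgroup.index_eq_card]
    intro h0
    have : Finite (MulAction.orbit N ω.out) := inferInstance
    have h1 := MulAction.index_stabilizer N ω.out
    rw [h0] at h1
    have : (MulAction.orbit N ω.out).ncard ≠ 0 :=
      Set.ncard_ne_zero_of_mem (MulAction.mem_orbit_self _)
    exact this h1.symm
  rw [Nat.card_congr e, Nat.card_sigma]
  simp only [← Subgroup.index_eq_card, h]
  simp

/-- Let A be a subgroup of a finite group G that equals the centralizer of each of its non-identity elements, and let N be its normalizer. Then the index of A in N divides |A| − 1 (N/A permutes the non-identity elements of A in orbits of full length). -/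
theorem result {G : Type*} [Group G] [Finite G] (A : Subgroup G) (hA : ∀ x ∈ A, x ≠ 1 → Subgroup.centralizer ({x} : Set G) = A) : (A.subgroupOf (Subgroup.normalizer (A : Set G))).index ∣ Nat.card A - 1 := by
  classical
  set N := Subgroup.normalizer (A : Set G) with hN
  let X := {x : G // x ∈ A ∧ x ≠ 1}
  let act : MulAction N X :=
    { smul := fun n x => ⟨(n : G) * x.1 * (n : G)⁻¹,
        (Subgroup.mem_normalizer_iff.mp n.2 x.1).mp x.2.1, by
          intro h
          apply x.2.2
          have := congrArg (fun z => (n : G)⁻¹ * z * (n : G)) h
          simpa [mul_assoc] using this⟩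
      one_smul := by
        intro x
        apply Subtype.ext
        show ((1 : N) : G) * x.1 * ((1 : N) : G)⁻¹ = x.1
        simp
      mul_smul := by
        intro a b x
        apply Subtype.ext
        show ((a * b : N) : G) * x.1 * ((a * b : N) : G)⁻¹ = (a : G) * ((b : G) * x.1 * (b : G)⁻¹) * (a : G)⁻¹
        simp [mul_assoc] }
  have hstab : ∀ x : X, MulAction.stabilizer N x = A.subgroupOf N := by
    intro x
    ext n
    rw [MulAction.mem_stabilizer_iff, Subgroup.mem_subgroupOf, ← hA x.1 x.2.1 x.2.2,
      Subgroup.mem_centralizer_singleton_iff]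
    constructor
    · intro h
      have h1 : (n : G) * x.1 * (n : G)⁻¹ = x.1 := congrArg Subtype.val h
      calc (n : G) * x.1 = (n : G) * x.1 * (n : G)⁻¹ * n := by group
        _ = x.1 * n := by rw [h1]
    · intro h
      apply Subtype.ext
      show (n : G) * x.1 * (n : G)⁻¹ = x.1
      rw [h]; group
  have hdvd := dvd_card_of_forall_index_stabilizer (N := N) (X := X)
    (A.subgroupOf N).index (fun x => by rw [hstab x])
  have hcard : Nat.card X = Nat.card A - 1 := by
    have e : X ≃ {a : A // a ≠ 1} :=
      { toFun := fun x => ⟨⟨x.1, x.2.1⟩, fun h => x.2.2 (congrArg Subtype.val h)⟩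
        invFun := fun a => ⟨a.1.1, a.1.2, fun h => a.2 (Subtype.ext h)⟩
        left_inv := fun x => rfl
        right_inv := fun a => rfl }
    rw [Nat.card_congr e]
    haveI : Fintype A := Fintype.ofFinite _
    rw [Nat.card_eq_fintype_card, Nat.card_eq_fintype_card, Fintype.card_subtype_compl, Fintype.card_subtype_eq]
  rw [← hcard]
  exact hdvd

end Cfsg.Agent.S0196
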