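import Cfsg.Statements.S0200
import Cfsg.Agent.Helper16.BaerSuzuki
import Cfsg.Agent.Helper2.Invol

set_option autoImplicit false
open Cfsg

namespace Cfsg.Agent.S0200

/-- An involution lying in no normal 2-subgroup of a finite group inverts a nontrivial element of odd order (a consequence of the Baer–Suzuki Theorem). -/
theorem result {G : Type*} [Group G] [Finite G] (t : G) (ht : orderOf t = 2) (hO : ∀ N : Subgroup G, N.Normal → IsPGroup 2 N → t ∉ N) : ∃ h : G, h ≠ 1 ∧ Odd (orderOf h) ∧ t * h * t⁻¹ = h⁻¹ := by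
  haveI : Fact (Nat.Prime 2) := ⟨Nat.prime_two⟩
  have hnot : t ∉ (⨅ P : Sylow 2 G, (P : Subgroup G) : Subgroup G) :=
    hO _ (Cfsg.Agent.Helper16.iInf_sylow_normal 2) (Cfsg.Agent.Helper16.iInf_sylow_isPGroup 2)
  have hex : ∃ g : G, ¬ IsPGroup 2 (Subgroup.closure ({t, g * t * g⁻¹} : Set G)) := by
    by_contra hcon
    push_neg at hcon
    exact hnot (Cfsg.Agent.Helper16.baer_suzuki_elt 2 t hcon)
  obtain ⟨g, hg⟩ := hex
  have htt : t * t = 1 := Cfsg.Agent.Helper2.mul_self_of_orderOf_two ht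
  set s := g * t * g⁻¹ with hs
  have hss : s * s = 1 := by
    rw [hs]
    have : g * t * g⁻¹ * (g * t * g⁻¹) = g * (t * t) * g⁻¹ := by simp [mul_assoc]
    rw [this, htt]; simp
  set u := t * s with hu
  have hupos : 0 < orderOf u := orderOf_pos u
  obtain ⟨k, m, hm, hkm⟩ := Nat.exists_eq_two_pow_mul_odd (Nat.pos_iff_ne_zero.mp hupos)
  have hinv : t * u * t⁻¹ = u⁻¹ := Cfsg.Agent.Helper2.invol_conj_mul htt hss
  refine ⟨u ^ (2 ^ k), ?_, ?_, ?_⟩
  · intro h1
    apply hg
    -- order of u divides 2^k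
    have hdvd : orderOf u ∣ 2 ^ k := orderOf_dvd_of_pow_eq_one h1
    intro d
    obtain ⟨j, hj | hj⟩ := Cfsg.Agent.Helper2.invol_closure_form htt hss d.2
    · refine ⟨k, ?_⟩
      apply Subtype.ext
      rw [Subgroup.coe_pow, hj, Subgroup.coe_one, ← zpow_natCast, ← zpow_mul, mul_comm, zpow_mul,
        zpow_natCast, h1, one_zpow]
    · refine ⟨1, ?_⟩
      apply Subtype.ext
      rw [Subgroup.coe_pow, hj, Subgroup.coe_one, pow_one, pow_two]
      have h2 : t * u ^ j * t⁻¹ = (u ^ j)⁻¹ := by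
        have := Cfsg.Agent.Helper2.invol_conj_zpow htt hss j
        simpa using this
      have htinv : t⁻¹ = t := inv_eq_of_mul_eq_one_right htt
      rw [htinv] at h2
      calc u ^ j * t * (u ^ j * t) = u ^ j * (t * u ^ j * t) := by simp [mul_assoc]
        _ = 1 := by rw [h2]; simp
  · have hord : orderOf (u ^ (2 ^ k)) = m := by
      rw [orderOf_pow' u (by positivity), hkm, Nat.gcd_eq_right (Dvd.intro _ rfl)]
      exact Nat.mul_div_cancel_left m (by positivity)
    rw [hord]; exact hm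
  · rw [← inv_pow, ← hinv]
    simp [conj_pow]

end Cfsg.Agent.S0200
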