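import Cfsg.Statements.S0206
import Cfsg.Agent.Helper2.Invol
import Cfsg.Agent.Helper3.DihedralLift

set_option autoImplicit false
open Cfsg

namespace Cfsg.Agent.S0206

open Cfsg.Agent.Helper2 Cfsg.Agent.Helper3 DihedralGroup

/-- Two distinct involutions x, y of a finite group generate a subgroup isomorphic to the dihedral group of order 2·|xy|. -/
theorem result {G : Type*} [Group G] [Finite G] (x y : G) (hx : orderOf x = 2) (hy : orderOf y = 2) (hxy : x ≠ y) : Nonempty (↥(Subgroup.closure ({x, y} : Set G)) ≃* DihedralGroup (orderOf (x * y))) := by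
  have hx2 := mul_self_of_orderOf_two hx
  have hy2 := mul_self_of_orderOf_two hy
  have hx1 := ne_one_of_orderOf_two hx
  have hy1 := ne_one_of_orderOf_two hy
  set z := x * y with hz
  set n := orderOf z with hn
  have hzn : z ^ n = 1 := pow_orderOf_eq_one z
  have hinv : x * z * x⁻¹ = z⁻¹ := invol_conj_mul hx2 hy2
  -- x is not a power of z
  have hxz : ∀ k : ℤ, x * z ^ k ≠ 1 := by
    intro k h
    have hxk : x = z ^ (-k) := by
      rw [zpow_neg]; exact eq_inv_of_mul_eq_one_left h
    have hcomm : x * z * x⁻¹ = z := by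
      rw [hxk]
      have : Commute (z ^ (-k)) z := (Commute.refl z).zpow_left _
      rw [this.eq, mul_inv_cancel_right]
    have hzz : z = z⁻¹ := hcomm.symm.trans hinv
    have hz2 : z * z = 1 := by nth_rewrite 2 [hzz]; exact mul_inv_cancel z
    -- z^(-k) is 1 or z
    have : z ^ (-k) = 1 ∨ z ^ (-k) = z := by
      rcases Int.even_or_odd (-k) with ⟨m, hm⟩ | ⟨m, hm⟩
      · left; rw [hm, zpow_add, ← (Commute.refl z).mul_zpow, hz2, one_zpow]
      · right; rw [hm, zpow_add, two_mul, zpow_add, ← (Commute.refl z).mul_zpow, hz2, one_zpow, one_mul, zpow_one]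
    rcases this with h1 | h1
    · exact hx1 (hxk.trans h1)
    · have : x = x * y := hxk.trans h1
      have : y = 1 := by simpa using this.symm
      exact hy1 this
  let φ : DihedralGroup n →* G := dihedralLift n z x hzn hx2 hinv
  have hφinj : Function.Injective φ := by
    rw [injective_iff_map_eq_one]
    intro a ha
    cases a with
    | r i =>
      obtain ⟨k, rfl⟩ := ZMod.intCast_surjective i
      have h1 : z ^ k = 1 := by rw [← dihedralLift_r n z x hzn hx2 hinv k]; exact ha
      have h2 : (n : ℤ) ∣ k := orderOf_dvd_iff_zpow_eq_one.mpr h1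
      have : (k : ZMod n) = 0 := (ZMod.intCast_zmod_eq_zero_iff_dvd k n).mpr h2
      rw [this]; rfl
    | sr i =>
      obtain ⟨k, rfl⟩ := ZMod.intCast_surjective i
      have h1 : x * z ^ k = 1 := by rw [← dihedralLift_sr n z x hzn hx2 hinv k]; exact ha
      exact absurd h1 (hxz k)
  have hrange : φ.range = Subgroup.closure ({x, y} : Set G) := by
    apply le_antisymm
    · rintro _ ⟨a, rfl⟩
      cases a with
      | r i =>
        obtain ⟨k, rfl⟩ := ZMod.intCast_surjective i
        show dihedralLift n z x hzn hx2 hinv (r (k : ZMod n)) ∈ _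
        rw [dihedralLift_r]
        exact invol_zpow_mem_closure k
      | sr i =>
        obtain ⟨k, rfl⟩ := ZMod.intCast_surjective i
        show dihedralLift n z x hzn hx2 hinv (sr (k : ZMod n)) ∈ _
        rw [dihedralLift_sr]
        exact Subgroup.mul_mem _ (Subgroup.subset_closure (by simp)) (invol_zpow_mem_closure k)
    · rw [Subgroup.closure_le]
      rintro g (rfl | rfl)
      · refine ⟨sr ((0 : ℤ) : ZMod n), ?_⟩
        show dihedralLift n z g hzn hx2 hinv (sr ((0 : ℤ) : ZMod n)) = g
        rw [dihedralLift_sr]; simp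
      · refine ⟨sr ((1 : ℤ) : ZMod n), ?_⟩
        show dihedralLift n z x hzn hx2 hinv (sr ((1 : ℤ) : ZMod n)) = g
        rw [dihedralLift_sr, zpow_one, hz, ← mul_assoc, hx2, one_mul]
  exact ⟨((MonoidHom.ofInjective hφinj).trans (MulEquiv.subgroupCongr hrange)).symm⟩

end Cfsg.Agent.S0206
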