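import Cfsg.Statements.S0210
import Cfsg.Agent.Helper2.Invol

set_option autoImplicit false
open Cfsg

namespace Cfsg.Agent.S0210

open Cfsg.Agent.Helper2

/-- If x, y are involutions whose product has even order, no element of the subgroup generated by x and y conjugates x to y. -/
theorem result {G : Type*} [Group G] [Finite G] (x y : G) (hx : orderOf x = 2) (hy : orderOf y = 2) (heven : Even (orderOf (x * y))) (d : G) (hd : d ∈ Subgroup.closure ({x, y} : Set G)) : d * x * d⁻¹ ≠ y := by
  have hx2 := mul_self_of_orderOf_two hx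
  have hy2 := mul_self_of_orderOf_two hy
  intro h
  obtain ⟨j, hj⟩ := invol_closure_conj hx2 hy2 hd
  rw [h] at hj
  have h2 : (x * y) ^ (-1 : ℤ) * x = (x * y) ^ (2 * j) * x := by
    rw [← invol_y_eq hy2]; exact hj
  have h3 : (x * y) ^ (2 * j + 1) = 1 := by
    have := mul_right_cancel h2
    rw [zpow_add, ← this, ← zpow_add]; simp
  have h4 := (orderOf_dvd_iff_zpow_eq_one).mpr h3
  obtain ⟨m, hm⟩ := heven
  rw [hm] at h4
  have : (2 : ℤ) ∣ 2 * j + 1 := by
    refine dvd_trans ?_ h4
    exact ⟨m, by push_cast; ring⟩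
  omega

end Cfsg.Agent.S0210
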