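import Cfsg.Statements.S0212
import Cfsg.Agent.Helper16.BrauerFowler

set_option autoImplicit false
open Cfsg

namespace Cfsg.Agent.S0212

/-- The Brauer–Fowler bound: if G is a finite simple group and t an involution of G whose centralizer has order n, then |G| ≤ (2n^2)!. -/
theorem result {G : Type*} [Group G] [Finite G] [IsSimpleGroup G] (t : G) (ht : orderOf t = 2) : Nat.card G ≤ Nat.factorial (2 * (Nat.card (Subgroup.centralizer ({t} : Set G))) ^ 2) := by
  have hcpos : 0 < Nat.card (Subgroup.centralizer ({t} : Set G)) := Nat.card_pos
  by_cases hC : Subgroup.centralizer ({t} : Set G) = ⊤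
  · rw [hC, Subgroup.card_top]
    have h1 : Nat.card G ≤ 2 * Nat.card G ^ 2 := by
      have : 0 < Nat.card G := Nat.card_pos
      nlinarith
    exact h1.trans (Nat.self_le_factorial _)
  · have hZ : Odd (Nat.card (Subgroup.center G)) := by
      rcases (inferInstance : (Subgroup.center G).Normal).eq_bot_or_eq_top with h | h
      · rw [h, Subgroup.card_bot]; exact odd_one
      · exfalso
        apply hC
        have := Subgroup.center_le_centralizer ({t} : Set G)
        rw [h] at this
        exact top_le_iff.mp this
    obtain ⟨H, hH, h⟩ := Cfsg.Agent.Helper16.bf_exists_index hZ t ht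
    have h1 := Cfsg.Agent.Helper16.card_le_factorial_index H hH
    apply h1.trans
    apply Nat.factorial_le
    rcases h with h | h
    · rw [h]; nlinarith
    · nlinarith

end Cfsg.Agent.S0212
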