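import Cfsg.Statements.S0213
import Cfsg.Agent.Helper16.ThompsonOrder

set_option autoImplicit false
open Cfsg

namespace Cfsg.Agent.S0213

/-- Thompson Order Formula, two-class case: if every involution of the finite group G is conjugate to exactly one of the non-conjugate involutions x₁, x₂, and nᵢ is the number of pairs (u, v) with u conjugate to x₁, v conjugate to x₂ and xᵢ in the cyclic group generated by uv, then |G| = |C(x₂)| n₁ + |C(x₁)| n₂. -/
theorem result {G : Type*} [Group G] [Finite G] (x₁ x₂ : G) (h₁ : orderOf x₁ = 2) (h₂ : orderOf x₂ = 2) (hnc : ¬ IsConj x₁ x₂) (hall : ∀ t : G, orderOf t = 2 → IsConj x₁ t ∨ IsConj x₂ t) : Nat.card G = Nat.card (Subgroup.centralizer ({x₂} : Set G)) * Nat.card {p : G × G // IsConj x₁ p.1 ∧ IsConj x₂ p.2 ∧ x₁ ∈ Subgroup.zpowers (p.1 * p.2)} + Nat.card (Subgroup.centralizer ({x₁} : Set G)) * Nat.card {p : G × G // IsConj x₁ p.1 ∧ IsConj x₂ p.2 ∧ x₂ ∈ Subgroup.zpowers (p.1 * p.2)} := by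
  classical
  have := Fintype.ofFinite G
  have hcount := Cfsg.Agent.Helper16.thompson_count x₁ x₂ h₁ h₂ hnc hall
  have hK : ∀ x : G, (Finset.univ.filter (fun y : G => IsConj x y)).card =
      (Subgroup.centralizer ({x} : Set G)).index := by
    intro x
    rw [← Cfsg.Agent.Helper20.ncard_setOf_isConj, ← Set.ncard_coe_finset]
    congr 1
    ext y
    simp
  have hN : ∀ w : G, Nat.card {p : G × G // IsConj x₁ p.1 ∧ IsConj x₂ p.2 ∧
      w ∈ Subgroup.zpowers (p.1 * p.2)} =
      (Finset.univ.filter (fun p : G × G => IsConj x₁ p.1 ∧ IsConj x₂ p.2 ∧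
        w ∈ Subgroup.zpowers (p.1 * p.2))).card := by
    intro w
    rw [Nat.card_eq_fintype_card, Fintype.card_subtype]
  rw [hK, hK] at hcount
  rw [hN, hN]
  have e1 := (Subgroup.centralizer ({x₁} : Set G)).card_mul_index
  have e2 := (Subgroup.centralizer ({x₂} : Set G)).card_mul_index
  set g := Nat.card G
  set c₁ := Nat.card (Subgroup.centralizer ({x₁} : Set G))
  set c₂ := Nat.card (Subgroup.centralizer ({x₂} : Set G))
  set k₁ := (Subgroup.centralizer ({x₁} : Set G)).index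
  set k₂ := (Subgroup.centralizer ({x₂} : Set G)).index
  set n₁ := (Finset.univ.filter (fun p : G × G => IsConj x₁ p.1 ∧ IsConj x₂ p.2 ∧
        x₁ ∈ Subgroup.zpowers (p.1 * p.2))).card
  set n₂ := (Finset.univ.filter (fun p : G × G => IsConj x₁ p.1 ∧ IsConj x₂ p.2 ∧
        x₂ ∈ Subgroup.zpowers (p.1 * p.2))).card
  have hg : 0 < g := Nat.card_pos
  have key : g * g = g * (c₂ * n₁ + c₁ * n₂) := by
    calc g * g = (c₁ * k₁) * (c₂ * k₂) := by rw [e1, e2]
      _ = c₁ * c₂ * (k₁ * k₂) := by ring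
      _ = c₁ * c₂ * (k₁ * n₁ + k₂ * n₂) := by rw [hcount]
      _ = (c₁ * k₁) * (c₂ * n₁) + (c₂ * k₂) * (c₁ * n₂) := by ring
      _ = g * (c₂ * n₁ + c₁ * n₂) := by rw [e1, e2]; ring
  exact Nat.eq_of_mul_eq_mul_left hg key

end Cfsg.Agent.S0213
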