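import Cfsg.Statements.S0214
import Cfsg.Agent.Helper16.StronglyEmbeddedSylow
import Cfsg.Agent.Helper11.Basic

set_option autoImplicit false
open Cfsg

namespace Cfsg.Agent.S0214

/-- Let H be a proper subgroup of the finite group G and P a nontrivial Sylow 2-subgroup of H. Then H is strongly embedded in G if and only if N_G(X) ≤ H for every nontrivial subgroup X of P. -/
theorem result {G : Type*} [Group G] [Finite G] (H : Subgroup G) (hH : H ≠ ⊤) (P : Sylow 2 ↥H) (hP : (P : Subgroup ↥H) ≠ ⊥) : Cfsg.IsStronglyEmbedded H ↔ (∀ X : Subgroup ↥H, X ≤ (P : Subgroup ↥H) → X ≠ ⊥ → Subgroup.normalizer ((X.map H.subtype : Subgroup G) : Set G) ≤ H) := by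
  have : Fact (Nat.Prime 2) := ⟨Nat.prime_two⟩
  have hdvd : ∀ X : Subgroup ↥H, X ≤ (P : Subgroup ↥H) → X ≠ ⊥ → 2 ∣ Nat.card X := by
    intro X hX hXne
    have hX2 : IsPGroup 2 X := P.2.to_le hX
    obtain ⟨n, hn⟩ := IsPGroup.iff_card.mp hX2
    rcases n with _ | n
    · exfalso
      apply hXne
      rw [pow_zero] at hn
      exact Subgroup.card_eq_one.mp hn
    · rw [hn, pow_succ]; exact Dvd.intro_left _ rfl
  rw [Cfsg.Agent.Helper16.stronglyEmbedded_iff]
  constructor
  · rintro ⟨_, _, h3⟩ X hX hXne g hg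
    by_contra hgH
    obtain ⟨t, ht⟩ := exists_prime_orderOf_dvd_card' 2 (hdvd X hX hXne)
    have hto : orderOf ((t : ↥H) : G) = 2 := by
      rw [Subgroup.orderOf_coe, Subgroup.orderOf_coe]; exact ht
    have htX : ((t : ↥H) : G) ∈ X.map H.subtype := ⟨(t : ↥H), t.2, rfl⟩
    have hgH' : g⁻¹ ∉ H := fun h => hgH (by simpa using H.inv_mem h)
    apply h3 g⁻¹ hgH' _ (t : ↥H).2 hto
    rw [inv_inv]
    have h5 := (Subgroup.mem_normalizer_iff.mp hg _).mp htX
    obtain ⟨y, _, hy⟩ := h5
    rw [← hy]; exact y.2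
  · intro hN
    have hPdvd := hdvd (P : Subgroup ↥H) le_rfl hP
    refine ⟨hH, ?_, ?_⟩
    · rw [even_iff_two_dvd]
      exact hPdvd.trans (Subgroup.card_subgroup_dvd_card _)
    · apply Cfsg.Agent.Helper16.no_fusion_of_normalizers H ((P : Subgroup ↥H).map H.subtype)
        (P.2.map _)
      · intro R hRH hR2
        have hR2' : IsPGroup 2 (R.subgroupOf H) :=
          hR2.comap_of_injective H.subtype H.subtype_injective
        obtain ⟨x, hx⟩ := Cfsg.Agent.Helper11.exists_conj_le_sylow 2 P (R.subgroupOf H) hR2'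
        refine ⟨((x⁻¹ : ↥H) : G), (x⁻¹).2, ?_⟩
        intro r hr
        have h1 := hx ⟨r, hRH hr⟩ (Subgroup.mem_subgroupOf.mpr hr)
        refine ⟨_, h1, ?_⟩
        simp
      · intro D hDQ hDne
        have hDH : D ≤ H := by
          intro d hd
          obtain ⟨y, _, hy⟩ := hDQ hd
          rw [← hy]; exact y.2
        have hmap : (D.subgroupOf H).map H.subtype = D := Subgroup.map_subgroupOf_eq_of_le hDH
        have h1 : D.subgroupOf H ≤ (P : Subgroup ↥H) := by
          intro x hx
          obtain ⟨y, hy, hyx⟩ := hDQ (Subgroup.mem_subgroupOf.mp hx)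
          have : y = x := Subtype.ext hyx
          rw [← this]; exact hy
        have h2 : D.subgroupOf H ≠ ⊥ := by
          intro h
          apply hDne
          rw [← hmap, h, Subgroup.map_bot]
        have := hN (D.subgroupOf H) h1 h2
        rw [hmap] at this
        exact this

end Cfsg.Agent.S0214
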