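import Cfsg.Statements.S0216
import Cfsg.Agent.Helper2.Isolated

set_option autoImplicit false
open Cfsg

namespace Cfsg.Agent.S0216

open Cfsg.Agent.Helper2

/-- For an involution u in a Sylow 2-subgroup P of a finite group G, the following are equivalent: no G-conjugate of u other than u lies in P; every commutator of u with an element of G has odd order. -/
theorem result {G : Type*} [Group G] [Finite G] (P : Sylow 2 G) (u : G) (hu : orderOf u = 2) (huP : u ∈ P) : (∀ g : G, g * u * g⁻¹ ∈ P → g * u * g⁻¹ = u) ↔ (∀ g : G, Odd (orderOf (u * g * u⁻¹ * g⁻¹))) := by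
  have huinv := inv_eq_self_of_orderOf_two hu
  constructor
  · intro hiso g
    have := isolated_mul_conj_odd P u hu hiso (g * u * g⁻¹) ⟨g, rfl⟩
    have e : u * g * u⁻¹ * g⁻¹ = u * (g * u * g⁻¹) := by rw [huinv]; group
    rw [e]; exact this
  · intro hodd g hg
    have hmem : u * g * u⁻¹ * g⁻¹ ∈ P := by
      have h1 : u * g * u⁻¹ * g⁻¹ = u * (g * u * g⁻¹)⁻¹ := by group
      rw [h1]
      exact mul_mem huP (inv_mem hg)
    have h2 := hodd g
    obtain ⟨k, hk⟩ := (P.2 ⟨_, hmem⟩)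
    have hk' : (u * g * u⁻¹ * g⁻¹) ^ 2 ^ k = 1 := congrArg Subtype.val hk
    have hd := orderOf_dvd_of_pow_eq_one hk'
    have hcop : Nat.Coprime (2 ^ k) (orderOf (u * g * u⁻¹ * g⁻¹)) :=
      Nat.Coprime.pow_left k (Nat.coprime_two_left.mpr h2)
    have h1 : orderOf (u * g * u⁻¹ * g⁻¹) = 1 :=
      Nat.eq_one_of_dvd_coprimes hcop hd (dvd_refl _)
    have h3 := orderOf_eq_one_iff.mp h1
    have h4 : u * (g * u * g⁻¹)⁻¹ = 1 := by rw [← h3]; group
    exact (mul_inv_eq_one.mp h4).symm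

end Cfsg.Agent.S0216
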