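import Cfsg.Statements.S0218
import Cfsg.Agent.Helper2.Invol

set_option autoImplicit false
open Cfsg

namespace Cfsg.Agent.S0218

open Cfsg.Agent.Helper2

theorem zmod_key (N : ℕ) (hNpos : 0 < N) (i : ZMod (2 * N)) :
    (i + i = 0 ∧ i ≠ 0) ↔ i = (N : ZMod (2 * N)) := by
  have : NeZero N := ⟨hNpos.ne'⟩
  have : NeZero (2 * N) := ⟨by omega⟩
  constructor
  · rintro ⟨h1, h2⟩
    have hi : ((i.val + i.val : ℕ) : ZMod (2 * N)) = 0 := by
      push_cast; rw [ZMod.natCast_zmod_val]; exact h1
    rw [ZMod.natCast_eq_zero_iff] at hi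
    have hlt : i.val < 2 * N := ZMod.val_lt i
    have hne : i.val ≠ 0 := by
      intro h; apply h2; exact (ZMod.val_eq_zero i).mp h
    have hdvd : N ∣ i.val := by
      have : 2 * N ∣ 2 * i.val := by rwa [two_mul i.val]
      exact Nat.dvd_of_mul_dvd_mul_left (by norm_num) this
    obtain ⟨c, hc⟩ := hdvd
    have hc1 : c = 1 := by
      rcases c with _ | _ | c
      · simp at hc; exact absurd hc h2
      · rfl
      · exfalso
        have : N * (c + 1 + 1) ≥ 2 * N := by nlinarith
        omega
    rw [hc1, mul_one] at hc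
    have := ZMod.natCast_zmod_val i
    rw [hc] at this
    exact this.symm
  · rintro rfl
    constructor
    · have : ((N + N : ℕ) : ZMod (2 * N)) = 0 := by
        rw [ZMod.natCast_eq_zero_iff]; exact ⟨1, by ring⟩
      push_cast at this; exact this
    · intro h
      rw [ZMod.natCast_eq_zero_iff] at h
      have := Nat.le_of_dvd hNpos h
      omega

theorem card_invol_quaternion (N : ℕ) (hNpos : 0 < N) :
    Nat.card {x : QuaternionGroup N // orderOf x = 2} = 1 := by
  have : NeZero N := ⟨hNpos.ne'⟩
  rw [Nat.card_eq_one_iff_exists]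
  have hmem : orderOf (QuaternionGroup.a (N : ZMod (2 * N)) : QuaternionGroup N) = 2 := by
    refine orderOf_two_iff.mpr ⟨?_, ?_⟩
    · rw [QuaternionGroup.a_mul_a, QuaternionGroup.one_def, ((zmod_key N hNpos _).mpr rfl).1]
    · rw [QuaternionGroup.one_def]
      intro h
      injection h with h
      exact ((zmod_key N hNpos _).mpr rfl).2 h
  refine ⟨⟨_, hmem⟩, ?_⟩
  rintro ⟨x, hx⟩
  apply Subtype.ext
  show x = QuaternionGroup.a (N : ZMod (2 * N))
  cases x with
  | a i =>
    obtain ⟨h1, h2⟩ := orderOf_two_iff.mp hx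
    rw [QuaternionGroup.a_mul_a, QuaternionGroup.one_def] at h1
    injection h1 with h1
    have h3 : i ≠ 0 := by
      rintro rfl; exact h2 QuaternionGroup.a_zero
    rw [(zmod_key N hNpos i).mp ⟨h1, h3⟩]
  | xa i =>
    rw [QuaternionGroup.orderOf_xa] at hx
    omega

/-- The generalized quaternion group of order 2^(n+3) contains exactly one element of order 2. -/
theorem result (n : ℕ) : Nat.card {x : QuaternionGroup (2 ^ (n + 1)) // orderOf x = 2} = 1 := by
  exact card_invol_quaternion _ (by positivity)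

end Cfsg.Agent.S0218
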