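import Cfsg.Statements.S0220
import Cfsg.Agent.S0219
import Cfsg.Agent.Helper11.SylowInter

set_option autoImplicit false
open Cfsg

namespace Cfsg.Agent.S0220

open Cfsg.Agent.Helper11

/-- a finite cyclic group has at most one involution -/
theorem cyclic_unique_involution {T : Type*} [Group T] [Finite T] [IsCyclic T] {a b : T}
    (ha : orderOf a = 2) (hb : orderOf b = 2) : a = b := by
  classical
  letI : Fintype T := Fintype.ofFinite T
  have hd : 2 ∣ Fintype.card T := by
    rw [← ha, ← Nat.card_eq_fintype_card]; exact orderOf_dvd_natCard a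
  have h := IsCyclic.card_orderOf_eq_totient (α := T) hd
  rw [Nat.totient_two] at h
  have hle := Finset.card_le_one.mp h.le
  exact hle a (by simp [ha]) b (by simp [hb])

theorem aux {G : Type*} [Group G] [Finite G] (x : G) (hx : orderOf x = 2) (C : Subgroup G)
    (hC : C = Subgroup.centralizer ({x} : Set G)) (S : Sylow 2 ↥C)
    (hS : IsCyclic (S : Subgroup ↥C)) : ∃ H : Subgroup G, H.index = 2 := by
  have : Fact (Nat.Prime 2) := ⟨Nat.prime_two⟩
  have hmemC : ∀ g : G, g ∈ C ↔ g * x = x * g := by
    intro g; rw [hC, Subgroup.mem_centralizer_singleton_iff]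
  have hxC : x ∈ C := (hmemC x).mpr rfl
  set xc : C := ⟨x, hxC⟩ with hxc
  have hxco : orderOf xc = 2 := by rw [← hx]; exact Subgroup.orderOf_mk x hxC
  -- x lies in S
  have hxS : xc ∈ (S : Subgroup C) := by
    have hn : (Subgroup.zpowers xc).Normal := by
      constructor
      intro n hn g
      obtain ⟨k, rfl⟩ := Subgroup.mem_zpowers_iff.mp hn
      have hcomm : g * xc = xc * g := by
        apply Subtype.ext
        exact ((hmemC g.1).mp g.2)
      have : g * xc ^ k * g⁻¹ = xc ^ k := by
        have hc : Commute g xc := hcomm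
        rw [(hc.zpow_right k).eq, mul_inv_cancel_right]
      rw [this]; exact Subgroup.zpow_mem_zpowers _ _
    have hp : IsPGroup 2 (Subgroup.zpowers xc) := by
      apply IsPGroup.of_card (n := 1)
      rw [Nat.card_zpowers, hxco, pow_one]
    exact normal_pgroup_le_sylow S (Subgroup.zpowers xc) hp (Subgroup.mem_zpowers xc)
  -- image of S in G
  set SG : Subgroup G := (S : Subgroup C).map C.subtype with hSG
  have hSGp : IsPGroup 2 SG := S.2.map C.subtype
  have hxSG : x ∈ SG := ⟨xc, hxS, rfl⟩
  have hSGC : SG ≤ C := by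
    rintro _ ⟨s, -, rfl⟩; exact s.2
  obtain ⟨T, hT⟩ := hSGp.exists_le_sylow
  have hSGcyc : IsCyclic SG := by
    have e : (S : Subgroup C) ≃* SG := Subgroup.equivMapOfInjective _ _ (Subgroup.subtype_injective C)
    haveI : IsCyclic (S : Subgroup C) := hS
    exact isCyclic_of_surjective e e.surjective
  -- SG = T
  have hST : SG = (T : Subgroup G) := by
    by_contra hne
    have hlt : SG < (T : Subgroup G) := lt_of_le_of_ne hT hne
    have hgrow := lt_inf_normalizer (T : Subgroup G) SG T.2 hlt
    obtain ⟨n, hn1, hn2⟩ := SetLike.exists_of_lt hgrow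
    obtain ⟨hnT, hnN⟩ := Subgroup.mem_inf.mp hn1
    -- n x n⁻¹ ∈ SG of order 2
    have hconj : n * x * n⁻¹ ∈ SG := (Subgroup.mem_normalizer_iff.mp hnN x).mp hxSG
    have ho : orderOf (n * x * n⁻¹) = 2 := by
      have hsc : SemiconjBy n x (n * x * n⁻¹) := by
        show n * x = n * x * n⁻¹ * n
        simp
      rw [← hsc.orderOf_eq]; exact hx
    have heq : (⟨n * x * n⁻¹, hconj⟩ : SG) = ⟨x, hxSG⟩ := by
      apply cyclic_unique_involution
      · rw [← ho]; exact Subgroup.orderOf_mk _ hconj
      · rw [← hx]; exact Subgroup.orderOf_mk _ hxSG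
    have heq' : n * x * n⁻¹ = x := congrArg Subtype.val heq
    have hnC : n ∈ C := by
      rw [hmemC]
      have := mul_inv_eq_iff_eq_mul.mp heq'
      exact this
    -- the 2-group (T ⊓ C) in C contains S properly
    set K : Subgroup C := ((T : Subgroup G) ⊓ C).subgroupOf C with hK
    have hKp : IsPGroup 2 K := by
      have h1 : IsPGroup 2 ((T : Subgroup G) ⊓ C : Subgroup G) := T.2.to_le inf_le_left
      exact h1.comap_subtype
    have hSK : (S : Subgroup C) ≤ K := by
      intro s hs
      rw [hK, Subgroup.mem_subgroupOf]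
      exact ⟨hT ⟨s, hs, rfl⟩, s.2⟩
    have hKS : K = (S : Subgroup C) := S.3 hKp hSK
    have hnK : (⟨n, hnC⟩ : C) ∈ K := by
      rw [hK, Subgroup.mem_subgroupOf]; exact ⟨hnT, hnC⟩
    rw [hKS] at hnK
    exact hn2 ⟨⟨n, hnC⟩, hnK, rfl⟩
  have hTcyc : IsCyclic (T : Subgroup G) := hST ▸ hSGcyc
  have heven : Even (Nat.card G) := by
    rw [even_iff_two_dvd, ← hx]; exact orderOf_dvd_natCard x
  exact Cfsg.Agent.S0219.result heven T hTcyc

/-- If x is an involution of a finite group G and a Sylow 2-subgroup of the centralizer of x is cyclic, then G has a subgroup of index 2; in particular G is not simple unless it has order 2. -/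
theorem result {G : Type*} [Group G] [Finite G] (x : G) (hx : orderOf x = 2) (S : Sylow 2 ↥(Subgroup.centralizer ({x} : Set G))) (hS : IsCyclic (S : Subgroup ↥(Subgroup.centralizer ({x} : Set G)))) : ∃ H : Subgroup G, H.index = 2 :=
  aux x hx _ rfl S hS

end Cfsg.Agent.S0220
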