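import Cfsg.Statements.S0223
import Cfsg.Agent.Helper16.StronglyEmbedded

set_option autoImplicit false
open Cfsg

namespace Cfsg.Agent.S0223

/-- Let H be a proper subgroup of even order of the finite group G. Then H is strongly embedded if and only if (i) C_G(t) ≤ H for every involution t of H and (ii) H controls fusion of its involutions: involutions of H conjugate in G are conjugate in H. -/
theorem result {G : Type*} [Group G] [Finite G] (H : Subgroup G) (hH : H ≠ ⊤) (heven : Even (Nat.card H)) : Cfsg.IsStronglyEmbedded H ↔ ((∀ t ∈ H, orderOf t = 2 → Subgroup.centralizer ({t} : Set G) ≤ H) ∧ (∀ t ∈ H, ∀ s ∈ H, orderOf t = 2 → orderOf s = 2 → IsConj t s → ∃ h ∈ H, h * t * h⁻¹ = s)) := by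
  rw [Cfsg.Agent.Helper16.stronglyEmbedded_iff]
  constructor
  · rintro ⟨_, _, h3⟩
    constructor
    · intro t ht hto g hg
      by_contra hgH
      have hgH' : g⁻¹ ∉ H := fun h => hgH (by simpa using H.inv_mem h)
      apply h3 g⁻¹ hgH' t ht hto
      rw [Subgroup.mem_centralizer_singleton_iff] at hg
      have : g⁻¹⁻¹ * t * g⁻¹ = t := by
        rw [inv_inv, hg]; group
      rw [this]; exact ht
    · intro t ht s hs hto hso hconj
      obtain ⟨c, hc⟩ := isConj_iff.mp hconj
      by_cases hcH : c ∈ H
      · exact ⟨c, hcH, hc⟩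
      · exfalso
        have hcH' : c⁻¹ ∉ H := fun h => hcH (by simpa using H.inv_mem h)
        apply h3 c⁻¹ hcH' t ht hto
        rw [inv_inv, hc]; exact hs
  · rintro ⟨hi, hii⟩
    refine ⟨hH, heven, ?_⟩
    intro g hg t ht hto hcon
    have hso : orderOf (g⁻¹ * t * g) = 2 := by
      have hs : SemiconjBy g⁻¹ t (g⁻¹ * t * g) := by
        show g⁻¹ * t = g⁻¹ * t * g * g⁻¹
        group
      rw [← hs.orderOf_eq, hto]
    have hconj : IsConj t (g⁻¹ * t * g) := isConj_iff.mpr ⟨g⁻¹, by rw [inv_inv]⟩
    obtain ⟨h, hhH, hh⟩ := hii t ht _ hcon hto hso hconj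
    -- g * h centralizes t
    have hgh : g * h ∈ Subgroup.centralizer ({t} : Set G) := by
      rw [Subgroup.mem_centralizer_singleton_iff]
      have : g * h * t * (g * h)⁻¹ = t := by
        calc g * h * t * (g * h)⁻¹ = g * (h * t * h⁻¹) * g⁻¹ := by group
          _ = t := by rw [hh]; group
      calc g * h * t = g * h * t * (g * h)⁻¹ * (g * h) := by group
        _ = t * (g * h) := by rw [this]
    have := hi t ht hto hgh
    apply hg
    have h2 := H.mul_mem this (H.inv_mem hhH)
    simpa using h2

end Cfsg.Agent.S0223
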