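import Cfsg.Statements.S0224
import Cfsg.Agent.Helper16.StronglyEmbedded

set_option autoImplicit false
open Cfsg

namespace Cfsg.Agent.S0224

/-- Let H be a proper subgroup of even order of the finite group G. Then H is strongly embedded if and only if each involution of H fixes exactly one point (namely the coset H) in the action of G on the cosets of H. -/
theorem result {G : Type*} [Group G] [Finite G] (H : Subgroup G) (hH : H ≠ ⊤) (heven : Even (Nat.card H)) : Cfsg.IsStronglyEmbedded H ↔ ∀ t ∈ H, orderOf t = 2 → Nat.card {c : G ⧸ H // t • c = c} = 1 := by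
  rw [Cfsg.Agent.Helper16.stronglyEmbedded_iff]
  have hfix : ∀ t g : G, t • (g : G ⧸ H) = (g : G ⧸ H) ↔ g⁻¹ * t * g ∈ H := by
    intro t g
    rw [MulAction.Quotient.smul_mk, QuotientGroup.eq]
    constructor
    · intro h
      have := H.inv_mem h
      simpa [mul_assoc] using this
    · intro h
      have := H.inv_mem h
      simpa [mul_assoc] using this
  constructor
  · rintro ⟨_, _, h3⟩ t ht hto
    rw [Nat.card_eq_one_iff_unique]
    constructor
    · constructor
      rintro ⟨a, ha⟩ ⟨b, hb⟩
      apply Subtype.ext
      show a = b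
      obtain ⟨a, rfl⟩ := QuotientGroup.mk_surjective a
      obtain ⟨b, rfl⟩ := QuotientGroup.mk_surjective b
      have haH : a ∈ H := by
        by_contra h
        exact h3 a h t ht hto ((hfix t a).mp ha)
      have hbH : b ∈ H := by
        by_contra h
        exact h3 b h t ht hto ((hfix t b).mp hb)
      rw [QuotientGroup.eq]
      exact H.mul_mem (H.inv_mem haH) hbH
    · refine ⟨⟨((1 : G) : G ⧸ H), ?_⟩⟩
      rw [hfix]
      simpa using ht
  · intro h
    refine ⟨hH, heven, ?_⟩
    intro g hg t ht hto hcon
    have h1 := h t ht hto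
    rw [Nat.card_eq_one_iff_unique] at h1
    obtain ⟨hsub, _⟩ := h1
    have e := hsub.elim ⟨(g : G ⧸ H), (hfix t g).mpr hcon⟩
      ⟨((1 : G) : G ⧸ H), (hfix t 1).mpr (by simpa using ht)⟩
    have e' : (g : G ⧸ H) = ((1 : G) : G ⧸ H) := congrArg Subtype.val e
    rw [QuotientGroup.eq] at e'
    apply hg
    have := H.inv_mem e'
    simpa using this

end Cfsg.Agent.S0224
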