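import Cfsg.Statements.S0226
import Cfsg.Agent.Helper2.Invol

set_option autoImplicit false
open Cfsg

namespace Cfsg.Agent.S0226

open Cfsg.Agent.Helper2

/-- A finite group of even order has an odd number of involutions. -/
theorem result {G : Type*} [Group G] [Finite G] (heven : Even (Nat.card G)) : Odd (Nat.card {t : G // orderOf t = 2}) := by
  classical
  have := Fintype.ofFinite G
  have : Fact (Nat.Prime 2) := ⟨Nat.prime_two⟩
  have hσ : (Equiv.inv G) ^ 2 ^ 1 = 1 := by
    ext g; simp [pow_two]
  have h1 := Equiv.Perm.card_compl_support_modEq hσ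
  -- the complement of the support is {g | g⁻¹ = g}
  have h2 : (Equiv.Perm.support (Equiv.inv G))ᶜ.card = Nat.card {t : G // orderOf t = 2} + 1 := by
    rw [← Finite.card_option, ← Nat.card_eq_finsetCard]
    apply Nat.card_congr
    let one' : {x // x ∈ (Equiv.Perm.support (Equiv.inv G))ᶜ} := ⟨1, by simp⟩
    refine (Equiv.optionSubtypeNe one').symm.trans (Equiv.optionCongr ?_)
    refine ⟨fun t => ⟨t.1.1, ?_⟩, fun t => ⟨⟨t.1, ?_⟩, ?_⟩, ?_, ?_⟩
    · have h := t.1.2
      simp only [Finset.mem_compl, Equiv.Perm.mem_support, Equiv.inv_apply, ne_eq, not_not] at h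
      refine orderOf_two_iff.mpr ⟨?_, ?_⟩
      · have h' : (t.1.1)⁻¹ * t.1.1 = 1 := inv_mul_cancel _
        rwa [h] at h'
      · intro h1
        apply t.2
        apply Subtype.ext
        exact h1
    · simp only [Finset.mem_compl, Equiv.Perm.mem_support, Equiv.inv_apply, ne_eq, not_not]
      exact inv_eq_self_of_orderOf_two t.2
    · intro h
      have := congrArg Subtype.val h
      exact ne_one_of_orderOf_two t.2 this
    · intro t; rfl
    · intro t; rfl
  rw [h2, ← Nat.card_eq_fintype_card] at h1
  obtain ⟨m, hm⟩ := heven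
  rw [hm] at h1
  have : (Nat.card {t : G // orderOf t = 2} + 1) % 2 = (m + m) % 2 := h1
  rw [Nat.odd_iff]
  omega

end Cfsg.Agent.S0226
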