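import Cfsg.Statements.S0230
import Cfsg.Agent.Helper2.Invol
import Cfsg.Agent.Helper20.Basic
import Cfsg.Agent.S0208

set_option autoImplicit false
open Cfsg

namespace Cfsg.Agent.S0230

theorem card_centralizer_eq_filter {G : Type*} [Group G] [Fintype G] (a : G)
    [DecidablePred fun y : G => Commute y a] :
    Nat.card (Subgroup.centralizer ({a} : Set G)) =
      (Finset.univ.filter (fun y : G => Commute y a)).card := by
  classical
  rw [Nat.card_eq_fintype_card]
  apply Fintype.card_of_subtype
  intro y
  simp only [Finset.mem_filter, Finset.mem_univ, true_and]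
  rw [Subgroup.mem_centralizer_singleton_iff]
  exact ⟨fun h => h, fun h => h⟩

/-- Let G be a finite group with two non-conjugate involutions, and let t be an involution whose centralizer has maximal order among centralizers of involutions. Then |G| < |C_G(t)|^3. -/
theorem result {G : Type*} [Group G] [Finite G] (s t : G) (hs : orderOf s = 2) (ht : orderOf t = 2) (hnc : ¬ IsConj s t) (hmax : ∀ u : G, orderOf u = 2 → Nat.card (Subgroup.centralizer ({u} : Set G)) ≤ Nat.card (Subgroup.centralizer ({t} : Set G))) : Nat.card G < Nat.card (Subgroup.centralizer ({t} : Set G)) ^ 3 := by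
  classical
  have := Fintype.ofFinite G
  set c := Nat.card (Subgroup.centralizer ({t} : Set G)) with hc
  let K : Finset G := Finset.univ.filter (fun y => IsConj t y)
  let f : G → G := fun y => (s * y) ^ (orderOf (s * y) / 2)
  have hss : s * s = 1 := Cfsg.Agent.Helper2.mul_self_of_orderOf_two hs
  have hKo : ∀ y ∈ K, orderOf y = 2 := by
    intro y hy
    obtain ⟨d, hd⟩ := isConj_iff.mp (Finset.mem_filter.mp hy).2
    have hsc : SemiconjBy d t y := by
      show d * t = y * d
      rw [← hd]; group
    rw [← hsc.orderOf_eq, ht]
  have hkey : ∀ y ∈ K, orderOf (f y) = 2 ∧ Commute (f y) s ∧ Commute (f y) y := by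
    intro y hy
    have hyc : IsConj t y := (Finset.mem_filter.mp hy).2
    have hyo := hKo y hy
    have hyy : y * y = 1 := Cfsg.Agent.Helper2.mul_self_of_orderOf_two hyo
    have hpos : 0 < orderOf (s * y) := orderOf_pos _
    have heven : Even (orderOf (s * y)) := by
      by_contra hodd
      rw [Nat.not_even_iff_odd] at hodd
      obtain ⟨d, _, hd⟩ := Cfsg.Agent.S0208.result s y hs hyo hodd
      have : IsConj s y := isConj_iff.mpr ⟨d, hd⟩
      exact hnc (this.trans hyc.symm)
    exact Cfsg.Agent.Helper2.invol_half_pow hss hyy hpos heven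
  -- the image lies in the involutions of C(s)
  have himg : K.image f ⊆ (Finset.univ.filter (fun y : G => Commute y s)).erase 1 := by
    intro z hz
    obtain ⟨y, hy, rfl⟩ := Finset.mem_image.mp hz
    obtain ⟨h1, h2, _⟩ := hkey y hy
    rw [Finset.mem_erase]
    refine ⟨Cfsg.Agent.Helper2.ne_one_of_orderOf_two h1, ?_⟩
    simp only [Finset.mem_filter, Finset.mem_univ, true_and]
    exact h2
  have hcs : Nat.card (Subgroup.centralizer ({s} : Set G)) ≤ c := hmax s hs
  have himgcard : (K.image f).card + 1 ≤ c := by
    have h1 := Finset.card_le_card himg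
    have h2 : ((Finset.univ.filter (fun y : G => Commute y s)).erase 1).card + 1 =
        (Finset.univ.filter (fun y : G => Commute y s)).card := by
      apply Finset.card_erase_add_one
      simp only [Finset.mem_filter, Finset.mem_univ, true_and]
      exact Commute.one_left s
    rw [← card_centralizer_eq_filter] at h2
    omega
  -- the fibres
  have hfib : ∀ z ∈ K.image f, (K.filter (fun y => f y = z)).card ≤ c - 1 := by
    intro z hz
    obtain ⟨y₀, hy₀, rfl⟩ := Finset.mem_image.mp hz
    obtain ⟨h1, _, _⟩ := hkey y₀ hy₀
    have hsub : K.filter (fun y => f y = f y₀) ⊆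
        (Finset.univ.filter (fun y : G => Commute y (f y₀))).erase 1 := by
      intro y hy
      obtain ⟨hyK, hyf⟩ := Finset.mem_filter.mp hy
      obtain ⟨_, _, h3⟩ := hkey y hyK
      rw [Finset.mem_erase]
      refine ⟨Cfsg.Agent.Helper2.ne_one_of_orderOf_two (hKo y hyK), ?_⟩
      simp only [Finset.mem_filter, Finset.mem_univ, true_and]
      rw [← hyf]; exact h3.symm
    have h2 : ((Finset.univ.filter (fun y : G => Commute y (f y₀))).erase 1).card + 1 =
        (Finset.univ.filter (fun y : G => Commute y (f y₀))).card := by
      apply Finset.card_erase_add_one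
      simp only [Finset.mem_filter, Finset.mem_univ, true_and]
      exact Commute.one_left _
    rw [← card_centralizer_eq_filter] at h2
    have h3 := hmax (f y₀) h1
    have h4 := Finset.card_le_card hsub
    omega
  have hK := Finset.card_le_mul_card_image K (c - 1) hfib
  -- |K| = index of C(t)
  have hKidx : K.card = (Subgroup.centralizer ({t} : Set G)).index := by
    rw [← Cfsg.Agent.Helper20.ncard_setOf_isConj, ← Set.ncard_coe_finset]
    congr 1
    ext y
    simp [K]
  have hidx := (Subgroup.centralizer ({t} : Set G)).card_mul_index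
  rw [← hKidx, ← hc] at hidx
  have hcpos : 0 < c := Nat.card_pos
  have h5 : K.card ≤ (c - 1) * (c - 1) := by
    calc K.card ≤ (c - 1) * (K.image f).card := hK
      _ ≤ (c - 1) * (c - 1) := Nat.mul_le_mul_left _ (by omega)
  rw [← hidx]
  obtain ⟨c', hc'⟩ : ∃ c', c = c' + 1 := ⟨c - 1, by omega⟩
  rw [hc'] at h5 ⊢
  simp only [Nat.add_sub_cancel] at h5
  nlinarith

end Cfsg.Agent.S0230
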