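import Cfsg.Statements.S0232
import Cfsg.Agent.Helper16.BrauerFowler
import Cfsg.Agent.S0219

set_option autoImplicit false
open Cfsg

namespace Cfsg.Agent.S0232

universe u

/-- a subgroup of index 2 is large enough -/
theorem of_index_two {G : Type*} [Group G] [Finite G] (hgt : 2 < Nat.card G) (H : Subgroup G)
    (hH : H.index = 2) : H ≠ ⊤ ∧ Nat.card G < (Nat.card H) ^ 3 := by
  constructor
  · intro h; rw [h, Subgroup.index_top] at hH; omega
  · have h1 := H.card_mul_index
    rw [hH] at h1
    have h2 : 2 ≤ Nat.card H := by omega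
    rw [← h1]
    nlinarith [Nat.pow_le_pow_left h2 2]

theorem aux : ∀ n : ℕ, ∀ (G : Type u) [Group G] [Finite G], Nat.card G = n → Even n → 2 < n →
    ∃ H : Subgroup G, H ≠ ⊤ ∧ Nat.card G < (Nat.card H) ^ 3 := by
  intro n
  induction n using Nat.strong_induction_on with
  | _ n ih =>
  intro G _ _ hn heven hgt
  have : Fact (Nat.Prime 2) := ⟨Nat.prime_two⟩
  by_cases hZ : Odd (Nat.card (Subgroup.center G))
  · -- no central involution
    obtain ⟨t, ht⟩ := exists_prime_orderOf_dvd_card' 2 (even_iff_two_dvd.mp (hn ▸ heven))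
    have hCne : Subgroup.centralizer ({t} : Set G) ≠ ⊤ := by
      intro h
      have hxc : t ∈ Subgroup.center G := by
        rw [Subgroup.mem_center_iff]; intro g
        have : g ∈ Subgroup.centralizer ({t} : Set G) := h ▸ Subgroup.mem_top g
        exact Subgroup.mem_centralizer_singleton_iff.mp this
      have h2 : orderOf (⟨t, hxc⟩ : Subgroup.center G) = 2 := by
        rw [← ht]; exact Subgroup.orderOf_mk t hxc
      have hd : 2 ∣ Nat.card (Subgroup.center G) := h2 ▸ orderOf_dvd_natCard _
      exact (Nat.not_even_iff_odd.mpr hZ) (even_iff_two_dvd.mpr hd)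
    by_cases hc : Nat.card G < Nat.card (Subgroup.centralizer ({t} : Set G)) ^ 3
    · exact ⟨_, hCne, hc⟩
    · push Not at hc
      obtain ⟨H, hH, h⟩ := Cfsg.Agent.Helper16.bf_exists_index hZ t ht
      rcases h with h | h
      · exact ⟨H, of_index_two (hn ▸ hgt) H h⟩
      · refine ⟨H, hH, ?_⟩
        set c := Nat.card (Subgroup.centralizer ({t} : Set G))
        set g := Nat.card G
        have hcpos : 0 < c := Nat.card_pos
        have hgpos : 0 < g := Nat.card_pos
        have hidx : H.index < c ^ 2 := by nlinarith
        have h1 : H.index ^ 3 < g ^ 2 := by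
          calc H.index ^ 3 < (c ^ 2) ^ 3 := Nat.pow_lt_pow_left hidx (by norm_num)
            _ = (c ^ 3) ^ 2 := by ring
            _ ≤ g ^ 2 := Nat.pow_le_pow_left hc 2
        by_contra hle
        push Not at hle
        have h2 := H.card_mul_index
        have h3 : g ^ 3 = Nat.card H ^ 3 * H.index ^ 3 := by
          rw [← mul_pow, h2]
        have h4 : g ^ 3 < g ^ 3 := by
          calc g ^ 3 = Nat.card H ^ 3 * H.index ^ 3 := h3
            _ ≤ g * H.index ^ 3 := Nat.mul_le_mul_right _ hle
            _ < g * g ^ 2 := Nat.mul_lt_mul_of_pos_left h1 hgpos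
            _ = g ^ 3 := by ring
        exact lt_irrefl _ h4
  · -- a central involution
    rw [Nat.not_odd_iff_even] at hZ
    obtain ⟨z, hz⟩ := exists_prime_orderOf_dvd_card' 2 (even_iff_two_dvd.mp hZ)
    have hzc : (z : G) ∈ Subgroup.center G := z.2
    have hzo : orderOf (z : G) = 2 := by rw [Subgroup.orderOf_coe]; exact hz
    set Z : Subgroup G := Subgroup.zpowers (z : G) with hZdef
    have hZn : Z.Normal := by
      constructor
      intro w hw g
      have hwc : w ∈ Subgroup.center G :=
        (Subgroup.zpowers_le.mpr hzc) hw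
      have : g * w * g⁻¹ = w := by
        rw [Subgroup.mem_center_iff] at hwc
        rw [hwc g]; group
      rw [this]; exact hw
    have hZcard : Nat.card Z = 2 := by rw [hZdef, Nat.card_zpowers, hzo]
    have hquot : Nat.card G = Nat.card (G ⧸ Z) * 2 := by
      rw [← hZcard]; exact Subgroup.card_eq_card_quotient_mul_card_subgroup Z
    by_cases hodd : Odd (Nat.card (G ⧸ Z))
    · -- Sylow 2-subgroups have order 2, cyclic
      obtain ⟨T⟩ : Nonempty (Sylow 2 G) := inferInstance
      have hTcard : Nat.card T = 2 := by
        rw [Sylow.card_eq_multiplicity, hquot]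
        have hne : Nat.card (G ⧸ Z) ≠ 0 := Nat.card_pos.ne'
        rw [Nat.factorization_mul hne (by norm_num)]
        have h0 : (Nat.card (G ⧸ Z)).factorization 2 = 0 := by
          apply Nat.factorization_eq_zero_of_not_dvd
          exact hodd.not_two_dvd_nat
        simp [h0, Nat.prime_two.factorization_self]
      have hTc : IsCyclic (T : Subgroup G) := isCyclic_of_prime_card hTcard
      obtain ⟨H, hH⟩ := Cfsg.Agent.S0219.result (hn ▸ heven) T hTc
      exact ⟨H, of_index_two (hn ▸ hgt) H hH⟩
    · rw [Nat.not_odd_iff_even] at hodd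
      by_cases h4 : Nat.card (G ⧸ Z) = 2
      · refine ⟨Z, ?_, ?_⟩
        · intro h
          rw [h, Subgroup.card_top] at hZcard
          omega
        · rw [hZcard, hquot, h4]; norm_num
      · have hgt' : 2 < Nat.card (G ⧸ Z) := by
          obtain ⟨k, hk⟩ := hodd
          have : 0 < Nat.card (G ⧸ Z) := Nat.card_pos
          omega
        have hlt : Nat.card (G ⧸ Z) < n := by omega
        obtain ⟨Hbar, hHbar, hlt'⟩ := ih _ hlt (G ⧸ Z) rfl hodd hgt'
        refine ⟨Hbar.comap (QuotientGroup.mk' Z), ?_, ?_⟩
        · intro h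
          apply hHbar
          rw [eq_top_iff] at h ⊢
          intro q _
          obtain ⟨q, rfl⟩ := QuotientGroup.mk'_surjective Z q
          exact h (Subgroup.mem_top q)
        · have hidx : (Hbar.comap (QuotientGroup.mk' Z)).index = Hbar.index :=
            Subgroup.index_comap_of_surjective Hbar (QuotientGroup.mk'_surjective Z)
          have h1 := (Hbar.comap (QuotientGroup.mk' Z)).card_mul_index
          have h2 := Hbar.card_mul_index
          rw [hidx] at h1
          have hipos : 0 < Hbar.index := Nat.pos_of_ne_zero Subgroup.index_ne_zero_of_finite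
          have h3 : Nat.card (Hbar.comap (QuotientGroup.mk' Z)) = Nat.card Hbar * 2 := by
            apply Nat.eq_of_mul_eq_mul_right hipos
            rw [h1, hquot, ← h2]; ring
          rw [h3, hquot]
          nlinarith

/-- A finite group G of even order greater than 2 has a proper subgroup H with |G| < |H|^3. -/
theorem result {G : Type*} [Group G] [Finite G] (heven : Even (Nat.card G)) (hgt : 2 < Nat.card G) : ∃ H : Subgroup G, H ≠ ⊤ ∧ Nat.card G < (Nat.card H) ^ 3 := by
  exact aux _ G rfl heven hgt

end Cfsg.Agent.S0232
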