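import Cfsg.Statements.S0234
import Mathlib
import Cfsg.Agent.Helper16.BrauerFowler
import Cfsg.Agent.Helper16.ThompsonTransfer
import Cfsg.Agent.Helper2.Order60
import Cfsg.Agent.S0219

set_option autoImplicit false
open Cfsg

namespace Cfsg.Agent.S0234

set_option maxRecDepth 100000 in
theorem card_invol_alt5_aux :
    Fintype.card {s : alternatingGroup (Fin 5) // s * s = 1 ∧ s ≠ 1} = 15 := by
  decide

theorem card_invol_alternating_five :
    Nat.card {s : alternatingGroup (Fin 5) // orderOf s = 2} = 15 := by
  rw [Nat.card_congr (Equiv.subtypeEquivRight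
    (q := fun s : alternatingGroup (Fin 5) => s * s = 1 ∧ s ≠ 1)
    (fun s => Cfsg.Agent.Helper2.orderOf_two_iff))]
  rw [Nat.card_eq_fintype_card]
  exact card_invol_alt5_aux

/-- in a simple group without subgroups of index 2, `2|G|` divides `[G:H]!` -/
theorem two_mul_card_dvd_factorial_index {G : Type*} [Group G] [Finite G] [IsSimpleGroup G]
    (hno2 : ∀ K : Subgroup G, K.index ≠ 2) (H : Subgroup G) (hH : H ≠ ⊤) :
    2 * Nat.card G ∣ Nat.factorial H.index := by
  classical
  have := Fintype.ofFinite (G ⧸ H)
  have hinj := Cfsg.Agent.Helper2.injective_toPermHom_of_simple H hH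
  have hsign : ∀ g : G, Equiv.Perm.sign (MulAction.toPermHom G (G ⧸ H) g) = 1 := fun g =>
    Cfsg.Agent.Helper16.hom_units_int_trivial hno2
      (Equiv.Perm.sign.comp (MulAction.toPermHom G (G ⧸ H))) g
  have hle : (MulAction.toPermHom G (G ⧸ H)).range ≤ alternatingGroup (G ⧸ H) := by
    rintro _ ⟨g, rfl⟩
    exact Equiv.Perm.mem_alternatingGroup.mpr (hsign g)
  have hcard : Nat.card (MulAction.toPermHom G (G ⧸ H)).range = Nat.card G :=
    (Nat.card_congr (MonoidHom.ofInjective hinj).toEquiv).symm
  have hdvd := Subgroup.card_dvd_of_le hle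
  rw [hcard] at hdvd
  have hnt : Nontrivial (G ⧸ H) := by
    rw [← Finite.one_lt_card_iff_nontrivial, ← Subgroup.index_eq_card]
    have h1 : H.index ≠ 1 := fun h => hH (Subgroup.index_eq_one.mp h)
    have h0 : H.index ≠ 0 := Subgroup.index_ne_zero_of_finite
    omega
  have h2 := two_mul_card_alternatingGroup (α := G ⧸ H)
  rw [Fintype.card_perm, ← Nat.card_eq_fintype_card, ← Nat.card_eq_fintype_card,
    ← Subgroup.index_eq_card] at h2
  rw [← h2]
  exact Nat.mul_dvd_mul_left 2 hdvd

/-- In a finite simple group G of even order greater than 2, the number n of involutions satisfies 3n < |G|. -/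
theorem result {G : Type*} [Group G] [Finite G] [IsSimpleGroup G] (heven : Even (Nat.card G)) (hgt : 2 < Nat.card G) : 3 * Nat.card {t : G // orderOf t = 2} < Nat.card G := by
  have : Fact (Nat.Prime 2) := ⟨Nat.prime_two⟩
  set g := Nat.card G with hg
  -- no subgroup of index 2
  have hno2 : ∀ K : Subgroup G, K.index ≠ 2 := by
    intro K hK
    have hKn : K.Normal := Subgroup.normal_of_index_eq_two hK
    rcases hKn.eq_bot_or_eq_top with h | h
    · rw [h, Subgroup.index_bot] at hK; omega
    · rw [h, Subgroup.index_top] at hK; omega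
  -- trivial centre
  have hZbot : Subgroup.center G = ⊥ := by
    rcases (inferInstance : (Subgroup.center G).Normal).eq_bot_or_eq_top with h | h
    · exact h
    · exfalso
      obtain ⟨t, ht⟩ := exists_prime_orderOf_dvd_card' 2 (even_iff_two_dvd.mp heven)
      have hzn : (Subgroup.zpowers t).Normal := by
        constructor
        intro w hw a
        have hwc : w ∈ Subgroup.center G := h ▸ Subgroup.mem_top w
        have : a * w * a⁻¹ = w := by
          rw [Subgroup.mem_center_iff] at hwc
          rw [hwc a]; group
        rw [this]; exact hw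
      rcases hzn.eq_bot_or_eq_top with h' | h'
      · have := Subgroup.mem_zpowers t
        rw [h', Subgroup.mem_bot] at this
        rw [this, orderOf_one] at ht
        norm_num at ht
      · have hc : Nat.card (Subgroup.zpowers t) = 2 := by rw [Nat.card_zpowers, ht]
        rw [h', Subgroup.card_top] at hc
        omega
  have hZ : Odd (Nat.card (Subgroup.center G)) := by
    rw [hZbot, Subgroup.card_bot]; exact odd_one
  by_contra hcon
  push Not at hcon
  -- a subgroup of index at most 5
  obtain ⟨H, hH, hidx⟩ := Cfsg.Agent.Helper16.brauer_fowler_index heven hZ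
  have hn : Cfsg.Agent.Helper16.numInvol G = Nat.card {t : G // orderOf t = 2} := rfl
  rw [hn] at hidx
  set n := Nat.card {t : G // orderOf t = 2} with hn'
  have hnpos : 0 < n := by
    obtain ⟨t, ht⟩ := exists_prime_orderOf_dvd_card' 2 (even_iff_two_dvd.mp heven)
    have : Nonempty {t : G // orderOf t = 2} := ⟨⟨t, ht⟩⟩
    exact Nat.card_pos
  have hidx5 : H.index ≤ 5 := by
    rcases hidx with h | h
    · omega
    · have h1 : g * (g + n) ≤ (3 * n) * (3 * n + n) :=
        Nat.mul_le_mul hcon (Nat.add_le_add_right hcon n)
      have h2 : 2 * H.index * n ^ 2 < 12 * n ^ 2 := by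
        calc 2 * H.index * n ^ 2 < g * (g + n) := h
          _ ≤ (3 * n) * (3 * n + n) := h1
          _ = 12 * n ^ 2 := by ring
      have h3 : 2 * H.index < 12 := Nat.lt_of_mul_lt_mul_right h2
      omega
  -- the order divides 60
  have hdvd := two_mul_card_dvd_factorial_index hno2 H hH
  have h60 : g ∣ 60 := by
    have h120 : Nat.factorial H.index ∣ 120 := by
      have : Nat.factorial H.index ∣ Nat.factorial 5 := Nat.factorial_dvd_factorial hidx5
      simpa [Nat.factorial] using this
    have : 2 * g ∣ 2 * 60 := hdvd.trans h120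
    exact Nat.dvd_of_mul_dvd_mul_left (by norm_num) this
  have hmem : g ∈ Nat.divisors 60 := Nat.mem_divisors.mpr ⟨h60, by norm_num⟩
  have hdivs : Nat.divisors 60 = {1, 2, 3, 4, 5, 6, 10, 12, 15, 20, 30, 60} := by decide
  rw [hdivs] at hmem
  simp only [Finset.mem_insert, Finset.mem_singleton] at hmem
  have hev2 : 2 ∣ g := even_iff_two_dvd.mp heven
  -- groups of order 2 * odd have a subgroup of index two
  have hodd_case : ∀ m : ℕ, Odd m → g = 2 * m → False := by
    intro m hm hgm
    obtain ⟨T⟩ : Nonempty (Sylow 2 G) := inferInstance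
    have hTcard : Nat.card T = 2 := by
      rw [Sylow.card_eq_multiplicity, ← hg, hgm]
      have hne : m ≠ 0 := by rintro rfl; simp at hm
      rw [Nat.factorization_mul (by norm_num) hne]
      have h0 : m.factorization 2 = 0 := by
        apply Nat.factorization_eq_zero_of_not_dvd
        exact hm.not_two_dvd_nat
      simp [h0, Nat.prime_two.factorization_self]
    have hTc : IsCyclic (T : Subgroup G) := isCyclic_of_prime_card hTcard
    obtain ⟨K, hK⟩ := Cfsg.Agent.S0219.result heven T hTc
    exact hno2 K hK
  -- a Sylow subgroup of small index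
  have hsylow_case : ∀ (p k idx : ℕ) [Fact p.Prime], g = p ^ k * idx → ¬ p ∣ idx → 1 < idx →
      ¬ 2 * g ∣ Nat.factorial idx → False := by
    intro p k idx _ hgk hpi hidx1 hnd
    obtain ⟨Q⟩ : Nonempty (Sylow p G) := inferInstance
    have hQcard : Nat.card Q = p ^ k := by
      rw [Sylow.card_eq_multiplicity, ← hg, hgk]
      have hidx0 : idx ≠ 0 := by omega
      rw [Nat.factorization_mul (pow_ne_zero _ (Fact.out : p.Prime).ne_zero) hidx0,
        Nat.Prime.factorization_pow Fact.out]
      simp [Nat.factorization_eq_zero_of_not_dvd hpi]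
    have hQidx : (Q : Subgroup G).index = idx := by
      have := (Q : Subgroup G).card_mul_index
      rw [hQcard, ← hg, hgk] at this
      exact Nat.eq_of_mul_eq_mul_left (pow_pos (Fact.out : p.Prime).pos k) this
    have hQne : (Q : Subgroup G) ≠ ⊤ := by
      intro h
      rw [h, Subgroup.index_top] at hQidx
      omega
    have := two_mul_card_dvd_factorial_index hno2 (Q : Subgroup G) hQne
    rw [hQidx] at this
    exact hnd this
  have : Fact (Nat.Prime 5) := ⟨by norm_num⟩
  rcases hmem with h | h | h | h | h | h | h | h | h | h | h | h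
  · omega
  · omega
  · omega
  · -- order 4: a 2-group has nontrivial centre
    have hp : IsPGroup 2 G := IsPGroup.of_card (n := 2) (by rw [← hg, h]; norm_num)
    have hnt : Nontrivial G := by
      rw [← Finite.one_lt_card_iff_nontrivial, ← hg, h]; norm_num
    have := hp.center_nontrivial
    rw [hZbot] at this
    exact not_nontrivial _ this
  · omega
  · exact hodd_case 3 (by decide) (by omega)
  · exact hodd_case 5 (by decide) (by omega)
  · exact hsylow_case 2 2 3 (by omega) (by norm_num) (by norm_num)
      (by rw [h]; decide)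
  · omega
  · exact hsylow_case 5 1 4 (by omega) (by norm_num) (by norm_num)
      (by rw [h]; decide)
  · exact hodd_case 15 (by decide) (by omega)
  · -- order 60: G ≅ A₅ with 15 involutions
    obtain ⟨e⟩ := Cfsg.Agent.Helper2.nonempty_mulEquiv_alternatingGroup_five_of_card
      (G := G) (by rw [← hg, h])
    have hn15 : n = 15 := by
      rw [← card_invol_alternating_five]
      apply Nat.card_congr
      exact
        { toFun := fun t => ⟨e t.1, by rw [MulEquiv.orderOf_eq]; exact t.2⟩
          invFun := fun s => ⟨e.symm s.1, by rw [MulEquiv.orderOf_eq]; exact s.2⟩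
          left_inv := fun t => by simp
          right_inv := fun s => by simp }
    omega

end Cfsg.Agent.S0234
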