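import Cfsg.Statements.S0239
import Cfsg.Agent.Helper2.Invol

set_option autoImplicit false
open Cfsg

namespace Cfsg.Agent.S0239

open Cfsg.Agent.Helper2

/-- If some nontrivial element x of a finite group G is conjugate to x⁻¹, then |G| is even. -/
theorem result {G : Type*} [Group G] [Finite G] (x : G) (hx : x ≠ 1) (hreal : IsConj x x⁻¹) : Even (Nat.card G) := by
  obtain ⟨g, hg⟩ := isConj_iff.mp hreal
  rcases Nat.even_or_odd (orderOf g) with he | ho
  · exact he.trans_dvd (orderOf_dvd_natCard g)
  · obtain ⟨k, hk⟩ := ho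
    have h1 := inverting_odd_pow hg k
    rw [← hk, pow_orderOf_eq_one] at h1
    simp only [one_mul, inv_one, mul_one] at h1
    have hx2 : orderOf x = 2 := by
      refine orderOf_two_iff.mpr ⟨?_, hx⟩
      have h' : x⁻¹ * x = 1 := inv_mul_cancel _
      rwa [← h1] at h'
    have : (2 : ℕ) ∣ Nat.card G := hx2 ▸ orderOf_dvd_natCard x
    exact even_iff_two_dvd.mpr this

end Cfsg.Agent.S0239
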