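import Cfsg.Statements.S0240
import Cfsg.Agent.Helper2.Invol

set_option autoImplicit false
open Cfsg

namespace Cfsg.Agent.S0240

open Cfsg.Agent.Helper2

/-- Let G be a finite group with n involutions and H a subgroup with |H|·(n+1) > |G|. Then some nontrivial h ∈ H is strongly real in G: an involution t of G satisfies t h t⁻¹ = h⁻¹. -/
theorem result {G : Type*} [Group G] [Finite G] (H : Subgroup G) (hH : Nat.card G < Nat.card H * (Nat.card {t : G // orderOf t = 2} + 1)) : ∃ h : G, h ∈ H ∧ h ≠ 1 ∧ ∃ t : G, orderOf t = 2 ∧ t * h * t⁻¹ = h⁻¹ := by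
  classical
  set T := {t : G // orderOf t = 2} with hT
  let e : Option T → G := fun o => match o with
    | none => 1
    | some t => t.1
  have he2 : ∀ o, e o * e o = 1 := by
    intro o
    cases o with
    | none => simp [e]
    | some t => exact mul_self_of_orderOf_two t.2
  have he1 : ∀ o, e o ≠ 1 → orderOf (e o) = 2 := by
    intro o h
    exact orderOf_two_iff.mpr ⟨he2 o, h⟩
  have heinj : Function.Injective e := by
    intro a b hab
    cases a with
    | none =>
      cases b with
      | none => rfl
      | some t => exact absurd hab.symm (ne_one_of_orderOf_two t.2)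
    | some s =>
      cases b with
      | none => exact absurd hab (ne_one_of_orderOf_two s.2)
      | some t => exact congrArg some (Subtype.ext hab)
  -- pigeonhole
  have hcard : Nat.card (G ⧸ H) < Nat.card (Option T) := by
    rw [Finite.card_option]
    have h1 := Subgroup.card_eq_card_quotient_mul_card_subgroup H
    rw [h1, mul_comm] at hH
    exact lt_of_mul_lt_mul_left hH (Nat.zero_le _)
  have := Fintype.ofFinite (Option T)
  have := Fintype.ofFinite (G ⧸ H)
  rw [Nat.card_eq_fintype_card, Nat.card_eq_fintype_card] at hcard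
  obtain ⟨a, b, hab, hfab⟩ := Fintype.exists_ne_map_eq_of_card_lt
    (fun o : Option T => (QuotientGroup.mk (e o) : G ⧸ H)) hcard
  have hmem : (e a)⁻¹ * e b ∈ H := QuotientGroup.eq.mp hfab
  have hne : e a ≠ e b := fun h => hab (heinj h)
  have hainv : (e a)⁻¹ = e a := inv_eq_of_mul_eq_one_right (he2 a)
  have hbinv : (e b)⁻¹ = e b := inv_eq_of_mul_eq_one_right (he2 b)
  refine ⟨(e a)⁻¹ * e b, hmem, ?_, ?_⟩
  · intro h
    apply hne
    rw [inv_mul_eq_one] at h
    exact h
  · by_cases ha1 : e a = 1
    · have hb1 : e b ≠ 1 := fun h => hne (ha1.trans h.symm)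
      refine ⟨e b, he1 b hb1, ?_⟩
      rw [ha1]; simp [hbinv, he2 b]
    · refine ⟨e a, he1 a ha1, ?_⟩
      rw [hainv, mul_inv_rev, hainv, hbinv, ← mul_assoc, he2 a, one_mul]

end Cfsg.Agent.S0240
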