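import Cfsg.Statements.S0241
import Cfsg.Agent.Helper2.Invol

set_option autoImplicit false
open Cfsg

namespace Cfsg.Agent.S0241

open Cfsg.Agent.Helper2

/-- If x ≠ 1 is conjugate to x⁻¹ in a finite group G and |C_G(x)| is odd, then some involution t satisfies t x t⁻¹ = x⁻¹. -/
theorem result {G : Type*} [Group G] [Finite G] (x : G) (hx : x ≠ 1) (hreal : IsConj x x⁻¹) (hodd : Odd (Nat.card (Subgroup.centralizer ({x} : Set G)))) : ∃ t : G, orderOf t = 2 ∧ t * x * t⁻¹ = x⁻¹ := by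
  obtain ⟨g, hg⟩ := isConj_iff.mp hreal
  -- x ≠ x⁻¹, otherwise x is an involution in its own centralizer
  have hxne : x ≠ x⁻¹ := by
    intro h1
    have hx2 : orderOf x = 2 := by
      refine orderOf_two_iff.mpr ⟨?_, hx⟩
      have h' : x⁻¹ * x = 1 := inv_mul_cancel _
      rwa [← h1] at h'
    let x' : Subgroup.centralizer ({x} : Set G) := ⟨x, Subgroup.mem_centralizer_singleton_iff.mpr rfl⟩
    have h2 : orderOf x' = 2 := by
      rw [← Subgroup.orderOf_coe]; exact hx2
    have h3 : (2 : ℕ) ∣ Nat.card (Subgroup.centralizer ({x} : Set G)) := h2 ▸ orderOf_dvd_natCard x'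
    exact (Nat.not_even_iff_odd.mpr hodd) (even_iff_two_dvd.mpr h3)
  obtain ⟨a, m, hm, hn⟩ := Nat.exists_eq_two_pow_mul_odd (orderOf_pos g).ne'
  obtain ⟨k, rfl⟩ := hm
  set t := g ^ (2 * k + 1) with ht
  have htinv : t * x * t⁻¹ = x⁻¹ := inverting_odd_pow hg k
  have ht2c : Commute (t ^ 2) x := inverting_sq_commute htinv
  have htpow : t ^ (2 ^ a) = 1 := by
    rw [ht, ← pow_mul, mul_comm, ← hn, pow_orderOf_eq_one]
  have ht2 : t ^ 2 = 1 := by
    let c : Subgroup.centralizer ({x} : Set G) :=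
      ⟨t ^ 2, Subgroup.mem_centralizer_singleton_iff.mpr ht2c.eq⟩
    have hc1 : orderOf c ∣ 2 ^ a := by
      rw [← Subgroup.orderOf_coe]
      apply orderOf_dvd_of_pow_eq_one
      show (t ^ 2) ^ 2 ^ a = 1
      rw [← pow_mul, mul_comm, pow_mul, htpow, one_pow]
    have hc2 : orderOf c ∣ Nat.card (Subgroup.centralizer ({x} : Set G)) := orderOf_dvd_natCard c
    have hcop : Nat.Coprime (2 ^ a) (Nat.card (Subgroup.centralizer ({x} : Set G))) :=
      Nat.Coprime.pow_left a (Nat.coprime_two_left.mpr hodd)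
    have hc3 : orderOf c = 1 := Nat.eq_one_of_dvd_coprimes hcop hc1 hc2
    have hc4 : c = 1 := orderOf_eq_one_iff.mp hc3
    exact congrArg Subtype.val hc4
  refine ⟨t, orderOf_two_iff.mpr ⟨by rwa [pow_two] at ht2, ?_⟩, htinv⟩
  intro h1
  rw [h1] at htinv
  simp at htinv
  exact hxne htinv

end Cfsg.Agent.S0241
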