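import Cfsg.Statements.S0250
import Cfsg.Agent.Helper2.PermEmbed
import Cfsg.Agent.S0242
import Cfsg.Agent.Helper2.SLCard

set_option autoImplicit false
open Cfsg

namespace Cfsg.Agent.S0250

open Cfsg.Agent.Helper2

/-- SL_2(2) is isomorphic to S_3. -/
theorem result {F : Type*} [Field F] [Fintype F] (hF : Fintype.card F = 2) : Nonempty (Matrix.SpecialLinearGroup (Fin 2) F ≃* Equiv.Perm (Fin 3)) := by
  have hcard := Cfsg.Agent.S0242.result hF 2 one_le_two
  have hP : Nat.card (Projectivization F (Fin 2 → F)) = 3 := by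
    rw [Projectivization.card_of_finrank_two F (Fin 2 → F) (by simp), Nat.card_eq_fintype_card, hF]
  have hker : (MulAction.toPermHom (Matrix.SpecialLinearGroup (Fin 2) F)
      (Projectivization F (Fin 2 → F))).ker = ⊥ := by
    rw [Projectivization.SL_mulAction_ker, ← Subgroup.card_eq_one, card_center_SL 2 one_le_two,
      card_units_field, hF]; rfl
  refine nonempty_mulEquiv_perm_of_injective 3 (MulAction.toPermHom _ _)
    ((MonoidHom.ker_eq_bot_iff _).mp hker) hP ?_
  rw [Fin.prod_univ_two] at hcard
  norm_num at hcard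
  rw [show Nat.factorial 3 = 6 from rfl]
  omega

end Cfsg.Agent.S0250
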