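import Cfsg.Statements.S0267
import Mathlib
import Cfsg.Agent.Helper2.PGL2

set_option autoImplicit false
open Cfsg

namespace Cfsg.Agent.S0267

open Cfsg.Agent.Helper2 Cfsg.Agent.Helper2.PGL2 Matrix

/-- SL_2(q) is 3-transitive on the q+1 points of the projective line if and only if q is even. -/
theorem result {F : Type*} [Field F] [Fintype F] : MulAction.IsMultiplyPretransitive (Matrix.SpecialLinearGroup (Fin 2) F) (Projectivization F (Fin 2 → F)) 3 ↔ ringChar F = 2 := by
  classical
  constructor
  · intro h3
    by_contra hchar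
    obtain ⟨d, hd⟩ := FiniteField.exists_nonsquare hchar
    have hd0 : d ≠ 0 := by
      rintro rfl
      exact hd ⟨0, by simp⟩
    have hne : (![d, 1] : Fin 2 → F) ≠ 0 := by
      intro h; have := congrFun h 1; simp at this
    have h01 : (s0 : Projectivization F (Fin 2 → F)) ≠ s1 := by
      rw [s0, s1, Ne, mk_eq_mk_iff_det]; simp
    have h02 : (s0 : Projectivization F (Fin 2 → F)) ≠ s2 := by
      rw [s0, s2, Ne, mk_eq_mk_iff_det]; simp
    have h12 : (s1 : Projectivization F (Fin 2 → F)) ≠ s2 := by
      rw [s1, s2, Ne, mk_eq_mk_iff_det]; simp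
    have h0d : (s0 : Projectivization F (Fin 2 → F)) ≠ Projectivization.mk F ![d, 1] hne := by
      rw [s0, Ne, mk_eq_mk_iff_det]; simp
    have h1d : (s1 : Projectivization F (Fin 2 → F)) ≠ Projectivization.mk F ![d, 1] hne := by
      rw [s1, Ne, mk_eq_mk_iff_det]; simpa using hd0
    let x : Fin 3 ↪ Projectivization F (Fin 2 → F) := ⟨![s0, s1, s2], by
      intro i j h
      fin_cases i <;> fin_cases j <;> simp at h ⊢
      · exact absurd h h01
      · exact absurd h h02
      · exact absurd h.symm h01
      · exact absurd h h12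
      · exact absurd h.symm h02
      · exact absurd h.symm h12⟩
    let y : Fin 3 ↪ Projectivization F (Fin 2 → F) :=
      ⟨![s0, s1, Projectivization.mk F ![d, 1] hne], by
      intro i j h
      fin_cases i <;> fin_cases j <;> simp at h ⊢
      · exact absurd h h01
      · exact absurd h h0d
      · exact absurd h.symm h01
      · exact absurd h h1d
      · exact absurd h.symm h0d
      · exact absurd h.symm h1d⟩
    obtain ⟨g, hg⟩ := (MulAction.isMultiplyPretransitive_iff.mp h3) x y
    have e0 : g • (s0 : Projectivization F (Fin 2 → F)) = s0 := by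
      exact DFunLike.congr_fun hg 0
    have e1 : g • (s1 : Projectivization F (Fin 2 → F)) = s1 := by
      exact DFunLike.congr_fun hg 1
    have e2 : g • (s2 : Projectivization F (Fin 2 → F)) = Projectivization.mk F ![d, 1] hne := by
      exact DFunLike.congr_fun hg 2
    rw [s0, Projectivization.smul_mk, mk_eq_mk_iff_det] at e0
    rw [s1, Projectivization.smul_mk, mk_eq_mk_iff_det] at e1
    rw [s2, Projectivization.smul_mk, mk_eq_mk_iff_det] at e2
    simp [Matrix.SpecialLinearGroup.smul_def, Matrix.mulVec, dotProduct] at e0 e1 e2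
    have hdet : g.1 0 0 * g.1 1 1 - g.1 0 1 * g.1 1 0 = 1 := by
      rw [← Matrix.det_fin_two]; exact g.2
    rw [e0, e1] at e2
    rw [e0, e1] at hdet
    simp at e2 hdet
    apply hd
    have hg11 : g.1 1 1 ≠ 0 := by
      intro h; rw [h] at hdet; simp at hdet
    have h00 : g.1 0 0 = d * g.1 1 1 := by linear_combination e2
    rw [h00] at hdet
    refine ⟨(g.1 1 1)⁻¹, ?_⟩
    rw [← mul_inv]
    apply eq_inv_of_mul_eq_one_left
    linear_combination hdet
  · intro hchar
    rw [MulAction.isMultiplyPretransitive_iff]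
    intro x y
    obtain ⟨g, hg⟩ := (MulAction.isMultiplyPretransitive_iff.mp
      (isMultiplyPretransitive_three (F := F))) x y
    induction g using Matrix.ProjGenLinGroup.induction_on with | mk N =>
    obtain ⟨c, hc⟩ := FiniteField.isSquare_of_char_two hchar (N.1.det)
    have hdetN : N.1.det ≠ 0 := (Matrix.GeneralLinearGroup.det N).ne_zero
    have hc0 : c ≠ 0 := by
      rintro rfl; rw [mul_zero] at hc; exact hdetN hc
    have hA : (c⁻¹ • N.1).det = 1 := by
      rw [Matrix.det_smul, Fintype.card_fin, hc]; field_simp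
    let A : Matrix.SpecialLinearGroup (Fin 2) F := ⟨c⁻¹ • N.1, hA⟩
    refine ⟨A, ?_⟩
    rw [← hg]
    ext i
    rw [Function.Embedding.smul_apply, Function.Embedding.smul_apply]
    induction (x i) using Projectivization.ind with | h v hv =>
    rw [Projectivization.smul_mk, Projectivization.PGL.mk_smul_mk,
      Projectivization.mk_eq_mk_iff']
    refine ⟨c⁻¹, ?_⟩
    rw [Matrix.SpecialLinearGroup.smul_def, Units.smul_def]
    show c⁻¹ • (N.1 *ᵥ v) = (c⁻¹ • N.1) *ᵥ v
    rw [Matrix.smul_mulVec]

end Cfsg.Agent.S0267
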