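import Cfsg.Statements.S0289
import Cfsg.Agent.Helper2.DotCount

set_option autoImplicit false
open Cfsg

namespace Cfsg.Agent.S0289

open Cfsg.Agent.Helper2

/-- The hyperbolic quadratic form on F^(2m), m at least 1, has q^(2m-1) + q^m - q^(m-1) zeros (that is, (q^m - 1)(q^(m-1) + 1) non-zero isotropic vectors). -/
theorem result {F : Type*} [Field F] [Fintype F] {q : ℕ} (hF : Fintype.card F = q) (m : ℕ) (hm : 1 ≤ m) : Nat.card {v : Fin m ⊕ Fin m → F // Cfsg.quadFormPlus m F v = 0} = q ^ (2 * m - 1) + q ^ m - q ^ (m - 1) := by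
  classical
  have e : {v : Fin m ⊕ Fin m → F // Cfsg.quadFormPlus m F v = 0} ≃
      {p : (Fin m → F) × (Fin m → F) // ∑ i, p.1 i * p.2 i = 0} :=
    Equiv.subtypeEquiv (Equiv.sumArrowEquivProdArrow (Fin m) (Fin m) F) (fun v => Iff.rfl)
  rw [Nat.card_congr e, card_pairs_dot, if_pos rfl, hF, Fintype.card_fin]
  obtain ⟨k, rfl⟩ : ∃ k, m = k + 1 := ⟨m - 1, by omega⟩
  have hq : 0 < q := by rw [← hF]; exact Fintype.card_pos
  have ha : 0 < q ^ k := pow_pos hq k
  have e1 : q ^ (k + 1) = q ^ k * q := pow_succ q k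
  have e2 : q ^ (2 * (k + 1) - 1) = q ^ k * q * q ^ k := by
    rw [← pow_succ, ← pow_add]; congr 1; omega
  rw [Nat.add_sub_cancel, e1, e2, Nat.sub_mul, one_mul]
  have h3 : q ^ k ≤ q ^ k * q * q ^ k := by
    calc q ^ k = 1 * 1 * q ^ k := by ring
      _ ≤ q ^ k * q * q ^ k := by gcongr <;> omega
  generalize q ^ k * q * q ^ k = B at *
  generalize q ^ k * q = A at *
  omega

end Cfsg.Agent.S0289
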