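import Cfsg.Statements.S0290
import Cfsg.Agent.Helper2.DotCount

set_option autoImplicit false
open Cfsg

namespace Cfsg.Agent.S0290

open Cfsg.Agent.Helper2

/-- The minus-type quadratic form on F^(2m), m at least 1, has q^(2m-1) + q^(m-1) - q^m zeros (that is, (q^m + 1)(q^(m-1) - 1) non-zero isotropic vectors). -/
theorem result {F : Type*} [Field F] [Fintype F] {q : ℕ} (hF : Fintype.card F = q) (m : ℕ) (hm : 1 ≤ m) (a b : F) (hab : ∀ z₁ z₂ : F, z₁ ^ 2 + a * z₁ * z₂ + b * z₂ ^ 2 = 0 → z₁ = 0 ∧ z₂ = 0) : Nat.card {v : (Fin (m - 1) ⊕ Fin (m - 1)) ⊕ Fin 2 → F // Cfsg.quadFormMinus (m - 1) F a b v = 0} = q ^ (2 * m - 1) + q ^ (m - 1) - q ^ m := by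
  classical
  obtain ⟨k, rfl⟩ : ∃ k, m = k + 1 := ⟨m - 1, by omega⟩
  rw [Nat.add_sub_cancel]
  have e : {v : (Fin k ⊕ Fin k) ⊕ Fin 2 → F // Cfsg.quadFormMinus k F a b v = 0} ≃
      {p : (Fin 2 → F) × ((Fin k → F) × (Fin k → F)) // ∑ i, p.2.1 i * p.2.2 i =
        - (fun z : Fin 2 → F => z 0 ^ 2 + a * z 0 * z 1 + b * z 1 ^ 2) p.1} :=
    Equiv.subtypeEquiv (((Equiv.sumArrowEquivProdArrow (Fin k ⊕ Fin k) (Fin 2) F).trans
      ((Equiv.sumArrowEquivProdArrow (Fin k) (Fin k) F).prodCongr (Equiv.refl _))).trans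
        (Equiv.prodComm _ _))
      (fun v => by
        show (∑ i : Fin k, v (.inl (.inl i)) * v (.inl (.inr i))) +
            (v (.inr 0) ^ 2 + a * v (.inr 0) * v (.inr 1) + b * v (.inr 1) ^ 2) = 0 ↔
          ∑ i : Fin k, v (.inl (.inl i)) * v (.inl (.inr i)) =
            - (v (.inr 0) ^ 2 + a * v (.inr 0) * v (.inr 1) + b * v (.inr 1) ^ 2)
        constructor <;> intro h <;> linear_combination h)
  have hne : ∀ z : Fin 2 → F, z ≠ 0 → z 0 ^ 2 + a * z 0 * z 1 + b * z 1 ^ 2 ≠ 0 := by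
    intro z hz h
    obtain ⟨h0, h1⟩ := hab _ _ h
    apply hz
    funext i
    fin_cases i
    · exact h0
    · exact h1
  rw [Nat.card_congr e, card_sigma_pairs_dot
    (fun z : Fin 2 → F => z 0 ^ 2 + a * z 0 * z 1 + b * z 1 ^ 2) 0 (by simp) hne, hF,
    Fintype.card_fin, Fintype.card_fun, Fintype.card_fin, hF]
  have hq : 1 ≤ q := by rw [← hF]; exact Fintype.card_pos
  rcases Nat.eq_zero_or_pos k with rfl | hk
  · simp
  · obtain ⟨j, rfl⟩ : ∃ j, k = j + 1 := ⟨k - 1, by omega⟩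
    have h2 : 1 ≤ q ^ (j + 1) := Nat.one_le_pow _ _ hq
    have h3 : 1 ≤ q ^ 2 := Nat.one_le_pow _ _ hq
    have h4 : q ^ (j + 1 + 1) ≤ q ^ (2 * (j + 1 + 1) - 1) + q ^ (j + 1) := by
      have : q ^ (j + 1 + 1) ≤ q ^ (2 * (j + 1 + 1) - 1) :=
        Nat.pow_le_pow_right hq (by omega)
      omega
    have e5 : 2 * (j + 1 + 1) - 1 = 2 * j + 3 := by omega
    rw [Nat.add_sub_cancel]
    zify [hq, h2, h3, h4]
    rw [e5]
    ring

end Cfsg.Agent.S0290
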