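import Cfsg.Statements.S0291
import Cfsg.Agent.Helper2.DotCount

set_option autoImplicit false
open Cfsg

namespace Cfsg.Agent.S0291

open Cfsg.Agent.Helper2

/-- For q odd, the form x_0^2 + sum_{i<m} x_i y_i on F^(2m+1) has exactly q^(2m) zeros. -/
theorem result {F : Type*} [Field F] [Fintype F] {q : ℕ} (hF : Fintype.card F = q) (hodd : Odd q) (m : ℕ) : Nat.card {v : Unit ⊕ (Fin m ⊕ Fin m) → F // Cfsg.quadFormOdd m F v = 0} = q ^ (2 * m) := by
  classical
  have e : {v : Unit ⊕ (Fin m ⊕ Fin m) → F // Cfsg.quadFormOdd m F v = 0} ≃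
      {p : F × ((Fin m → F) × (Fin m → F)) // ∑ i, p.2.1 i * p.2.2 i = - (fun t : F => t ^ 2) p.1} :=
    Equiv.subtypeEquiv ((Equiv.sumArrowEquivProdArrow Unit (Fin m ⊕ Fin m) F).trans
      ((Equiv.funUnique Unit F).prodCongr (Equiv.sumArrowEquivProdArrow (Fin m) (Fin m) F)))
      (fun v => by
        show v (.inl ()) ^ 2 + ∑ i : Fin m, v (.inr (.inl i)) * v (.inr (.inr i)) = 0 ↔
          ∑ i : Fin m, v (.inr (.inl i)) * v (.inr (.inr i)) = - (v (.inl ())) ^ 2
        constructor <;> intro h <;> linear_combination h)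
  rw [Nat.card_congr e, card_sigma_pairs_dot (fun t : F => t ^ 2) 0 (by simp)
    (fun t ht => pow_ne_zero 2 ht), hF, Fintype.card_fin]
  have hq : 1 ≤ q := by rw [← hF]; exact Fintype.card_pos
  rcases Nat.eq_zero_or_pos m with rfl | hm
  · simp
  · obtain ⟨k, rfl⟩ : ∃ k, m = k + 1 := ⟨m - 1, by omega⟩
    have h2 : 1 ≤ q ^ (k + 1) := Nat.one_le_pow _ _ hq
    rw [Nat.add_sub_cancel]
    zify [hq, h2]
    ring

end Cfsg.Agent.S0291
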