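import Cfsg.Statements.S0307
import Mathlib
import Cfsg.Agent.Helper2.SLCard

set_option autoImplicit false
open Cfsg

namespace Cfsg.Agent.S0307

open Cfsg.Agent.Helper2 Matrix

/-- PSL_n(q) is normal in PGL_n(q) with cyclic quotient of order gcd(n, q-1): the image of the natural map PSL_n → PGL_n is the kernel of a surjective homomorphism onto the cyclic group of that order. -/
theorem result {F : Type*} [Field F] [Fintype F] {q : ℕ} (hF : Fintype.card F = q) (n : ℕ) (hn : 1 ≤ n) : ∃ g : Matrix.ProjGenLinGroup (Fin n) F →* Multiplicative (ZMod (Nat.gcd n (q - 1))), Function.Surjective g ∧ g.ker = (Matrix.ProjectiveSpecialLinearGroup.toPGL : Matrix.ProjectiveSpecialLinearGroup (Fin n) F →* Matrix.ProjGenLinGroup (Fin n) F).range := by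
  classical
  have hne : Nonempty (Fin n) := ⟨⟨0, hn⟩⟩
  set H : Subgroup Fˣ := (powMonoidHom n : Fˣ →* Fˣ).range with hH
  have hcyc : IsCyclic (Fˣ ⧸ H) :=
    isCyclic_of_surjective (QuotientGroup.mk' H) (QuotientGroup.mk'_surjective H)
  have hcard : Nat.card (Fˣ ⧸ H) = Nat.card (Multiplicative (ZMod (Nat.gcd n (q - 1)))) := by
    rw [← Subgroup.index_eq_card, hH, IsCyclic.index_powMonoidHom_range, card_units_field, hF,
      Nat.gcd_comm]
    exact (Nat.card_zmod _).symm
  have hd : NeZero (Nat.gcd n (q - 1)) := ⟨Nat.gcd_ne_zero_left (by omega)⟩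
  let e : Fˣ ⧸ H ≃* Multiplicative (ZMod (Nat.gcd n (q - 1))) := mulEquivOfCyclicCardEq hcard
  let φ : GL (Fin n) F →* Multiplicative (ZMod (Nat.gcd n (q - 1))) :=
    e.toMonoidHom.comp ((QuotientGroup.mk' H).comp Matrix.GeneralLinearGroup.det)
  have hφ1 : ∀ x : GL (Fin n) F, φ x = 1 ↔ Matrix.GeneralLinearGroup.det x ∈ H := by
    intro x
    show e (QuotientGroup.mk' H (Matrix.GeneralLinearGroup.det x)) = 1 ↔ _
    rw [MulEquiv.map_eq_one_iff, QuotientGroup.mk'_apply, QuotientGroup.eq_one_iff]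
  have hφ : Subgroup.center (GL (Fin n) F) ≤ φ.ker := by
    rw [Matrix.GeneralLinearGroup.center_eq_range_scalar]
    rintro _ ⟨u, rfl⟩
    rw [MonoidHom.mem_ker, hφ1, Matrix.GeneralLinearGroup.det_scalar, Fintype.card_fin]
    exact ⟨u, rfl⟩
  have hsurj : Function.Surjective φ :=
    e.surjective.comp ((QuotientGroup.mk'_surjective H).comp
      Matrix.GeneralLinearGroup.det_surjective)
  let g : Matrix.ProjGenLinGroup (Fin n) F →* Multiplicative (ZMod (Nat.gcd n (q - 1))) :=
    QuotientGroup.lift _ φ hφ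
  have hg : ∀ x : GL (Fin n) F, g (Matrix.ProjGenLinGroup.mk x) = φ x := fun x => rfl
  refine ⟨g, ?_, ?_⟩
  · intro z
    obtain ⟨x, rfl⟩ := hsurj z
    exact ⟨Matrix.ProjGenLinGroup.mk x, hg x⟩
  · ext y
    induction y using Matrix.ProjGenLinGroup.induction_on with | mk x =>
    rw [MonoidHom.mem_ker, hg, hφ1, MonoidHom.mem_range]
    constructor
    · rintro ⟨u, hu⟩
      rw [powMonoidHom_apply] at hu
      have hdet : Matrix.GeneralLinearGroup.det (Matrix.GeneralLinearGroup.scalar (Fin n) u⁻¹ * x) = 1 := by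
        rw [map_mul, Matrix.GeneralLinearGroup.det_scalar, Fintype.card_fin, ← hu, inv_pow,
          inv_mul_cancel]
      have hmem : Matrix.GeneralLinearGroup.scalar (Fin n) u⁻¹ * x ∈
          (Matrix.SpecialLinearGroup.toGL : Matrix.SpecialLinearGroup (Fin n) F →* GL (Fin n) F).range := by
        rw [range_toGL_eq_ker_det, MonoidHom.mem_ker]; exact hdet
      obtain ⟨y, hy⟩ := hmem
      refine ⟨QuotientGroup.mk y, ?_⟩
      rw [Matrix.ProjectiveSpecialLinearGroup.toPGL_mk, hy, map_mul,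
        Matrix.ProjGenLinGroup.mk_scalar, one_mul]
    · rintro ⟨z, hz⟩
      obtain ⟨y, rfl⟩ := QuotientGroup.mk_surjective z
      rw [Matrix.ProjectiveSpecialLinearGroup.toPGL_mk] at hz
      obtain ⟨u, hu⟩ := Matrix.ProjGenLinGroup.mk_eq_mk_iff.mp hz
      rw [← hu, map_mul, Matrix.GeneralLinearGroup.det_scalar, Fintype.card_fin]
      have : Matrix.GeneralLinearGroup.det (Matrix.SpecialLinearGroup.toGL y) = 1 := by
        have h1 : Matrix.SpecialLinearGroup.toGL y ∈
            (Matrix.SpecialLinearGroup.toGL : Matrix.SpecialLinearGroup (Fin n) F →* GL (Fin n) F).range :=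
          ⟨y, rfl⟩
        rw [range_toGL_eq_ker_det, MonoidHom.mem_ker] at h1
        exact h1
      rw [this, one_mul]
      exact ⟨u, rfl⟩

end Cfsg.Agent.S0307
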