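import Cfsg.Statements.S0323
import Mathlib

set_option autoImplicit false
open scoped Pointwise
open Cfsg

namespace Cfsg.Agent.S0323

set_option maxHeartbeats 400000 in
/-- A doubly transitive action on a set with at least three points yields a (B,N)-pair of rank one:
`B` is the stabiliser of a point `x`, `N` the setwise stabiliser of a pair `{x, y}`. -/
theorem result {G Ω : Type*} [Group G] [MulAction G Ω]
    (h2 : MulAction.IsMultiplyPretransitive G Ω 2) {x y z : Ω} (hxy : x ≠ y) (hyz : y ≠ z) (hxz : x ≠ z) :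
    ∃ P : Cfsg.BNPair G, P.B = MulAction.stabilizer G x ∧
      P.N = MulAction.stabilizer G ({x, y} : Set Ω) ∧ P.rank = 1 := by
  classical
  rw [MulAction.is_two_pretransitive_iff] at h2
  obtain ⟨s, hsx, hsy⟩ := h2 hxy hxy.symm
  have hsinvy : s⁻¹ • y = x := by rw [← hsx, inv_smul_smul]
  have hsinvx : s⁻¹ • x = y := by rw [← hsy, inv_smul_smul]
  set B := MulAction.stabilizer G x with hB
  set N := MulAction.stabilizer G ({x, y} : Set Ω) with hN
  have memB : ∀ g : G, g ∈ B ↔ g • x = x := fun g => MulAction.mem_stabilizer_iff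
  have memN : ∀ g : G, g ∈ N ↔ (g • x = x ∧ g • y = y) ∨ (g • x = y ∧ g • y = x) := by
    intro g
    rw [hN, MulAction.mem_stabilizer_iff]
    constructor
    · intro h
      have h1 : g • x ∈ ({x, y} : Set Ω) := by
        rw [← h]; exact Set.smul_mem_smul_set (by simp)
      have h2' : g • y ∈ ({x, y} : Set Ω) := by
        rw [← h]; exact Set.smul_mem_smul_set (by simp)
      have h3 : g • x ≠ g • y := fun h => hxy (smul_left_cancel g h)
      simp only [Set.mem_insert_iff, Set.mem_singleton_iff] at h1 h2'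
      rcases h1 with h1 | h1 <;> rcases h2' with h2' | h2'
      · exact absurd (h1.trans h2'.symm) h3
      · exact Or.inl ⟨h1, h2'⟩
      · exact Or.inr ⟨h1, h2'⟩
      · exact absurd (h1.trans h2'.symm) h3
    · rintro (⟨h1, h2'⟩ | ⟨h1, h2'⟩)
      · rw [Set.smul_set_insert, Set.smul_set_singleton, h1, h2']
      · rw [Set.smul_set_insert, Set.smul_set_singleton, h1, h2', Set.pair_comm]
  have hsN : s ∈ N := (memN s).mpr (Or.inr ⟨hsx, hsy⟩)
  -- key: if n x = y then every g with g x ≠ x lies in B n B
  have key : ∀ n g : G, n • x = y → g • x ≠ x →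
      g ∈ DoubleCoset.doubleCoset n (B : Set G) B := by
    intro n g hn hg
    obtain ⟨b, hbx, hby⟩ := h2 (Ne.symm hg) hxy
    rw [DoubleCoset.mem_doubleCoset]
    refine ⟨b⁻¹, B.inv_mem ((memB b).mpr hbx), n⁻¹ * b * g, ?_, by group⟩
    rw [SetLike.mem_coe, memB, mul_smul, mul_smul, hby, ← hn, inv_smul_smul]
  refine ⟨{ B := B
            N := N
            S := {s}
            sup_eq_top := ?_
            conj_mem := ?_
            subset := ?_
            sq_mem := ?_
            inj := ?_
            closure_sup := ?_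
            mul_mem_union := ?_
            conj_ne := ?_ }, rfl, rfl, ?_⟩
  · -- B ⊔ N = ⊤
    rw [eq_top_iff]
    intro g _
    by_cases hg : g • x = x
    · exact Subgroup.mem_sup_left ((memB g).mpr hg)
    · have := key s g hsx hg
      obtain ⟨b1, hb1, b2, hb2, rfl⟩ := DoubleCoset.mem_doubleCoset.mp this
      exact Subgroup.mul_mem _ (Subgroup.mul_mem _ (Subgroup.mem_sup_left hb1)
        (Subgroup.mem_sup_right hsN)) (Subgroup.mem_sup_left hb2)
  · -- conj_mem
    intro n hn t ht
    obtain ⟨htB, htN⟩ := Subgroup.mem_inf.mp ht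
    have htx : t • x = x := (memB t).mp htB
    have hty : t • y = y := by
      rcases (memN t).mp htN with h | h
      · exact h.2
      · exact absurd (htx.symm.trans h.1) hxy
    rw [memB, mul_smul, mul_smul]
    have hninv : n⁻¹ ∈ N := N.inv_mem hn
    rcases (memN n⁻¹).mp hninv with h | h
    · rw [h.1, htx, ← h.1, smul_inv_smul]; exact h.1.symm
    · rw [h.1, hty, ← h.1, smul_inv_smul]
  · -- subset
    intro s' hs'
    rw [Set.mem_singleton_iff] at hs'
    rw [hs']; exact hsN
  · -- sq_mem
    intro s' hs'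
    rw [Set.mem_singleton_iff] at hs'
    rw [hs', memB, mul_smul, hsx, hsy]
  · -- inj
    intro a ha b hb _
    rw [Set.mem_singleton_iff] at ha hb
    rw [ha, hb]
  · -- closure_sup
    apply le_antisymm
    · apply sup_le
      · rw [Subgroup.closure_le, Set.singleton_subset_iff]; exact hsN
      · exact inf_le_right
    · intro n hn
      rcases (memN n).mp hn with h | h
      · exact Subgroup.mem_sup_right ⟨(memB n).mpr h.1, hn⟩
      · have h1 : s ∈ Subgroup.closure ({s} : Set G) ⊔ B ⊓ N :=
          Subgroup.mem_sup_left (Subgroup.subset_closure (Set.mem_singleton s))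
        have h3 : s⁻¹ * n ∈ B := by rw [memB, mul_smul, h.1, hsinvy]
        have h2 : s⁻¹ * n ∈ Subgroup.closure ({s} : Set G) ⊔ B ⊓ N :=
          Subgroup.mem_sup_right ⟨h3, N.mul_mem (N.inv_mem hsN) hn⟩
        have h4 := Subgroup.mul_mem _ h1 h2
        rwa [mul_inv_cancel_left] at h4
  · -- mul_mem_union
    intro s' hs' n hn b hb
    rw [Set.mem_singleton_iff] at hs'
    subst hs'
    have hbx : b • x = x := (memB b).mp hb
    rcases (memN n).mp hn with h | h
    · left
      rw [DoubleCoset.mem_doubleCoset]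
      refine ⟨1, B.one_mem, n⁻¹ * b * n, ?_, by group⟩
      rw [SetLike.mem_coe, memB, mul_smul, mul_smul, h.1, hbx, ← h.1, inv_smul_smul]
      exact h.1.symm
    · by_cases hg : (s' * b * n) • x = x
      · left
        have hsn : s' * n ∈ B := by rw [memB, mul_smul, h.1, hsy]
        rw [DoubleCoset.mem_doubleCoset]
        refine ⟨s' * b * n * (s' * n)⁻¹, ?_, 1, B.one_mem, by group⟩
        exact B.mul_mem ((memB _).mpr hg) (B.inv_mem hsn)
      · right
        exact key n _ h.1 hg
  · -- conj_ne
    intro s' hs'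
    rw [Set.mem_singleton_iff] at hs'
    subst hs'
    obtain ⟨b, hbx, hby⟩ := h2 hxy hxz
    intro heq
    have hmem : s' * b * s' ∈ (fun b : G => s' * b * s') '' (B : Set G) :=
      ⟨b, (memB b).mpr hbx, rfl⟩
    rw [heq, SetLike.mem_coe, memB, mul_smul, mul_smul, hsx, hby] at hmem
    apply hyz
    rw [← hsinvx, ← hmem, inv_smul_smul]
  · -- rank
    show Nat.card ({s} : Set G) = 1
    simp

end Cfsg.Agent.S0323
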