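import Cfsg.Statements.S0326

set_option autoImplicit false
open Cfsg

namespace Cfsg.Agent.S0326

/-- The Suzuki–Tits ovoid over a finite field with `q` elements has `q² + 1` points. -/
theorem result {F : Type*} [Field F] [Fintype F] (m : ℕ) :
    Nat.card (Cfsg.suzukiOvoid F m) = Fintype.card F ^ 2 + 1 := by
  classical
  set σ := 2 ^ (m + 1) with hσ
  have hne1 : (![1, 0, 0, 0] : Fin 4 → F) ≠ 0 := by
    intro h; have := congrFun h 0; simp at this
  have hne2 : ∀ x y : F, (![x * y + x ^ (σ + 2) + y ^ σ, y, x, 1] : Fin 4 → F) ≠ 0 := by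
    intro x y h; have := congrFun h 3; simp at this
  let f : Option (F × F) → Projectivization F (Fin 4 → F) := fun o =>
    match o with
    | none => Projectivization.mk F ![1, 0, 0, 0] hne1
    | some (x, y) => Projectivization.mk F ![x * y + x ^ (σ + 2) + y ^ σ, y, x, 1] (hne2 x y)
  have hinj : Function.Injective f := by
    intro o1 o2 h
    rcases o1 with _ | ⟨x1, y1⟩ <;> rcases o2 with _ | ⟨x2, y2⟩
    · rfl
    · exfalso
      obtain ⟨a, ha⟩ := (Projectivization.mk_eq_mk_iff' F _ _ _ _).mp h
      have h3 := congrFun ha 3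
      have h0 := congrFun ha 0
      simp at h3 h0
      rw [h3] at h0; simp at h0
    · exfalso
      obtain ⟨a, ha⟩ := (Projectivization.mk_eq_mk_iff' F _ _ _ _).mp h
      have h3 := congrFun ha 3
      simp at h3
    · obtain ⟨a, ha⟩ := (Projectivization.mk_eq_mk_iff' F _ _ _ _).mp h
      have h3 := congrFun ha 3
      have h2 := congrFun ha 2
      have h1 := congrFun ha 1
      simp at h3 h2 h1
      rw [h3] at h2 h1
      simp at h2 h1
      rw [h1, h2]
  have hrange : Set.range f = Cfsg.suzukiOvoid F m := by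
    ext p
    constructor
    · rintro ⟨o, rfl⟩
      rcases o with _ | ⟨x, y⟩
      · exact ⟨_, hne1, rfl, Or.inl rfl⟩
      · exact ⟨_, hne2 x y, rfl, Or.inr ⟨x, y, rfl⟩⟩
    · rintro ⟨v, hv, rfl, h | ⟨x, y, h⟩⟩
      · subst h; exact ⟨none, rfl⟩
      · subst h; exact ⟨some (x, y), rfl⟩
  rw [← hrange, Nat.card_range_of_injective hinj, Nat.card_eq_fintype_card, Fintype.card_option,
    Fintype.card_prod, sq]

end Cfsg.Agent.S0326
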