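import Cfsg.Statements.S3356
import Cfsg.Agent.Helper10.HalfTransD

set_option autoImplicit false
open Cfsg

namespace Cfsg.Agent.S3356

/-- Let G be a finite 3/2-transitive permutation group: G acts faithfully and transitively on a finite set, the point stabilizers are non-trivial, and for each point a all orbits of G_a on the remaining points have the same size. Suppose G has a regular normal subgroup N and G is not a Frobenius group (some two-point stabilizer is non-trivial). Then N is an elementary abelian p-group for some prime p, and every non-trivial normal subgroup of G contains N (so N is the unique minimal normal subgroup). -/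
theorem result {G Ω : Type*} [Group G] [Finite G]
    [MulAction G Ω] [FaithfulSMul G Ω] [Finite Ω] (htrans : MulAction.IsPretransitive G Ω)
    (hne : ∀ a : Ω, MulAction.stabilizer G a ≠ ⊥)
    (hhalf : ∀ a b c : Ω, b ≠ a → c ≠ a →
      Nat.card (MulAction.orbit (MulAction.stabilizer G a) b) = Nat.card (MulAction.orbit (MulAction.stabilizer G a) c))
    (N : Subgroup G) [hN : N.Normal] (hNt : MulAction.IsPretransitive N Ω) (hNr : ∀ a : Ω, MulAction.stabilizer N a = ⊥)
    (hnotF : ∃ a b : Ω, a ≠ b ∧ MulAction.stabilizer G a ⊓ MulAction.stabilizer G b ≠ ⊥) :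
    (∃ p : ℕ, p.Prime ∧ IsMulCommutative N ∧ ∀ x ∈ N, x ^ p = 1) ∧
    (∀ M : Subgroup G, M.Normal → M ≠ ⊥ → N ≤ M) := by
  classical
  obtain ⟨a, b0, hab, hst⟩ := hnotF
  -- regularity of N
  have hreg : ∀ m n : N, (m : G) • a = (n : G) • a → m = n := by
    intro m n h
    have h1 : n⁻¹ * m ∈ MulAction.stabilizer N a := by
      rw [MulAction.mem_stabilizer_iff]
      show ((n⁻¹ * m : N) : G) • a = a
      rw [Subgroup.coe_mul, mul_smul, h, ← mul_smul]
      simp
    rw [hNr a, Subgroup.mem_bot] at h1
    exact (inv_mul_eq_one.mp h1).symm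
  have hNtr : ∀ b : Ω, ∃ n : N, (n : G) • a = b := fun b => MulAction.exists_smul_eq N a b
  let φ : ↥(MulAction.stabilizer G a) →* MulAut N :=
    (MulAut.conjNormal (H := N)).comp (Subgroup.subtype _)
  let _ : MulDistribMulAction (MulAction.stabilizer G a) N := MulDistribMulAction.compHom N φ
  have hsmul : ∀ (σ : MulAction.stabilizer G a) (n : N), ((σ • n : N) : G) = σ * n * (σ : G)⁻¹ :=
    fun σ n => rfl
  -- translation: σ fixes n iff σ fixes n • a
  have htr : ∀ (σ : MulAction.stabilizer G a) (n : N), σ • n = n ↔ (σ : G) • ((n : G) • a) = (n : G) • a := by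
    intro σ n
    have hσ : (σ : G) • a = a := σ.2
    have h1 : (σ : G) • ((n : G) • a) = ((σ • n : N) : G) • a := by
      rw [hsmul, mul_smul, mul_smul]
      congr 2
      rw [eq_inv_smul_iff, hσ]
    rw [h1]
    constructor
    · intro h; rw [h]
    · intro h; exact hreg _ _ h
  have hstab : ∀ n : N, MulAction.stabilizer (MulAction.stabilizer G a) n =
      MulAction.stabilizer (MulAction.stabilizer G a) ((n : G) • a) := by
    intro n
    ext σ
    rw [MulAction.mem_stabilizer_iff, MulAction.mem_stabilizer_iff, htr]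
    rfl
  have : FaithfulSMul (MulAction.stabilizer G a) N := by
    constructor
    intro σ τ h
    apply Subtype.ext
    apply FaithfulSMul.eq_of_smul_eq_smul (α := Ω)
    intro b
    obtain ⟨n, rfl⟩ := hNtr b
    have hσ : (σ : G) • a = a := σ.2
    have hτ : (τ : G) • a = a := τ.2
    have h1 : ∀ ρ : MulAction.stabilizer G a, (ρ : G) • ((n : G) • a) = ((ρ • n : N) : G) • a := by
      intro ρ
      have hρ : (ρ : G) • a = a := ρ.2
      rw [hsmul, mul_smul, mul_smul]
      congr 2
      rw [eq_inv_smul_iff, hρ]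
    rw [h1 σ, h1 τ, h n]
  have hhalf' : ∀ x y : N, x ≠ 1 → y ≠ 1 →
      Nat.card (MulAction.stabilizer (MulAction.stabilizer G a) x) =
        Nat.card (MulAction.stabilizer (MulAction.stabilizer G a) y) := by
    intro x y hx hy
    rw [hstab x, hstab y]
    have hxa : (x : G) • a ≠ a := by
      intro h
      apply hx
      apply hreg
      rw [h]; simp
    have hya : (y : G) • a ≠ a := by
      intro h
      apply hy
      apply hreg
      rw [h]; simp
    have h1 := hhalf a _ _ hxa hya
    have e1 := Subgroup.index_mul_card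
      (MulAction.stabilizer (MulAction.stabilizer G a) ((x : G) • a))
    have e2 := Subgroup.index_mul_card
      (MulAction.stabilizer (MulAction.stabilizer G a) ((y : G) • a))
    rw [MulAction.index_stabilizer, ← Nat.card_coe_set_eq] at e1 e2
    rw [h1, ← e2] at e1
    have hpos : 0 < Nat.card (MulAction.orbit (MulAction.stabilizer G a) ((y : G) • a)) := by
      have : Nonempty (MulAction.orbit (MulAction.stabilizer G a) ((y : G) • a)) :=
        ⟨⟨_, MulAction.mem_orbit_self _⟩⟩
      exact Nat.card_pos
    exact Nat.eq_of_mul_eq_mul_left hpos e1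
  have hns : ∃ x : N, x ≠ 1 ∧ MulAction.stabilizer (MulAction.stabilizer G a) x ≠ ⊥ := by
    obtain ⟨x0, hx0⟩ := hNtr b0
    refine ⟨x0, ?_, ?_⟩
    · rintro rfl
      apply hab
      rw [← hx0]; simp
    · rw [hstab x0, hx0]
      obtain ⟨g, hg, hg1⟩ := (Subgroup.ne_bot_iff_exists_ne_one (H := _)).mp hst |> fun ⟨w, h⟩ =>
        (⟨w.1, w.2, fun h1 => h (Subtype.ext h1)⟩ :
          ∃ g : G, g ∈ MulAction.stabilizer G a ⊓ MulAction.stabilizer G b0 ∧ g ≠ 1)
      intro hbot
      have : (⟨g, hg.1⟩ : MulAction.stabilizer G a) ∈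
          MulAction.stabilizer (MulAction.stabilizer G a) b0 := by
        rw [MulAction.mem_stabilizer_iff]
        exact hg.2
      rw [hbot, Subgroup.mem_bot] at this
      exact hg1 (congrArg Subtype.val this)
  obtain ⟨p, hp, hcomm, hexp⟩ := Cfsg.Agent.Helper10.HalfTrans.elemAb hhalf' hns
  refine ⟨⟨p, hp, ⟨⟨fun x y => hcomm x y⟩⟩, fun x hx => ?_⟩, ?_⟩
  · have := hexp ⟨x, hx⟩
    exact congrArg Subtype.val this
  intro M hM hMbot
  have hirr := Cfsg.Agent.Helper10.HalfTrans.irreducible hhalf' hns (M.subgroupOf N) (by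
    intro σ w hw
    rw [Subgroup.mem_subgroupOf] at hw ⊢
    rw [hsmul]
    exact hM.conj_mem _ hw _)
  rcases hirr with hbot | htop
  · exfalso
    apply hMbot
    rw [Subgroup.subgroupOf_eq_bot] at hbot
    rw [eq_bot_iff]
    intro g hg
    rw [Subgroup.mem_bot]
    have hc : ∀ n : N, Commute g (n : G) := fun n =>
      Subgroup.commute_of_normal_of_disjoint M N hM hN hbot g n hg n.2
    obtain ⟨n, hn⟩ := hNtr (g • a)
    have ht : (n : G)⁻¹ * g = 1 := by
      apply FaithfulSMul.eq_of_smul_eq_smul (α := Ω)
      intro b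
      obtain ⟨m, rfl⟩ := hNtr b
      rw [one_smul, ← mul_smul, mul_assoc, (hc m).eq, ← mul_assoc]
      have hnm : (n : G)⁻¹ * (m : G) = (m : G) * (n : G)⁻¹ := by
        have := hcomm n⁻¹ m
        exact congrArg Subtype.val this
      rw [hnm, mul_assoc, mul_smul, mul_smul, ← hn, inv_smul_smul]
    have hgn : g = n := by
      rw [inv_mul_eq_one] at ht
      exact ht.symm
    have : g ∈ M ⊓ N := ⟨hg, hgn ▸ n.2⟩
    rw [hbot.eq_bot] at this
    exact this
  · exact Subgroup.subgroupOf_eq_top.mp htop

end Cfsg.Agent.S3356
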