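import Cfsg.Statements.S0341
import Cfsg.Agent.S3356
import Cfsg.Agent.Helper1.FrobGroup
import Cfsg.Agent.Helper10.ZassRegA
import Cfsg.Agent.Helper10.ZassRegB

set_option autoImplicit false
open Cfsg

namespace Cfsg.Agent.S0341

/-- If a finite group acts faithfully and doubly transitively, no non-identity element fixes three points, some
non-identity element fixes two points, and some normal subgroup acts regularly, then the number of points
is `2^p` with `p` prime. -/
theorem result {G Ω : Type*} [Group G]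
    [MulAction G Ω] [Fintype Ω] [FaithfulSMul G Ω] (h2 : MulAction.IsMultiplyPretransitive G Ω 2)
    (h3 : ∀ g : G, ∀ a b c : Ω, a ≠ b → b ≠ c → a ≠ c → g • a = a → g • b = b → g • c = c → g = 1)
    (hfix : ∃ g : G, g ≠ 1 ∧ ∃ a b : Ω, a ≠ b ∧ g • a = a ∧ g • b = b)
    (N : Subgroup G) [N.Normal] (hNt : MulAction.IsPretransitive N Ω)
    (hNr : ∀ a : Ω, MulAction.stabilizer N a = ⊥) :
    ∃ p : ℕ, p.Prime ∧ Fintype.card Ω = 2 ^ p := by
  classical
  have : Finite G := Finite.of_injective (MulAction.toPermHom G Ω) MulAction.toPerm_injective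
  obtain ⟨g0, hg0, a, b, hab, hga, hgb⟩ := hfix
  have h2' : ∀ {a b c d : Ω}, a ≠ b → c ≠ d → ∃ g : G, g • a = c ∧ g • b = d :=
    fun {a b c d} hab hcd => (MulAction.is_two_pretransitive_iff.mp h2) hab hcd
  -- a third point
  obtain ⟨c, hc⟩ : ∃ c, g0 • c ≠ c := by
    by_contra hcon
    apply hg0
    apply FaithfulSMul.eq_of_smul_eq_smul (α := Ω)
    intro c
    rw [one_smul]
    by_contra h
    exact hcon ⟨c, h⟩
  have hca : c ≠ a := fun h => hc (h ▸ hga)
  have hcb : c ≠ b := fun h => hc (h ▸ hgb)
  -- regularity of N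
  have hreg : ∀ m n : N, (m : G) • a = (n : G) • a → m = n := by
    intro m n h
    have h1 : n⁻¹ * m ∈ MulAction.stabilizer N a := by
      rw [MulAction.mem_stabilizer_iff]
      show ((n⁻¹ * m : N) : G) • a = a
      rw [Subgroup.coe_mul, mul_smul, h, ← mul_smul]
      simp
    rw [hNr a, Subgroup.mem_bot] at h1
    exact (inv_mul_eq_one.mp h1).symm
  have hNtr : ∀ d : Ω, ∃ n : N, (n : G) • a = d := fun d => MulAction.exists_smul_eq N a d
  -- fixed points of nonidentity elements fixing a, b
  have hfix2 : ∀ x : G, x ≠ 1 → x • a = a → x • b = b → ∀ d, x • d = d → d = a ∨ d = b := by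
    intro x hx hxa hxb d hd
    by_contra hcon
    rw [not_or] at hcon
    exact hx (h3 x a b d hab (Ne.symm hcon.2) (Ne.symm hcon.1) hxa hxb hd)
  -- elementary abelian via S3356
  have hpre : MulAction.IsPretransitive G Ω :=
    MulAction.isPretransitive_of_is_two_pretransitive (h2 := h2)
  have horb : ∀ a' b' : Ω, b' ≠ a' →
      MulAction.orbit (MulAction.stabilizer G a') b' = {d | d ≠ a'} := by
    intro a' b' hb'
    ext d
    constructor
    · rintro ⟨h, rfl⟩ hd
      apply hb'
      have h0 : (h : G) • b' = a' := hd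
      have h1 : (h : G) • a' = a' := h.2
      exact MulAction.injective (h : G) (h0.trans h1.symm)
    · intro hd
      obtain ⟨g, hg1, hg2⟩ := h2' (Ne.symm hb') (Ne.symm hd)
      exact ⟨⟨g, hg1⟩, hg2⟩
  have hhalf : ∀ a' b' c' : Ω, b' ≠ a' → c' ≠ a' →
      Nat.card (MulAction.orbit (MulAction.stabilizer G a') b') =
        Nat.card (MulAction.orbit (MulAction.stabilizer G a') c') := by
    intro a' b' c' hb' hc'
    rw [horb a' b' hb', horb a' c' hc']
  have hne : ∀ a' : Ω, MulAction.stabilizer G a' ≠ ⊥ := by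
    intro a' hbot
    obtain ⟨g, hg⟩ := MulAction.exists_smul_eq G a a'
    have h1 : g * g0 * g⁻¹ ∈ MulAction.stabilizer G a' := by
      rw [MulAction.mem_stabilizer_iff, mul_smul, mul_smul, ← hg, inv_smul_smul, hga]
    rw [hbot, Subgroup.mem_bot] at h1
    apply hg0
    have : g0 = g⁻¹ * (g * g0 * g⁻¹) * g := by group
    rw [this, h1]; group
  have hnotF : ∃ a' b' : Ω, a' ≠ b' ∧ MulAction.stabilizer G a' ⊓ MulAction.stabilizer G b' ≠ ⊥ := by
    refine ⟨a, b, hab, fun hbot => ?_⟩
    have h1 : g0 ∈ MulAction.stabilizer G a ⊓ MulAction.stabilizer G b := ⟨hga, hgb⟩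
    rw [hbot, Subgroup.mem_bot] at h1
    exact hg0 h1
  obtain ⟨⟨q, hq, hcommI, hexpq⟩, -⟩ :=
    Cfsg.Agent.S3356.result hpre hne hhalf N hNt hNr hnotF
  have hcomm : ∀ u v : N, u * v = v * u := fun u v => hcommI.is_comm.comm u v
  -- the element nb
  obtain ⟨nb, hnb⟩ := hNtr b
  have hnb1 : nb ≠ 1 := by
    rintro rfl
    apply hab
    rw [← hnb]; simp
  have hconj : ∀ x : G, x • a = a → ∀ n : G, x • (n • a) = (x * n * x⁻¹) • a := by
    intro x hx n
    rw [mul_smul, mul_smul]
    congr 2
    rw [eq_inv_smul_iff, hx]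
  have hcent : ∀ x : G, x ≠ 1 → x • a = a → x • b = b → ∀ n : N, x * n * x⁻¹ = n →
      n = 1 ∨ n = nb := by
    intro x hx hxa hxb n hn
    have h1 : x • ((n : G) • a) = (n : G) • a := by rw [hconj x hxa, hn]
    rcases hfix2 x hx hxa hxb _ h1 with h | h
    · left
      apply hreg
      rw [h]; simp
    · right
      apply hreg
      rw [h, hnb]
  have hcent' : ∀ x : G, x • a = a → x • b = b → x * nb * x⁻¹ = nb := by
    intro x hxa hxb
    have h1 : (⟨x * nb * x⁻¹, ‹N.Normal›.conj_mem nb nb.2 x⟩ : N) = nb := by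
      apply hreg
      show (x * nb * x⁻¹) • a = (nb : G) • a
      rw [← hconj x hxa, hnb, hxb]
    exact congrArg Subtype.val h1
  have hnb2 : nb * nb = 1 := by
    have h1 : g0 * ((nb * nb : N) : G) * g0⁻¹ = ((nb * nb : N) : G) := by
      rw [Subgroup.coe_mul]
      have : g0 * ((nb : G) * nb) * g0⁻¹ = (g0 * nb * g0⁻¹) * (g0 * nb * g0⁻¹) := by group
      rw [this, hcent' g0 hga hgb]
    rcases hcent g0 hg0 hga hgb _ h1 with h | h
    · exact h
    · exfalso
      apply hnb1
      have : nb * nb = nb * 1 := by rw [h, mul_one]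
      exact mul_left_cancel this
  have hord : orderOf nb = 2 := by
    apply orderOf_eq_prime
    · rw [pow_two]; exact hnb2
    · exact hnb1
  have hq2 : q = 2 := by
    have h1 : (nb : G) ^ q = 1 := hexpq nb nb.2
    have h2 : nb ^ q = 1 := by
      apply Subtype.ext
      rw [Subgroup.coe_pow]; exact h1
    have h3 : 2 ∣ q := by rw [← hord]; exact orderOf_dvd_of_pow_eq_one h2
    exact ((Nat.prime_dvd_prime_iff_eq Nat.prime_two hq).mp h3).symm
  have hexp2 : ∀ v : N, v * v = 1 := by
    intro v
    have h1 : (v : G) ^ q = 1 := hexpq v v.2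
    apply Subtype.ext
    rw [Subgroup.coe_mul, ← pow_two, ← hq2]; exact h1
  -- cardinality of Ω
  have hcardN : Nat.card N = Fintype.card Ω := by
    have h1 := MulAction.index_stabilizer_of_transitive N a
    rw [hNr a, Subgroup.index_bot] at h1
    rw [h1, Nat.card_eq_fintype_card]
  have hthree : 3 ≤ Fintype.card Ω := by
    have : ({a, b, c} : Finset Ω).card = 3 := by
      rw [Finset.card_insert_of_notMem, Finset.card_insert_of_notMem, Finset.card_singleton]
      · simp [Ne.symm hcb]
      · simp [hab, Ne.symm hca]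
    rw [← this]
    exact Finset.card_le_univ _
  -- the Frobenius group H = G_a with complement C = G_ab
  set H := MulAction.stabilizer G a with hH
  set C : Subgroup H := MulAction.stabilizer H b with hCdef
  have hCfrob : Cfsg.IsFrobeniusComplement C := by
    refine ⟨?_, ?_, ?_⟩
    · intro hbot
      have h1 : (⟨g0, hga⟩ : H) ∈ C := by
        rw [hCdef, MulAction.mem_stabilizer_iff]; exact hgb
      rw [hbot, Subgroup.mem_bot] at h1
      exact hg0 (congrArg Subtype.val h1)
    · intro htop
      obtain ⟨g, hg1, hg2⟩ := h2' hab (Ne.symm hca)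
      have h1 : (⟨g, hg1⟩ : H) ∈ C := by rw [htop]; trivial
      rw [hCdef, MulAction.mem_stabilizer_iff] at h1
      have h4 : g • b = b := h1
      rw [hg2] at h4
      exact hcb h4
    · intro h hh
      rw [eq_bot_iff]
      rintro x ⟨hx1, hx2⟩
      rw [Subgroup.mem_bot]
      obtain ⟨y, hy, hyx⟩ := (Subgroup.mem_smul_pointwise_iff_exists _ _ _).mp hx2
      have hyb : (y : G) • b = b := hy
      have hxb : (x : G) • b = b := hx1
      have hxa : (x : G) • a = a := x.2
      have hha : (h : G) • a = a := h.2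
      have hxe : (x : G) = h * y * (h : G)⁻¹ := by
        rw [← hyx]; rfl
      have hxhb : (x : G) • ((h : G) • b) = (h : G) • b := by
        rw [hxe, mul_smul, mul_smul, inv_smul_smul, hyb]
      have hhb : (h : G) • b ≠ b := by
        intro hcon
        apply hh
        rw [hCdef, MulAction.mem_stabilizer_iff]
        exact hcon
      have hhba : (h : G) • b ≠ a := by
        intro hcon
        rw [← hha] at hcon
        exact hab (MulAction.injective (h : G) hcon).symm
      apply Subtype.ext
      exact h3 (x : G) a b ((h : G) • b) hab (Ne.symm hhb) (Ne.symm hhba) hxa hxb hxhb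
  obtain ⟨K, hK, hKn, hKcomp⟩ := Cfsg.Agent.S0035.result C hCfrob
  -- a prime-order element of C
  have hCne : Nat.card C ≠ 1 := by
    intro h
    exact hCfrob.1 ((Subgroup.card_eq_one).mp h)
  obtain ⟨ℓ, hℓ, hℓdvd⟩ := Nat.exists_prime_and_dvd hCne
  have : Fact ℓ.Prime := ⟨hℓ⟩
  obtain ⟨x, hx⟩ := exists_prime_orderOf_dvd_card' ℓ hℓdvd
  have hx1 : x ≠ 1 := by
    rintro rfl
    rw [orderOf_one] at hx
    exact hℓ.one_lt.ne hx
  have hxG1 : ((x : H) : G) ≠ 1 := by
    intro h
    apply hx1
    apply Subtype.ext; apply Subtype.ext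
    exact h
  have hxa : ((x : H) : G) • a = a := (x : H).2
  have hxb : ((x : H) : G) • b = b := x.2
  by_cases hℓ2 : ℓ = 2
  · -- involution case
    have hxx : ((x : H) : G) * ((x : H) : G) = 1 := by
      have h1 : x ^ 2 = 1 := by rw [← hℓ2, ← hx]; exact pow_orderOf_eq_one x
      have h2 := congrArg (fun t : C => ((t : H) : G)) h1
      simpa [pow_two] using h2
    have h4 := Cfsg.Agent.Helper10.ZassReg.card_le_four_of_involution N hcomm hexp2
      ((x : H) : G) hxx nb (hcent _ hxG1 hxa hxb)
    have h5 : 2 ∣ Nat.card N := by rw [← hord]; exact orderOf_dvd_natCard nb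
    refine ⟨2, Nat.prime_two, ?_⟩
    rw [← hcardN]
    rw [← hcardN] at hthree
    omega
  · -- odd case
    let _ : CommGroup N := { (inferInstance : Group N) with mul_comm := hcomm }
    let φ : H →* Monoid.End N :=
      { toFun := fun h => (MulAut.conjNormal (h : G) : N ≃* N).toMonoidHom
        map_one' := MonoidHom.ext fun v => Subtype.ext (by
          show ((1 : H) : G) * v * ((1 : H) : G)⁻¹ = v
          simp)
        map_mul' := fun h1 h2 => MonoidHom.ext fun v => Subtype.ext (by
          show ((h1 * h2 : H) : G) * v * ((h1 * h2 : H) : G)⁻¹ =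
            (h1 : G) * ((h2 : G) * v * (h2 : G)⁻¹) * (h1 : G)⁻¹
          simp [mul_assoc]) }
    have hφ : ∀ (h : H) (v : N), ((φ h v : N) : G) = h * v * (h : G)⁻¹ := fun h v => rfl
    have hKodd : Odd (Nat.card K) := by
      have h1 : Nat.card K = C.index :=
        Cfsg.Agent.Helper1.FrobGroup.card_kernel hCfrob hK
      have h2 : C.index = (MulAction.orbit H b).ncard := MulAction.index_stabilizer H b
      have h3' : MulAction.orbit H b = {d | d ≠ a} := horb a b (Ne.symm hab)
      have h4 : ({d | d ≠ a} : Set Ω).ncard = Fintype.card Ω - 1 := by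
        have : ({d | d ≠ a} : Set Ω) = ({a} : Set Ω)ᶜ := by ext; simp
        rw [this, Set.ncard_compl, Set.ncard_singleton, Nat.card_eq_fintype_card]
      rw [h1, h2, h3', h4, ← hcardN]
      have h5 : 2 ∣ Nat.card N := by rw [← hord]; exact orderOf_dvd_natCard nb
      have h6 : 0 < Nat.card N := Nat.card_pos
      obtain ⟨m, hm⟩ := h5
      exact ⟨m - 1, by omega⟩
    have hfixK : ∀ v : N, (∀ k ∈ K, φ k v = v) → v = 1 := by
      intro v hv
      by_contra hv1
      -- every element of K fixes the point v • a ≠ a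
      have hva : (v : G) • a ≠ a := by
        intro h
        apply hv1
        apply hreg
        rw [h]; simp
      -- some h ∈ H maps b to v • a
      obtain ⟨g, hg1, hg2⟩ := h2' hab (Ne.symm hva)
      have hKbot : K = ⊥ := by
        rw [eq_bot_iff]
        intro k hk
        rw [Subgroup.mem_bot]
        have h1 : ((k : G)) • ((v : G) • a) = (v : G) • a := by
          rw [hconj (k : G) k.2]
          have := congrArg Subtype.val (hv k hk)
          rw [hφ] at this
          rw [this]
        -- then g⁻¹ k g ∈ C ∩ K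
        set gH : H := ⟨g, hg1⟩ with hgH
        have h2 : gH⁻¹ * k * gH ∈ C := by
          rw [hCdef, MulAction.mem_stabilizer_iff]
          show ((gH⁻¹ * k * gH : H) : G) • b = b
          simp only [Subgroup.coe_mul, Subgroup.coe_inv, hgH]
          rw [mul_smul, mul_smul, hg2, h1, ← hg2, inv_smul_smul]
        have h3' : gH⁻¹ * k * gH ∈ K := by
          have := hKn.conj_mem k hk gH⁻¹
          simpa using this
        have h4 := Cfsg.Agent.Helper1.FrobGroup.disjoint hK h3' h2
        have : k = gH * (gH⁻¹ * k * gH) * gH⁻¹ := by group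
        rw [this, h4]; group
      exact Cfsg.Agent.Helper1.FrobGroup.kernel_ne_bot hCfrob hK hKbot
    have hfixx : Nat.card {v : N // φ (x : H) v = v} = 2 := by
      rw [Nat.card_eq_two_iff]
      refine ⟨⟨1, map_one _⟩, ⟨nb, ?_⟩, ?_, ?_⟩
      · apply Subtype.ext
        rw [hφ]
        exact hcent' _ hxa hxb
      · intro h
        apply hnb1
        exact (congrArg Subtype.val h).symm
      · ext ⟨v, hv⟩
        simp only [Set.mem_insert_iff, Set.mem_singleton_iff, Set.mem_univ, iff_true]
        have h1 : ((x : H) : G) * v * ((x : H) : G)⁻¹ = v := by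
          have := congrArg Subtype.val hv
          rw [hφ] at this
          exact this
        rcases hcent _ hxG1 hxa hxb v h1 with h | h
        · left; exact Subtype.ext h
        · right; exact Subtype.ext h
    have hexp' : ∀ v : N, v ^ 2 = 1 := fun v => by rw [pow_two]; exact hexp2 v
    have hxo : orderOf (x : H) = ℓ := by
      rw [← hx]; exact Subgroup.orderOf_coe x
    have key := Cfsg.Agent.Helper10.ZassReg.card_eq_two_pow φ C K hCfrob hK hKodd hexp'
      (x : H) x.2 ℓ hℓ hℓ2 hxo hfixK hfixx
    exact ⟨ℓ, hℓ, by rw [← hcardN]; exact key⟩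

end Cfsg.Agent.S0341
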