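import Mathlib
import Cfsg.Statements.S0345
import Cfsg.Agent.S0729
import Cfsg.Agent.Helper3.Sh3NSe

set_option autoImplicit false
set_option linter.style.haveILetI false
open Cfsg

namespace Cfsg.Agent.S0345

/-- In a finite simple Zassenhaus group the stabiliser `H` of two points `a ≠ b` is cyclic, and some involution
interchanging `a` and `b` inverts every element of `H`. -/
theorem result {G Ω : Type*} [Group G] [Finite G] [MulAction G Ω] [Finite Ω]
    (hZ : Cfsg.IsZassenhausGroup G Ω) [IsSimpleGroup G]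
    {a b : Ω} (hab : a ≠ b) :
    IsCyclic ↥(MulAction.stabilizer G a ⊓ MulAction.stabilizer G b) ∧
      ∃ v : G, orderOf v = 2 ∧ v • a = b ∧ v • b = a ∧ ∀ h ∈ MulAction.stabilizer G a ⊓ MulAction.stabilizer G b, v * h * v⁻¹ = h⁻¹ := by
  classical
  letI : Fintype Ω := Fintype.ofFinite Ω
  rcases Nat.even_or_odd (Nat.card ↥(MulAction.stabilizer G a ⊓ MulAction.stabilizer G b)) with
    heven | hodd
  · exact Cfsg.Agent.Helper3.Sh3NS.cyclic_of_simple_even hZ hab heven
      (fun hev h6 G' h3 hsharp _ _ _ hab' hac' hbc' s hsa hsb hsc =>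
        Cfsg.Agent.S0729.result hev h6 G' h3 hsharp hab' hac' hbc' s hsa hsb hsc)
  · obtain ⟨hcyc, -, hinv⟩ := Cfsg.Agent.Helper16.ZassOdd.main hZ hab hodd
      (Cfsg.Agent.Helper20.Zass.hnil_of_simple hZ hab hodd)
    obtain ⟨⟨v, hv2, hva, hvb⟩, -, -⟩ := Cfsg.Agent.Helper4.zassenhaus_involutions hZ hab
    exact ⟨hcyc, v, hv2, hva, hvb, hinv v hva hvb⟩

end Cfsg.Agent.S0345
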