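import Mathlib
import Cfsg.Statements.S0346
import Cfsg.Agent.S0729
import Cfsg.Agent.S0742
import Cfsg.Agent.S0885
import Cfsg.Agent.Helper3.Sh3NSe
import Cfsg.Agent.Helper3.FeitCor
import Cfsg.Agent.Helper3.ZassPSLa
import Cfsg.Agent.Helper4.Zassenhaus3

set_option autoImplicit false
set_option linter.style.haveILetI false
open Cfsg

namespace Cfsg.Agent.S0346

/-- The number of points of a finite simple Zassenhaus group is `p^k + 1` for some prime power `p^k` (the regular normal
subgroup of a point stabiliser is a `p`-group). -/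
theorem result {G Ω : Type*} [Group G] [Finite G] [MulAction G Ω] [Fintype Ω]
    (hZ : Cfsg.IsZassenhausGroup G Ω) [IsSimpleGroup G] :
    IsPrimePow (Fintype.card Ω - 1) := by
  classical
  have h3 := Cfsg.Agent.Helper5.Zassenhaus.three_le_card hZ
  obtain ⟨a, b, hab⟩ : ∃ a b : Ω, a ≠ b := by
    have : 1 < Fintype.card Ω := by omega
    exact Fintype.one_lt_card_iff.1 this
  rcases Nat.even_or_odd (Nat.card ↥(MulAction.stabilizer G a ⊓ MulAction.stabilizer G b)) with
    heven | hodd
  · have h1 := Cfsg.Agent.Helper3.Sh3NS.card_eq_of_simple hZ hab heven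
      (fun hev h6 G' h3 hsharp _ _ _ hab' hac' hbc' s hsa hsb hsc =>
        Cfsg.Agent.S0729.result hev h6 G' h3 hsharp hab' hac' hbc' s hsa hsb hsc)
    obtain ⟨p, f, K, fK, ftK, hp, hp2, hK, hΩ, -⟩ := Cfsg.Agent.S0742.result hZ hab heven h1.le
    rw [hΩ, Nat.add_sub_cancel]
    have hf : f ≠ 0 := by
      rintro rfl
      rw [pow_zero] at hΩ
      omega
    exact hp.isPrimePow.pow hf
  · obtain ⟨F, hFle, hFn, hreg⟩ := Cfsg.Agent.Helper3.ZassPSL.exists_kernel hZ hab
    obtain ⟨hFcard, hFfix⟩ := Cfsg.Agent.Helper3.Feit.kernel_facts hab F hFle hreg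
    rcases Cfsg.Agent.S0885.result hZ hab (Fintype.card Ω - 1)
      (Nat.card ↥(MulAction.stabilizer G a ⊓ MulAction.stabilizer G b)) (by omega) rfl hodd
      F hFle hFcard hFfix with hle | ⟨h2, -, -⟩
    · obtain ⟨-, p, f, hp, -, hΩ⟩ := Cfsg.Agent.Helper4.zassenhaus_kernel_elementary hZ hab
        (by omega) F hFle hFn hreg
      rw [hΩ, Nat.add_sub_cancel]
      have hf : f ≠ 0 := by
        rintro rfl
        rw [pow_zero] at hΩ
        omega
      exact hp.isPrimePow.pow hf
    · obtain ⟨k, hk⟩ := IsPGroup.exists_card_eq h2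
      have h4 : Fintype.card Ω - 1 = 2 ^ k := by omega
      rw [h4]
      have hk0 : k ≠ 0 := by
        rintro rfl
        rw [pow_zero] at h4
        omega
      exact Nat.prime_two.isPrimePow.pow hk0

end Cfsg.Agent.S0346
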