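import Cfsg.Statements.S0352
import Cfsg.Agent.Helper22.Steiner

set_option autoImplicit false
open Cfsg

namespace Cfsg.Agent.S0352

/-- In a Steiner system S(5, 8, 24), two distinct blocks intersect in 0, 2 or 4 points. -/
theorem result {α : Type*} [Fintype α] [DecidableEq α] (hα : Fintype.card α = 24) {B : Set (Finset α)} (hB : Cfsg.IsSteinerSystem 5 8 B) {b c : Finset α} (hb : b ∈ B) (hc : c ∈ B) (hbc : b ≠ c) : (b ∩ c).card = 0 ∨ (b ∩ c).card = 2 ∨ (b ∩ c).card = 4 := by
  open Cfsg.Agent.Helper22.Design in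
  have hsub : b ∩ c ⊆ b := Finset.inter_subset_left
  have hv := meet_5824_values hα hB hb (b ∩ c) hsub
  have hpos : 0 < meet (toFin B) b (b ∩ c) := by
    unfold meet
    rw [Finset.card_pos]
    exact ⟨c, by simp [mem_toFin, hc, Finset.inter_comm]⟩
  have h8 : b.card = 8 := hB.1 b hb
  have hle : (b ∩ c).card ≤ 8 := h8 ▸ Finset.card_le_card hsub
  have hne8 : (b ∩ c).card ≠ 8 := by
    intro h
    apply hbc
    exact block_eq_of_inter hB hb hc (by omega)
  rw [hv] at hpos
  interval_cases h : (b ∩ c).card <;> simp_all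

end Cfsg.Agent.S0352
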