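import Cfsg.Statements.S0353
import Mathlib
import Cfsg.Agent.S0352

set_option autoImplicit false
open Cfsg

namespace Cfsg.Agent.S0353

section
variable {α : Type*} [Fintype α] [DecidableEq α]

/-- two distinct blocks share at most 4 points; at least 3 common points force exactly 4 -/
theorem inter_card_le (hα : Fintype.card α = 24) {B : Set (Finset α)}
    (hB : Cfsg.IsSteinerSystem 5 8 B) {x y : Finset α} (hx : x ∈ B) (hy : y ∈ B) (hne : x ≠ y) :
    (x ∩ y).card ≤ 4 ∧ (3 ≤ (x ∩ y).card → (x ∩ y).card = 4) ∧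
      (1 ≤ (x ∩ y).card → (x ∩ y).card = 2 ∨ (x ∩ y).card = 4) := by
  rcases Cfsg.Agent.S0352.result hα hB hx hy hne with h | h | h <;> omega

theorem eq_of_five (hα : Fintype.card α = 24) {B : Set (Finset α)}
    (hB : Cfsg.IsSteinerSystem 5 8 B) {x y : Finset α} (hx : x ∈ B) (hy : y ∈ B)
    {s : Finset α} (hs : 5 ≤ s.card) (hsx : s ⊆ x) (hsy : s ⊆ y) : x = y := by
  by_contra hne
  have h1 := (inter_card_le hα hB hx hy hne).1
  have h2 : s.card ≤ (x ∩ y).card := Finset.card_le_card (Finset.subset_inter hsx hsy)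
  omega

/-- the block through `T1 ∪ {u}` -/
theorem block_through (hα : Fintype.card α = 24) {B : Set (Finset α)}
    (hB : Cfsg.IsSteinerSystem 5 8 B) {b c : Finset α} (hb : b ∈ B) (hc : c ∈ B)
    (h4 : (b ∩ c).card = 4) {u : α} (hu : u ∈ c \ b) :
    ∃ d ∈ B, b \ c ⊆ d ∧ u ∈ d ∧ d ∩ b = b \ c ∧ d ∩ c ⊆ c \ b ∧
      ((d ∩ c).card = 2 ∨ (d ∩ c).card = 4) := by
  have hb8 : b.card = 8 := hB.1 b hb
  have hT1 : (b \ c).card = 4 := by
    have := Finset.card_sdiff_add_card_inter b c
    omega
  rw [Finset.mem_sdiff] at hu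
  have hu1 : u ∉ b \ c := fun h => hu.2 (Finset.mem_sdiff.1 h).1
  have h5 : (insert u (b \ c)).card = 5 := by rw [Finset.card_insert_of_notMem hu1, hT1]
  obtain ⟨d, ⟨hd, hsd⟩, -⟩ := hB.2 _ h5
  have hT1d : b \ c ⊆ d := fun x hx => hsd (Finset.mem_insert_of_mem hx)
  have hud : u ∈ d := hsd (Finset.mem_insert_self _ _)
  have hdb : d ≠ b := fun h => hu.2 (h ▸ hud)
  have h1 : b \ c ⊆ d ∩ b := Finset.subset_inter hT1d Finset.sdiff_subset
  have h2 : (d ∩ b).card = 4 :=
    (inter_card_le hα hB hd hb hdb).2.1 (by have := Finset.card_le_card h1; omega)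
  have h3 : d ∩ b = b \ c := (Finset.eq_of_subset_of_card_le h1 (by omega)).symm
  have h4' : d ∩ c ⊆ c \ b := by
    intro x hx
    rw [Finset.mem_inter] at hx
    rw [Finset.mem_sdiff]
    refine ⟨hx.2, fun hxb => ?_⟩
    have : x ∈ d ∩ b := Finset.mem_inter.2 ⟨hx.1, hxb⟩
    rw [h3, Finset.mem_sdiff] at this
    exact this.2 hx.2
  obtain ⟨t, ht⟩ : (b \ c).Nonempty := Finset.card_pos.1 (by omega)
  have hdc : d ≠ c := fun h => (Finset.mem_sdiff.1 ht).2 (h ▸ hT1d ht)
  have h5' : 1 ≤ (d ∩ c).card :=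
    Finset.card_pos.2 ⟨u, Finset.mem_inter.2 ⟨hud, hu.1⟩⟩
  exact ⟨d, hd, hT1d, hud, h3, h4', (inter_card_le hα hB hd hc hdc).2.2 h5'⟩

end

/-- In an S(5, 8, 24), the symmetric difference of two blocks meeting in four points is a block. -/
theorem result {α : Type*} [Fintype α] [DecidableEq α] (hα : Fintype.card α = 24) {B : Set (Finset α)} (hB : Cfsg.IsSteinerSystem 5 8 B) {b c : Finset α} (hb : b ∈ B) (hc : c ∈ B) (h4 : (b ∩ c).card = 4) : symmDiff b c ∈ B := by
  have hb8 : b.card = 8 := hB.1 b hb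
  have hc8 : c.card = 8 := hB.1 c hc
  have hT1 : (b \ c).card = 4 := by
    have := Finset.card_sdiff_add_card_inter b c
    omega
  have hT2 : (c \ b).card = 4 := by
    have := Finset.card_sdiff_add_card_inter c b
    rw [Finset.inter_comm] at this
    omega
  have hdisj : Disjoint (b \ c) (c \ b) := by
    rw [Finset.disjoint_left]
    intro x hx hx'
    exact (Finset.mem_sdiff.1 hx').2 (Finset.mem_sdiff.1 hx).1
  have hsd : symmDiff b c = b \ c ∪ c \ b := rfl
  have hsd8 : (b \ c ∪ c \ b).card = 8 := by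
    rw [Finset.card_union_of_disjoint hdisj, hT1, hT2]
  obtain ⟨u1, hu1⟩ : (c \ b).Nonempty := Finset.card_pos.1 (by omega)
  obtain ⟨d, hd, hT1d, hu1d, hdb, hdc, hdcard⟩ := block_through hα hB hb hc h4 hu1
  have hd8 : d.card = 8 := hB.1 d hd
  rcases hdcard with h2 | h4'
  swap
  · -- `d ∩ c = c \ b`, so `d = symmDiff b c`
    have h1 : d ∩ c = c \ b := Finset.eq_of_subset_of_card_le hdc (by omega)
    have h3 : b \ c ∪ c \ b ⊆ d := by
      apply Finset.union_subset hT1d
      rw [← h1]
      exact Finset.inter_subset_left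
    have h5 : b \ c ∪ c \ b = d := Finset.eq_of_subset_of_card_le h3 (by omega)
    rw [hsd, h5]
    exact hd
  · exfalso
    -- a point `u3` of `c \ b` outside `d`
    have hex : ∃ u3 ∈ c \ b, u3 ∉ d := by
      by_contra hcon
      push Not at hcon
      have : c \ b ⊆ d ∩ c := fun x hx =>
        Finset.mem_inter.2 ⟨hcon x hx, (Finset.mem_sdiff.1 hx).1⟩
      have := Finset.card_le_card this
      omega
    obtain ⟨u3, hu3, hu3d⟩ := hex
    obtain ⟨d', hd', hT1d', hu3d', hd'b, hd'c, hd'card⟩ := block_through hα hB hb hc h4 hu3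
    have hdd' : d ≠ d' := fun h => hu3d (h ▸ hu3d')
    -- `d ∩ d' = b \ c`
    have h1 : b \ c ⊆ d ∩ d' := Finset.subset_inter hT1d hT1d'
    have h2' : (d ∩ d').card = 4 :=
      (inter_card_le hα hB hd hd' hdd').2.1 (by have := Finset.card_le_card h1; omega)
    have h3 : d ∩ d' = b \ c := (Finset.eq_of_subset_of_card_le h1 (by omega)).symm
    -- every point of `c \ b` lies in `d` or `d'`
    have hcover : ∀ y ∈ c \ b, y ∉ d → y ∈ d' := by
      intro y hy hyd
      by_contra hyd'
      -- `d ∩ c` and `d' ∩ c` are disjoint subsets of `(c \ b).erase y`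
      have hdj : Disjoint (d ∩ c) (d' ∩ c) := by
        rw [Finset.disjoint_left]
        intro x hx hx'
        have hx1 : x ∈ d ∩ d' :=
          Finset.mem_inter.2 ⟨(Finset.mem_inter.1 hx).1, (Finset.mem_inter.1 hx').1⟩
        rw [h3, Finset.mem_sdiff] at hx1
        exact hx1.2 (Finset.mem_inter.1 hx).2
      have hsub : d ∩ c ∪ d' ∩ c ⊆ (c \ b).erase y := by
        intro x hx
        rw [Finset.mem_union] at hx
        rw [Finset.mem_erase]
        rcases hx with hx | hx
        · exact ⟨fun h => hyd (h ▸ (Finset.mem_inter.1 hx).1), hdc hx⟩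
        · exact ⟨fun h => hyd' (h ▸ (Finset.mem_inter.1 hx).1), hd'c hx⟩
      have h5 := Finset.card_le_card hsub
      rw [Finset.card_union_of_disjoint hdj, Finset.card_erase_of_mem hy, hT2] at h5
      rcases hd'card with h6 | h6 <;> omega
    -- three points of `b \ c`
    obtain ⟨t4, ht4⟩ : (b \ c).Nonempty := Finset.card_pos.1 (by omega)
    set T' := (b \ c).erase t4 with hT'
    have hT'card : T'.card = 3 := by rw [hT', Finset.card_erase_of_mem ht4, hT1]
    have hT'sub : T' ⊆ b \ c := Finset.erase_subset _ _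
    have hu1b : u1 ∉ b := (Finset.mem_sdiff.1 hu1).2
    have hu3b : u3 ∉ b := (Finset.mem_sdiff.1 hu3).2
    have hu13 : u1 ≠ u3 := fun h => hu3d (h ▸ hu1d)
    have hT'b : ∀ x ∈ T', x ∈ b := fun x hx => (Finset.mem_sdiff.1 (hT'sub hx)).1
    have hT'c : ∀ x ∈ T', x ∉ c := fun x hx => (Finset.mem_sdiff.1 (hT'sub hx)).2
    have hF5 : (insert u1 (insert u3 T')).card = 5 := by
      rw [Finset.card_insert_of_notMem, Finset.card_insert_of_notMem, hT'card]
      · exact fun h => hu3b (hT'b _ h)
      · rw [Finset.mem_insert]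
        rintro (h | h)
        · exact hu13 h
        · exact hu1b (hT'b _ h)
    obtain ⟨g, ⟨hg, hFg⟩, -⟩ := hB.2 _ hF5
    have hu1g : u1 ∈ g := hFg (Finset.mem_insert_self _ _)
    have hu3g : u3 ∈ g := hFg (Finset.mem_insert_of_mem (Finset.mem_insert_self _ _))
    have hT'g : T' ⊆ g := fun x hx =>
      hFg (Finset.mem_insert_of_mem (Finset.mem_insert_of_mem hx))
    -- `t4 ∉ g`
    have ht4g : t4 ∉ g := by
      intro h
      have hT1g : b \ c ⊆ g := by
        intro x hx
        by_cases hx4 : x = t4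
        · rw [hx4]; exact h
        · exact hT'g (Finset.mem_erase.2 ⟨hx4, hx⟩)
      have h5 : 5 ≤ (insert u1 (b \ c)).card := by
        rw [Finset.card_insert_of_notMem (fun h => hu1b (Finset.mem_sdiff.1 h).1), hT1]
      have hgd : g = d := eq_of_five hα hB hg hd h5
        (Finset.insert_subset hu1g hT1g) (Finset.insert_subset hu1d hT1d)
      exact hu3d (hgd ▸ hu3g)
    have hgb : g ≠ b := fun h => hu1b (h ▸ hu1g)
    have h6 : T' ⊆ g ∩ b := fun x hx => Finset.mem_inter.2 ⟨hT'g hx, hT'b x hx⟩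
    have h7 : (g ∩ b).card = 4 :=
      (inter_card_le hα hB hg hb hgb).2.1 (by have := Finset.card_le_card h6; omega)
    obtain ⟨x, hx, hxT'⟩ := Finset.exists_mem_notMem_of_card_lt_card
      (by omega : T'.card < (g ∩ b).card)
    have hxg : x ∈ g := (Finset.mem_inter.1 hx).1
    have hxb : x ∈ b := (Finset.mem_inter.1 hx).2
    have hx4 : x ≠ t4 := fun h => ht4g (h ▸ hxg)
    have hxT1 : x ∉ b \ c := fun h => hxT' (Finset.mem_erase.2 ⟨hx4, h⟩)
    have hxc : x ∈ c := by
      by_contra h
      exact hxT1 (Finset.mem_sdiff.2 ⟨hxb, h⟩)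
    -- `g ∩ b = insert x T'`
    have h8 : g ∩ b = insert x T' := by
      symm
      apply Finset.eq_of_subset_of_card_le (Finset.insert_subset hx h6)
      rw [Finset.card_insert_of_notMem hxT', hT'card, h7]
    obtain ⟨t, ht⟩ : T'.Nonempty := Finset.card_pos.1 (by omega)
    have hgc : g ≠ c := fun h => hT'c t ht (h ▸ hT'g ht)
    have hxu1 : x ≠ u1 := fun h => hu1b (h ▸ hxb)
    have hxu3 : x ≠ u3 := fun h => hu3b (h ▸ hxb)
    have h9 : insert x (insert u1 {u3}) ⊆ g ∩ c := by
      intro z hz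
      simp only [Finset.mem_insert, Finset.mem_singleton] at hz
      rcases hz with rfl | rfl | rfl
      · exact Finset.mem_inter.2 ⟨hxg, hxc⟩
      · exact Finset.mem_inter.2 ⟨hu1g, (Finset.mem_sdiff.1 hu1).1⟩
      · exact Finset.mem_inter.2 ⟨hu3g, (Finset.mem_sdiff.1 hu3).1⟩
    have h9c : (insert x (insert u1 ({u3} : Finset α))).card = 3 := by
      rw [Finset.card_insert_of_notMem, Finset.card_insert_of_notMem, Finset.card_singleton]
      · simpa using hu13
      · simp only [Finset.mem_insert, Finset.mem_singleton]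
        rintro (h | h)
        · exact hxu1 h
        · exact hxu3 h
    have h10 : (g ∩ c).card = 4 :=
      (inter_card_le hα hB hg hc hgc).2.1 (by have := Finset.card_le_card h9; omega)
    obtain ⟨y, hy, hynot⟩ := Finset.exists_mem_notMem_of_card_lt_card
      (by omega : (insert x (insert u1 ({u3} : Finset α))).card < (g ∩ c).card)
    have hyg : y ∈ g := (Finset.mem_inter.1 hy).1
    have hyc : y ∈ c := (Finset.mem_inter.1 hy).2
    simp only [Finset.mem_insert, Finset.mem_singleton, not_or] at hynot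
    obtain ⟨hyx, hyu1, hyu3⟩ := hynot
    have hyb : y ∉ b := by
      intro h
      have : y ∈ g ∩ b := Finset.mem_inter.2 ⟨hyg, h⟩
      rw [h8, Finset.mem_insert] at this
      rcases this with h' | h'
      · exact hyx h'
      · exact hT'c y h' hyc
    have hyT2 : y ∈ c \ b := Finset.mem_sdiff.2 ⟨hyc, hyb⟩
    have hyT' : y ∉ T' := fun h => hyb (hT'b y h)
    by_cases hyd : y ∈ d
    · -- `g = d`
      have h5 : 5 ≤ (insert y (insert u1 T')).card := by
        rw [Finset.card_insert_of_notMem, Finset.card_insert_of_notMem, hT'card]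
        · exact fun h => hu1b (hT'b _ h)
        · rw [Finset.mem_insert]
          rintro (h | h)
          · exact hyu1 h
          · exact hyT' h
      have hgd : g = d := eq_of_five hα hB hg hd h5
        (Finset.insert_subset hyg (Finset.insert_subset hu1g hT'g))
        (Finset.insert_subset hyd (Finset.insert_subset hu1d (hT'sub.trans hT1d)))
      exact hu3d (hgd ▸ hu3g)
    · -- `g = d'`
      have hyd' : y ∈ d' := hcover y hyT2 hyd
      have h5 : 5 ≤ (insert y (insert u3 T')).card := by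
        rw [Finset.card_insert_of_notMem, Finset.card_insert_of_notMem, hT'card]
        · exact fun h => hu3b (hT'b _ h)
        · rw [Finset.mem_insert]
          rintro (h | h)
          · exact hyu3 h
          · exact hyT' h
      have hgd : g = d' := eq_of_five hα hB hg hd' h5
        (Finset.insert_subset hyg (Finset.insert_subset hu3g hT'g))
        (Finset.insert_subset hyd' (Finset.insert_subset hu3d' (hT'sub.trans hT1d')))
      have : x ∈ d' ∩ b := Finset.mem_inter.2 ⟨hgd ▸ hxg, hxb⟩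
      rw [hd'b] at this
      exact hxT1 this

end Cfsg.Agent.S0353
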