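import Cfsg.Statements.S0355
import Cfsg.Agent.Helper22.Steiner2

set_option autoImplicit false
open Cfsg

namespace Cfsg.Agent.S0355

/-- In a Steiner system S(4, 7, 23), two distinct blocks intersect in 1 or 3 points. -/
theorem result {α : Type*} [Fintype α] [DecidableEq α] (hα : Fintype.card α = 23) {B : Set (Finset α)} (hB : Cfsg.IsSteinerSystem 4 7 B) {b c : Finset α} (hb : b ∈ B) (hc : c ∈ B) (hbc : b ≠ c) : (b ∩ c).card = 1 ∨ (b ∩ c).card = 3 := by
  open Cfsg.Agent.Helper22.Design in
  have hstep : ∀ i < 4, 0 < 7 - i ∧ (7 - i) * ch4723 i = (Fintype.card α - i) * ch4723 (i + 1) := by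
    rw [hα]; exact step4723
  have hpos := tri_pos_of_blocks hB ch4723 rfl hstep hb hc
  have h7 : b.card = 7 := hB.1 b hb
  have hle : (b ∩ c).card ≤ 7 := h7 ▸ Finset.card_le_card Finset.inter_subset_left
  have hne : (b ∩ c).card ≠ 7 := by
    intro h
    apply hbc
    exact block_eq_of_inter hB hb hc (by omega)
  revert hpos
  interval_cases (b ∩ c).card <;> first | omega | decide

end Cfsg.Agent.S0355
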