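import Cfsg.Statements.S0360
import Cfsg.Agent.Helper27.GolayFacts

set_option autoImplicit false
open Cfsg

namespace Cfsg.Agent.S0360

/-- There are exactly 759 octads (supports of weight-8 words) in the length-24 code. -/
theorem result : Cfsg.octads.ncard = 759 := by
  have h : Cfsg.Agent.Helper27.countBelow (fun k => Cfsg.Agent.Helper27.popc 24 (Cfsg.Agent.Helper27.cw k) == 8) 4096 = 759 := by
    decide +kernel
  show (wordsOfWeight (golayCode : Set (GolayPt → ZMod 2)) 8).ncard = 759
  rw [Cfsg.Agent.Helper27.wordsOfWeight_ncard, h]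

end Cfsg.Agent.S0360
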