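import Cfsg.Statements.S0370
import Cfsg.Agent.Helper27.GolayPerm

set_option autoImplicit false
open Cfsg

namespace Cfsg.Agent.S0370

/-- The permutation x ↦ x + 1 of the residues modulo 23, fixing the extra point, lies in the group of the length-24 code. -/
theorem result : Equiv.optionCongr (Equiv.addRight (1 : ZMod 23)) ∈ Cfsg.M24 := by
  apply Cfsg.Agent.Helper27.mem_M24_of_gens
  rintro g (⟨t, rfl⟩ | hg)
  · have : (fun p => qrWord t ((Equiv.optionCongr (Equiv.addRight (1 : ZMod 23))) p)) = qrWord (t - 1) := by
      funext p
      cases p with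
      | none => rfl
      | some x =>
        show qrWord t (some (x + 1)) = qrWord (t - 1) (some x)
        simp only [qrWord]
        have : (∃ r : ZMod 23, x + 1 = r ^ 2 + t) ↔ ∃ r : ZMod 23, x = r ^ 2 + (t - 1) := by
          constructor
          · rintro ⟨r, hr⟩
            exact ⟨r, by linear_combination hr⟩
          · rintro ⟨r, hr⟩
            exact ⟨r, by linear_combination hr⟩
        simp only [this]
    rw [this]
    exact Submodule.subset_span (Or.inl ⟨t - 1, rfl⟩)
  · rw [Set.mem_singleton_iff] at hg
    subst hg
    exact Submodule.subset_span (Or.inr rfl)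

end Cfsg.Agent.S0370
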