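import Cfsg.Statements.S0371
import Cfsg.Agent.Helper27.GolayPerm

set_option autoImplicit false
open Cfsg

namespace Cfsg.Agent.S0371

/-- Multiplication by a nonzero square residue modulo 23, fixing the extra point, lies in the group of the length-24 code. -/
theorem result (u : (ZMod 23)ˣ) (hu : IsSquare u) : Equiv.optionCongr (Units.mulLeft u) ∈ Cfsg.M24 := by
  obtain ⟨s, hs⟩ := hu
  apply Cfsg.Agent.Helper27.mem_M24_of_gens
  rintro g (⟨t, rfl⟩ | hg)
  · have : (fun p => qrWord t ((Equiv.optionCongr (Units.mulLeft u)) p)) = qrWord (((u⁻¹ : (ZMod 23)ˣ) : ZMod 23) * t) := by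
      funext p
      cases p with
      | none => rfl
      | some x =>
        show qrWord t (some ((u : ZMod 23) * x)) = qrWord (((u⁻¹ : (ZMod 23)ˣ) : ZMod 23) * t) (some x)
        simp only [qrWord]
        have hu1 : ((u⁻¹ : (ZMod 23)ˣ) : ZMod 23) * (u : ZMod 23) = 1 := by
          rw [← Units.val_mul, inv_mul_cancel, Units.val_one]
        have hus : (u : ZMod 23) = (s : ZMod 23) * (s : ZMod 23) := by rw [hs, Units.val_mul]
        have hs1 : ((s⁻¹ : (ZMod 23)ˣ) : ZMod 23) * (s : ZMod 23) = 1 := by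
          rw [← Units.val_mul, inv_mul_cancel, Units.val_one]
        have huinv : ((u⁻¹ : (ZMod 23)ˣ) : ZMod 23) = ((s⁻¹ : (ZMod 23)ˣ) : ZMod 23) * ((s⁻¹ : (ZMod 23)ˣ) : ZMod 23) := by
          rw [hs, mul_inv, Units.val_mul]
        have : (∃ r : ZMod 23, (u : ZMod 23) * x = r ^ 2 + t) ↔
            ∃ r : ZMod 23, x = r ^ 2 + ((u⁻¹ : (ZMod 23)ˣ) : ZMod 23) * t := by
          constructor
          · rintro ⟨r, hr⟩
            refine ⟨((s⁻¹ : (ZMod 23)ˣ) : ZMod 23) * r, ?_⟩
            have h1 : x = ((u⁻¹ : (ZMod 23)ˣ) : ZMod 23) * ((u : ZMod 23) * x) := by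
              rw [← mul_assoc, hu1, one_mul]
            rw [h1, hr, huinv]
            ring
          · rintro ⟨r, hr⟩
            refine ⟨(s : ZMod 23) * r, ?_⟩
            have hu2 : (u : ZMod 23) * ((u⁻¹ : (ZMod 23)ˣ) : ZMod 23) = 1 := by rw [mul_comm, hu1]
            rw [hr, mul_add, ← mul_assoc (u : ZMod 23) _ t, hu2, one_mul, hus]
            ring
        simp only [this]
    rw [this]
    exact Submodule.subset_span (Or.inl ⟨_, rfl⟩)
  · rw [Set.mem_singleton_iff] at hg
    subst hg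
    exact Submodule.subset_span (Or.inr rfl)

end Cfsg.Agent.S0371
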