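import Cfsg.Statements.S0373
import Cfsg.Agent.Helper27.GolayPerm

set_option autoImplicit false
open Cfsg

namespace Cfsg.Agent.S0373

/-- The cube-twist permutation (squares t ↦ t^3/9, non-squares t ↦ 9t^3, extra point fixed) lies in the group of the length-24 code. -/
theorem result : Cfsg.cubeTwist ∈ Cfsg.M24 := by
  apply Cfsg.Agent.Helper27.mem_M24_of_table Cfsg.cubeTwist
    [0, 18, 6, 3, 2, 21, 1, 5, 16, 12, 7, 19, 8, 9, 17, 15, 13, 11, 4, 22, 10, 20, 14, 23]
  · refine ⟨rfl, ?_⟩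
    have h : ∀ p : GolayPt, Cfsg.Agent.Helper27.idx (Cfsg.cubeTwistFun p) =
        ([0, 18, 6, 3, 2, 21, 1, 5, 16, 12, 7, 19, 8, 9, 17, 15, 13, 11, 4, 22, 10, 20, 14, 23] : List ℕ).getD
          (Cfsg.Agent.Helper27.idx p) 0 := by
      decide +kernel
    exact h
  · decide +kernel

end Cfsg.Agent.S0373
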