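import Cfsg.Statements.S0384
import Cfsg.Agent.Helper27.M12

set_option autoImplicit false
open scoped Pointwise
open Cfsg

namespace Cfsg.Agent.S0384

/-- A dodecad stabiliser is sharply 5-transitive on the dodecad. -/
theorem result (d : Finset Cfsg.GolayPt) (hd : d ∈ Cfsg.dodecads) (x y : Fin 5 ↪ Cfsg.GolayPt) (hx : ∀ i, x i ∈ d) (hy : ∀ i, y i ∈ d) : ∃! g : MulAction.stabilizer Cfsg.M24 d, ∀ i, ((g : Cfsg.M24) : Equiv.Perm Cfsg.GolayPt) (x i) = y i := by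
  obtain ⟨k, hk, hkx, hkuniq⟩ := Cfsg.Agent.Helper27.stabP_sharp5 hd x y x.injective y.injective hx hy
  have hk' := (Cfsg.Agent.Helper27.mem_stabP d k).mp hk
  refine ⟨⟨⟨k, hk'.1⟩, hk'.2⟩, fun i => hkx i, ?_⟩
  intro g hg
  have hgmem : ((g : Cfsg.M24) : Equiv.Perm Cfsg.GolayPt) ∈ Cfsg.Agent.Helper27.stabP d := by
    rw [Cfsg.Agent.Helper27.mem_stabP]
    exact ⟨(g : Cfsg.M24).2, g.2⟩
  have := hkuniq _ hgmem hg
  apply Subtype.ext
  apply Subtype.ext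
  exact this

end Cfsg.Agent.S0384
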