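import Cfsg.Statements.S1588
import Cfsg.Agent.Helper22.Frames

set_option autoImplicit false
open Matrix
open Cfsg

namespace Cfsg.Agent.S1588

/-- Second step of the characterisation: under the vector counts of the rank-24 lattice, the norm-8 vectors fall into congruence classes of exactly 48 modulo twice the lattice. -/
theorem result (B : Matrix (Fin 24) (Fin 24) ℤ) (hsymm : B.IsSymm) (hpos : ∀ x : Fin 24 → ℤ, x ≠ 0 → 0 < x ⬝ᵥ (B *ᵥ x)) (heven : ∀ x : Fin 24 → ℤ, (2 : ℤ) ∣ x ⬝ᵥ (B *ᵥ x)) (h2 : ∀ x : Fin 24 → ℤ, x ⬝ᵥ (B *ᵥ x) ≠ 2) (h4 : {x : Fin 24 → ℤ | x ⬝ᵥ (B *ᵥ x) = 4}.ncard = 196560) (h6 : {x : Fin 24 → ℤ | x ⬝ᵥ (B *ᵥ x) = 6}.ncard = 16773120) (h8 : {x : Fin 24 → ℤ | x ⬝ᵥ (B *ᵥ x) = 8}.ncard = 398034000) (x : Fin 24 → ℤ) (hx : x ⬝ᵥ (B *ᵥ x) = 8) : {y : Fin 24 → ℤ | y ⬝ᵥ (B *ᵥ y) = 8 ∧ ∀ i, (2 : ℤ) ∣ (x - y) i}.ncard = 48 := by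
  have cast_iff : ∀ a c : ℤ, ((a : ZMod 2) = (c : ZMod 2)) ↔ (2 : ℤ) ∣ c - a := fun a c =>
    ZMod.intCast_eq_intCast_iff_dvd_sub a c 2
  have hb : ∀ u v : Fin 24 → ℤ, Matrix.toBilin' B u v = u ⬝ᵥ (B *ᵥ v) := Matrix.toBilin'_apply' B
  have hsym : ∀ u v : Fin 24 → ℤ, Matrix.toBilin' B u v = Matrix.toBilin' B v u := by
    intro u v
    rw [hb, hb, Matrix.dotProduct_mulVec, ← Matrix.mulVec_transpose, hsymm.eq, dotProduct_comm]
  have hrank : Module.finrank ℤ (Fin 24 → ℤ) = 24 := by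
    rw [Module.finrank_fintype_fun_eq_card, Fintype.card_fin]
  have hmin : ∀ u ∈ (⊤ : AddSubgroup (Fin 24 → ℤ)), u ≠ 0 → 4 * 1 ≤ Matrix.toBilin' B u u := by
    intro u _ hu
    rw [hb]
    have h1 := hpos u hu
    obtain ⟨k, hk⟩ := heven u
    have h3 := h2 u
    omega
  have hQ : Fintype.card (Fin 24 → ZMod 2) ≤ 2 ^ 24 := by
    rw [Fintype.card_fun, ZMod.card, Fintype.card_fin]
  let ρ : (Fin 24 → ℤ) → (Fin 24 → ZMod 2) := fun u i => (u i : ZMod 2)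
  have hρ' : ∀ u v : Fin 24 → ℤ, ρ u = ρ v ↔ ∀ i, (2 : ℤ) ∣ (v - u) i := by
    intro u v
    rw [funext_iff]
    exact forall_congr' (fun i => cast_iff (u i) (v i))
  have hρ : ∀ u ∈ (⊤ : AddSubgroup (Fin 24 → ℤ)), ∀ v ∈ (⊤ : AddSubgroup (Fin 24 → ℤ)),
      (ρ u = ρ v ↔ ∃ z ∈ (⊤ : AddSubgroup (Fin 24 → ℤ)), u - v = (2 : ℕ) • z) := by
    intro u _ v _
    rw [hρ']
    constructor
    · intro h
      refine ⟨fun i => (u i - v i) / 2, AddSubgroup.mem_top _, ?_⟩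
      funext i
      have := h i
      simp only [Pi.sub_apply, Pi.smul_apply, nsmul_eq_mul, Nat.cast_ofNat] at this ⊢
      omega
    · rintro ⟨z, -, e⟩ i
      have := congrFun e i
      simp only [Pi.sub_apply, Pi.smul_apply, nsmul_eq_mul, Nat.cast_ofNat] at this ⊢
      omega
  have e4 : {u : Fin 24 → ℤ | u ∈ (⊤ : AddSubgroup (Fin 24 → ℤ)) ∧ Matrix.toBilin' B u u = 4 * 1} =
      {u | u ⬝ᵥ (B *ᵥ u) = 4} := by
    ext u; simp only [Set.mem_ofPred_eq, AddSubgroup.mem_top, true_and, hb, mul_one]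
  have e6 : {u : Fin 24 → ℤ | u ∈ (⊤ : AddSubgroup (Fin 24 → ℤ)) ∧ Matrix.toBilin' B u u = 6 * 1} =
      {u | u ⬝ᵥ (B *ᵥ u) = 6} := by
    ext u; simp only [Set.mem_ofPred_eq, AddSubgroup.mem_top, true_and, hb, mul_one]
  have e8 : {u : Fin 24 → ℤ | u ∈ (⊤ : AddSubgroup (Fin 24 → ℤ)) ∧ Matrix.toBilin' B u u = 8 * 1} =
      {u | u ⬝ᵥ (B *ᵥ u) = 8} := by
    ext u; simp only [Set.mem_ofPred_eq, AddSubgroup.mem_top, true_and, hb, mul_one]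
  have main := (Cfsg.Agent.Helper22.Frames.frames_main (Matrix.toBilin' B) hrank hsym ⊤ 1 one_pos hmin hQ ρ hρ
    (by rw [e4]; exact h4) (by rw [e6]; exact h6) (by rw [e8]; exact h8)).1 x (AddSubgroup.mem_top _)
    (by rw [hb, hx, mul_one])
  rw [← main]
  congr 1
  ext y
  simp only [Set.mem_ofPred_eq, AddSubgroup.mem_top, true_and, hb, mul_one, hρ']

end Cfsg.Agent.S1588
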