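import Cfsg.Statements.S0406
import Cfsg.Agent.Helper27.LChDefs
import Cfsg.Agent.Helper27.LChQ8
import Cfsg.Agent.Helper27.LChQ5cFix
import Cfsg.Agent.Helper27.Leech
import Cfsg.Agent.S0375
import Cfsg.Agent.S1588
import Cfsg.Agent.Helper1.LChQ5c
import Cfsg.Agent.Helper13.LChQ4
import Cfsg.Agent.Helper16.LChQ7
import Cfsg.Agent.Helper18.LChQ3
import Cfsg.Agent.Helper23.LChQ5a
import Cfsg.Agent.Helper23.LChQ5bCore
import Cfsg.Agent.Helper3.LChQ0b
import Cfsg.Agent.Helper3.LChQ0c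
import Cfsg.Agent.Helper5.LChQ0a
import Cfsg.Agent.Helper5.LChQ6

set_option autoImplicit false
open Matrix
open Cfsg

namespace Cfsg.Agent.S0406

open Cfsg.Agent.Helper27 Cfsg.Agent.Helper27.LCh

/-- Q1: all coordinates of a vector of `L` have the same parity -/
theorem parity {L : AddSubgroup (Fin 24 → ℤ)} (hL : Lat L) {v : Fin 24 → ℤ} (hv : v ∈ L)
    (i j : Fin 24) : (2 : ℤ) ∣ v i - v j := by
  by_cases hij : i = j
  · rw [hij]; simp
  · have h1 := hL.int8 v hv _ (hL.e4m i j hij)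
    rw [dotProduct_sub, dotProduct_single, dotProduct_single] at h1
    omega

/-- A rank-24 even lattice with no roots and the stated numbers of vectors of norms 4, 6, 8 is isomorphic to the Leech lattice. -/
theorem result (B : Matrix (Fin 24) (Fin 24) ℤ) (hsymm : B.IsSymm) (hpos : ∀ x : Fin 24 → ℤ, x ≠ 0 → 0 < x ⬝ᵥ (B *ᵥ x)) (heven : ∀ x : Fin 24 → ℤ, (2 : ℤ) ∣ x ⬝ᵥ (B *ᵥ x)) (h2 : ∀ x : Fin 24 → ℤ, x ⬝ᵥ (B *ᵥ x) ≠ 2) (h4 : {x : Fin 24 → ℤ | x ⬝ᵥ (B *ᵥ x) = 4}.ncard = 196560) (h6 : {x : Fin 24 → ℤ | x ⬝ᵥ (B *ᵥ x) = 6}.ncard = 16773120) (h8 : {x : Fin 24 → ℤ | x ⬝ᵥ (B *ᵥ x) = 8}.ncard = 398034000) : ∃ f : (Fin 24 → ℤ) ≃+ Cfsg.leechLattice, ∀ x : Fin 24 → ℤ, Cfsg.sqNorm ((f x : Cfsg.leechLattice) : Cfsg.GolayPt → ℤ) = 8 * (x ⬝ᵥ (B *ᵥ x)) := by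
  classical
  -- a vector of norm 8
  have hne : {x : Fin 24 → ℤ | x ⬝ᵥ (B *ᵥ x) = 8}.Nonempty := by
    apply Set.nonempty_of_ncard_ne_zero
    rw [h8]; norm_num
  obtain ⟨x₀, hx₀⟩ := hne
  have h48 := Cfsg.Agent.S1588.result B hsymm hpos heven h2 h4 h6 h8 x₀ hx₀
  obtain ⟨e, hn, ho, hc⟩ := Cfsg.Agent.Helper5.LCh.exists_frame B hsymm hpos heven h2 x₀ hx₀ h48
  obtain ⟨φ, hφ, hL⟩ := Cfsg.Agent.Helper3.LCh.exists_coords B hsymm hpos heven h2 h4 e hn ho hc
  have hpar : ∀ v ∈ φ.range, ∀ i j : Fin 24, (2 : ℤ) ∣ v i - v j :=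
    fun v hv i j => parity hL hv i j
  have hsub := Cfsg.Agent.Helper18.LCh.mem_of_four_dvd' hL
  have hwt : ∀ c ∈ code φ.range, c ≠ 0 → 4 ∣ hammingNorm c ∧ 8 ≤ hammingNorm c :=
    fun c hc h0 => Cfsg.Agent.Helper18.LCh.code_weight hL hc h0
  have h4' : ∀ c ∈ code φ.range, 4 ∣ hammingNorm c := by
    intro c hc
    by_cases h0 : c = 0
    · rw [h0]; simp
    · exact (hwt c hc h0).1
  have horth := Cfsg.Agent.Helper13.LCh.doubly_even_self_orth (code φ.range) h4'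
  have hdimle := Cfsg.Agent.Helper13.LCh.finrank_le_of_self_orth (code φ.range) horth
  obtain ⟨hdim, v₀, hv₀, hodd⟩ := Cfsg.Agent.Helper16.LCh.main_count_of hL hpar hdimle
    (even_count hL) (Cfsg.Agent.Helper5.LCh.odd_count hL)
  obtain ⟨σ, ε, hε, hiff⟩ := identify_aux hL hpar hsub hwt horth hdim v₀ hv₀ hodd
  have hε2 : ∀ i, ε i * ε i = 1 := by
    intro i; rcases hε i with h | h <;> rw [h] <;> norm_num
  -- the map
  let g : (Fin 24 → ℤ) →+ (GolayPt → ℤ) :=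
    { toFun := fun x q => ε (σ.symm q) * φ x (σ.symm q)
      map_zero' := by funext q; simp
      map_add' := fun x y => by funext q; simp [mul_add] }
  have hgapp : ∀ x q, g x q = ε (σ.symm q) * φ x (σ.symm q) := fun _ _ => rfl
  have hgmem : ∀ x, g x ∈ leechLattice := by
    intro x
    rw [mem_leechLattice_iff]
    exact (hiff (φ x)).mp ⟨x, rfl⟩
  have hnorm : ∀ x, sqNorm (g x) = 8 * (x ⬝ᵥ (B *ᵥ x)) := by
    intro x
    rw [← hφ x]
    unfold sqNorm
    rw [← Equiv.sum_comp σ]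
    simp only [hgapp, Equiv.symm_apply_apply, dotProduct]
    apply Finset.sum_congr rfl
    intro i _
    have := hε2 i
    calc (ε i * φ x i) ^ 2 = (ε i * ε i) * (φ x i * φ x i) := by ring
      _ = φ x i * φ x i := by rw [this, one_mul]
  have hinj : Function.Injective g := by
    rw [injective_iff_map_eq_zero]
    intro x hx
    by_contra hx0
    have h1 := hpos x hx0
    have h2' := hnorm x
    rw [hx] at h2'
    have : sqNorm (0 : GolayPt → ℤ) = 0 := by simp [sqNorm]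
    rw [this] at h2'
    omega
  have hsurj : ∀ y ∈ leechLattice, ∃ x, g x = y := by
    intro y hy
    rw [mem_leechLattice_iff] at hy
    have hv : (fun i => ε i * y (σ i)) ∈ φ.range := by
      rw [hiff]
      convert hy using 1
      funext q
      simp only [Equiv.apply_symm_apply]
      rw [← mul_assoc, hε2, one_mul]
    obtain ⟨x, hx⟩ := hv
    refine ⟨x, ?_⟩
    funext q
    rw [hgapp, hx]
    simp only [Equiv.apply_symm_apply]
    rw [← mul_assoc, hε2, one_mul]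
  let f : (Fin 24 → ℤ) ≃+ Cfsg.leechLattice :=
    AddEquiv.ofBijective (g.codRestrict leechLattice hgmem)
      ⟨fun a b hab => hinj (congrArg Subtype.val hab),
       fun y => by
        obtain ⟨x, hx⟩ := hsurj y.1 y.2
        exact ⟨x, Subtype.ext hx⟩⟩
  exact ⟨f, fun x => hnorm x⟩

end Cfsg.Agent.S0406
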