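import Cfsg.Statements.S0420
import Mathlib
import Cfsg.Agent.Helper15.M11p
import Cfsg.Agent.Helper25.Sharp4Idx11
import Cfsg.Agent.Helper27.Sharp4IsoC
import Cfsg.Agent.Helper27.SimpleFinal
import Cfsg.Agent.Helper27.M12

set_option autoImplicit false
open scoped Pointwise
open Cfsg

namespace Cfsg.Agent.S0420

/-- Any two simple groups of order 7920 are isomorphic. -/
theorem m11_unique {G : Type*} {K : Type*} [Group G] [Finite G] [Group K] [Finite K]
    (hG : Cfsg.IsM11 G) (hK : Cfsg.IsM11 K) : Nonempty (G ≃* K) := by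
  obtain ⟨hGs, hGc⟩ := hG
  obtain ⟨hKs, hKc⟩ := hK
  obtain ⟨H, hH⟩ := Cfsg.Agent.Helper15.M11U.exists_index11 hGc
  obtain ⟨H', hH'⟩ := Cfsg.Agent.Helper15.M11U.exists_index11 hKc
  obtain ⟨A, ⟨eA⟩, hA4, hAs⟩ := Cfsg.Agent.Helper25.Sharp4Idx11.sharp4_of_index11 hGc H hH
  obtain ⟨B, ⟨eB⟩, hB4, hBs⟩ := Cfsg.Agent.Helper25.Sharp4Idx11.sharp4_of_index11 hKc H' hH'
  obtain ⟨e⟩ := Cfsg.Agent.Helper27.Sharp4Iso.sharp4_eleven_iso (by simp) (by simp) A B hA4 hAs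
    hB4 hBs
  exact ⟨eA.trans (e.trans eB.symm)⟩

/-- Simple groups of order 7920 are all isomorphic to the concrete smallest Mathieu group. -/
theorem result {G : Type*} [Group G] [Finite G] (hG : Cfsg.IsM11 G) (d : Finset Cfsg.GolayPt) (hd : d ∈ Cfsg.dodecads) (p : Cfsg.GolayPt) (hp : p ∈ d) : Nonempty (G ≃* ↥(MulAction.stabilizer Cfsg.M24 d ⊓ MulAction.stabilizer Cfsg.M24 p)) := by
  have : Finite ↥(MulAction.stabilizer Cfsg.M24 d ⊓ MulAction.stabilizer Cfsg.M24 p) :=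
    Nat.finite_of_card_ne_zero (by
      rw [Cfsg.Agent.Helper27.card_stabilizer_dodecad_pt hd hp]; norm_num)
  exact m11_unique hG ⟨Cfsg.Agent.Helper27.stabilizer_dodecad_pt_simple hd hp,
    Cfsg.Agent.Helper27.card_stabilizer_dodecad_pt hd hp⟩

end Cfsg.Agent.S0420
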