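-- Statement S0429 (row 429): uniqueness of the strongly regular graph with parameters (77, 16, 0, 4).
-- Proof: board s0429pieces (blueprint departures/helper27_S0429_blueprint.md); every such graph is the block graph of
-- a Steiner system S(3,6,22) on its 22 cocliques of size 21 (TOSTEINER), and S(3,6,22) is unique (S0410).
import Cfsg.Statements.S0429
import Mathlib
import Cfsg.Agent.Helper27.S0429Defs
import Cfsg.Agent.Helper27.S0429TOSTEINER
import Cfsg.Agent.Helper21.S0429BGISO
import Cfsg.Agent.S0410

set_option autoImplicit false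
open Cfsg

namespace Cfsg.Agent.S0429

open Cfsg.Agent.S0429P

/-- Uniqueness of the strongly regular graph with parameters (77, 16, 0, 4). -/
theorem result {V W : Type*} [Fintype V] [Fintype W] {G : SimpleGraph V} {H : SimpleGraph W} [DecidableRel G.Adj] [DecidableRel H.Adj] (hG : G.IsSRGWith 77 16 0 4) (hH : H.IsSRGWith 77 16 0 4) : Nonempty (G ≃g H) := by
  classical
  obtain ⟨B, hB, hc, ⟨e⟩⟩ := TOSTEINER hG
  obtain ⟨B', hB', hc', ⟨e'⟩⟩ := TOSTEINER hH
  have hiso : Cfsg.SetSystemIso B B' := Cfsg.Agent.S0410.result hc hc' hB hB'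
  obtain ⟨f⟩ := BGISO hiso
  exact ⟨(e.trans f).trans e'.symm⟩

end Cfsg.Agent.S0429
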