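import Cfsg.Statements.S0436


set_option autoImplicit false
open Cfsg

namespace Cfsg.Agent.S0436

/-- For distinct commuting members a, b of a set of 3-transpositions E, a member e of E centralises the product a * b if and only if it centralises both a and b. -/
theorem result {G : Type*} [Group G] {E : Set G} (hE : Cfsg.IsThreeTranspositionSet E) {a b e : G} (ha : a ∈ E) (hb : b ∈ E) (he : e ∈ E) (hab : a ≠ b) (hcomm : Commute a b) : Commute e (a * b) ↔ (Commute e a ∧ Commute e b) := by
  obtain ⟨hord, hprod⟩ := hE
  have inv_of : ∀ d ∈ E, d * d = 1 := by
    intro d hd
    have := hord d hd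
    have h2 : d ^ 2 = 1 := by rw [← this]; exact pow_orderOf_eq_one d
    simpa [pow_two] using h2
  have ne_one : ∀ d ∈ E, d ≠ 1 := by
    intro d hd h1
    have := hord d hd
    rw [h1, orderOf_one] at this
    omega
  have ha2 := inv_of a ha
  have hb2 := inv_of b hb
  have he2 := inv_of e he
  -- key: for d, f in E, either they commute or d f d = f d f
  have key : ∀ d ∈ E, ∀ f ∈ E, Commute d f ∨ d * f * d = f * d * f := by
    intro d hd f hf
    have hd2 := inv_of d hd
    have hf2 := inv_of f hf
    rcases hprod d hd f hf with h | h
    · left
      -- (d f)^2 = 1 → d f d f = 1 → d f = f d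
      have h' : d * f * (d * f) = 1 := by simpa [pow_two] using h
      show d * f = f * d
      have : d * f = (d * f)⁻¹ := eq_inv_of_mul_eq_one_left h'
      rw [this, mul_inv_rev]
      rw [inv_eq_of_mul_eq_one_left hd2, inv_eq_of_mul_eq_one_left hf2]
    · right
      have h' : d * f * (d * f) * (d * f) = 1 := by simpa [pow_succ] using h
      -- d f d f d f = 1 → d f d = (f d f)⁻¹ = f d f
      have h'' : (d * f * d) * (f * d * f) = 1 := by
        simpa [mul_assoc] using h'
      have : d * f * d = (f * d * f)⁻¹ := eq_inv_of_mul_eq_one_left h''
      rw [this, mul_inv_rev, mul_inv_rev]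
      rw [inv_eq_of_mul_eq_one_left hd2, inv_eq_of_mul_eq_one_left hf2, mul_assoc]
  constructor
  · intro hc
    -- e (ab) = (ab) e
    have hc' : e * (a * b) = a * b * e := hc
    have hba : b * a = a * b := hcomm.symm
    -- b e b = a e a
    have h1 : b * e * b = a * e * a := by
      have : a * b * e * (b * a) = e := by
        rw [← hc', hba]
        calc e * (a * b) * (a * b) = e * (a * (b * a) * b) := by simp [mul_assoc]
          _ = e * (a * (a * b) * b) := by rw [hba]
          _ = e * ((a * a) * (b * b)) := by simp [mul_assoc]
          _ = e := by rw [ha2, hb2]; simp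
      calc b * e * b = (a * a) * (b * e * b) * (a * a) := by rw [ha2]; simp
        _ = a * (a * b * e * (b * a)) * a := by simp [mul_assoc]
        _ = a * e * a := by rw [this]
    by_cases hea : Commute e a
    · refine ⟨hea, ?_⟩
      -- a e a = e, so b e b = e
      have : a * e * a = e := by
        have h : e * a = a * e := hea
        calc a * e * a = a * (e * a) := by rw [mul_assoc]
          _ = a * (a * e) := by rw [h]
          _ = e := by rw [← mul_assoc, ha2, one_mul]
      rw [this] at h1
      show e * b = b * e
      calc e * b = (b * e * b) * b := by rw [h1]
        _ = b * e * (b * b) := by simp [mul_assoc]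
        _ = b * e := by rw [hb2, mul_one]
    · exfalso
      have hea' : e * a * e = a * e * a := (key e he a ha).resolve_left hea
      by_cases heb : Commute e b
      · have hb' : b * e * b = e := by
          have h : e * b = b * e := heb
          calc b * e * b = b * (e * b) := by rw [mul_assoc]
            _ = b * (b * e) := by rw [h]
            _ = e := by rw [← mul_assoc, hb2, one_mul]
        have h3 : e * a * e = e := by rw [hea', ← h1, hb']
        have h4 : e * a = 1 := by
          have : e * a * e = 1 * e := by rw [h3, one_mul]
          exact mul_right_cancel this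
        have h5 : a = e := by
          have : e * a = e * e := by rw [h4, he2]
          exact mul_left_cancel this
        apply hea
        rw [h5]
      · have heb' : e * b * e = b * e * b := (key e he b hb).resolve_left heb
        have h3 : e * a * e = e * b * e := by rw [hea', ← h1, heb']
        have := mul_right_cancel h3
        exact hab (mul_left_cancel this)
  · rintro ⟨h1, h2⟩
    exact h1.mul_right h2

end Cfsg.Agent.S0436
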