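import Cfsg.Statements.S0437
import Cfsg.Agent.S0436

set_option autoImplicit false
open Cfsg

namespace Cfsg.Agent.S0437

/-- For three distinct, pairwise commuting members a, b, c of a set of 3-transpositions E, a member e of E centralises a * b * c if and only if it centralises each of a, b and c. -/
theorem result {G : Type*} [Group G] {E : Set G} (hE : Cfsg.IsThreeTranspositionSet E) {a b c e : G} (ha : a ∈ E) (hb : b ∈ E) (hc : c ∈ E) (he : e ∈ E) (hab : a ≠ b) (hac : a ≠ c) (hbc : b ≠ c) (h₁ : Commute a b) (h₂ : Commute a c) (h₃ : Commute b c) : Commute e (a * b * c) ↔ (Commute e a ∧ Commute e b ∧ Commute e c) := by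
  have hE' := hE
  obtain ⟨hord, hprod⟩ := hE
  have inv_of : ∀ d ∈ E, d * d = 1 := by
    intro d hd
    have := hord d hd
    have h2 : d ^ 2 = 1 := by rw [← this]; exact pow_orderOf_eq_one d
    simpa [pow_two] using h2
  have inv_eq : ∀ d ∈ E, d⁻¹ = d := fun d hd => inv_eq_of_mul_eq_one_left (inv_of d hd)
  have ha2 := inv_of a ha
  have hb2 := inv_of b hb
  have hc2 := inv_of c hc
  have he2 := inv_of e he
  have key : ∀ d ∈ E, ∀ f ∈ E, ¬ Commute d f → d * f * d = f * d * f := by
    intro d hd f hf hnc
    have hd2 := inv_of d hd
    have hf2 := inv_of f hf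
    rcases hprod d hd f hf with h | h
    · exfalso
      apply hnc
      have h' : d * f * (d * f) = 1 := by simpa [pow_two] using h
      show d * f = f * d
      have : d * f = (d * f)⁻¹ := eq_inv_of_mul_eq_one_left h'
      rw [this, mul_inv_rev, inv_eq d hd, inv_eq f hf]
    · have h' : d * f * (d * f) * (d * f) = 1 := by simpa [pow_succ] using h
      have h'' : (d * f * d) * (f * d * f) = 1 := by
        simpa [mul_assoc] using h'
      have : d * f * d = (f * d * f)⁻¹ := eq_inv_of_mul_eq_one_left h''
      rw [this, mul_inv_rev, mul_inv_rev, inv_eq d hd, inv_eq f hf, mul_assoc]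
  constructor
  · intro hcm
    by_cases hea : Commute e a
    · -- e commutes with b * c
      have hbc' : Commute e (b * c) := by
        have : b * c = a⁻¹ * (a * b * c) := by simp [mul_assoc]
        rw [this]
        exact hea.inv_right.mul_right hcm
      have := (Cfsg.Agent.S0436.result hE' hb hc he hbc h₃).1 hbc'
      exact ⟨hea, this.1, this.2⟩
    by_cases heb : Commute e b
    · have hac' : Commute e (a * c) := by
        have : a * c = b⁻¹ * (a * b * c) := by
          have h : a * b = b * a := h₁
          rw [h]; simp [mul_assoc]
        rw [this]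
        exact heb.inv_right.mul_right hcm
      have := (Cfsg.Agent.S0436.result hE' ha hc he hac h₂).1 hac'
      exact ⟨this.1, heb, this.2⟩
    by_cases hec : Commute e c
    · have hab' : Commute e (a * b) := by
        have : a * b = (a * b * c) * c⁻¹ := by simp [mul_assoc]
        rw [this]
        exact hcm.mul_right hec.inv_right
      have := (Cfsg.Agent.S0436.result hE' ha hb he hab h₁).1 hab'
      exact ⟨this.1, this.2, hec⟩
    exfalso
    have k1 := key e he a ha hea
    have k2 := key e he b hb heb
    have k3 := key e he c hc hec
    have hab' : a * b = b * a := h₁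
    have hac' : a * c = c * a := h₂
    have hbc' : b * c = c * b := h₃
    have hcm' : e * (a * b * c) = a * b * c * e := hcm
    -- a e a = b c e c b
    have h1 : a * e * a = b * c * e * c * b := by
      have : a * b * c * e * (c * b * a) = e := by
        rw [← hcm']
        have : a * b * c * (c * b * a) = 1 := by
          calc a * b * c * (c * b * a) = a * b * (c * c) * b * a := by simp [mul_assoc]
            _ = a * (b * b) * a := by rw [hc2]; simp [mul_assoc]
            _ = 1 := by rw [hb2, mul_one, ha2]
        calc e * (a * b * c) * (c * b * a) = e * (a * b * c * (c * b * a)) := by simp [mul_assoc]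
          _ = e := by rw [this, mul_one]
      calc a * e * a = a * (a * b * c * e * (c * b * a)) * a := by rw [this]
        _ = (a * a) * b * c * e * c * b * (a * a) := by simp [mul_assoc]
        _ = b * c * e * c * b := by rw [ha2]; simp
    -- a = b c e c b
    have h2 : a = b * c * e * c * b := by
      -- e a e = b (e c e) b
      have s1 : e * a * e = b * (e * c * e) * b := by
        rw [k1, h1, k3]; simp [mul_assoc]
      -- a = (e b e) c (e b e)
      have s2 : a = (e * b * e) * c * (e * b * e) := by
        calc a = (e * e) * a * (e * e) := by rw [he2]; simp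
          _ = e * (e * a * e) * e := by simp [mul_assoc]
          _ = e * (b * (e * c * e) * b) * e := by rw [s1]
          _ = (e * b * e) * c * (e * b * e) := by simp [mul_assoc]
      rw [k2] at s2
      calc a = b * e * b * c * (b * e * b) := s2
        _ = b * e * (b * c * b) * e * b := by simp [mul_assoc]
        _ = b * e * (c * (b * b)) * e * b := by rw [hbc']; simp [mul_assoc]
        _ = b * (e * c * e) * b := by rw [hb2]; simp [mul_assoc]
        _ = b * (c * e * c) * b := by rw [k3]
        _ = b * c * e * c * b := by simp [mul_assoc]
    have h3 : a * e * a = a := by rw [h1, ← h2]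
    have h4 : a * e = 1 := by
      have : a * e * a = 1 * a := by rw [h3, one_mul]
      exact mul_right_cancel this
    have h5 : e = a := by
      have : a * e = a * a := by rw [h4, ha2]
      exact mul_left_cancel this
    apply hea
    rw [h5]
  · rintro ⟨h1, h2, h3⟩
    exact (h1.mul_right h2).mul_right h3

end Cfsg.Agent.S0437
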