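import Cfsg.Statements.S0438

set_option autoImplicit false
open Cfsg

namespace Cfsg.Agent.S0438

/-- Let E be a set of 3-transpositions closed under conjugation, and x an involutory automorphism of the group mapping E to itself. If some a in E fails to commute with its image x a, then x fixes an element of E. -/
theorem result {G : Type*} [Group G] {E : Set G} (hE : Cfsg.IsThreeTranspositionSet E) (hconj : ∀ g : G, ∀ d ∈ E, g * d * g⁻¹ ∈ E) (x : G ≃* G) (hx : ∀ g : G, x (x g) = g) (hxE : ∀ d ∈ E, x d ∈ E) {a : G} (ha : a ∈ E) (h : ¬ Commute a (x a)) : ∃ d ∈ E, x d = d := by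
  obtain ⟨hord, hprod⟩ := hE
  have inv_of : ∀ d ∈ E, d * d = 1 := by
    intro d hd
    have := hord d hd
    have h2 : d ^ 2 = 1 := by rw [← this]; exact pow_orderOf_eq_one d
    simpa [pow_two] using h2
  have inv_eq : ∀ d ∈ E, d⁻¹ = d := fun d hd => inv_eq_of_mul_eq_one_left (inv_of d hd)
  have key : ∀ d ∈ E, ∀ f ∈ E, ¬ Commute d f → d * f * d = f * d * f := by
    intro d hd f hf hnc
    have hd2 := inv_of d hd
    have hf2 := inv_of f hf
    rcases hprod d hd f hf with h | h
    · exfalso
      apply hnc
      have h' : d * f * (d * f) = 1 := by simpa [pow_two] using h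
      show d * f = f * d
      have : d * f = (d * f)⁻¹ := eq_inv_of_mul_eq_one_left h'
      rw [this, mul_inv_rev, inv_eq d hd, inv_eq f hf]
    · have h' : d * f * (d * f) * (d * f) = 1 := by simpa [pow_succ] using h
      have h'' : (d * f * d) * (f * d * f) = 1 := by
        simpa [mul_assoc] using h'
      have : d * f * d = (f * d * f)⁻¹ := eq_inv_of_mul_eq_one_left h''
      rw [this, mul_inv_rev, mul_inv_rev, inv_eq d hd, inv_eq f hf, mul_assoc]
  have hxa := hxE a ha
  refine ⟨a * x a * a⁻¹, hconj a (x a) hxa, ?_⟩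
  rw [inv_eq a ha, map_mul, map_mul, hx]
  exact (key a ha (x a) hxa h).symm

end Cfsg.Agent.S0438
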