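import Cfsg.Statements.S0439
import Mathlib

set_option autoImplicit false
open Cfsg

namespace Cfsg.Agent.S0439

open Equiv Equiv.Perm

theorem swap_mul_swap_pow {α : Type*} [DecidableEq α] [Fintype α] (a b c d : α) (hab : a ≠ b) (hcd : c ≠ d) :
    (swap a b * swap c d) ^ 2 = 1 ∨ (swap a b * swap c d) ^ 3 = 1 := by
  have three : ∀ x y z : α, x ≠ y → x ≠ z → y ≠ z → (swap x y * swap x z) ^ 3 = 1 := by
    intro x y z hxy hxz hyz
    have h := (isThreeCycle_swap_mul_swap_same hxy hxz hyz).orderOf
    rw [← h]; exact pow_orderOf_eq_one _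
  have same : ∀ x y : α, (swap x y * swap x y) ^ 2 = 1 := by
    intro x y; simp
  by_cases hac : a = c
  · subst hac
    by_cases hbd : b = d
    · subst hbd; left; exact same a b
    · right; exact three a b d hab hcd hbd
  by_cases had : a = d
  · subst had
    by_cases hbc : b = c
    · subst hbc; left; rw [swap_comm b a]; exact same a b
    · right; rw [swap_comm c a]; exact three a b c hab (Ne.symm hcd) hbc
  by_cases hbc : b = c
  · subst hbc
    right; rw [swap_comm a b]; exact three b a d (Ne.symm hab) hcd had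
  by_cases hbd : b = d
  · subst hbd
    right; rw [swap_comm a b, swap_comm c b]; exact three b a c (Ne.symm hab) (Ne.symm hcd) hac
  left
  have hdis : Perm.Disjoint (swap a b) (swap c d) := by
    apply disjoint_swap_swap
    simp [hab, hac, had, hbc, hbd, hcd]
  have hc := hdis.commute
  rw [hc.mul_pow]; simp [pow_two]

/-- In the symmetric group of degree n ≥ 2, the set of transpositions is a conjugacy class of 3-transpositions which generates the group. -/
theorem result (n : ℕ) (hn : 2 ≤ n) : Cfsg.IsThreeTranspositionClass {σ : Equiv.Perm (Fin n) | σ.IsSwap} := by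
  refine ⟨⟨?_, ?_⟩, ?_, ?_⟩
  · intro d hd
    exact IsSwap.orderOf hd
  · rintro d ⟨a, b, hab, rfl⟩ e ⟨c, d', hcd, rfl⟩
    exact swap_mul_swap_pow a b c d' hab hcd
  · have h01 : (⟨0, by omega⟩ : Fin n) ≠ ⟨1, by omega⟩ := by
      intro h; simp [Fin.ext_iff] at h
    refine ⟨swap ⟨0, by omega⟩ ⟨1, by omega⟩, ⟨_, _, h01, rfl⟩, ?_⟩
    ext σ
    show σ.IsSwap ↔ IsConj _ σ
    constructor
    · rintro ⟨a, b, hab, rfl⟩
      exact isConj_swap h01 hab
    · intro h
      obtain ⟨g, hg⟩ := isConj_iff.1 h
      rw [← hg, ← swap_apply_apply]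
      exact ⟨_, _, fun h => h01 (g.injective h), rfl⟩
  · exact closure_isSwap

end Cfsg.Agent.S0439
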