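import Cfsg.Statements.S0440
import Mathlib
import Cfsg.Agent.S0765
import Cfsg.Agent.Helper28.SympTrans
-- import your own Cfsg.Agent.* helpers here

set_option autoImplicit false
set_option linter.style.haveILetI false
set_option linter.unusedSectionVars false
open Cfsg

namespace Cfsg.Agent.S0440

open Matrix Cfsg.Agent.Helper28

section general

variable {ι : Type*} [Fintype ι] [DecidableEq ι] {F : Type*} [Field F]

theorem matrix_ext_mulVec {M M' : Matrix ι ι F} (h : ∀ x, M *ᵥ x = M' *ᵥ x) : M = M' := by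
  apply Matrix.toLin'.injective
  apply LinearMap.ext
  intro x
  rw [Matrix.toLin'_apply, Matrix.toLin'_apply]
  exact h x

theorem rank_pos_of_mulVec_ne_zero (M : Matrix ι ι F) (x : ι → F) (h : M *ᵥ x ≠ 0) :
    0 < M.rank := by
  unfold Matrix.rank
  rw [Module.finrank_pos_iff_exists_ne_zero]
  refine ⟨⟨M *ᵥ x, ⟨x, rfl⟩⟩, ?_⟩
  intro h0
  exact h (congrArg Subtype.val h0)

/-- a rank one matrix acts as `x ↦ λ(x) u`. -/
theorem rank_one_decomp (N : Matrix ι ι F) (h : N.rank = 1) :
    ∃ (u : ι → F) (w : ι → F), u ≠ 0 ∧ ∀ x, N *ᵥ x = (w ⬝ᵥ x) • u := by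
  unfold Matrix.rank at h
  obtain ⟨⟨u, hu⟩, hu0, hspan⟩ := finrank_eq_one_iff'.mp h
  have hu0' : u ≠ 0 := fun h0 => hu0 (Subtype.ext h0)
  have hcol : ∀ j : ι, ∃ c : F, c • u = N *ᵥ (Pi.single j 1) := by
    intro j
    obtain ⟨c, hc⟩ := hspan ⟨N *ᵥ (Pi.single j 1), ⟨_, rfl⟩⟩
    exact ⟨c, congrArg Subtype.val hc⟩
  choose w hw using hcol
  refine ⟨u, w, hu0', ?_⟩
  intro x
  have hx : x = ∑ j, x j • (Pi.single j (1 : F) : ι → F) := by
    ext i
    simp [Finset.sum_apply, Pi.single_apply]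
  conv_lhs => rw [hx]
  rw [Matrix.mulVec_sum]
  simp_rw [Matrix.mulVec_smul, ← hw]
  rw [dotProduct, Finset.sum_smul]
  apply Finset.sum_congr rfl
  intro j _
  rw [smul_smul, mul_comm]

end general

section symp

variable {n : ℕ}

local notation "V" => (Fin n ⊕ Fin n → ZMod 2)
local notation "ω" => Cfsg.sympForm n (ZMod 2)
local notation "G" => Matrix.symplecticGroup (Fin n) (ZMod 2)

theorem zmod2_cases (c : ZMod 2) : c = 0 ∨ c = 1 := by
  revert c; decide

theorem zmod2_neg (c : ZMod 2) : -c = c := by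
  revert c; decide

theorem zmod2_add_self (c : ZMod 2) : c + c = 0 := by
  revert c; decide

theorem symp_swap (u v : V) : ω u v = ω v u := by
  rw [sympForm_swap, zmod2_neg]

/-- the transvection `x ↦ x + ω(x,v) v` as an element of the symplectic group -/
noncomputable def T (v : V) : G := sympT v 1

theorem T_coe (v : V) : ((T v : G) : Matrix (Fin n ⊕ Fin n) (Fin n ⊕ Fin n) (ZMod 2)) =
    Cfsg.sympTransvection n v 1 := rfl

theorem T_mulVec (v x : V) :
    ((T v : G) : Matrix (Fin n ⊕ Fin n) (Fin n ⊕ Fin n) (ZMod 2)) *ᵥ x = x + (ω x v) • v := by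
  rw [T_coe, sympTransvection_mulVec, one_mul]

theorem T_mul_self (v : V) : T v * T v = 1 := by
  apply Subtype.ext
  rw [symp_coe_mul, T_coe, sympTransvection_mul, zmod2_add_self, sympTransvection_zero]
  rfl

theorem T_inv (v : V) : (T v)⁻¹ = T v := inv_eq_of_mul_eq_one_left (T_mul_self v)

theorem pres (A : G) (x y : V) :
    ω ((A : Matrix (Fin n ⊕ Fin n) (Fin n ⊕ Fin n) (ZMod 2)) *ᵥ x)
      ((A : Matrix (Fin n ⊕ Fin n) (Fin n ⊕ Fin n) (ZMod 2)) *ᵥ y) = ω x y :=
  (mem_symplecticGroup_iff_preserves _).mp A.2 x y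

theorem conj_T (A : G) (v : V) :
    A * T v * A⁻¹ = T ((A : Matrix (Fin n ⊕ Fin n) (Fin n ⊕ Fin n) (ZMod 2)) *ᵥ v) := by
  have h : A * T v = T ((A : Matrix (Fin n ⊕ Fin n) (Fin n ⊕ Fin n) (ZMod 2)) *ᵥ v) * A := by
    apply Subtype.ext
    rw [symp_coe_mul, symp_coe_mul]
    apply matrix_ext_mulVec
    intro x
    rw [← Matrix.mulVec_mulVec, ← Matrix.mulVec_mulVec, T_mulVec, T_mulVec, pres,
      Matrix.mulVec_add, Matrix.mulVec_smul]
  rw [h, mul_inv_cancel_right]

theorem mulVec_ne_zero (A : G) {v : V} (hv : v ≠ 0) :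
    (A : Matrix (Fin n ⊕ Fin n) (Fin n ⊕ Fin n) (ZMod 2)) *ᵥ v ≠ 0 := by
  intro h
  apply hv
  have h1 : ((A⁻¹ * A : G) : Matrix (Fin n ⊕ Fin n) (Fin n ⊕ Fin n) (ZMod 2)) *ᵥ v = v := by
    rw [inv_mul_cancel]
    show (1 : Matrix (Fin n ⊕ Fin n) (Fin n ⊕ Fin n) (ZMod 2)) *ᵥ v = v
    rw [Matrix.one_mulVec]
  rw [symp_coe_mul, ← Matrix.mulVec_mulVec, h, Matrix.mulVec_zero] at h1
  exact h1.symm

theorem exists_form_eq_one {u : V} (hu : u ≠ 0) : ∃ y : V, ω y u = 1 := by
  obtain ⟨y, hy⟩ := sympForm_exists_ne_zero hu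
  refine ⟨y, ?_⟩
  rw [symp_swap]
  rcases zmod2_cases (ω u y) with h | h
  · exact absurd h hy
  · exact h

theorem mem_D_iff (g : G) :
    ((g : Matrix (Fin n ⊕ Fin n) (Fin n ⊕ Fin n) (ZMod 2)) - 1).rank = 1 ↔
      ∃ v : V, v ≠ 0 ∧ g = T v := by
  constructor
  · intro h
    obtain ⟨u, w, hu, hN⟩ := rank_one_decomp _ h
    have hg : ∀ x : V, (g : Matrix (Fin n ⊕ Fin n) (Fin n ⊕ Fin n) (ZMod 2)) *ᵥ x =
        x + (w ⬝ᵥ x) • u := by
      intro x
      have := hN x
      rw [Matrix.sub_mulVec, Matrix.one_mulVec] at this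
      rw [← this]; abel
    have key : ∀ x y : V, (w ⬝ᵥ y) * ω x u = (w ⬝ᵥ x) * ω y u := by
      intro x y
      have h1 := pres g x y
      rw [hg x, hg y, sympForm_add_left, sympForm_add_right, sympForm_add_right,
        sympForm_smul_right, sympForm_smul_left, sympForm_smul_left, sympForm_smul_right,
        sympForm_self, mul_zero, mul_zero, add_zero] at h1
      have h2 : (w ⬝ᵥ y) * ω x u + (w ⬝ᵥ x) * ω u y = 0 := by
        have h3 : ω x y + ((w ⬝ᵥ y) * ω x u + (w ⬝ᵥ x) * ω u y) = ω x y + 0 := by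
          rw [add_zero, ← add_assoc]; exact h1
        exact add_left_cancel h3
      rw [symp_swap u y] at h2
      have h4 := congrArg (fun t => t + (w ⬝ᵥ x) * ω y u) h2
      simp only [zero_add, add_assoc, zmod2_add_self, add_zero] at h4
      exact h4
    obtain ⟨y0, hy0⟩ := exists_form_eq_one hu
    -- some x0 with w ⬝ᵥ x0 ≠ 0
    have hex : ∃ x0 : V, w ⬝ᵥ x0 ≠ 0 := by
      by_contra hcon
      push Not at hcon
      have hzero : (g : Matrix (Fin n ⊕ Fin n) (Fin n ⊕ Fin n) (ZMod 2)) - 1 = 0 := by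
        apply matrix_ext_mulVec
        intro x
        rw [hN x, hcon x, zero_smul, Matrix.zero_mulVec]
      rw [hzero, Matrix.rank_zero] at h
      exact absurd h (by norm_num)
    obtain ⟨x0, hx0⟩ := hex
    have hy0w : w ⬝ᵥ y0 = 1 := by
      have h5 := key x0 y0
      rw [hy0, mul_one] at h5
      rcases zmod2_cases (w ⬝ᵥ y0) with h6 | h6
      · rw [h6, zero_mul] at h5
        exact absurd h5.symm hx0
      · exact h6
    have hlam : ∀ x : V, w ⬝ᵥ x = ω x u := by
      intro x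
      have h7 := key x y0
      rw [hy0w, hy0, one_mul, mul_one] at h7
      exact h7.symm
    refine ⟨u, hu, ?_⟩
    apply Subtype.ext
    apply matrix_ext_mulVec
    intro x
    rw [hg x, T_mulVec, hlam]
  · rintro ⟨v, hv, rfl⟩
    have hN : ∀ x : V, ((T v : G) : Matrix (Fin n ⊕ Fin n) (Fin n ⊕ Fin n) (ZMod 2)) - 1 =
        Matrix.vecMulVec v (Matrix.J (Fin n) (ZMod 2) *ᵥ v) := by
      intro _
      rw [T_coe]
      unfold Cfsg.sympTransvection
      rw [one_smul, add_sub_cancel_left]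
    apply le_antisymm
    · rw [hN 0]
      exact Matrix.rank_vecMulVec_le _ _
    · obtain ⟨y, hy⟩ := exists_form_eq_one hv
      apply rank_pos_of_mulVec_ne_zero _ y
      rw [Matrix.sub_mulVec, Matrix.one_mulVec, T_mulVec, hy, one_smul, add_sub_cancel_left]
      exact hv

end symp

/-- In the symplectic group in dimension 2n ≥ 2 over the field with two elements, the elements g for which g - 1 has rank one (the symplectic transvections) form a conjugacy class of 3-transpositions generating the group. -/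
theorem result (n : ℕ) (hn : 1 ≤ n) : Cfsg.IsThreeTranspositionClass {g : Matrix.symplecticGroup (Fin n) (ZMod 2) | ((g : Matrix (Fin n ⊕ Fin n) (Fin n ⊕ Fin n) (ZMod 2)) - 1).rank = 1} := by
  classical
  set D : Set (Matrix.symplecticGroup (Fin n) (ZMod 2)) :=
    {g | ((g : Matrix (Fin n ⊕ Fin n) (Fin n ⊕ Fin n) (ZMod 2)) - 1).rank = 1} with hD
  have hmem : ∀ g, g ∈ D ↔ ∃ v : Fin n ⊕ Fin n → ZMod 2, v ≠ 0 ∧ g = T v := fun g => mem_D_iff g
  have hT1 : ∀ v : Fin n ⊕ Fin n → ZMod 2, v ≠ 0 → T v ≠ 1 := by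
    intro v hv h1
    have h2 : T v ∈ D := (hmem _).mpr ⟨v, hv, rfl⟩
    rw [h1] at h2
    have h3 : ((1 : Matrix.symplecticGroup (Fin n) (ZMod 2)) :
        Matrix (Fin n ⊕ Fin n) (Fin n ⊕ Fin n) (ZMod 2)) - 1 = 0 := by
      show (1 : Matrix (Fin n ⊕ Fin n) (Fin n ⊕ Fin n) (ZMod 2)) - 1 = 0
      rw [sub_self]
    have h4 : (((1 : Matrix.symplecticGroup (Fin n) (ZMod 2)) :
        Matrix (Fin n ⊕ Fin n) (Fin n ⊕ Fin n) (ZMod 2)) - 1).rank = 1 := h2
    rw [h3, Matrix.rank_zero] at h4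
    exact absurd h4 (by norm_num)
  refine ⟨⟨?_, ?_⟩, ?_, ?_⟩
  · -- involutions
    intro d hd
    obtain ⟨v, hv, rfl⟩ := (hmem d).mp hd
    apply orderOf_eq_prime
    · rw [pow_two]; exact T_mul_self v
    · exact hT1 v hv
  · -- products
    intro d hd e he
    obtain ⟨v, hv, rfl⟩ := (hmem d).mp hd
    obtain ⟨w, hw, rfl⟩ := (hmem e).mp he
    rcases zmod2_cases (Cfsg.sympForm n (ZMod 2) v w) with hc | hc
    · left
      have h1 : T w * T v * (T w)⁻¹ = T v := by
        rw [conj_T, T_mulVec, hc, zero_smul, add_zero]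
      have h2 : T w * T v = T v * T w := by
        calc T w * T v = (T w * T v * (T w)⁻¹) * T w := by group
          _ = T v * T w := by rw [h1]
      calc (T v * T w) ^ 2 = T v * (T w * T v) * T w := by rw [pow_two]; group
        _ = T v * (T v * T w) * T w := by rw [h2]
        _ = (T v * T v) * (T w * T w) := by group
        _ = 1 := by rw [T_mul_self, T_mul_self, one_mul]
    · right
      have hc' : Cfsg.sympForm n (ZMod 2) w v = 1 := by rw [symp_swap]; exact hc
      have h1 : T w * T v * T w = T (v + w) := by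
        have := conj_T (T w) v
        rw [T_inv, T_mulVec, hc, one_smul] at this
        exact this
      have h2 : T v * T w * T v = T (v + w) := by
        have := conj_T (T v) w
        rw [T_inv, T_mulVec, hc', one_smul, add_comm] at this
        exact this
      calc (T v * T w) ^ 3 = (T v * T w * T v) * (T w * T v * T w) := by
            rw [pow_succ, pow_two]; group
        _ = 1 := by rw [h1, h2, T_mul_self]
  · -- single class
    let v0 : Fin n ⊕ Fin n → ZMod 2 := Pi.single (Sum.inl ⟨0, hn⟩) 1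
    have hv0 : v0 ≠ 0 := by
      intro h
      have := congrFun h (Sum.inl ⟨0, hn⟩)
      simp [v0] at this
    refine ⟨T v0, (hmem _).mpr ⟨v0, hv0, rfl⟩, ?_⟩
    ext g
    show g ∈ D ↔ IsConj (T v0) g
    rw [isConj_iff]
    constructor
    · intro hg
      obtain ⟨v, hv, rfl⟩ := (hmem g).mp hg
      obtain ⟨A, -, hA⟩ := sympTrans_transitive (m := n) (F := ZMod 2) hv0 hv
      exact ⟨A, by rw [conj_T, hA]⟩
    · rintro ⟨A, rfl⟩
      rw [conj_T]
      exact (hmem _).mpr ⟨_, mulVec_ne_zero A hv0, rfl⟩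
  · -- generation
    rw [eq_top_iff, ← Cfsg.Agent.S0765.result (F := ZMod 2) n, Subgroup.closure_le]
    rintro A ⟨w, c, hA⟩
    rcases zmod2_cases c with hc | hc
    · have : A = 1 := by
        apply Subtype.ext
        rw [hA, hc, sympTransvection_zero]
        rfl
      rw [this]; exact one_mem _
    · by_cases hw : w = 0
      · have : A = 1 := by
          apply Subtype.ext
          rw [hA, hw]
          unfold Cfsg.sympTransvection
          simp [Matrix.vecMulVec]
          rfl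
        rw [this]; exact one_mem _
      · apply Subgroup.subset_closure
        refine (hmem A).mpr ⟨w, hw, ?_⟩
        apply Subtype.ext
        rw [hA, hc]
        rfl

end Cfsg.Agent.S0440
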