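import Cfsg.Statements.S0442
import Mathlib

set_option autoImplicit false
open Cfsg

namespace Cfsg.Agent.S0442

/-- an involution `a` inverts `a * b` when `b` is an involution -/
theorem semiconj_inv {G : Type*} [Group G] (a b : G) (ha : a * a = 1) (hb : b * b = 1) :
    SemiconjBy a (a * b) (a * b)⁻¹ := by
  have hainv : a⁻¹ = a := inv_eq_of_mul_eq_one_left ha
  have hbinv : b⁻¹ = b := inv_eq_of_mul_eq_one_left hb
  show a * (a * b) = (a * b)⁻¹ * a
  rw [mul_inv_rev, hainv, hbinv, ← mul_assoc, ha, one_mul, mul_assoc, ha, mul_one]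

theorem semiconj_inv' {G : Type*} [Group G] (a b : G) (ha : a * a = 1) (hb : b * b = 1) :
    SemiconjBy b (a * b) (a * b)⁻¹ := by
  have hainv : a⁻¹ = a := inv_eq_of_mul_eq_one_left ha
  have hbinv : b⁻¹ = b := inv_eq_of_mul_eq_one_left hb
  show b * (a * b) = (a * b)⁻¹ * b
  rw [mul_inv_rev, hainv, hbinv, mul_assoc]

theorem commute_of_sq {G : Type*} [Group G] (a c : G) (h : SemiconjBy a c c⁻¹) (m : ℕ)
    (hm : c ^ (2 * m) = 1) : Commute (c ^ m) a := by
  have h1 : SemiconjBy a (c ^ m) (c⁻¹ ^ m) := h.pow_right m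
  have h2 : c⁻¹ ^ m = c ^ m := by
    rw [inv_pow]
    apply inv_eq_of_mul_eq_one_left
    rw [← pow_add, ← two_mul, hm]
  rw [h2] at h1
  exact (show Commute a (c ^ m) from h1).symm

theorem aux {G : Type*} [Group G] (a g b b' : G) (ha2 : a * a = 1) (hb : b = g⁻¹ * a * g)
    (hb' : b' = g * a * g⁻¹) :
    (∀ m : ℕ, (a * b) ^ (2 * m + 1) = 1 → Commute (g * (a * b) ^ m) a) ∧
    (∀ m : ℕ, (a * b) ^ (2 * m) = 1 → Commute ((a * b) ^ m) a ∧ Commute ((a * b') ^ m) a) := by
  have hainv : a⁻¹ = a := inv_eq_of_mul_eq_one_left ha2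
  have hb2 : b * b = 1 := by
    rw [hb]
    calc g⁻¹ * a * g * (g⁻¹ * a * g) = g⁻¹ * (a * a) * g := by simp [mul_assoc]
      _ = 1 := by rw [ha2]; simp
  have hb'2 : b' * b' = 1 := by
    rw [hb']
    calc g * a * g⁻¹ * (g * a * g⁻¹) = g * (a * a) * g⁻¹ := by simp [mul_assoc]
      _ = 1 := by rw [ha2]; simp
  have hbinv : b⁻¹ = b := inv_eq_of_mul_eq_one_left hb2
  constructor
  · intro m hpow
    show g * (a * b) ^ m * a = a * (g * (a * b) ^ m)
    have h5 : a * g = g * b := by rw [hb]; simp [mul_assoc]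
    rw [← mul_assoc a g, h5, mul_assoc, mul_assoc]
    congr 1
    -- c^m a = b c^m
    have h6 : SemiconjBy b ((a * b) ^ m) ((a * b)⁻¹ ^ m) := (semiconj_inv' a b ha2 hb2).pow_right m
    have h6' : b * (a * b) ^ m = (a * b)⁻¹ ^ m * b := h6
    rw [h6']
    have h8 : (a * b) ^ (m + 1) = (a * b)⁻¹ ^ m := by
      rw [inv_pow]
      apply eq_inv_of_mul_eq_one_left
      rw [← pow_add]
      have : m + 1 + m = 2 * m + 1 := by ring
      rw [this, hpow]
    calc (a * b) ^ m * a = (a * b) ^ m * ((a * b) * b) := by rw [mul_assoc a b b, hb2, mul_one]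
      _ = (a * b) ^ (m + 1) * b := by rw [pow_succ]; simp only [mul_assoc]
      _ = (a * b)⁻¹ ^ m * b := by rw [h8]
  · intro m hpow
    refine ⟨commute_of_sq a (a * b) (semiconj_inv a b ha2 hb2) m hpow, ?_⟩
    apply commute_of_sq a (a * b') (semiconj_inv a b' ha2 hb'2) m
    have : a * b' = g * (a * b)⁻¹ * g⁻¹ := by
      rw [mul_inv_rev, hainv, hbinv, hb, hb']; simp [mul_assoc]
    rw [this, conj_pow, inv_pow, hpow]; simp

/-- A standard trick for producing elements of an involution centraliser: for an involution a and an element g, let b be the conjugate g⁻¹ * a * g. If a * b has odd order 2m + 1 then g * (a * b) ^ m commutes with a; if a * b has even order 2m then (a * b) ^ m and (a * (g * a * g⁻¹)) ^ m commute with a. -/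
theorem result {G : Type*} [Group G] (a g : G) (ha : orderOf a = 2) : (∀ m : ℕ, orderOf (a * (g⁻¹ * a * g)) = 2 * m + 1 → Commute (g * (a * (g⁻¹ * a * g)) ^ m) a) ∧ (∀ m : ℕ, orderOf (a * (g⁻¹ * a * g)) = 2 * m → Commute ((a * (g⁻¹ * a * g)) ^ m) a ∧ Commute ((a * (g * a * g⁻¹)) ^ m) a) := by
  have ha2 : a * a = 1 := by
    have h2 : a ^ 2 = 1 := by rw [← ha]; exact pow_orderOf_eq_one a
    simpa [pow_two] using h2
  obtain ⟨h1, h2⟩ := aux a g _ _ ha2 rfl rfl
  constructor
  · intro m hm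
    apply h1
    rw [← hm]; exact pow_orderOf_eq_one _
  · intro m hm
    apply h2
    rw [← hm]; exact pow_orderOf_eq_one _

end Cfsg.Agent.S0442
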