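import Cfsg.Statements.S0443
import Mathlib

set_option autoImplicit false
open Cfsg

namespace Cfsg.Agent.S0443

/-- Two definitions of a 2-central involution agree: an element t of order 2 of a finite group lies in the centre of some Sylow 2-subgroup if and only if its centraliser contains some Sylow 2-subgroup. -/
theorem result {G : Type*} [Group G] [Finite G] (t : G) (ht : orderOf t = 2) : Cfsg.IsTwoCentralInvolution t ↔ ∃ P : Sylow 2 G, (P : Subgroup G) ≤ Subgroup.centralizer ({t} : Set G) := by
  constructor
  · rintro ⟨_, P, htP, hc⟩
    refine ⟨P, fun x hx => ?_⟩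
    rw [Subgroup.mem_centralizer_iff]
    intro h hh
    rw [Set.mem_singleton_iff] at hh
    subst hh
    exact (hc x hx).symm
  · rintro ⟨P, hP⟩
    refine ⟨ht, P, ?_, ?_⟩
    · -- t ∈ P
      have hz : IsPGroup 2 (Subgroup.zpowers t) := by
        apply IsPGroup.of_card (n := 1)
        rw [Nat.card_zpowers, ht, pow_one]
      have hnorm : Subgroup.zpowers t ≤ Subgroup.normalizer ((P : Subgroup G) : Set G) := by
        rw [Subgroup.zpowers_le]
        rw [Subgroup.mem_normalizer_iff]
        intro h
        constructor
        · intro hh
          have : h ∈ Subgroup.centralizer ({t} : Set G) := hP hh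
          rw [Subgroup.mem_centralizer_iff] at this
          have h1 := this t rfl
          have : t * h * t⁻¹ = h := by rw [h1]; simp
          rw [this]; exact hh
        · intro hh
          have h2 : t * h * t⁻¹ ∈ Subgroup.centralizer ({t} : Set G) := hP hh
          rw [Subgroup.mem_centralizer_iff] at h2
          have h1 := h2 t rfl
          -- t * (t h t⁻¹) = (t h t⁻¹) * t → t h t⁻¹ = h
          have : t * h * t⁻¹ = h := by
            have : t * (t * h * t⁻¹) = t * h := by rw [h1]; simp
            exact mul_left_cancel this
          rw [this] at hh; exact hh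
      have hsup : IsPGroup 2 ((P : Subgroup G) ⊔ Subgroup.zpowers t : Subgroup G) :=
        P.isPGroup'.to_sup_of_normal_left' hz hnorm
      have := P.is_maximal' hsup le_sup_left
      have h3 : Subgroup.zpowers t ≤ (P : Subgroup G) := by
        rw [← this]; exact le_sup_right
      exact h3 (Subgroup.mem_zpowers t)
    · intro x hx
      have : x ∈ Subgroup.centralizer ({t} : Set G) := hP hx
      rw [Subgroup.mem_centralizer_iff] at this
      exact (this t rfl).symm

end Cfsg.Agent.S0443
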