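import Cfsg.Statements.S0445
import Cfsg.Agent.S0242

set_option autoImplicit false
open Cfsg

namespace Cfsg.Agent.S0445

section
variable {R : Type*} [CommRing R]

theorem det_of_col_zero {n : ℕ} (A : Matrix (Fin (n + 1)) (Fin (n + 1)) R)
    (h : ∀ i : Fin n, A i.succ 0 = 0) :
    A.det = A 0 0 * (A.submatrix Fin.succ Fin.succ).det := by
  rw [Matrix.det_succ_column_zero, Fin.sum_univ_succ]
  have : ∑ i : Fin n, (-1 : R) ^ (i.succ : ℕ) * A i.succ 0 *
      (A.submatrix i.succ.succAbove Fin.succ).det = 0 := by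
    apply Finset.sum_eq_zero
    intro i _
    rw [h i]; ring
  rw [this]
  simp [Fin.succAbove_zero]

theorem det_of_row_zero {n : ℕ} (A : Matrix (Fin (n + 1)) (Fin (n + 1)) R)
    (h : ∀ j : Fin n, A 0 j.succ = 0) :
    A.det = A 0 0 * (A.submatrix Fin.succ Fin.succ).det := by
  rw [Matrix.det_succ_row_zero, Fin.sum_univ_succ]
  have : ∑ j : Fin n, (-1 : R) ^ (j.succ : ℕ) * A 0 j.succ *
      (A.submatrix Fin.succ j.succ.succAbove).det = 0 := by
    apply Finset.sum_eq_zero
    intro j _
    rw [h j]; ring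
  rw [this]
  simp [Fin.succAbove_zero]

/-- determinant of a matrix commuting with the transvection `1 + E₀₁`. -/
theorem det_of_shape {n : ℕ} (A : Matrix (Fin (n + 2)) (Fin (n + 2)) R)
    (h0 : ∀ i : Fin (n + 1), A i.succ 0 = 0) (h1 : ∀ j : Fin n, A 1 j.succ.succ = 0) :
    A.det = A 0 0 * (A 1 1 * (A.submatrix (fun i : Fin n => i.succ.succ)
      (fun j : Fin n => j.succ.succ)).det) := by
  rw [det_of_col_zero A h0, det_of_row_zero (A.submatrix Fin.succ Fin.succ)]
  · rfl
  · intro j
    exact h1 j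

/-- commuting with the transvection, entrywise -/
theorem comm_transvection_iff {n : ℕ} (A : Matrix (Fin (n + 2)) (Fin (n + 2)) R) :
    A * Matrix.transvection 0 1 1 = Matrix.transvection 0 1 1 * A ↔
      (A 0 0 = A 1 1 ∧ (∀ i : Fin (n + 1), A i.succ 0 = 0) ∧
        ∀ j : Fin (n + 2), j ≠ 1 → A 1 j = 0) := by
  have key : A * Matrix.transvection 0 1 1 = Matrix.transvection 0 1 1 * A ↔
      A * Matrix.single 0 1 (1 : R) = Matrix.single 0 1 (1 : R) * A := by
    rw [Matrix.transvection, mul_add, add_mul, mul_one, one_mul]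
    exact add_right_inj A
  rw [key]
  constructor
  · intro h
    refine ⟨?_, ?_, ?_⟩
    · have := congr_fun (congr_fun h 0) 1
      simpa using this
    · intro i
      have := congr_fun (congr_fun h i.succ) 1
      rw [Matrix.mul_single_apply_same,
        Matrix.single_mul_apply_of_ne (h := Fin.succ_ne_zero i)] at this
      simpa using this
    · intro j hj
      have := congr_fun (congr_fun h 0) j
      rw [Matrix.mul_single_apply_of_ne (hbj := hj), Matrix.single_mul_apply_same] at this
      simpa using this.symm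
  · rintro ⟨h1, h2, h3⟩
    ext a b
    by_cases hb : b = 1
    · subst hb
      rw [Matrix.mul_single_apply_same, mul_one]
      refine Fin.cases ?_ (fun i => ?_) a
      · rw [Matrix.single_mul_apply_same, one_mul, h1]
      · rw [Matrix.single_mul_apply_of_ne (h := Fin.succ_ne_zero i), h2 i]
    · rw [Matrix.mul_single_apply_of_ne (hbj := hb)]
      refine Fin.cases ?_ (fun i => ?_) a
      · rw [Matrix.single_mul_apply_same, one_mul, h3 b hb]
      · rw [Matrix.single_mul_apply_of_ne (h := Fin.succ_ne_zero i)]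

end

/-- the matrix built from the data -/
def build (r : Fin 4 → ZMod 2) (c : Fin 3 → ZMod 2) (B : Matrix (Fin 3) (Fin 3) (ZMod 2)) :
    Matrix (Fin 5) (Fin 5) (ZMod 2) :=
  Matrix.of ((Fin.cons (Fin.cons 1 r : Fin 5 → ZMod 2)
    (Fin.cons (Fin.cons 0 (Fin.cons 1 (fun _ => 0)) : Fin 5 → ZMod 2)
      (fun i : Fin 3 => (Fin.cons 0 (Fin.cons (c i) (B i)) : Fin 5 → ZMod 2)))) :
        Fin 5 → Fin 5 → ZMod 2)

section
variable (r : Fin 4 → ZMod 2) (c : Fin 3 → ZMod 2) (B : Matrix (Fin 3) (Fin 3) (ZMod 2))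

@[simp] theorem build_00 : build r c B 0 0 = 1 := rfl
@[simp] theorem build_0s (j : Fin 4) : build r c B 0 j.succ = r j := rfl
@[simp] theorem build_10 : build r c B 1 0 = 0 := rfl
@[simp] theorem build_11 : build r c B 1 1 = 1 := rfl
@[simp] theorem build_1ss (j : Fin 3) : build r c B 1 j.succ.succ = 0 := rfl
@[simp] theorem build_ss0 (i : Fin 3) : build r c B i.succ.succ 0 = 0 := rfl
@[simp] theorem build_ss1 (i : Fin 3) : build r c B i.succ.succ 1 = c i := rfl
@[simp] theorem build_ssss (i j : Fin 3) : build r c B i.succ.succ j.succ.succ = B i j := rfl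

theorem build_comm :
    build r c B * Matrix.transvection 0 1 1 = Matrix.transvection 0 1 1 * build r c B := by
  rw [comm_transvection_iff]
  refine ⟨rfl, ?_, ?_⟩
  · intro i
    refine Fin.cases ?_ (fun k => ?_) i
    · rfl
    · rfl
  · intro j
    refine Fin.cases ?_ (fun k => ?_) j
    · intro _; rfl
    · refine Fin.cases ?_ (fun l => ?_) k
      · intro h; exact absurd rfl h
      · intro _; rfl

theorem build_det : (build r c B).det = B.det := by
  rw [det_of_shape]
  · rw [build_00, build_11, one_mul, one_mul]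
    rfl
  · intro i
    refine Fin.cases ?_ (fun k => ?_) i
    · rfl
    · rfl
  · intro j; rfl

end

theorem zmod2_aux : ∀ x y z : ZMod 2, x * (y * z) = 1 → x = 1 ∧ y = 1 ∧ z = 1 := by decide

theorem shape_of_comm (A : Matrix (Fin 5) (Fin 5) (ZMod 2))
    (hA : A * Matrix.transvection 0 1 1 = Matrix.transvection 0 1 1 * A) (hdet : A.det = 1) :
    A 0 0 = 1 ∧ A 1 1 = 1 ∧ (∀ i : Fin 4, A i.succ 0 = 0) ∧ (∀ j : Fin 5, j ≠ 1 → A 1 j = 0) ∧
      (A.submatrix (fun i : Fin 3 => i.succ.succ) (fun j : Fin 3 => j.succ.succ)).det = 1 := by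
  obtain ⟨h1, h2, h3⟩ := (comm_transvection_iff A).mp hA
  have hd := det_of_shape A h2 (fun j => h3 j.succ.succ (by
    intro h
    have := congr_arg Fin.val h
    simp at this))
  rw [hdet] at hd
  obtain ⟨e1, e2, e3⟩ := zmod2_aux _ _ _ hd.symm
  exact ⟨e1, e2, h2, h3, e3⟩

theorem build_of_shape (A : Matrix (Fin 5) (Fin 5) (ZMod 2))
    (hA : A * Matrix.transvection 0 1 1 = Matrix.transvection 0 1 1 * A) (hdet : A.det = 1) :
    build (fun j => A 0 j.succ) (fun i => A i.succ.succ 1)
      (A.submatrix (fun i : Fin 3 => i.succ.succ) (fun j : Fin 3 => j.succ.succ)) = A := by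
  obtain ⟨e1, e2, h2, h3, -⟩ := shape_of_comm A hA hdet
  ext i j
  refine Fin.cases ?_ (fun i' => ?_) i
  · refine Fin.cases ?_ (fun j' => ?_) j
    · rw [build_00, e1]
    · rw [build_0s]
  · refine Fin.cases ?_ (fun i'' => ?_) i'
    · refine Fin.cases ?_ (fun j' => ?_) j
      · show build _ _ _ 1 0 = A 1 0
        rw [build_10, h3 0 (by decide)]
      · refine Fin.cases ?_ (fun j'' => ?_) j'
        · show build _ _ _ 1 1 = A 1 1
          rw [build_11, e2]
        · show build _ _ _ 1 j''.succ.succ = A 1 j''.succ.succ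
          rw [build_1ss, h3]
          intro h
          have := congr_arg Fin.val h
          simp at this
    · refine Fin.cases ?_ (fun j' => ?_) j
      · rw [build_ss0, h2 i''.succ]
      · refine Fin.cases ?_ (fun j'' => ?_) j'
        · show build _ _ _ i''.succ.succ 1 = A i''.succ.succ 1
          rw [build_ss1]
        · rw [build_ssss]; rfl

/-- the explicit parametrisation of the centraliser -/
noncomputable def cEquiv (s : Matrix.SpecialLinearGroup (Fin 5) (ZMod 2))
    (hs : (s : Matrix (Fin 5) (Fin 5) (ZMod 2)) = Matrix.transvection 0 1 1) :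
    ↥(Subgroup.centralizer ({s} : Set (Matrix.SpecialLinearGroup (Fin 5) (ZMod 2)))) ≃
      (Fin 4 → ZMod 2) × (Fin 3 → ZMod 2) × Matrix.SpecialLinearGroup (Fin 3) (ZMod 2) where
  toFun g :=
    have hg : (g.1 : Matrix (Fin 5) (Fin 5) (ZMod 2)) * Matrix.transvection 0 1 1 =
        Matrix.transvection 0 1 1 * (g.1 : Matrix (Fin 5) (Fin 5) (ZMod 2)) := by
      have := Subgroup.mem_centralizer_singleton_iff.mp g.2
      have h2 := congr_arg (fun x : Matrix.SpecialLinearGroup (Fin 5) (ZMod 2) =>
        (x : Matrix (Fin 5) (Fin 5) (ZMod 2))) this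
      simpa [hs] using h2
    (fun j => (g.1 : Matrix (Fin 5) (Fin 5) (ZMod 2)) 0 j.succ,
      fun i => (g.1 : Matrix (Fin 5) (Fin 5) (ZMod 2)) i.succ.succ 1,
      ⟨(g.1 : Matrix (Fin 5) (Fin 5) (ZMod 2)).submatrix (fun i : Fin 3 => i.succ.succ)
        (fun j : Fin 3 => j.succ.succ), (shape_of_comm _ hg g.1.det_coe).2.2.2.2⟩)
  invFun d :=
    ⟨⟨build d.1 d.2.1 (d.2.2 : Matrix (Fin 3) (Fin 3) (ZMod 2)), by
        rw [build_det]; exact d.2.2.det_coe⟩,
      Subgroup.mem_centralizer_singleton_iff.mpr (Subtype.ext (by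
        show build d.1 d.2.1 (d.2.2 : Matrix (Fin 3) (Fin 3) (ZMod 2)) *
            (s : Matrix (Fin 5) (Fin 5) (ZMod 2)) =
          (s : Matrix (Fin 5) (Fin 5) (ZMod 2)) *
            build d.1 d.2.1 (d.2.2 : Matrix (Fin 3) (Fin 3) (ZMod 2))
        rw [hs]; exact build_comm _ _ _))⟩
  left_inv g := by
    have hg : (g.1 : Matrix (Fin 5) (Fin 5) (ZMod 2)) * Matrix.transvection 0 1 1 =
        Matrix.transvection 0 1 1 * (g.1 : Matrix (Fin 5) (Fin 5) (ZMod 2)) := by
      have := Subgroup.mem_centralizer_singleton_iff.mp g.2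
      have h2 := congr_arg (fun x : Matrix.SpecialLinearGroup (Fin 5) (ZMod 2) =>
        (x : Matrix (Fin 5) (Fin 5) (ZMod 2))) this
      simpa [hs] using h2
    apply Subtype.ext
    apply Subtype.ext
    exact build_of_shape _ hg g.1.det_coe
  right_inv d := by
    obtain ⟨r, c, B⟩ := d
    refine Prod.ext ?_ (Prod.ext ?_ ?_)
    · funext j; rfl
    · funext i; rfl
    · apply Subtype.ext
      ext i j
      rfl

/-- In the special linear group of dimension 5 over the field with two elements, the centraliser of a transvection has order 21504 = 2 ^ 7 · 168 (it is an extension of an extraspecial group of order 2 ^ 7 by the simple group of order 168). -/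
theorem result (s : Matrix.SpecialLinearGroup (Fin 5) (ZMod 2)) (hs : (s : Matrix (Fin 5) (Fin 5) (ZMod 2)) = Matrix.transvection 0 1 1) : Nat.card (Subgroup.centralizer ({s} : Set (Matrix.SpecialLinearGroup (Fin 5) (ZMod 2)))) = 21504 := by
  rw [Nat.card_congr (cEquiv s hs), Nat.card_prod, Nat.card_prod]
  have h3 : Nat.card (Matrix.SpecialLinearGroup (Fin 3) (ZMod 2)) = 168 := by
    have := Cfsg.Agent.S0242.result (F := ZMod 2) (q := 2) (by simp) 3 (by norm_num)
    simp only [Nat.add_one_sub_one, one_mul] at this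
    rw [this]
    decide
  rw [h3]
  simp

end Cfsg.Agent.S0445
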