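import Cfsg.Statements.S0460
import Mathlib
import Cfsg.Agent.Helper17.ONOrd.SubJ1
import Cfsg.Agent.Helper17.ONOrd.SubM11

set_option autoImplicit false
set_option linter.style.haveILetI false
open Cfsg

namespace Cfsg.Agent.S0460

/-- The O'Nan group exists as a transitive permutation group of degree 122760: simple of order 460815505920, point stabiliser of order 3753792, and containing simple subgroups of orders 175560 and 7920. -/
theorem result : ∃ H : Subgroup (Equiv.Perm (Fin 122760)), Cfsg.IsON H ∧ MulAction.IsPretransitive H (Fin 122760) ∧ Nat.card (MulAction.stabilizer H (0 : Fin 122760)) = 3753792 ∧ (∃ K : Subgroup H, Cfsg.IsJ1 K) ∧ (∃ K : Subgroup H, Cfsg.IsM11 K) := by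
  classical
  -- the faithful permutation representation of the presented O'Nan group on `Fin 122760`
  let φ : Helper17.ONTC.G →* Equiv.Perm (Fin 122760) :=
    Helper17.PermFin.restrictFin 122760 Helper17.ONTC.phi
      (fun g i hi => Helper17.ONTC.phi_lt g hi)
  have hφ : Function.Injective φ :=
    Helper17.PermFin.restrictFin_injective 122760 Helper17.ONTC.phi
      (fun g i hi => Helper17.ONTC.phi_lt g hi) (fun g i hi => Helper17.ONTC.phi_ge g hi)
      Helper17.ONOrd.phi_injective
  haveI := Helper17.ONOrd.isSimple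
  haveI := Helper17.ONOrd.finG
  obtain ⟨hs, hc⟩ := Helper17.PermFin.range_simple_card φ hφ Helper17.ONOrd.card_G
  -- transitivity
  have htr : MulAction.IsPretransitive φ.range (Fin 122760) := by
    have h0 : ∀ y : Fin 122760, ∃ h : φ.range, h • (0 : Fin 122760) = y := by
      intro y
      obtain ⟨g, hg⟩ := Helper17.ONOrd.trans0 (p := y.1) y.2
      refine ⟨⟨φ g, g, rfl⟩, ?_⟩
      apply Fin.ext
      exact hg
    refine ⟨fun x y => ?_⟩
    obtain ⟨hx, hx'⟩ := h0 x
    obtain ⟨hy, hy'⟩ := h0 y
    refine ⟨hy * hx⁻¹, ?_⟩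
    rw [mul_smul, ← hx', inv_smul_smul, hy']
  refine ⟨φ.range, ⟨hs, hc⟩, htr, ?_, ?_, ?_⟩
  · -- the point stabiliser
    haveI := htr
    haveI : Finite φ.range := Nat.finite_of_card_ne_zero (by rw [hc]; norm_num)
    have h1 := MulAction.index_stabilizer_of_transitive φ.range (0 : Fin 122760)
    have h2 := Subgroup.card_mul_index (MulAction.stabilizer φ.range (0 : Fin 122760))
    rw [h1, hc, Nat.card_fin] at h2
    omega
  · -- a subgroup `J₁`
    let ψ : Helper17.J1PTC.G →* φ.range := φ.rangeRestrict.comp Helper17.ONSubgroups.psiJ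
    have hψ : Function.Injective ψ := by
      intro a b hab
      apply Helper17.ONSubgroups.psiJ_injective
      apply hφ
      exact congrArg Subtype.val hab
    haveI := Helper17.J1Ord.isSimple
    obtain ⟨h1, h2⟩ := Helper17.PermFin.range_simple_card ψ hψ Helper17.J1Ord.card_G
    exact ⟨ψ.range, h1, h2⟩
  · -- a subgroup `M₁₁`
    let ψ : Helper17.M11PTC.G →* φ.range := φ.rangeRestrict.comp Helper17.ONSubgroups.psiM
    have hψ : Function.Injective ψ := by
      intro a b hab
      apply Helper17.ONSubgroups.psiM_injective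
      apply hφ
      exact congrArg Subtype.val hab
    haveI := Helper17.M11Ord.isSimple
    obtain ⟨h1, h2⟩ := Helper17.PermFin.range_simple_card ψ hψ Helper17.M11Ord.card_G
    exact ⟨ψ.range, h1, h2⟩

end Cfsg.Agent.S0460
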