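import Cfsg.Statements.S0481
import Mathlib
import Cfsg.Agent.Helper3.Conj

set_option autoImplicit false
set_option linter.style.haveILetI false
open Cfsg
open scoped Pointwise

namespace Cfsg.Agent.S0481

/-- Large extraspecial subgroups: let z be an involution of a finite group G whose centraliser C contains a normal 2-subgroup Q with centre of order 2 and all squares central, such that every element of G centralising Q lies in Q. Then C contains a Sylow 2-subgroup of G, and any involution of G whose centraliser contains a Sylow 2-subgroup of G is conjugate to z. -/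
theorem result {G : Type*} [Group G] [Finite G] (z : G) (hz : orderOf z = 2) (Q : Subgroup G) (hQC : Q ≤ Subgroup.centralizer ({z} : Set G)) (hQn : ∀ g ∈ Subgroup.centralizer ({z} : Set G), ∀ q ∈ Q, g * q * g⁻¹ ∈ Q) (hQ2 : IsPGroup 2 Q) (hZ : Nat.card (Subgroup.center Q) = 2) (hsq : ∀ x : Q, x ^ 2 ∈ Subgroup.center Q) (hlarge : Subgroup.centralizer (Q : Set G) ≤ Q) : (∃ P : Sylow 2 G, (P : Subgroup G) ≤ Subgroup.centralizer ({z} : Set G)) ∧ ∀ u : G, orderOf u = 2 → (∃ P : Sylow 2 G, (P : Subgroup G) ≤ Subgroup.centralizer ({u} : Set G)) → IsConj z u := by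
  classical
  have hz1 : z ≠ 1 := by
    intro h; rw [h, orderOf_one] at hz; omega
  have hcz : ∀ q ∈ Q, z * q = q * z := by
    intro q hq
    exact (Subgroup.mem_centralizer_iff.mp (hQC hq)) z rfl
  have hzQ : z ∈ Q := by
    apply hlarge
    rw [Subgroup.mem_centralizer_iff]
    intro q hq
    exact (hcz q hq).symm
  -- characterisation of central elements of Q
  have hcenter : ∀ c : G, c ∈ Subgroup.centralizer (Q : Set G) → c ≠ 1 → c = z := by
    intro c hc hc1
    have hcQ : c ∈ Q := hlarge hc
    have hmem : ∀ y : G, ∀ hy : y ∈ Q, y ∈ Subgroup.centralizer (Q : Set G) →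
        (⟨y, hy⟩ : Q) ∈ Subgroup.center Q := by
      intro y hy hyc
      rw [Subgroup.mem_center_iff]
      intro q
      apply Subtype.ext
      exact (Subgroup.mem_centralizer_iff.mp hyc) q q.2
    have hzc : z ∈ Subgroup.centralizer (Q : Set G) := by
      rw [Subgroup.mem_centralizer_iff]
      intro q hq
      exact (hcz q hq).symm
    obtain ⟨w, -, hw⟩ := (Nat.card_eq_two_iff' (1 : Subgroup.center Q)).mp hZ
    have h1 : (⟨⟨c, hcQ⟩, hmem c hcQ hc⟩ : Subgroup.center Q) = w := by
      apply hw
      intro h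
      apply hc1
      have := congrArg (fun t : Subgroup.center Q => ((t : Q) : G)) h
      simpa using this
    have h2 : (⟨⟨z, hzQ⟩, hmem z hzQ hzc⟩ : Subgroup.center Q) = w := by
      apply hw
      intro h
      apply hz1
      have := congrArg (fun t : Subgroup.center Q => ((t : Q) : G)) h
      simpa using this
    have := congrArg (fun t : Subgroup.center Q => ((t : Q) : G)) (h1.trans h2.symm)
    simpa using this
  obtain ⟨P, hQP⟩ := hQ2.exists_le_sylow
  have hPz : (P : Subgroup G) ≤ Subgroup.centralizer ({z} : Set G) := by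
    haveI : Nontrivial (P : Subgroup G) := by
      refine ⟨⟨⟨z, hQP hzQ⟩, 1, ?_⟩⟩
      intro h
      exact hz1 (congrArg Subtype.val h)
    haveI : Fact (Nat.Prime 2) := ⟨Nat.prime_two⟩
    have hnt := P.isPGroup'.center_nontrivial
    obtain ⟨c, hc1⟩ := exists_ne (1 : Subgroup.center (P : Subgroup G))
    have hcc : ((c : (P : Subgroup G)) : G) ∈ Subgroup.centralizer (Q : Set G) := by
      rw [Subgroup.mem_centralizer_iff]
      intro q hq
      have := (Subgroup.mem_center_iff.mp c.2) ⟨q, hQP hq⟩
      exact congrArg Subtype.val this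
    have hcz' : ((c : (P : Subgroup G)) : G) = z := by
      apply hcenter _ hcc
      intro h
      apply hc1
      apply Subtype.ext
      apply Subtype.ext
      exact h
    intro x hx
    rw [Subgroup.mem_centralizer_iff]
    intro y hy
    rw [Set.mem_singleton_iff.mp hy, ← hcz']
    have := (Subgroup.mem_center_iff.mp c.2) ⟨x, hx⟩
    exact (congrArg Subtype.val this).symm
  refine ⟨⟨P, hPz⟩, ?_⟩
  intro u hu ⟨P', hP'u⟩
  haveI : Fact (Nat.Prime 2) := ⟨Nat.prime_two⟩
  obtain ⟨g, hg⟩ := MulAction.exists_smul_eq G P' P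
  have hg' : MulAut.conj g • (P' : Subgroup G) = (P : Subgroup G) := by
    rw [← hg]; rfl
  have hu' : g * u * g⁻¹ ∈ Subgroup.centralizer (Q : Set G) := by
    rw [Subgroup.mem_centralizer_iff]
    intro q hq
    have hqP : q ∈ MulAut.conj g • (P' : Subgroup G) := by rw [hg']; exact hQP hq
    rw [Cfsg.Agent.Helper3.mem_conj_smul_iff] at hqP
    have hcomm := (Subgroup.mem_centralizer_iff.mp (hP'u hqP)) u rfl
    -- hcomm : u * (g⁻¹ * q * g) = g⁻¹ * q * g * u
    calc q * (g * u * g⁻¹) = g * ((g⁻¹ * q * g) * u) * g⁻¹ := by group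
      _ = g * (u * (g⁻¹ * q * g)) * g⁻¹ := by rw [hcomm]
      _ = g * u * g⁻¹ * q := by group
  have hne : g * u * g⁻¹ ≠ 1 := by
    intro h
    have : u = 1 := by
      have h2 : u = g⁻¹ * (g * u * g⁻¹) * g := by group
      rw [h2, h]; group
    rw [this, orderOf_one] at hu; omega
  have hzu := hcenter _ hu' hne
  rw [isConj_iff]
  refine ⟨g⁻¹, ?_⟩
  rw [← hzu]; group

end Cfsg.Agent.S0481
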