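import Cfsg.Statements.S0502
import Mathlib
import Cfsg.Agent.Helper23.PGroup
import Cfsg.Agent.Helper3.KleinFour
-- import your own Cfsg.Agent.* helpers here

set_option autoImplicit false
set_option linter.style.haveILetI false
open Cfsg

namespace Cfsg.Agent.S0502

open Cfsg.Agent.Helper3

/-- For an involution `u` normalizing an elementary abelian 2-group `E` of order at least 8,
`C_E(u)` has at least three elements. -/
theorem exists_centralized {P : Type*} [Group P] [Finite P]
    (E : Subgroup P) [hEn : E.Normal] (hE : IsMulCommutative E) (hE2 : ∀ e ∈ E, e ^ 2 = 1)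
    (hE8 : 8 ≤ Nat.card E) (z : P) (u : P) (hu : u * u = 1) :
    ∃ w ∈ E, w * u = u * w ∧ w ≠ 1 ∧ w ≠ z := by
  classical
  letI : CommGroup ↥E := { (inferInstance : Group ↥E) with mul_comm := hE.is_comm.comm }
  let c : ↥E →* ↥E := (MulAut.conjNormal u : MulAut ↥E).toMonoidHom
  have hc : ∀ e : ↥E, ((c e : ↥E) : P) = u * e * u⁻¹ := fun e => rfl
  have huinv : u⁻¹ = u := inv_eq_of_mul_eq_one_left hu
  have hcc : ∀ e : ↥E, c (c e) = e := by
    intro e
    apply Subtype.ext
    rw [hc, hc, huinv]
    calc u * (u * ↑e * u) * u = (u * u) * ↑e * (u * u) := by group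
      _ = ↑e := by rw [hu, one_mul, mul_one]
  have hsq : ∀ e : ↥E, e * e = 1 := by
    intro e
    apply Subtype.ext
    have := hE2 e e.2
    rw [pow_two] at this
    exact this
  let φ : ↥E →* ↥E := MonoidHom.id ↥E * c
  have hφ : ∀ e : ↥E, φ e = e * c e := fun e => rfl
  have hcφ : ∀ e : ↥E, c (φ e) = φ e := by
    intro e
    rw [hφ, map_mul, hcc, mul_comm]
  have hrk : φ.range ≤ φ.ker := by
    rintro _ ⟨e, rfl⟩
    rw [MonoidHom.mem_ker, hφ (φ e), hcφ, hsq]
  have hcard : Nat.card ↥E = Nat.card φ.ker * Nat.card φ.range := by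
    rw [← Subgroup.index_ker, Subgroup.card_mul_index]
  have hle : Nat.card φ.range ≤ Nat.card φ.ker := Subgroup.card_le_of_le hrk
  by_contra hcon
  push Not at hcon
  have hker : ∀ x ∈ φ.ker, x = 1 ∨ (x : P) = z := by
    intro x hx
    rw [MonoidHom.mem_ker, hφ] at hx
    -- c x = x⁻¹ = x
    have h1 : c x = x := by
      have h2 : x * c x = x * x := by rw [hx, hsq]
      exact mul_left_cancel h2
    have h3 : u * (x : P) * u⁻¹ = x := by rw [← hc, h1]
    have h4 : (x : P) * u = u * x := by
      calc (x : P) * u = (u * x * u⁻¹) * u := by rw [h3]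
        _ = u * x := by group
    by_cases hx1 : (x : P) = 1
    · left; exact Subtype.ext hx1
    · right; exact hcon x x.2 h4 hx1
  have h2 : Nat.card φ.ker ≤ 2 := by
    by_cases hzE : z ∈ E
    · apply card_le_two_of_forall φ.ker ⟨z, hzE⟩
      intro x hx
      rcases hker x hx with h | h
      · exact Or.inl h
      · exact Or.inr (Subtype.ext h)
    · apply card_le_two_of_forall φ.ker 1
      intro x hx
      rcases hker x hx with h | h
      · exact Or.inl h
      · exact absurd (h ▸ x.2) hzE
  have h3 : Nat.card ↥E ≤ 2 * 2 := by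
    rw [hcard]
    exact Nat.mul_le_mul h2 (hle.trans h2)
  omega

/-- If a finite 2-group has a normal elementary abelian subgroup of order at least 8, then any two of its Klein
four-subgroups are joined by a chain of Klein four-subgroups with consecutive members commuting elementwise. -/
theorem result {P : Type*} [Group P] [Finite P] (hP : IsPGroup 2 P)
    (E : Subgroup P) [E.Normal] (hE : IsMulCommutative E) (hE2 : ∀ e ∈ E, e ^ 2 = 1) (hE8 : 8 ≤ Nat.card E) :
    Cfsg.IsFourConnected P := by
  classical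
  haveI : Fact (Nat.Prime 2) := ⟨Nat.prime_two⟩
  have hEne : E ≠ ⊥ := by
    intro h
    rw [h, Subgroup.card_bot] at hE8
    omega
  obtain ⟨z, hzE, hzc, hz1⟩ := Cfsg.Agent.Helper23.exists_mem_inf_center_ne_one hP E hEne
  have hzz : z * z = 1 := by
    have := hE2 z hzE
    rwa [pow_two] at this
  have hzcomm : ∀ x : P, Commute x z := fun x => Subgroup.mem_center_iff.mp hzc x
  have hEcomm : ∀ a ∈ E, ∀ b ∈ E, a * b = b * a := by
    intro a ha b hb
    exact congrArg Subtype.val (hE.is_comm.comm ⟨a, ha⟩ ⟨b, hb⟩)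
  set r : Subgroup P → Subgroup P → Prop :=
    fun A B => IsKleinFour A ∧ IsKleinFour B ∧ ∀ a ∈ A, ∀ b ∈ B, a * b = b * a with hr
  have hsymm : ∀ A B : Subgroup P, r A B → r B A := by
    intro A B ⟨hA, hB, h⟩
    exact ⟨hB, hA, fun b hb a ha => (h a ha b hb).symm⟩
  have step : ∀ U : Subgroup P, IsKleinFour U →
      ∃ W : Subgroup P, W ≤ E ∧ IsKleinFour W ∧ Relation.ReflTransGen r U W ∧
        Relation.ReflTransGen r W U := by
    intro U hU
    have hU4 : Nat.card U = 4 := IsKleinFour.card_four
    obtain ⟨u, huU, hu1, huz⟩ : ∃ u ∈ U, u ≠ 1 ∧ u ≠ z := by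
      by_contra hcon
      push Not at hcon
      have := card_le_two_of_forall U z (fun x hx => by
        by_cases h1 : x = 1
        · exact Or.inl h1
        · exact Or.inr (hcon x hx h1))
      omega
    have huu : u * u = 1 := by
      have := IsKleinFour.mul_self (G := U) ⟨u, huU⟩
      exact congrArg Subtype.val this
    have hUcomm : ∀ a ∈ U, ∀ b ∈ U, Commute a b := by
      intro a ha b hb
      exact congrArg Subtype.val
        ((IsKleinFour.isMulCommutative (G := U)).is_comm.comm ⟨a, ha⟩ ⟨b, hb⟩)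
    obtain ⟨w, hwE, hwu, hw1, hwz⟩ := exists_centralized E hE hE2 hE8 z u huu
    have hww : w * w = 1 := by
      have := hE2 w hwE
      rwa [pow_two] at this
    set A : Subgroup P := kleinOf u z huu hzz (hzcomm u).eq with hA
    set W : Subgroup P := kleinOf z w hzz hww (hzcomm w).eq.symm with hW
    have hAK : IsKleinFour A := isKleinFour_kleinOf hu1 hz1 huz
    have hWK : IsKleinFour W := isKleinFour_kleinOf hz1 hw1 (fun h => hwz h.symm)
    refine ⟨W, kleinOf_le hzE hwE, hWK, ?_⟩
    have h1 : r U A := by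
      refine ⟨hU, hAK, ?_⟩
      intro a ha b hb
      exact (commute_of_mem_kleinOf (hUcomm a ha u huU) (hzcomm a) hb).eq
    have h2 : r A W := by
      refine ⟨hAK, hWK, ?_⟩
      intro a ha b hb
      have hbu : Commute b u :=
        (commute_of_mem_kleinOf (c := u) (hzcomm u) (show Commute u w from hwu.symm) hb).symm
      have hbz : Commute b z := hzcomm b
      exact (commute_of_mem_kleinOf hbu hbz ha).eq.symm
    exact ⟨(Relation.ReflTransGen.single h1).trans (Relation.ReflTransGen.single h2),
      (Relation.ReflTransGen.single (hsymm _ _ h2)).trans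
        (Relation.ReflTransGen.single (hsymm _ _ h1))⟩
  intro U V hU hV
  obtain ⟨W1, hW1E, hW1, hUW1, -⟩ := step U hU
  obtain ⟨W2, hW2E, hW2, -, hback⟩ := step V hV
  have h12 : r W1 W2 :=
    ⟨hW1, hW2, fun a ha b hb => hEcomm a (hW1E ha) b (hW2E hb)⟩
  exact hUW1.trans ((Relation.ReflTransGen.single h12).trans hback)

end Cfsg.Agent.S0502
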