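import Cfsg.Statements.S0505
import Cfsg.Agent.Helper7.TwoLocal
import Cfsg.Agent.S0044

set_option autoImplicit false
set_option linter.style.haveILetI false
open Cfsg

namespace Cfsg.Agent.S0505

/-- Let G be a finite group of even order in which the centralizer of every involution is solvable and has trivial
core (no nontrivial normal subgroup of odd order). Then G is of characteristic 2 type. -/
theorem result {G : Type*} [Group G] [Finite G]
    (h2 : Even (Nat.card G))
    (hs : ∀ t : G, orderOf t = 2 → Group.IsSolvable (Subgroup.centralizer ({t} : Set G)))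
    (hc : ∀ t : G, orderOf t = 2 → Cfsg.oddCore (Subgroup.centralizer ({t} : Set G)) = ⊥) :
    Cfsg.IsCharacteristicTwoType G := by
  haveI : Fact (Nat.Prime 2) := ⟨Nat.prime_two⟩
  refine ⟨h2, ?_⟩
  intro T hT hT1
  have hcent : ∀ t : G, orderOf t = 2 →
      Cfsg.generalizedFittingSubgroup ↥(Subgroup.centralizer ({t} : Set G)) =
        Cfsg.pCore 2 ↥(Subgroup.centralizer ({t} : Set G)) := by
    intro t ht
    haveI := hs t ht
    have hlayer : Cfsg.layer ↥(Subgroup.centralizer ({t} : Set G)) = ⊥ :=
      Cfsg.Agent.Helper7.centralizer_fitting_le_iff_layer_eq_bot.mp Cfsg.Agent.S0044.result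
    exact Cfsg.Agent.Helper7.generalizedFitting_eq_pCore_of (hc t ht) hlayer
  have hN := Cfsg.Agent.Helper7.generalizedFitting_normalizer_eq_pCore_of_centralizers hcent hT hT1
  unfold Cfsg.IsOfCharacteristicTwo
  rw [← hN]
  exact Cfsg.Agent.Helper7.centralizer_generalizedFitting_le

end Cfsg.Agent.S0505
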