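import Cfsg.Statements.S0518
import Cfsg.Agent.Helper5.S0518CASEB
import Cfsg.Agent.Helper5.S0518GLUEh
import Cfsg.Agent.Helper19.S0518LIB24
import Cfsg.Agent.Helper19.S0518CASEA
import Cfsg.Agent.Helper9.S0518HTRANS

set_option autoImplicit false
open Cfsg

namespace Cfsg.Agent.S0518

/-- Let G be a finite group of characteristic 2 type with trivial 2-core in which every 2-local subgroup is solvable
and, for every Sylow 2-subgroup S, the centralizer of the set of central involutions of S lies in the normalizer of S.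
Then either G has a strongly embedded subgroup, or the subgroup generated by the elements of odd order has two distinct
maximal 2-local subgroups, each isomorphic to the symmetric group of degree 4, whose intersection has order 8. -/
theorem result {G : Type*} [Group G] [Finite G]
    (hL : Cfsg.IsCharacteristicTwoType G) (hO : Cfsg.pCore 2 G = ⊥)
    (hN : ∀ N : Subgroup G, Cfsg.IsTwoLocal N → Group.IsSolvable N)
    (hZ : ∀ S : Sylow 2 G,
      Subgroup.centralizer {z : G | z ∈ (S : Subgroup G) ∧ z ^ 2 = 1 ∧ ∀ s ∈ (S : Subgroup G), s * z = z * s} ≤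
        Subgroup.normalizer ((S : Subgroup G) : Set G))
    (H : Subgroup G) (hH : H = Subgroup.closure {g : G | Odd (orderOf g)}) :
    (∃ K : Subgroup G, Cfsg.IsStronglyEmbedded K) ∨
      ∃ M₁ M₂ : Subgroup H, M₁ ≠ M₂ ∧ Cfsg.IsMaximalTwoLocal M₁ ∧ Cfsg.IsMaximalTwoLocal M₂ ∧
        Nonempty (M₁ ≃* Equiv.Perm (Fin 4)) ∧ Nonempty (M₂ ≃* Equiv.Perm (Fin 4)) ∧ Nat.card ↥(M₁ ⊓ M₂) = 8 := by
  subst hH
  rcases Cfsg.Agent.S0518P.GLUEh hL hO hN hZ with h | ⟨P₁, P₂, T, hne, m₁, m₂, s₁, s₂, ⟨e₁, e₂⟩ | ⟨e₁, e₂⟩⟩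
  · exact Or.inl h
  · obtain ⟨V₁, a₁⟩ := Cfsg.Agent.S0518P.LIB24 s₁ e₁
    obtain ⟨V₂, a₂⟩ := Cfsg.Agent.S0518P.LIB24 s₂ e₂
    exact Or.inr (Cfsg.Agent.S0518P.HTRANS _ (Cfsg.Agent.S0518P.CASEA hne
      (Cfsg.Agent.S0518P.MAXLOC_maxN m₁) (Cfsg.Agent.S0518P.MAXLOC_maxN m₂) a₁ a₂ e₁ e₂))
  · exact Or.inr (Cfsg.Agent.S0518P.HTRANS _ (Cfsg.Agent.S0518P.CASEB hZ hne m₁ m₂ s₁ s₂ e₁ e₂))

end Cfsg.Agent.S0518
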