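import Mathlib
import Cfsg.Statements.S0521
import Cfsg.Agent.Helper3.CyclicDerived
import Cfsg.Agent.Helper23.PLengthOne

set_option autoImplicit false
set_option linter.style.haveILetI false
open Cfsg

namespace Cfsg.Agent.S0521

/-- Let X be a finite solvable group of odd order, p a prime and S a Sylow p-subgroup of X whose commutator subgroup is
cyclic. Then the product of the largest normal subgroup of X of order prime to p with S is a normal subgroup of X. -/
theorem result {X : Type*} [Group X] [Finite X] [Group.IsSolvable X]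
    (hX : Odd (Nat.card X)) (p : ℕ) [Fact p.Prime] (S : Sylow p X) (hS : IsCyclic (commutator (S : Subgroup X))) :
    (Cfsg.pPrimeCore p X ⊔ (S : Subgroup X)).Normal := by
  by_cases hp2 : p = 2
  · subst hp2
    have hbot : (S : Subgroup X) = ⊥ := by
      obtain ⟨k, hk⟩ := IsPGroup.iff_card.mp S.isPGroup'
      have hdvd : Nat.card (S : Subgroup X) ∣ Nat.card X := Subgroup.card_subgroup_dvd_card _
      have hk0 : k = 0 := by
        by_contra hk0
        have : 2 ∣ Nat.card X := (dvd_pow_self 2 hk0).trans (hk ▸ hdvd)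
        exact (Nat.not_even_iff_odd.mpr hX) (even_iff_two_dvd.mpr this)
      rw [hk0, pow_zero] at hk
      exact Subgroup.card_eq_one.mp hk
    rw [hbot, sup_bot_eq]
    infer_instance
  · -- pass to the quotient by `O_{p'}(X)`
    have hπ : Function.Surjective (QuotientGroup.mk' (Cfsg.pPrimeCore p X)) :=
      QuotientGroup.mk'_surjective _
    have hYodd : Odd (Nat.card (X ⧸ Cfsg.pPrimeCore p X)) := by
      have hdvd : Nat.card (X ⧸ Cfsg.pPrimeCore p X) ∣ Nat.card X :=
        Subgroup.card_quotient_dvd_card _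
      exact Odd.of_dvd_nat hX hdvd
    have hO : Cfsg.pPrimeCore p (X ⧸ Cfsg.pPrimeCore p X) = ⊥ :=
      Cfsg.Agent.Helper23.eq_bot_of_normal_coprime_quotient_pPrimeCore p X _ inferInstance
        (Cfsg.Agent.Helper23.pPrimeCore_card_coprime p _)
    have hcent := Cfsg.Agent.Helper23.centralizer_pCore_le_of_isPSolvable
      (Cfsg.Agent.Helper10.isPSolvable_of_isSolvable p
        (inferInstance : Group.IsSolvable (X ⧸ Cfsg.pPrimeCore p X))) hO
    have hQP : Cfsg.pCore p (X ⧸ Cfsg.pPrimeCore p X) ≤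
        (S : Subgroup X).map (QuotientGroup.mk' (Cfsg.pPrimeCore p X)) :=
      Cfsg.Agent.Helper14.pCore_le_sylow p (S.mapSurjective hπ)
    have hP : IsPGroup p ↥((S : Subgroup X).map (QuotientGroup.mk' (Cfsg.pPrimeCore p X))) :=
      S.isPGroup'.map _
    obtain ⟨g, hg⟩ := hS.exists_generator
    have hcomm : ∀ x ∈ (S : Subgroup X).map (QuotientGroup.mk' (Cfsg.pPrimeCore p X)),
        ∀ y ∈ (S : Subgroup X).map (QuotientGroup.mk' (Cfsg.pPrimeCore p X)),
        x * y * x⁻¹ * y⁻¹ ∈ Subgroup.zpowers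
          (QuotientGroup.mk' (Cfsg.pPrimeCore p X) ((g : ↥(S : Subgroup X)) : X)) := by
      rintro _ ⟨s, hs, rfl⟩ _ ⟨t, ht, rfl⟩
      have h1 : (⟨s, hs⟩ : ↥(S : Subgroup X)) * ⟨t, ht⟩ * ⟨s, hs⟩⁻¹ * ⟨t, ht⟩⁻¹ ∈
          commutator ↥(S : Subgroup X) := by
        rw [commutator_def]
        exact Subgroup.commutator_mem_commutator (Subgroup.mem_top _) (Subgroup.mem_top _)
      obtain ⟨i, hi⟩ := Subgroup.mem_zpowers_iff.mp (hg ⟨_, h1⟩)
      refine Subgroup.mem_zpowers_iff.mpr ⟨i, ?_⟩
      have h2 : (((g : ↥(S : Subgroup X)) : X)) ^ i = s * t * s⁻¹ * t⁻¹ := by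
        have := congrArg (fun z : ↥(commutator ↥(S : Subgroup X)) => ((z : ↥(S : Subgroup X)) : X)) hi
        simpa using this
      rw [← map_zpow, h2, map_mul, map_mul, map_mul, map_inv, map_inv]
    have hle : (S : Subgroup X).map (QuotientGroup.mk' (Cfsg.pPrimeCore p X)) ≤
        Cfsg.pCore p (X ⧸ Cfsg.pPrimeCore p X) := by
      intro a ha
      exact Cfsg.Agent.Helper3.CyclicDerived.mem_pCore_of_cyclic hp2
        (Cfsg.Agent.Helper26.ab2_of_odd hYodd) hcent _ hP hQP _
        (Subgroup.mem_map_of_mem _ (g : ↥(S : Subgroup X)).2) hcomm a ha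
    have heq : (S : Subgroup X).map (QuotientGroup.mk' (Cfsg.pPrimeCore p X)) =
        Cfsg.pCore p (X ⧸ Cfsg.pPrimeCore p X) := le_antisymm hle hQP
    rw [← QuotientGroup.comap_map_mk', heq]
    infer_instance

end Cfsg.Agent.S0521
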