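import Cfsg.Statements.S0522
import Cfsg.Agent.Lead.TT6
import Cfsg.Agent.Helper7.Signalizer2
import Cfsg.Agent.Helper7.Basic

set_option autoImplicit false
open Cfsg

namespace Cfsg.Agent.S0522

/-- Transitivity Theorem (odd-order setting). Let X be a finite group of odd order in which the normalizer of every
nontrivial p-subgroup is solvable, P a Sylow p-subgroup, and B an abelian subgroup of P, normalized by P, with
C_P(B) = B and containing an elementary abelian subgroup of order p^3. Then for every prime q ≠ p, any two q-subgroups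
that are maximal among the q-subgroups normalized by B are conjugate by an element of the centralizer of B. -/
theorem result {X : Type*} [Group X] [Finite X] (hX : Odd (Nat.card X)) (p : ℕ)
    [Fact p.Prime] (hloc : ∀ T : Subgroup X, IsPGroup p T → T ≠ ⊥ → Group.IsSolvable (Subgroup.normalizer (T : Set X)))
    (P : Sylow p X) (B : Subgroup X) (hBP : B ≤ (P : Subgroup X))
    (hBn : ∀ x ∈ (P : Subgroup X), ∀ b ∈ B, x * b * x⁻¹ ∈ B) (hBa : IsMulCommutative B)
    (hBc : (P : Subgroup X) ⊓ Subgroup.centralizer (B : Set X) = B)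
    (hB3 : ∃ E : Subgroup X, E ≤ B ∧ (∀ e ∈ E, e ^ p = 1) ∧ p ^ 3 ≤ Nat.card E)
    (q : ℕ) [Fact q.Prime] (hqp : q ≠ p) (Q₁ Q₂ : Subgroup X)
    (h₁ : IsPGroup q Q₁ ∧ B ≤ Subgroup.normalizer (Q₁ : Set X) ∧
      ∀ R : Subgroup X, IsPGroup q R → B ≤ Subgroup.normalizer (R : Set X) → Q₁ ≤ R → R = Q₁)
    (h₂ : IsPGroup q Q₂ ∧ B ≤ Subgroup.normalizer (Q₂ : Set X) ∧
      ∀ R : Subgroup X, IsPGroup q R → B ≤ Subgroup.normalizer (R : Set X) → Q₂ ≤ R → R = Q₂) :
    ∃ c ∈ Subgroup.centralizer (B : Set X), Q₂ = Q₁.map (MulAut.conj c).toMonoidHom := by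
  classical
  have hp : p.Prime := Fact.out
  have hBab : ∀ a ∈ B, ∀ b ∈ B, a * b = b * a := by
    intro a ha b hb
    have := hBa.is_comm.comm (⟨a, ha⟩ : B) ⟨b, hb⟩
    exact congrArg Subtype.val this
  have hBp : IsPGroup p B := P.isPGroup'.to_le hBP
  obtain ⟨E, hEB, hEel, hEcard⟩ := hB3
  -- `p` is odd
  have hp2 : p ≠ 2 := by
    rintro rfl
    obtain ⟨k, hk⟩ := IsPGroup.iff_card.mp P.isPGroup'
    have hdvd : Nat.card (P : Subgroup X) ∣ Nat.card X := Subgroup.card_subgroup_dvd_card _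
    have hk0 : k = 0 := by
      by_contra hk0
      have h2 : 2 ∣ Nat.card X := (dvd_pow_self 2 hk0).trans (hk ▸ hdvd)
      exact (Nat.not_even_iff_odd.mpr hX) (even_iff_two_dvd.mpr h2)
    rw [hk0, pow_zero] at hk
    have h3 : Nat.card E ≤ Nat.card (P : Subgroup X) := Subgroup.card_le_of_le (hEB.trans hBP)
    rw [hk] at h3
    omega
  -- locals are `p`-constrained
  have hloc' : ∀ T : Subgroup X, IsPGroup p T → T ≠ ⊥ →
      Cfsg.IsPConstrained p ↥(Subgroup.normalizer (T : Set X)) := by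
    intro T hT hT1
    have : Group.IsSolvable ↥(Subgroup.normalizer (T : Set X)) := hloc T hT hT1
    exact Cfsg.Agent.Helper7.isPConstrained_iff.mpr (Cfsg.Agent.Helper7.pLayer_eq_bot_of_isSolvable p)
  -- `P` normalizes `B`
  have hPN : (P : Subgroup X) ≤ Subgroup.normalizer (B : Set X) := by
    intro x hx
    rw [Subgroup.mem_normalizer_iff]
    intro b
    constructor
    · exact hBn x hx b
    · intro hb
      have := hBn x⁻¹ (inv_mem hx) _ hb
      have e2 : x⁻¹ * (x * b * x⁻¹) * x⁻¹⁻¹ = b := by group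
      rwa [e2] at this
  -- `B` contains every `p`-element of its centralizer
  have hBfull : ∀ x ∈ Subgroup.centralizer (B : Set X), IsPGroup p (Subgroup.zpowers x) → x ∈ B := by
    intro x hxC hxp
    set B₁ : Subgroup X := Subgroup.zpowers x ⊔ B with hB₁
    have hxN : Subgroup.zpowers x ≤ Subgroup.normalizer (B : Set X) :=
      (Subgroup.zpowers_le.mpr hxC).trans (Subgroup.centralizer_le_normalizer (B : Set X))
    have hB₁p : IsPGroup p B₁ := IsPGroup.to_sup_of_normal_right' hxp hBp hxN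
    have hB₁C : B₁ ≤ Subgroup.centralizer (B : Set X) :=
      sup_le (Subgroup.zpowers_le.mpr hxC) (Subgroup.le_centralizer_iff.mp (fun b hb => by
        rw [Subgroup.mem_centralizer_iff]; intro c hc; exact hBab c hc b hb))
    have hB₁N : B₁ ≤ Subgroup.normalizer (B : Set X) :=
      hB₁C.trans (Subgroup.centralizer_le_normalizer (B : Set X))
    obtain ⟨h, hhN, hh⟩ := Cfsg.Agent.Helper7.exists_conj_mem_sylow_of_le P hPN hB₁N hB₁p
    have hconj : B₁.map (MulAut.conj h).toMonoidHom ≤ B := by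
      rintro _ ⟨y, hy, rfl⟩
      have hmem : h * y * h⁻¹ ∈ (P : Subgroup X) ⊓ Subgroup.centralizer (B : Set X) := by
        refine Subgroup.mem_inf.mpr ⟨hh y hy, ?_⟩
        have hyC := hB₁C hy
        rw [Subgroup.mem_centralizer_iff] at hyC ⊢
        intro b hb
        have hb' : h⁻¹ * b * h ∈ B := by
          have := (Subgroup.mem_normalizer_iff.mp (inv_mem hhN) b).mp hb
          simpa using this
        have := hyC _ hb'
        calc b * (h * y * h⁻¹) = h * ((h⁻¹ * b * h) * y) * h⁻¹ := by group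
          _ = h * (y * (h⁻¹ * b * h)) * h⁻¹ := by rw [this]
          _ = h * y * h⁻¹ * b := by group
      rw [hBc] at hmem
      simpa using hmem
    have hcard : Nat.card B₁ ≤ Nat.card B := by
      have h1 : Nat.card (B₁.map (MulAut.conj h).toMonoidHom) = Nat.card B₁ :=
        (Nat.card_congr (B₁.equivMapOfInjective _ (MulAut.conj h).injective).toEquiv).symm
      rw [← h1]
      exact Subgroup.card_le_of_le hconj
    have hBB₁ : B ≤ B₁ := le_sup_right
    have := Subgroup.eq_of_le_of_card_ge hBB₁ hcard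
    rw [this]
    exact (le_sup_left : Subgroup.zpowers x ≤ B₁) (Subgroup.mem_zpowers x)
  have hF : Cfsg.IsElementaryAbelian p E := by
    refine ⟨⟨⟨?_⟩⟩, hEel⟩
    rintro ⟨a, ha⟩ ⟨b, hb⟩
    exact Subtype.ext (hBab a (hEB ha) b (hEB hb))
  have hnorm2 : p = 2 → ∀ S : Sylow p X, B ≤ S →
      (S : Subgroup X) ≤ Subgroup.normalizer (B : Set X) := fun h => absurd h hp2
  exact Cfsg.Agent.Lead.TT.transitivity_aux hqp B hBp hBab E hEB hF hEcard
    (fun a haB ha1 => Cfsg.Agent.Lead.TT.exists_W_of_local hloc' B hBp hBab hBfull hnorm2 a haB ha1)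
    (Subgroup.centralizer (B : Set X)) (fun Y _ hY => hY) _ Q₁ Q₂ h₁ h₂ rfl

end Cfsg.Agent.S0522
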