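import Cfsg.Statements.S0527
import Cfsg.Agent.Helper29.Supersolvable2
import Cfsg.Agent.Helper29.Schmidt2

set_option autoImplicit false
open Cfsg

namespace Cfsg.Agent.S0527


universe u

open Cfsg.Agent.Helper29 in
theorem coatom_index_prime_aux (n : ℕ) : ∀ {G : Type u} [Group G] [Finite G], Nat.card G = n →
    Cfsg.IsSupersolvable G → ∀ M : Subgroup G, IsCoatom M → M.index.Prime := by
  induction n using Nat.strong_induction_on with
  | _ n ih =>
  intro G _ _ hn hG M hM
  have : Nontrivial G := by
    by_contra h
    rw [not_nontrivial_iff_subsingleton] at h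
    exact hM.1 (Subsingleton.elim _ _)
  obtain ⟨N, hNn, hNp⟩ := exists_normal_prime hG
  by_cases hNM : N ≤ M
  · have hq : Cfsg.IsSupersolvable (G ⧸ N) := isSupersolvable_quotient hG N
    have hcard : Nat.card (G ⧸ N) < n := by
      rw [← hn, ← Subgroup.index_eq_card, ← Subgroup.index_mul_card N]
      have h0 : 0 < N.index := Nat.pos_of_ne_zero Subgroup.index_ne_zero_of_finite
      have := hNp.one_lt
      nlinarith
    have hco := isCoatom_map_of_ker_le (QuotientGroup.mk' N) (QuotientGroup.mk'_surjective N) hM
      (by rw [QuotientGroup.ker_mk']; exact hNM)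
    have := ih _ hcard rfl hq _ hco
    rwa [Subgroup.index_map_eq _ (QuotientGroup.mk'_surjective N)
      (by rw [QuotientGroup.ker_mk']; exact hNM)] at this
  · have hsup : M ⊔ N = ⊤ :=
      hM.2 _ (lt_of_le_of_ne le_sup_left (fun h => hNM (h ▸ le_sup_right)))
    have hdisj : Disjoint M N := by
      have : Fact (Nat.card N).Prime := ⟨hNp⟩
      rcases Subgroup.eq_bot_or_eq_top_of_prime_card (M.subgroupOf N) with h | h
      · exact Subgroup.subgroupOf_eq_bot.mp h
      · exact absurd (Subgroup.subgroupOf_eq_top.mp h) hNM
    have h1 := card_mul_card_of_sup_eq_top hdisj hsup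
    have h2 := Subgroup.index_mul_card M
    have h3 : M.index = Nat.card N := by
      have hpos : 0 < Nat.card M := Nat.card_pos
      have : M.index * Nat.card M = Nat.card N * Nat.card M := by rw [h2, ← h1, mul_comm]
      exact Nat.eq_of_mul_eq_mul_right hpos this
    rw [h3]; exact hNp

/-- In a finite supersolvable group the index of any maximal subgroup is a prime number. -/
theorem result {G : Type*} [Group G] [Finite G] (hG : Cfsg.IsSupersolvable G) (M : Subgroup G) (hM : IsCoatom M) : M.index.Prime := by
  exact coatom_index_prime_aux _ rfl hG M hM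

end Cfsg.Agent.S0527
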