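import Cfsg.Statements.S0531
import Cfsg.Agent.Helper29.Supersolvable2

set_option autoImplicit false
open Cfsg

namespace Cfsg.Agent.S0531


universe u

/-- card of the preimage of a subgroup of the quotient -/
theorem card_comap_mk' {G : Type*} [Group G] [Finite G] (N : Subgroup G) [N.Normal]
    (K : Subgroup (G ⧸ N)) :
    Nat.card (K.comap (QuotientGroup.mk' N)) = Nat.card K * Nat.card N := by
  have h1 : (K.comap (QuotientGroup.mk' N)).index = K.index :=
    Subgroup.index_comap_of_surjective K (QuotientGroup.mk'_surjective N)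
  have h2 := Subgroup.index_mul_card (K.comap (QuotientGroup.mk' N))
  have h3 := Subgroup.index_mul_card K
  have h4 := Subgroup.card_eq_card_quotient_mul_card_subgroup N
  have hpos : 0 < K.index := Nat.pos_of_ne_zero Subgroup.index_ne_zero_of_finite
  apply Nat.eq_of_mul_eq_mul_left hpos
  rw [← h1, h2, h4, h1, ← mul_assoc, h3]

open Cfsg.Agent.Helper29 in
theorem clt_aux (n : ℕ) : ∀ {G : Type u} [Group G] [Finite G], Nat.card G = n →
    Cfsg.IsSupersolvable G → ∀ d : ℕ, d ∣ Nat.card G → ∃ H : Subgroup G, Nat.card H = d := by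
  induction n using Nat.strong_induction_on with
  | _ n ih =>
  intro G _ _ hn hG d hd
  rcases subsingleton_or_nontrivial G with hs | hnt
  · refine ⟨⊥, ?_⟩
    rw [Nat.card_of_subsingleton (1 : G)] at hd
    rw [Subgroup.card_bot]
    exact (Nat.dvd_one.mp hd).symm
  obtain ⟨N, hNn, hNp⟩ := exists_normal_prime hG
  have hq : Cfsg.IsSupersolvable (G ⧸ N) := isSupersolvable_quotient hG N
  have hcardG := Subgroup.card_eq_card_quotient_mul_card_subgroup N
  have hcard : Nat.card (G ⧸ N) < n := by
    rw [← hn, hcardG]
    have h0 : 0 < Nat.card (G ⧸ N) := Nat.card_pos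
    have := hNp.one_lt
    nlinarith
  by_cases hpd : Nat.card N ∣ d
  · obtain ⟨e, rfl⟩ := hpd
    have he : e ∣ Nat.card (G ⧸ N) := by
      rw [hcardG, mul_comm (Nat.card (G ⧸ N))] at hd
      exact Nat.dvd_of_mul_dvd_mul_left hNp.pos hd
    obtain ⟨K, hK⟩ := ih _ hcard rfl hq e he
    refine ⟨K.comap (QuotientGroup.mk' N), ?_⟩
    rw [card_comap_mk', hK, mul_comm]
  · have hcop : Nat.Coprime d (Nat.card N) :=
      (Nat.Coprime.symm ((Nat.Prime.coprime_iff_not_dvd hNp).mpr hpd))
    have he : d ∣ Nat.card (G ⧸ N) := by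
      rw [hcardG] at hd
      exact hcop.dvd_of_dvd_mul_right hd
    obtain ⟨K, hK⟩ := ih _ hcard rfl hq d he
    set L := K.comap (QuotientGroup.mk' N) with hL
    have hLcard : Nat.card L = d * Nat.card N := by rw [hL, card_comap_mk', hK]
    have hNL : N ≤ L := by
      intro x hx
      rw [hL, Subgroup.mem_comap, QuotientGroup.mk'_apply, (QuotientGroup.eq_one_iff x).mpr hx]
      exact one_mem _
    have hN'card : Nat.card (N.subgroupOf L) = Nat.card N := by
      rw [← Subgroup.card_map_of_injective L.subtype_injective, Subgroup.subgroupOf_map_subtype,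
        inf_of_le_left hNL]
    have hidx : (N.subgroupOf L).index = d := by
      have := Subgroup.index_mul_card (N.subgroupOf L)
      rw [hN'card, hLcard] at this
      exact Nat.eq_of_mul_eq_mul_right hNp.pos this
    obtain ⟨H', hH'⟩ := Subgroup.exists_right_complement'_of_coprime (N := N.subgroupOf L)
      (by rw [hN'card, hidx]; exact hcop.symm)
    refine ⟨H'.map L.subtype, ?_⟩
    rw [Subgroup.card_map_of_injective L.subtype_injective, ← hH'.symm.index_eq_card, hidx]

/-- A finite supersolvable group has a subgroup of each order dividing its order. -/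
theorem result {G : Type*} [Group G] [Finite G] (hG : Cfsg.IsSupersolvable G) : Cfsg.HasSubgroupOfEveryOrder G := by
  exact fun d hd => clt_aux _ rfl hG d hd

end Cfsg.Agent.S0531
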