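import Cfsg.Statements.S0532
import Mathlib

set_option autoImplicit false
open Cfsg

namespace Cfsg.Agent.S0532


universe u

theorem clt_of_mulEquiv {A B : Type*} [Group A] [Group B] (e : A ≃* B)
    (h : Cfsg.HasSubgroupOfEveryOrder A) : Cfsg.HasSubgroupOfEveryOrder B := by
  intro d hd
  rw [← Nat.card_congr e.toEquiv] at hd
  obtain ⟨H, hH⟩ := h d hd
  refine ⟨H.map e.toMonoidHom, ?_⟩
  rw [Subgroup.card_map_of_injective e.injective, hH]

theorem clt_top {G : Type*} [Group G] (h : Cfsg.HasSubgroupOfEveryOrder (⊤ : Subgroup G)) :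
    Cfsg.HasSubgroupOfEveryOrder G :=
  clt_of_mulEquiv Subgroup.topEquiv h

theorem hereditary_clt_subgroup {G : Type*} [Group G]
    (h : ∀ H : Subgroup G, Cfsg.HasSubgroupOfEveryOrder H) (M : Subgroup G) :
    ∀ K : Subgroup M, Cfsg.HasSubgroupOfEveryOrder K := by
  intro K
  exact clt_of_mulEquiv (K.equivMapOfInjective M.subtype M.subtype_injective).symm
    (h (K.map M.subtype))

theorem normal_sylow_aux (n : ℕ) : ∀ {G : Type u} [Group G] [Finite G], Nat.card G = n →
    (∀ H : Subgroup G, Cfsg.HasSubgroupOfEveryOrder H) → ∀ (p : ℕ) [Fact p.Prime],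
    (∀ q : ℕ, q.Prime → q ∣ Nat.card G → q ≤ p) → ∀ P : Sylow p G, (P : Subgroup G).Normal := by
  induction n using Nat.strong_induction_on with
  | _ n ih =>
  intro G _ _ hn h p hp hmax P
  rcases subsingleton_or_nontrivial G with hs | hnt
  · exact ⟨fun x hx g => by rw [Subsingleton.elim (g * x * g⁻¹) x]; exact hx⟩
  have hcard1 : Nat.card G ≠ 1 := by
    intro h1
    have := Finite.one_lt_card (α := G)
    omega
  set q := (Nat.card G).minFac with hq
  have hqp : q.Prime := Nat.minFac_prime hcard1
  have hqd : q ∣ Nat.card G := Nat.minFac_dvd _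
  by_cases hqp' : q = p
  · -- G is a p-group
    have hpow : Nat.card G = p ^ (Nat.card G).primeFactorsList.length := by
      apply Nat.eq_prime_pow_of_unique_prime_dvd Nat.card_pos.ne'
      intro d hd hdd
      have h1 : q ≤ d := Nat.minFac_le_of_dvd hd.two_le hdd
      have h2 := hmax d hd hdd
      omega
    have hPcard := P.card_eq_multiplicity
    obtain ⟨k, hk⟩ : ∃ k, Nat.card G = p ^ k := ⟨_, hpow⟩
    have hfac : (Nat.card G).factorization p = k := by
      rw [hk, Nat.Prime.factorization_pow hp.out]
      simp
    have : (P : Subgroup G) = ⊤ := by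
      apply Subgroup.eq_top_of_card_eq
      rw [hPcard, hfac, hk]
    rw [this]; infer_instance
  · -- subgroup of index q
    obtain ⟨d, hd⟩ := hqd
    have hclt : Cfsg.HasSubgroupOfEveryOrder G := clt_top (h ⊤)
    obtain ⟨M, hM⟩ := hclt d ⟨q, by rw [hd, mul_comm]⟩
    have hdpos : 0 < d := by
      rcases Nat.eq_zero_or_pos d with h0 | h0
      · rw [h0, mul_zero] at hd; exact absurd hd Nat.card_pos.ne'
      · exact h0
    have hMidx : M.index = q := by
      have := Subgroup.index_mul_card M
      rw [hM, hd] at this
      exact Nat.eq_of_mul_eq_mul_right hdpos this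
    have hMn : M.Normal := Subgroup.normal_of_index_eq_minFac_card hMidx
    have hMlt : Nat.card M < n := by
      rw [hM, ← hn, hd]
      have := hqp.one_lt
      nlinarith
    have hMmax : ∀ r : ℕ, r.Prime → r ∣ Nat.card M → r ≤ p := by
      intro r hr hrd
      exact hmax r hr (hrd.trans (Subgroup.card_subgroup_dvd_card M))
    let PM : Sylow p M := default
    have hPMn : (PM : Subgroup M).Normal :=
      ih _ hMlt rfl (hereditary_clt_subgroup h M) p hMmax PM
    have hPMc : (PM : Subgroup M).Characteristic := Sylow.characteristic_of_normal PM hPMn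
    have hP'n : ((PM : Subgroup M).map M.subtype).Normal :=
      ConjAct.normal_of_characteristic_of_normal
    have hP'card : Nat.card ((PM : Subgroup M).map M.subtype) =
        p ^ (Nat.card G).factorization p := by
      rw [Subgroup.card_map_of_injective M.subtype_injective, PM.card_eq_multiplicity, hM, hd,
        Nat.factorization_mul hqp.ne_zero hdpos.ne']
      congr 1
      have : q.factorization p = 0 := by
        rw [Nat.Prime.factorization hqp]
        simp [hqp']
      simp [this]
    let P' : Sylow p G := Sylow.ofCard _ hP'card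
    have hP'n' : (P' : Subgroup G).Normal := hP'n
    have := Sylow.unique_of_normal P' hP'n'
    rw [Subsingleton.elim P P']
    exact hP'n'

/-- If each subgroup of a finite group satisfies the converse of Lagrange's theorem, then a Sylow subgroup for the largest prime dividing the group order is normal. -/
theorem result {G : Type*} [Group G] [Finite G] (h : ∀ H : Subgroup G, Cfsg.HasSubgroupOfEveryOrder H) (p : ℕ) [Fact p.Prime] (hdvd : p ∣ Nat.card G) (hmax : ∀ q : ℕ, q.Prime → q ∣ Nat.card G → q ≤ p) (P : Sylow p G) : (P : Subgroup G).Normal := by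
  exact normal_sylow_aux _ rfl h p hmax P

end Cfsg.Agent.S0532
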