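import Cfsg.Statements.S0529
import Mathlib
import Cfsg.Agent.S0531
import Cfsg.Agent.S0532
import Cfsg.Agent.Helper29.Supersolvable2

set_option autoImplicit false
open Cfsg

namespace Cfsg.Agent.S0529


universe u

open Cfsg.Agent.Helper29

/-- a finite supersolvable group has a normal subgroup of order the largest prime divisor -/
theorem exists_normal_card_eq_largest_prime {G : Type*} [Group G] [Finite G]
    (hG : Cfsg.IsSupersolvable G) (p : ℕ) (hpp : p.Prime) (hpd : p ∣ Nat.card G)
    (hmax : ∀ q : ℕ, q.Prime → q ∣ Nat.card G → q ≤ p) :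
    ∃ N : Subgroup G, N.Normal ∧ Nat.card N = p := by
  have : Fact p.Prime := ⟨hpp⟩
  have hclt : ∀ H : Subgroup G, Cfsg.HasSubgroupOfEveryOrder H := fun H =>
    Cfsg.Agent.S0531.result (isSupersolvable_subgroup hG H)
  let P : Sylow p G := default
  have hPn : (P : Subgroup G).Normal := Cfsg.Agent.S0532.result hclt p hpd hmax P
  have hPne : (P : Subgroup G) ≠ ⊥ := by
    intro h0
    have h1 := P.card_eq_multiplicity
    rw [h0, Subgroup.card_bot] at h1
    have h2 := (hpp.factorization_pos_of_dvd Nat.card_pos.ne' hpd)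
    have h3 : 1 < p ^ (Nat.card G).factorization p := Nat.one_lt_pow (by omega) hpp.one_lt
    omega
  obtain ⟨N, hNP, hNn, hNp⟩ := exists_normal_prime_le hG hPne
  refine ⟨N, hNn, ?_⟩
  have hNpg : IsPGroup p N := P.isPGroup'.to_le hNP
  obtain ⟨k, hk⟩ := IsPGroup.iff_card.mp hNpg
  rw [hk] at hNp ⊢
  have hk1 : k = 1 := by
    by_contra hne
    rcases Nat.lt_or_gt_of_ne hne with h | h
    · have : k = 0 := by omega
      rw [this, pow_zero] at hNp
      exact Nat.not_prime_one hNp
    · exact Nat.Prime.not_prime_pow (by omega) hNp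
  rw [hk1, pow_one]

theorem relIndex_comap_comap {G H : Type*} [Group G] [Group H] (f : G →* H)
    (hf : Function.Surjective f) (A B : Subgroup H) :
    (A.comap f).relIndex (B.comap f) = A.relIndex B := by
  rw [Subgroup.relIndex_comap, Subgroup.map_comap_eq_self_of_surjective hf]

theorem chain_aux (n : ℕ) : ∀ {G : Type u} [Group G] [Finite G], Nat.card G = n →
    Cfsg.IsSupersolvable G → ∃ (k : ℕ) (H : ℕ → Subgroup G), H 0 = ⊥ ∧ H k = ⊤ ∧
      (∀ i, i ≤ k → (H i).Normal) ∧
      (∀ i, i < k → H i ≤ H (i + 1) ∧ ((H i).relIndex (H (i + 1))).Prime) ∧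
      ∀ i j, i ≤ j → j < k → (H j).relIndex (H (j + 1)) ≤ (H i).relIndex (H (i + 1)) := by
  induction n using Nat.strong_induction_on with
  | _ n ih =>
  intro G _ _ hn hG
  rcases subsingleton_or_nontrivial G with hs | hnt
  · refine ⟨0, fun _ => ⊥, rfl, Subsingleton.elim _ _, fun _ _ => inferInstance, ?_, ?_⟩
    · intro i hi; omega
    · intro i j _ hj; omega
  have hcard1 : 1 < Nat.card G := Finite.one_lt_card
  have hne : (Nat.card G).primeFactors.Nonempty := Nat.nonempty_primeFactors.mpr hcard1
  set p := (Nat.card G).primeFactors.max' hne with hp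
  have hpmem : p ∈ (Nat.card G).primeFactors := Finset.max'_mem _ _
  have hpp : p.Prime := Nat.prime_of_mem_primeFactors hpmem
  have hpd : p ∣ Nat.card G := Nat.dvd_of_mem_primeFactors hpmem
  have hmax : ∀ q : ℕ, q.Prime → q ∣ Nat.card G → q ≤ p := fun q hq hqd =>
    Finset.le_max' _ _ (Nat.mem_primeFactors.mpr ⟨hq, hqd, Nat.card_pos.ne'⟩)
  obtain ⟨N, hNn, hNc⟩ := exists_normal_card_eq_largest_prime hG p hpp hpd hmax
  have hq : Cfsg.IsSupersolvable (G ⧸ N) := isSupersolvable_quotient hG N
  have hcardG := Subgroup.card_eq_card_quotient_mul_card_subgroup N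
  have hcard : Nat.card (G ⧸ N) < n := by
    rw [← hn, hcardG, hNc]
    have h0 : 0 < Nat.card (G ⧸ N) := Nat.card_pos
    have := hpp.one_lt
    nlinarith
  obtain ⟨k, H, h0, hk, hnorm, hstep, hmono⟩ := ih _ hcard rfl hq
  set f := QuotientGroup.mk' N with hf
  have hfs : Function.Surjective f := QuotientGroup.mk'_surjective N
  refine ⟨k + 1, fun i => Nat.casesOn i ⊥ (fun i => (H i).comap f), rfl, ?_, ?_, ?_, ?_⟩
  · show (H k).comap f = ⊤
    rw [hk, Subgroup.comap_top]
  · intro i hi
    cases i with
    | zero => exact (inferInstance : (⊥ : Subgroup G).Normal)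
    | succ i =>
      have := hnorm i (by omega)
      exact (inferInstance : ((H i).comap f).Normal)
  · intro i hi
    cases i with
    | zero =>
      refine ⟨bot_le, ?_⟩
      show ((⊥ : Subgroup G).relIndex ((H 0).comap f)).Prime
      rw [Subgroup.relIndex_bot_left, h0, MonoidHom.comap_bot, hf, QuotientGroup.ker_mk', hNc]
      exact hpp
    | succ i =>
      obtain ⟨h1, h2⟩ := hstep i (by omega)
      refine ⟨Subgroup.comap_mono h1, ?_⟩
      show (((H i).comap f).relIndex ((H (i + 1)).comap f)).Prime
      rw [relIndex_comap_comap f hfs]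
      exact h2
  · intro i j hij hj
    cases j with
    | zero =>
      have : i = 0 := by omega
      subst this
      exact le_refl _
    | succ j =>
      show ((H j).comap f).relIndex ((H (j + 1)).comap f) ≤ _
      rw [relIndex_comap_comap f hfs]
      cases i with
      | zero =>
        show _ ≤ (⊥ : Subgroup G).relIndex ((H 0).comap f)
        rw [Subgroup.relIndex_bot_left, h0, MonoidHom.comap_bot, hf, QuotientGroup.ker_mk', hNc]
        apply hmax _ (hstep j (by omega)).2
        refine dvd_trans (Subgroup.relIndex_dvd_card _ _) ?_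
        refine dvd_trans (Subgroup.card_subgroup_dvd_card _) ?_
        rw [hcardG]
        exact dvd_mul_right _ _
      | succ i =>
        show _ ≤ ((H i).comap f).relIndex ((H (i + 1)).comap f)
        rw [relIndex_comap_comap f hfs]
        exact hmono i j (by omega) (by omega)

/-- A finite supersolvable group has a chain of normal subgroups, from the trivial subgroup to the whole group, in which every step has prime index and the primes occurring are non-increasing as one goes up the chain. -/
theorem result {G : Type*} [Group G] [Finite G] (hG : Cfsg.IsSupersolvable G) : ∃ (n : ℕ) (H : Fin (n + 1) → Subgroup G), H 0 = ⊥ ∧ H (Fin.last n) = ⊤ ∧ (∀ i, (H i).Normal) ∧ (∀ i : Fin n, H i.castSucc ≤ H i.succ ∧ ((H i.castSucc).relIndex (H i.succ)).Prime) ∧ ∀ i j : Fin n, i ≤ j → (H j.castSucc).relIndex (H j.succ) ≤ (H i.castSucc).relIndex (H i.succ) := by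
  obtain ⟨k, H, h0, hk, hnorm, hstep, hmono⟩ := chain_aux _ rfl hG
  refine ⟨k, fun i => H i.val, ?_, ?_, ?_, ?_, ?_⟩
  · simpa using h0
  · simpa using hk
  · intro i
    exact hnorm i.val (Nat.lt_succ_iff.mp i.isLt)
  · intro i
    have := hstep i.val i.isLt
    simpa using this
  · intro i j hij
    have := hmono i.val j.val hij j.isLt
    simpa using this

end Cfsg.Agent.S0529
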