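import Cfsg.Statements.S0533
import Mathlib
import Cfsg.Agent.S0531
import Cfsg.Agent.S0532
import Cfsg.Agent.Helper29.Supersolvable2
import Cfsg.Agent.Helper29.Schmidt2
import Cfsg.Agent.Helper29.NilpHall

set_option autoImplicit false
open Cfsg

namespace Cfsg.Agent.S0533


universe u

open Cfsg.Agent.Helper29 Cfsg.Agent.S0531 Cfsg.Agent.S0532

theorem isSupersolvable_of_subsingleton {G : Type*} [Group G] [Subsingleton G] :
    Cfsg.IsSupersolvable G := by
  rw [isSupersolvable_iff_reach, Subsingleton.elim (⊤ : Subgroup G) ⊥]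
  exact Reach.refl

theorem hereditary_clt_quotient {G : Type*} [Group G] [Finite G]
    (h : ∀ H : Subgroup G, Cfsg.HasSubgroupOfEveryOrder H) (N : Subgroup G) [N.Normal]
    (hN : (Nat.card N).Prime) : ∀ K : Subgroup (G ⧸ N), Cfsg.HasSubgroupOfEveryOrder K := by
  intro Kb d hd
  set f := QuotientGroup.mk' N with hf
  set K := Kb.comap f with hK
  have hKcard : Nat.card K = Nat.card Kb * Nat.card N := card_comap_mk' N Kb
  have hdr : d * Nat.card N ∣ Nat.card K := by rw [hKcard]; exact Nat.mul_dvd_mul_right hd _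
  obtain ⟨L', hL'⟩ := h K _ hdr
  set L := L'.map K.subtype with hL
  have hLK : L ≤ K := by rw [hL]; exact Subgroup.map_subtype_le L'
  have hLcard : Nat.card L = d * Nat.card N := by
    rw [hL, Subgroup.card_map_of_injective K.subtype_injective, hL']
  by_cases hNL : N ≤ L
  · have hLb : L.map f ≤ Kb := by
      rw [Subgroup.map_le_iff_le_comap]; exact hLK
    have hcomap : (L.map f).comap f = L :=
      Subgroup.comap_map_eq_self (by rw [hf, QuotientGroup.ker_mk']; exact hNL)
    have hcard : Nat.card (L.map f) = d := by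
      have := card_comap_mk' N (L.map f)
      rw [hcomap, hLcard] at this
      exact (Nat.eq_of_mul_eq_mul_right hN.pos this).symm
    refine ⟨(L.map f).subgroupOf Kb, ?_⟩
    rw [Nat.card_congr (Subgroup.subgroupOfEquivOfLe hLb).toEquiv, hcard]
  · have hdisj : Disjoint N L := by
      have : Fact (Nat.card N).Prime := ⟨hN⟩
      rcases Subgroup.eq_bot_or_eq_top_of_prime_card (L.subgroupOf N) with h0 | h0
      · exact (Subgroup.subgroupOf_eq_bot.mp h0).symm
      · exact absurd (Subgroup.subgroupOf_eq_top.mp h0) hNL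
    obtain ⟨D', hD'⟩ := h L d ⟨Nat.card N, hLcard⟩
    let g : L →* G ⧸ N := f.comp L.subtype
    have hg : Function.Injective g := by
      rw [injective_iff_map_eq_one]
      intro x hx
      have h1 : (x : G) ∈ N := by
        have : f (x : G) = 1 := hx
        rwa [hf, QuotientGroup.mk'_apply, QuotientGroup.eq_one_iff] at this
      have h2 : (x : G) ∈ N ⊓ L := Subgroup.mem_inf.mpr ⟨h1, x.2⟩
      rw [hdisj.eq_bot, Subgroup.mem_bot] at h2
      exact Subtype.ext h2
    have hle : D'.map g ≤ Kb := by
      rintro _ ⟨x, _, rfl⟩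
      exact hLK x.2
    refine ⟨(D'.map g).subgroupOf Kb, ?_⟩
    rw [Nat.card_congr (Subgroup.subgroupOfEquivOfLe hle).toEquiv,
      Subgroup.card_map_of_injective hg, hD']

theorem supersolvable_of_hclt_aux (n : ℕ) : ∀ {G : Type u} [Group G] [Finite G],
    Nat.card G = n → (∀ H : Subgroup G, Cfsg.HasSubgroupOfEveryOrder H) →
    Cfsg.IsSupersolvable G := by
  induction n using Nat.strong_induction_on with
  | _ n ih =>
  intro G _ _ hn h
  rcases subsingleton_or_nontrivial G with hs | hnt
  · exact isSupersolvable_of_subsingleton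
  have key : ∃ N : Subgroup G, N.Normal ∧ (Nat.card N).Prime := by
    have hcard1 : 1 < Nat.card G := Finite.one_lt_card
    have hne : (Nat.card G).primeFactors.Nonempty := Nat.nonempty_primeFactors.mpr hcard1
    set p := (Nat.card G).primeFactors.max' hne with hp
    have hpmem : p ∈ (Nat.card G).primeFactors := Finset.max'_mem _ _
    have hpp : p.Prime := Nat.prime_of_mem_primeFactors hpmem
    have hpd : p ∣ Nat.card G := Nat.dvd_of_mem_primeFactors hpmem
    have hmax : ∀ q : ℕ, q.Prime → q ∣ Nat.card G → q ≤ p := fun q hq hqd =>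
      Finset.le_max' _ _ (Nat.mem_primeFactors.mpr ⟨hq, hqd, Nat.card_pos.ne'⟩)
    have : Fact p.Prime := ⟨hpp⟩
    let P : Sylow p G := default
    have hPn : (P : Subgroup G).Normal := Cfsg.Agent.S0532.result h p hpd hmax P
    have hPne : Nontrivial (P : Subgroup G) := by
      rw [← Finite.one_lt_card_iff_nontrivial, P.card_eq_multiplicity]
      apply Nat.one_lt_pow _ hpp.one_lt
      have := (hpp.factorization_pos_of_dvd Nat.card_pos.ne' hpd)
      omega
    set Z : Subgroup G := (Subgroup.center (P : Subgroup G)).map (P : Subgroup G).subtype with hZ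
    have hZn : Z.Normal := ConjAct.normal_of_characteristic_of_normal
    have hZne : Z ≠ ⊥ := by
      have := IsPGroup.bot_lt_center P.isPGroup'
      intro h0
      rw [hZ, Subgroup.map_eq_bot_iff_of_injective _ (Subgroup.subtype_injective _)] at h0
      exact this.ne' h0
    have hZcent : ∀ z ∈ Z, ∀ x ∈ (P : Subgroup G), x * z * x⁻¹ = z := by
      rintro _ ⟨c, hc, rfl⟩ x hx
      have := Subgroup.mem_center_iff.mp hc ⟨x, hx⟩
      have h1 : x * (c : G) = (c : G) * x := congrArg Subtype.val this
      show x * (c : G) * x⁻¹ = (c : G)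
      rw [h1, mul_inv_cancel_right]
    obtain ⟨m, hm⟩ := hpd
    obtain ⟨L₀, hL₀⟩ := clt_top (h ⊤) m ⟨p, by rw [hm, mul_comm]⟩
    have hmpos : 0 < m := by
      rcases Nat.eq_zero_or_pos m with h0 | h0
      · rw [h0, mul_zero] at hm; exact absurd hm Nat.card_pos.ne'
      · exact h0
    have hL₀idx : L₀.index = p := by
      have := Subgroup.index_mul_card L₀
      rw [hL₀, hm] at this
      exact Nat.eq_of_mul_eq_mul_right hmpos this
    have hL₀lt : Nat.card L₀ < n := by
      rw [hL₀, ← hn, hm]
      have := hpp.one_lt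
      nlinarith
    have hL₀ss : Cfsg.IsSupersolvable L₀ := ih _ hL₀lt rfl (hereditary_clt_subgroup h L₀)
    have hsup : L₀ ⊔ (P : Subgroup G) = ⊤ := by
      rw [← Subgroup.index_eq_one]
      have h1 : (L₀ ⊔ (P : Subgroup G)).index ∣ p := by
        have := Subgroup.index_dvd_of_le (le_sup_left : L₀ ≤ L₀ ⊔ (P : Subgroup G))
        rwa [hL₀idx] at this
      have h2 : (L₀ ⊔ (P : Subgroup G)).index ∣ (P : Subgroup G).index :=
        Subgroup.index_dvd_of_le le_sup_right
      rcases (Nat.dvd_prime hpp).mp h1 with h3 | h3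
      · exact h3
      · rw [h3] at h2
        exact absurd h2 P.not_dvd_index
    by_cases hZL : Z ⊓ L₀ = ⊥
    · have hZnotle : ¬ Z ≤ L₀ := fun hle => hZne (by rw [← hZL, inf_of_le_left hle])
      have hsupZ : L₀ ⊔ Z = ⊤ := by
        have h1 := Subgroup.relIndex_mul_index (le_sup_left : L₀ ≤ L₀ ⊔ Z)
        rw [hL₀idx] at h1
        have h2 : L₀.relIndex (L₀ ⊔ Z) ∣ p := ⟨_, h1.symm⟩
        rcases (Nat.dvd_prime hpp).mp h2 with h3 | h3
        · exfalso
          apply hZnotle
          exact le_trans le_sup_right (Subgroup.relIndex_eq_one.mp h3)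
        · rw [h3] at h1
          have h4 : (L₀ ⊔ Z).index = 1 := by
            have : p * (L₀ ⊔ Z).index = p * 1 := by rw [h1, mul_one]
            exact Nat.eq_of_mul_eq_mul_left hpp.pos this
          exact Subgroup.index_eq_one.mp h4
      have h5 := card_mul_card_of_sup_eq_top (P := L₀) (Q := Z)
        (disjoint_iff.mpr (by rwa [inf_comm] at hZL)) hsupZ
      refine ⟨Z, hZn, ?_⟩
      rw [hL₀, hm, mul_comm] at h5
      rw [Nat.eq_of_mul_eq_mul_right hmpos h5]
      exact hpp
    · have hA : Z.subgroupOf L₀ ≠ ⊥ := by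
        rw [Ne, Subgroup.subgroupOf_eq_bot, disjoint_iff]; exact hZL
      obtain ⟨N₁, hN₁le, hN₁n, hN₁p⟩ := exists_normal_prime_le hL₀ss hA
      refine ⟨N₁.map L₀.subtype, ?_, ?_⟩
      · rw [← Subgroup.normalizer_eq_top_iff, eq_top_iff, ← hsup]
        refine sup_le (le_normalizer_of_conj_mem ?_) (le_normalizer_of_conj_mem ?_)
        · rintro k hk _ ⟨y, hy, rfl⟩
          exact ⟨⟨k, hk⟩ * y * ⟨k, hk⟩⁻¹, hN₁n.conj_mem y hy _, rfl⟩
        · rintro k hk _ ⟨y, hy, rfl⟩
          have hyZ : (y : G) ∈ Z := hN₁le hy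
          have := hZcent _ hyZ k hk
          show k * (y : G) * k⁻¹ ∈ _
          rw [this]
          exact ⟨y, hy, rfl⟩
      · rw [Subgroup.card_map_of_injective L₀.subtype_injective]; exact hN₁p
  obtain ⟨N, hNn, hNp⟩ := key
  have hq := hereditary_clt_quotient h N hNp
  have hcard : Nat.card (G ⧸ N) < n := by
    rw [← hn, Subgroup.card_eq_card_quotient_mul_card_subgroup N]
    have h0 : 0 < Nat.card (G ⧸ N) := Nat.card_pos
    have := hNp.one_lt
    nlinarith
  have hss := ih _ hcard rfl hq
  have : Fact (Nat.card N).Prime := ⟨hNp⟩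
  have : IsCyclic N := isCyclic_of_prime_card (p := Nat.card N) rfl
  exact isSupersolvable_of_cyclic_normal N hss

/-- If every subgroup of a finite group has subgroups of all orders dividing its order, then the group is supersolvable. -/
theorem result {G : Type*} [Group G] [Finite G] (h : ∀ H : Subgroup G, Cfsg.HasSubgroupOfEveryOrder H) : Cfsg.IsSupersolvable G := by
  exact supersolvable_of_hclt_aux _ rfl h

end Cfsg.Agent.S0533
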