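import Cfsg.Statements.S0534
import Mathlib
import Cfsg.Agent.Lead.Hall
import Cfsg.Agent.Lead.HallPrep

set_option autoImplicit false
set_option linter.style.haveILetI false
open Cfsg

namespace Cfsg.Agent.S0534

universe u

theorem arith (g a d : ℕ) (hg : g ≠ 0) (ha : a ≠ 0) (hA : ∀ p, p.Prime → p ∣ a → p ∣ g)
    (hexp : ∀ p, p.Prime → p ∣ g → a.factorization p + 1 = g.factorization p) (hd : d ∣ g * a) :
    ∃ m n b, g = m * n ∧ m.Coprime n ∧ d = m * b ∧ b ∣ a := by
  classical
  have hd0 : d ≠ 0 := fun h => by rw [h] at hd; exact (mul_ne_zero hg ha) (zero_dvd_iff.mp hd)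
  set f : ℕ →₀ ℕ := g.factorization.filter (fun p => g.factorization p ≤ d.factorization p) with hf
  have hfa : ∀ p, f p = if g.factorization p ≤ d.factorization p then g.factorization p else 0 :=
    fun p => Finsupp.filter_apply _ _ p
  have hfp : ∀ p ∈ f.support, p.Prime := by
    intro p hp
    rw [Finsupp.mem_support_iff, hfa] at hp
    by_contra hnp
    rw [Nat.factorization_eq_zero_of_not_prime g hnp] at hp
    simp at hp
  set m := f.prod (· ^ ·) with hm
  have hmf : m.factorization = f := Nat.prod_pow_factorization_eq_self hfp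
  have hm0 : m ≠ 0 := by
    intro h0
    rw [h0, Nat.factorization_zero] at hmf
    rw [hm, ← hmf] at h0
    simp at h0
  have hmg : m ∣ g := by
    rw [← Nat.factorization_le_iff_dvd hm0 hg, hmf]
    intro p
    rw [hfa]; split_ifs <;> simp
  have hmd : m ∣ d := by
    rw [← Nat.factorization_le_iff_dvd hm0 hd0, hmf]
    intro p
    rw [hfa]; split_ifs with h
    · exact h
    · simp
  obtain ⟨n, hn⟩ := hmg
  obtain ⟨b, hb⟩ := hmd
  have hn0 : n ≠ 0 := by rintro rfl; simp at hn; exact hg hn
  have hb0 : b ≠ 0 := by rintro rfl; simp at hb; exact hd0 hb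
  have hgf : ∀ p, g.factorization p = f p + n.factorization p := by
    intro p
    rw [hn, Nat.factorization_mul hm0 hn0, hmf]; rfl
  have hdf : ∀ p, d.factorization p = f p + b.factorization p := by
    intro p
    rw [hb, Nat.factorization_mul hm0 hb0, hmf]; rfl
  have hdga : ∀ p, d.factorization p ≤ g.factorization p + a.factorization p := by
    intro p
    have := (Nat.factorization_le_iff_dvd hd0 (mul_ne_zero hg ha)).mpr hd p
    rwa [Nat.factorization_mul hg ha] at this
  refine ⟨m, n, b, hn, ?_, hb, ?_⟩
  · apply Nat.coprime_of_dvd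
    intro p hp hpm hpn
    have h1 : 0 < m.factorization p := hp.factorization_pos_of_dvd hm0 hpm
    have h2 : 0 < n.factorization p := hp.factorization_pos_of_dvd hn0 hpn
    rw [hmf] at h1
    have h3 := hgf p
    have h4 := hfa p
    split_ifs at h4 with hc
    · omega
    · omega
  · rw [← Nat.factorization_le_iff_dvd hb0 ha]
    intro p
    by_cases hp : p.Prime
    · by_cases hpg : p ∣ g
      · have h1 := hexp p hp hpg
        have h2 := hdga p
        have h3 := hdf p
        have h4 := hfa p
        split_ifs at h4 with hc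
        · omega
        · omega
      · have hpa : ¬ p ∣ a := fun h => hpg (hA p hp h)
        have h1 : g.factorization p = 0 := Nat.factorization_eq_zero_of_not_dvd hpg
        have h2 : a.factorization p = 0 := Nat.factorization_eq_zero_of_not_dvd hpa
        have h3 := hdga p
        have h4 := hdf p
        omega
    · rw [Nat.factorization_eq_zero_of_not_prime b hp]; exact Nat.zero_le _

/-- the converse of Lagrange for finite abelian groups -/
theorem abelian_clt : ∀ (n : ℕ) (A : Type u) [CommGroup A] [Finite A], Nat.card A = n →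
    ∀ d, d ∣ n → ∃ B : Subgroup A, Nat.card B = d := by
  intro n
  induction n using Nat.strong_induction_on with
  | _ n ih =>
    intro A _ _ hn d hd
    by_cases hd1 : d = 1
    · exact ⟨⊥, by rw [hd1]; exact Subgroup.card_bot⟩
    · obtain ⟨p, hp, hpd⟩ := Nat.exists_prime_and_dvd hd1
      haveI : Fact p.Prime := ⟨hp⟩
      have hpA : p ∣ Nat.card A := hn ▸ hpd.trans hd
      obtain ⟨x, hx⟩ := exists_prime_orderOf_dvd_card' p hpA
      have hZ : Nat.card (Subgroup.zpowers x) = p := by rw [Nat.card_zpowers, hx]
      have hcard : Nat.card (A ⧸ Subgroup.zpowers x) * p = n := by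
        rw [← hn, ← hZ, ← Subgroup.index_eq_card, mul_comm]
        exact Subgroup.card_mul_index _
      have hpos : 0 < Nat.card (A ⧸ Subgroup.zpowers x) := Nat.card_pos
      have hlt : Nat.card (A ⧸ Subgroup.zpowers x) < n := by
        have := hp.two_le
        nlinarith
      obtain ⟨e, he⟩ := hpd
      have hed : e ∣ Nat.card (A ⧸ Subgroup.zpowers x) := by
        have : p * e ∣ p * Nat.card (A ⧸ Subgroup.zpowers x) := by
          rw [← he, mul_comm p, hcard]; exact hd
        exact (Nat.mul_dvd_mul_iff_left hp.pos).mp this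
      obtain ⟨B', hB'⟩ := ih _ hlt (A ⧸ Subgroup.zpowers x) rfl e hed
      refine ⟨B'.comap (QuotientGroup.mk' (Subgroup.zpowers x)), ?_⟩
      rw [Cfsg.Agent.Lead.card_comap_mk', hB', hZ, he, mul_comm]

/-- Let G be a finite solvable group and A a finite abelian group such that every prime dividing the order of A divides the order of G and, for each prime p dividing the order of G, the exponent of p in the order of A is one less than its exponent in the order of G. Then G × A has a subgroup of every order dividing its order. -/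
theorem result {G A : Type*} [Group G] [CommGroup A] [Finite G] [Finite A] [Group.IsSolvable G] (hA : ∀ p : ℕ, p.Prime → p ∣ Nat.card A → p ∣ Nat.card G) (hexp : ∀ p : ℕ, p.Prime → p ∣ Nat.card G → (Nat.card A).factorization p + 1 = (Nat.card G).factorization p) : Cfsg.HasSubgroupOfEveryOrder (G × A) := by
  intro d hd
  rw [Nat.card_prod] at hd
  obtain ⟨m, n, b, hmn, hcop, hdm, hba⟩ := arith (Nat.card G) (Nat.card A) d Nat.card_pos.ne'
    Nat.card_pos.ne' hA hexp hd
  obtain ⟨H, hH, -⟩ := Cfsg.Agent.Lead.hall_exists_ge_aux _ (G := G) rfl m n hmn hcop ⊥ (by simp)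
  obtain ⟨B, hB⟩ := abelian_clt _ A rfl b hba
  refine ⟨H.prod B, ?_⟩
  rw [hdm, ← hH, ← hB, Nat.card_congr (Subgroup.prodEquiv H B).toEquiv, Nat.card_prod]

end Cfsg.Agent.S0534
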