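import Cfsg.Statements.S0535
import Mathlib
import Cfsg.Agent.S0006
import Cfsg.Agent.Lead.Hall

set_option autoImplicit false
set_option linter.style.haveILetI false
open Cfsg

namespace Cfsg.Agent.S0535

universe u

/-- internal form of the hypothesis -/
def Hyp (G : Type*) [Group G] : Prop :=
  ∀ H : Subgroup G, H ≠ ⊥ → ∀ p : ℕ, p.Prime → p ∣ Nat.card H →
    ∃ K : Subgroup G, K ≤ H ∧ K ≠ H ∧ ∃ k : ℕ, K.relIndex H = p ^ k

theorem Hyp.subgroup {G : Type*} [Group G] (h : Hyp G) (L : Subgroup G) : Hyp L := by
  intro H' hH' p hp hpd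
  have hinj : Function.Injective L.subtype := L.subtype_injective
  have hH0 : H'.map L.subtype ≠ ⊥ := by
    intro h0
    exact hH' ((Subgroup.map_eq_bot_iff_of_injective H' hinj).mp h0)
  have hcard : Nat.card (H'.map L.subtype) = Nat.card H' :=
    (Nat.card_congr (H'.equivMapOfInjective L.subtype hinj).toEquiv).symm
  obtain ⟨K, hKH, hKne, k, hk⟩ := h (H'.map L.subtype) hH0 p hp (hcard ▸ hpd)
  refine ⟨K.comap L.subtype, ?_, ?_, k, ?_⟩
  · have := Subgroup.comap_mono (f := L.subtype) hKH
    rwa [Subgroup.comap_map_eq_self_of_injective hinj] at this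
  · intro heq
    apply hKne
    have hKL : K ≤ L := hKH.trans (Subgroup.map_subtype_le H')
    have h1 : (K.comap L.subtype).map L.subtype = K := by
      rw [Subgroup.map_comap_eq, Subgroup.range_subtype, inf_eq_right.mpr hKL]
    rw [← h1, heq]
  · rw [Subgroup.relIndex_comap]; exact hk

theorem aux : ∀ (n : ℕ) (G : Type u) [Group G] [Finite G], Nat.card G = n → Hyp G →
    Group.IsSolvable G := by
  intro n
  induction n using Nat.strong_induction_on with
  | _ n ih =>
    intro G _ _ hn h
    apply Cfsg.Agent.S0006.result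
    intro p hp
    by_cases hpG : p ∣ Nat.card G
    · have htop : (⊤ : Subgroup G) ≠ ⊥ := by
        intro h0
        have h1 : Nat.card G = 1 := by
          rw [← Subgroup.card_top (G := G), h0, Subgroup.card_bot]
        rw [h1] at hpG
        exact hp.one_lt.ne' (Nat.dvd_one.mp hpG)
      obtain ⟨K, -, hKne, k, hk⟩ := h ⊤ htop p hp (by rw [Subgroup.card_top]; exact hpG)
      rw [Subgroup.relIndex_top_right] at hk
      have hcardG : Nat.card K * p ^ k = Nat.card G := by
        rw [← hk]; exact Subgroup.card_mul_index K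
      have hk0 : k ≠ 0 := by
        intro h0
        rw [h0, pow_zero] at hk
        exact hKne (Subgroup.index_eq_one.mp hk)
      have hlt : Nat.card K < n := by
        rw [← hn, ← hcardG]
        have h1 : 1 < p ^ k := Nat.one_lt_pow hk0 hp.one_lt
        have h2 : 0 < Nat.card K := Nat.card_pos
        nlinarith
      haveI : Group.IsSolvable K := ih _ hlt K rfl (h.subgroup K)
      have hKpos : Nat.card K ≠ 0 := Nat.card_pos.ne'
      have hfact := Nat.ordProj_mul_ordCompl_eq_self (Nat.card K) p
      have hcop : (ordCompl[p] (Nat.card K)).Coprime (ordProj[p] (Nat.card K)) :=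
        (Nat.Coprime.pow_left _ (Nat.coprime_ordCompl hp hKpos)).symm
      obtain ⟨Q', hQ', -⟩ := Cfsg.Agent.Lead.hall_exists_ge_aux _ (G := K) rfl
        (ordCompl[p] (Nat.card K)) (ordProj[p] (Nat.card K)) (by rw [mul_comm]; exact hfact.symm)
        hcop ⊥ (by simp)
      refine ⟨Q'.map K.subtype, ?_⟩
      have hcQ : Nat.card (Q'.map K.subtype) = ordCompl[p] (Nat.card G) := by
        rw [← (Nat.card_congr (Q'.equivMapOfInjective K.subtype K.subtype_injective).toEquiv),
          hQ', ← hcardG, Nat.ordCompl_mul]
        have : ordCompl[p] (p ^ k) = 1 := by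
          rw [hp.factorization_pow]
          simp only [Finsupp.single_eq_same]
          exact Nat.div_self (pow_pos hp.pos k)
        rw [this, mul_one]
      have h1 := Subgroup.card_mul_index (Q'.map K.subtype)
      rw [hcQ] at h1
      have h2 := Nat.ordProj_mul_ordCompl_eq_self (Nat.card G) p
      have hpos : 0 < ordCompl[p] (Nat.card G) := Nat.ordCompl_pos p Nat.card_pos.ne'
      apply Nat.eq_of_mul_eq_mul_left hpos
      rw [h1, mul_comm, h2]
    · refine ⟨⊤, ?_⟩
      rw [Subgroup.index_top, Nat.factorization_eq_zero_of_not_dvd hpG, pow_zero]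

/-- Suppose that for every nontrivial subgroup H of a finite group and every prime p dividing the order of H there is a proper subgroup of H whose index in H is a power of p. Then the group is solvable. -/
theorem result {G : Type*} [Group G] [Finite G] (h : ∀ H : Subgroup G, H ≠ ⊥ → ∀ p : ℕ, p.Prime → p ∣ Nat.card H → ∃ K : Subgroup H, K ≠ ⊤ ∧ ∃ k : ℕ, K.index = p ^ k) : Group.IsSolvable G := by
  apply aux _ G rfl
  intro H hH p hp hpd
  obtain ⟨K, hK, k, hk⟩ := h H hH p hp hpd
  refine ⟨K.map H.subtype, Subgroup.map_subtype_le K, ?_, k, ?_⟩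
  · intro heq
    apply hK
    have h1 : (K.map H.subtype).subgroupOf H = K :=
      Subgroup.comap_map_eq_self_of_injective H.subtype_injective K
    rw [← h1, heq]
    exact Subgroup.subgroupOf_self H
  · have h1 : (K.map H.subtype).subgroupOf H = K :=
      Subgroup.comap_map_eq_self_of_injective H.subtype_injective K
    rw [Subgroup.relIndex, h1]; exact hk

end Cfsg.Agent.S0535
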