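import Cfsg.Statements.S0537
import Mathlib
import Cfsg.Agent.Helper29.Schmidt
import Cfsg.Agent.Helper3.FrobAbelian

set_option autoImplicit false
set_option linter.style.haveILetI false
open Cfsg

namespace Cfsg.Agent.S0537

open scoped Pointwise
open Cfsg.Agent.Helper3

variable {G : Type*} [Group G]

theorem isNilpotent_of_comm' (H : Type*) [Group H] [hc : IsMulCommutative H] :
    Group.IsNilpotent H :=
  ⟨⟨1, Subgroup.upperCentralSeries_one_eq_top_iff.mpr hc⟩⟩

/-- nilpotent case: a nilpotent group all of whose proper subgroups are abelian is abelian or a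
`p`-group -/
theorem nilpotent_case [Finite G] (hnil : Group.IsNilpotent G) (hna : ¬ IsMulCommutative G)
    (h : ∀ H : Subgroup G, H ≠ ⊤ → IsMulCommutative H) : ∃ p : ℕ, p.Prime ∧ IsPGroup p G := by
  by_contra hcon
  push Not at hcon
  apply hna
  have hS : ∀ (p : ℕ) [Fact p.Prime] (P : Sylow p G), IsMulCommutative (P : Subgroup G) := by
    intro p hp P
    apply h
    intro htop
    apply hcon p hp.out
    intro g
    have hg : g ∈ (P : Subgroup G) := by rw [htop]; trivial
    obtain ⟨k, hk⟩ := P.isPGroup' ⟨g, hg⟩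
    exact ⟨k, congrArg Subtype.val hk⟩
  obtain ⟨e⟩ := ((Group.isNilpotent_of_finite_tfae (G := G)).out 0 4 rfl rfl).mp hnil
  refine ⟨⟨fun a b => ?_⟩⟩
  obtain ⟨a', rfl⟩ := e.surjective a
  obtain ⟨b', rfl⟩ := e.surjective b
  rw [← map_mul, ← map_mul]
  congr 1
  funext p P
  haveI : Fact (p : ℕ).Prime := ⟨Nat.prime_of_mem_primeFactors p.2⟩
  haveI := hS p P
  exact mul_comm' (a' p P) (b' p P)

/-- the commutator endomorphism `a ↦ a⁻¹ (x a x⁻¹)` of a normal abelian subgroup -/
def commHom (Q : Subgroup G) [hQn : Q.Normal] [IsMulCommutative Q] (x : G) : Q →* Q where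
  toFun a := ⟨(a : G)⁻¹ * (x * a * x⁻¹), Q.mul_mem (Q.inv_mem a.2) (hQn.conj_mem a a.2 x)⟩
  map_one' := by
    apply Subtype.ext
    simp
  map_mul' a b := by
    apply Subtype.ext
    have hc : ∀ u v : Q, (u : G) * v = v * u := fun u v => congrArg Subtype.val (mul_comm' u v)
    have h1 := hc ⟨(a : G)⁻¹ * (x * a * x⁻¹), Q.mul_mem (Q.inv_mem a.2) (hQn.conj_mem a a.2 x)⟩ b⁻¹
    simp only [Subgroup.coe_mul, Subgroup.coe_inv] at h1 ⊢
    calc ((a : G) * b)⁻¹ * (x * (a * b) * x⁻¹)
        = (b : G)⁻¹ * ((a : G)⁻¹ * (x * a * x⁻¹)) * (x * b * x⁻¹) := by group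
      _ = ((a : G)⁻¹ * (x * a * x⁻¹)) * (b : G)⁻¹ * (x * b * x⁻¹) := by rw [h1]
      _ = (a : G)⁻¹ * (x * a * x⁻¹) * ((b : G)⁻¹ * (x * b * x⁻¹)) := by group

theorem commHom_coe (Q : Subgroup G) [Q.Normal] [IsMulCommutative Q] (x : G) (a : Q) :
    ((commHom Q x a : Q) : G) = (a : G)⁻¹ * (x * a * x⁻¹) := rfl

/-- if `x` commutes with `c = a⁻¹ x a x⁻¹` and `a` commutes with `c`, then `x^k a = a c^k x^k` -/
theorem pow_conj_formula (x a c : G) (hc : c = a⁻¹ * (x * a * x⁻¹)) (hxc : x * c = c * x)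
    (k : ℕ) : x ^ k * a = a * c ^ k * x ^ k := by
  have hxa : x * a = a * c * x := by rw [hc]; group
  have hxck : ∀ j : ℕ, x * c ^ j = c ^ j * x := by
    intro j
    induction j with
    | zero => simp
    | succ j ih => rw [pow_succ, ← mul_assoc, ih, mul_assoc, hxc, mul_assoc]
  induction k with
  | zero => simp
  | succ k ih =>
    calc x ^ (k + 1) * a = x * (x ^ k * a) := by rw [pow_succ']; group
      _ = x * (a * c ^ k * x ^ k) := by rw [ih]
      _ = (x * a) * c ^ k * x ^ k := by group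
      _ = a * c * (x * c ^ k) * x ^ k := by rw [hxa]; group
      _ = a * c * (c ^ k * x) * x ^ k := by rw [hxck k]
      _ = a * c ^ (k + 1) * x ^ (k + 1) := by rw [pow_succ' c k, pow_succ' x k]; group

/-- if `x` centralizes the abelian normal subgroup `Q` and `⟨x⟩ Q = G` then `G` is abelian -/
theorem comm_of_centralizes (x : G) (Q : Subgroup G) [IsMulCommutative Q]
    (hsup : Subgroup.zpowers x ⊔ Q = ⊤) (hx : ∀ a ∈ Q, x * a = a * x) : IsMulCommutative G := by
  rw [← Subgroup.center_eq_top_iff, eq_top_iff, ← hsup]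
  have hxc : x ∈ Subgroup.center G := by
    rw [Subgroup.mem_center_iff]
    intro g
    have hg : g ∈ Subgroup.centralizer ({x} : Set G) := by
      have hle : Subgroup.zpowers x ⊔ Q ≤ Subgroup.centralizer ({x} : Set G) := by
        apply sup_le
        · rw [Subgroup.zpowers_le, Subgroup.mem_centralizer_iff]
          intro h hh; rw [Set.mem_singleton_iff.mp hh]
        · intro a ha
          rw [Subgroup.mem_centralizer_iff]
          intro h hh; rw [Set.mem_singleton_iff.mp hh]; exact hx a ha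
      exact hle (by rw [hsup]; trivial)
    exact (Subgroup.mem_centralizer_iff.mp hg) x rfl |>.symm
  apply sup_le
  · rw [Subgroup.zpowers_le]; exact hxc
  · intro u hu
    rw [Subgroup.mem_center_iff]
    intro g
    have hg : g ∈ Subgroup.centralizer ({u} : Set G) := by
      have hle : Subgroup.zpowers x ⊔ Q ≤ Subgroup.centralizer ({u} : Set G) := by
        apply sup_le
        · rw [Subgroup.zpowers_le, Subgroup.mem_centralizer_iff]
          intro h hh; rw [Set.mem_singleton_iff.mp hh]; exact (hx u hu).symm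
        · intro a ha
          rw [Subgroup.mem_centralizer_iff]
          intro h hh; rw [Set.mem_singleton_iff.mp hh]
          exact congrArg Subtype.val (mul_comm' (⟨u, hu⟩ : Q) ⟨a, ha⟩)
      exact hle (by rw [hsup]; trivial)
    exact (Subgroup.mem_centralizer_iff.mp hg) u rfl |>.symm

/-- a subgroup of the abelian normal `Q` normalized by `x` is normal when `⟨x⟩ Q = G` -/
theorem normal_of_le_of_conj [Finite G] (x : G) (Q X : Subgroup G) [IsMulCommutative Q]
    (hsup : Subgroup.zpowers x ⊔ Q = ⊤) (hXQ : X ≤ Q) (hx : ∀ n ∈ X, x * n * x⁻¹ ∈ X) :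
    X.Normal := by
  rw [← Subgroup.normalizer_eq_top_iff, eq_top_iff, ← hsup]
  apply sup_le
  · rw [Subgroup.zpowers_le]
    exact Cfsg.Agent.Helper19.mem_normalizer_of_forall hx
  · intro u hu
    apply Cfsg.Agent.Helper19.mem_normalizer_of_forall
    intro n hn
    have hcomm : u * n = n * u := congrArg Subtype.val (mul_comm' (⟨u, hu⟩ : Q) ⟨n, hXQ hn⟩)
    rw [hcomm, mul_assoc, mul_inv_cancel, mul_one]; exact hn

/-- key step: in a minimal non-abelian group `G = ⟨x⟩ Q` with coprime orders, `C_Q(x) = 1` -/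
theorem centralizer_trivial [Finite G] (hna : ¬ IsMulCommutative G)
    (h : ∀ H : Subgroup G, H ≠ ⊤ → IsMulCommutative H) (x : G) (Q : Subgroup G) [hQn : Q.Normal]
    [IsMulCommutative Q] (hcop : (orderOf x).Coprime (Nat.card Q))
    (hsup : Subgroup.zpowers x ⊔ Q = ⊤) : ∀ a ∈ Q, x * a = a * x → a = 1 := by
  have hPQ : Subgroup.zpowers x ⊓ Q = ⊥ := by
    apply (Subgroup.disjoint_of_coprime_natCard _).eq_bot
    rw [Nat.card_zpowers]; exact hcop
  set D₀ : Subgroup G := (commHom Q x).range.map Q.subtype with hD₀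
  have hD₀Q : D₀ ≤ Q := Subgroup.map_subtype_le _
  have hmemD : ∀ a : Q, (a : G)⁻¹ * (x * a * x⁻¹) ∈ D₀ := by
    intro a
    exact ⟨commHom Q x a, ⟨a, rfl⟩, rfl⟩
  haveI hD₀n : D₀.Normal := by
    apply normal_of_le_of_conj x Q D₀ hsup hD₀Q
    rintro n ⟨d, ⟨a, rfl⟩, rfl⟩
    have := hmemD ⟨x * a * x⁻¹, hQn.conj_mem a a.2 x⟩
    have e : x * (Q.subtype (commHom Q x a)) * x⁻¹
        = (x * (a : G) * x⁻¹)⁻¹ * (x * (x * a * x⁻¹) * x⁻¹) := by
      rw [Subgroup.coe_subtype, commHom_coe]; group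
    rw [e]; exact this
  by_cases htop : Subgroup.zpowers x ⊔ D₀ = ⊤
  · have hDQ : D₀ = Q := eq_of_sup_eq_top (Subgroup.zpowers x) Q D₀ hPQ hD₀Q htop
    have hrange : (commHom Q x).range = ⊤ := by
      apply Subgroup.map_injective Q.subtype_injective
      rw [← hD₀, hDQ, ← MonoidHom.range_eq_map, Subgroup.range_subtype]
    have hsurj : Function.Surjective (commHom Q x) := MonoidHom.range_eq_top.mp hrange
    have hinj : Function.Injective (commHom Q x) := Finite.injective_iff_surjective.mpr hsurj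
    intro a ha hxa
    have h1 : commHom Q x ⟨a, ha⟩ = 1 := by
      apply Subtype.ext
      rw [commHom_coe]
      change a⁻¹ * (x * a * x⁻¹) = 1
      rw [hxa]; group
    have h2 := hinj (h1.trans (map_one _).symm)
    exact congrArg Subtype.val h2
  · exfalso
    apply hna
    haveI hK := h _ htop
    apply comm_of_centralizes x Q hsup
    intro a ha
    set c := a⁻¹ * (x * a * x⁻¹) with hc
    have hcD : c ∈ D₀ := hmemD ⟨a, ha⟩
    have hxc : x * c = c * x := by
      have hxK : x ∈ Subgroup.zpowers x ⊔ D₀ :=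
        (le_sup_left : Subgroup.zpowers x ≤ _) (Subgroup.mem_zpowers x)
      have hcK : c ∈ Subgroup.zpowers x ⊔ D₀ := (le_sup_right : D₀ ≤ _) hcD
      exact congrArg Subtype.val
        (mul_comm' (⟨x, hxK⟩ : (Subgroup.zpowers x ⊔ D₀ : Subgroup G)) ⟨c, hcK⟩)
    have hpow := pow_conj_formula x a c hc hxc (orderOf x)
    rw [pow_orderOf_eq_one, one_mul, mul_one] at hpow
    have hck : c ^ orderOf x = 1 := by
      have : a * 1 = a * c ^ orderOf x := by rw [mul_one]; exact hpow
      exact (mul_left_cancel this).symm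
    have h3 : orderOf c ∣ orderOf x := orderOf_dvd_of_pow_eq_one hck
    have h4 : orderOf c ∣ Nat.card Q := by
      have := orderOf_dvd_natCard (⟨c, hD₀Q hcD⟩ : Q)
      rwa [← Subgroup.orderOf_coe] at this
    have h5 : orderOf c = 1 := Nat.eq_one_of_dvd_coprimes hcop h3 h4
    rw [orderOf_eq_one_iff] at h5
    have : x * a * x⁻¹ = a := by
      have : a * c = x * a * x⁻¹ := by rw [hc]; group
      rw [← this, h5, mul_one]
    calc x * a = (x * a * x⁻¹) * x := by group
      _ = a * x := by rw [this]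

/-- A finite non-abelian group in which every proper subgroup is abelian is either of prime-power order, or is generated by a cyclic Sylow p-subgroup and a normal Sylow q-subgroup that is elementary abelian, for distinct primes p and q. -/
theorem result {G : Type*} [Group G] [Finite G] (hna : ¬ IsMulCommutative G) (h : ∀ H : Subgroup G, H ≠ ⊤ → IsMulCommutative H) : (∃ p : ℕ, p.Prime ∧ IsPGroup p G) ∨ ∃ p q : ℕ, p.Prime ∧ q.Prime ∧ p ≠ q ∧ ∃ (P : Sylow p G) (Q : Sylow q G), IsCyclic P ∧ (Q : Subgroup G).Normal ∧ Cfsg.IsElementaryAbelian q (Q : Subgroup G) ∧ (P : Subgroup G) ⊔ Q = ⊤ := by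
  by_cases hnil : Group.IsNilpotent G
  · left; exact nilpotent_case hnil hna h
  · right
    have hmin : Cfsg.IsMinimalNonNilpotent G :=
      ⟨hnil, fun H hH => by haveI := h H hH; exact isNilpotent_of_comm' H⟩
    obtain ⟨p, q, hp, hq, hpq, P, Q, hPc, hQn, hsup⟩ :=
      Cfsg.Agent.Helper29.schmidt_structure hmin
    refine ⟨p, q, hp, hq, hpq, P, Q, hPc, hQn, ?_, hsup⟩
    haveI := Fact.mk hp
    haveI := Fact.mk hq
    haveI := hQn
    have hQtop : (Q : Subgroup G) ≠ ⊤ := by
      intro htop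
      apply hnil
      have hG : IsPGroup q G := by
        intro g
        obtain ⟨k, hk⟩ := Q.isPGroup' ⟨g, by rw [htop]; trivial⟩
        exact ⟨k, congrArg Subtype.val hk⟩
      exact hG.isNilpotent
    haveI hQc : IsMulCommutative (Q : Subgroup G) := h _ hQtop
    refine ⟨hQc, ?_⟩
    obtain ⟨g, hg⟩ := hPc.exists_generator
    have hPx : (P : Subgroup G) = Subgroup.zpowers (g : G) := by
      ext y
      constructor
      · intro hy
        obtain ⟨k, hk⟩ := Subgroup.mem_zpowers_iff.mp (hg ⟨y, hy⟩)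
        refine Subgroup.mem_zpowers_iff.mpr ⟨k, ?_⟩
        have := congrArg Subtype.val hk
        simpa using this
      · intro hy
        obtain ⟨k, rfl⟩ := Subgroup.mem_zpowers_iff.mp hy
        exact Subgroup.zpow_mem _ g.2 k
    have hsup' : Subgroup.zpowers (g : G) ⊔ (Q : Subgroup G) = ⊤ := hPx ▸ hsup
    obtain ⟨b, hb⟩ := IsPGroup.iff_card.mp Q.isPGroup'
    have hcop : (orderOf (g : G)).Coprime (Nat.card (Q : Subgroup G)) := by
      have h1 : orderOf (g : G) ∣ Nat.card (P : Subgroup G) := by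
        rw [Subgroup.orderOf_coe]; exact orderOf_dvd_natCard g
      obtain ⟨a, ha⟩ := IsPGroup.iff_card.mp P.isPGroup'
      rw [hb]
      apply Nat.Coprime.coprime_dvd_left h1
      rw [ha]
      exact Nat.coprime_pow_primes a b hp hq hpq
    have hPQ : Subgroup.zpowers (g : G) ⊓ (Q : Subgroup G) = ⊥ := by
      apply (Subgroup.disjoint_of_coprime_natCard _).eq_bot
      rw [Nat.card_zpowers]; exact hcop
    have hC := centralizer_trivial hna h (g : G) (Q : Subgroup G) hcop hsup'
    have hcQ : ∀ u ∈ (Q : Subgroup G), ∀ v ∈ (Q : Subgroup G), u * v = v * u := fun u hu v hv =>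
      congrArg Subtype.val (mul_comm' (⟨u, hu⟩ : (Q : Subgroup G)) ⟨v, hv⟩)
    let Ω : Subgroup G :=
      { carrier := {a | a ∈ (Q : Subgroup G) ∧ a ^ q = 1}
        one_mem' := ⟨Subgroup.one_mem _, one_pow q⟩
        mul_mem' := by
          rintro u v ⟨hu, huq⟩ ⟨hv, hvq⟩
          refine ⟨Subgroup.mul_mem _ hu hv, ?_⟩
          have hcomm : Commute u v := hcQ u hu v hv
          rw [hcomm.mul_pow, huq, hvq, one_mul]
        inv_mem' := by
          rintro u ⟨hu, huq⟩
          exact ⟨Subgroup.inv_mem _ hu, by rw [inv_pow, huq, inv_one]⟩ }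
    have hΩQ : Ω ≤ (Q : Subgroup G) := fun a ha => ha.1
    haveI : Ω.Normal := by
      apply normal_of_le_of_conj (g : G) (Q : Subgroup G) Ω hsup' hΩQ
      intro n hn
      refine ⟨hQn.conj_mem n hn.1 _, ?_⟩
      rw [conj_pow, hn.2]; group
    by_cases htop : Subgroup.zpowers (g : G) ⊔ Ω = ⊤
    · have hΩeq : Ω = (Q : Subgroup G) :=
        eq_of_sup_eq_top (Subgroup.zpowers (g : G)) (Q : Subgroup G) Ω hPQ hΩQ htop
      intro a ha
      have : a ∈ Ω := by rw [hΩeq]; exact ha
      exact this.2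
    · exfalso
      haveI hK := h _ htop
      have hΩ1 : ∀ a ∈ Ω, a = 1 := by
        intro a ha
        apply hC a (hΩQ ha)
        have hxK : (g : G) ∈ Subgroup.zpowers (g : G) ⊔ Ω :=
          (le_sup_left : Subgroup.zpowers (g : G) ≤ _) (Subgroup.mem_zpowers _)
        have haK : a ∈ Subgroup.zpowers (g : G) ⊔ Ω := (le_sup_right : Ω ≤ _) ha
        exact congrArg Subtype.val
          (mul_comm' (⟨(g : G), hxK⟩ : (Subgroup.zpowers (g : G) ⊔ Ω : Subgroup G)) ⟨a, haK⟩)
      have hQ0 : (Q : Subgroup G) ≠ ⊥ := by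
        intro h0
        apply hna
        apply comm_of_centralizes (g : G) (Q : Subgroup G) hsup'
        intro a ha
        rw [h0, Subgroup.mem_bot] at ha
        rw [ha, mul_one, one_mul]
      have hb0 : b ≠ 0 := by
        intro h0
        rw [h0, pow_zero] at hb
        exact hQ0 (Subgroup.card_eq_one.mp hb)
      have hqQ : q ∣ Nat.card (Q : Subgroup G) := by rw [hb]; exact dvd_pow_self q hb0
      obtain ⟨y, hy⟩ := exists_prime_orderOf_dvd_card' q hqQ
      have hyΩ : (y : G) ∈ Ω := by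
        refine ⟨y.2, ?_⟩
        have : y ^ q = 1 := by
          have := pow_orderOf_eq_one y
          rwa [hy] at this
        exact congrArg Subtype.val this
      have hy1 : (y : G) = 1 := hΩ1 _ hyΩ
      have : y = 1 := Subtype.ext hy1
      rw [this, orderOf_one] at hy
      exact hq.one_lt.ne hy

end Cfsg.Agent.S0537
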