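import Cfsg.Statements.S0540
import Cfsg.Agent.Helper3.SubnormalFamily

set_option autoImplicit false
open Pointwise
open Cfsg
open scoped Pointwise

namespace Cfsg.Agent.S0540

/-- A uniqueness lemma of zipper type. Let A be a subgroup of a finite group G and U a nonempty family of subgroups. For V in U write S(V) for the set of conjugates of A that lie in V and are subnormal in V. Assume: A belongs to S(V) for every V in U; a member of some S(W) that lies in V belongs to S(V); and for all V, W in U the normalizer of the join of S(V) ∩ S(W) lies in some member of U. Then U has a greatest element. -/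
theorem result {G : Type*} [Group G] [Finite G] (A : Subgroup G) (U : Set (Subgroup G)) (hU : U.Nonempty) (S : Subgroup G → Set (Subgroup G)) (hS : ∀ V B : Subgroup G, B ∈ S V ↔ (∃ g : G, B = MulAut.conj g • A) ∧ B ≤ V ∧ (B.subgroupOf V).IsSubnormal) (h1 : ∀ V ∈ U, A ∈ S V) (h2 : ∀ V ∈ U, ∀ W ∈ U, ∀ B ∈ S W, B ≤ V → B ∈ S V) (h3 : ∀ V ∈ U, ∀ W ∈ U, ∃ X ∈ U, Subgroup.normalizer ((sSup (S V ∩ S W) : Subgroup G) : Set G) ≤ X) : ∃ M ∈ U, ∀ V ∈ U, V ≤ M := by
  classical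
  have hUfin : U.Finite := Set.toFinite U
  have hmaxex : ∀ V ∈ U, ∃ M, V ≤ M ∧ Maximal (· ∈ U) M :=
    fun V hV => hUfin.exists_le_maximal hV
  -- each family is closed under conjugation by its group
  have hclosed : ∀ V : Subgroup G, ∀ B ∈ S V, ∀ v ∈ V, MulAut.conj v • B ∈ S V := by
    intro V B hB v hv
    rw [hS] at hB ⊢
    obtain ⟨⟨g, rfl⟩, hBV, hsn⟩ := hB
    refine ⟨⟨v * g, ?_⟩, Subgroup.conj_smul_le_of_le hBV ⟨v, hv⟩, ?_⟩
    · rw [map_mul, mul_smul]
    · rw [← Subgroup.conj_smul_subgroupOf hBV ⟨v, hv⟩]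
      exact hsn.smul _
  have hleV : ∀ V : Subgroup G, ∀ B ∈ S V, B ≤ V := fun V B hB => ((hS V B).mp hB).2.1
  have hsnV : ∀ V : Subgroup G, ∀ B ∈ S V, (B.subgroupOf V).IsSubnormal :=
    fun V B hB => ((hS V B).mp hB).2.2
  have key : ∀ U₁ U₂, Maximal (· ∈ U) U₁ → Maximal (· ∈ U) U₂ → U₁ = U₂ := by
    by_contra hne
    push_neg at hne
    let T := {p : Subgroup G × Subgroup G //
      Maximal (· ∈ U) p.1 ∧ Maximal (· ∈ U) p.2 ∧ p.1 ≠ p.2}
    haveI : Nonempty T := by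
      obtain ⟨U₁, U₂, h1, h2, h⟩ := hne
      exact ⟨⟨(U₁, U₂), h1, h2, h⟩⟩
    obtain ⟨⟨⟨U₁, U₂⟩, hm1, hm2, hne12⟩, hmax⟩ :=
      Finite.exists_max (fun p : T => (S p.1.1 ∩ S p.1.2).ncard)
    simp only at hm1 hm2 hne12 hmax
    obtain ⟨X, hXU, hNX⟩ := h3 U₁ hm1.prop U₂ hm2.prop
    obtain ⟨U₃, hXU₃, hm3⟩ := hmaxex X hXU
    have hN3 : Subgroup.normalizer ((sSup (S U₁ ∩ S U₂) : Subgroup G) : Set G) ≤ U₃ :=
      hNX.trans hXU₃
    have hG₀ : (sSup (S U₁ ∩ S U₂) : Subgroup G) ≤ U₃ := Subgroup.le_normalizer.trans hN3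
    have claim_a : S U₁ ∩ S U₂ ⊆ S U₃ := by
      intro B hB
      exact h2 U₃ hm3.prop U₁ hm1.prop B hB.1 ((le_sSup hB).trans hG₀)
    have claim : ∀ W, Maximal (· ∈ U) W → S U₁ ∩ S U₂ ⊆ S W → W = U₃ := by
      intro W hmW hsub
      by_contra hW3
      have hle := hmax ⟨(W, U₃), hmW, hm3, hW3⟩
      simp only at hle
      by_cases heq : S U₁ ∩ S U₂ = S W
      · apply hW3
        apply hmW.eq_of_le hm3.prop
        refine le_trans ?_ hN3
        intro w hw
        rw [heq, ← Cfsg.Agent.Helper3.conj_smul_eq_iff_mem_normalizer]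
        apply Cfsg.Agent.Helper3.conj_smul_le_eq
        rw [Subgroup.pointwise_smul_subset_iff]
        apply sSup_le
        intro Y hY
        rw [← Subgroup.pointwise_smul_subset_iff]
        exact le_sSup (hclosed W Y hY w hw)
      · have hss : S U₁ ∩ S U₂ ⊂ S W := lt_of_le_of_ne hsub heq
        obtain ⟨X₁, hX₁W, hX₁0, hX₁N⟩ :=
          Cfsg.Agent.Helper3.subnormal_family_normalizes_rel W (S W) (S U₁ ∩ S U₂)
            (hleV W) (hsnV W) (hclosed W) hss
        have hX₁3 : X₁ ∈ S U₃ := h2 U₃ hm3.prop W hmW.prop X₁ hX₁W (hX₁N.trans hN3)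
        have hlt : S U₁ ∩ S U₂ ⊂ S W ∩ S U₃ := by
          refine ⟨fun B hB => ⟨hsub hB, claim_a hB⟩, ?_⟩
          intro h
          exact hX₁0 (h ⟨hX₁W, hX₁3⟩)
        have := Set.ncard_lt_ncard hlt (Set.toFinite _)
        omega
    have e1 := claim U₁ hm1 Set.inter_subset_left
    have e2 := claim U₂ hm2 Set.inter_subset_right
    exact hne12 (e1.trans e2.symm)
  obtain ⟨V₀, hV₀⟩ := hU
  obtain ⟨M, -, hM⟩ := hmaxex V₀ hV₀
  refine ⟨M, hM.prop, fun V hV => ?_⟩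
  obtain ⟨M', hVM', hM'⟩ := hmaxex V hV
  rw [key M M' hM hM']
  exact hVM' 

end Cfsg.Agent.S0540
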