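import Cfsg.Statements.S0541
import Cfsg.Agent.Helper3.SubnormalFamily

set_option autoImplicit false
open Pointwise
open Cfsg

namespace Cfsg.Agent.S0541

open Cfsg.Agent.Helper3

theorem isSubnormal_of_isPGroup {G : Type*} [Group G] [Finite G] {p : ℕ} [Fact p.Prime]
    (hG : IsPGroup p G) (H : Subgroup G) : H.IsSubnormal := by
  haveI : Group.IsNilpotent G := hG.isNilpotent
  have hnc : NormalizerCondition G := Group.normalizerCondition_of_isNilpotent
  induction H using WellFoundedGT.induction with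
  | ind H ih =>
    by_cases hH : H = ⊤
    · rw [hH]; exact Subgroup.IsSubnormal.top
    · have hlt : H < Subgroup.normalizer (H : Set G) := hnc H (lt_top_iff_ne_top.mpr hH)
      exact Subgroup.IsSubnormal.step H _ hlt.le (ih _ hlt) Subgroup.normal_in_normalizer

/-- a set of subgroups permuted by `Y` has join normalized by `Y` -/
theorem le_normalizer_sSup_of_invariant {G : Type*} [Group G] [Finite G] (Y : Subgroup G)
    (S : Set (Subgroup G)) (hinv : ∀ B ∈ S, ∀ y ∈ Y, MulAut.conj y • B ∈ S) :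
    Y ≤ Subgroup.normalizer ((sSup S : Subgroup G) : Set G) := by
  intro y hy
  rw [← conj_smul_eq_iff_mem_normalizer]
  apply conj_smul_le_eq
  rw [Subgroup.pointwise_smul_subset_iff]
  apply sSup_le
  intro B hB
  rw [← Subgroup.pointwise_smul_subset_iff]
  exact le_sSup (hinv B hB y hy)

/-- Let Z and Y be subgroups of a finite group G and p a prime. Suppose that for every g in G the subgroup generated by the conjugates of g Z g⁻¹ under Y is a p-group. Then there is a Sylow p-subgroup P of G such that Y normalizes the subgroup generated by all conjugates of Z contained in P. -/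
theorem result {G : Type*} [Group G] [Finite G] (p : ℕ) [Fact p.Prime] (Z Y : Subgroup G) (h : ∀ g : G, IsPGroup p ↥(⨆ y ∈ Y, MulAut.conj (y * g) • Z)) : ∃ P : Sylow p G, Y ≤ Subgroup.normalizer ((⨆ g ∈ {g : G | MulAut.conj g • Z ≤ (P : Subgroup G)}, MulAut.conj g • Z : Subgroup G) : Set G) := by
  classical
  -- the admissible families
  let F : Set (Set (Subgroup G)) := {S | (∀ B ∈ S, ∃ g : G, B = MulAut.conj g • Z) ∧
    (∀ B ∈ S, ∀ y ∈ Y, MulAut.conj y • B ∈ S) ∧ IsPGroup p (sSup S : Subgroup G)}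
  have hF0 : (∅ : Set (Subgroup G)) ∈ F := by
    refine ⟨fun B hB => absurd hB (Set.notMem_empty B), fun B hB => absurd hB (Set.notMem_empty B), ?_⟩
    rw [sSup_empty]
    exact IsPGroup.of_bot
  obtain ⟨S, -, hSmax⟩ := (Set.toFinite F).exists_le_maximal hF0
  obtain ⟨hSconj, hSinv, hSp⟩ := hSmax.prop
  obtain ⟨P, hQP⟩ := hSp.exists_le_sylow
  refine ⟨P, ?_⟩
  let S' : Set (Subgroup G) := {B | (∃ g : G, B = MulAut.conj g • Z) ∧ B ≤ (P : Subgroup G)}
  have hSS' : S ⊆ S' := fun B hB => ⟨hSconj B hB, (le_sSup hB).trans hQP⟩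
  have hW : (⨆ g ∈ {g : G | MulAut.conj g • Z ≤ (P : Subgroup G)}, MulAut.conj g • Z : Subgroup G)
      = sSup S' := by
    apply le_antisymm
    · apply iSup_le; intro g; apply iSup_le; intro hg
      exact le_sSup ⟨⟨g, rfl⟩, hg⟩
    · apply sSup_le
      rintro B ⟨⟨g, rfl⟩, hg⟩
      exact le_iSup₂_of_le g hg le_rfl
  rw [hW]
  by_cases heq : S = S'
  · rw [← heq]
    exact le_normalizer_sSup_of_invariant Y S hSinv
  · exfalso
    have hss : S ⊂ S' := lt_of_le_of_ne hSS' heq
    have hPsub : ∀ B ∈ S', (B.subgroupOf (P : Subgroup G)).IsSubnormal :=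
      fun B _ => isSubnormal_of_isPGroup P.isPGroup' _
    have hPconj : ∀ B ∈ S', ∀ v ∈ (P : Subgroup G), MulAut.conj v • B ∈ S' := by
      rintro B ⟨⟨g, rfl⟩, hB⟩ v hv
      refine ⟨⟨v * g, ?_⟩, Subgroup.conj_smul_le_of_le hB ⟨v, hv⟩⟩
      rw [map_mul, mul_smul]
    obtain ⟨X, hXS', hXS, hXN⟩ := subnormal_family_normalizes_rel (P : Subgroup G) S' S
      (fun B hB => hB.2) hPsub hPconj hss
    obtain ⟨⟨g, rfl⟩, -⟩ := hXS'
    -- the enlarged family
    let S₂ : Set (Subgroup G) := S ∪ {B | ∃ y ∈ Y, B = MulAut.conj y • (MulAut.conj g • Z)}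
    have hYQ : Y ≤ Subgroup.normalizer ((sSup S : Subgroup G) : Set G) :=
      le_normalizer_sSup_of_invariant Y S hSinv
    have hsup₂ : (sSup S₂ : Subgroup G) = sSup S ⊔ ⨆ y ∈ Y, MulAut.conj (y * g) • Z := by
      rw [sSup_union]
      congr 1
      apply le_antisymm
      · apply sSup_le
        rintro B ⟨y, hy, rfl⟩
        refine le_iSup₂_of_le y hy ?_
        rw [map_mul, mul_smul]
      · apply iSup_le; intro y; apply iSup_le; intro hy
        apply le_sSup
        exact ⟨y, hy, by rw [map_mul, mul_smul]⟩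
    have hRN : (⨆ y ∈ Y, MulAut.conj (y * g) • Z : Subgroup G)
        ≤ Subgroup.normalizer ((sSup S : Subgroup G) : Set G) := by
      apply iSup_le; intro y; apply iSup_le; intro hy
      intro x hx
      rw [map_mul, mul_smul, mem_conj_smul_iff] at hx
      have h1 := hXN hx
      have h2 : y ∈ Subgroup.normalizer ((sSup S : Subgroup G) : Set G) := hYQ hy
      have : x = y * (y⁻¹ * x * y) * y⁻¹ := by group
      rw [this]
      exact Subgroup.mul_mem _ (Subgroup.mul_mem _ h2 h1) (Subgroup.inv_mem _ h2)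
    have hS₂ : S₂ ∈ F := by
      refine ⟨?_, ?_, ?_⟩
      · rintro B (hB | ⟨y, hy, rfl⟩)
        · exact hSconj B hB
        · exact ⟨y * g, by rw [map_mul, mul_smul]⟩
      · rintro B (hB | ⟨y, hy, rfl⟩) y' hy'
        · exact Or.inl (hSinv B hB y' hy')
        · right
          refine ⟨y' * y, Y.mul_mem hy' hy, ?_⟩
          rw [map_mul (MulAut.conj) y' y, mul_smul]
      · rw [hsup₂]
        exact IsPGroup.to_sup_of_normal_left' hSp (h g) hRN
    have hle : S ≤ S₂ := Set.subset_union_left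
    have hS₂le := hSmax.le_of_ge hS₂ hle
    apply hXS
    apply hS₂le
    right
    exact ⟨1, Y.one_mem, by simp⟩

end Cfsg.Agent.S0541
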