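import Cfsg.Statements.S0547
import Mathlib
import Cfsg.Agent.Helper1.MinNormal

set_option autoImplicit false
set_option linter.style.haveILetI false
open Cfsg

namespace Cfsg.Agent.S0547

/-- a nontrivial normal subgroup of a faithful primitive group is transitive -/
theorem pretransitive_of_normal {G : Type*} [Group G] {Ω : Type*} [MulAction G Ω] [FaithfulSMul G Ω]
    (hprim : MulAction.IsPreprimitive G Ω) (M : Subgroup G) [M.Normal] (hM : M ≠ ⊥) :
    MulAction.IsPretransitive M Ω := by
  apply MulAction.IsQuasiPreprimitive.isPretransitive_of_normal (G := G)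
  intro huniv
  apply hM
  rw [eq_bot_iff]
  intro m hm
  rw [Subgroup.mem_bot]
  apply FaithfulSMul.eq_of_smul_eq_smul (α := Ω)
  intro ω
  have : ω ∈ MulAction.fixedPoints M Ω := by rw [huniv]; trivial
  rw [one_smul]
  exact this ⟨m, hm⟩

/-- an abelian transitive subgroup of a faithful action has trivial point stabilizers -/
theorem stabilizer_eq_bot_of_comm {G : Type*} [Group G] {Ω : Type*} [MulAction G Ω]
    [FaithfulSMul G Ω] (M : Subgroup G) [IsMulCommutative M] [MulAction.IsPretransitive M Ω]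
    (ω : Ω) : MulAction.stabilizer M ω = ⊥ := by
  rw [eq_bot_iff]
  intro s hs
  rw [Subgroup.mem_bot]
  rw [MulAction.mem_stabilizer_iff] at hs
  apply Subtype.ext
  apply FaithfulSMul.eq_of_smul_eq_smul (α := Ω)
  intro ω'
  obtain ⟨m, rfl⟩ := MulAction.exists_smul_eq M ω ω'
  change s • (m • ω) = (1 : G) • (m • ω)
  rw [one_smul, smul_smul, mul_comm' s m, ← smul_smul, hs]

/-- Let a finite solvable group G act faithfully and primitively on a set, and let M be a minimal normal subgroup of G. Then M is transitive with trivial point stabilizers, and the number of points equals the order of M, which is a prime power p ^ d with d ≥ 1. -/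
theorem result {G : Type*} [Group G] [Finite G] [Group.IsSolvable G] {Ω : Type*} [Nonempty Ω] [MulAction G Ω] [FaithfulSMul G Ω] (hprim : MulAction.IsPreprimitive G Ω) (M : Subgroup G) [M.Normal] (hM : M ≠ ⊥) (hmin : ∀ K : Subgroup G, K.Normal → K ≤ M → K = ⊥ ∨ K = M) : MulAction.IsPretransitive M Ω ∧ (∀ ω : Ω, MulAction.stabilizer M ω = ⊥) ∧ ∃ p d : ℕ, p.Prime ∧ 0 < d ∧ Nat.card Ω = p ^ d ∧ Nat.card M = p ^ d := by
  haveI := pretransitive_of_normal hprim M hM
  obtain ⟨hc, p, hp, hexp⟩ := Cfsg.Agent.Helper1.minNormal_elementary M hM inferInstance hmin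
  haveI := hc
  have hstab : ∀ ω : Ω, MulAction.stabilizer M ω = ⊥ := fun ω => stabilizer_eq_bot_of_comm M ω
  refine ⟨inferInstance, hstab, ?_⟩
  haveI : Fact p.Prime := ⟨hp⟩
  have hMp : IsPGroup p M := fun x => ⟨1, by rw [pow_one]; exact Subtype.ext (hexp x x.2)⟩
  obtain ⟨d, hd⟩ := IsPGroup.iff_card.mp hMp
  have hd0 : 0 < d := by
    rcases Nat.eq_zero_or_pos d with h0 | h0
    · rw [h0, pow_zero] at hd
      exact absurd (Subgroup.card_eq_one.mp hd) hM
    · exact h0
  refine ⟨p, d, hp, hd0, ?_, hd⟩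
  rw [← hd]
  obtain ⟨ω⟩ := ‹Nonempty Ω›
  symm
  apply Nat.card_congr
  apply Equiv.ofBijective (fun m : M => m • ω)
  constructor
  · intro a b hab
    have h1 : (b⁻¹ * a) • ω = ω := by
      rw [mul_smul]
      change b⁻¹ • (a • ω) = ω
      rw [show a • ω = b • ω from hab, inv_smul_smul]
    have h2 : b⁻¹ * a ∈ MulAction.stabilizer M ω := h1
    rw [hstab ω, Subgroup.mem_bot] at h2
    exact (inv_mul_eq_one.mp h2).symm
  · intro ω'
    exact MulAction.exists_smul_eq M ω ω' 

end Cfsg.Agent.S0547
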