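import Cfsg.Statements.S0548
import Mathlib
import Cfsg.Agent.Helper1.MinNormal
import Cfsg.Agent.S0547

set_option autoImplicit false
set_option linter.style.haveILetI false
open Cfsg

namespace Cfsg.Agent.S0548

/-- Let a finite solvable group G act faithfully and primitively on a set, let M be a minimal normal subgroup and H the stabilizer of a point. Then H is a complement to M, no non-identity element of H centralizes M, and the only subgroups of M normalized by H are the trivial subgroup and M. -/
theorem result {G : Type*} [Group G] [Finite G] [Group.IsSolvable G] {Ω : Type*} [MulAction G Ω] [FaithfulSMul G Ω] (hprim : MulAction.IsPreprimitive G Ω) (M : Subgroup G) [M.Normal] (hM : M ≠ ⊥) (hmin : ∀ K : Subgroup G, K.Normal → K ≤ M → K = ⊥ ∨ K = M) (ω : Ω) : Subgroup.IsComplement' M (MulAction.stabilizer G ω) ∧ MulAction.stabilizer G ω ⊓ Subgroup.centralizer (M : Set G) = ⊥ ∧ ∀ K : Subgroup G, K ≤ M → MulAction.stabilizer G ω ≤ Subgroup.normalizer (K : Set G) → K = ⊥ ∨ K = M := by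
  haveI := Cfsg.Agent.S0547.pretransitive_of_normal hprim M hM
  obtain ⟨hc, -⟩ := Cfsg.Agent.Helper1.minNormal_elementary M hM inferInstance hmin
  haveI := hc
  have hstab : MulAction.stabilizer M ω = ⊥ := Cfsg.Agent.S0547.stabilizer_eq_bot_of_comm M ω
  have hfac : ∀ g : G, ∃ m ∈ M, ∃ s ∈ MulAction.stabilizer G ω, g = m * s := by
    intro g
    obtain ⟨m, hm⟩ := MulAction.exists_smul_eq M ω (g • ω)
    refine ⟨m, m.2, (m : G)⁻¹ * g, ?_, by group⟩
    rw [MulAction.mem_stabilizer_iff, mul_smul, ← hm]
    change (m : G)⁻¹ • ((m : G) • ω) = ω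
    rw [inv_smul_smul]
  refine ⟨?_, ?_, ?_⟩
  · apply Subgroup.isComplement'_of_disjoint_and_mul_eq_univ
    · rw [disjoint_iff, eq_bot_iff]
      rintro x ⟨hxM, hxs⟩
      have h1 : (⟨x, hxM⟩ : M) ∈ MulAction.stabilizer M ω := by
        rw [MulAction.mem_stabilizer_iff]
        exact (MulAction.mem_stabilizer_iff.mp hxs)
      rw [hstab, Subgroup.mem_bot] at h1
      rw [Subgroup.mem_bot]
      exact congrArg Subtype.val h1
    · ext g
      simp only [Set.mem_univ, iff_true]
      obtain ⟨m, hm, s, hs, rfl⟩ := hfac g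
      exact ⟨m, hm, s, hs, rfl⟩
  · rw [eq_bot_iff]
    rintro c ⟨hcs, hcc⟩
    rw [Subgroup.mem_bot]
    apply FaithfulSMul.eq_of_smul_eq_smul (α := Ω)
    intro ω'
    obtain ⟨m, rfl⟩ := MulAction.exists_smul_eq M ω ω'
    change c • ((m : G) • ω) = (1 : G) • ((m : G) • ω)
    rw [one_smul, smul_smul, ← (Subgroup.mem_centralizer_iff.mp hcc) (m : G) m.2, ← smul_smul,
      MulAction.mem_stabilizer_iff.mp hcs]
  · intro K hKM hKs
    have hKn : K.Normal := by
      rw [← Subgroup.normalizer_eq_top_iff, eq_top_iff]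
      intro g _
      obtain ⟨m, hm, s, hs, rfl⟩ := hfac g
      apply Subgroup.mul_mem _ _ (hKs hs)
      rw [Subgroup.mem_normalizer_iff]
      intro k
      constructor
      · intro hk
        have hcomm : m * k = k * m := by
          have := mul_comm' (⟨m, hm⟩ : M) ⟨k, hKM hk⟩
          exact congrArg Subtype.val this
        rw [hcomm, mul_assoc, mul_inv_cancel, mul_one]; exact hk
      · intro hk
        have hkM : k ∈ M := by
          have h1 : m * k * m⁻¹ ∈ M := hKM hk
          have : k = m⁻¹ * (m * k * m⁻¹) * m := by group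
          rw [this]
          exact M.mul_mem (M.mul_mem (M.inv_mem hm) h1) hm
        have hcomm : m * k = k * m := by
          have := mul_comm' (⟨m, hm⟩ : M) ⟨k, hkM⟩
          exact congrArg Subtype.val this
        rw [hcomm, mul_assoc, mul_inv_cancel, mul_one] at hk; exact hk
    exact hmin K hKn hKM

end Cfsg.Agent.S0548
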