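import Cfsg.Statements.S0550
import Cfsg.Agent.Helper3.CoreFree

set_option autoImplicit false
open Cfsg
open scoped Pointwise

namespace Cfsg.Agent.S0550

open Cfsg.Agent.Helper3

variable {G : Type*} [Group G]

theorem disjoint_subgroupOf' {A B : Subgroup G} (U : Subgroup G) (h : A ⊓ B = ⊥) :
    Disjoint (A.subgroupOf U) (B.subgroupOf U) := by
  rw [disjoint_iff, eq_bot_iff]
  intro x hx
  rw [Subgroup.mem_inf, Subgroup.mem_subgroupOf, Subgroup.mem_subgroupOf] at hx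
  have : (x : G) ∈ A ⊓ B := hx
  rw [h, Subgroup.mem_bot] at this
  rw [Subgroup.mem_bot]
  exact Subtype.ext this

/-- If `D` is normal with `D ⊓ K = ⊥` then `D` and `K` are complements inside `D ⊔ K`. -/
theorem isComplement'_sup {D K U : Subgroup G} [D.Normal]
    (hd : D ⊓ K = ⊥) (hU : D ⊔ K = U) :
    Subgroup.IsComplement' (D.subgroupOf U) (K.subgroupOf U) := by
  apply Subgroup.isComplement'_of_disjoint_and_mul_eq_univ
  · exact disjoint_subgroupOf' U hd
  · ext u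
    simp only [Set.mem_univ, iff_true]
    have hu : (u : G) ∈ ((D ⊔ K : Subgroup G) : Set G) := by rw [hU]; exact u.2
    rw [Subgroup.normal_mul] at hu
    obtain ⟨d, hd', k, hk, hdk⟩ := hu
    have hdU : d ∈ U := by rw [← hU]; exact (le_sup_left : D ≤ D ⊔ K) hd'
    have hkU : k ∈ U := by rw [← hU]; exact (le_sup_right : K ≤ D ⊔ K) hk
    exact ⟨⟨d, hdU⟩, hd', ⟨k, hkU⟩, hk, Subtype.ext hdk⟩

/-- two complements (inside `L`) of the same normal subgroup are isomorphic -/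
theorem iso_of_two_complements (N H K L : Subgroup G) [N.Normal]
    (hH : N ⊓ H = ⊥) (hK : N ⊓ K = ⊥) (hHL : N ⊔ H = L) (hKL : N ⊔ K = L) :
    Nonempty (H ≃* K) := by
  have hNL : N ≤ L := hHL ▸ le_sup_left
  have hH' : H ≤ L := hHL ▸ le_sup_right
  have hK' : K ≤ L := hKL ▸ le_sup_right
  haveI : (N.subgroupOf L).Normal := Subgroup.normal_subgroupOf
  have c1 : Subgroup.IsComplement' (H.subgroupOf L) (N.subgroupOf L) :=
    (isComplement'_sup hH hHL).symm
  have c2 : Subgroup.IsComplement' (K.subgroupOf L) (N.subgroupOf L) :=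
    (isComplement'_sup hK hKL).symm
  have e1 := c1.QuotientMulEquiv
  have e2 := c2.QuotientMulEquiv
  exact ⟨(Subgroup.subgroupOfEquivOfLe hH').symm.trans
    (e1.symm.trans (e2.trans (Subgroup.subgroupOfEquivOfLe hK')))⟩


theorem inf_eq_bot_of_min (A B : Subgroup G) [A.Normal] [B.Normal] (hA : A ≠ ⊥)
    (hAmin : ∀ K : Subgroup G, K.Normal → K ≤ A → K = ⊥ ∨ K = A)
    (hBmin : ∀ K : Subgroup G, K.Normal → K ≤ B → K = ⊥ ∨ K = B) (hAB : A ≠ B) : A ⊓ B = ⊥ := by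
  rcases hAmin (A ⊓ B) inferInstance inf_le_left with h | h
  · exact h
  · exfalso
    have hAleB : A ≤ B := by rw [← h]; exact inf_le_right
    rcases hBmin A inferInstance hAleB with h' | h'
    · exact hA h'
    · exact hAB h'

theorem le_centralizer_of_inf_eq_bot (A B : Subgroup G) [A.Normal] [B.Normal] (h : A ⊓ B = ⊥) :
    A ≤ Subgroup.centralizer (B : Set G) := by
  intro a ha
  rw [Subgroup.mem_centralizer_iff]
  intro b hb
  exact (Subgroup.commute_of_normal_of_disjoint A B inferInstance inferInstance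
    (disjoint_iff.mpr h) a b ha hb).symm.eq

/-- the half of the statement that is symmetric in `A`, `B` -/
theorem half {G : Type*} [Group G] [Finite G] (U : Subgroup G) (hU : IsCoatom U)
    (hcore : U.normalCore = ⊥) (A B : Subgroup G) [A.Normal] [B.Normal] (hA : A ≠ ⊥) (hB : B ≠ ⊥)
    (hAmin : ∀ K : Subgroup G, K.Normal → K ≤ A → K = ⊥ ∨ K = A)
    (hAB : A ⊓ B = ⊥) :
    Subgroup.centralizer (B : Set G) = A ∧ Subgroup.IsComplement' A U ∧
      A ⊔ ((A ⊔ B) ⊓ U) = A ⊔ B := by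
  have hAC : A ≤ Subgroup.centralizer (B : Set G) := le_centralizer_of_inf_eq_bot A B hAB
  have hCU : Subgroup.centralizer (B : Set G) ⊓ U = ⊥ := centralizer_inf_coreFree hU hcore B hB
  -- C(B) = A
  have hC : Subgroup.centralizer (B : Set G) = A := by
    apply le_antisymm _ hAC
    intro c hc
    obtain ⟨u, hu, k, hk, rfl⟩ := exists_mul_of_coreFree hU hcore A hA c
    have huC : u ∈ Subgroup.centralizer (B : Set G) := by
      have : u = u * k * k⁻¹ := by group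
      rw [this]
      exact Subgroup.mul_mem _ hc (Subgroup.inv_mem _ (hAC hk))
    have : u ∈ Subgroup.centralizer (B : Set G) ⊓ U := ⟨huC, hu⟩
    rw [hCU, Subgroup.mem_bot] at this
    rw [this, one_mul]; exact hk
  have hAU : A ⊓ U = ⊥ := by rw [← hC]; exact hCU
  have hfac : ∀ g : G, ∃ a ∈ A, ∃ u ∈ U, g = a * u := by
    intro g
    obtain ⟨u, hu, n, hn, h⟩ := exists_mul_of_coreFree hU hcore A hA g⁻¹
    refine ⟨n⁻¹, A.inv_mem hn, u⁻¹, U.inv_mem hu, ?_⟩
    have : g = (g⁻¹)⁻¹ := by simp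
    rw [this, h]; group
  refine ⟨hC, ?_, ?_⟩
  · apply Subgroup.isComplement'_of_disjoint_and_mul_eq_univ (disjoint_iff.mpr hAU)
    ext g
    simp only [Set.mem_univ, iff_true]
    obtain ⟨a, ha, u, hu, rfl⟩ := hfac g
    exact ⟨a, ha, u, hu, rfl⟩
  · apply le_antisymm
    · exact sup_le le_sup_left inf_le_left
    · intro l hl
      obtain ⟨a, ha, u, hu, rfl⟩ := hfac l
      have huL : u ∈ A ⊔ B := by
        have : u = a⁻¹ * (a * u) := by group
        rw [this]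
        exact Subgroup.mul_mem _ (Subgroup.inv_mem _ ((le_sup_left : A ≤ A ⊔ B) ha)) hl
      exact Subgroup.mul_mem _ ((le_sup_left : A ≤ A ⊔ ((A ⊔ B) ⊓ U)) ha)
        ((le_sup_right : (A ⊔ B) ⊓ U ≤ A ⊔ ((A ⊔ B) ⊓ U)) ⟨huL, hu⟩)

/-- Let U be a core-free maximal subgroup and A ≠ B minimal normal subgroups. -/
theorem result {G : Type*} [Group G] [Finite G] (U : Subgroup G) (hU : IsCoatom U) (hcore : U.normalCore = ⊥) (A B : Subgroup G) [A.Normal] [B.Normal] (hA : A ≠ ⊥) (hB : B ≠ ⊥) (hAmin : ∀ K : Subgroup G, K.Normal → K ≤ A → K = ⊥ ∨ K = A) (hBmin : ∀ K : Subgroup G, K.Normal → K ≤ B → K = ⊥ ∨ K = B) (hAB : A ≠ B) : Subgroup.centralizer (B : Set G) = A ∧ Subgroup.centralizer (A : Set G) = B ∧ Subgroup.IsComplement' A U ∧ Subgroup.IsComplement' B U ∧ ¬ IsMulCommutative A ∧ Nonempty (A ≃* B) ∧ Nonempty (A ≃* ↥((A ⊔ B) ⊓ U)) := by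
  have hd : A ⊓ B = ⊥ := inf_eq_bot_of_min A B hA hAmin hBmin hAB
  have hd' : B ⊓ A = ⊥ := by rw [inf_comm]; exact hd
  obtain ⟨hCB, hcA, hsA⟩ := half U hU hcore A B hA hB hAmin hd
  obtain ⟨hCA, hcB, hsB⟩ := half U hU hcore B A hB hA hBmin hd'
  have hsB' : B ⊔ ((A ⊔ B) ⊓ U) = A ⊔ B := by
    have := hsB
    rw [sup_comm B A] at this
    exact this
  have hAX : A ⊓ ((A ⊔ B) ⊓ U) = ⊥ := by
    apply le_antisymm _ bot_le
    calc A ⊓ ((A ⊔ B) ⊓ U) ≤ A ⊓ U := inf_le_inf_left _ inf_le_right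
      _ = ⊥ := hcA.disjoint.eq_bot
  have hBX : B ⊓ ((A ⊔ B) ⊓ U) = ⊥ := by
    apply le_antisymm _ bot_le
    calc B ⊓ ((A ⊔ B) ⊓ U) ≤ B ⊓ U := inf_le_inf_left _ inf_le_right
      _ = ⊥ := hcB.disjoint.eq_bot
  -- A ≃ X  (both complement B in A ⊔ B)
  have e1 : Nonempty (A ≃* ↥((A ⊔ B) ⊓ U)) :=
    iso_of_two_complements B A ((A ⊔ B) ⊓ U) (A ⊔ B) hd' hBX (sup_comm B A) hsB'
  -- B ≃ X (both complement A)
  have e2 : Nonempty (B ≃* ↥((A ⊔ B) ⊓ U)) :=
    iso_of_two_complements A B ((A ⊔ B) ⊓ U) (A ⊔ B) hd hAX rfl hsA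
  refine ⟨hCB, hCA, hcA, hcB, ?_, ?_, e1⟩
  · intro hcomm
    apply hA
    have hAle : A ≤ Subgroup.centralizer (A : Set G) := by
      intro a ha
      rw [Subgroup.mem_centralizer_iff]
      intro b hb
      have := mul_comm' (⟨b, hb⟩ : A) ⟨a, ha⟩
      exact congrArg Subtype.val this
    rw [hCA] at hAle
    apply le_antisymm _ bot_le
    rw [← hd]
    exact le_inf le_rfl hAle
  · obtain ⟨f⟩ := e1
    obtain ⟨g⟩ := e2
    exact ⟨f.trans g.symm⟩

end Cfsg.Agent.S0550
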