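import Cfsg.Statements.S0551
import Mathlib
import Cfsg.Agent.Helper3.CoreFree
import Cfsg.Agent.Helper3.Conj
import Cfsg.Agent.Helper3.ProdCard
import Cfsg.Agent.Helper1.MinNormal
import Cfsg.Agent.Helper19.Subnormal
import Cfsg.Agent.Helper19.Sylow
import Cfsg.Agent.Helper10.PGroupBasic
import Cfsg.Agent.Lead.HallPrep

set_option autoImplicit false
set_option linter.style.haveILetI false
open Pointwise
open Cfsg

namespace Cfsg.Agent.S0551

open Cfsg.Agent.Helper3

variable {G : Type*} [Group G]

theorem conj_smul_normalizer_le (k : G) (X : Subgroup G) :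
    MulAut.conj k • Subgroup.normalizer (X : Set G)
      ≤ Subgroup.normalizer ((MulAut.conj k • X : Subgroup G) : Set G) := by
  intro x hx
  rw [mem_conj_smul_iff, ← conj_smul_eq_iff_mem_normalizer] at hx
  rw [← conj_smul_eq_iff_mem_normalizer, ← mul_smul, ← map_mul]
  have : x * k = k * (k⁻¹ * x * k) := by group
  rw [this, map_mul, mul_smul, hx]

/-- for normal subgroups `N ≤ M` with `N ⊓ U = ⊥`, `|N| * |M ⊓ U| = |M|` -/
theorem card_inf_props [Finite G] (U : Subgroup G) (hU : IsCoatom U) (hUc : U.normalCore = ⊥)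
    (N M : Subgroup G) [N.Normal] [M.Normal] (hN0 : N ≠ ⊥) (hNU : N ⊓ U = ⊥) (hNM : N ≤ M) :
    Nat.card N * Nat.card (M ⊓ U : Subgroup G) = Nat.card M := by
  have h1 := card_mul_set_mul_card_inf N (M ⊓ U)
  have hbot : N ⊓ (M ⊓ U) = ⊥ := by
    apply le_bot_iff.mp
    calc N ⊓ (M ⊓ U) ≤ N ⊓ U := inf_le_inf_left _ inf_le_right
      _ = ⊥ := hNU
  have hset : ((N : Set G) * ((M ⊓ U : Subgroup G) : Set G)) = (M : Set G) := by
    ext m
    constructor
    · rintro ⟨n, hn, x, hx, rfl⟩
      exact M.mul_mem (hNM hn) hx.1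
    · intro hm
      obtain ⟨u, hu, n, hn, rfl⟩ := exists_mul_of_coreFree hU hUc N hN0 m
      have huM : u ∈ M := by
        have : u = u * n * n⁻¹ := by group
        rw [this]; exact M.mul_mem hm (M.inv_mem (hNM hn))
      refine ⟨u * n * u⁻¹, (inferInstance : N.Normal).conj_mem n hn u, u, ⟨huM, hu⟩, ?_⟩
      simp
  rw [hset, hbot, Subgroup.card_bot, mul_one] at h1
  exact h1.symm

/-- the normalizer of a nontrivial `M ⊓ U`, `M` normal, `U` core-free maximal, is `U` -/
theorem normalizer_inf_eq (U : Subgroup G) (hU : IsCoatom U) (hUc : U.normalCore = ⊥)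
    (M : Subgroup G) [M.Normal] (h : M ⊓ U ≠ ⊥) :
    Subgroup.normalizer ((M ⊓ U : Subgroup G) : Set G) = U := by
  have hle : U ≤ Subgroup.normalizer ((M ⊓ U : Subgroup G) : Set G) := by
    intro u hu
    rw [← conj_smul_eq_iff_mem_normalizer]
    ext x
    rw [mem_conj_smul_iff]
    constructor
    · rintro ⟨h1, h2⟩
      have e : x = u * (u⁻¹ * x * u) * u⁻¹ := by group
      constructor
      · rw [e]; exact (inferInstance : M.Normal).conj_mem _ h1 u
      · rw [e]; exact U.mul_mem (U.mul_mem hu h2) (U.inv_mem hu)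
    · rintro ⟨h1, h2⟩
      constructor
      · have := (inferInstance : M.Normal).conj_mem x h1 u⁻¹
        simpa using this
      · exact U.mul_mem (U.mul_mem (U.inv_mem hu) h2) hu
  rcases hU.le_iff.mp hle with htop | heq
  · exfalso
    apply h
    haveI : (M ⊓ U).Normal := Subgroup.normalizer_eq_top_iff.mp htop
    exact eq_bot_of_normal_le_coreFree hUc _ inf_le_right
  · exact heq

/-- In a finite solvable group all core-free maximal subgroups are conjugate. -/
theorem result {G : Type*} [Group G] [Finite G] [Group.IsSolvable G] (U V : Subgroup G) (hU : IsCoatom U) (hV : IsCoatom V) (hUc : U.normalCore = ⊥) (hVc : V.normalCore = ⊥) : ∃ g : G, MulAut.conj g • U = V := by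
  classical
  have htop : (⊤ : Subgroup G) ≠ ⊥ := by
    intro h
    apply hU.1
    apply le_antisymm le_top
    rw [h]; exact bot_le
  obtain ⟨N, hNmin, -⟩ := Cfsg.Agent.Helper19.exists_isMinNormal_le
    (Subgroup.normal_top (G := G)) htop
  obtain ⟨hNn, hN0, hmin⟩ := hNmin
  haveI := hNn
  obtain ⟨hNc, p, hp, hexp⟩ := Cfsg.Agent.Helper1.minNormal_elementary N hN0 inferInstance hmin
  haveI : Fact p.Prime := ⟨hp⟩
  have hNp : IsPGroup p N := fun x => ⟨1, by rw [pow_one]; exact Subtype.ext (hexp x x.2)⟩
  have hNC : N ≤ Subgroup.centralizer (N : Set G) := by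
    intro a ha
    rw [Subgroup.mem_centralizer_iff]
    intro b hb
    have := mul_comm' (⟨b, hb⟩ : N) ⟨a, ha⟩
    exact congrArg Subtype.val this
  have hCU := centralizer_inf_coreFree hU hUc N hN0
  have hCV := centralizer_inf_coreFree hV hVc N hN0
  have hNU : N ⊓ U = ⊥ := le_bot_iff.mp ((inf_le_inf_right U hNC).trans hCU.le)
  have hNV : N ⊓ V = ⊥ := le_bot_iff.mp ((inf_le_inf_right V hNC).trans hCV.le)
  have hCN : Subgroup.centralizer (N : Set G) = N := by
    apply le_antisymm _ hNC
    intro c hc
    obtain ⟨u, hu, n, hn, rfl⟩ := exists_mul_of_coreFree hU hUc N hN0 c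
    have huC : u ∈ Subgroup.centralizer (N : Set G) := by
      have : u = u * n * n⁻¹ := by group
      rw [this]
      exact Subgroup.mul_mem _ hc (Subgroup.inv_mem _ (hNC hn))
    have : u ∈ Subgroup.centralizer (N : Set G) ⊓ U := ⟨huC, hu⟩
    rw [hCU, Subgroup.mem_bot] at this
    rw [this, one_mul]; exact hn
  by_cases hNtop : N = ⊤
  · refine ⟨1, ?_⟩
    rw [hNtop, top_inf_eq] at hNU hNV
    rw [hNU, hNV]; simp
  · haveI : Nontrivial (G ⧸ N) := by
      rw [← not_subsingleton_iff_nontrivial]
      intro hsub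
      exact hNtop (QuotientGroup.subgroup_eq_top_of_subsingleton N hsub)
    obtain ⟨q, hq, M', hM'n, hM'q, hM'0⟩ :=
      Cfsg.Agent.Lead.exists_normal_pgroup_of_isSolvable (G := G ⧸ N)
    haveI : Fact q.Prime := ⟨hq⟩
    haveI := hM'n
    set M := M'.comap (QuotientGroup.mk' N) with hMdef
    haveI hMn : M.Normal := Subgroup.Normal.comap hM'n _
    have hNM : N ≤ M := QuotientGroup.le_comap_mk' N M'
    have hcardM : Nat.card M = Nat.card M' * Nat.card N := Cfsg.Agent.Lead.card_comap_mk' N M'
    obtain ⟨b, hb⟩ := IsPGroup.iff_card.mp hM'q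
    obtain ⟨a, ha⟩ := IsPGroup.iff_card.mp hNp
    have hb0 : b ≠ 0 := by
      intro h0
      rw [h0, pow_zero] at hb
      exact hM'0 (Subgroup.card_eq_one.mp hb)
    have hqp : q ≠ p := by
      intro heq
      subst heq
      have hMp : IsPGroup q M := by
        apply IsPGroup.of_card (n := b + a)
        rw [hcardM, hb, ha, pow_add]
      haveI : (N.subgroupOf M).Normal := Subgroup.normal_subgroupOf
      have hNM0 : N.subgroupOf M ≠ ⊥ := by
        intro h
        rw [Subgroup.subgroupOf_eq_bot, disjoint_iff, inf_eq_left.mpr hNM] at h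
        exact hN0 h
      obtain ⟨z, hzN, hz1, hzc⟩ :=
        Cfsg.Agent.Helper10.exists_ne_one_mem_inf_center hMp (N.subgroupOf M) hNM0
      have hK : N ⊓ Subgroup.centralizer (M : Set G) = N := by
        refine (hmin _ inferInstance inf_le_left).resolve_left ?_
        intro h
        have hz : (z : G) ∈ N ⊓ Subgroup.centralizer (M : Set G) := by
          refine ⟨hzN, ?_⟩
          change (z : G) ∈ Subgroup.centralizer (M : Set G)
          rw [Subgroup.mem_centralizer_iff]
          intro m hm
          have := Subgroup.mem_center_iff.mp hzc ⟨m, hm⟩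
          exact congrArg Subtype.val this
        rw [h, Subgroup.mem_bot] at hz
        exact hz1 (Subtype.ext hz)
      have hMN : M ≤ N := by
        rw [← hCN]
        intro m hm
        rw [Subgroup.mem_centralizer_iff]
        intro n hn
        have hn' : n ∈ Subgroup.centralizer (M : Set G) := by
          rw [← hK] at hn; exact hn.2
        exact ((Subgroup.mem_centralizer_iff.mp hn') m hm).symm
      have : M = N := le_antisymm hMN hNM
      rw [this, hb] at hcardM
      have hNpos : 0 < Nat.card N := Nat.card_pos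
      have h1 : q ^ b = 1 := by
        have : q ^ b * Nat.card N = 1 * Nat.card N := by rw [one_mul]; exact hcardM.symm
        exact Nat.eq_of_mul_eq_mul_right hNpos this
      have := Nat.one_lt_pow hb0 hq.one_lt
      omega
    have hX := card_inf_props U hU hUc N M hN0 hNU hNM
    have hX' := card_inf_props V hV hVc N M hN0 hNV hNM
    have hNpos : 0 < Nat.card N := Nat.card_pos
    have hcX : Nat.card (M ⊓ U : Subgroup G) = q ^ b := by
      apply Nat.eq_of_mul_eq_mul_left hNpos
      rw [hX, hcardM, hb, mul_comm]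
    have hcX' : Nat.card (M ⊓ V : Subgroup G) = q ^ b := by
      apply Nat.eq_of_mul_eq_mul_left hNpos
      rw [hX', hcardM, hb, mul_comm]
    have hXq : IsPGroup q (M ⊓ U : Subgroup G) := IsPGroup.of_card hcX
    have hidx : ¬ q ∣ (M ⊓ U).relIndex M := by
      have h1 : Nat.card (M ⊓ U : Subgroup G) * (M ⊓ U).relIndex M = Nat.card M := by
        have := Subgroup.relIndex_mul_relIndex (⊥ : Subgroup G) (M ⊓ U) M bot_le inf_le_left
        rwa [Subgroup.relIndex_bot_left, Subgroup.relIndex_bot_left] at this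
      have h2 : (M ⊓ U).relIndex M = Nat.card N := by
        have hXpos : 0 < Nat.card (M ⊓ U : Subgroup G) := Nat.card_pos
        apply Nat.eq_of_mul_eq_mul_left hXpos
        rw [h1, ← hX, mul_comm]
      rw [h2, ha]
      intro hdvd
      have := hq.dvd_of_dvd_pow hdvd
      exact hqp ((Nat.prime_dvd_prime_iff_eq hq hp).mp this)
    obtain ⟨k, hkM, hk⟩ := Cfsg.Agent.Helper19.exists_conj_eq_of_card_eq (K := M) (P := M ⊓ U)
      (Q := M ⊓ V) hXq inf_le_left inf_le_left hidx (hcX'.trans hcX.symm)
    have hk' : M ⊓ V = MulAut.conj k • (M ⊓ U) := hk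
    have hXne : M ⊓ U ≠ ⊥ := by
      intro h
      rw [h, Subgroup.card_bot] at hcX
      have := Nat.one_lt_pow hb0 hq.one_lt
      omega
    have hX'ne : M ⊓ V ≠ ⊥ := by
      intro h
      rw [h, Subgroup.card_bot] at hcX'
      have := Nat.one_lt_pow hb0 hq.one_lt
      omega
    have hNX := normalizer_inf_eq U hU hUc M hXne
    have hNX' := normalizer_inf_eq V hV hVc M hX'ne
    refine ⟨k, ?_⟩
    apply le_antisymm
    · have := conj_smul_normalizer_le k (M ⊓ U)
      rw [← hk', hNX, hNX'] at this
      exact this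
    · rw [Subgroup.subset_pointwise_smul_iff, ← map_inv]
      have := conj_smul_normalizer_le k⁻¹ (M ⊓ V)
      rw [hk', ← mul_smul, ← map_mul, inv_mul_cancel, map_one, one_smul, hNX] at this
      rw [← hk', hNX'] at this
      exact this

end Cfsg.Agent.S0551
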