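import Cfsg.Statements.S0553
import Mathlib
import Cfsg.Agent.Lead.HallPrep
import Cfsg.Agent.Helper3.ProdCard

set_option autoImplicit false
set_option linter.style.haveILetI false
open Cfsg

namespace Cfsg.Agent.S0553

universe u

/-- a normal `p`-subgroup lies in every Sylow `p`-subgroup -/
theorem normal_pgroup_le_sylow {G : Type*} [Group G] {p : ℕ} [Fact p.Prime] (N : Subgroup G)
    [N.Normal] (hN : IsPGroup p N) (P : Sylow p G) : N ≤ (P : Subgroup G) := by
  have h1 : IsPGroup p (N ⊔ (P : Subgroup G) : Subgroup G) :=
    IsPGroup.to_sup_of_normal_left hN P.isPGroup'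
  have h2 := P.is_maximal' h1 le_sup_right
  rw [← h2]; exact le_sup_left

theorem isCoatom_comap_mk' {G : Type*} [Group G] (N : Subgroup G) [N.Normal]
    (M' : Subgroup (G ⧸ N)) (hM' : IsCoatom M') : IsCoatom (M'.comap (QuotientGroup.mk' N)) := by
  have hsurj := QuotientGroup.mk'_surjective N
  constructor
  · intro htop
    apply hM'.1
    rw [← Subgroup.map_comap_eq_self_of_surjective hsurj M', htop,
      Subgroup.map_top_of_surjective _ hsurj]
  · intro K hK
    have hNK : N ≤ K := (QuotientGroup.le_comap_mk' N M').trans hK.le
    have hKK : (K.map (QuotientGroup.mk' N)).comap (QuotientGroup.mk' N) = K := by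
      rw [QuotientGroup.comap_map_mk', sup_eq_right.mpr hNK]
    have h1 : M' ≤ K.map (QuotientGroup.mk' N) := by
      rw [← Subgroup.map_comap_eq_self_of_surjective hsurj M']
      exact Subgroup.map_mono hK.le
    have h2 : M' ≠ K.map (QuotientGroup.mk' N) := by
      intro heq
      rw [heq, hKK] at hK
      exact lt_irrefl _ hK
    have h3 := hM'.2 _ (lt_of_le_of_ne h1 h2)
    rw [← hKK, h3, Subgroup.comap_top]

theorem aux : ∀ (n : ℕ) (G : Type u) [Group G] [Finite G] [Group.IsSolvable G] [Nontrivial G],
    Nat.card G = n → (∀ M : Subgroup G, IsCoatom M → (Nat.card M).Coprime M.index) →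
    ∃ p : ℕ, p.Prime ∧ p ∣ Nat.card G ∧ ∀ P : Sylow p G, (P : Subgroup G).Normal := by
  intro n
  induction n using Nat.strong_induction_on with
  | _ n ih =>
    intro G _ _ _ _ hn h
    obtain ⟨p, hp, N, hNn, hNp, hN0⟩ := Cfsg.Agent.Lead.exists_normal_pgroup_of_isSolvable (G := G)
    haveI : Fact p.Prime := ⟨hp⟩
    haveI := hNn
    have hpN : p ∣ Nat.card N := by
      obtain ⟨k, hk⟩ := IsPGroup.iff_card.mp hNp
      have hk0 : k ≠ 0 := by
        intro h0
        rw [h0, pow_zero] at hk
        exact hN0 (Subgroup.card_eq_one.mp hk)
      rw [hk]; exact dvd_pow_self p hk0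
    have hpG : p ∣ Nat.card G := hpN.trans (Subgroup.card_subgroup_dvd_card N)
    by_cases hA : ∃ M : Subgroup G, IsCoatom M ∧ ¬ N ≤ M
    · -- case A : `N` is the Sylow `p`-subgroup
      obtain ⟨M, hM, hNM⟩ := hA
      refine ⟨p, hp, hpG, ?_⟩
      intro P
      have hsup : N ⊔ M = ⊤ := by
        apply hM.2
        apply lt_of_le_of_ne le_sup_right
        intro heq
        apply hNM
        rw [heq]; exact le_sup_left
      have hidx : M.index * Nat.card (N ⊓ M : Subgroup G) = Nat.card N := by
        have h1 := Cfsg.Agent.Helper3.card_mul_set_mul_card_inf N M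
        rw [← Subgroup.normal_mul N M, hsup] at h1
        have h2 : Nat.card ((⊤ : Subgroup G) : Set G) = Nat.card G := by
          simp
        rw [h2, ← Subgroup.card_mul_index M] at h1
        have hMpos : 0 < Nat.card M := Nat.card_pos
        apply Nat.eq_of_mul_eq_mul_left hMpos
        calc Nat.card M * (M.index * Nat.card (N ⊓ M : Subgroup G))
            = Nat.card M * M.index * Nat.card (N ⊓ M : Subgroup G) := by ring
          _ = Nat.card N * Nat.card M := h1
          _ = Nat.card M * Nat.card N := by ring
      have hidx1 : M.index ≠ 1 := by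
        intro h1
        exact hM.1 (Subgroup.index_eq_one.mp h1)
      have hidxdvd : M.index ∣ Nat.card N := Dvd.intro _ hidx
      obtain ⟨k, hk⟩ := IsPGroup.iff_card.mp hNp
      have hpidx : p ∣ M.index := by
        rw [hk] at hidxdvd
        obtain ⟨j, -, hj⟩ := (Nat.dvd_prime_pow hp).mp hidxdvd
        have hj0 : j ≠ 0 := by
          intro h0; rw [h0, pow_zero] at hj; exact hidx1 hj
        rw [hj]; exact dvd_pow_self p hj0
      have hcop := h M hM
      have hpM : ¬ p ∣ Nat.card M := by
        intro hpM
        have := Nat.dvd_gcd hpM hpidx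
        rw [hcop] at this
        exact hp.one_lt.ne' (Nat.dvd_one.mp this)
      -- `N ⊓ M` is trivial
      have hNM1 : Nat.card (N ⊓ M : Subgroup G) = 1 := by
        have hd1 : Nat.card (N ⊓ M : Subgroup G) ∣ Nat.card N :=
          Subgroup.card_dvd_of_le inf_le_left
        have hd2 : Nat.card (N ⊓ M : Subgroup G) ∣ Nat.card M :=
          Subgroup.card_dvd_of_le inf_le_right
        rw [hk] at hd1
        obtain ⟨j, -, hj⟩ := (Nat.dvd_prime_pow hp).mp hd1
        by_contra hne
        have hj0 : j ≠ 0 := by
          intro h0; rw [h0, pow_zero] at hj; exact hne hj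
        apply hpM
        refine dvd_trans ?_ hd2
        rw [hj]; exact dvd_pow_self p hj0
      rw [hNM1, mul_one] at hidx
      -- `|G| = |M| * |N|`, so `|P| = |N|`
      have hcardG : Nat.card G = Nat.card M * Nat.card N := by
        rw [← Subgroup.card_mul_index M, hidx]
      have hNP : N ≤ (P : Subgroup G) := normal_pgroup_le_sylow N hNp P
      have hPcard : Nat.card (P : Subgroup G) = p ^ (Nat.card G).factorization p :=
        P.card_eq_multiplicity
      have hfac : (Nat.card G).factorization p = k := by
        rw [hcardG, Nat.factorization_mul Nat.card_pos.ne' Nat.card_pos.ne', hk]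
        simp [Nat.factorization_eq_zero_of_not_dvd hpM, hp.factorization_self]
      have hPN : (P : Subgroup G) = N := by
        symm
        apply Subgroup.eq_of_le_of_card_ge hNP
        rw [hPcard, hfac, hk]
      rw [hPN]; exact hNn
    · -- case B : every maximal subgroup contains `N`
      push Not at hA
      by_cases hNtop : N = ⊤
      · refine ⟨p, hp, hpG, ?_⟩
        intro P
        have hNP : N ≤ (P : Subgroup G) := normal_pgroup_le_sylow N hNp P
        rw [hNtop, top_le_iff] at hNP
        rw [hNP]; infer_instance
      · haveI : Nontrivial (G ⧸ N) := by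
          rw [← not_subsingleton_iff_nontrivial]
          intro hsub
          exact hNtop (QuotientGroup.subgroup_eq_top_of_subsingleton N hsub)
        have hcardQ : Nat.card (G ⧸ N) < n := by
          rw [← hn, ← Subgroup.index_eq_card, ← Subgroup.card_mul_index N]
          have h1 : 1 < Nat.card N := by
            rw [Subgroup.one_lt_card_iff_ne_bot]; exact hN0
          have h2 : 0 < N.index := Nat.pos_of_ne_zero Subgroup.index_ne_zero_of_finite
          nlinarith
        have hQ : ∀ M' : Subgroup (G ⧸ N), IsCoatom M' → (Nat.card M').Coprime M'.index := by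
          intro M' hM'
          have hco : IsCoatom (M'.comap (QuotientGroup.mk' N)) := isCoatom_comap_mk' N M' hM'
          have h1 := h _ hco
          rw [Subgroup.index_comap_of_surjective M' (QuotientGroup.mk'_surjective N),
            Cfsg.Agent.Lead.card_comap_mk'] at h1
          exact Nat.Coprime.coprime_mul_right h1
        obtain ⟨q, hq, hqQ, hqn⟩ := ih _ hcardQ (G ⧸ N) rfl hQ
        haveI : Fact q.Prime := ⟨hq⟩
        have hqG : q ∣ Nat.card G := by
          rw [← Subgroup.index_eq_card] at hqQ
          exact hqQ.trans (Subgroup.index_dvd_card N)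
        refine ⟨q, hq, hqG, ?_⟩
        intro S
        have hSn := hqn (S.mapSurjective (QuotientGroup.mk'_surjective N))
        rw [Sylow.coe_mapSurjective] at hSn
        haveI hKn : (N ⊔ (S : Subgroup G)).Normal := by
          rw [← QuotientGroup.comap_map_mk']
          exact Subgroup.Normal.comap hSn _
        have hfr := Sylow.normalizer_sup_eq_top' S (le_sup_right : (S : Subgroup G) ≤ N ⊔ S)
        have hfr2 : Subgroup.normalizer ((S : Subgroup G) : Set G) ⊔ N = ⊤ := by
          rw [eq_top_iff, ← hfr]
          apply sup_le le_sup_left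
          apply sup_le le_sup_right
          exact Subgroup.le_normalizer.trans le_sup_left
        have hnorm : Subgroup.normalizer ((S : Subgroup G) : Set G) = ⊤ := by
          by_contra hne
          obtain ⟨M, hM, hle⟩ := (eq_top_or_exists_le_coatom _).resolve_left hne
          have hNM := hA M hM
          have : (⊤ : Subgroup G) ≤ M := by
            rw [← hfr2]; exact sup_le hle hNM
          exact hM.1 (top_le_iff.mp this)
        exact Subgroup.normalizer_eq_top_iff.mp hnorm

/-- Let G be a nontrivial finite solvable group in which every maximal subgroup has order coprime to its index. Then for some prime p dividing the order of G the Sylow p-subgroups of G are normal. -/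
theorem result {G : Type*} [Group G] [Finite G] [Group.IsSolvable G] [Nontrivial G] (h : ∀ M : Subgroup G, IsCoatom M → (Nat.card M).Coprime M.index) : ∃ p : ℕ, p.Prime ∧ p ∣ Nat.card G ∧ ∀ P : Sylow p G, (P : Subgroup G).Normal := by
  exact aux _ G rfl h

end Cfsg.Agent.S0553
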