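import Cfsg.Statements.S0554
import Mathlib
import Cfsg.Agent.Lead.HallPrep

set_option autoImplicit false
set_option linter.style.haveILetI false
open Cfsg

namespace Cfsg.Agent.S0554

open scoped Pointwise

universe u

/-- a normal `p`-subgroup lies in every Sylow `p`-subgroup -/
theorem normal_pgroup_le_sylow {G : Type*} [Group G] {p : ℕ} [Fact p.Prime] (N : Subgroup G)
    [N.Normal] (hN : IsPGroup p N) (P : Sylow p G) : N ≤ (P : Subgroup G) := by
  have h1 : IsPGroup p (N ⊔ (P : Subgroup G) : Subgroup G) :=
    IsPGroup.to_sup_of_normal_left hN P.isPGroup'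
  have h2 := P.is_maximal' h1 le_sup_right
  rw [← h2]; exact le_sup_left

theorem set_mul_normal_comm {G : Type*} [Group G] (N : Subgroup G) [hN : N.Normal] (T : Set G) :
    T * (N : Set G) = (N : Set G) * T := by
  ext x
  constructor
  · rintro ⟨t, ht, n, hn, rfl⟩
    refine ⟨t * n * t⁻¹, hN.conj_mem n hn t, t, ht, by group⟩
  · rintro ⟨n, hn, t, ht, rfl⟩
    refine ⟨t, ht, t⁻¹ * n * t, ?_, by group⟩
    have := hN.conj_mem n hn t⁻¹
    simpa using this

theorem list_prod_mul_normal {G : Type*} [Group G] (N : Subgroup G) [N.Normal] (X : Set G)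
    (hXN : X * (N : Set G) ⊆ X) :
    ∀ l : List (Set G), X ∈ l → l.prod * (N : Set G) ⊆ l.prod := by
  intro l
  induction l with
  | nil => intro h; simp at h
  | cons Y l ih =>
    intro hX
    rw [List.prod_cons, mul_assoc]
    rcases List.mem_cons.mp hX with h | h
    · subst h
      rw [set_mul_normal_comm N, ← mul_assoc]
      exact Set.mul_subset_mul_right hXN
    · exact Set.mul_subset_mul_left (ih h)

theorem aux (t : ℕ) (p : Fin t → ℕ) (hp : ∀ i, (p i).Prime) :
    ∀ (n : ℕ) (G : Type u) [Group G] [Finite G] [Group.IsSolvable G], Nat.card G = n →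
    (∀ q : ℕ, q.Prime → q ∣ Nat.card G → ∃ i, p i = q) → ∀ (S : (i : Fin t) → Sylow (p i) G),
    (List.ofFn fun i => ((S i : Subgroup G) : Set G)).prod = Set.univ := by
  haveI : ∀ i, Fact (p i).Prime := fun i => ⟨hp i⟩
  intro n
  induction n using Nat.strong_induction_on with
  | _ n ih =>
    intro G _ _ _ hn hall S
    rcases subsingleton_or_nontrivial G with hsub | hnt
    · rw [Set.eq_univ_iff_forall]
      intro g
      rw [Set.mem_prod_list_ofFn]
      refine ⟨fun i => ⟨1, Subgroup.one_mem _⟩, ?_⟩
      exact Subsingleton.elim _ _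
    · obtain ⟨r, hr, N, hNn, hNr, hN0⟩ :=
        Cfsg.Agent.Lead.exists_normal_pgroup_of_isSolvable (G := G)
      haveI := hNn
      haveI : Fact r.Prime := ⟨hr⟩
      have hrG : r ∣ Nat.card G := by
        obtain ⟨k, hk⟩ := IsPGroup.iff_card.mp hNr
        have hk0 : k ≠ 0 := by
          intro h0
          rw [h0, pow_zero] at hk
          exact hN0 (Subgroup.card_eq_one.mp hk)
        have : r ∣ Nat.card N := by rw [hk]; exact dvd_pow_self r hk0
        exact this.trans (Subgroup.card_subgroup_dvd_card N)
      obtain ⟨j, hj⟩ := hall r hr hrG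
      subst hj
      have hNS : N ≤ (S j : Subgroup G) := normal_pgroup_le_sylow N hNr (S j)
      have hcard : Nat.card (G ⧸ N) < n := by
        rw [← hn, ← Subgroup.index_eq_card, ← Subgroup.card_mul_index N]
        have h1 : 1 < Nat.card N := by
          rw [Subgroup.one_lt_card_iff_ne_bot]; exact hN0
        have h2 : 0 < N.index := Nat.pos_of_ne_zero Subgroup.index_ne_zero_of_finite
        nlinarith
      have hall' : ∀ q : ℕ, q.Prime → q ∣ Nat.card (G ⧸ N) → ∃ i, p i = q := by
        intro q hq hqd
        apply hall q hq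
        rw [← Subgroup.index_eq_card] at hqd
        exact hqd.trans (Subgroup.index_dvd_card N)
      have hIH := ih _ hcard (G ⧸ N) rfl hall'
        (fun i => (S i).mapSurjective (QuotientGroup.mk'_surjective N))
      have himg : (QuotientGroup.mk' N : G → G ⧸ N) ''
          (List.ofFn fun i => ((S i : Subgroup G) : Set G)).prod = Set.univ := by
        rw [Set.image_list_prod, List.map_ofFn, ← hIH]
        congr 2
      rw [Set.eq_univ_iff_forall]
      intro g
      have hg : (QuotientGroup.mk' N) g ∈ (QuotientGroup.mk' N : G → G ⧸ N) ''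
          (List.ofFn fun i => ((S i : Subgroup G) : Set G)).prod := by
        rw [himg]; trivial
      obtain ⟨x, hx, hxg⟩ := hg
      have hmem : x⁻¹ * g ∈ N := by
        rw [← QuotientGroup.eq_one_iff, QuotientGroup.mk_mul, QuotientGroup.mk_inv]
        change ((QuotientGroup.mk' N) x)⁻¹ * (QuotientGroup.mk' N) g = 1
        rw [hxg, inv_mul_cancel]
      have hXN : ((S j : Subgroup G) : Set G) * (N : Set G) ⊆ ((S j : Subgroup G) : Set G) := by
        rintro _ ⟨a, ha, b, hb, rfl⟩
        exact (S j : Subgroup G).mul_mem ha (hNS hb)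
      apply list_prod_mul_normal N _ hXN _ (List.mem_ofFn.mpr ⟨j, rfl⟩)
      exact ⟨x, hx, x⁻¹ * g, hmem, by group⟩

/-- Let G be a finite solvable group and let S assign to each of t distinct primes, including every prime divisor of the order of G, a Sylow subgroup of G. Then every element of G is a product s_0 s_1 ⋯ s_(t-1) with s_i in S i, the factors taken in the given order. -/
theorem result {G : Type*} [Group G] [Finite G] [Group.IsSolvable G] (t : ℕ) (p : Fin t → ℕ) (hp : ∀ i, (p i).Prime) (hinj : Function.Injective p) (hall : ∀ q : ℕ, q.Prime → q ∣ Nat.card G → ∃ i, p i = q) (S : (i : Fin t) → Sylow (p i) G) : ∀ g : G, ∃ s : (i : Fin t) → G, (∀ i, s i ∈ (S i : Subgroup G)) ∧ g = (List.ofFn s).prod := by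
  intro g
  have h := aux t p hp _ G rfl hall S
  have hg : g ∈ (List.ofFn fun i => ((S i : Subgroup G) : Set G)).prod := by rw [h]; trivial
  rw [Set.mem_prod_list_ofFn] at hg
  obtain ⟨f, hf⟩ := hg
  exact ⟨fun i => (f i : G), fun i => (f i).2, hf.symm⟩

end Cfsg.Agent.S0554
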