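import Cfsg.Statements.S0555
import Mathlib

set_option autoImplicit false
open Cfsg
open scoped commutatorElement

namespace Cfsg.Agent.S0555

variable {G : Type*} [Group G]

theorem exists_gen_mod (E N : Subgroup G) [N.Normal]
    (h : IsCyclic (↥E ⧸ N.subgroupOf E)) :
    ∃ x ∈ E, ∀ y ∈ E, ∃ k : ℤ, (QuotientGroup.mk' N) y = ((QuotientGroup.mk' N) x) ^ k := by
  obtain ⟨g, hg⟩ := IsCyclic.exists_generator (α := ↥E ⧸ N.subgroupOf E)
  obtain ⟨x, rfl⟩ := QuotientGroup.mk_surjective g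
  refine ⟨x, x.2, fun y hy => ?_⟩
  obtain ⟨k, hk⟩ := Subgroup.mem_zpowers_iff.mp (hg (QuotientGroup.mk ⟨y, hy⟩))
  refine ⟨k, ?_⟩
  rw [← QuotientGroup.mk_zpow, QuotientGroup.eq, Subgroup.mem_subgroupOf] at hk
  have hk' : ((x : G) ^ k)⁻¹ * y ∈ N := by simpa using hk
  symm
  rw [← map_zpow]
  exact (QuotientGroup.eq).mpr hk'

theorem comm_of_conj_pow {Q : Type*} [Group Q] (p q X : Q) (a b : ℤ) (ha : p * X * p⁻¹ = X ^ a)
    (hb : q * X * q⁻¹ = X ^ b) : ((q * p)⁻¹ * (p * q)) * X = X * ((q * p)⁻¹ * (p * q)) := by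
  have e1 : p * q * X * (p * q)⁻¹ = X ^ (a * b) := by
    calc p * q * X * (p * q)⁻¹ = p * (q * X * q⁻¹) * p⁻¹ := by group
      _ = p * X ^ b * p⁻¹ := by rw [hb]
      _ = (p * X * p⁻¹) ^ b := by rw [conj_zpow]
      _ = X ^ (a * b) := by rw [ha, zpow_mul]
  have e2 : q * p * X * (q * p)⁻¹ = X ^ (a * b) := by
    calc q * p * X * (q * p)⁻¹ = q * (p * X * p⁻¹) * q⁻¹ := by group
      _ = q * X ^ a * q⁻¹ := by rw [ha]
      _ = (q * X * q⁻¹) ^ a := by rw [conj_zpow]
      _ = X ^ (a * b) := by rw [hb, mul_comm, zpow_mul]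
  have e3 := e1.trans e2.symm
  calc ((q * p)⁻¹ * (p * q)) * X = (q * p)⁻¹ * (p * q * X * (p * q)⁻¹) * (p * q) := by group
    _ = (q * p)⁻¹ * (q * p * X * (q * p)⁻¹) * (p * q) := by rw [e3]
    _ = X * ((q * p)⁻¹ * (p * q)) := by group

/-- Let i ≥ 1. If in the derived series of a group the quotient of the i-th term by the (i+1)-st and the quotient of the (i+1)-st by the (i+2)-nd are both cyclic, then the (i+1)-st and (i+2)-nd terms coincide. -/
theorem result {G : Type*} [Group G] (i : ℕ) (hi : 1 ≤ i) (h₁ : IsCyclic (↥(derivedSeries G i) ⧸ (derivedSeries G (i + 1)).subgroupOf (derivedSeries G i))) (h₂ : IsCyclic (↥(derivedSeries G (i + 1)) ⧸ (derivedSeries G (i + 2)).subgroupOf (derivedSeries G (i + 1)))) : derivedSeries G (i + 1) = derivedSeries G (i + 2) := by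
  set D := derivedSeries G i with hD
  set E := derivedSeries G (i + 1) with hE
  set N := derivedSeries G (i + 2) with hN
  have hED : E = ⁅D, D⁆ := derivedSeries_succ G i
  have hNE : N = ⁅E, E⁆ := derivedSeries_succ G (i + 1)
  have hNleE : N ≤ E := derivedSeries_antitone G (by omega)
  have hEleD : E ≤ D := derivedSeries_antitone G (by omega)
  have hD1 : D ≤ commutator G := by
    rw [← derivedSeries_one]
    exact derivedSeries_antitone G hi
  apply le_antisymm _ hNleE
  let π := QuotientGroup.mk' N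
  obtain ⟨x, hxE, hx⟩ := exists_gen_mod E N h₂
  obtain ⟨w, hwD, hw⟩ := exists_gen_mod D E h₁
  -- Claim 1: commutator Q ≤ centralizer {π x}
  have hconj : ∀ g : G, ∃ a : ℤ, π g * π x * (π g)⁻¹ = (π x) ^ a := by
    intro g
    have : g * x * g⁻¹ ∈ E := (derivedSeries_normal G (i + 1)).conj_mem x hxE g
    obtain ⟨a, ha⟩ := hx _ this
    refine ⟨a, ?_⟩
    rw [← ha]; simp [π]
  have hcomm : commutator (G ⧸ N) ≤ Subgroup.centralizer {π x} := by
    rw [commutator_eq_closure, Subgroup.closure_le]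
    rintro _ ⟨g', h', rfl⟩
    obtain ⟨g, rfl⟩ := QuotientGroup.mk'_surjective N g'
    obtain ⟨h, rfl⟩ := QuotientGroup.mk'_surjective N h'
    obtain ⟨a, ha⟩ := hconj g⁻¹
    obtain ⟨b, hb⟩ := hconj h⁻¹
    rw [SetLike.mem_coe, Subgroup.mem_centralizer_iff]
    intro y hy
    rw [Set.mem_singleton_iff] at hy
    subst hy
    have key := comm_of_conj_pow (π g⁻¹) (π h⁻¹) (π x) a b ha hb
    have e4 : ⁅π g, π h⁆ = (π h⁻¹ * π g⁻¹)⁻¹ * (π g⁻¹ * π h⁻¹) := by
      rw [map_inv, map_inv, commutatorElement_def]; group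
    rw [e4]
    exact key.symm
  -- Claim 2 : π(D) centralizes π(E)
  have hDcent : ∀ d ∈ D, ∀ e ∈ E, π d * π e = π e * π d := by
    intro d hd e he
    have h1 : π d ∈ Subgroup.centralizer {π x} := by
      apply hcomm
      have : π d ∈ (commutator G).map π := ⟨d, hD1 hd, rfl⟩
      rw [commutator_def, Subgroup.map_commutator] at this
      exact Subgroup.commutator_mono le_top le_top this
    obtain ⟨k, hk⟩ := hx e he
    rw [hk]
    rw [Subgroup.mem_centralizer_iff] at h1
    have h2 : Commute (π x) (π d) := h1 (π x) rfl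
    exact ((h2.zpow_left k).eq).symm
  -- Claim 3 : π(D) is commutative
  have hDcomm : ∀ u ∈ D, ∀ v ∈ D, π u * π v = π v * π u := by
    intro u hu v hv
    obtain ⟨k, hk⟩ := hw u hu
    obtain ⟨l, hl⟩ := hw v hv
    -- u = w^k * a with a ∈ E
    have hk' : (w ^ k)⁻¹ * u ∈ E := by
      have := (QuotientGroup.eq (s := E)).mp (show ((w ^ k : G) : G ⧸ E) = (u : G ⧸ E) by
        rw [QuotientGroup.mk_zpow]; exact hk.symm)
      exact this
    have hl' : (w ^ l)⁻¹ * v ∈ E := by
      have := (QuotientGroup.eq (s := E)).mp (show ((w ^ l : G) : G ⧸ E) = (v : G ⧸ E) by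
        rw [QuotientGroup.mk_zpow]; exact hl.symm)
      exact this
    set a := (w ^ k)⁻¹ * u with ha
    set a' := (w ^ l)⁻¹ * v with ha'
    have hu' : u = w ^ k * a := by rw [ha]; simp
    have hv' : v = w ^ l * a' := by rw [ha']; simp
    have hwk : w ^ k ∈ D := D.zpow_mem hwD k
    have hwl : w ^ l ∈ D := D.zpow_mem hwD l
    have c1 := hDcent (w ^ l) hwl a hk'
    have c2 := hDcent (w ^ k) hwk a' hl'
    have c3 := hDcent a (hEleD hk') a' hl'
    have c4 : π (w ^ k) * π (w ^ l) = π (w ^ l) * π (w ^ k) := by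
      rw [map_zpow, map_zpow]
      exact ((Commute.refl (π w)).zpow_zpow k l).eq
    rw [hu', hv', map_mul, map_mul]
    calc π (w ^ k) * π a * (π (w ^ l) * π a')
        = π (w ^ k) * (π a * π (w ^ l)) * π a' := by simp only [mul_assoc]
      _ = π (w ^ k) * (π (w ^ l) * π a) * π a' := by rw [c1]
      _ = (π (w ^ k) * π (w ^ l)) * (π a * π a') := by simp only [mul_assoc]
      _ = (π (w ^ l) * π (w ^ k)) * (π a' * π a) := by rw [c4, c3]
      _ = π (w ^ l) * (π (w ^ k) * π a') * π a := by simp only [mul_assoc]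
      _ = π (w ^ l) * (π a' * π (w ^ k)) * π a := by rw [c2]
      _ = π (w ^ l) * π a' * (π (w ^ k) * π a) := by simp only [mul_assoc]
  -- Claim 4
  have hEker : E ≤ π.ker := by
    rw [hED, Subgroup.commutator_le]
    intro u hu v hv
    rw [MonoidHom.mem_ker, map_commutatorElement, commutatorElement_eq_one_iff_mul_comm]
    exact hDcomm u hu v hv
  rwa [QuotientGroup.ker_mk'] at hEker

end Cfsg.Agent.S0555
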