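import Cfsg.Statements.S0557

set_option autoImplicit false
open Cfsg

namespace Cfsg.Agent.S0557

open Subgroup
open scoped commutatorElement

theorem focal_mono {G : Type*} [Group G] {A B : Subgroup G} (h : A ≤ B) :
    A.focalSubgroup ≤ B.focalSubgroup := by
  rw [focalSubgroup_def, focalSubgroup_def]
  apply closure_mono
  rintro g ⟨hg, x, hx, u, rfl⟩
  exact ⟨h hg, x, h hx, u, rfl⟩

theorem focal_map_le {G : Type*} [Group G] (K : Subgroup G) (A : Subgroup K) :
    (A.focalSubgroup).map K.subtype ≤ (A.map K.subtype).focalSubgroup := by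
  rw [focalSubgroup_def, MonoidHom.map_closure, focalSubgroup_def]
  apply closure_mono
  rintro _ ⟨g, ⟨hg, x, hx, u, rfl⟩, rfl⟩
  refine ⟨mem_map_of_mem _ hg, x, mem_map_of_mem _ hx, u, ?_⟩
  simp [commutatorElement_def]

theorem iterate_focal_map_le {G : Type*} [Group G] (K : Subgroup G) (A : Subgroup K) (n : ℕ) :
    ((fun L : Subgroup K => L.focalSubgroup)^[n] A).map K.subtype ≤
      (fun L : Subgroup G => L.focalSubgroup)^[n] (A.map K.subtype) := by
  induction n generalizing A with
  | zero => simp
  | succ n ih =>
    rw [Function.iterate_succ_apply, Function.iterate_succ_apply]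
    refine (ih _).trans ?_
    exact Monotone.iterate (fun _ _ h => focal_mono h) n (focal_map_le K A)

/-- A normal Hall subgroup `N` of a normal subgroup `K` of `G` is normal in `G`. -/
theorem map_normal_of_hall {G : Type*} [Group G] [Finite G] (K : Subgroup G) [K.Normal]
    (N : Subgroup K) [N.Normal] (hN : (Nat.card N).Coprime N.index) :
    (N.map K.subtype).Normal := by
  constructor
  rintro _ ⟨x, hx, rfl⟩ g
  have hK : g * (x : G) * g⁻¹ ∈ K := ‹K.Normal›.conj_mem _ x.2 g
  refine ⟨⟨_, hK⟩, ?_, rfl⟩
  set y : K := ⟨_, hK⟩ with hy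
  have hord : orderOf y = orderOf x := by
    rw [← Subgroup.orderOf_coe y, ← Subgroup.orderOf_coe x, hy]
    simp only
    exact (SemiconjBy.orderOf_eq g (x := (x : G)) (y := g * (x : G) * g⁻¹)
      (by simp [SemiconjBy])).symm
  have h1 : orderOf (y : K ⧸ N) ∣ Nat.card N := by
    have h2 : orderOf (y : K ⧸ N) ∣ orderOf y := orderOf_map_dvd (QuotientGroup.mk' N) y
    have h3 : orderOf (⟨x, hx⟩ : N) ∣ Nat.card N := orderOf_dvd_natCard _
    rw [← Subgroup.orderOf_coe] at h3
    simp only at h3
    rw [hord] at h2
    exact h2.trans h3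
  have h2 : orderOf (y : K ⧸ N) ∣ N.index := by
    rw [Subgroup.index_eq_card]
    exact orderOf_dvd_natCard _
  have h3 : orderOf (y : K ⧸ N) = 1 := Nat.eq_one_of_dvd_coprimes hN h1 h2
  rw [orderOf_eq_one_iff, QuotientGroup.eq_one_iff] at h3
  exact h3

theorem main (n : ℕ) : ∀ {G : Type*} [Group G] [Finite G] (H : Subgroup G)
    (hHall : (Nat.card H).Coprime H.index)
    (hfoc : (fun K : Subgroup G => Subgroup.focalSubgroup K)^[n] H = ⊥),
    ∃ N : Subgroup G, N.Normal ∧ Subgroup.IsComplement' N H := by
  induction n with
  | zero =>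
    intro G _ _ H _ hfoc
    simp only [Function.iterate_zero, id_eq] at hfoc
    subst hfoc
    exact ⟨⊤, inferInstance, isComplement'_top_bot⟩
  | succ n ih =>
    intro G _ _ H hHall hfoc
    rw [Function.iterate_succ_apply] at hfoc
    -- the quotient Q = H / H*
    set F : Subgroup G := H.focalSubgroup with hF
    have hFH : F ≤ H := H.focalSubgroup_le
    have hcardH : Nat.card H = Nat.card (H ⧸ H.focalSubgroupOf) * Nat.card H.focalSubgroupOf :=
      Subgroup.card_eq_card_quotient_mul_card_subgroup _
    have hcardF : Nat.card H.focalSubgroupOf = Nat.card F :=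
      Nat.card_congr (Subgroup.subgroupOfEquivOfLe hFH).toEquiv
    have hQcop : (Nat.card (H ⧸ H.focalSubgroupOf)).Coprime H.index :=
      Nat.Coprime.coprime_dvd_left (Dvd.intro _ hcardH.symm) hHall
    -- the transfer
    set V : G →* H ⧸ H.focalSubgroupOf := H.transferFocal with hV
    have hVpow : ∀ x : H, V x = (x : H ⧸ H.focalSubgroupOf) ^ H.index := H.transferFocal_eq_pow
    have hsurj : Function.Surjective V := by
      intro q
      obtain ⟨y, rfl⟩ := (powCoprime hQcop).surjective q
      obtain ⟨x, rfl⟩ := QuotientGroup.mk_surjective y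
      exact ⟨x, by rw [hVpow]; rfl⟩
    set K : Subgroup G := V.ker with hK
    have hFK : F ≤ K := by
      intro x hx
      rw [hK, MonoidHom.mem_ker]
      have := hVpow ⟨x, hFH hx⟩
      rw [this]
      have hx' : ((⟨x, hFH hx⟩ : H) : H ⧸ H.focalSubgroupOf) = 1 := by
        rw [QuotientGroup.eq_one_iff, focalSubgroupOf_def, mem_subgroupOf]
        exact hx
      rw [hx', one_pow]
    have hcardG : Nat.card G = Nat.card (H ⧸ H.focalSubgroupOf) * Nat.card K := by
      rw [Subgroup.card_eq_card_quotient_mul_card_subgroup K]
      congr 1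
      exact Nat.card_congr (QuotientGroup.quotientKerEquivOfSurjective V hsurj).toEquiv
    have hcardK : Nat.card K = Nat.card F * H.index := by
      have h1 : Nat.card G = Nat.card H * H.index := (Subgroup.card_mul_index H).symm
      rw [hcardG, hcardH, hcardF, mul_assoc] at h1
      exact Nat.eq_of_mul_eq_mul_left Nat.card_pos h1
    -- the Hall subgroup of K
    set H' : Subgroup K := F.subgroupOf K with hH'
    have hmapH' : H'.map K.subtype = F := Subgroup.map_subgroupOf_eq_of_le hFK
    have hcardH' : Nat.card H' = Nat.card F := by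
      rw [← Subgroup.card_subtype K H', hmapH']
    have hidxH' : H'.index = H.index := by
      have h1 : Nat.card H' * H'.index = Nat.card K := Subgroup.card_mul_index H'
      rw [hcardH', hcardK] at h1
      exact Nat.eq_of_mul_eq_mul_left Nat.card_pos h1
    have hHall' : (Nat.card H').Coprime H'.index := by
      rw [hcardH', hidxH']
      refine Nat.Coprime.coprime_dvd_left ?_ hHall
      exact Subgroup.card_dvd_of_le hFH
    have hfoc' : (fun L : Subgroup K => Subgroup.focalSubgroup L)^[n] H' = ⊥ := by
      have h1 := iterate_focal_map_le K H' n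
      rw [hmapH', hfoc, le_bot_iff] at h1
      exact (Subgroup.map_eq_bot_iff_of_injective _ K.subtype_injective).mp h1
    obtain ⟨N, hNn, hNc⟩ := ih H' hHall' hfoc'
    have hcardN : Nat.card N = H.index := by
      have h1 := hNc.card_mul_card
      rw [hcardH', hcardK, mul_comm] at h1
      exact Nat.eq_of_mul_eq_mul_left Nat.card_pos h1
    have hidxN : N.index = Nat.card F := by
      have h1 : Nat.card N * N.index = Nat.card K := Subgroup.card_mul_index N
      rw [hcardN, hcardK, mul_comm] at h1
      exact Nat.eq_of_mul_eq_mul_right (Nat.pos_of_ne_zero (Subgroup.index_ne_zero_of_finite)) h1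
    have hNhall : (Nat.card N).Coprime N.index := by
      rw [hcardN, hidxN]
      exact (Nat.Coprime.coprime_dvd_left (Subgroup.card_dvd_of_le hFH) hHall).symm
    have hKn : K.Normal := MonoidHom.normal_ker V
    refine ⟨N.map K.subtype, map_normal_of_hall K N hNhall, ?_⟩
    apply isComplement'_of_coprime
    · rw [Subgroup.card_subtype, hcardN, mul_comm]
      exact Subgroup.card_mul_index H
    · rw [Subgroup.card_subtype, hcardN]
      exact hHall.symm

/-- Let H be a subgroup of a finite group G with order coprime to its index. If iterating the focal-subgroup construction starting from H reaches the trivial subgroup after finitely many steps, then H has a normal complement in G. -/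
theorem result {G : Type*} [Group G] [Finite G] (H : Subgroup G) (hHall : (Nat.card H).Coprime H.index) (n : ℕ) (hfoc : (fun K : Subgroup G => Subgroup.focalSubgroup K)^[n] H = ⊥) : ∃ N : Subgroup G, N.Normal ∧ Subgroup.IsComplement' N H :=
  main n H hHall hfoc

end Cfsg.Agent.S0557
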