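import Cfsg.Statements.S0563
import Cfsg.Agent.Helper29.KWMain
-- import your own Cfsg.Agent.* helpers here

set_option autoImplicit false
open Pointwise
open Cfsg

namespace Cfsg.Agent.S0563

theorem sylow_map_hall {G : Type*} [Group G] [Finite G] {A : Subgroup G}
    (hHall : (Nat.card A).Coprime A.index) {p : ℕ} [Fact p.Prime] (P : Sylow p A) :
    (Nat.card ((P : Subgroup A).map A.subtype : Subgroup G)).Coprime
      ((P : Subgroup A).map A.subtype : Subgroup G).index := by
  rw [Subgroup.card_map_of_injective A.subtype_injective, Subgroup.index_map_subtype]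
  exact Nat.Coprime.mul_right P.card_coprime_index
    (Nat.Coprime.coprime_dvd_left (Subgroup.card_subgroup_dvd_card _) hHall)

theorem sylow_map_conj {G : Type*} [Group G] [Finite G] {A : Subgroup G}
    (hA : Group.IsNilpotent A) {p : ℕ} [Fact p.Prime] (P : Sylow p A) :
    ∀ h ∈ A, ∀ a ∈ ((P : Subgroup A).map A.subtype : Subgroup G),
      h * a * h⁻¹ ∈ ((P : Subgroup A).map A.subtype : Subgroup G) := by
  have hPn : (P : Subgroup A).Normal := inferInstance
  rintro h hh _ ⟨x, hx, rfl⟩
  exact ⟨⟨h, hh⟩ * x * ⟨h, hh⟩⁻¹, hPn.conj_mem x hx ⟨h, hh⟩, rfl⟩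

/-- If a finite group G is the product AB of two nilpotent subgroups of coprime orders, then G is solvable, and for every Sylow p-subgroup P of A and Sylow q-subgroup Q of B the product set PQ is a subgroup. -/
theorem result {G : Type*} [Group G] [Finite G] (A B : Subgroup G) (hA : Group.IsNilpotent A) (hB : Group.IsNilpotent B) (hcop : (Nat.card A).Coprime (Nat.card B)) (hAB : ∀ g : G, ∃ a ∈ A, ∃ b ∈ B, g = a * b) : Group.IsSolvable G ∧ ∀ (p q : ℕ) [Fact p.Prime] [Fact q.Prime] (P : Sylow p A) (Q : Sylow q B), ∃ S : Subgroup G, (S : Set G) = (((P : Subgroup A).map A.subtype : Subgroup G) : Set G) * (((Q : Subgroup B).map B.subtype : Subgroup G) : Set G) := by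
  have h : Cfsg.Agent.Helper29.KW.Setup A B := ⟨hA, hB, hcop, hAB⟩
  have hsolv : Group.IsSolvable G := Cfsg.Agent.Helper29.KW.coprime_solvable h
  refine ⟨hsolv, ?_⟩
  intro p q _ _ P Q
  exact Cfsg.Agent.S0561.prod_hall_subgroup A B _ _ hAB (sylow_map_conj hA P)
    (sylow_map_conj hB Q) (sylow_map_hall h.hall P) (sylow_map_hall h.symm.hall Q)

end Cfsg.Agent.S0563
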