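import Cfsg.Statements.S0567
import Cfsg.Agent.Helper3.Conj

set_option autoImplicit false
open Cfsg
open scoped Pointwise commutatorElement
open Cfsg.Agent.Helper3

namespace Cfsg.Agent.S0567

variable {G : Type*} [Group G]

/-- iterated commutator `[G, H, ..., H]` -/
def iter (H : Subgroup G) (m : ℕ) : Subgroup G := (fun K : Subgroup G => ⁅K, H⁆)^[m] ⊤

theorem iter_succ (H : Subgroup G) (m : ℕ) : iter H (m + 1) = ⁅iter H m, H⁆ := by
  unfold iter
  rw [Function.iterate_succ_apply']

theorem iter_mono {H K : Subgroup G} (h : H ≤ K) (m : ℕ) : iter H m ≤ iter K m := by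
  induction m with
  | zero => exact le_rfl
  | succ m ih =>
    rw [iter_succ, iter_succ]
    exact Subgroup.commutator_mono ih h

theorem H_le_normalizer_iter (H : Subgroup G) (m : ℕ) :
    H ≤ Subgroup.normalizer (iter H m : Set G) := by
  induction m with
  | zero =>
    intro x _
    show x ∈ Subgroup.normalizer ((⊤ : Subgroup G) : Set G)
    rw [Subgroup.normalizer_eq_top]; trivial
  | succ m ih =>
    rw [iter_succ]
    exact Subgroup.normalizer_commutator_ge_right _ _

theorem forward {H : Subgroup G} (hH : H.IsSubnormal) : ∃ m, iter H m ≤ H := by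
  induction hH with
  | top => exact ⟨0, le_top⟩
  | step H K hHK hK hN ih =>
    obtain ⟨m, hm⟩ := ih
    refine ⟨m + 1, ?_⟩
    rw [iter_succ]
    have h1 : iter H m ≤ K := (iter_mono hHK m).trans hm
    have h2 : K ≤ Subgroup.normalizer (H : Set G) :=
      (Subgroup.normal_subgroupOf_iff_le_normalizer hHK).mp hN
    calc ⁅iter H m, H⁆ ≤ ⁅K, H⁆ := Subgroup.commutator_mono h1 le_rfl
      _ ≤ H := Subgroup.le_normalizer_iff_commutator_le_right.mp h2

theorem le_normalizer_of_conj_le (K X : Subgroup G)
    (h : ∀ g ∈ K, MulAut.conj g • X ≤ X) : K ≤ Subgroup.normalizer (X : Set G) := by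
  intro g hg
  rw [← conj_smul_eq_iff_mem_normalizer]
  apply le_antisymm (h g hg)
  have := h g⁻¹ (K.inv_mem hg)
  rw [Subgroup.pointwise_smul_subset_iff, ← map_inv, inv_inv] at this
  exact this

theorem chain_subnormal (H : Subgroup G) (m : ℕ) : (H ⊔ iter H m).IsSubnormal := by
  induction m with
  | zero =>
    have : H ⊔ iter H 0 = ⊤ := by
      show H ⊔ ⊤ = ⊤
      simp
    rw [this]; exact Subgroup.IsSubnormal.top
  | succ m ih =>
    have hle : H ⊔ iter H (m + 1) ≤ H ⊔ iter H m := by
      rw [iter_succ]
      apply sup_le le_sup_left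
      rw [sup_comm]
      exact Subgroup.commutator_le_sup (iter H m) H
    refine Subgroup.IsSubnormal.step _ _ hle ih ?_
    rw [Subgroup.normal_subgroupOf_iff_le_normalizer hle]
    apply sup_le
    · -- H normalizes H ⊔ iter (m+1)
      intro x hx
      have h1 : x ∈ Subgroup.normalizer (H : Set G) := Subgroup.le_normalizer hx
      have h2 : x ∈ Subgroup.normalizer (iter H (m + 1) : Set G) := H_le_normalizer_iter H (m+1) hx
      exact Subgroup.normalizer_inf_normalizer_le_normalizer_sup _ _ ⟨h1, h2⟩
    · apply le_normalizer_of_conj_le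
      intro g hg
      rw [Subgroup.smul_sup]
      apply sup_le
      · rintro _ ⟨h, hh, rfl⟩
        have : (MulAut.conj g) h = ⁅g, h⁆ * h := by
          simp [commutatorElement_def]
        show (MulAut.conj g) h ∈ _
        rw [this, iter_succ]
        exact Subgroup.mul_mem _ (Subgroup.mem_sup_right (Subgroup.commutator_mem_commutator hg hh))
          (Subgroup.mem_sup_left hh)
      · have : g ∈ Subgroup.normalizer (iter H (m + 1) : Set G) := by
          rw [iter_succ]
          exact Subgroup.normalizer_commutator_ge_left _ _ hg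
        rw [(conj_smul_eq_iff_mem_normalizer g _).mpr this]
        exact le_sup_right

/-- A subgroup H of a group G is subnormal exactly when, for some m, the subgroup obtained from G by taking the commutator with H m times in succession is contained in H. -/
theorem result {G : Type*} [Group G] (H : Subgroup G) : H.IsSubnormal ↔ ∃ m : ℕ, (fun K : Subgroup G => ⁅K, H⁆)^[m] ⊤ ≤ H := by
  constructor
  · exact forward
  · rintro ⟨m, hm⟩
    have := chain_subnormal H m
    have h : H ⊔ iter H m = H := sup_eq_left.mpr hm
    rwa [h] at this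

end Cfsg.Agent.S0567
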