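import Cfsg.Statements.S0568
import Mathlib
import Cfsg.Agent.Helper29.CoverAvoid

set_option autoImplicit false
open Cfsg

namespace Cfsg.Agent.S0568


open Cfsg.Agent.Helper29 Cfsg.Agent.Helper3
open scoped commutatorElement

/-- Let D be the system normalizer of a Hall complement system of a finite solvable group G, and let A < B be normal subgroups with no normal subgroup of G strictly between them (a chief factor). If G centralizes B modulo A then B ≤ A ⊔ D (D covers the factor); otherwise B ∩ D ≤ A (D avoids it). -/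
theorem result {G : Type*} [Group G] [Finite G] [Group.IsSolvable G] (K : Nat.Primes → Subgroup G) (hK : Cfsg.IsComplementSystem K) (A B : Subgroup G) [A.Normal] [B.Normal] (hAB : A < B) (hchief : ∀ N : Subgroup G, N.Normal → A ≤ N → N ≤ B → N = A ∨ N = B) : (⁅B, (⊤ : Subgroup G)⁆ ≤ A → B ≤ A ⊔ Cfsg.systemNormalizer K) ∧ (¬ ⁅B, (⊤ : Subgroup G)⁆ ≤ A → B ⊓ Cfsg.systemNormalizer K ≤ A) := by
  set f := QuotientGroup.mk' A with hf
  have hfs : Function.Surjective f := QuotientGroup.mk'_surjective A
  have hker : f.ker = A := QuotientGroup.ker_mk' A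
  have hfone : ∀ x : G, f x = 1 ↔ x ∈ A := fun x => QuotientGroup.eq_one_iff x
  have hKb := IsComplementSystem.map_mk' hK A
  have hDb := systemNormalizer_map_mk' hK A
  set Bb : Subgroup (G ⧸ A) := B.map f with hBbdef
  have hBbn : Bb.Normal := Subgroup.Normal.map inferInstance f hfs
  have hBb : Bb ≠ ⊥ := by
    intro h
    rw [hBbdef, Subgroup.map_eq_bot_iff, hker] at h
    exact (not_le_of_gt hAB) h
  have hminb : ∀ N : Subgroup (G ⧸ A), N.Normal → N ≤ Bb → N = ⊥ ∨ N = Bb := by
    intro N hN hNB
    have h1 : A ≤ N.comap f := by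
      have := Subgroup.ker_le_comap f N
      rwa [hker] at this
    have h2 : N.comap f ≤ B := by
      have := Subgroup.comap_mono (f := f) hNB
      rwa [hBbdef, Subgroup.comap_map_eq, hker, sup_of_le_left hAB.le] at this
    have h3 : (N.comap f).Normal := inferInstance
    rcases hchief _ h3 h1 h2 with h | h
    · left
      rw [← Subgroup.map_comap_eq_self_of_surjective hfs N, h, Subgroup.map_eq_bot_iff, hker]
    · right
      rw [← Subgroup.map_comap_eq_self_of_surjective hfs N, h]
  have hcen : Bb ≤ Subgroup.center (G ⧸ A) ↔ ⁅B, (⊤ : Subgroup G)⁆ ≤ A := by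
    constructor
    · intro h
      rw [Subgroup.commutator_le]
      intro b hb g _
      rw [← hfone, map_commutatorElement]
      have hfb : f b ∈ Subgroup.center (G ⧸ A) := h ⟨b, hb, rfl⟩
      rw [commutatorElement_eq_one_iff_mul_comm]
      exact (Subgroup.mem_center_iff.mp hfb (f g)).symm
    · intro h
      rintro _ ⟨b, hb, rfl⟩
      rw [Subgroup.mem_center_iff]
      intro y
      obtain ⟨g, rfl⟩ := hfs y
      have h1 : ⁅b, g⁆ ∈ A := h (Subgroup.commutator_mem_commutator hb (Subgroup.mem_top g))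
      rw [← hfone, map_commutatorElement, commutatorElement_eq_one_iff_mul_comm] at h1
      exact h1.symm
  have hsol : Group.IsSolvable (G ⧸ A) := inferInstance
  obtain ⟨h1, h2⟩ := cover_avoid_min (fun p => (K p).map f) hKb Bb hBb hminb
  rw [hDb] at h1 h2
  refine ⟨fun hc => ?_, fun hnc => ?_⟩
  · have h3 := h1 (hcen.mpr hc)
    intro b hb
    obtain ⟨d, hd, hdb⟩ := h3 ⟨b, hb, rfl⟩
    have h4 : b * d⁻¹ ∈ A := by
      rw [← hfone, map_mul, map_inv, hdb, mul_inv_cancel]
    have : b = (b * d⁻¹) * d := by group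
    rw [this]
    exact Subgroup.mul_mem _ (Subgroup.mem_sup_left h4) (Subgroup.mem_sup_right hd)
  · have h3 := h2 (fun h => hnc (hcen.mp h))
    intro x hx
    obtain ⟨hxB, hxD⟩ := Subgroup.mem_inf.mp hx
    have : f x ∈ Bb ⊓ (Cfsg.systemNormalizer K).map f :=
      Subgroup.mem_inf.mpr ⟨⟨x, hxB, rfl⟩, ⟨x, hxD, rfl⟩⟩
    rw [h3, Subgroup.mem_bot, hfone] at this
    exact this

end Cfsg.Agent.S0568
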