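import Cfsg.Statements.S0569
import Cfsg.Agent.Helper29.CarterSysNorm

set_option autoImplicit false
open Cfsg

namespace Cfsg.Agent.S0569

open Cfsg.Agent.Helper29 Cfsg.Agent.Helper3 Cfsg.Agent.Lead in
open scoped Pointwise in
/-- In a finite solvable group: each nilpotent self-normalizing subgroup contains the system normalizer of some Hall complement system, and the system normalizer of any Hall complement system lies in some nilpotent self-normalizing subgroup. -/
theorem result {G : Type*} [Group G] [Finite G] [Group.IsSolvable G] : (∀ C : Subgroup G, Cfsg.IsCarterSubgroup C → ∃ K : Nat.Primes → Subgroup G, Cfsg.IsComplementSystem K ∧ Cfsg.systemNormalizer K ≤ C) ∧ ∀ K : Nat.Primes → Subgroup G, Cfsg.IsComplementSystem K → ∃ C : Subgroup G, Cfsg.IsCarterSubgroup C ∧ Cfsg.systemNormalizer K ≤ C := by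
  refine ⟨fun C hC => exists_systemNormalizer_le_carter C hC, ?_⟩
  intro K hK
  obtain ⟨C₀, hC₀⟩ := carter_exists_aux (Nat.card G) (G := G) rfl
  obtain ⟨K₀, hK₀, hle⟩ := exists_systemNormalizer_le_carter C₀ hC₀
  obtain ⟨g, hg⟩ := compl_conj hK₀ hK
  refine ⟨MulAut.conj g • C₀, hC₀.conj g, ?_⟩
  have h1 : K = fun p => MulAut.conj g • K₀ p := funext fun p => (hg p).symm
  rw [h1, systemNormalizer_conj]
  exact Subgroup.pointwise_smul_le_pointwise_smul_iff.mpr hle

end Cfsg.Agent.S0569
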