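import Cfsg.Statements.S0570
import Cfsg.Agent.S0045
import Cfsg.Agent.Helper29.SysNormCarter

set_option autoImplicit false
open Cfsg

namespace Cfsg.Agent.S0570

open Cfsg.Agent.Helper29 Cfsg.Agent.Helper3 in
open scoped Pointwise in
/-- Let G be a finite group with a nilpotent normal subgroup F such that G modulo F is nilpotent (nilpotent length at most two). Then a subgroup of G is a Carter subgroup if and only if it is the system normalizer of some Hall complement system. -/
theorem result {G : Type*} [Group G] [Finite G] (F : Subgroup G) [F.Normal] (hF : Group.IsNilpotent F) (hGF : Group.IsNilpotent (G ⧸ F)) (C : Subgroup G) : Cfsg.IsCarterSubgroup C ↔ ∃ K : Nat.Primes → Subgroup G, Cfsg.IsComplementSystem K ∧ C = Cfsg.systemNormalizer K := by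
  have hsol : Group.IsSolvable G := isSolvable_of_nilpotent_by_nilpotent F hF hGF
  have key : ∀ K : Nat.Primes → Subgroup G, Cfsg.IsComplementSystem K →
      Cfsg.IsCarterSubgroup (Cfsg.systemNormalizer K) := fun K hK =>
    ⟨systemNormalizer_isNilpotent hK, normalizer_systemNormalizer_aux _ rfl F hF hGF K hK⟩
  constructor
  · intro hC
    obtain ⟨K₀, hK₀⟩ := exists_isComplementSystem (G := G)
    have hD := key K₀ hK₀
    obtain ⟨g, hg⟩ := (Cfsg.Agent.S0045.result (G := G)).2 _ C hD.1 hD.2 hC.1 hC.2
    refine ⟨fun p => MulAut.conj g • K₀ p, IsComplementSystem.conj hK₀ g, ?_⟩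
    rw [systemNormalizer_conj, hg]
  · rintro ⟨K, hK, rfl⟩
    exact key K hK

end Cfsg.Agent.S0570
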