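import Cfsg.Statements.S0573
import Mathlib
import Cfsg.Agent.S0572
import Cfsg.Agent.Helper29.AbelianProd
import Cfsg.Agent.Helper29.Schmidt2

set_option autoImplicit false
open Cfsg

namespace Cfsg.Agent.S0573


open Cfsg.Agent.Helper29
open scoped commutatorElement

section aux

variable {G : Type*} [Group G]

theorem mem_center_of_commute (A B : Subgroup G)
    (hAB : ∀ g : G, ∃ a ∈ A, ∃ b ∈ B, g = a * b) {x : G}
    (h1 : ∀ a ∈ A, a * x = x * a) (h2 : ∀ b ∈ B, b * x = x * b) : x ∈ Subgroup.center G := by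
  rw [Subgroup.mem_center_iff]
  intro g
  obtain ⟨a, ha, b, hb, rfl⟩ := hAB g
  calc a * b * x = a * (b * x) := by group
    _ = a * (x * b) := by rw [h2 b hb]
    _ = (a * x) * b := by group
    _ = (x * a) * b := by rw [h1 a ha]
    _ = x * (a * b) := by group

theorem factor_mem_center (A B : Subgroup G)
    (hA : ∀ x ∈ A, ∀ y ∈ A, x * y = y * x) (hB : ∀ x ∈ B, ∀ y ∈ B, x * y = y * x)
    (hAB : ∀ g : G, ∃ a ∈ A, ∃ b ∈ B, g = a * b) {z a b : G} (hz : z ∈ Subgroup.center G)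
    (ha : a ∈ A) (hb : b ∈ B) (h : z = a * b) :
    a ∈ Subgroup.center G ∧ b ∈ Subgroup.center G := by
  have hz' := Subgroup.mem_center_iff.mp hz
  have haz : a = z * b⁻¹ := by rw [h]; group
  have hac : a ∈ Subgroup.center G := by
    apply mem_center_of_commute A B hAB
    · intro a' ha'; exact hA a' ha' a ha
    · intro b' hb'
      rw [haz]
      calc b' * (z * b⁻¹) = (b' * z) * b⁻¹ := by group
        _ = (z * b') * b⁻¹ := by rw [hz' b']
        _ = z * (b' * b⁻¹) := by group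
        _ = z * (b⁻¹ * b') := by rw [hB b' hb' b⁻¹ (B.inv_mem hb)]
        _ = z * b⁻¹ * b' := by group
  refine ⟨hac, ?_⟩
  have : b = a⁻¹ * z := by rw [h]; group
  rw [this]
  exact Subgroup.mul_mem _ (Subgroup.inv_mem _ hac) hz

/-- with trivial center, `G' ∩ C_G(A) ≤ A` -/
theorem fix_le (A B : Subgroup G)
    (hA : ∀ x ∈ A, ∀ y ∈ A, x * y = y * x) (hB : ∀ x ∈ B, ∀ y ∈ B, x * y = y * x)
    (hAB : ∀ g : G, ∃ a ∈ A, ∃ b ∈ B, g = a * b) (hZ : Subgroup.center G = ⊥) {x : G}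
    (hx : x ∈ Subgroup.centralizer (A : Set G)) : x ∈ A := by
  obtain ⟨a, ha, b, hb, rfl⟩ := hAB x
  rw [Subgroup.mem_centralizer_iff] at hx
  have hbc : b ∈ Subgroup.center G := by
    apply mem_center_of_commute A B hAB
    · intro a' ha'
      have h1 := hx a' ha'
      have h2 := hA a' ha' a ha
      have h3 : a' * b = a⁻¹ * (a' * (a * b)) := by
        calc a' * b = a⁻¹ * ((a * a') * b) := by group
          _ = a⁻¹ * ((a' * a) * b) := by rw [h2]
          _ = a⁻¹ * (a' * (a * b)) := by group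
      rw [h3, h1]; group
    · intro b' hb'; exact hB b' hb' b hb
  rw [hZ, Subgroup.mem_bot] at hbc
  rw [hbc, mul_one]; exact ha

/-- `G' ∩ C_G(A)` is normal when `G'` is abelian -/
theorem fix_normal (A : Subgroup G)
    (hV : ∀ x ∈ commutator G, ∀ y ∈ commutator G, x * y = y * x) :
    (commutator G ⊓ Subgroup.centralizer (A : Set G)).Normal := by
  refine ⟨fun x hx g => ?_⟩
  obtain ⟨hxV, hxA⟩ := Subgroup.mem_inf.mp hx
  have hVn : (commutator G).Normal := inferInstance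
  refine Subgroup.mem_inf.mpr ⟨hVn.conj_mem x hxV g, ?_⟩
  rw [Subgroup.mem_centralizer_iff] at hxA ⊢
  intro a' ha'
  have hc : a'⁻¹ * g⁻¹ * a' * g ∈ commutator G := by
    have : a'⁻¹ * g⁻¹ * a' * g = ⁅a'⁻¹, g⁻¹⁆ := by rw [commutatorElement_def]; group
    rw [this, commutator_def]
    exact Subgroup.commutator_mem_commutator (Subgroup.mem_top _) (Subgroup.mem_top _)
  have h1 := hxA a' ha'
  have h2 := hV _ hc x hxV
  calc a' * (g * x * g⁻¹) = g * (a' * ((a'⁻¹ * g⁻¹ * a' * g) * x)) * g⁻¹ := by group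
    _ = g * (a' * (x * (a'⁻¹ * g⁻¹ * a' * g))) * g⁻¹ := by rw [h2]
    _ = g * ((a' * x) * (a'⁻¹ * g⁻¹ * a' * g)) * g⁻¹ := by group
    _ = g * ((x * a') * (a'⁻¹ * g⁻¹ * a' * g)) * g⁻¹ := by rw [h1]
    _ = g * x * g⁻¹ * a' := by group

/-- if `C_{G'}(A) = 1` and `Z(G) = 1` then `A` acts faithfully on `G'` -/
theorem cent_trivial (A : Subgroup G)
    (hA : ∀ x ∈ A, ∀ y ∈ A, x * y = y * x) (hZ : Subgroup.center G = ⊥)
    (hF : commutator G ⊓ Subgroup.centralizer (A : Set G) = ⊥) {a : G} (ha : a ∈ A)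
    (hac : a ∈ Subgroup.centralizer (commutator G : Set G)) : a = 1 := by
  rw [Subgroup.mem_centralizer_iff] at hac
  have hcen : a ∈ Subgroup.center G := by
    rw [Subgroup.mem_center_iff]
    intro g
    -- c = ⁅g, a⁆ = g a g⁻¹ a⁻¹ lies in G' ∩ C(A)
    have hcV : g * a * g⁻¹ * a⁻¹ ∈ commutator G := by
      have : g * a * g⁻¹ * a⁻¹ = ⁅g, a⁆ := by rw [commutatorElement_def]
      rw [this, commutator_def]
      exact Subgroup.commutator_mem_commutator (Subgroup.mem_top _) (Subgroup.mem_top _)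
    have hcA : g * a * g⁻¹ * a⁻¹ ∈ Subgroup.centralizer (A : Set G) := by
      rw [Subgroup.mem_centralizer_iff]
      intro a' ha'
      have hv : g⁻¹ * a' * g * a'⁻¹ ∈ commutator G := by
        have : g⁻¹ * a' * g * a'⁻¹ = ⁅g⁻¹, a'⁆ := by rw [commutatorElement_def]; group
        rw [this, commutator_def]
        exact Subgroup.commutator_mem_commutator (Subgroup.mem_top _) (Subgroup.mem_top _)
      have h1 := hac _ hv
      have h2 := hA a' ha' a ha
      have h3 := hA a' ha' a⁻¹ (A.inv_mem ha)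
      calc a' * (g * a * g⁻¹ * a⁻¹)
          = a' * g * (a'⁻¹ * (a' * a)) * g⁻¹ * a⁻¹ := by group
        _ = a' * g * (a'⁻¹ * (a * a')) * g⁻¹ * a⁻¹ := by rw [h2]
        _ = g * ((g⁻¹ * a' * g * a'⁻¹) * a) * (a' * g⁻¹ * a⁻¹) := by group
        _ = g * (a * (g⁻¹ * a' * g * a'⁻¹)) * (a' * g⁻¹ * a⁻¹) := by rw [h1]
        _ = g * a * g⁻¹ * (a' * a⁻¹) := by group
        _ = g * a * g⁻¹ * (a⁻¹ * a') := by rw [h3]
        _ = g * a * g⁻¹ * a⁻¹ * a' := by group
    have hmem : g * a * g⁻¹ * a⁻¹ ∈ commutator G ⊓ Subgroup.centralizer (A : Set G) :=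
      Subgroup.mem_inf.mpr ⟨hcV, hcA⟩
    rw [hF, Subgroup.mem_bot] at hmem
    calc g * a = (g * a * g⁻¹ * a⁻¹) * a * g := by group
      _ = a * g := by rw [hmem, one_mul]
  rw [hZ, Subgroup.mem_bot] at hcen
  exact hcen

end aux

/-- If a nontrivial finite group G is the product AB of abelian subgroups A and B, then some nontrivial normal subgroup of G is contained in A or in B. -/
theorem result {G : Type*} [Group G] [Finite G] [Nontrivial G] (A B : Subgroup G) [IsMulCommutative A] [IsMulCommutative B] (hAB : ∀ g : G, ∃ a ∈ A, ∃ b ∈ B, g = a * b) : ∃ N : Subgroup G, N.Normal ∧ N ≠ ⊥ ∧ (N ≤ A ∨ N ≤ B) := by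
  have hA : ∀ x ∈ A, ∀ y ∈ A, x * y = y * x := fun x hx y hy => Cfsg.Agent.S0572.comm_of_mem A hx hy
  have hB : ∀ x ∈ B, ∀ y ∈ B, x * y = y * x := fun x hx y hy => Cfsg.Agent.S0572.comm_of_mem B hx hy
  have hBA : ∀ g : G, ∃ b ∈ B, ∃ a ∈ A, g = b * a := by
    intro g
    obtain ⟨a, ha, b, hb, h⟩ := hAB g⁻¹
    refine ⟨b⁻¹, B.inv_mem hb, a⁻¹, A.inv_mem ha, ?_⟩
    rw [← mul_inv_rev, ← h, inv_inv]
  have hcnorm : ∀ S : Subgroup G, S ≤ Subgroup.center G → S.Normal := by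
    intro S hS
    refine ⟨fun n hn g => ?_⟩
    have := Subgroup.mem_center_iff.mp (hS hn) g
    rw [this, mul_inv_cancel_right]; exact hn
  -- Step 1: nontrivial center
  by_cases hZ : Subgroup.center G = ⊥
  swap
  · obtain ⟨⟨z, hz⟩, hz1⟩ := (Subgroup.ne_bot_iff_exists_ne_one).mp hZ
    have hz1' : z ≠ 1 := fun h => hz1 (Subtype.ext h)
    obtain ⟨a, ha, b, hb, hab⟩ := hAB z
    obtain ⟨hac, hbc⟩ := factor_mem_center A B hA hB hAB hz ha hb hab
    by_cases ha1 : a = 1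
    · have hb1 : b ≠ 1 := by
        intro h; apply hz1'; rw [hab, ha1, h, mul_one]
      refine ⟨Subgroup.center G ⊓ B, hcnorm _ inf_le_left, ?_, Or.inr inf_le_right⟩
      intro h
      have : b ∈ Subgroup.center G ⊓ B := Subgroup.mem_inf.mpr ⟨hbc, hb⟩
      rw [h, Subgroup.mem_bot] at this
      exact hb1 this
    · refine ⟨Subgroup.center G ⊓ A, hcnorm _ inf_le_left, ?_, Or.inl inf_le_right⟩
      intro h
      have : a ∈ Subgroup.center G ⊓ A := Subgroup.mem_inf.mpr ⟨hac, ha⟩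
      rw [h, Subgroup.mem_bot] at this
      exact ha1 this
  -- Step 2: G' abelian, nontrivial
  set V : Subgroup G := commutator G with hVdef
  have hVab : ∀ x ∈ V, ∀ y ∈ V, x * y = y * x := by
    have h2 := Cfsg.Agent.S0572.result A B hAB
    have h3 : derivedSeries G 2 = ⁅V, V⁆ := by
      show ⁅derivedSeries G 1, derivedSeries G 1⁆ = _
      rw [derivedSeries_one]
    rw [h3, Subgroup.commutator_eq_bot_iff_le_centralizer] at h2
    intro x hx y hy
    have := h2 hy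
    rw [Subgroup.mem_centralizer_iff] at this
    exact this x hx
  have hcommV : ∀ x y : G, ⁅x, y⁆ ∈ V := by
    intro x y
    rw [hVdef, commutator_def]
    exact Subgroup.commutator_mem_commutator (Subgroup.mem_top _) (Subgroup.mem_top _)
  have hVne : V ≠ ⊥ := by
    intro hV
    apply top_ne_bot (α := Subgroup G)
    rw [← hZ, eq_comm, eq_top_iff]
    intro x _
    rw [Subgroup.mem_center_iff]
    intro g
    have := hcommV g x
    rw [hV, Subgroup.mem_bot] at this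
    exact commutatorElement_eq_one_iff_mul_comm.mp this
  -- Step 3
  by_cases hFA : V ⊓ Subgroup.centralizer (A : Set G) = ⊥
  swap
  · exact ⟨_, fix_normal A hVab, hFA, Or.inl (fun x hx => fix_le A B hA hB hAB hZ
      (Subgroup.mem_inf.mp hx).2)⟩
  by_cases hFB : V ⊓ Subgroup.centralizer (B : Set G) = ⊥
  swap
  · exact ⟨_, fix_normal B hVab, hFB, Or.inr (fun x hx => fix_le B A hB hA hBA hZ
      (Subgroup.mem_inf.mp hx).2)⟩
  -- Step 4
  have hCA : ∀ a ∈ A, a ∈ Subgroup.centralizer (V : Set G) → a = 1 :=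
    fun a ha hac => cent_trivial A hA hZ hFA ha hac
  have hCB : ∀ b ∈ B, b ∈ Subgroup.centralizer (V : Set G) → b = 1 :=
    fun b hb hbc => cent_trivial B hB hZ hFB hb hbc
  -- Step 5
  exfalso
  have hVn : V.Normal := inferInstance
  have hAVn : (A ⊔ V).Normal := normal_of_commutator_le le_sup_right
  have hBVn : (B ⊔ V).Normal := normal_of_commutator_le le_sup_right
  set W : Subgroup G := (A ⊔ V) ⊓ (B ⊔ V) with hW
  set A₁ : Subgroup G := A ⊓ (B ⊔ V) with hA₁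
  set B₁ : Subgroup G := B ⊓ (A ⊔ V) with hB₁
  have hVW : V ≤ W := le_inf le_sup_right le_sup_right
  have hA₁W : A₁ ≤ W := le_inf (inf_le_left.trans le_sup_left) inf_le_right
  have hB₁W : B₁ ≤ W := le_inf inf_le_right (inf_le_left.trans le_sup_left)
  have hWAB : ∀ w ∈ W, ∃ a ∈ A₁, ∃ b ∈ B₁, w = a * b := by
    intro w hw
    obtain ⟨hw1, hw2⟩ := Subgroup.mem_inf.mp hw
    obtain ⟨a, ha, b, hb, rfl⟩ := hAB w
    refine ⟨a, Subgroup.mem_inf.mpr ⟨ha, ?_⟩, b, Subgroup.mem_inf.mpr ⟨hb, ?_⟩, rfl⟩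
    · have : a = (a * b) * b⁻¹ := by group
      rw [this]
      exact Subgroup.mul_mem _ hw2 (Subgroup.mem_sup_left (B.inv_mem hb))
    · have : b = a⁻¹ * (a * b) := by group
      rw [this]
      exact Subgroup.mul_mem _ (Subgroup.mem_sup_left (A.inv_mem ha)) hw1
  have hWAV : ∀ w ∈ W, ∃ a ∈ A₁, ∃ v ∈ V, w = a * v := by
    intro w hw
    obtain ⟨hw1, hw2⟩ := Subgroup.mem_inf.mp hw
    obtain ⟨a, ha, v, hv, rfl⟩ := Subgroup.mem_sup_of_normal_right.mp hw1
    refine ⟨a, Subgroup.mem_inf.mpr ⟨ha, ?_⟩, v, hv, rfl⟩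
    have : a = (a * v) * v⁻¹ := by group
    rw [this]
    exact Subgroup.mul_mem _ hw2 (Subgroup.mem_sup_right (V.inv_mem hv))
  have hWBV : ∀ w ∈ W, ∃ b ∈ B₁, ∃ v ∈ V, w = b * v := by
    intro w hw
    obtain ⟨hw1, hw2⟩ := Subgroup.mem_inf.mp hw
    obtain ⟨b, hb, v, hv, rfl⟩ := Subgroup.mem_sup_of_normal_right.mp hw2
    refine ⟨b, Subgroup.mem_inf.mpr ⟨hb, ?_⟩, v, hv, rfl⟩
    have : b = (b * v) * v⁻¹ := by group
    rw [this]
    exact Subgroup.mul_mem _ hw1 (Subgroup.mem_sup_right (V.inv_mem hv))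
  have hWnil : Group.IsNilpotent W := by
    apply isNilpotent_of_abelian_prod (A₁.subgroupOf W) (B₁.subgroupOf W) (V.subgroupOf W)
    · intro x hx y hy
      exact Subtype.ext (hA _ (Subgroup.mem_inf.mp hx).1 _ (Subgroup.mem_inf.mp hy).1)
    · intro x hx y hy
      exact Subtype.ext (hB _ (Subgroup.mem_inf.mp hx).1 _ (Subgroup.mem_inf.mp hy).1)
    · intro x hx y hy
      exact Subtype.ext (hVab _ hx _ hy)
    · intro w
      obtain ⟨a, ha, v, hv, h⟩ := hWAV w w.2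
      exact ⟨⟨a, hA₁W ha⟩, ha, ⟨v, hVW hv⟩, hv, Subtype.ext h⟩
    · intro w
      obtain ⟨b, hb, v, hv, h⟩ := hWBV w w.2
      exact ⟨⟨b, hB₁W hb⟩, hb, ⟨v, hVW hv⟩, hv, Subtype.ext h⟩
    · intro w
      obtain ⟨a, ha, b, hb, h⟩ := hWAB w w.2
      exact ⟨⟨a, hA₁W ha⟩, ha, ⟨b, hB₁W hb⟩, hb, Subtype.ext h⟩
  -- Step 6
  have hWnt : Nontrivial W := by
    obtain ⟨⟨v, hv⟩, hv1⟩ := (Subgroup.ne_bot_iff_exists_ne_one).mp hVne
    refine ⟨⟨⟨v, hVW hv⟩, 1, ?_⟩⟩
    intro h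
    apply hv1
    have : v = 1 := congrArg Subtype.val h
    exact Subtype.ext this
  have hcW : Subgroup.center W ≠ ⊥ := Group.IsNilpotent.center_ne_bot W
  obtain ⟨⟨z, hz⟩, hz1⟩ := (Subgroup.ne_bot_iff_exists_ne_one).mp hcW
  obtain ⟨a, ha, b, hb, hab⟩ := hWAB z z.2
  have hfac := factor_mem_center (A₁.subgroupOf W) (B₁.subgroupOf W)
    (fun x hx y hy => Subtype.ext (hA _ (Subgroup.mem_inf.mp hx).1 _ (Subgroup.mem_inf.mp hy).1))
    (fun x hx y hy => Subtype.ext (hB _ (Subgroup.mem_inf.mp hx).1 _ (Subgroup.mem_inf.mp hy).1))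
    (fun w => by
      obtain ⟨a, ha, b, hb, h⟩ := hWAB w w.2
      exact ⟨⟨a, hA₁W ha⟩, ha, ⟨b, hB₁W hb⟩, hb, Subtype.ext h⟩)
    hz (a := ⟨a, hA₁W ha⟩) (b := ⟨b, hB₁W hb⟩) ha hb (Subtype.ext hab)
  obtain ⟨hac, hbc⟩ := hfac
  have ha1 : a = 1 := by
    apply hCA a (Subgroup.mem_inf.mp ha).1
    rw [Subgroup.mem_centralizer_iff]
    intro v hv
    have := Subgroup.mem_center_iff.mp hac ⟨v, hVW hv⟩
    exact congrArg Subtype.val this
  have hb1 : b = 1 := by
    apply hCB b (Subgroup.mem_inf.mp hb).1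
    rw [Subgroup.mem_centralizer_iff]
    intro v hv
    have := Subgroup.mem_center_iff.mp hbc ⟨v, hVW hv⟩
    exact congrArg Subtype.val this
  apply hz1
  apply Subtype.ext
  apply Subtype.ext
  show (z : G) = 1
  rw [hab, ha1, hb1, mul_one]

end Cfsg.Agent.S0573
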