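import Cfsg.Statements.S0571
import Mathlib
import Cfsg.Agent.S0573
import Cfsg.Agent.Helper29.Supersolvable

set_option autoImplicit false
open Cfsg

namespace Cfsg.Agent.S0571


universe u

open Cfsg.Agent.Helper29

theorem cyclic_prod_aux (n : ℕ) : ∀ {G : Type u} [Group G] [Finite G], Nat.card G = n →
    ∀ (A B : Subgroup G), IsCyclic A → IsCyclic B → (∀ g : G, ∃ a ∈ A, ∃ b ∈ B, g = a * b) →
    Cfsg.IsSupersolvable G := by
  induction n using Nat.strong_induction_on with
  | _ n ih =>
  intro G _ _ hn A B hAc hBc hAB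
  rcases subsingleton_or_nontrivial G with hs | hnt
  · rw [isSupersolvable_iff_reach, Subsingleton.elim (⊤ : Subgroup G) ⊥]
    exact Reach.refl
  obtain ⟨N, hNn, hNne, hNle⟩ := Cfsg.Agent.S0573.result A B hAB
  have hNc : IsCyclic N := by
    rcases hNle with h | h
    · exact Subgroup.isCyclic_of_le h
    · exact Subgroup.isCyclic_of_le h
  set f := QuotientGroup.mk' N with hf
  have hfs : Function.Surjective f := QuotientGroup.mk'_surjective N
  have hcard : Nat.card (G ⧸ N) < n := by
    rw [← hn, Subgroup.card_eq_card_quotient_mul_card_subgroup N]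
    have h0 : 0 < Nat.card (G ⧸ N) := Nat.card_pos
    have h1 : 1 < Nat.card N := (Subgroup.one_lt_card_iff_ne_bot N).mpr hNne
    nlinarith
  have hAc' : IsCyclic (A.map f) :=
    isCyclic_of_surjective (f.subgroupMap A) (MonoidHom.subgroupMap_surjective f A)
  have hBc' : IsCyclic (B.map f) :=
    isCyclic_of_surjective (f.subgroupMap B) (MonoidHom.subgroupMap_surjective f B)
  have hAB' : ∀ g : G ⧸ N, ∃ a ∈ A.map f, ∃ b ∈ B.map f, g = a * b := by
    intro g
    obtain ⟨x, rfl⟩ := hfs g
    obtain ⟨a, ha, b, hb, rfl⟩ := hAB x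
    exact ⟨f a, ⟨a, ha, rfl⟩, f b, ⟨b, hb, rfl⟩, map_mul f a b⟩
  have hq := ih _ hcard rfl (A.map f) (B.map f) hAc' hBc' hAB'
  exact isSupersolvable_of_cyclic_normal N hq

/-- If a finite group G is the product AB of two cyclic subgroups (every element is a product ab), then G is supersolvable. -/
theorem result {G : Type*} [Group G] [Finite G] (A B : Subgroup G) [IsCyclic A] [IsCyclic B] (hAB : ∀ g : G, ∃ a ∈ A, ∃ b ∈ B, g = a * b) : Cfsg.IsSupersolvable G := by
  exact cyclic_prod_aux _ rfl A B inferInstance inferInstance hAB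

end Cfsg.Agent.S0571
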