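import Cfsg.Statements.S0574
import Cfsg.Agent.Helper10.AbClass2C

set_option autoImplicit false
open Cfsg
open scoped commutatorElement

namespace Cfsg.Agent.S0574

/-- Let the finite group G be the product AB of an abelian subgroup A and a subgroup B of nilpotency class at most two, and let Ω be the number of prime factors, with multiplicity, of the order of the commutator subgroup of B. Then the term of index 2(1 + Ω) of the derived series of G is trivial. -/
theorem result {G : Type*} [Group G] [Finite G] (A B : Subgroup G) [IsMulCommutative A] (hB : commutator ↥B ≤ Subgroup.center ↥B) (hAB : ∀ g : G, ∃ a ∈ A, ∃ b ∈ B, g = a * b) : derivedSeries G (2 * (1 + (Nat.card ↥(commutator ↥B)).primeFactorsList.length)) = ⊥ := by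
  classical
  have hyp : Cfsg.Agent.Helper10.AbClass2.Hyp A B := by
    refine ⟨?_, ?_, hAB⟩
    · intro x hx y hy
      exact Cfsg.Agent.S0572.comm_of_mem A hx hy
    · intro x hx y hy z hz
      have h1 : ⁅(⟨x, hx⟩ : B), ⟨y, hy⟩⁆ ∈ commutator ↥B := by
        rw [commutator_def]
        exact Subgroup.commutator_mem_commutator (Subgroup.mem_top _) (Subgroup.mem_top _)
      have h2 := hB h1
      rw [Subgroup.mem_center_iff] at h2
      have h3 := h2 ⟨z, hz⟩
      have h4 := congrArg Subtype.val h3
      simp [commutatorElement_def] at h4
      simp [commutatorElement_def]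
      exact h4.symm
  have hcard : Nat.card ↥(commutator ↥B) = Nat.card ↥(⁅B, B⁆ : Subgroup G) := by
    have : (commutator ↥B).map B.subtype = ⁅B, B⁆ := by
      rw [commutator_def, Subgroup.map_commutator, ← MonoidHom.range_eq_map, Subgroup.range_subtype]
    rw [← this, Subgroup.card_subtype]
  rw [hcard]
  exact Cfsg.Agent.Helper10.AbClass2.main _ G A B hyp rfl

end Cfsg.Agent.S0574
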