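import Cfsg.Statements.S0576
import Mathlib

set_option autoImplicit false
open Cfsg

namespace Cfsg.Agent.S0576

/-- Let H be a normal subgroup of a finite group G with H contained in the Frattini subgroup of G. Then the group of inner automorphisms of H is contained in the Frattini subgroup of the automorphism group of H. -/
theorem result {G : Type*} [Group G] [Finite G] (H : Subgroup G) [H.Normal] (hH : H ≤ frattini G) : (MulAut.conj : ↥H →* MulAut ↥H).range ≤ frattini (MulAut ↥H) := by
  simp only [frattini, Order.radical, le_iInf_iff]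
  intro M hM
  have hM : IsCoatom M := hM
  by_contra hnot
  set I : Subgroup (MulAut ↥H) := (MulAut.conj : ↥H →* MulAut ↥H).range with hI
  have hIn : I.Normal := by
    refine ⟨?_⟩
    rintro _ ⟨h, rfl⟩ σ
    refine ⟨σ h, ?_⟩
    ext x
    simp [MulAut.conj_apply]
  have hsup : I ⊔ M = ⊤ :=
    hM.2 _ (lt_of_le_of_ne le_sup_right (fun h => hnot (h ▸ le_sup_left)))
  let φ : G →* MulAut ↥H := MulAut.conjNormal
  have hφ : ∀ h : ↥H, φ (h : G) = MulAut.conj h := fun h => MulAut.conjNormal_val
  set U : Subgroup G := M.comap φ with hU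
  have hHU : H ⊔ U = ⊤ := by
    rw [eq_top_iff]
    intro g _
    have hg : φ g ∈ I ⊔ M := by rw [hsup]; exact Subgroup.mem_top _
    rw [← SetLike.mem_coe, Subgroup.normal_mul] at hg
    obtain ⟨i, ⟨h, rfl⟩, m, hm, him⟩ := hg
    have h1 : φ ((h : G)⁻¹ * g) = m := by
      rw [map_mul, map_inv, hφ]
      simp only at him
      rw [← him]
      group
    have h2 : (h : G)⁻¹ * g ∈ U := by
      rw [hU, Subgroup.mem_comap, h1]; exact hm
    have : g = (h : G) * ((h : G)⁻¹ * g) := by group
    rw [this]
    exact Subgroup.mul_mem _ (Subgroup.mem_sup_left h.2) (Subgroup.mem_sup_right h2)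
  have hUtop : U = ⊤ := by
    apply frattini_nongenerating
    rw [eq_top_iff, ← hHU]
    exact sup_le (le_trans hH le_sup_right) le_sup_left
  apply hnot
  rintro _ ⟨h, rfl⟩
  have : (h : G) ∈ U := by rw [hUtop]; exact Subgroup.mem_top _
  rw [hU, Subgroup.mem_comap, hφ] at this
  exact this

end Cfsg.Agent.S0576
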