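import Cfsg.Statements.S0577
import Mathlib
import Cfsg.Agent.Helper29.Schmidt2
import Cfsg.Agent.S0575

set_option autoImplicit false
open Cfsg

namespace Cfsg.Agent.S0577

open Subgroup
open scoped commutatorElement
open Cfsg.Agent.Helper29

/-- Let G be a finite minimal non-nilpotent group and Q a normal Sylow q-subgroup of G, and let D be the commutator subgroup of Q regarded in G (a normal subgroup). Then G modulo D is non-abelian and all its proper subgroups are abelian. -/
theorem result {G : Type*} [Group G] [Finite G] (hG : Cfsg.IsMinimalNonNilpotent G) (q : ℕ) [Fact q.Prime] (hq : q ∣ Nat.card G) (Q : Sylow q G) (hQ : (Q : Subgroup G).Normal) (D : Subgroup G) [D.Normal] (hD : D = (commutator ↥(Q : Subgroup G)).map (Q : Subgroup G).subtype) : ¬ IsMulCommutative (G ⧸ D) ∧ ∀ K : Subgroup (G ⧸ D), K ≠ ⊤ → IsMulCommutative K := by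
  obtain ⟨p₀, q₀, hp₀, hq₀, hpq, P, Q₀, hPc, hQ₀n, hPQ⟩ := schmidt_structure hG
  have : Fact p₀.Prime := ⟨hp₀⟩
  have : Fact q₀.Prime := ⟨hq₀⟩
  have hdis : Disjoint (P : Subgroup G) (Q₀ : Subgroup G) :=
    IsPGroup.disjoint_of_ne p₀ q₀ hpq _ _ P.isPGroup' Q₀.isPGroup'
  have hcard := card_mul_card_of_sup_eq_top hdis hPQ
  have hqq : q = q₀ := by
    by_contra hne
    have hq_dvd : q ∣ Nat.card P * Nat.card Q₀ := hcard ▸ hq
    have hqp : q = p₀ := by
      rcases (Nat.Prime.dvd_mul Fact.out).mp hq_dvd with h | h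
      · obtain ⟨n, hn⟩ := IsPGroup.iff_card.mp P.isPGroup'
        rw [hn] at h
        exact (Nat.prime_dvd_prime_iff_eq Fact.out hp₀).mp
          ((Fact.out : q.Prime).dvd_of_dvd_pow h)
      · obtain ⟨n, hn⟩ := IsPGroup.iff_card.mp Q₀.isPGroup'
        rw [hn] at h
        exact absurd ((Nat.prime_dvd_prime_iff_eq Fact.out hq₀).mp
          ((Fact.out : q.Prime).dvd_of_dvd_pow h)) hne
    subst hqp
    have := Sylow.unique_of_normal Q hQ
    have hPQ' : P = Q := Subsingleton.elim _ _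
    have hPn : (P : Subgroup G).Normal := hPQ' ▸ hQ
    exact hG.1 (isNilpotent_of_normal_pgroups_sup hpq P.isPGroup' Q₀.isPGroup' hPn hQ₀n hPQ)
  subst hqq
  have hQQ₀ : Q₀ = Q := by
    have := Sylow.unique_of_normal Q hQ
    exact Subsingleton.elim _ _
  subst hQQ₀
  have hPcomm : ∀ a ∈ (P : Subgroup G), ∀ b ∈ (P : Subgroup G), a * b = b * a := by
    intro a ha b hb
    obtain ⟨g, hg⟩ := IsCyclic.exists_generator (α := (P : Subgroup G))
    obtain ⟨i, hi⟩ := mem_zpowers_iff.mp (hg ⟨a, ha⟩)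
    obtain ⟨j, hj⟩ := mem_zpowers_iff.mp (hg ⟨b, hb⟩)
    have : (⟨a, ha⟩ : (P : Subgroup G)) * ⟨b, hb⟩ = ⟨b, hb⟩ * ⟨a, ha⟩ := by
      rw [← hi, ← hj, ← zpow_add, ← zpow_add, add_comm]
    exact congrArg Subtype.val this
  have hGQ : commutator G ≤ (Q₀ : Subgroup G) := by
    rw [commutator_def, Subgroup.commutator_le]
    intro g₁ _ g₂ _
    have h1 : g₁ ∈ (P : Subgroup G) ⊔ Q₀ := hPQ ▸ mem_top g₁
    have h2 : g₂ ∈ (P : Subgroup G) ⊔ Q₀ := hPQ ▸ mem_top g₂
    obtain ⟨a₁, ha₁, b₁, hb₁, rfl⟩ := mem_sup_of_normal_right.mp h1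
    obtain ⟨a₂, ha₂, b₂, hb₂, rfl⟩ := mem_sup_of_normal_right.mp h2
    rw [← QuotientGroup.eq_one_iff (N := (Q₀ : Subgroup G))]
    have e1 : ((b₁ : G) : G ⧸ (Q₀ : Subgroup G)) = 1 := (QuotientGroup.eq_one_iff _).mpr hb₁
    have e2 : ((b₂ : G) : G ⧸ (Q₀ : Subgroup G)) = 1 := (QuotientGroup.eq_one_iff _).mpr hb₂
    have e3 : ((a₁ : G) : G ⧸ (Q₀ : Subgroup G)) * (a₂ : G) = (a₂ : G) * (a₁ : G) := by
      rw [← QuotientGroup.mk_mul, ← QuotientGroup.mk_mul, hPcomm a₁ ha₁ a₂ ha₂]
    simp only [commutatorElement_def, QuotientGroup.mk_mul, QuotientGroup.mk_inv, e1, e2,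
      mul_one]
    rw [e3]
    group
  have hDΦ : D ≤ frattini G := by
    rw [hD]
    have hQnil : Group.IsNilpotent (Q₀ : Subgroup G) := Q₀.isPGroup'.isNilpotent
    calc (commutator ↥(Q₀ : Subgroup G)).map (Q₀ : Subgroup G).subtype
        ≤ (frattini ↥(Q₀ : Subgroup G)).map (Q₀ : Subgroup G).subtype :=
          Subgroup.map_mono commutator_le_frattini_of_nilpotent
      _ ≤ frattini G := S0575.result (Q₀ : Subgroup G)
  refine ⟨?_, ?_⟩
  · intro hcomm
    apply hG.1
    apply isNilpotent_of_commutator_le_frattini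
    exact (Subgroup.Normal.quotient_commutative_iff_commutator_le.mp hcomm).trans hDΦ
  · intro K hK
    have hf : Function.Surjective (QuotientGroup.mk' D) := QuotientGroup.mk'_surjective D
    have hK' : K.comap (QuotientGroup.mk' D) ≠ ⊤ := by
      intro h
      apply hK
      have := congrArg (Subgroup.map (QuotientGroup.mk' D)) h
      rwa [map_comap_eq_self_of_surjective hf, ← MonoidHom.range_eq_map,
        MonoidHom.range_eq_top.mpr hf] at this
    have hnilK : Group.IsNilpotent K := by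
      have hnilK' := hG.2 _ hK'
      have : Group.IsNilpotent ((K.comap (QuotientGroup.mk' D)).map (QuotientGroup.mk' D)) :=
        Group.nilpotent_of_surjective
          ((QuotientGroup.mk' D).subgroupMap (K.comap (QuotientGroup.mk' D)))
          ((QuotientGroup.mk' D).subgroupMap_surjective _)
      rwa [map_comap_eq_self_of_surjective hf] at this
    set Qb : Subgroup (G ⧸ D) := (Q₀ : Subgroup G).map (QuotientGroup.mk' D) with hQb
    have hQbn : Qb.Normal := Subgroup.Normal.map hQ _ hf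
    have hQbp : IsPGroup q Qb := Q₀.isPGroup'.map _
    have hQbc : ∀ x ∈ Qb, ∀ y ∈ Qb, x * y = y * x := by
      rintro _ ⟨x, hx, rfl⟩ _ ⟨y, hy, rfl⟩
      rw [← map_mul, ← map_mul]
      apply (QuotientGroup.eq).mpr
      rw [hD]
      refine ⟨⁅(⟨y, hy⟩ : (Q₀ : Subgroup G))⁻¹, (⟨x, hx⟩ : (Q₀ : Subgroup G))⁻¹⁆,
        commutator_mem_commutator (mem_top _) (mem_top _), ?_⟩
      simp only [commutatorElement_def, Subgroup.subtype_apply, Subgroup.coe_mul,
        Subgroup.coe_inv, inv_inv]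
      group
    have hGb : commutator (G ⧸ D) ≤ Qb := by
      rw [commutator_def, Subgroup.commutator_le]
      intro x _ y _
      obtain ⟨x, rfl⟩ := hf x
      obtain ⟨y, rfl⟩ := hf y
      rw [← map_commutatorElement]
      exact mem_map_of_mem _ (hGQ (commutator_mem_commutator (mem_top x) (mem_top y)))
    have hqsub : ∀ S : Subgroup (G ⧸ D), IsPGroup q S → S ≤ Qb := by
      intro S hS
      have hQs : ((Q₀.mapSurjective hf : Sylow q (G ⧸ D)) : Subgroup (G ⧸ D)) = Qb := rfl
      obtain ⟨T, hT⟩ := hS.exists_le_sylow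
      have := Sylow.unique_of_normal (Q₀.mapSurjective hf) (hQs ▸ hQbn)
      have hTQ : T = Q₀.mapSurjective hf := Subsingleton.elim _ _
      rw [← hQs, ← hTQ]
      exact hT
    refine ⟨⟨fun a b => ?_⟩⟩
    apply comm_of_nilpotent_of_sylow_comm hnilK
    intro r hr S a ha b hb
    have hS' : IsPGroup r ((S : Subgroup K).map K.subtype) := S.isPGroup'.map _
    by_cases hrq : r = q
    · subst hrq
      have hle := hqsub _ hS'
      have := hQbc _ (hle (mem_map_of_mem _ ha)) _ (hle (mem_map_of_mem _ hb))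
      exact Subtype.ext this
    · have hdis := IsPGroup.disjoint_of_ne r q hrq _ _ hS' hQbp
      have hc1 : ⁅(a : G ⧸ D), (b : G ⧸ D)⁆ ∈ Qb :=
        hGb (commutator_mem_commutator (mem_top _) (mem_top _))
      have hc2 : ⁅(a : G ⧸ D), (b : G ⧸ D)⁆ ∈ (S : Subgroup K).map K.subtype := by
        refine ⟨⁅a, b⁆, ?_, ?_⟩
        · rw [commutatorElement_def]
          exact mul_mem (mul_mem (mul_mem ha hb) (inv_mem ha)) (inv_mem hb)
        · simp [commutatorElement_def]
      have h1 := hdis.le_bot (Subgroup.mem_inf.mpr ⟨hc2, hc1⟩)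
      rw [mem_bot, commutatorElement_eq_one_iff_mul_comm] at h1
      exact Subtype.ext h1

end Cfsg.Agent.S0577
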