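import Cfsg.Statements.S0578
import Mathlib

set_option autoImplicit false
open Cfsg
open scoped commutatorElement

namespace Cfsg.Agent.S0578

variable {G : Type*} [Group G]

theorem normal_of_le_center {Q : Type*} [Group Q] (K : Subgroup Q) (hK : K ≤ Subgroup.center Q) :
    K.Normal := by
  constructor
  intro n hn g
  have := Subgroup.mem_center_iff.mp (hK hn) g
  -- g * n = n * g
  have e : g * n * g⁻¹ = n := by rw [this]; simp
  rw [e]; exact hn

/-- a finite `p`-group all of whose abelian normal subgroups are central is abelian -/
theorem pgroup_comm {P : Type*} [Group P] [Finite P] {p : ℕ} [Fact p.Prime] (hP : IsPGroup p P)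
    (h : ∀ A : Subgroup P, A.Normal → IsMulCommutative A → A ≤ Subgroup.center P) :
    IsMulCommutative P := by
  by_contra hnc
  have hZ : Subgroup.center P ≠ ⊤ := by
    intro htop
    apply hnc
    constructor; constructor
    intro a b
    have : b ∈ Subgroup.center P := by rw [htop]; trivial
    exact (Subgroup.mem_center_iff.mp this a)
  -- quotient by the center is a nontrivial p-group
  have hnt : Nontrivial (P ⧸ Subgroup.center P) := by
    rw [← not_subsingleton_iff_nontrivial]
    intro hs
    exact hZ (QuotientGroup.subgroup_eq_top_of_subsingleton (Subgroup.center P) hs)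
  have hQ : IsPGroup p (P ⧸ Subgroup.center P) := hP.to_quotient _
  have hcn : Nontrivial (Subgroup.center (P ⧸ Subgroup.center P)) := hQ.center_nontrivial
  obtain ⟨y, hy⟩ := exists_ne (1 : Subgroup.center (P ⧸ Subgroup.center P))
  obtain ⟨x, hx⟩ := QuotientGroup.mk_surjective (y : P ⧸ Subgroup.center P)
  have hzc : Subgroup.zpowers (y : P ⧸ Subgroup.center P) ≤ Subgroup.center _ := by
    rw [Subgroup.zpowers_le]; exact y.2
  have hzn : (Subgroup.zpowers (y : P ⧸ Subgroup.center P)).Normal := normal_of_le_center _ hzc
  set A : Subgroup P := (Subgroup.zpowers (y : P ⧸ Subgroup.center P)).comap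
    (QuotientGroup.mk' (Subgroup.center P)) with hA
  have hAn : A.Normal := hzn.comap _
  have hxA : x ∈ A := by
    rw [hA, Subgroup.mem_comap]
    show (QuotientGroup.mk x : P ⧸ Subgroup.center P) ∈ _
    rw [hx]; exact Subgroup.mem_zpowers _
  have hAc : IsMulCommutative A := by
    let f : A →* Subgroup.zpowers (y : P ⧸ Subgroup.center P) :=
      (QuotientGroup.mk' (Subgroup.center P)).subgroupComap _
    apply f.isMulCommutative_of_isCyclic_of_ker_le_center
    intro a ha
    rw [MonoidHom.mem_ker] at ha
    have ha' : (QuotientGroup.mk' (Subgroup.center P)) (a : P) = 1 := by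
      have := congrArg Subtype.val ha
      exact this
    rw [← MonoidHom.mem_ker, QuotientGroup.ker_mk'] at ha'
    rw [Subgroup.mem_center_iff]
    intro b
    apply Subtype.ext
    exact Subgroup.mem_center_iff.mp ha' (b : P)
  have hxc : x ∈ Subgroup.center P := h A hAn hAc hxA
  apply hy
  apply Subtype.ext
  show (y : P ⧸ Subgroup.center P) = 1
  rw [← hx]
  exact (QuotientGroup.eq_one_iff x).mpr hxc

/-- If in a finite group the normalizer of each abelian subgroup coincides with its centralizer, then the group is abelian. -/
theorem result {G : Type*} [Group G] [Finite G] (h : ∀ A : Subgroup G, IsMulCommutative A → Subgroup.normalizer (A : Set G) = Subgroup.centralizer (A : Set G)) : IsMulCommutative G := by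
  -- every Sylow subgroup is abelian
  have hsyl : ∀ (p : ℕ) [Fact p.Prime] (P : Sylow p G), IsMulCommutative (P : Subgroup G) := by
    intro p _ P
    apply pgroup_comm P.isPGroup'
    intro A hAn hAc
    -- A mapped to G is abelian, normalized by P, hence centralized by P
    have hA'c : IsMulCommutative (A.map (P : Subgroup G).subtype) := inferInstance
    have hN := h _ hA'c
    intro a ha
    rw [Subgroup.mem_center_iff]
    intro g
    have hg : (g : G) ∈ Subgroup.normalizer ((A.map (P : Subgroup G).subtype : Subgroup G) : Set G) := by
      have : (g : P) ∈ Subgroup.normalizer (A : Set P) := by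
        rw [Subgroup.normalizer_eq_top]; trivial
      exact Subgroup.le_normalizer_map _ ⟨g, this, rfl⟩
    rw [hN, Subgroup.mem_centralizer_iff] at hg
    have := hg (a : G) ⟨a, ha, rfl⟩
    apply Subtype.ext
    exact this.symm
  -- the commutator subgroup has no prime divisor
  have hC : Nat.card (commutator G) = 1 := by
    by_contra hne
    obtain ⟨p, hp, hpd⟩ := Nat.exists_prime_and_dvd hne
    haveI : Fact p.Prime := ⟨hp⟩
    obtain ⟨P⟩ : Nonempty (Sylow p G) := inferInstance
    have hPc := hsyl p P
    have hNC : Subgroup.normalizer ((P : Subgroup G) : Set G) ≤ Subgroup.centralizer (P : Set G) :=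
      (h _ hPc).le
    have hker : commutator G ≤ (MonoidHom.transferSylow P hNC).ker := by
      rw [commutator_eq_closure, Subgroup.closure_le]
      rintro _ ⟨a, b, rfl⟩
      rw [SetLike.mem_coe, MonoidHom.mem_ker, map_commutatorElement,
        commutatorElement_eq_one_iff_mul_comm]
      exact mul_comm' _ _
    have := MonoidHom.not_dvd_card_ker_transferSylow P hNC
    exact this (hpd.trans (Subgroup.card_dvd_of_le hker))
  have hbot : commutator G = ⊥ := Subgroup.card_eq_one.mp hC
  constructor; constructor
  intro a b
  have : ⁅a, b⁆ ∈ commutator G := by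
    rw [commutator_eq_closure]
    exact Subgroup.subset_closure ⟨a, b, rfl⟩
  rw [hbot, Subgroup.mem_bot] at this
  exact commutatorElement_eq_one_iff_mul_comm.mp this

end Cfsg.Agent.S0578
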