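import Cfsg.Statements.S0580
import Mathlib.GroupTheory.Sylow
import Mathlib.GroupTheory.Nilpotent

set_option autoImplicit false
open Cfsg

namespace Cfsg.Agent.S0580

open Subgroup

/-- The preimage of a coatom under a surjective hom is a coatom. -/
theorem isCoatom_comap {G H : Type*} [Group G] [Group H] (f : G →* H)
    (hf : Function.Surjective f) (M : Subgroup H) (hM : IsCoatom M) : IsCoatom (M.comap f) := by
  refine ⟨?_, ?_⟩
  · intro h
    apply hM.1
    have := congrArg (Subgroup.map f) h
    rwa [Subgroup.map_comap_eq_self_of_surjective hf, ← MonoidHom.range_eq_map,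
      MonoidHom.range_eq_top.mpr hf] at this
  · intro K hK
    have hker : f.ker ≤ K := le_trans (MonoidHom.ker_le_comap f M) hK.le
    have h1 : M ≤ K.map f := by
      have := Subgroup.map_mono (f := f) hK.le
      rwa [Subgroup.map_comap_eq_self_of_surjective hf] at this
    have h2 : M ≠ K.map f := by
      intro h
      have := congrArg (Subgroup.comap f) h
      rw [Subgroup.comap_map_eq_self hker] at this
      exact hK.ne this
    have h3 : K.map f = ⊤ := hM.2 _ (lt_of_le_of_ne h1 h2)
    have := congrArg (Subgroup.comap f) h3
    rwa [Subgroup.comap_map_eq_self hker, Subgroup.comap_top] at this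

/-- If `P` is a Sylow `p`-subgroup and `M ≥ N_G(P)`, then `[G : M] ≡ 1 mod p`. -/
theorem index_modEq_one {G : Type*} [Group G] [Finite G] (p : ℕ) [Fact p.Prime] (P : Sylow p G)
    (M : Subgroup G) (hM : normalizer ((P : Subgroup G) : Set G) ≤ M) : M.index ≡ 1 [MOD p] := by
  have hPM : (P : Subgroup G) ≤ M := le_trans le_normalizer hM
  have h1 : Nat.card (Sylow p G) ≡ 1 [MOD p] := card_sylow_modEq_one p G
  have h2 : Nat.card (Sylow p M) ≡ 1 [MOD p] := card_sylow_modEq_one p M
  rw [Sylow.card_eq_index_normalizer P] at h1
  rw [Sylow.card_eq_index_normalizer (P.subtype hPM)] at h2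
  have e : normalizer ((P.subtype hPM : Sylow p M) : Set M) =
      (normalizer ((P : Subgroup G) : Set G)).subgroupOf M := by
    rw [subgroupOf_normalizer_eq hPM, ← Sylow.coe_subtype]
    rfl
  rw [e] at h2
  have h3 : (normalizer ((P : Subgroup G) : Set G)).relIndex M * M.index =
      (normalizer ((P : Subgroup G) : Set G)).index := relIndex_mul_index hM
  change (normalizer ((P : Subgroup G) : Set G)).index ≡ 1 [MOD p] at h1
  rw [← h3] at h1
  have h4 : (normalizer ((P : Subgroup G) : Set G)).relIndex M * M.index ≡ 1 * M.index [MOD p] :=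
    Nat.ModEq.mul_right _ h2
  rw [one_mul] at h4
  exact h4.symm.trans h1

theorem main (n : ℕ) : ∀ {G : Type*} [Group G] [Finite G], Nat.card G = n →
    (∀ M : Subgroup G, IsCoatom M → M.index.Prime) → Group.IsSolvable G := by
  induction n using Nat.strong_induction_on with
  | _ n ih =>
    intro G _ _ hn h
    by_cases h1 : Nat.card G = 1
    · have : Subsingleton G := (Nat.card_eq_one_iff_unique.mp h1).1
      infer_instance
    have hpos : 0 < Nat.card G := Nat.card_pos
    have hne : (Nat.card G).primeFactors.Nonempty := by
      rw [Nat.nonempty_primeFactors]; omega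
    set p := (Nat.card G).primeFactors.max' hne with hp
    have hpmem : p ∈ (Nat.card G).primeFactors := Finset.max'_mem _ _
    have hpp : p.Prime := Nat.prime_of_mem_primeFactors hpmem
    have hpd : p ∣ Nat.card G := Nat.dvd_of_mem_primeFactors hpmem
    have hmax : ∀ q, q.Prime → q ∣ Nat.card G → q ≤ p := by
      intro q hq hqd
      apply Finset.le_max'
      exact Nat.mem_primeFactors.mpr ⟨hq, hqd, hpos.ne'⟩
    have : Fact p.Prime := ⟨hpp⟩
    obtain ⟨P⟩ : Nonempty (Sylow p G) := inferInstance
    have hPn : (P : Subgroup G).Normal := by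
      rw [← normalizer_eq_top_iff]
      by_contra hN
      obtain ⟨M, hMco, hNM⟩ := (eq_top_or_exists_le_coatom _).resolve_left hN
      have hq := h M hMco
      have hmod : M.index % p = 1 % p := index_modEq_one p P M hNM
      have hqd : M.index ∣ Nat.card G := Subgroup.index_dvd_card M
      have hle := hmax _ hq hqd
      rw [Nat.mod_eq_of_lt hpp.one_lt] at hmod
      rcases lt_or_eq_of_le hle with hlt | heq
      · rw [Nat.mod_eq_of_lt hlt] at hmod
        rw [hmod] at hq
        exact Nat.not_prime_one hq
      · rw [heq, Nat.mod_self] at hmod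
        exact absurd hmod (by norm_num)
    have hPne : (P : Subgroup G) ≠ ⊥ := P.ne_bot_of_dvd_card hpd
    have hcardP : 1 < Nat.card (P : Subgroup G) := by
      rw [Subgroup.one_lt_card_iff_ne_bot]
      exact hPne
    have hlt : Nat.card (G ⧸ (P : Subgroup G)) < n := by
      have := Subgroup.card_eq_card_quotient_mul_card_subgroup (P : Subgroup G)
      rw [hn] at this
      have hqpos : 0 < Nat.card (G ⧸ (P : Subgroup G)) := Nat.card_pos
      nlinarith
    have hQ : Group.IsSolvable (G ⧸ (P : Subgroup G)) := ih _ hlt rfl (fun M hM => by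
      have := h _ (isCoatom_comap (QuotientGroup.mk' _) (QuotientGroup.mk'_surjective _) M hM)
      rwa [Subgroup.index_comap_of_surjective _ (QuotientGroup.mk'_surjective _)] at this)
    have hP : Group.IsSolvable (P : Subgroup G) := by
      have : Group.IsNilpotent (P : Subgroup G) := P.2.isNilpotent
      infer_instance
    exact Group.isSolvable_of_ker_le_range (P : Subgroup G).subtype
      (QuotientGroup.mk' (P : Subgroup G)) (by simp)

/-- If every maximal subgroup of a finite group has prime index, then the group is solvable. -/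
theorem result {G : Type*} [Group G] [Finite G] (h : ∀ M : Subgroup G, IsCoatom M → M.index.Prime) : Group.IsSolvable G :=
  main _ rfl h

end Cfsg.Agent.S0580
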