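import Cfsg.Statements.S0579
import Cfsg.Agent.Helper29.Huppert
import Cfsg.Agent.Helper29.Huppert2
import Cfsg.Agent.S0580
import Cfsg.Agent.S0583
import Cfsg.Agent.S0586
import Cfsg.Agent.S0533
import Cfsg.Agent.Helper1.MinNormal
import Cfsg.Agent.Helper3.ComplSystem
import Cfsg.Agent.Lead.Hall2
import Cfsg.Agent.Lead.CoprimeSylow

set_option autoImplicit false
set_option linter.style.haveILetI false
open Cfsg

namespace Cfsg.Agent.S0579

open Subgroup Cfsg.Agent.Helper29
open scoped Pointwise

universe u

/-- If all maximal subgroups have prime index, a Sylow subgroup for the largest prime is normal. -/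
theorem exists_normal_sylow_largest {G : Type*} [Group G] [Finite G] [Nontrivial G]
    (h : ∀ M : Subgroup G, IsCoatom M → M.index.Prime) :
    ∃ (r : ℕ) (_ : Fact r.Prime) (R : Sylow r G), (R : Subgroup G).Normal ∧ (R : Subgroup G) ≠ ⊥ := by
  have hpos : 0 < Nat.card G := Nat.card_pos
  have hcard1 : 1 < Nat.card G := Finite.one_lt_card
  have hne : (Nat.card G).primeFactors.Nonempty := Nat.nonempty_primeFactors.mpr hcard1
  set p := (Nat.card G).primeFactors.max' hne with hp
  have hpmem : p ∈ (Nat.card G).primeFactors := Finset.max'_mem _ _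
  have hpp : p.Prime := Nat.prime_of_mem_primeFactors hpmem
  have hpd : p ∣ Nat.card G := Nat.dvd_of_mem_primeFactors hpmem
  have hmax : ∀ q, q.Prime → q ∣ Nat.card G → q ≤ p := by
    intro q hq hqd
    apply Finset.le_max'
    exact Nat.mem_primeFactors.mpr ⟨hq, hqd, hpos.ne'⟩
  have hF : Fact p.Prime := ⟨hpp⟩
  obtain ⟨P⟩ : Nonempty (Sylow p G) := inferInstance
  refine ⟨p, hF, P, ?_, P.ne_bot_of_dvd_card hpd⟩
  rw [← normalizer_eq_top_iff]
  by_contra hN
  obtain ⟨M, hMco, hNM⟩ := (eq_top_or_exists_le_coatom _).resolve_left hN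
  have hq := h M hMco
  have hmod : M.index % p = 1 % p := Cfsg.Agent.S0580.index_modEq_one p P M hNM
  have hqd : M.index ∣ Nat.card G := Subgroup.index_dvd_card M
  have hle := hmax _ hq hqd
  rw [Nat.mod_eq_of_lt hpp.one_lt] at hmod
  rcases lt_or_eq_of_le hle with hlt | heq
  · rw [Nat.mod_eq_of_lt hlt] at hmod
    rw [hmod] at hq
    exact Nat.not_prime_one hq
  · rw [heq, Nat.mod_self] at hmod
    exact absurd hmod (by norm_num)

theorem huppert_aux (n : ℕ) : ∀ {G : Type u} [Group G] [Finite G], Nat.card G = n →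
    (∀ M : Subgroup G, IsCoatom M → M.index.Prime) → Cfsg.IsSupersolvable G := by
  induction n using Nat.strong_induction_on with
  | _ n ih =>
  intro G _ _ hn h
  rcases subsingleton_or_nontrivial G with hs | hnt
  · exact Cfsg.Agent.S0533.isSupersolvable_of_subsingleton
  haveI hsolv : Group.IsSolvable G := Cfsg.Agent.S0580.result h
  have hquot : ∀ (K : Subgroup G) [K.Normal], K ≠ ⊥ → Cfsg.IsSupersolvable (G ⧸ K) := by
    intro K _ hKbot
    have hlt : Nat.card (G ⧸ K) < n := by
      rw [← hn, Subgroup.card_eq_card_quotient_mul_card_subgroup K]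
      have h0 : 0 < Nat.card (G ⧸ K) := Nat.card_pos
      have h1 : 1 < Nat.card K := by
        rw [Subgroup.one_lt_card_iff_ne_bot]; exact hKbot
      nlinarith
    apply ih _ hlt rfl
    intro M hM
    have := h _ (Cfsg.Agent.S0580.isCoatom_comap (QuotientGroup.mk' K)
      (QuotientGroup.mk'_surjective K) M hM)
    rwa [Subgroup.index_comap_of_surjective _ (QuotientGroup.mk'_surjective K)] at this
  obtain ⟨N, hNn, hNbot, -, hNmin⟩ :=
    Cfsg.Agent.S0586.exists_minimal_normal_le (⊤ : Subgroup G) top_ne_bot
  have hss := hquot N hNbot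
  -- reduce to a unique minimal normal subgroup
  by_cases huniq : ∀ K : Subgroup G, K.Normal → K ≠ ⊥ → N ≤ K
  swap
  · push Not at huniq
    obtain ⟨K, hKn, hKbot, hNK⟩ := huniq
    have hNK' : N ⊓ K = ⊥ := by
      rcases hNmin (N ⊓ K) inferInstance inf_le_left with h' | h'
      · exact h'
      · exfalso; apply hNK; rw [← h']; exact inf_le_right
    have hssK := hquot K hKbot
    let f : G →* (G ⧸ N) × (G ⧸ K) := (QuotientGroup.mk' N).prod (QuotientGroup.mk' K)
    have hf : Function.Injective f := by
      rw [← MonoidHom.ker_eq_bot_iff, MonoidHom.ker_prod, QuotientGroup.ker_mk',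
        QuotientGroup.ker_mk', hNK']
    have h1 := isSupersolvable_subgroup (isSupersolvable_prod hss hssK) f.range
    exact isSupersolvable_of_mulEquiv (MonoidHom.ofInjective hf).symm h1
  obtain ⟨hNc, p, hp, hpow⟩ :=
    Cfsg.Agent.Helper1.minNormal_elementary N hNbot inferInstance hNmin
  haveI : Fact p.Prime := ⟨hp⟩
  have hNp : IsPGroup p N := fun x => ⟨1, by rw [pow_one]; exact Subtype.ext (hpow x x.2)⟩
  -- complemented case
  by_cases hfr : ∀ M : Subgroup G, IsCoatom M → N ≤ M
  swap
  · push Not at hfr
    obtain ⟨M, hMco, hNM⟩ := hfr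
    have hsup : M ⊔ N = ⊤ := hMco.2 _ (left_lt_sup.mpr hNM)
    have hMNn : (M ⊓ N).Normal := by
      rw [← normalizer_eq_top_iff, eq_top_iff, ← hsup]
      apply sup_le
      · intro x hx
        have h1 : x ∈ normalizer (M : Set G) := le_normalizer hx
        have h2 : x ∈ normalizer (N : Set G) := by
          rw [normalizer_eq_top_iff.mpr hNn]; exact mem_top x
        rw [← Cfsg.Agent.Lead.conj_smul_eq_self_iff_mem_normalizer] at h1 h2 ⊢
        rw [Subgroup.smul_inf, h1, h2]
      · intro x hx
        apply centralizer_le_normalizer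
        rw [Subgroup.mem_centralizer_iff]
        intro y hy
        exact setLike_mul_comm (s := N) hy.2 hx
    have hMN : M ⊓ N = ⊥ := by
      rcases hNmin (M ⊓ N) hMNn inf_le_right with h' | h'
      · exact h'
      · exfalso; apply hNM; rw [← h']; exact inf_le_left
    have hcard : Nat.card N = M.index := by
      have h1 := Cfsg.Agent.Helper3.relIndex_mul_index_sup N M
      rw [sup_comm, hsup, Subgroup.index_top, mul_one, ← Subgroup.inf_relIndex_right, hMN,
        Subgroup.relIndex_bot_left] at h1
      exact h1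
    have hprime : (Nat.card N).Prime := by rw [hcard]; exact h M hMco
    haveI : Fact (Nat.card N).Prime := ⟨hprime⟩
    haveI : IsCyclic N := isCyclic_of_prime_card (p := Nat.card N) rfl
    exact isSupersolvable_of_cyclic_normal N hss
  -- Frattini case
  have hNΦ : N ≤ frattini G := by
    unfold frattini Order.radical
    exact le_iInf₂ (fun M hM => hfr M hM)
  suffices hX : expResidual p G ≤ centralizer (N : Set G) by
    have hcard := card_minNormal_eq_prime p N hNbot hNmin hpow
      (fun g h => hX (comm_mem_expResidual p g h)) (fun g => hX (pow_mem_expResidual p g))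
    haveI : IsCyclic N := isCyclic_of_prime_card hcard
    exact isSupersolvable_of_cyclic_normal N hss
  -- the normal Sylow p-subgroup
  obtain ⟨P, hPn⟩ : ∃ P : Sylow p G, (P : Subgroup G).Normal := by
    obtain ⟨r, hrF, R, hRn, hRne⟩ := exists_normal_sylow_largest h
    have hNR : N ≤ R := huniq R hRn hRne
    have hrp : r = p := by
      obtain ⟨a, ha⟩ := hNp.exists_card_eq
      obtain ⟨b, hb⟩ := (R.isPGroup'.to_le hNR).exists_card_eq
      have ha0 : a ≠ 0 := by
        intro h0
        rw [h0, pow_zero] at ha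
        exact hNbot (Subgroup.card_eq_one.mp ha)
      have hdvd : p ∣ r ^ b := by rw [← hb, ha]; exact dvd_pow_self p ha0
      exact ((Nat.prime_dvd_prime_iff_eq hp hrF.out).mp (hp.dvd_of_dvd_pow hdvd)).symm
    subst hrp
    exact ⟨R, hRn⟩
  set X := expResidual p G with hXdef
  have hPp : IsPGroup p (P : Subgroup G) := P.isPGroup'
  obtain ⟨a, ha⟩ := hPp.exists_card_eq
  have hidxcop : ((P : Subgroup G).subgroupOf X).index.Coprime p := by
    have h1 : (P : Subgroup G).relIndex X ∣ (P : Subgroup G).index :=
      Subgroup.relIndex_dvd_index_of_normal _ _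
    have h2 : ((P : Subgroup G).index).Coprime p :=
      ((Nat.Prime.coprime_iff_not_dvd hp).mpr P.not_dvd_index).symm
    exact Nat.Coprime.coprime_dvd_left h1 h2
  obtain ⟨b, hb⟩ := (hPp.comap_subtype (K := X)).exists_card_eq
  have hb' : Nat.card ((P : Subgroup G).subgroupOf X) = p ^ b := hb
  obtain ⟨Q', hQ'⟩ := Subgroup.exists_right_complement'_of_coprime
    (N := (P : Subgroup G).subgroupOf X) (by rw [hb']; exact Nat.Coprime.pow_left b hidxcop.symm)
  set Q := Q'.map X.subtype with hQ
  have hQX : Q ≤ X := Subgroup.map_subtype_le Q'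
  have hQcard : Nat.card Q = ((P : Subgroup G).subgroupOf X).index := by
    rw [hQ, Subgroup.card_map_of_injective X.subtype_injective]
    exact (hQ'.symm.index_eq_card).symm
  have hQp : (Nat.card Q).Coprime p := by rw [hQcard]; exact hidxcop
  have hQrel : Q.relIndex X = p ^ b := by
    have h1 : Q.subgroupOf X = Q' :=
      Subgroup.comap_map_eq_self_of_injective X.subtype_injective Q'
    rw [Subgroup.relIndex, h1, hQ'.index_eq_card, hb']
  have hfrat := Cfsg.Agent.Lead.hall_frattini X (Cfsg.Agent.Lead.isSolvable_subgroup X) Q hQX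
    (by rw [hQrel]; exact Nat.Coprime.pow_right _ hQp)
  have hXPQ : X ≤ (P : Subgroup G) ⊔ Q := by
    have h1 := hQ'.sup_eq_top
    have h2 := congrArg (Subgroup.map X.subtype) h1
    rw [Subgroup.map_sup, Subgroup.subgroupOf_map_subtype, ← MonoidHom.range_eq_map,
      Subgroup.range_subtype] at h2
    rw [← h2]; exact sup_le_sup_right inf_le_left _
  let π := QuotientGroup.mk' N
  have hπs : Function.Surjective π := QuotientGroup.mk'_surjective N
  haveI : ((P : Subgroup G).map π).Normal := Subgroup.Normal.map hPn π hπs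
  have hA := le_centralizer_pgroup_aux p _ rfl hss ((P : Subgroup G).map π) (Q.map π) (hPp.map π)
    ((Subgroup.map_mono hQX).trans (map_expResidual_le p π))
    (Nat.Coprime.coprime_dvd_left (Subgroup.card_map_dvd Q π) hQp)
  have hPQN : ⁅(P : Subgroup G), Q⁆ ≤ N := by
    have h1 : ⁅(P : Subgroup G).map π, Q.map π⁆ = ⊥ := by
      rw [Subgroup.commutator_comm]
      exact Subgroup.commutator_eq_bot_iff_le_centralizer.mpr hA
    rw [← Subgroup.map_commutator, Subgroup.map_eq_bot_iff, QuotientGroup.ker_mk'] at h1
    exact h1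
  have hQnorm : Q ≤ normalizer ((P : Subgroup G) : Set G) := by
    rw [normalizer_eq_top_iff.mpr hPn]; exact le_top
  have hcop : (Nat.card Q).Coprime (Nat.card (P : Subgroup G)) := by
    rw [ha]; exact Nat.Coprime.pow_right _ hQp
  have hPsolv : Group.IsSolvable (P : Subgroup G) := by
    haveI := hPp.isNilpotent
    infer_instance
  have h3 := Cfsg.Agent.Lead.coprime_commutator_sup_centralizer Q (P : Subgroup G) hQnorm hcop
    (Or.inr hPsolv)
  have hPle : (P : Subgroup G) ≤ N ⊔ normalizer (Q : Set G) := by
    rw [← h3]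
    exact sup_le_sup hPQN (inf_le_right.trans (centralizer_le_normalizer _))
  have htop : normalizer (Q : Set G) ⊔ N = ⊤ := by
    rw [eq_top_iff, ← hfrat]
    apply sup_le _ le_sup_left
    refine hXPQ.trans (sup_le ?_ ?_)
    · rw [sup_comm]; exact hPle
    · exact le_normalizer.trans le_sup_left
  have hQn : normalizer (Q : Set G) = ⊤ := by
    apply frattini_nongenerating
    rw [eq_top_iff, ← htop]
    exact sup_le_sup_left hNΦ _
  have hQbot : Q = ⊥ := by
    by_contra hne
    have hNQ := huniq Q (normalizer_eq_top_iff.mp hQn) hne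
    obtain ⟨c, hc⟩ := hNp.exists_card_eq
    have hdisj : N ⊓ Q = ⊥ :=
      (Subgroup.disjoint_of_coprime_natCard
        (by rw [hc]; exact Nat.Coprime.pow_left c hQp.symm)).eq_bot
    rw [inf_of_le_left hNQ] at hdisj
    exact hNbot hdisj
  have hXP : X ≤ P := by rw [hQbot, sup_bot_eq] at hXPQ; exact hXPQ
  have hPcent : (P : Subgroup G) ≤ centralizer (N : Set G) := by
    refine le_trans ?_ (Cfsg.Agent.S0583.result N hNbot hNmin)
    unfold Cfsg.fittingSubgroup
    exact le_sSup ⟨hPn, hPp.isNilpotent⟩
  exact hXP.trans hPcent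

/-- Huppert's supersolvability criterion: if every maximal subgroup of a finite group has prime index, then the group is supersolvable. -/
theorem result {G : Type*} [Group G] [Finite G] (h : ∀ M : Subgroup G, IsCoatom M → M.index.Prime) : Cfsg.IsSupersolvable G := by
  exact huppert_aux _ rfl h

end Cfsg.Agent.S0579
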