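import Cfsg.Statements.S0582
import Mathlib
import Cfsg.Agent.S0531
import Cfsg.Agent.S0532
import Cfsg.Agent.Helper29.Supersolvable2
import Cfsg.Agent.Helper29.NilpHall

set_option autoImplicit false
open Pointwise
open Cfsg

namespace Cfsg.Agent.S0582


universe u

open Cfsg.Agent.Helper29 Cfsg.Agent.S0531

theorem map_conj_smul {G G' : Type*} [Group G] [Group G'] (f : G →* G') (x : G)
    (S : Subgroup G) : (MulAut.conj x • S).map f = MulAut.conj (f x) • S.map f := by
  ext z
  constructor
  · rintro ⟨_, hy, rfl⟩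
    rw [SetLike.mem_coe, Subgroup.mem_smul_pointwise_iff_exists] at hy
    obtain ⟨s, hs, rfl⟩ := hy
    rw [Subgroup.mem_smul_pointwise_iff_exists]
    exact ⟨f s, ⟨s, hs, rfl⟩, by simp [MulAut.smul_def, MulAut.conj_apply]⟩
  · intro hz
    rw [Subgroup.mem_smul_pointwise_iff_exists] at hz
    obtain ⟨_, ⟨s, hs, rfl⟩, rfl⟩ := hz
    exact ⟨MulAut.conj x • s, Subgroup.smul_mem_pointwise_smul _ _ _ hs,
      by simp [MulAut.smul_def, MulAut.conj_apply]⟩

theorem conj_of_conj_quotient {G : Type*} [Group G] (P : Subgroup G) [hP : P.Normal]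
    (H K : Subgroup G) (hPH : P ≤ H) (hPK : P ≤ K)
    (h : ∃ y : G ⧸ P, MulAut.conj y • (H.map (QuotientGroup.mk' P)) =
      K.map (QuotientGroup.mk' P)) :
    ∃ x : G, MulAut.conj x • H = K := by
  obtain ⟨y, hy⟩ := h
  obtain ⟨x, rfl⟩ := QuotientGroup.mk'_surjective P y
  refine ⟨x, ?_⟩
  have hker : (QuotientGroup.mk' P).ker = P := QuotientGroup.ker_mk' P
  rw [← map_conj_smul] at hy
  have hP1 : P ≤ MulAut.conj x • H := by
    intro z hz
    rw [Subgroup.mem_pointwise_smul_iff_inv_smul_mem]
    apply hPH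
    have := hP.conj_mem z hz x⁻¹
    simpa [MulAut.smul_def, MulAut.conj_apply] using this
  have := congrArg (Subgroup.comap (QuotientGroup.mk' P)) hy
  rwa [Subgroup.comap_map_eq_self (by rw [hker]; exact hP1),
    Subgroup.comap_map_eq_self (by rw [hker]; exact hPK)] at this

theorem conj_of_conj_subgroupOf {G : Type*} [Group G] (N H K : Subgroup G) (hH : H ≤ N)
    (hK : K ≤ N) (h : ∃ y : N, MulAut.conj y • H.subgroupOf N = K.subgroupOf N) :
    ∃ x : G, MulAut.conj x • H = K := by
  obtain ⟨y, hy⟩ := h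
  refine ⟨y, ?_⟩
  have := congrArg (Subgroup.map N.subtype) hy
  rw [map_conj_smul, Subgroup.subgroupOf_map_subtype, Subgroup.subgroupOf_map_subtype,
    inf_of_le_left hH, inf_of_le_left hK] at this
  exact this

/-- In a finite supersolvable group the Sylow subgroup for the largest prime is normal. -/
theorem normal_sylow_of_supersolvable {G : Type*} [Group G] [Finite G]
    (hG : Cfsg.IsSupersolvable G) (p : ℕ) [Fact p.Prime]
    (hmax : ∀ q : ℕ, q.Prime → q ∣ Nat.card G → q ≤ p) (P : Sylow p G) :
    (P : Subgroup G).Normal :=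
  Cfsg.Agent.S0532.normal_sylow_aux _ rfl
    (fun H => Cfsg.Agent.S0531.result (isSupersolvable_subgroup hG H)) p hmax P

theorem conj_aux (n : ℕ) : ∀ {G : Type u} [Group G] [Finite G], Nat.card G = n →
    ∀ (H K : Subgroup G), Cfsg.IsSupersolvable H → Cfsg.IsSupersolvable K →
    Nat.card H = Nat.card K → (Nat.card H).Coprime H.index →
    ∃ x : G, MulAut.conj x • H = K := by
  induction n using Nat.strong_induction_on with
  | _ n ih =>
  intro G _ _ hn H K hH hK hcard hHall
  by_cases hHbot : H = ⊥
  · refine ⟨1, ?_⟩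
    have hKbot : K = ⊥ := by
      rw [← Subgroup.card_eq_one, ← hcard, hHbot, Subgroup.card_bot]
    rw [hHbot, hKbot, map_one, one_smul]
  have hcard1 : 1 < Nat.card H := by
    exact (Subgroup.one_lt_card_iff_ne_bot H).mpr hHbot
  have hne : (Nat.card H).primeFactors.Nonempty := Nat.nonempty_primeFactors.mpr hcard1
  set p := (Nat.card H).primeFactors.max' hne with hp
  have hpmem : p ∈ (Nat.card H).primeFactors := Finset.max'_mem _ _
  have hpp : p.Prime := Nat.prime_of_mem_primeFactors hpmem
  have hpd : p ∣ Nat.card H := Nat.dvd_of_mem_primeFactors hpmem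
  have hmax : ∀ q : ℕ, q.Prime → q ∣ Nat.card H → q ≤ p := fun q hq hqd =>
    Finset.le_max' _ _ (Nat.mem_primeFactors.mpr ⟨hq, hqd, Nat.card_pos.ne'⟩)
  have : Fact p.Prime := ⟨hpp⟩
  let PH : Sylow p H := default
  let QK : Sylow p K := default
  have hPHn : (PH : Subgroup H).Normal := normal_sylow_of_supersolvable hH p hmax PH
  have hQKn : (QK : Subgroup K).Normal :=
    normal_sylow_of_supersolvable hK p (by rw [← hcard]; exact hmax) QK
  -- the p-part of |G|
  have hidxK : K.index = H.index := by
    have h1 := Subgroup.index_mul_card H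
    have h2 := Subgroup.index_mul_card K
    rw [← hcard] at h2
    have hpos : 0 < Nat.card H := Nat.card_pos
    exact Nat.eq_of_mul_eq_mul_right hpos (h2.trans h1.symm)
  have hpidx : ¬ p ∣ H.index := by
    intro hdvd
    have := Nat.Coprime.eq_one_of_dvd (Nat.Coprime.coprime_dvd_left hpd hHall) hdvd
    exact hpp.one_lt.ne' this
  have hfac : (Nat.card G).factorization p = (Nat.card H).factorization p := by
    rw [← Subgroup.index_mul_card H, Nat.factorization_mul Subgroup.index_ne_zero_of_finite
      Nat.card_pos.ne']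
    simp [Nat.factorization_eq_zero_of_not_dvd hpidx]
  set P : Subgroup G := (PH : Subgroup H).map H.subtype with hP
  set Q : Subgroup G := (QK : Subgroup K).map K.subtype with hQ
  have hPcard : Nat.card P = p ^ (Nat.card G).factorization p := by
    rw [hP, Subgroup.card_map_of_injective H.subtype_injective, PH.card_eq_multiplicity, hfac]
  have hQcard : Nat.card Q = p ^ (Nat.card G).factorization p := by
    rw [hQ, Subgroup.card_map_of_injective K.subtype_injective, QK.card_eq_multiplicity, hfac,
      hcard]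
  obtain ⟨g, hg⟩ := MulAction.exists_smul_eq G (Sylow.ofCard P hPcard) (Sylow.ofCard Q hQcard)
  have hgPQ : MulAut.conj g • P = Q := by
    have := congrArg (fun S : Sylow p G => (S : Subgroup G)) hg
    simpa [Sylow.coe_subgroup_smul] using this
  set H₁ : Subgroup G := MulAut.conj g • H with hH₁
  have hQH₁ : Q ≤ H₁ := by
    rw [← hgPQ, hH₁, Subgroup.pointwise_smul_le_pointwise_smul_iff, hP]
    exact Subgroup.map_subtype_le _
  have hQK : Q ≤ K := by rw [hQ]; exact Subgroup.map_subtype_le _
  set N : Subgroup G := Subgroup.normalizer (Q : Set G) with hN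
  have hKN : K ≤ N := by
    apply Cfsg.Agent.Helper29.le_normalizer_of_conj_mem
    rintro k hk _ ⟨y, hy, rfl⟩
    exact ⟨⟨k, hk⟩ * y * ⟨k, hk⟩⁻¹, hQKn.conj_mem y hy _, rfl⟩
  have hH₁N : H₁ ≤ N := by
    apply Cfsg.Agent.Helper29.le_normalizer_of_conj_mem
    intro h₁ hh₁ x hx
    rw [hH₁, Subgroup.mem_smul_pointwise_iff_exists] at hh₁
    obtain ⟨h, hh, rfl⟩ := hh₁
    rw [← hgPQ, Subgroup.mem_smul_pointwise_iff_exists] at hx ⊢
    obtain ⟨y, ⟨y', hy', rfl⟩, rfl⟩ := hx
    refine ⟨h * (y' : G) * h⁻¹, ⟨⟨h, hh⟩ * y' * ⟨h, hh⟩⁻¹, hPHn.conj_mem y' hy' _, rfl⟩, ?_⟩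
    simp [MulAut.smul_def, MulAut.conj_apply]

  have hQN : Q ≤ N := Subgroup.le_normalizer
  set Q' : Subgroup N := Q.subgroupOf N with hQ'
  have hQ'n : Q'.Normal := Subgroup.normal_in_normalizer
  set f := QuotientGroup.mk' Q' with hf
  have hfs : Function.Surjective f := QuotientGroup.mk'_surjective Q'
  have hker : f.ker = Q' := QuotientGroup.ker_mk' Q'
  set H' : Subgroup N := H₁.subgroupOf N with hH'
  set K' : Subgroup N := K.subgroupOf N with hK'
  have hQH' : Q' ≤ H' := fun x hx => hQH₁ hx
  have hQK' : Q' ≤ K' := fun x hx => hQK hx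
  suffices hsuff : ∃ y : N ⧸ Q', MulAut.conj y • (H'.map f) = K'.map f by
    obtain ⟨x, hx⟩ := conj_of_conj_subgroupOf N H₁ K hH₁N hKN
      (conj_of_conj_quotient Q' H' K' hQH' hQK' hsuff)
    refine ⟨x * g, ?_⟩
    rw [map_mul, mul_smul]; exact hx
  have hQ'card : Nat.card Q' = Nat.card Q := by
    rw [hQ', ← Subgroup.card_map_of_injective N.subtype_injective,
      Subgroup.subgroupOf_map_subtype, inf_of_le_left hQN]
  have hQ1 : 1 < Nat.card Q' := by
    rw [hQ'card, hQcard, hfac]
    have := hpp.factorization_pos_of_dvd Nat.card_pos.ne' hpd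
    exact Nat.one_lt_pow (by omega) hpp.one_lt
  have hH₁card : Nat.card H₁ = Nat.card H :=
    Nat.card_congr (Subgroup.equivSMul (MulAut.conj g) H).toEquiv.symm
  have hH'card : Nat.card H' = Nat.card H := by
    rw [hH', ← Subgroup.card_map_of_injective N.subtype_injective,
      Subgroup.subgroupOf_map_subtype, inf_of_le_left hH₁N, hH₁card]
  have hK'card : Nat.card K' = Nat.card K := by
    rw [hK', ← Subgroup.card_map_of_injective N.subtype_injective,
      Subgroup.subgroupOf_map_subtype, inf_of_le_left hKN]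
  have hHbar : Nat.card H' = Nat.card (H'.map f) * Nat.card Q' := by
    have := card_comap_mk' Q' (H'.map f)
    rwa [Subgroup.comap_map_eq_self (by rw [hker]; exact hQH')] at this
  have hKbar : Nat.card K' = Nat.card (K'.map f) * Nat.card Q' := by
    have := card_comap_mk' Q' (K'.map f)
    rwa [Subgroup.comap_map_eq_self (by rw [hker]; exact hQK')] at this
  apply ih (Nat.card (N ⧸ Q')) ?_ rfl (H'.map f) (K'.map f) ?_ ?_ ?_ ?_
  · have h1 := Subgroup.card_eq_card_quotient_mul_card_subgroup Q'
    have h2 : Nat.card N ≤ Nat.card G := Subgroup.card_le_card_group N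
    have h3 : 0 < Nat.card (N ⧸ Q') := Nat.card_pos
    rw [← hn]; nlinarith
  · have e1 : H ≃* H₁ := Subgroup.equivSMul (MulAut.conj g) H
    have e2 : H' ≃* H₁ := Subgroup.subgroupOfEquivOfLe hH₁N
    have s1 : Cfsg.IsSupersolvable H' := isSupersolvable_of_mulEquiv (e1.trans e2.symm) hH
    exact isSupersolvable_of_surjective (f.subgroupMap H')
      (MonoidHom.subgroupMap_surjective f H') s1
  · have e2 : K' ≃* K := Subgroup.subgroupOfEquivOfLe hKN
    have s1 : Cfsg.IsSupersolvable K' := isSupersolvable_of_mulEquiv e2.symm hK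
    exact isSupersolvable_of_surjective (f.subgroupMap K')
      (MonoidHom.subgroupMap_surjective f K') s1
  · apply Nat.eq_of_mul_eq_mul_right (Nat.card_pos : 0 < Nat.card Q')
    rw [← hHbar, ← hKbar, hH'card, hK'card, hcard]
  · have hdvd1 : Nat.card (H'.map f) ∣ Nat.card H := ⟨Nat.card Q', by rw [← hHbar, hH'card]⟩
    have hidx : (H'.map f).index = H'.index :=
      Subgroup.index_map_eq _ hfs (by rw [hker]; exact hQH')
    have hdvd2 : H'.index ∣ H.index := by
      have h2 := Subgroup.relIndex_mul_index hH₁N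
      have h3 : H₁.index = H.index := by
        have a1 := Subgroup.index_mul_card H₁
        have a2 := Subgroup.index_mul_card H
        rw [hH₁card] at a1
        exact Nat.eq_of_mul_eq_mul_right Nat.card_pos (a1.trans a2.symm)
      rw [← h3, ← h2]
      exact dvd_mul_right _ _
    rw [hidx]
    exact Nat.Coprime.coprime_dvd_left hdvd1 (Nat.Coprime.coprime_dvd_right hdvd2 hHall)

/-- Let H and K be supersolvable subgroups of a finite group G of the same order, that order being coprime to their index. Then H and K are conjugate in G. -/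
theorem result {G : Type*} [Group G] [Finite G] (H K : Subgroup G) (hH : Cfsg.IsSupersolvable H) (hK : Cfsg.IsSupersolvable K) (hcard : Nat.card H = Nat.card K) (hHall : (Nat.card H).Coprime H.index) : ∃ x : G, MulAut.conj x • H = K := by
  exact conj_aux _ rfl H K hH hK hcard hHall

end Cfsg.Agent.S0582
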