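import Cfsg.Statements.S0584
import Mathlib

set_option autoImplicit false
open Cfsg

namespace Cfsg.Agent.S0584

theorem sylow_normal {G : Type*} [Group G] [Finite G] (A B : Subgroup G) [A.Normal] [B.Normal]
    (hBA : B ≤ A) (hB : B ≤ frattini G) (h : Group.IsNilpotent (↥A ⧸ B.subgroupOf A))
    (p : ℕ) [Fact p.Prime] (P : Sylow p ↥A) : (P : Subgroup ↥A).Normal := by
  set BA : Subgroup ↥A := B.subgroupOf A with hBAdef
  set π : ↥A →* ↥A ⧸ BA := QuotientGroup.mk' BA with hπ
  have hπs : Function.Surjective π := QuotientGroup.mk'_surjective BA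
  have hker : π.ker = BA := QuotientGroup.ker_mk' BA
  -- the unique Sylow p-subgroup of the quotient
  have hQn : ∀ Q : Sylow p (↥A ⧸ BA), (Q : Subgroup (↥A ⧸ BA)).Normal := fun Q => inferInstance
  have huniq : ∀ Q1 Q2 : Sylow p (↥A ⧸ BA), Q1 = Q2 := by
    intro Q1 Q2
    letI := Sylow.unique_of_normal Q1 (hQn Q1)
    exact Subsingleton.elim _ _
  -- N_A := P ⊔ BA
  set NA : Subgroup ↥A := (P : Subgroup ↥A) ⊔ BA with hNA
  have hconj : ∀ g : G, NA.map (MulAut.conjNormal g : MulAut ↥A).toMonoidHom ≤ NA := by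
    intro g
    set φ : ↥A ≃* ↥A := (MulAut.conjNormal g : MulAut ↥A) with hφ
    let P' : Sylow p ↥A := P.mapSurjective (f := φ.toMonoidHom) φ.surjective
    have h1 : P.mapSurjective hπs = P'.mapSurjective hπs := huniq _ _
    have h2 : (P : Subgroup ↥A).map π = ((P : Subgroup ↥A).map φ.toMonoidHom).map π := by
      have := congrArg (fun Q : Sylow p (↥A ⧸ BA) => (Q : Subgroup (↥A ⧸ BA))) h1
      simpa [P'] using this
    have h3 : (P : Subgroup ↥A) ⊔ BA = (P : Subgroup ↥A).map φ.toMonoidHom ⊔ BA := by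
      have := congrArg (Subgroup.comap π) h2
      rwa [Subgroup.comap_map_eq, Subgroup.comap_map_eq, hker] at this
    rw [hNA, Subgroup.map_sup]
    refine sup_le ?_ ?_
    · rw [h3]; exact le_sup_left
    · refine le_sup_of_le_right ?_
      rintro _ ⟨b, hb, rfl⟩
      have hb' : (b : G) ∈ B := hb
      show ((φ.toMonoidHom b : ↥A) : G) ∈ B
      simp only [MulEquiv.coe_toMonoidHom, hφ, MulAut.conjNormal_apply]
      exact (inferInstance : B.Normal).conj_mem _ hb' g
  set N : Subgroup G := NA.map A.subtype with hN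
  have hNnormal : N.Normal := by
    refine ⟨fun n hn g => ?_⟩
    obtain ⟨a, ha, rfl⟩ := hn
    have := hconj g (Subgroup.mem_map_of_mem _ ha)
    refine ⟨_, this, ?_⟩
    simp [MulAut.conjNormal_apply]
  set PG : Subgroup G := (P : Subgroup ↥A).map A.subtype with hPG
  have hPGN : PG ≤ N := Subgroup.map_mono le_sup_left
  have hNA_le : N ≤ A := Subgroup.map_subtype_le NA
  have hNeq : N = PG ⊔ B := by
    rw [hN, hNA, Subgroup.map_sup, hBAdef, Subgroup.subgroupOf_map_subtype, inf_eq_left.mpr hBA]
  -- P_G is a Sylow p-subgroup of N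
  have hpg : IsPGroup p (PG.subgroupOf N) := by
    have : IsPGroup p PG := P.isPGroup'.map A.subtype
    exact this.comap_of_injective N.subtype (Subgroup.subtype_injective N)
  have hidx : ¬ p ∣ (PG.subgroupOf N).index := by
    have h1 : PG.relIndex N * N.relIndex A = PG.relIndex A := Subgroup.relIndex_mul_relIndex _ _ _ hPGN hNA_le
    have h2 : PG.relIndex A = (P : Subgroup ↥A).index := by
      rw [Subgroup.relIndex, hPG]
      congr 1
      exact Subgroup.comap_map_eq_self_of_injective (Subgroup.subtype_injective A) _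
    intro hdvd
    apply P.not_dvd_index
    rw [← h2, ← h1]
    exact Dvd.dvd.mul_right hdvd _
  let PN : Sylow p ↥N := hpg.toSylow hidx
  have hfr := Sylow.normalizer_sup_eq_top PN
  have hPNmap : (PN : Subgroup ↥N).map N.subtype = PG := by
    show (PG.subgroupOf N).map N.subtype = PG
    rw [Subgroup.subgroupOf_map_subtype, inf_eq_left.mpr hPGN]
  rw [hPNmap, hNeq] at hfr
  have h4 : Subgroup.normalizer (PG : Set G) ⊔ frattini G = ⊤ := by
    rw [eq_top_iff, ← hfr]
    refine sup_le le_sup_left (sup_le (le_sup_of_le_left Subgroup.le_normalizer) (le_sup_of_le_right hB))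
  have h5 : Subgroup.normalizer (PG : Set G) = ⊤ := frattini_nongenerating h4
  have h6 : PG.Normal := Subgroup.normalizer_eq_top_iff.mp h5
  exact h6.of_map_subtype

theorem result {G : Type*} [Group G] [Finite G] (A B : Subgroup G) [A.Normal] [B.Normal] (hBA : B ≤ A) (hB : B ≤ frattini G) (h : Group.IsNilpotent (↥A ⧸ B.subgroupOf A)) : Group.IsNilpotent A := by
  have q := (Group.isNilpotent_of_finite_tfae (G := ↥A)).out 0 3
  rw [q]
  intro p hp P
  exact sylow_normal A B hBA hB h p P

end Cfsg.Agent.S0584
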