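import Cfsg.Statements.S0592
import Cfsg.Agent.Helper26.QuadCore

set_option autoImplicit false
open Cfsg

namespace Cfsg.Agent.S0592

/-- Two quadratically acting generators of a linear group that is not a p-group, with the p'-part of the order of their product dividing q - 1, give a homomorphism onto a subgroup of SL(2, q) that is not a p-group. -/
theorem result {K : Type*} [Field K] [Fintype K] {p : ℕ} [Fact p.Prime] [CharP K p] {W : Type*} [AddCommGroup W] [Module K W] [FiniteDimensional K W] [Finite W] [Nontrivial W] (H : Subgroup (W ≃ₗ[K] W)) (a b : W ≃ₗ[K] W) (hH : H = Subgroup.closure {a, b}) (ha : ∀ w : W, a (a w - w) = a w - w) (hb : ∀ w : W, b (b w - w) = b w - w) (hnp : ¬ IsPGroup p H) (hk : ∃ e k : ℕ, orderOf (a * b) = p ^ e * k ∧ k ∣ Fintype.card K - 1) : ∃ φ : H →* Matrix.SpecialLinearGroup (Fin 2) K, ¬ IsPGroup p φ.range := by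
  classical
  obtain ⟨e, k, hek, hkq⟩ := hk
  have hq1 : 1 < Fintype.card K := Fintype.one_lt_card
  have hk0 : k ≠ 0 := by
    rintro rfl
    rw [zero_dvd_iff] at hkq
    omega
  have hpp : p.Prime := Fact.out
  set n := orderOf (a * b) with hn
  have hn0 : 0 < n := by
    rw [hek]
    exact Nat.mul_pos (pow_pos hpp.pos e) (Nat.pos_of_ne_zero hk0)
  -- splitting
  have hsplit : (Polynomial.X ^ n - 1 : Polynomial K).Splits := by
    have h1 : (Polynomial.X ^ Fintype.card K - Polynomial.X : Polynomial K).Splits := by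
      rw [Polynomial.splits_iff_card_roots, FiniteField.roots_X_pow_card_sub_X,
        FiniteField.X_pow_card_sub_X_natDegree_eq K hq1]
      simp
    have h2 : (Polynomial.X ^ (Fintype.card K - 1) - 1 : Polynomial K).Splits := by
      apply h1.of_dvd (FiniteField.X_pow_card_sub_X_ne_zero K hq1)
      refine ⟨Polynomial.X, ?_⟩
      have : Fintype.card K = (Fintype.card K - 1) + 1 := by omega
      conv_lhs => rw [this, pow_succ]
      ring
    have h3 : (Polynomial.X ^ k - 1 : Polynomial K).Splits := by
      apply h2.of_dvd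
      · have := Polynomial.X_pow_sub_C_ne_zero (show 0 < Fintype.card K - 1 by omega) (1 : K)
        simpa using this
      · obtain ⟨m, hm⟩ := hkq
        rw [hm, pow_mul]
        have := sub_dvd_pow_sub_pow ((Polynomial.X : Polynomial K) ^ k) 1 m
        simpa using this
    have h4 : (Polynomial.X ^ n - 1 : Polynomial K) = (Polynomial.X ^ k - 1) ^ p ^ e := by
      rw [sub_pow_char_pow, one_pow, ← pow_mul, hek, mul_comm]
    rw [h4]
    exact h3.pow _
  -- the generators in `H`
  have haH : a ∈ H := hH ▸ Subgroup.subset_closure (Set.mem_insert _ _)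
  have hbH : b ∈ H := hH ▸ Subgroup.subset_closure (Set.mem_insert_of_mem _ rfl)
  have hgen : Subgroup.closure ({(⟨a, haH⟩ : H), ⟨b, hbH⟩} : Set H) = ⊤ := by
    rw [eq_top_iff]
    rintro ⟨x, hx⟩ -
    have hx' : x ∈ Subgroup.closure ({a, b} : Set (W ≃ₗ[K] W)) := hH ▸ hx
    have : ∀ y (hy : y ∈ Subgroup.closure ({a, b} : Set (W ≃ₗ[K] W))),
        (⟨y, hH ▸ hy⟩ : H) ∈ Subgroup.closure ({(⟨a, haH⟩ : H), ⟨b, hbH⟩} : Set H) := by
      intro y hy
      induction hy using Subgroup.closure_induction with
      | mem y hy =>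
        apply Subgroup.subset_closure
        rcases hy with rfl | hy
        · exact Set.mem_insert _ _
        · rw [Set.mem_singleton_iff] at hy
          subst hy
          exact Set.mem_insert_of_mem _ rfl
      | one => exact Subgroup.one_mem _
      | mul y z hy hz ihy ihz => exact Subgroup.mul_mem _ ihy ihz
      | inv y hy ihy => exact Subgroup.inv_mem _ ihy
    exact this x hx'
  let ρ : H →* Module.End K W :=
    { toFun := fun h => (h : W ≃ₗ[K] W).toLinearMap
      map_one' := rfl
      map_mul' := fun g h => rfl }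
  have hA : Cfsg.Agent.Helper26.IsQuadEnd (ρ ⟨a, haH⟩) := fun w => ha w
  have hB : Cfsg.Agent.Helper26.IsQuadEnd (ρ ⟨b, hbH⟩) := fun w => hb w
  have habn : ((⟨a, haH⟩ : H) * ⟨b, hbH⟩) ^ n = 1 := by
    apply Subtype.ext
    show (a * b) ^ n = 1
    exact pow_orderOf_eq_one _
  have hnp' : ¬ Cfsg.Agent.Helper26.IsPRep p ρ := by
    intro hP
    apply hnp
    intro h
    obtain ⟨j, hj⟩ := hP h
    refine ⟨j, ?_⟩
    apply Subtype.ext
    apply LinearEquiv.toLinearMap_injective
    exact hj
  exact Cfsg.Agent.Helper26.exists_hom_sl2 p _ _ hgen n hn0 habn hsplit _ W ρ rfl hA hB hnp'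

end Cfsg.Agent.S0592
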