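import Cfsg.Statements.S0593
import Cfsg.Agent.Helper26.QuadStable
import Cfsg.Agent.Helper14.PCore

set_option autoImplicit false
open Cfsg

namespace Cfsg.Agent.S0593

/-- For odd p, a faithful group on an elementary abelian p-group generated by two quadratically acting elements is a p-group or has non-abelian Sylow 2-subgroups. -/
theorem result {G : Type*} [Group G] [Finite G] {p : ℕ} [Fact p.Prime] (hp : p ≠ 2) (V H : Subgroup G) (hV : Cfsg.IsElementaryAbelian p V) (hHV : H ≤ Subgroup.normalizer (V : Set G)) (hf : H ⊓ Subgroup.centralizer (V : Set G) = ⊥) (a b : G) (hab : H = Subgroup.closure {a, b}) (ha : ⁅⁅V, Subgroup.zpowers a⁆, Subgroup.zpowers a⁆ = ⊥) (hb : ⁅⁅V, Subgroup.zpowers b⁆, Subgroup.zpowers b⁆ = ⊥) (hnp : ¬ IsPGroup p H) (T : Sylow 2 H) : ¬ IsMulCommutative T := by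
  intro hT
  obtain ⟨hVc, hVp⟩ := hV
  haveI := hVc
  have hTc : ∀ x ∈ (T : Subgroup H), ∀ y ∈ (T : Subgroup H), Commute x y := by
    intro x hx y hy
    have := hT.is_comm.comm ⟨x, hx⟩ ⟨y, hy⟩
    exact congrArg Subtype.val this
  have h2 : Cfsg.Agent.Helper26.Ab2 H := Cfsg.Agent.Helper26.ab2_of_sylow T hTc
  have haH : a ∈ H := hab ▸ Subgroup.subset_closure (Set.mem_insert _ _)
  have hbH : b ∈ H := hab ▸ Subgroup.subset_closure (Set.mem_insert_of_mem _ rfl)
  obtain ⟨Da, hDan, _, hDa2, hDa3⟩ :=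
    Cfsg.Agent.Helper26.exists_normal_of_quad_sub hp V H hVp hHV h2 a haH ha
  obtain ⟨Db, hDbn, _, hDb2, hDb3⟩ :=
    Cfsg.Agent.Helper26.exists_normal_of_quad_sub hp V H hVp hHV h2 b hbH hb
  have hDap := Cfsg.Agent.Helper26.isPGroup_of_pow_mem_centralizer (p := p) V H hf Da hDa2
  have hDbp := Cfsg.Agent.Helper26.isPGroup_of_pow_mem_centralizer (p := p) V H hf Db hDb2
  obtain ⟨P⟩ : Nonempty (Sylow p H) := inferInstance
  have hDaP : Da ≤ (P : Subgroup H) :=
    (Cfsg.Agent.Helper14.le_pCore p hDan hDap).trans (Cfsg.Agent.Helper14.pCore_le_sylow p P)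
  have hDbP : Db ≤ (P : Subgroup H) :=
    (Cfsg.Agent.Helper14.le_pCore p hDbn hDbp).trans (Cfsg.Agent.Helper14.pCore_le_sylow p P)
  apply hnp
  have htop : (⊤ : Subgroup H) ≤ (P : Subgroup H) := by
    rw [← Cfsg.Agent.Helper26.closure_pair_subtype_eq_top H a b hab haH hbH, Subgroup.closure_le]
    intro x hx
    rcases hx with rfl | hx
    · exact hDaP hDa3
    · rw [Set.mem_singleton_iff] at hx
      subst hx
      exact hDbP hDb3
  intro g
  obtain ⟨k, hk⟩ := P.2 ⟨g, htop (Subgroup.mem_top g)⟩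
  refine ⟨k, ?_⟩
  have := congrArg Subtype.val hk
  simpa using this

end Cfsg.Agent.S0593
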