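import Cfsg.Statements.S0595
import Cfsg.Agent.Helper26.QuadStable
import Cfsg.Agent.Helper14.PCore

set_option autoImplicit false
open Cfsg

namespace Cfsg.Agent.S0595

/-- For odd p, a faithful action on an elementary abelian p-group that is not p-stable forces non-abelian Sylow 2-subgroups. -/
theorem result {G : Type*} [Group G] [Finite G] {p : ℕ} [Fact p.Prime] (hp : p ≠ 2) (V H : Subgroup G) (hV : Cfsg.IsElementaryAbelian p V) (hHV : H ≤ Subgroup.normalizer (V : Set G)) (hf : H ⊓ Subgroup.centralizer (V : Set G) = ⊥) (a : G) (haH : a ∈ H) (hq : ⁅⁅V, Subgroup.zpowers a⁆, Subgroup.zpowers a⁆ = ⊥) (hna : a ∉ (Cfsg.pCore p H).map H.subtype) (T : Sylow 2 H) : ¬ IsMulCommutative T := by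
  intro hT
  obtain ⟨hVc, hVp⟩ := hV
  haveI := hVc
  have hTc : ∀ x ∈ (T : Subgroup H), ∀ y ∈ (T : Subgroup H), Commute x y := by
    intro x hx y hy
    have := hT.is_comm.comm ⟨x, hx⟩ ⟨y, hy⟩
    exact congrArg Subtype.val this
  have h2 : Cfsg.Agent.Helper26.Ab2 H := Cfsg.Agent.Helper26.ab2_of_sylow T hTc
  obtain ⟨D, hDn, _, hD2, hD3⟩ :=
    Cfsg.Agent.Helper26.exists_normal_of_quad_sub hp V H hVp hHV h2 a haH hq
  have hDp := Cfsg.Agent.Helper26.isPGroup_of_pow_mem_centralizer (p := p) V H hf D hD2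
  apply hna
  exact ⟨⟨a, haH⟩, Cfsg.Agent.Helper14.le_pCore p hDn hDp hD3, rfl⟩

end Cfsg.Agent.S0595
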