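import Cfsg.Statements.S0597
import Cfsg.Agent.Helper3.SubnormalJoin
import Cfsg.Agent.Helper7.Fitting
import Cfsg.Agent.Helper14.Stability2
import Cfsg.Agent.Helper10.KMax
import Cfsg.Agent.Helper26.Replacement
import Cfsg.Agent.Lead.Coprime3

set_option autoImplicit false
open Cfsg
open scoped commutatorElement

namespace Cfsg.Agent.S0597

/-- If two subnormal subgroups of a faithful group on an elementary abelian p-group satisfy [V, E₁, E₂] = 1, then their commutator lies in the largest normal p-subgroup. -/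
theorem result {G : Type*} [Group G] [Finite G] {p : ℕ} [Fact p.Prime] (V H : Subgroup G) (hV : Cfsg.IsElementaryAbelian p V) (hHV : H ≤ Subgroup.normalizer (V : Set G)) (hf : H ⊓ Subgroup.centralizer (V : Set G) = ⊥) (E₁ E₂ : Subgroup G) (h₁ : E₁ ≤ H) (h₂ : E₂ ≤ H) (hs₁ : (E₁.subgroupOf H).IsSubnormal) (hs₂ : (E₂.subgroupOf H).IsSubnormal) (hc : ⁅⁅V, E₁⁆, E₂⁆ = ⊥) : ⁅E₁, E₂⁆ ≤ (Cfsg.pCore p H).map H.subtype := by
  set W : Subgroup G := ⁅V, E₁⁆ with hW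
  have hE₁V : E₁ ≤ Subgroup.normalizer (V : Set G) := h₁.trans hHV
  have hE₂V : E₂ ≤ Subgroup.normalizer (V : Set G) := h₂.trans hHV
  have hWV : W ≤ V := Cfsg.Agent.Helper26.commutator_le_of_le_of_le_normalizer le_rfl hE₁V
  have hE₁W : E₁ ≤ Subgroup.normalizer (W : Set G) := Cfsg.Agent.Lead.le_normalizer_commutator_right V E₁
  have hE₂W : E₂ ≤ Subgroup.centralizer (W : Set G) := by
    rw [Subgroup.le_centralizer_iff, ← Subgroup.commutator_eq_bot_iff_le_centralizer]; exact hc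
  -- conjugation by elements of E₁ preserves W, both directions
  have hconjW : ∀ x ∈ E₁, ∀ w ∈ W, x * w * x⁻¹ ∈ W := fun x hx w hw =>
    (Subgroup.mem_normalizer_iff.mp (hE₁W hx) w).mp hw
  -- generators of L centralize W
  have hgenW : ∀ x ∈ E₁, ∀ y ∈ E₂, ⁅x, y⁆ ∈ Subgroup.centralizer (W : Set G) := by
    intro x hx y hy
    rw [Subgroup.mem_centralizer_iff]
    intro w hw
    have hy1 : ∀ w ∈ W, w * y = y * w := fun w hw => Subgroup.mem_centralizer_iff.mp (hE₂W hy) w hw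
    have hw' : x⁻¹ * w * x ∈ W := by
      have := hconjW x⁻¹ (E₁.inv_mem hx) w hw
      simpa using this
    have h1 := hy1 _ hw'
    have h2 : w * y⁻¹ = y⁻¹ * w := by
      have := hy1 w hw
      calc w * y⁻¹ = y⁻¹ * (y * w) * y⁻¹ := by group
        _ = y⁻¹ * (w * y) * y⁻¹ := by rw [this]
        _ = y⁻¹ * w := by group
    rw [commutatorElement_def]
    calc w * (x * y * x⁻¹ * y⁻¹) = x * ((x⁻¹ * w * x) * y) * x⁻¹ * y⁻¹ := by group
      _ = x * (y * (x⁻¹ * w * x)) * x⁻¹ * y⁻¹ := by rw [h1]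
      _ = x * y * x⁻¹ * (w * y⁻¹) := by group
      _ = x * y * x⁻¹ * (y⁻¹ * w) := by rw [h2]
      _ = x * y * x⁻¹ * y⁻¹ * w := by group
  have hLW : ⁅E₁, E₂⁆ ≤ Subgroup.centralizer (W : Set G) := by
    rw [Subgroup.commutator_le]; exact hgenW
  -- generators of L act trivially on V / W
  have htriv₁ : ∀ x ∈ E₁, ∀ v ∈ V, x * v * x⁻¹ * v⁻¹ ∈ W := by
    intro x hx v hv
    have : ⁅v, x⁆ ∈ W := Subgroup.commutator_mem_commutator hv hx
    have h2 := W.inv_mem this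
    rw [commutatorElement_def] at h2
    have e : (v * x * v⁻¹ * x⁻¹)⁻¹ = x * v * x⁻¹ * v⁻¹ := by group
    rwa [e] at h2
  have hcV : ∀ g ∈ Subgroup.normalizer (V : Set G), ∀ v ∈ V, g * v * g⁻¹ ∈ V := fun g hg v hv =>
    (Subgroup.mem_normalizer_iff.mp hg v).mp hv
  have hgenV : ∀ x ∈ E₁, ∀ y ∈ E₂, ∀ v ∈ V, ⁅⁅x, y⁆, v⁆ ∈ W := by
    intro x hx y hy v hv
    -- v₁ = y⁻¹ v y ∈ V
    have hyn := hE₂V hy
    have hxn := hE₁V hx
    have hv₁ : y⁻¹ * v * y ∈ V := by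
      have := hcV y⁻¹ (Subgroup.inv_mem _ hyn) v hv
      simpa using this
    -- w₁ = x⁻¹ v₁ x v₁⁻¹ ∈ W
    have hw₁ : x⁻¹ * (y⁻¹ * v * y) * x * (y⁻¹ * v * y)⁻¹ ∈ W := by
      have := htriv₁ x⁻¹ (E₁.inv_mem hx) _ hv₁
      simpa using this
    set w₁ := x⁻¹ * (y⁻¹ * v * y) * x * (y⁻¹ * v * y)⁻¹ with hw₁def
    have hyw : w₁ * y = y * w₁ := Subgroup.mem_centralizer_iff.mp (hE₂W hy) w₁ hw₁
    have hyw' : y * w₁ * y⁻¹ = w₁ := by rw [← hyw]; group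
    -- x (w₁ v) x⁻¹ = (x w₁ x⁻¹)(x v x⁻¹ v⁻¹) v
    have h3 : x * w₁ * x⁻¹ ∈ W := hconjW x hx w₁ hw₁
    have h4 : x * v * x⁻¹ * v⁻¹ ∈ W := htriv₁ x hx v hv
    have e : ⁅⁅x, y⁆, v⁆ = (x * w₁ * x⁻¹) * (x * v * x⁻¹ * v⁻¹) := by
      have e1 : x * y * x⁻¹ * y⁻¹ * v * (x * y * x⁻¹ * y⁻¹)⁻¹ =
          x * (y * (x⁻¹ * (y⁻¹ * v * y) * x) * y⁻¹) * x⁻¹ := by group
      have e2 : x⁻¹ * (y⁻¹ * v * y) * x = w₁ * (y⁻¹ * v * y) := by rw [hw₁def]; group
      have e3 : y * (w₁ * (y⁻¹ * v * y)) * y⁻¹ = (y * w₁ * y⁻¹) * v := by group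
      rw [commutatorElement_def, commutatorElement_def, e1, e2, e3, hyw']
      group
    rw [e]
    exact W.mul_mem h3 h4
  have hLV : ⁅⁅E₁, E₂⁆, V⁆ ≤ W := by
    rw [Subgroup.commutator_def E₁ E₂]
    apply Cfsg.Agent.Helper10.commutator_closure_le
    · intro g hg w hw
      have hg' : g ∈ Subgroup.centralizer (W : Set G) := by
        apply hLW
        rw [Subgroup.commutator_def E₁ E₂]; exact hg
      have := Subgroup.mem_centralizer_iff.mp hg' w hw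
      have e : g * w * g⁻¹ = w := by rw [← this]; group
      rw [e]; exact hw
    · rintro s ⟨x, hx, y, hy, rfl⟩ v hv
      exact hgenV x hx y hy v hv
  -- iterated commutator vanishes
  have hLnV : ⁅E₁, E₂⁆ ≤ Subgroup.normalizer (V : Set G) :=
    (Subgroup.commutator_le.mpr (fun x hx y hy => by
      have hx' := hE₁V hx
      have hy' := hE₂V hy
      rw [commutatorElement_def]
      exact Subgroup.mul_mem _ (Subgroup.mul_mem _ (Subgroup.mul_mem _ hx' hy') (Subgroup.inv_mem _ hx'))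
        (Subgroup.inv_mem _ hy')))
  have hiter : Cfsg.iterCommutator V ⁅E₁, E₂⁆ 2 = ⊥ := by
    show ⁅⁅V, ⁅E₁, E₂⁆⁆, ⁅E₁, E₂⁆⁆ = ⊥
    rw [eq_bot_iff]
    calc ⁅⁅V, ⁅E₁, E₂⁆⁆, ⁅E₁, E₂⁆⁆ ≤ ⁅W, ⁅E₁, E₂⁆⁆ := by
          apply Subgroup.commutator_mono _ le_rfl
          rw [Subgroup.commutator_comm]; exact hLV
      _ = ⊥ := by
          rw [Subgroup.commutator_comm, Subgroup.commutator_eq_bot_iff_le_centralizer]; exact hLW
  have hLH : ⁅E₁, E₂⁆ ≤ H := by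
    rw [Subgroup.commutator_le]
    intro x hx y hy
    rw [commutatorElement_def]
    exact H.mul_mem (H.mul_mem (H.mul_mem (h₁ hx) (h₂ hy)) (H.inv_mem (h₁ hx))) (H.inv_mem (h₂ hy))
  have hVp : IsPGroup p V := Cfsg.Agent.Helper26.isPGroup_of_isElementaryAbelian hV
  obtain ⟨s, hs⟩ := IsPGroup.iff_card.mp hVp
  have hLp : ∀ l ∈ ⁅E₁, E₂⁆, l ^ (p ^ (s * 2)) = 1 := by
    intro l hl
    have h1 := Cfsg.Agent.Helper14.pow_mem_centralizer_of_iterCommutator (p := p) V ⁅E₁, E₂⁆ hLnV 2 hiter l hl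
    rw [hs, ← pow_mul] at h1
    have h2 : l ^ (p ^ (s * 2)) ∈ H ⊓ Subgroup.centralizer (V : Set G) :=
      ⟨H.pow_mem (hLH hl) _, h1⟩
    rw [hf, Subgroup.mem_bot] at h2
    exact h2
  -- now inside ↥H
  set E₁' : Subgroup H := E₁.subgroupOf H with hE₁'
  set E₂' : Subgroup H := E₂.subgroupOf H with hE₂'
  have hJ : (E₁' ⊔ E₂').IsSubnormal := Cfsg.Agent.Helper3.subnormal_sup hs₁ hs₂
  have hLJ : ⁅E₁', E₂'⁆ ≤ E₁' ⊔ E₂' := by
    rw [Subgroup.commutator_le]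
    intro x hx y hy
    rw [commutatorElement_def]
    have hx' : x ∈ E₁' ⊔ E₂' := Subgroup.mem_sup_left hx
    have hy' : y ∈ E₁' ⊔ E₂' := Subgroup.mem_sup_right hy
    exact Subgroup.mul_mem _ (Subgroup.mul_mem _ (Subgroup.mul_mem _ hx' hy') (Subgroup.inv_mem _ hx'))
      (Subgroup.inv_mem _ hy')
  have hJN : E₁' ⊔ E₂' ≤ Subgroup.normalizer ((⁅E₁', E₂'⁆ : Subgroup H) : Set H) :=
    sup_le (Cfsg.Agent.Lead.le_normalizer_commutator_left E₁' E₂')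
      (Cfsg.Agent.Lead.le_normalizer_commutator_right E₁' E₂')
  have hLsub : (⁅E₁', E₂'⁆ : Subgroup H).IsSubnormal :=
    Subgroup.IsSubnormal.step _ _ hLJ hJ (Subgroup.normal_subgroupOf_of_le_normalizer hJN)
  have hmap : (⁅E₁', E₂'⁆ : Subgroup H).map H.subtype = ⁅E₁, E₂⁆ := by
    rw [Subgroup.map_commutator, hE₁', hE₂', Subgroup.map_subgroupOf_eq_of_le h₁,
      Subgroup.map_subgroupOf_eq_of_le h₂]
  have hL'p : IsPGroup p (⁅E₁', E₂'⁆ : Subgroup H) := by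
    intro l
    refine ⟨s * 2, ?_⟩
    have hl : ((l : H) : G) ∈ ⁅E₁, E₂⁆ := by
      rw [← hmap]; exact ⟨l, l.2, rfl⟩
    have := hLp _ hl
    apply Subtype.ext
    apply Subtype.ext
    simpa using this
  have hle := Cfsg.Agent.Helper7.subnormal_pGroup_le_pCore hLsub hL'p
  rw [← hmap]
  exact Subgroup.map_mono hle

end Cfsg.Agent.S0597
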