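import Cfsg.Statements.S0609
import Cfsg.Agent.Lead.TNC6
import Cfsg.Agent.Lead.Coprime
import Cfsg.Agent.Helper7.PPrimeCore
import Cfsg.Agent.Helper10.PConstrained
import Cfsg.Agent.Helper20.EqOrdC

set_option autoImplicit false
open Cfsg

namespace Cfsg.Agent.S0609

open Subgroup Pointwise

section gen
variable {G H : Type*} [Group G] [Group H]

theorem map_center_of_injOn (f : G →* H) (S : Subgroup G) (hinj : Set.InjOn f (S : Set G)) :
    (S ⊓ centralizer (S : Set G)).map f =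
      S.map f ⊓ centralizer ((S.map f : Subgroup H) : Set H) := by
  ext y
  constructor
  · rintro ⟨x, ⟨hxS, hxC⟩, rfl⟩
    refine ⟨⟨x, hxS, rfl⟩, ?_⟩
    refine mem_centralizer_iff.mpr ?_
    rintro _ ⟨s, hs, rfl⟩
    rw [← map_mul, ← map_mul, mem_centralizer_iff.mp hxC s hs]
  · rintro ⟨⟨x, hxS, rfl⟩, hC⟩
    refine ⟨x, ⟨hxS, ?_⟩, rfl⟩
    refine mem_centralizer_iff.mpr ?_
    intro s hs
    have h1 := mem_centralizer_iff.mp hC (f s) ⟨s, hs, rfl⟩
    rw [← map_mul, ← map_mul] at h1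
    exact hinj (S.mul_mem hs hxS) (S.mul_mem hxS hs) h1

theorem omegaOne_map_of_injOn (p : ℕ) (f : G →* H) (S Z : Subgroup G) (hZS : Z ≤ S)
    (hinj : Set.InjOn f (S : Set G)) :
    (Cfsg.omegaOne p Z).map f = Cfsg.omegaOne p (Z.map f) := by
  unfold Cfsg.omegaOne
  rw [MonoidHom.map_closure]
  congr 1
  ext y
  constructor
  · rintro ⟨x, ⟨hxZ, hxp⟩, rfl⟩
    exact ⟨⟨x, hxZ, rfl⟩, by rw [← map_pow, hxp, map_one]⟩
  · rintro ⟨⟨x, hxZ, rfl⟩, hyp⟩
    refine ⟨x, ⟨hxZ, ?_⟩, rfl⟩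
    apply hinj (S.pow_mem (hZS hxZ) p) (S.one_mem)
    rw [map_pow, hyp, map_one]

end gen

section lift
variable {G : Type*} [Group G] [Finite G] {p : ℕ} [Fact p.Prime]

theorem lift_normalizer (K : Subgroup G) [K.Normal] (hK : (Nat.card K).Coprime p)
    (D : Subgroup G) (hD : IsPGroup p D) (g : G)
    (hg : (QuotientGroup.mk' K g) ∈
      normalizer ((D.map (QuotientGroup.mk' K) : Subgroup (G ⧸ K)) : Set (G ⧸ K))) :
    ∃ k ∈ K, ∃ n ∈ normalizer (D : Set G), g = k * n := by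
  set φ := QuotientGroup.mk' K with hφ
  have hB : MulAut.conj g • D ≤ K ⊔ D := by
    intro x hx
    obtain ⟨d, hd, rfl⟩ := (mem_smul_pointwise_iff_exists _ _ _).mp hx
    rw [MulAut.smul_def, MulAut.conj_apply]
    have h1 : φ g * φ d * (φ g)⁻¹ ∈ D.map φ :=
      (mem_normalizer_iff.mp hg (φ d)).mp ⟨d, hd, rfl⟩
    obtain ⟨d', hd', hdd⟩ := h1
    have h2 : d'⁻¹ * (g * d * g⁻¹) ∈ K := by
      rw [← QuotientGroup.eq]
      change φ d' = φ (g * d * g⁻¹)
      rw [hdd, map_mul, map_mul, map_inv]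
    have : g * d * g⁻¹ = d' * (d'⁻¹ * (g * d * g⁻¹)) := by group
    rw [this]
    exact mul_mem (mem_sup_right hd') (mem_sup_left h2)
  obtain ⟨a, ha⟩ := IsPGroup.iff_card.mp hD
  have hcop : (Nat.card D).Coprime (Nat.card K) := by
    rw [ha]; exact (Nat.Coprime.pow_right a hK).symm
  haveI : Group.IsNilpotent D := hD.isNilpotent
  have hsolv : Group.IsSolvable D := inferInstance
  have hDn : D ≤ normalizer (K : Set G) := by rw [normalizer_eq_top]; exact le_top
  obtain ⟨k, hk, hkeq⟩ := Cfsg.Agent.Lead.sz_conj_rel (A := D) (K := K) (B := MulAut.conj g • D)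
    hDn hcop (Or.inl hsolv) hB (Cfsg.Agent.Helper20.card_conj_smul g D)
  refine ⟨k, hk, k⁻¹ * g, ?_, by group⟩
  rw [Cfsg.Agent.Helper20.mem_normalizer_iff_conj_smul_eq, map_mul, mul_smul, ← hkeq, map_inv,
    inv_smul_smul]

theorem lift_centralizer (K : Subgroup G) [K.Normal] (hK : (Nat.card K).Coprime p)
    (D : Subgroup G) (hD : IsPGroup p D) (g : G)
    (hg : (QuotientGroup.mk' K g) ∈
      centralizer ((D.map (QuotientGroup.mk' K) : Subgroup (G ⧸ K)) : Set (G ⧸ K))) :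
    ∃ k ∈ K, ∃ c ∈ centralizer (D : Set G), g = k * c := by
  set φ := QuotientGroup.mk' K with hφ
  obtain ⟨k, hk, n, hn, rfl⟩ := lift_normalizer K hK D hD g (centralizer_le_normalizer _ hg)
  refine ⟨k, hk, n, ?_, rfl⟩
  have hφk : φ k = 1 := (QuotientGroup.eq_one_iff k).mpr hk
  have hφn : φ n ∈ centralizer ((D.map φ : Subgroup (G ⧸ K)) : Set (G ⧸ K)) := by
    have : φ (k * n) = φ n := by rw [map_mul, hφk, one_mul]
    rw [← this]; exact hg
  obtain ⟨a, ha⟩ := IsPGroup.iff_card.mp hD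
  have hcop : (Nat.card D).Coprime (Nat.card K) := by
    rw [ha]; exact (Nat.Coprime.pow_right a hK).symm
  have hinf : D ⊓ K = ⊥ := (disjoint_of_coprime_natCard hcop).eq_bot
  rw [mem_centralizer_iff]
  intro d hd
  have h1 : n * d * n⁻¹ ∈ D := (mem_normalizer_iff.mp hn d).mp hd
  have h2 : n * d * n⁻¹ * d⁻¹ ∈ K := by
    rw [← QuotientGroup.eq_one_iff]
    change φ (n * d * n⁻¹ * d⁻¹) = 1
    have := mem_centralizer_iff.mp hφn (φ d) ⟨d, hd, rfl⟩
    rw [map_mul, map_mul, map_mul, map_inv, map_inv, ← this]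
    group
  have h3 : n * d * n⁻¹ * d⁻¹ ∈ D ⊓ K := ⟨D.mul_mem h1 (D.inv_mem hd), h2⟩
  rw [hinf, mem_bot] at h3
  have : n * d = (n * d * n⁻¹ * d⁻¹) * (d * n) := by group
  rw [this, h3, one_mul]

end lift

/-- Thompson factorizability passes to and from the quotient by the largest normal subgroup of order prime to p. -/
theorem result {G : Type*} [Group G] [Finite G] {p : ℕ} [Fact p.Prime] : Cfsg.IsThompsonFactorizable p G ↔ Cfsg.IsThompsonFactorizable p (G ⧸ Cfsg.pPrimeCore p G) := by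
  set K := Cfsg.pPrimeCore p G with hKdef
  have hKcop : (Nat.card K).Coprime p := Cfsg.Agent.Helper19.pPrimeCore_coprime p
  set φ := QuotientGroup.mk' K with hφ
  have hsurj : Function.Surjective φ := QuotientGroup.mk'_surjective K
  have hinj : ∀ S : Sylow p G, Set.InjOn φ ((S : Subgroup G) : Set G) := by
    intro S x hx y hy hxy
    have h1 : x⁻¹ * y ∈ K := QuotientGroup.eq.mp hxy
    have h2 : x⁻¹ * y ∈ (S : Subgroup G) ⊓ K :=
      ⟨(S : Subgroup G).mul_mem ((S : Subgroup G).inv_mem hx) hy, h1⟩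
    rw [Cfsg.Agent.Helper10.sylow_inf_pPrimeCore S, mem_bot] at h2
    exact inv_mul_eq_one.mp h2
  have hΩ : ∀ S : Sylow p G,
      omegaOne p ((S : Subgroup G).map φ ⊓
        centralizer (((S : Subgroup G).map φ : Subgroup (G ⧸ K)) : Set (G ⧸ K))) =
      (omegaOne p ((S : Subgroup G) ⊓ centralizer ((S : Subgroup G) : Set G))).map φ := by
    intro S
    rw [← map_center_of_injOn φ S (hinj S), omegaOne_map_of_injOn p φ S _ inf_le_left (hinj S)]
  have hJ : ∀ S : Sylow p G, thompsonSubgroupOf p ((S : Subgroup G).map φ) =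
      (thompsonSubgroupOf p (S : Subgroup G)).map φ :=
    fun S => Cfsg.Agent.Lead.TNC.thompsonSubgroupOf_map_of_injOn φ S (hinj S)
  constructor
  · intro h Sb gb
    obtain ⟨S, rfl⟩ := Sylow.mapSurjective_surjective hsurj p Sb
    obtain ⟨g, rfl⟩ := hsurj gb
    obtain ⟨x, hx, c, hc, n, hn, rfl⟩ := h S g
    refine ⟨1, one_mem _, φ c, ?_, φ n, ?_, ?_⟩
    · rw [Sylow.coe_mapSurjective, hΩ S, Subgroup.coe_map]
      exact map_centralizer_le_centralizer_image _ φ ⟨c, hc, rfl⟩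
    · rw [Sylow.coe_mapSurjective, hJ S]
      exact le_normalizer_map φ ⟨n, hn, rfl⟩
    · have hx1 : φ x = 1 := (QuotientGroup.eq_one_iff x).mpr hx
      rw [map_mul, map_mul, hx1]
  · intro h S g
    obtain ⟨xb, hxb, cb, hcb, nb, hnb, hgb⟩ := h (S.mapSurjective hsurj) (φ g)
    rw [Sylow.coe_mapSurjective, hΩ S] at hcb
    rw [Sylow.coe_mapSurjective, hJ S] at hnb
    have hxb1 : xb = 1 := by
      rw [Cfsg.Agent.Helper7.pPrimeCore_quotient_eq_bot, mem_bot] at hxb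
      exact hxb
    obtain ⟨c', rfl⟩ := hsurj cb
    obtain ⟨n', rfl⟩ := hsurj nb
    have hΩle : omegaOne p ((S : Subgroup G) ⊓ centralizer ((S : Subgroup G) : Set G)) ≤ S := by
      unfold Cfsg.omegaOne
      rw [closure_le]
      intro x hx
      exact hx.1.1
    have hΩp := S.isPGroup'.to_le hΩle
    have hJp := S.isPGroup'.to_le (Cfsg.Agent.Helper26.thompsonSubgroupOf_le p (S : Subgroup G))
    obtain ⟨k1, hk1, c, hc, rfl⟩ := lift_centralizer K hKcop _ hΩp c' hcb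
    obtain ⟨k2, hk2, n, hn, rfl⟩ := lift_normalizer K hKcop _ hJp n' hnb
    have hk0 : g * ((k1 * c) * (k2 * n))⁻¹ ∈ K := by
      rw [← QuotientGroup.eq_one_iff]
      change φ (g * ((k1 * c) * (k2 * n))⁻¹) = 1
      rw [map_mul, hgb, hxb1, one_mul, map_inv, ← map_mul, mul_inv_cancel]
    have hnorm : K.Normal := inferInstance
    refine ⟨g * ((k1 * c) * (k2 * n))⁻¹ * k1 * (c * k2 * c⁻¹),
      K.mul_mem (K.mul_mem hk0 hk1) (hnorm.conj_mem k2 hk2 c), c, hc, n, hn, ?_⟩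
    group

end Cfsg.Agent.S0609
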