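import Cfsg.Statements.S0623
import Cfsg.Agent.Helper26.StableQuad

set_option autoImplicit false
open Cfsg
open scoped commutatorElement

namespace Cfsg.Agent.S0623

/-- No element of a finite p-group acts quadratically and nontrivially on the stable normal closure W(S). -/
theorem result {S : Type*} [Group S] [Finite S] {p : ℕ} [Fact p.Prime] (hS : IsPGroup p S) (x : S) (hq : ⁅⁅Cfsg.stableNormalClosure p S, Subgroup.zpowers x⁆, Subgroup.zpowers x⁆ = ⊥) : ⁅Cfsg.stableNormalClosure p S, Subgroup.zpowers x⁆ = ⊥ := by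
  have hel : ∀ w ∈ Cfsg.stableNormalClosure p S, ⁅⁅w, x⁆, x⁆ = 1 := by
    intro w hw
    have h1 : ⁅⁅w, x⁆, x⁆ ∈ ⁅⁅Cfsg.stableNormalClosure p S, Subgroup.zpowers x⁆, Subgroup.zpowers x⁆ :=
      Subgroup.commutator_mem_commutator
        (Subgroup.commutator_mem_commutator hw (Subgroup.mem_zpowers x)) (Subgroup.mem_zpowers x)
    rw [hq, Subgroup.mem_bot] at h1
    exact h1
  have hcent := Cfsg.Agent.Helper26.stableNormalClosure_no_quad x hel
  rw [eq_bot_iff, Subgroup.commutator_le]
  intro w hw g hg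
  rw [Subgroup.mem_bot, commutatorElement_eq_one_iff_mul_comm]
  obtain ⟨i, rfl⟩ := hg
  have h1 : Commute x w := hcent w hw
  exact (h1.symm.zpow_right i).eq

end Cfsg.Agent.S0623
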