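import Cfsg.Statements.S0625
import Cfsg.Agent.Helper18.QuadPS5
import Cfsg.Agent.Helper26.ZJInst
open scoped commutatorElement

set_option autoImplicit false
open Cfsg

namespace Cfsg.Agent.S0625

/-- A p-separable group with p at least 5 is p-stable in the action sense. -/
theorem result {G : Type*} [Group G] [Finite G] {p : ℕ} [Fact p.Prime] (hp : 5 ≤ p) (hsep : Cfsg.IsPSolvable p G) : Cfsg.IsActionPStable p G := by
  classical
  have hp2 : p ≠ 2 := by omega
  have hp3 : p ≠ 3 := by omega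
  have hpp : p.Prime := Fact.out
  refine ⟨?_, ?_, ?_⟩
  · intro V _ hV
    exact Cfsg.Agent.Helper18.QuadPS.isPStableOn_of_psolv hp2 hp3 hsep V hV
  · intro a ha
    rw [Cfsg.Agent.Helper18.QuadPS.sectionKernel_frattini_eq']
    have hPp : IsPGroup p (Cfsg.pCore p G) := Cfsg.Agent.Helper14.pCore_isPGroup p
    have hq : ∀ x ∈ Cfsg.pCore p G, ⁅⁅x, a⁆, a⁆ ∈
        (frattini ↥(Cfsg.pCore p G)).map (Cfsg.pCore p G).subtype := by
      intro x hx
      apply ha
      exact Subgroup.commutator_mem_commutator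
        (Subgroup.commutator_mem_commutator hx (Subgroup.mem_zpowers a)) (Subgroup.mem_zpowers a)
    obtain ⟨D, hDn, hD1, hD2, hD3⟩ :=
      Cfsg.Agent.Helper18.QuadPS.exists_normal_of_quad_frat_psolv hp2 hp3 (Cfsg.pCore p G) hPp hsep a hq
    refine ⟨D, hDn, hD1, ?_, hD3⟩
    have hquot : IsPGroup p (↥D ⧸ (Cfsg.Agent.Helper14.fratStab (Cfsg.pCore p G)).subgroupOf D) := by
      intro q
      obtain ⟨x, rfl⟩ := QuotientGroup.mk_surjective q
      obtain ⟨k, hk⟩ := hD2 x.1 x.2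
      refine ⟨k, ?_⟩
      rw [← QuotientGroup.mk_pow, QuotientGroup.eq_one_iff, Subgroup.mem_subgroupOf]
      simpa using hk
    obtain ⟨n, hn⟩ := IsPGroup.iff_card.mp hquot
    refine ⟨n, ?_⟩
    rw [← hn]
    exact (Subgroup.index_eq_card _)
  · intro S V _ hV
    have h2N : Cfsg.IsPSolvable p
        ↥(Subgroup.normalizer (Cfsg.thompsonSubgroupOf p (S : Subgroup G) : Set G)) :=
      Cfsg.Agent.Helper21.PSolv.isPSolvable_subgroup hpp hsep _
    apply Cfsg.Agent.Helper18.QuadPS.isPStableOn_of_psolv hp2 hp3 h2N V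
    rw [Cfsg.Agent.Helper26.omegaCenterThompson_map_eq] at hV
    obtain ⟨A₀, hA₀⟩ := Cfsg.Agent.Helper26.famEl_nonempty p (S : Subgroup G)
    have hmem : ∀ x ∈ V, (x : G) ∈ A₀ := by
      intro x hx
      exact sInf_le hA₀ (hV (Subgroup.mem_map_of_mem _ hx))
    refine ⟨⟨⟨?_⟩⟩, ?_⟩
    · rintro ⟨x, hx⟩ ⟨y, hy⟩
      apply Subtype.ext
      apply Subtype.ext
      exact hA₀.2.1.1 _ (hmem x hx) _ (hmem y hy)
    · intro x hx
      apply Subtype.ext
      simp only [SubgroupClass.coe_pow, OneMemClass.coe_one]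
      exact hA₀.2.1.2 _ (hmem x hx)

end Cfsg.Agent.S0625
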