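import Cfsg.Statements.S0626
import Cfsg.Agent.Helper26.QuadStable2
import Cfsg.Agent.Helper26.ZJInst

set_option autoImplicit false
open Cfsg
open scoped commutatorElement

namespace Cfsg.Agent.S0626

open Subgroup in
/-- `p`-stability on a normal elementary abelian subgroup, from abelian `2`-subgroups -/
theorem isPStableOn_of_ab2 {X : Type*} [Group X] [Finite X] {p : ℕ} [Fact p.Prime] (hp : p ≠ 2)
    (h2 : Cfsg.Agent.Helper26.Ab2 X) (V : Subgroup X) [V.Normal]
    (hV : Cfsg.IsElementaryAbelian p V) : Cfsg.IsPStableOn p V := by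
  intro a hq
  have hVp : IsPGroup p V := by
    rintro ⟨x, hx⟩
    refine ⟨1, ?_⟩
    apply Subtype.ext
    simp only [pow_one, SubgroupClass.coe_pow, OneMemClass.coe_one]
    exact hV.2 x hx
  have hq' : ∀ x ∈ V, ⁅⁅x, a⁆, a⁆ ∈ (frattini ↥V).map V.subtype := by
    intro x hx
    have h1 : ⁅⁅x, a⁆, a⁆ ∈ ⁅⁅V, zpowers a⁆, zpowers a⁆ :=
      commutator_mem_commutator (commutator_mem_commutator hx (mem_zpowers a)) (mem_zpowers a)
    rw [hq, mem_bot] at h1
    rw [h1]
    exact one_mem _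
  obtain ⟨D, hDn, hD1, hD2, hD3⟩ :=
    Cfsg.Agent.Helper26.exists_normal_of_quad_frat' hp V hVp h2 a hq'
  set π := QuotientGroup.mk' (centralizer (V : Set X)) with hπ
  have hDmn : (D.map π).Normal := hDn.map π (QuotientGroup.mk'_surjective _)
  have hDmp : IsPGroup p (D.map π) := by
    rintro ⟨y, hy⟩
    obtain ⟨d, hd, rfl⟩ := Subgroup.mem_map.mp hy
    obtain ⟨k, hk⟩ := hD2 d hd
    refine ⟨k, ?_⟩
    apply Subtype.ext
    simp only [SubgroupClass.coe_pow, OneMemClass.coe_one]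
    rw [← map_pow]
    exact (QuotientGroup.eq_one_iff _).mpr hk
  exact Cfsg.Agent.Helper14.le_pCore p hDmn hDmp (Subgroup.mem_map_of_mem π hD3)

open Subgroup in
theorem sectionKernel_frattini_eq {L : Type*} [Group L] (A : Subgroup L) [A.Normal]
    [hN : ((frattini ↥A).map A.subtype).Normal] :
    Cfsg.sectionKernel A ((frattini ↥A).map A.subtype) = Cfsg.Agent.Helper14.fratStab A := by
  ext g
  unfold Cfsg.sectionKernel
  rw [mem_comap, mem_centralizer_iff, Cfsg.Agent.Helper14.mem_fratStab]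
  constructor
  · intro h a ha
    have h1 := h _ (mem_map_of_mem (QuotientGroup.mk' _) ha)
    rw [← map_mul, ← map_mul] at h1
    have h2 := QuotientGroup.eq.mp h1
    have h3 := hN.conj_mem _ h2 (g * a)
    have e : g * a * ((a * g)⁻¹ * (g * a)) * (g * a)⁻¹ = (g * a * g⁻¹ * a⁻¹) := by group
    rw [e] at h3
    exact h3
  · rintro h _ ⟨a, ha, rfl⟩
    rw [← map_mul, ← map_mul]
    apply QuotientGroup.eq.mpr
    have h3 := hN.conj_mem _ (h a ha) (g * a)⁻¹
    have e : (g * a)⁻¹ * (g * a * g⁻¹ * a⁻¹) * (g * a)⁻¹⁻¹ = (a * g)⁻¹ * (g * a) := by group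
    rw [e] at h3
    exact h3


/-- For odd p, groups whose Sylow 2-subgroups are abelian are p-stable in the action sense. -/
theorem result {G : Type*} [Group G] [Finite G] {p : ℕ} [Fact p.Prime] (hp : p ≠ 2) (hab : ∀ T : Sylow 2 G, IsMulCommutative T) : Cfsg.IsActionPStable p G := by
  classical
  have h2 : Cfsg.Agent.Helper26.Ab2 G := by
    obtain T : Sylow 2 G := default
    apply Cfsg.Agent.Helper26.ab2_of_sylow T
    intro x hx y hy
    have := (hab T).is_comm.comm (⟨x, hx⟩ : T) ⟨y, hy⟩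
    exact congrArg Subtype.val this
  refine ⟨?_, ?_, ?_⟩
  · intro V _ hV
    exact isPStableOn_of_ab2 hp h2 V hV
  · intro a ha
    rw [sectionKernel_frattini_eq]
    have hPp : IsPGroup p (Cfsg.pCore p G) := Cfsg.Agent.Helper14.pCore_isPGroup p
    have hq : ∀ x ∈ Cfsg.pCore p G, ⁅⁅x, a⁆, a⁆ ∈
        (frattini ↥(Cfsg.pCore p G)).map (Cfsg.pCore p G).subtype := by
      intro x hx
      apply ha
      exact Subgroup.commutator_mem_commutator
        (Subgroup.commutator_mem_commutator hx (Subgroup.mem_zpowers a)) (Subgroup.mem_zpowers a)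
    obtain ⟨D, hDn, hD1, hD2, hD3⟩ :=
      Cfsg.Agent.Helper26.exists_normal_of_quad_frat hp (Cfsg.pCore p G) hPp h2 a hq
    refine ⟨D, hDn, hD1, ?_, hD3⟩
    have hquot : IsPGroup p (↥D ⧸ (Cfsg.Agent.Helper14.fratStab (Cfsg.pCore p G)).subgroupOf D) := by
      intro q
      obtain ⟨x, rfl⟩ := QuotientGroup.mk_surjective q
      obtain ⟨k, hk⟩ := hD2 x.1 x.2
      refine ⟨k, ?_⟩
      rw [← QuotientGroup.mk_pow, QuotientGroup.eq_one_iff, Subgroup.mem_subgroupOf]
      simpa using hk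
    obtain ⟨n, hn⟩ := IsPGroup.iff_card.mp hquot
    refine ⟨n, ?_⟩
    rw [← hn]
    exact (Subgroup.index_eq_card _)
  · intro S V _ hV
    have h2N : Cfsg.Agent.Helper26.Ab2
        ↥(Subgroup.normalizer (Cfsg.thompsonSubgroupOf p (S : Subgroup G) : Set G)) := h2.subgroup _
    apply isPStableOn_of_ab2 hp h2N V
    rw [Cfsg.Agent.Helper26.omegaCenterThompson_map_eq] at hV
    obtain ⟨A₀, hA₀⟩ := Cfsg.Agent.Helper26.famEl_nonempty p (S : Subgroup G)
    have hmem : ∀ x ∈ V, (x : G) ∈ A₀ := by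
      intro x hx
      exact sInf_le hA₀ (hV (Subgroup.mem_map_of_mem _ hx))
    refine ⟨⟨⟨?_⟩⟩, ?_⟩
    · rintro ⟨x, hx⟩ ⟨y, hy⟩
      apply Subtype.ext
      apply Subtype.ext
      exact hA₀.2.1.1 _ (hmem x hx) _ (hmem y hy)
    · intro x hx
      apply Subtype.ext
      simp only [SubgroupClass.coe_pow, OneMemClass.coe_one]
      exact hA₀.2.1.2 _ (hmem x hx)

end Cfsg.Agent.S0626
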