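import Cfsg.Statements.S0627
import Cfsg.Agent.S0625
import Cfsg.Agent.Helper26.StableNPC
import Cfsg.Agent.Helper23.HallHigman
import Cfsg.Agent.Helper26.PStableQuot

set_option autoImplicit false
open Cfsg

namespace Cfsg.Agent.S0627

/-- In a p-separable group with p at least 5, the normalizer of W(S) supplements the largest normal subgroup of order prime to p. -/
theorem result {G : Type*} [Group G] [Finite G] {p : ℕ} [Fact p.Prime] (hp : 5 ≤ p) (hsep : Cfsg.IsPSolvable p G) (S : Sylow p G) : Cfsg.pPrimeCore p G ⊔ Subgroup.normalizer (((Cfsg.stableNormalClosure p ↥(S : Subgroup G)).map (S : Subgroup G).subtype) : Set G) = ⊤ := by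
  classical
  have hK : (Nat.card (Cfsg.pPrimeCore p G)).Coprime p := Cfsg.Agent.Helper19.pPrimeCore_coprime p
  have hsepQ : Cfsg.IsPSolvable p (G ⧸ Cfsg.pPrimeCore p G) :=
    Cfsg.Agent.Lead.isPSolvable_quotient hsep _
  have hst : Cfsg.IsActionPStable p (G ⧸ Cfsg.pPrimeCore p G) := Cfsg.Agent.S0625.result hp hsepQ
  have hc := Cfsg.Agent.Helper23.centralizer_pCore_quotient_le_of_isPSolvable hsep
  have hnorm := Cfsg.Agent.Helper26.stableW_normal hst hc
    (S.mapSurjective (QuotientGroup.mk'_surjective (Cfsg.pPrimeCore p G)))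
  rw [Sylow.coe_mapSurjective, Cfsg.Agent.Helper26.stableW_map_of_injOn _ _
    (Cfsg.Agent.Helper26.psq_injOn hK S.isPGroup')] at hnorm
  have hW : IsPGroup p ((Cfsg.stableNormalClosure p ↥(S : Subgroup G)).map
      (S : Subgroup G).subtype) := S.isPGroup'.to_le (Subgroup.map_subtype_le _)
  apply Cfsg.Agent.Helper26.psq_frattini hK hW
  rw [Cfsg.Agent.Helper26.psq_sup_eq_comap]
  exact hnorm.comap _

end Cfsg.Agent.S0627
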