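import Cfsg.Statements.S0629
import Cfsg.Agent.Helper7.PConstrained2
import Cfsg.Agent.Helper7.PComponent3
import Cfsg.Agent.Helper7.Fitting
import Cfsg.Agent.Helper23.HallHigman
import Cfsg.Agent.Lead.PSolvHall

set_option autoImplicit false
open Cfsg
open scoped Pointwise

namespace Cfsg.Agent.S0629

theorem isPSolvable_of_mulEquiv {G H : Type*} [Group G] [Group H] {p : ℕ} (e : G ≃* H)
    (hG : Cfsg.IsPSolvable p G) : Cfsg.IsPSolvable p H := by
  obtain ⟨n, K, h0, hlast, hmono, hnorm, hfac⟩ := hG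
  refine ⟨n, fun i => (K i).map e.toMonoidHom, ?_, ?_, ?_, ?_, ?_⟩
  · simp only [h0, Subgroup.map_bot]
  · simp only [hlast]
    exact Subgroup.map_top_of_surjective _ e.surjective
  · intro i j hij
    exact Subgroup.map_mono (hmono hij)
  · intro i
    exact (hnorm i).map _ e.surjective
  · intro i
    rw [Subgroup.relIndex_map_map_of_injective _ _ e.injective]
    exact hfac i


/-- A group in which the centralizer of a Sylow p-subgroup of O_{p',p}(G) is p-solvable is p-constrained. -/
theorem result {G : Type*} [Group G] [Finite G] {p : ℕ} [Fact p.Prime] (P : Sylow p ↥(Cfsg.pPrimePCore p G)) (hsol : Cfsg.IsPSolvable p ↥(Subgroup.centralizer (((P : Subgroup ↥(Cfsg.pPrimePCore p G)).map (Cfsg.pPrimePCore p G).subtype : Subgroup G) : Set G))) : Cfsg.IsPConstrained p G := by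
  open Subgroup Cfsg.Agent.Helper7 in
  rw [isPConstrained_iff, pLayer_eq_bot_iff, layer_quotient_eq_bot_iff]
  set O := Cfsg.pPrimeCore p G with hO
  set π := QuotientGroup.mk' O with hπ
  set U := Cfsg.pCore p (G ⧸ O) with hU
  obtain ⟨hdisj, hmap⟩ := sylow_pPrimePCore_props P
  set P' := (P : Subgroup (Cfsg.pPrimePCore p G)).map (Cfsg.pPrimePCore p G).subtype with hP'
  have hmap' : P'.map π = U := hmap
  have hdisj' : P' ⊓ O = ⊥ := hdisj
  have hP'p : IsPGroup p P' := P.isPGroup'.map _
  set C := centralizer (P' : Set G) with hC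
  set D := centralizer (U : Set (G ⧸ O)) with hD
  have hCD : C.map π ≤ D := by
    rintro _ ⟨c, hc, rfl⟩
    rw [hD, mem_centralizer_iff]
    intro abar habar
    rw [SetLike.mem_coe, ← hmap'] at habar
    obtain ⟨a, ha, rfl⟩ := habar
    rw [← map_mul, ← map_mul, (mem_centralizer_iff.1 hc) a ha]
  have hDC : D ≤ C.map π := by
    intro cbar hcbar
    obtain ⟨c, rfl⟩ := QuotientGroup.mk'_surjective O cbar
    have hcomm : ∀ a ∈ P', π c * π a = π a * π c := by
      intro a ha
      have : π a ∈ U := by rw [← hmap']; exact mem_map_of_mem _ ha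
      exact ((mem_centralizer_iff.1 hcbar) _ this).symm
    have hB : MulAut.conj c • P' ≤ O ⊔ P' := by
      intro x hx
      rw [Cfsg.Agent.Lead.mem_conj_smul_iff] at hx
      set a := c⁻¹ * x * c with ha
      have hxa : x = c * a * c⁻¹ := by rw [ha]; group
      have h1 : x * a⁻¹ ∈ O := by
        rw [← QuotientGroup.ker_mk' O, MonoidHom.mem_ker, hxa]
        simp only [map_mul, map_inv]
        rw [← hπ, hcomm a hx]; group
      have : x = (x * a⁻¹) * a := by group
      rw [this]
      exact mul_mem (mem_sup_left h1) (mem_sup_right hx)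
    have hcop : (Nat.card P').Coprime (Nat.card O) := by
      obtain ⟨k, hk⟩ := IsPGroup.iff_card.1 hP'p
      rw [hk]
      exact Nat.Coprime.pow_left _ (Cfsg.Agent.Helper19.pPrimeCore_coprime p).symm
    obtain ⟨u, hu, hconj⟩ := Cfsg.Agent.Lead.sz_conj_rel (K := O) (A := P') (B := MulAut.conj c • P')
      (by rw [normalizer_eq_top]; exact le_top) hcop
      (Or.inl (IsNilpotent.to_isSolvable (G := P') (h := hP'p.isNilpotent)))
      hB (Cfsg.Agent.Lead.card_conj_smul c P')
    have hd : u⁻¹ * c ∈ centralizer (P' : Set G) := by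
      rw [mem_centralizer_iff]
      intro a ha
      have ha' : a ∈ P' := ha
      have h1 : c * a * c⁻¹ ∈ MulAut.conj u • P' := by
        rw [hconj, Cfsg.Agent.Lead.mem_conj_smul_iff]
        have : c⁻¹ * (c * a * c⁻¹) * c = a := by group
        rw [this]; exact ha'
      rw [Cfsg.Agent.Lead.mem_conj_smul_iff] at h1
      set b := u⁻¹ * (c * a * c⁻¹) * u with hb
      have h2 : b * a⁻¹ ∈ O := by
        rw [← QuotientGroup.ker_mk' O, MonoidHom.mem_ker, hb]
        have hu1 : π u = 1 := (QuotientGroup.eq_one_iff u).2 hu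
        simp only [map_mul, map_inv]
        rw [← hπ, hu1, hcomm a ha']; group
      have h3 : b * a⁻¹ ∈ P' ⊓ O := mem_inf.2 ⟨P'.mul_mem h1 (P'.inv_mem ha'), h2⟩
      rw [hdisj', mem_bot] at h3
      have h4 : b = a := by
        rw [mul_inv_eq_one] at h3; exact h3
      have : a * (u⁻¹ * c) = u⁻¹ * c * a := by
        calc a * (u⁻¹ * c) = b * (u⁻¹ * c) := by rw [h4]
          _ = u⁻¹ * c * a := by rw [hb]; group
      exact this
    have hπd : π (u⁻¹ * c) = π c := by
      have hu1 : π u = 1 := (QuotientGroup.eq_one_iff u).2 hu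
      simp only [map_mul, map_inv, hu1, inv_one, one_mul]
    rw [← hπd]
    exact ⟨_, hd, rfl⟩
  have hDeq : D = C.map π := le_antisymm hDC hCD
  -- `D` is `p`-solvable
  have hDsol : Cfsg.IsPSolvable p D := by
    let f : C →* (G ⧸ O) := π.comp C.subtype
    have hrange : f.range = D := by
      rw [MonoidHom.range_comp, Subgroup.range_subtype]
      exact hDeq.symm
    have e : C ⧸ f.ker ≃* D :=
      (QuotientGroup.quotientKerEquivRange f).trans (MulEquiv.subgroupCongr hrange)
    exact isPSolvable_of_mulEquiv e (Cfsg.Agent.Lead.isPSolvable_quotient hsol f.ker)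
  have hUn : U.Normal := Cfsg.Agent.Helper14.pCore_normal p
  have hDn : D.Normal := Subgroup.normal_centralizer
  have hDO : Cfsg.pPrimeCore p D = ⊥ := by
    rw [pPrimeCore_eq_subgroupOf hDn.isSubnormal, pPrimeCore_quotient_eq_bot, Subgroup.bot_subgroupOf]
  have hHH := Cfsg.Agent.Helper23.centralizer_pCore_le_of_isPSolvable hDsol hDO
  have hcn : (Cfsg.pCore p D).Normal := Cfsg.Agent.Helper14.pCore_normal p
  have h1 : (Cfsg.pCore p D).map D.subtype ≤ U :=
    subnormal_pGroup_le_pCore (hcn.isSubnormal.trans' hDn.isSubnormal)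
      ((Cfsg.Agent.Helper14.pCore_isPGroup p).map _)
  have h2 : ∀ d : D, d ∈ centralizer (Cfsg.pCore p D : Set D) := by
    intro d
    rw [mem_centralizer_iff]
    intro q hq
    have hqU : (q : G ⧸ O) ∈ U := h1 ⟨q, hq, rfl⟩
    have := mem_centralizer_iff.mp d.2 (q : G ⧸ O) hqU
    exact Subtype.ext this
  intro d hd
  have h3 := hHH (h2 ⟨d, hd⟩)
  exact h1 ⟨⟨d, hd⟩, h3, rfl⟩

end Cfsg.Agent.S0629
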