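import Cfsg.Statements.S0631
import Cfsg.Agent.Helper7.PConstrained2
import Cfsg.Agent.Helper7.PComponent3

set_option autoImplicit false
open Cfsg

namespace Cfsg.Agent.S0631

universe u

open Cfsg.Agent.Helper7 in
/-- The `p`-layer of a group embedded as a normal subgroup in a group with trivial `p`-layer is trivial. -/
theorem pLayer_eq_bot_of_injective_normal {A X : Type u} [Group A] [Group X] [Finite A] [Finite X]
    {p : ℕ} [Fact p.Prime] (f : A →* X) (hf : Function.Injective f) (hn : f.range.Normal)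
    (hL : Cfsg.pLayer p X = ⊥) : Cfsg.pLayer p A = ⊥ := by
  unfold Cfsg.pLayer
  rw [sSup_eq_bot]
  intro K hK
  exfalso
  -- the image of `K` in `X`
  set K' : Subgroup X := K.map f with hK'
  have hKsn : K.IsSubnormal := hK.1
  have h1 : (K.map f.rangeRestrict).IsSubnormal := hKsn.map f.rangeRestrict_surjective
  have h2 : ((K.map f.rangeRestrict).map f.range.subtype).IsSubnormal :=
    h1.trans' hn.isSubnormal
  have h3 : (K.map f.rangeRestrict).map f.range.subtype = K' := by
    rw [Subgroup.map_map]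
    rfl
  have hK'sn : K'.IsSubnormal := h3 ▸ h2
  -- the quotient of `K'` is quasisimple
  let e : K ≃* K' := K.equivMapOfInjective f hf
  have he : (Cfsg.pPrimeCore p K).map e.toMonoidHom = Cfsg.pPrimeCore p K' :=
    pPrimeCore_map_equiv p e
  let e2 : K ⧸ Cfsg.pPrimeCore p K ≃* K' ⧸ Cfsg.pPrimeCore p K' :=
    QuotientGroup.congr (Cfsg.pPrimeCore p K) (Cfsg.pPrimeCore p K') e he
  have hq : Cfsg.IsQuasisimple (K'.map (QuotientGroup.mk' (Cfsg.pPrimeCore p X))) :=
    isQuasisimple_of_mulEquiv (e2.trans (quotientPPrimeCoreEquiv hK'sn))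
      (IsPComponent.isQuasisimple_quotient hK)
  have hcomp : Cfsg.IsComponent (K'.map (QuotientGroup.mk' (Cfsg.pPrimeCore p X))) :=
    ⟨hK'sn.map (QuotientGroup.mk'_surjective _), hq⟩
  have h4 := IsComponent.le_layer hcomp
  rw [pLayer_eq_bot_iff.mp hL] at h4
  exact IsComponent.ne_bot hcomp (le_bot_iff.mp h4)


/-- In a p-constrained group the normalizer and the centralizer of any p-subgroup are again p-constrained. -/
theorem result {G : Type*} [Group G] [Finite G] {p : ℕ} [Fact p.Prime] (hG : Cfsg.IsPConstrained p G) (P : Subgroup G) (hP : IsPGroup p P) : Cfsg.IsPConstrained p ↥(Subgroup.normalizer (P : Set G)) ∧ Cfsg.IsPConstrained p ↥(Subgroup.centralizer (P : Set G)) := by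
  have hL : Cfsg.pLayer p G = ⊥ := Cfsg.Agent.Helper7.isPConstrained_iff.mp hG
  have hLN : Cfsg.pLayer p ↥(Subgroup.normalizer (P : Set G)) = ⊥ :=
    (Cfsg.Agent.Helper7.pLayer_normalizer_eq_bot hL hP).1
  refine ⟨Cfsg.Agent.Helper7.isPConstrained_iff.mpr hLN, ?_⟩
  rw [Cfsg.Agent.Helper7.isPConstrained_iff]
  have hle : Subgroup.centralizer (P : Set G) ≤ Subgroup.normalizer (P : Set G) :=
    Subgroup.centralizer_le_normalizer _
  refine pLayer_eq_bot_of_injective_normal (Subgroup.inclusion hle)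
    (Subgroup.inclusion_injective hle) ?_ hLN
  -- the centralizer is normal in the normalizer
  constructor
  rintro _ ⟨c, rfl⟩ n
  refine ⟨⟨(n : G) * c * (n : G)⁻¹, ?_⟩, Subtype.ext rfl⟩
  rw [Subgroup.mem_centralizer_iff]
  intro y hy
  have hn : (n : G)⁻¹ * y * (n : G)⁻¹⁻¹ ∈ P :=
    (Subgroup.mem_normalizer_iff.mp (Subgroup.inv_mem _ n.2) y).mp hy
  have hc := Subgroup.mem_centralizer_iff.mp c.2 _ hn
  calc y * ((n : G) * c * (n : G)⁻¹)
      = (n : G) * (((n : G)⁻¹ * y * (n : G)⁻¹⁻¹) * c) * (n : G)⁻¹ := by group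
    _ = (n : G) * ((c : G) * ((n : G)⁻¹ * y * (n : G)⁻¹⁻¹)) * (n : G)⁻¹ := by rw [hc]
    _ = (n : G) * c * (n : G)⁻¹ * y := by group

end Cfsg.Agent.S0631
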