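import Cfsg.Statements.S0633
import Cfsg.Agent.Helper5.HHTm

set_option autoImplicit false
open Cfsg

namespace Cfsg.Agent.S0633

/-- Theorem B of Hall and Higman on the minimal polynomial of a p-element of order p^n in a p-solvable linear group on a nonzero vector space in characteristic p with no nontrivial normal p-subgroup: its degree is p^n, except when some p^n₀ - 1 (n₀ ≤ n) is a power of a prime q for which the Sylow q-subgroups are non-abelian, in which case the degree is at least p^(n-n₀)(p^n₀ - 1). -/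
theorem result {F : Type*} [Field F] {p : ℕ} [Fact p.Prime] [CharP F p] {V : Type*} [AddCommGroup V] [Module F V] [FiniteDimensional F V] [Nontrivial V] (H : Subgroup (V ≃ₗ[F] V)) [Finite H] (hsol : Cfsg.IsPSolvable p H) (hOp : Cfsg.pCore p H = ⊥) (x : V ≃ₗ[F] V) (hx : x ∈ H) (n : ℕ) (hn : orderOf x = p ^ n) (r : ℕ) (hr : minpoly F (x : Module.End F V) = (Polynomial.X - 1) ^ r) : r = p ^ n ∨ ∃ n₀ q m : ℕ, 1 ≤ n₀ ∧ n₀ ≤ n ∧ q.Prime ∧ 1 ≤ m ∧ p ^ n₀ - 1 = q ^ m ∧ (∀ Q : Sylow q H, ¬ IsMulCommutative Q) ∧ p ^ (n - n₀) * (p ^ n₀ - 1) ≤ r := by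
  classical
  have hp := (Fact.out : p.Prime)
  have hr0 : ((x : Module.End F V) - 1) ^ r = 0 := by
    have := minpoly.aeval F (x : Module.End F V)
    rw [hr] at this
    simpa only [map_pow, map_sub, map_one, Polynomial.aeval_X] using this
  have hxN : (x : Module.End F V) ^ (p ^ n) = 1 := by
    have h1 : x ^ (p ^ n) = 1 := by rw [← hn]; exact pow_orderOf_eq_one x
    have h2 := congrArg LinearEquiv.automorphismGroup.toLinearMapMonoidHom h1
    rw [map_pow, map_one] at h2
    exact h2
  have hrle : r ≤ p ^ n := by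
    have h1 : Polynomial.aeval (x : Module.End F V)
        ((Polynomial.X - 1 : Polynomial F) ^ (p ^ n)) = 0 := by
      simp only [map_pow, map_sub, map_one, Polynomial.aeval_X]
      rw [Cfsg.Agent.Helper5.HHT.sub_one_pow_char_pow (K := F) p _ n, hxN, sub_self]
    have h2 := minpoly.dvd F _ h1
    rw [hr] at h2
    have hne : ((Polynomial.X - 1 : Polynomial F) ^ (p ^ n)) ≠ 0 := by
      apply pow_ne_zero
      have := Polynomial.X_sub_C_ne_zero (1 : F)
      rwa [map_one] at this
    have h3 := Polynomial.natDegree_le_of_dvd h2 hne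
    have hdeg : ∀ k : ℕ, ((Polynomial.X - 1 : Polynomial F) ^ k).natDegree = k := by
      intro k
      have : (Polynomial.X - 1 : Polynomial F) = Polynomial.X - Polynomial.C 1 := by
        rw [map_one]
      rw [this, Polynomial.natDegree_pow, Polynomial.natDegree_X_sub_C, mul_one]
    rwa [hdeg, hdeg] at h3
  rcases Nat.eq_zero_or_pos n with rfl | hnpos
  · left
    have hr1 : r ≠ 0 := by
      rintro rfl
      rw [pow_zero] at hr
      exact minpoly.ne_one F _ hr
    rw [pow_zero] at hrle ⊢
    omega
  · rcases Cfsg.Agent.Helper5.HHT.thmB_linear H hsol hOp x hx n hnpos hn r hr0 with h | h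
    · left
      omega
    · right
      exact h

end Cfsg.Agent.S0633
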