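import Cfsg.Statements.S0634
import Cfsg.Agent.Helper7.PPrimeCore
import Cfsg.Agent.Helper23.HallHigman
import Cfsg.Agent.Lead.PSolvHall

set_option autoImplicit false
open Cfsg

namespace Cfsg.Agent.S0634

/-- In a p-soluble group each p-factor of the upper p-series contains its own centralizer in the corresponding quotient. -/
theorem result {G : Type*} [Group G] [Finite G] {p : ℕ} [Fact p.Prime] (hsol : Cfsg.IsPSolvable p G) (k : ℕ) : Subgroup.centralizer ((((Cfsg.upperPSeries p G (2 * k + 2)).1.map (QuotientGroup.mk' (Cfsg.upperPSeries p G (2 * k + 1)).1)) : Subgroup (G ⧸ (Cfsg.upperPSeries p G (2 * k + 1)).1)) : Set (G ⧸ (Cfsg.upperPSeries p G (2 * k + 1)).1)) ≤ (Cfsg.upperPSeries p G (2 * k + 2)).1.map (QuotientGroup.mk' (Cfsg.upperPSeries p G (2 * k + 1)).1) := by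
  set A := (Cfsg.upperPSeries p G (2 * k)).1 with hA
  set B := (Cfsg.upperPSeries p G (2 * k + 1)).1 with hB
  have hBeq : B = (Cfsg.pPrimeCore p (G ⧸ A)).comap (QuotientGroup.mk' A) := by
    rw [hB, Cfsg.upperPSeries, if_pos (even_two_mul k)]
  have hCeq : (Cfsg.upperPSeries p G (2 * k + 2)).1 =
      (Cfsg.pCore p (G ⧸ B)).comap (QuotientGroup.mk' B) := by
    have h : ¬ Even (2 * k + 1) := by
      rw [Nat.not_even_iff_odd]; exact odd_two_mul_add_one k
    show (Cfsg.upperPSeries p G ((2 * k + 1) + 1)).1 = _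
    rw [Cfsg.upperPSeries, if_neg h]
  rw [hCeq, Subgroup.map_comap_eq_self_of_surjective (QuotientGroup.mk'_surjective B)]
  -- `O_{p'}(G/B) = 1`
  have hAB : A ≤ B := by
    rw [hBeq]
    intro x hx
    rw [Subgroup.mem_comap]
    have : (QuotientGroup.mk' A) x = 1 := (QuotientGroup.eq_one_iff x).mpr hx
    rw [this]
    exact Subgroup.one_mem _
  have hmapB : B.map (QuotientGroup.mk' A) = Cfsg.pPrimeCore p (G ⧸ A) := by
    rw [hBeq, Subgroup.map_comap_eq_self_of_surjective (QuotientGroup.mk'_surjective A)]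
  let e1 : (G ⧸ A) ⧸ B.map (QuotientGroup.mk' A) ≃* G ⧸ B :=
    QuotientGroup.quotientQuotientEquivQuotient A B hAB
  let e2 : (G ⧸ A) ⧸ Cfsg.pPrimeCore p (G ⧸ A) ≃* (G ⧸ A) ⧸ B.map (QuotientGroup.mk' A) :=
    QuotientGroup.quotientMulEquivOfEq hmapB.symm
  have hbot : Cfsg.pPrimeCore p (G ⧸ B) = ⊥ := by
    rw [← Cfsg.Agent.Helper7.pPrimeCore_map_equiv p (e2.trans e1),
      Cfsg.Agent.Helper7.pPrimeCore_quotient_eq_bot, Subgroup.map_bot]
  exact Cfsg.Agent.Helper23.centralizer_pCore_le_of_isPSolvable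
    (Cfsg.Agent.Lead.isPSolvable_quotient hsol B) hbot

end Cfsg.Agent.S0634
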