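import Cfsg.Statements.S0635
import Cfsg.Agent.Lead.PLength
import Cfsg.Agent.Lead.PSolvHall
import Cfsg.Agent.S0634

set_option autoImplicit false
open Cfsg

namespace Cfsg.Agent.S0635

open Subgroup

universe u

set_option linter.style.haveILetI false

theorem aux {p : ℕ} [hp : Fact p.Prime] : ∀ (c : ℕ) (G : Type u) [Group G] [Finite G],
    Cfsg.IsPSolvable p G → ∀ S : Sylow p G, Group.nilpotencyClass ↥(S : Subgroup G) ≤ c →
    Cfsg.PLengthLE p c G := by
  intro c
  induction c with
  | zero =>
    intro G _ _ hsol S hS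
    haveI : Group.IsNilpotent (S : Subgroup G) := IsPGroup.isNilpotent S.isPGroup'
    have h0 : Group.nilpotencyClass (S : Subgroup G) = 0 := Nat.le_zero.mp hS
    have hsub : Subsingleton (S : Subgroup G) :=
      Group.nilpotencyClass_zero_iff_subsingleton.mp h0
    have hcop : (Nat.card G).Coprime p := by
      have h1 : Nat.card (S : Subgroup G) = 1 := Nat.card_of_subsingleton 1
      have h2 := (S : Subgroup G).card_mul_index
      rw [h1, one_mul] at h2
      rw [← h2]
      exact ((Nat.Prime.coprime_iff_not_dvd hp.out).mpr S.not_dvd_index).symm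
    change (Cfsg.upperPSeries p G (0 + 1)).1 = ⊤
    rw [Cfsg.Agent.Lead.upperPSeries_succ_of_even p G (by decide)]
    have h1 : Cfsg.pPrimeCore p (G ⧸ (Cfsg.upperPSeries p G 0).1) = ⊤ := by
      rw [eq_top_iff]
      apply Cfsg.Agent.Helper7.le_pPrimeCore inferInstance
      rw [Subgroup.card_top]
      exact hcop.coprime_dvd_left (Subgroup.card_quotient_dvd_card _)
    rw [h1, comap_top]
  | succ c ih =>
    intro G _ _ hsol S hS
    haveI : Group.IsNilpotent (S : Subgroup G) := IsPGroup.isNilpotent S.isPGroup'
    set A := (Cfsg.upperPSeries p G 1).1 with hA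
    set B := (Cfsg.upperPSeries p G 2).1 with hB
    have hAB : A ≤ B := Cfsg.Agent.Lead.upperPSeries_le_succ p G 1
    have hfA : Function.Surjective (QuotientGroup.mk' A) := QuotientGroup.mk'_surjective A
    have hBeq : B = (Cfsg.pCore p (G ⧸ A)).comap (QuotientGroup.mk' A) :=
      Cfsg.Agent.Lead.upperPSeries_succ_of_not_even p G (n := 1) (by decide)
    have hBmap : B.map (QuotientGroup.mk' A) = Cfsg.pCore p (G ⧸ A) := by
      rw [hBeq, map_comap_eq_self_of_surjective hfA]
    have hcent : centralizer ((B.map (QuotientGroup.mk' A) : Subgroup (G ⧸ A)) : Set (G ⧸ A)) ≤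
        B.map (QuotientGroup.mk' A) := Cfsg.Agent.S0634.result hsol 0
    -- the centre of `S` lies in `B`
    have hZ : ∀ z ∈ (S : Subgroup G), (∀ s ∈ (S : Subgroup G), s * z = z * s) → z ∈ B := by
      intro z hz hzc
      have h1 : (QuotientGroup.mk' A) z ∈
          centralizer ((B.map (QuotientGroup.mk' A) : Subgroup (G ⧸ A)) : Set (G ⧸ A)) := by
        rw [mem_centralizer_iff]
        intro y hy
        have hy' : y ∈ ((S.mapSurjective hfA : Sylow p (G ⧸ A)) : Subgroup (G ⧸ A)) := by
          rw [SetLike.mem_coe, hBmap] at hy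
          exact Cfsg.Agent.Helper14.pCore_le_sylow p _ hy
        obtain ⟨s, hs, rfl⟩ := hy'
        rw [← map_mul, ← map_mul, hzc s hs]
      obtain ⟨b, hb, hbz⟩ := hcent h1
      have h2 : b⁻¹ * z ∈ A := by
        rw [← QuotientGroup.eq_one_iff, ← QuotientGroup.mk'_apply, map_mul, map_inv, hbz]
        group
      have h3 : z = b * (b⁻¹ * z) := by group
      rw [h3]
      exact B.mul_mem hb (hAB h2)
    -- the image of `S` in `G ⧸ B`
    have hf : Function.Surjective (QuotientGroup.mk' B) := QuotientGroup.mk'_surjective B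
    let S' : Sylow p (G ⧸ B) := S.mapSurjective hf
    have hclass : Group.nilpotencyClass ↥(S' : Subgroup (G ⧸ B)) ≤ c := by
      let g : ↥(S : Subgroup G) →* ↥((S : Subgroup G).map (QuotientGroup.mk' B)) :=
        (QuotientGroup.mk' B).subgroupMap (S : Subgroup G)
      have hg : Function.Surjective g := MonoidHom.subgroupMap_surjective _ _
      have hker : center ↥(S : Subgroup G) ≤ g.ker := by
        intro z hz
        rw [MonoidHom.mem_ker]
        apply Subtype.ext
        change (QuotientGroup.mk' B) (z : G) = 1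
        rw [QuotientGroup.mk'_apply, QuotientGroup.eq_one_iff]
        apply hZ _ z.2
        intro s hs
        have := mem_center_iff.mp hz ⟨s, hs⟩
        exact congrArg Subtype.val this
      have hl : Function.Surjective (QuotientGroup.lift (center ↥(S : Subgroup G)) g hker) :=
        QuotientGroup.lift_surjective_of_surjective _ g hg hker
      have h1 := Group.nilpotencyClass_le_of_surjective _ hl
      rw [Group.nilpotencyClass_quotient_center] at h1
      have h2 : Group.nilpotencyClass ↥(S' : Subgroup (G ⧸ B)) ≤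
          Group.nilpotencyClass ↥(S : Subgroup G) - 1 := h1
      omega
    exact Cfsg.Agent.Lead.PLengthLE.of_quotient_two
      (ih (G ⧸ B) (Cfsg.Agent.Lead.isPSolvable_quotient hsol B) S' hclass)


/-- The p-length of a p-soluble group is at most the nilpotency class of its Sylow p-subgroups. -/
theorem result {G : Type*} [Group G] [Finite G] {p : ℕ} [Fact p.Prime] (hsol : Cfsg.IsPSolvable p G) (S : Sylow p G) : Cfsg.PLengthLE p (Group.nilpotencyClass ↥(S : Subgroup G)) G := by
  exact aux _ G hsol S le_rfl

end Cfsg.Agent.S0635
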