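import Cfsg.Statements.S0636
import Mathlib
import Cfsg.Agent.Helper1.CyclicMaxOdd
import Cfsg.Agent.Helper9.NormalSeries

set_option autoImplicit false
open Cfsg

namespace Cfsg.Agent.S0636

/-- For odd p, every non-cyclic normal subgroup of a p-group contains a normal elementary abelian subgroup of the whole group of order p². -/
theorem result {R : Type*} [Group R] [Finite R] {p : ℕ} [Fact p.Prime] (hp : p ≠ 2) (hR : IsPGroup p R) (S : Subgroup R) [S.Normal] (hS : ¬ IsCyclic S) : ∃ A : Subgroup R, A ≤ S ∧ A.Normal ∧ Cfsg.IsElementaryAbelian p A ∧ Nat.card A = p ^ 2 := by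
  have hpr : p.Prime := Fact.out
  have key : ∀ n : ℕ, ∀ S : Subgroup R, S.Normal → ¬ IsCyclic S → Nat.card S = n →
      ∃ A : Subgroup R, A ≤ S ∧ A.Normal ∧ Cfsg.IsElementaryAbelian p A ∧ Nat.card A = p ^ 2 := by
    intro n
    induction n using Nat.strong_induction_on with
    | _ n ih =>
    intro S hSn hS hn
    have hSp : IsPGroup p S := hR.to_subgroup S
    obtain ⟨j, hj⟩ := IsPGroup.iff_card.mp hSp
    have hj0 : j ≠ 0 := by
      rintro rfl
      rw [pow_zero] at hj
      have : Subsingleton S := (Nat.card_eq_one_iff_unique.mp hj).1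
      exact hS inferInstance
    have hj1 : j ≠ 1 := by
      rintro rfl
      rw [pow_one] at hj
      exact hS (isCyclic_of_prime_card hj)
    obtain ⟨M, hMn, hMS, hMc⟩ := Cfsg.Agent.Helper9.exists_normal_le_card_eq hR S (j - 1)
      (by rw [hj]; exact Nat.pow_le_pow_right hpr.pos (by omega))
    by_cases hM : IsCyclic M
    · -- `S` has a cyclic subgroup of index `p`
      have e : M.subgroupOf S ≃* M := Subgroup.subgroupOfEquivOfLe hMS
      have hCcyc : IsCyclic (M.subgroupOf S) := isCyclic_of_surjective e.symm e.symm.surjective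
      have hCc : Nat.card (M.subgroupOf S) = p ^ (j - 1) := by
        rw [Nat.card_congr e.toEquiv, hMc]
      have hCi : (M.subgroupOf S).index = p := by
        have h1 := Subgroup.card_mul_index (M.subgroupOf S)
        rw [hCc, hj] at h1
        have h2 : p ^ (j - 1) * (M.subgroupOf S).index = p ^ (j - 1) * p := by
          rw [h1, ← pow_succ]; congr 1; omega
        exact Nat.eq_of_mul_eq_mul_left (pow_pos hpr.pos _) h2
      obtain ⟨K, hK, hKc, -⟩ := Cfsg.Agent.Helper1.CyclicMaxOdd.exists_omega hp hSp hS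
        (M.subgroupOf S) hCcyc hCi
      have hmem : ∀ g : R, g ∈ K.map S.subtype ↔ g ∈ S ∧ g ^ p = 1 := by
        intro g
        constructor
        · rintro ⟨k, hk, rfl⟩
          refine ⟨k.2, ?_⟩
          have := (hK k).mp hk
          have h2 := congrArg Subtype.val this
          simpa using h2
        · rintro ⟨hgS, hgp⟩
          refine ⟨⟨g, hgS⟩, (hK _).mpr ?_, rfl⟩
          apply Subtype.ext
          simpa using hgp
      have hAc : Nat.card (K.map S.subtype) = p ^ 2 := by
        rw [Subgroup.card_map_of_injective S.subtype_injective, hKc]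
      refine ⟨K.map S.subtype, Subgroup.map_subtype_le K, ⟨fun g hg r => ?_⟩,
        ⟨IsPGroup.isMulCommutative_of_card_eq_prime_sq hAc, fun a ha => ((hmem a).mp ha).2⟩, hAc⟩
      obtain ⟨h1, h2⟩ := (hmem g).mp hg
      refine (hmem _).mpr ⟨hSn.conj_mem g h1 r, ?_⟩
      rw [conj_pow, h2]; group
    · obtain ⟨A, hAM, hAn, hAe, hAc⟩ := ih (Nat.card M) (by
        rw [hMc, ← hn, hj]; exact Nat.pow_lt_pow_right hpr.one_lt (by omega)) M hMn hM rfl
      exact ⟨A, hAM.trans hMS, hAn, hAe, hAc⟩
  exact key _ S inferInstance hS rfl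

end Cfsg.Agent.S0636
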