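import Mathlib
import Cfsg.Statements.S0637
import Cfsg.Agent.Helper19.Huppert
import Cfsg.Agent.S0638

set_option autoImplicit false
open Cfsg

namespace Cfsg.Agent.S0637

/-- For p greater than 3, the bound p² on the order of the subgroup generated by the elements of order dividing p passes from a p-group to all its quotients. -/
theorem result {R : Type*} [Group R] [Finite R] {p : ℕ} [Fact p.Prime] (hp : 3 < p) (hR : IsPGroup p R) (hO : Nat.card ↥(Cfsg.omegaOne p (⊤ : Subgroup R)) ≤ p ^ 2) (T : Subgroup R) [T.Normal] : Nat.card ↥(Cfsg.omegaOne p (⊤ : Subgroup (R ⧸ T))) ≤ p ^ 2 := by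
  have hpp : p.Prime := Fact.out
  have hm : Cfsg.IsMetacyclic R :=
    Cfsg.Agent.Helper19.Huppert.metacyclic_of_small hp _ R rfl hR
      (Cfsg.Agent.Helper19.Huppert.small_of_omegaOne_le hO)
  have hmq : Cfsg.IsMetacyclic (R ⧸ T) := Cfsg.Agent.Helper19.Huppert.isMetacyclic_quotient hm T
  by_cases hc : IsCyclic (R ⧸ T)
  · refine le_trans Cfsg.Agent.Helper19.Huppert.card_omegaOne_le_of_isCyclic ?_
    calc p = p ^ 1 := (pow_one p).symm
      _ ≤ p ^ 2 := Nat.pow_le_pow_right hpp.pos (by norm_num)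
  · exact (Cfsg.Agent.S0638.result (by omega) (hR.to_quotient T) hmq hc).2.le

end Cfsg.Agent.S0637
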