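import Cfsg.Statements.S0641
import Mathlib

set_option autoImplicit false
open Cfsg

namespace Cfsg.Agent.S0641

/-- Regularity of a p-group passes to quotient groups. -/
theorem result {G : Type*} [Group G] {p : ℕ} [Fact p.Prime] (hG : Cfsg.IsRegularPGroup p G) (N : Subgroup G) [N.Normal] : Cfsg.IsRegularPGroup p (G ⧸ N) := by
  obtain ⟨hpG, hreg⟩ := hG
  refine ⟨hpG.to_quotient N, ?_⟩
  intro abar bbar n
  obtain ⟨a, rfl⟩ := QuotientGroup.mk_surjective abar
  obtain ⟨b, rfl⟩ := QuotientGroup.mk_surjective bbar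
  obtain ⟨c, hc, hab⟩ := hreg a b n
  refine ⟨QuotientGroup.mk' N c, ?_, ?_⟩
  · have hmap : (Cfsg.powerClosure p n ⁅Subgroup.closure ({a, b} : Set G), Subgroup.closure ({a, b} : Set G)⁆).map
        (QuotientGroup.mk' N) ≤
        Cfsg.powerClosure p n ⁅Subgroup.closure ({(QuotientGroup.mk a : G ⧸ N), (QuotientGroup.mk b : G ⧸ N)} : Set (G ⧸ N)),
          Subgroup.closure ({(QuotientGroup.mk a : G ⧸ N), (QuotientGroup.mk b : G ⧸ N)} : Set (G ⧸ N))⁆ := by
      unfold Cfsg.powerClosure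
      rw [Subgroup.map_le_iff_le_comap, Subgroup.closure_le]
      rintro y ⟨x, hx, rfl⟩
      rw [SetLike.mem_coe, Subgroup.mem_comap]
      apply Subgroup.subset_closure
      refine ⟨QuotientGroup.mk' N x, ?_, map_pow _ _ _⟩
      have h1 : QuotientGroup.mk' N x ∈ (⁅Subgroup.closure ({a, b} : Set G), Subgroup.closure ({a, b} : Set G)⁆).map
          (QuotientGroup.mk' N) := ⟨x, hx, rfl⟩
      rw [Subgroup.map_commutator, MonoidHom.map_closure, Set.image_pair] at h1
      exact h1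
    exact hmap ⟨c, hc, rfl⟩
  · show (QuotientGroup.mk' N a * QuotientGroup.mk' N b) ^ (p ^ n) =
      (QuotientGroup.mk' N a) ^ (p ^ n) * (QuotientGroup.mk' N b) ^ (p ^ n) * QuotientGroup.mk' N c
    rw [← map_mul, ← map_pow, ← map_pow, ← map_pow, ← map_mul, ← map_mul, hab]

end Cfsg.Agent.S0641
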