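import Cfsg.Statements.S0642
import Cfsg.Agent.Helper1.PGroup
import Cfsg.Agent.Lead.Coprime3

set_option autoImplicit false
open Cfsg
open scoped commutatorElement

namespace Cfsg.Agent.S0642

/-- Among finite 2-groups the regular ones are exactly the abelian ones. -/
theorem result {G : Type*} [Group G] [Finite G] (hG : IsPGroup 2 G) : Cfsg.IsRegularPGroup 2 G ↔ ∀ a b : G, a * b = b * a := by
  constructor
  · rintro ⟨-, hreg⟩ a b
    set K : Subgroup G := Subgroup.closure ({a, b} : Set G) with hK
    set D : Subgroup G := ⁅K, K⁆ with hD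
    set M : Subgroup G := Cfsg.powerClosure 2 1 D with hM
    have hKD : K ≤ Subgroup.normalizer (D : Set G) := Cfsg.Agent.Lead.le_normalizer_commutator_left K K
    -- step 1: K normalizes M (one direction)
    have hKM : ∀ k ∈ K, ∀ m ∈ M, k * m * k⁻¹ ∈ M := by
      intro k hk m hm
      have hle : M ≤ M.comap (MulAut.conj k).toMonoidHom := by
        rw [hM]
        unfold Cfsg.powerClosure
        rw [Subgroup.closure_le]
        rintro y ⟨x, hx, rfl⟩
        rw [SetLike.mem_coe, Subgroup.mem_comap]
        apply Subgroup.subset_closure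
        refine ⟨k * x * k⁻¹, (Subgroup.mem_normalizer_iff.mp (hKD hk) x).mp hx, ?_⟩
        simp [MulAut.conj_apply, conj_pow]
      have := hle hm
      simpa [Subgroup.mem_comap, MulAut.conj_apply] using this
    -- step 2: commutators of K lie in M
    have hkey : ∀ x ∈ K, ∀ y ∈ K, (x * y)⁻¹ * (y * x) ∈ M := by
      intro x hx y hy
      obtain ⟨c, hc, hxy⟩ := hreg x y 1
      have hcM : c ∈ M := by
        have hsub : Subgroup.closure ({x, y} : Set G) ≤ K := by
          rw [Subgroup.closure_le]
          rintro z (rfl | rfl)
          · exact hx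
          · exact hy
        have hmono : ⁅Subgroup.closure ({x, y} : Set G), Subgroup.closure ({x, y} : Set G)⁆ ≤ D :=
          Subgroup.commutator_mono hsub hsub
        have : Cfsg.powerClosure 2 1 ⁅Subgroup.closure ({x, y} : Set G), Subgroup.closure ({x, y} : Set G)⁆ ≤ M := by
          unfold Cfsg.powerClosure
          apply Subgroup.closure_mono
          rintro z ⟨w, hw, rfl⟩
          exact ⟨w, hmono hw, rfl⟩
        exact this hc
      have e : (x * y)⁻¹ * (y * x) = y * c * y⁻¹ := by
        have h1 : x * y * (x * y) = x * x * (y * y) * c := by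
          simpa [pow_succ, pow_zero, mul_assoc] using hxy
        have h2 : y * x * y = x * y * y * c := by
          have : x * (y * x * y) = x * (x * y * y * c) := by
            calc x * (y * x * y) = x * y * (x * y) := by group
              _ = x * x * (y * y) * c := h1
              _ = x * (x * y * y * c) := by group
          exact mul_left_cancel this
        calc (x * y)⁻¹ * (y * x) = (x * y)⁻¹ * (y * x * y) * y⁻¹ := by group
          _ = (x * y)⁻¹ * (x * y * y * c) * y⁻¹ := by rw [h2]
          _ = y * c * y⁻¹ := by group
      rw [e]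
      exact hKM y hy c hcM
    have hDM : D ≤ M := by
      rw [hD, Subgroup.commutator_le]
      intro u hu v hv
      have := hkey v⁻¹ (K.inv_mem hv) u⁻¹ (K.inv_mem hu)
      have e : (v⁻¹ * u⁻¹)⁻¹ * (u⁻¹ * v⁻¹) = ⁅u, v⁆ := by
        rw [commutatorElement_def]; group
      rwa [e] at this
    -- step 3: D = ⊥
    have hDbot : D = ⊥ := by
      by_contra hne
      have hDp : IsPGroup 2 D := hG.to_subgroup D
      have hnt : (⊥ : Subgroup D) ≠ ⊤ := by
        intro h
        apply hne
        rw [eq_bot_iff]
        intro d hd
        have : (⟨d, hd⟩ : D) ∈ (⊥ : Subgroup D) := by rw [h]; trivial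
        rw [Subgroup.mem_bot] at this
        rw [Subgroup.mem_bot]
        exact congrArg Subtype.val this
      obtain h | ⟨N, hN, -⟩ := eq_top_or_exists_le_coatom (⊥ : Subgroup D)
      · exact hnt h
      · have hMN : M ≤ N.map D.subtype := by
          rw [hM]
          unfold Cfsg.powerClosure
          rw [Subgroup.closure_le]
          rintro y ⟨x, hx, rfl⟩
          have : Fact (Nat.Prime 2) := ⟨Nat.prime_two⟩
          have := Cfsg.Agent.Helper1.IsPGroup.pow_mem_coatom hDp hN ⟨x, hx⟩
          refine ⟨_, this, ?_⟩
          simp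
        apply hN.1
        rw [eq_top_iff]
        intro d _
        obtain ⟨d', hd', hdd⟩ := hMN (hDM d.2)
        have : d' = d := Subtype.ext hdd
        rwa [this] at hd'
    have hab : ⁅a, b⁆ ∈ D := by
      rw [hD]
      apply Subgroup.commutator_mem_commutator
      · exact Subgroup.subset_closure (by simp)
      · exact Subgroup.subset_closure (by simp)
    rw [hDbot, Subgroup.mem_bot, commutatorElement_eq_one_iff_mul_comm] at hab
    exact hab
  · intro h
    refine ⟨hG, fun a b n => ⟨1, Subgroup.one_mem _, ?_⟩⟩
    rw [mul_one]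
    exact Commute.mul_pow (h a b) _

end Cfsg.Agent.S0642
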