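import Cfsg.Statements.S0647
import Mathlib

set_option autoImplicit false
open Cfsg

namespace Cfsg.Agent.S0647

/-- For a nonempty family of maximal abelian subgroups of a finite group, the intersection of the family is the centre of the subgroup it generates, which is also the full centralizer of that subgroup. -/
theorem result {S : Type*} [Group S] [Finite S] (𝒜 : Set (Subgroup S)) (hne : 𝒜.Nonempty) (hab : ∀ A ∈ 𝒜, IsMulCommutative A) (hmax : ∀ A ∈ 𝒜, ∀ B : Subgroup S, IsMulCommutative B → A ≤ B → B = A) : sInf 𝒜 = sSup 𝒜 ⊓ Subgroup.centralizer ((sSup 𝒜 : Subgroup S) : Set S) ∧ sInf 𝒜 = Subgroup.centralizer ((sSup 𝒜 : Subgroup S) : Set S) := by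
  have hcomm : ∀ A ∈ 𝒜, ∀ a ∈ A, ∀ b ∈ A, a * b = b * a := by
    intro A hA a ha b hb
    obtain ⟨⟨h⟩⟩ := hab A hA
    simpa using congrArg Subtype.val (h ⟨a, ha⟩ ⟨b, hb⟩)
  -- (1) sInf ≤ J ⊓ C(J)
  have h1 : sInf 𝒜 ≤ sSup 𝒜 ⊓ Subgroup.centralizer ((sSup 𝒜 : Subgroup S) : Set S) := by
    obtain ⟨A₀, hA₀⟩ := hne
    apply le_inf
    · exact (sInf_le hA₀).trans (le_sSup hA₀)
    · intro x hx
      have hx' : ∀ A ∈ 𝒜, x ∈ A := fun A hA => (sInf_le hA) hx
      have : sSup 𝒜 ≤ Subgroup.centralizer ({x} : Set S) := by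
        apply sSup_le
        intro A hA a ha
        rw [Subgroup.mem_centralizer_iff]
        intro y hy
        have hy' : y = x := hy
        rw [hy']
        exact hcomm A hA x (hx' A hA) a ha
      rw [Subgroup.mem_centralizer_iff]
      intro y hy
      exact (Subgroup.mem_centralizer_iff.mp (this hy) x rfl).symm
  -- (2) C(J) ≤ sInf
  have h2 : Subgroup.centralizer ((sSup 𝒜 : Subgroup S) : Set S) ≤ sInf 𝒜 := by
    intro x hx
    rw [Subgroup.mem_sInf]
    intro A hA
    -- A ⊔ zpowers x is abelian
    have hxA : ∀ a ∈ A, a * x = x * a := by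
      intro a ha
      exact Subgroup.mem_centralizer_iff.mp hx a ((le_sSup hA) ha)
    have hle : A ⊔ Subgroup.zpowers x ≤ Subgroup.centralizer ((A ⊔ Subgroup.zpowers x : Subgroup S) : Set S) := by
      rw [Subgroup.le_centralizer_iff]
      have hAc : A ≤ Subgroup.centralizer ((A ⊔ Subgroup.zpowers x : Subgroup S) : Set S) := by
        rw [Subgroup.le_centralizer_iff]
        apply sup_le
        · intro b hb
          rw [Subgroup.mem_centralizer_iff]
          intro a ha
          exact hcomm A hA a ha b hb
        · rintro _ ⟨i, rfl⟩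
          rw [Subgroup.mem_centralizer_iff]
          intro a ha
          have hc : Commute a x := hxA a ha
          exact (hc.zpow_right i).eq
      have hxc : Subgroup.zpowers x ≤ Subgroup.centralizer ((A ⊔ Subgroup.zpowers x : Subgroup S) : Set S) := by
        rw [Subgroup.le_centralizer_iff]
        apply sup_le
        · intro a ha
          rw [Subgroup.mem_centralizer_iff]
          rintro _ ⟨i, rfl⟩
          have hc : Commute x a := (hxA a ha).symm
          exact (hc.zpow_left i).eq
        · rintro _ ⟨i, rfl⟩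
          rw [Subgroup.mem_centralizer_iff]
          rintro _ ⟨j, rfl⟩
          exact ((Commute.refl x).zpow_zpow j i).eq
      exact sup_le hAc hxc
    have hab' : IsMulCommutative ↥(A ⊔ Subgroup.zpowers x) :=
      Subgroup.le_centralizer_iff_isMulCommutative.mp hle
    have := hmax A hA _ hab' le_sup_left
    rw [← this]
    exact Subgroup.mem_sup_right (Subgroup.mem_zpowers x)
  exact ⟨le_antisymm h1 (inf_le_right.trans h2), le_antisymm (h1.trans inf_le_right) h2⟩

end Cfsg.Agent.S0647
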