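import Cfsg.Statements.S0648
import Cfsg.Agent.Helper26.CommOperator

set_option autoImplicit false
open Cfsg

namespace Cfsg.Agent.S0648

/-- If A acts on B centralizing [B, B], then [B, A] has derived subgroup central in B, and for abelian A and b ∈ B with [[b, A], A, A] = 1 the derived subgroup of the subgroup [b, A] generated by the commutators of b with A has exponent dividing 2. -/
theorem result {G : Type*} [Group G] [Finite G] (A B : Subgroup G) (hAB : A ≤ Subgroup.normalizer (B : Set G)) (hc : ⁅⁅B, B⁆, A⁆ = ⊥) : ⁅⁅B, A⁆, ⁅B, A⁆⁆ ≤ B ⊓ Subgroup.centralizer (B : Set G) ∧ (IsMulCommutative A → ∀ b ∈ B, ⁅⁅(Subgroup.closure {g : G | ∃ a ∈ A, g = b⁻¹ * a * b * a⁻¹}), A⁆, A⁆ = ⊥ → ∀ w ∈ ⁅(Subgroup.closure {g : G | ∃ a ∈ A, g = b⁻¹ * a * b * a⁻¹}), (Subgroup.closure {g : G | ∃ a ∈ A, g = b⁻¹ * a * b * a⁻¹})⁆, w ^ 2 = 1) := by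
  open Cfsg.Agent.Helper26 in
  refine ⟨?_, ?_⟩
  · obtain ⟨-, h2⟩ := commutator_operator_central A B hAB hc
    have hD_le : ⁅B, A⁆ ≤ B := Cfsg.Agent.Lead.commutator_le_of_le_normalizer hAB
    exact le_inf ((commutator_self_le _).trans hD_le)
      (Subgroup.commutator_eq_bot_iff_le_centralizer.mp h2)
  · intro hA b hb hX
    have hAcomm : ∀ a ∈ A, ∀ c ∈ A, a * c = c * a := by
      intro a ha c hc'
      exact congrArg Subtype.val (hA.is_comm.comm ⟨a, ha⟩ ⟨c, hc'⟩)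
    exact commutator_operator_exponent_two A B hAB hc hAcomm b hb hX

end Cfsg.Agent.S0648
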