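import Cfsg.Statements.S0655
import Mathlib
import Cfsg.Agent.Helper26.Thompson

set_option autoImplicit false
open Cfsg

namespace Cfsg.Agent.S0655

/-- In a p-group the intersection of all elementary abelian subgroups of largest order is the subgroup generated by the elements of order dividing p in the centre (equivalently the centralizer) of the elementary-version Thompson subgroup. -/
theorem result {S : Type*} [Group S] [Finite S] {p : ℕ} [Fact p.Prime] (hS : IsPGroup p S) : sInf (Cfsg.maxElementaryAbelianSubgroups p S) = Cfsg.omegaCenterThompson p S ∧ Cfsg.omegaCenterThompson p S = Cfsg.omegaOne p (Subgroup.centralizer (Cfsg.thompsonSubgroup p S : Set S)) := by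
  have h1 : sInf (Cfsg.maxElementaryAbelianSubgroups p S) ≤ Cfsg.omegaCenterThompson p S := by
    intro x hx
    have hx' : ∀ A ∈ Cfsg.maxElementaryAbelianSubgroups p S, x ∈ A :=
      fun A hA => (sInf_le hA) hx
    obtain ⟨A₀, hA₀⟩ := Cfsg.Agent.Helper26.exists_mem_maxElementaryAbelianSubgroups (G := S) p
    apply Subgroup.subset_closure
    refine ⟨Subgroup.mem_inf.mpr ⟨(le_sSup hA₀) (hx' A₀ hA₀), ?_⟩, hA₀.1.2 x (hx' A₀ hA₀)⟩
    have : Cfsg.thompsonSubgroup p S ≤ Subgroup.centralizer ({x} : Set S) := by
      apply sSup_le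
      intro A hA a ha
      rw [Subgroup.mem_centralizer_iff]
      intro y hy
      have hy' : y = x := hy
      rw [hy']
      exact Cfsg.Agent.Helper26.isElementaryAbelian_commute hA.1 (hx' A hA) ha
    rw [Subgroup.mem_centralizer_iff]
    intro y hy
    exact (Subgroup.mem_centralizer_iff.mp (this hy) x rfl).symm
  have h2 : Cfsg.omegaCenterThompson p S ≤
      Cfsg.omegaOne p (Subgroup.centralizer (Cfsg.thompsonSubgroup p S : Set S)) := by
    apply Subgroup.closure_mono
    rintro x ⟨hx1, hx2⟩
    exact ⟨hx1.2, hx2⟩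
  have h3 : Cfsg.omegaOne p (Subgroup.centralizer (Cfsg.thompsonSubgroup p S : Set S)) ≤
      sInf (Cfsg.maxElementaryAbelianSubgroups p S) := by
    unfold Cfsg.omegaOne
    rw [Subgroup.closure_le]
    rintro x ⟨hx1, hx2⟩
    rw [SetLike.mem_coe, Subgroup.mem_sInf]
    intro A hA
    apply Cfsg.Agent.Helper26.mem_of_mem_maxElementaryAbelianSubgroups_of_commute hA hx2
    intro a ha
    exact Subgroup.mem_centralizer_iff.mp hx1 a ((le_sSup hA) ha)
  exact ⟨le_antisymm h1 (h2.trans h3), le_antisymm h2 (h3.trans h1)⟩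

end Cfsg.Agent.S0655
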