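import Cfsg.Statements.S0661
import Cfsg.Agent.Lead.ThompsonPQ
import Cfsg.Agent.Helper7.PConstrained2
import Cfsg.Agent.Helper7.PPrimeCore
import Cfsg.Agent.Helper19.Cores
import Cfsg.Agent.Helper14.PCore

set_option autoImplicit false
open Cfsg

namespace Cfsg.Agent.S0661

/-- If, modulo the largest normal subgroup of order prime to p, the largest normal p-subgroup contains its centralizer, then for every p-subgroup P the p'-core of N_G(P) is just O_p'(G) ∩ N_G(P). -/
theorem result {G : Type*} [Group G] [Finite G] {p : ℕ} [Fact p.Prime] (hc : Subgroup.centralizer (Cfsg.pCore p (G ⧸ Cfsg.pPrimeCore p G) : Set (G ⧸ Cfsg.pPrimeCore p G)) ≤ Cfsg.pCore p (G ⧸ Cfsg.pPrimeCore p G)) (P : Subgroup G) (hP : IsPGroup p P) : (Cfsg.pPrimeCore p ↥(Subgroup.normalizer (P : Set G))).map (Subgroup.normalizer (P : Set G)).subtype = Cfsg.pPrimeCore p G ⊓ Subgroup.normalizer (P : Set G) := by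
  set K : Subgroup G := Cfsg.pPrimeCore p G with hK
  set N : Subgroup G := Subgroup.normalizer (P : Set G) with hN
  set π := QuotientGroup.mk' K with hπ
  have hKcop : (Nat.card K).Coprime p := Cfsg.Agent.Helper19.pPrimeCore_coprime (G := G) p
  have hPN : P ≤ N := Subgroup.le_normalizer
  apply le_antisymm
  · -- W ≤ K ⊓ N
    set W : Subgroup G := (Cfsg.pPrimeCore p ↥N).map N.subtype with hW
    have hWN : W ≤ N := by
      rintro _ ⟨x, -, rfl⟩
      exact x.2
    have hWcop : (Nat.card W).Coprime p := by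
      rw [hW, Subgroup.card_map_of_injective N.subtype_injective]
      exact Cfsg.Agent.Helper19.pPrimeCore_coprime (G := ↥N) p
    have hWnorm : ∀ n ∈ N, ∀ w ∈ W, n * w * n⁻¹ ∈ W := by
      rintro n hn _ ⟨w, hw, rfl⟩
      have hnormal : (Cfsg.pPrimeCore p ↥N).Normal := inferInstance
      exact ⟨⟨n, hn⟩ * w * ⟨n, hn⟩⁻¹, hnormal.conj_mem w hw ⟨n, hn⟩, rfl⟩
    obtain ⟨k, hk⟩ := IsPGroup.iff_card.mp hP
    have hWPdisj : W ⊓ P = ⊥ := by
      apply (Subgroup.disjoint_of_coprime_natCard _).eq_bot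
      rw [hk]
      exact Nat.Coprime.pow_right k hWcop
    -- W centralizes P
    have hWP : ∀ w ∈ W, ∀ y ∈ P, w * y = y * w := by
      intro w hw y hy
      have h1 : w * y * w⁻¹ * y⁻¹ ∈ W ⊓ P := by
        refine Subgroup.mem_inf.mpr ⟨?_, ?_⟩
        · have h2 := hWnorm y (hPN hy) w⁻¹ (W.inv_mem hw)
          have h3 := W.mul_mem hw h2
          have e : w * (y * w⁻¹ * y⁻¹) = w * y * w⁻¹ * y⁻¹ := by group
          rwa [e] at h3
        · have h2 : w * y * w⁻¹ ∈ P := (Subgroup.mem_normalizer_iff.mp (hWN hw) y).mp hy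
          exact P.mul_mem h2 (P.inv_mem hy)
      rw [hWPdisj, Subgroup.mem_bot] at h1
      calc w * y = (w * y * w⁻¹ * y⁻¹) * (y * w) := by group
        _ = y * w := by rw [h1, one_mul]
    -- images in the quotient
    set Wb : Subgroup (G ⧸ K) := W.map π with hWb
    set Pb : Subgroup (G ⧸ K) := P.map π with hPb
    set Qb : Subgroup (G ⧸ K) := Cfsg.pCore p (G ⧸ K) with hQb
    have hQbp : IsPGroup p Qb := Cfsg.Agent.Helper19.pCore_isPGroup (G := G ⧸ K) p
    have hQbn : Qb.Normal := Cfsg.Agent.Helper14.pCore_normal p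
    have hWbcop : (Nat.card Wb).Coprime p :=
      Nat.Coprime.coprime_dvd_left (Subgroup.card_map_dvd W π) hWcop
    have hPbp : IsPGroup p Pb := hP.map π
    have hWbQb : Wb ⊓ Qb = ⊥ := by
      apply (Subgroup.disjoint_of_coprime_natCard _).eq_bot
      obtain ⟨j, hj⟩ := IsPGroup.iff_card.mp hQbp
      rw [hj]
      exact Nat.Coprime.pow_right j hWbcop
    have hPbWb : Pb ≤ Subgroup.centralizer (Wb : Set (G ⧸ K)) := by
      rintro _ ⟨y, hy, rfl⟩
      rw [Subgroup.mem_centralizer_iff]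
      rintro _ ⟨w, hw, rfl⟩
      rw [← map_mul, ← map_mul, hWP w hw y hy]
    have hnormtop : Subgroup.normalizer (Qb : Set (G ⧸ K)) = ⊤ := Subgroup.normalizer_eq_top Qb
    have hC : Qb ⊓ Subgroup.centralizer (Pb : Set (G ⧸ K)) ≤
        Subgroup.centralizer (Wb : Set (G ⧸ K)) := by
      intro xb hxb
      have hxN : xb ∈ Subgroup.normalizer (Pb : Set (G ⧸ K)) :=
        Subgroup.centralizer_le_normalizer _ hxb.2
      rw [hPb, Cfsg.Agent.Helper7.normalizer_map_mk_eq hKcop hP] at hxN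
      obtain ⟨n, hn, rfl⟩ := hxN
      rw [Subgroup.mem_centralizer_iff]
      rintro _ ⟨w, hw, rfl⟩
      have h1 : π n * π w * (π n)⁻¹ * (π w)⁻¹ ∈ Wb ⊓ Qb := by
        refine Subgroup.mem_inf.mpr ⟨?_, ?_⟩
        · have h2 := hWnorm n hn w hw
          have h3 := W.mul_mem h2 (W.inv_mem hw)
          refine ⟨n * w * n⁻¹ * w⁻¹, h3, ?_⟩
          simp only [map_mul, map_inv]
        · have h2 : π w * (π n)⁻¹ * (π w)⁻¹ ∈ Qb := hQbn.conj_mem _ (Qb.inv_mem hxb.1) _
          have h3 := Qb.mul_mem hxb.1 h2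
          have e : π n * (π w * (π n)⁻¹ * (π w)⁻¹) = π n * π w * (π n)⁻¹ * (π w)⁻¹ := by group
          rwa [e] at h3
      rw [hWbQb, Subgroup.mem_bot] at h1
      calc π w * π n = (π n * π w * (π n)⁻¹ * (π w)⁻¹)⁻¹ * (π n * π w) := by group
        _ = π n * π w := by rw [h1, inv_one, one_mul]
    have hmain := Cfsg.Agent.Lead.thompson_PQ p Pb Wb Qb hPbp hWbcop hQbp hPbWb
      (by rw [hnormtop]; exact le_top) (by rw [hnormtop]; exact le_top) hC
    have hWbQ : Wb ≤ Qb := by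
      intro w hw
      apply hc
      rw [Subgroup.mem_centralizer_iff]
      intro q hq
      exact (Subgroup.mem_centralizer_iff.mp (hmain hw) q hq)
    have hWbbot : Wb = ⊥ := by
      rw [← hWbQb]
      exact (inf_of_le_left hWbQ).symm
    intro w hw
    refine Subgroup.mem_inf.mpr ⟨?_, hWN hw⟩
    have h1 : π w ∈ Wb := ⟨w, hw, rfl⟩
    rw [hWbbot, Subgroup.mem_bot] at h1
    exact (QuotientGroup.eq_one_iff w).mp h1
  · -- K ⊓ N ≤ W
    intro x hx
    have hxK : x ∈ K := hx.1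
    have hxN : x ∈ N := hx.2
    have hKn : K.Normal := inferInstance
    have hMn : ((K ⊓ N).subgroupOf N).Normal := by
      constructor
      intro a ha b
      refine Subgroup.mem_subgroupOf.mpr (Subgroup.mem_inf.mpr ⟨?_, (b * a * b⁻¹).2⟩)
      exact hKn.conj_mem _ (Subgroup.mem_subgroupOf.mp ha).1 _
    have hMcop : (Nat.card ((K ⊓ N).subgroupOf N)).Coprime p := by
      have h1 : Nat.card ((K ⊓ N).subgroupOf N) = Nat.card ↥(K ⊓ N) :=
        Nat.card_congr (Subgroup.subgroupOfEquivOfLe (inf_le_right : K ⊓ N ≤ N)).toEquiv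
      rw [h1]
      exact Nat.Coprime.coprime_dvd_left (Subgroup.card_dvd_of_le inf_le_left) hKcop
    have hle := Cfsg.Agent.Helper7.le_pPrimeCore hMn hMcop
    exact ⟨⟨x, hxN⟩, hle (Subgroup.mem_subgroupOf.mpr hx), rfl⟩

end Cfsg.Agent.S0661
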