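import Cfsg.Statements.S0662
import Mathlib
import Cfsg.Agent.Helper1.MaxClass
import Cfsg.Agent.Helper1.AbelianIndexP

set_option autoImplicit false
set_option linter.style.haveILetI false
open Cfsg

namespace Cfsg.Agent.S0662

/-- In a p-group of maximal class of order at least p³ the normal subgroups of index at least p² are exactly the terms of the lower central series, and there are exactly p + 1 normal subgroups of index p. -/
theorem result {G : Type*} [Group G] [Finite G] {p : ℕ} [Fact p.Prime] (n : ℕ) (hG : Nat.card G = p ^ n) (hcl : Group.nilpotencyClass G = n - 1) (hn : 3 ≤ n) : (∀ (N : Subgroup G) [N.Normal] (r : ℕ), 2 ≤ r → N.index = p ^ r → N = (⊤ : Subgroup G).lowerCentralSeries (r - 1)) ∧ Nat.card {N : Subgroup G // N.Normal ∧ N.index = p} = p + 1 := by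
  classical
  have hp : p.Prime := Fact.out
  have hPp : IsPGroup p G := IsPGroup.of_card hG
  haveI hnil : Group.IsNilpotent G := hPp.isNilpotent
  have hcl' : Subgroup.lowerCentralSeries (⊤ : Subgroup G) (n - 2) ≠ ⊥ := by
    rw [Ne, Subgroup.lowerCentralSeries_eq_bot_iff_nilpotencyClass_le, hcl]
    omega
  refine ⟨fun N _ r hr hN => Cfsg.Agent.Helper1.LCS.eq_lcs_of_maxClass hG hcl' hn N hr hN, ?_⟩
  have hidx := Cfsg.Agent.Helper1.LCS.index_commutator_of_maxClass hG hcl' hn
  have hQ : Nat.card (G ⧸ commutator G) = p ^ 2 := by rw [← Subgroup.index_eq_card, hidx]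
  have hQc : IsMulCommutative (G ⧸ commutator G) :=
    IsPGroup.isMulCommutative_of_card_eq_prime_sq hQ
  have hπs : Function.Surjective (QuotientGroup.mk' (commutator G)) :=
    QuotientGroup.mk'_surjective _
  have hexp : ∀ a : G ⧸ commutator G, a ^ p = 1 := by
    intro a
    have hdvd : orderOf a ∣ p ^ 2 := hQ ▸ orderOf_dvd_natCard a
    obtain ⟨i, hi, hi'⟩ := (Nat.dvd_prime_pow hp).mp hdvd
    rcases Nat.lt_or_ge i 2 with hi2 | hi2
    · have : orderOf a ∣ p := by
        rw [hi']
        calc p ^ i ∣ p ^ 1 := pow_dvd_pow p (by omega)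
          _ = p := pow_one p
      exact orderOf_dvd_iff_pow_eq_one.mp this
    · exfalso
      have hi2' : i = 2 := le_antisymm hi hi2
      subst hi2'
      obtain ⟨g, rfl⟩ := hπs a
      have htop : Subgroup.zpowers ((QuotientGroup.mk' (commutator G)) g) = ⊤ := by
        apply Subgroup.eq_top_of_card_eq
        rw [Nat.card_zpowers, hi', hQ]
      have hsup : Subgroup.zpowers g ⊔ commutator G = ⊤ := by
        have h1 := Subgroup.comap_map_eq (QuotientGroup.mk' (commutator G)) (Subgroup.zpowers g)
        rw [MonoidHom.map_zpowers, htop, Subgroup.comap_top, QuotientGroup.ker_mk'] at h1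
        exact h1.symm
      have hsup' : Subgroup.zpowers g ⊔ frattini G = ⊤ := by
        rw [eq_top_iff, ← hsup]
        exact sup_le_sup_left (Cfsg.Agent.Helper1.IsPGroup.commutator_le_frattini hPp) _
      have hcyc : Subgroup.zpowers g = ⊤ := frattini_nongenerating hsup'
      have hcomm : commutator G = ⊥ := by
        rw [commutator_eq_bot_iff_center_eq_top, eq_top_iff]
        intro x _
        rw [Subgroup.mem_center_iff]
        intro y
        have hx : x ∈ Subgroup.zpowers g := hcyc ▸ Subgroup.mem_top x
        have hy : y ∈ Subgroup.zpowers g := hcyc ▸ Subgroup.mem_top y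
        obtain ⟨k, rfl⟩ := hx
        obtain ⟨l, rfl⟩ := hy
        rw [← zpow_add, ← zpow_add, add_comm]
      rw [hcomm, Subgroup.index_bot, hG] at hidx
      have := Nat.pow_right_injective hp.two_le hidx
      omega
  have hcomle : ∀ N : Subgroup G, N.Normal → N.index = p → commutator G ≤ N := by
    intro N hN hNi
    have h1 : Nat.card (G ⧸ N) = p := by rw [← Subgroup.index_eq_card, hNi]
    haveI : IsCyclic (G ⧸ N) := isCyclic_of_prime_card h1
    have hc : IsMulCommutative (G ⧸ N) := IsCyclic.isMulCommutative
    exact Subgroup.Normal.quotient_commutative_iff_commutator_le.mp hc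
  let e : {N : Subgroup G // N.Normal ∧ N.index = p} ≃
      {C : Subgroup (G ⧸ commutator G) // C.index = p} :=
    { toFun := fun N => ⟨N.1.map (QuotientGroup.mk' (commutator G)),
        (Subgroup.index_map_eq N.1 hπs
          (by rw [QuotientGroup.ker_mk']; exact hcomle N.1 N.2.1 N.2.2)).trans N.2.2⟩
      invFun := fun C => ⟨C.1.comap (QuotientGroup.mk' (commutator G)), by
          haveI : C.1.Normal := ⟨fun x hx g => by
            have : g * x * g⁻¹ = x := by rw [hQc.is_comm.comm g x]; group
            rw [this]; exact hx⟩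
          exact Subgroup.Normal.comap inferInstance _, by
          rw [Subgroup.index_comap_of_surjective _ hπs]
          exact C.2⟩
      left_inv := fun N => Subtype.ext (Subgroup.comap_map_eq_self
        (by rw [QuotientGroup.ker_mk']; exact hcomle N.1 N.2.1 N.2.2))
      right_inv := fun C => Subtype.ext (Subgroup.map_comap_eq_self_of_surjective hπs C.1) }
  rw [Nat.card_congr e]
  exact Cfsg.Agent.Helper1.AbIdxP.card_subgroups_index_p hp hQ hexp

end Cfsg.Agent.S0662
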