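import Cfsg.Statements.S0663
import Cfsg.Agent.Helper26.Uniserial

set_option autoImplicit false
open Cfsg

namespace Cfsg.Agent.S0663

/-- A p-group acts uniserially on a p-group N of order p^n exactly when the iterated commutator chain from N has length n; in that case the chain terms are all the invariant subgroups of N and they are normal in N. -/
theorem result {L : Type*} [Group L] [Finite L] {p : ℕ} [Fact p.Prime] (N G : Subgroup L) (hN : IsPGroup p N) (hG : IsPGroup p G) (hGN : G ≤ Subgroup.normalizer (N : Set L)) (n : ℕ) (hn : Nat.card N = p ^ n) : ((∀ H : Subgroup L, H ≤ N → G ≤ Subgroup.normalizer (H : Set L) → H ≠ ⊥ → (⁅H, G⁆).relIndex H = p) ↔ Cfsg.iterCommutator N G (n - 1) ≠ ⊥ ∨ n = 0) ∧ ((∀ H : Subgroup L, H ≤ N → G ≤ Subgroup.normalizer (H : Set L) → H ≠ ⊥ → (⁅H, G⁆).relIndex H = p) → ∀ H : Subgroup L, H ≤ N → G ≤ Subgroup.normalizer (H : Set L) → (∃ i ≤ n, H = Cfsg.iterCommutator N G i) ∧ N ≤ Subgroup.normalizer (H : Set L)) := by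
  open Cfsg.Agent.Helper26 in
  have hp : p.Prime := Fact.out
  refine ⟨⟨fun hU => ?_, fun h => ?_⟩, fun hU H hHN hGH => ?_⟩
  · rcases Nat.eq_zero_or_pos n with h0 | h0
    · exact Or.inr h0
    · left
      have hCC := chainCond_of_uniserial hGN n hn hU
      have hc := hCC (n - 1) (by omega)
      intro hbot
      rw [hbot, Subgroup.card_bot] at hc
      have e : n - (n - 1) = 1 := by omega
      rw [e, pow_one] at hc
      exact hp.one_lt.ne hc
  · rcases h with hne | h0
    · have hn1 : 1 ≤ n := by
        by_contra hlt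
        have hn0 : n = 0 := by omega
        apply hne
        rw [hn0] at hn ⊢
        show N = ⊥
        exact Subgroup.card_eq_one.mp (by rw [hn, pow_zero])
      exact uniserial_of_chainCond hN hG hGN n (chainCond_of_ne_bot hN hG hGN n hn hn1 hne)
    · intro H hHN _ hHne
      exfalso
      apply hHne
      have : N = ⊥ := Subgroup.card_eq_one.mp (by rw [hn, h0, pow_zero])
      rw [this] at hHN
      exact le_bot_iff.mp hHN
  · have hCC := chainCond_of_uniserial hGN n hn hU
    obtain ⟨c, hc, hHc, -⟩ := exists_eq_iter_of_chainCond hN hG hGN n hCC H hHN hGH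
    exact ⟨⟨c, hc, hHc⟩, le_normalizer_of_chainCond hN hG hGN n hCC H hHN hGH⟩

end Cfsg.Agent.S0663
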