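import Cfsg.Statements.S0666
import Cfsg.Agent.Lead.FrobAction
import Cfsg.Agent.Helper1.FrobeniusThm
import Cfsg.Agent.Helper1.FrobeniusCompl

set_option autoImplicit false
open Cfsg

namespace Cfsg.Agent.S0666

/-- A Frobenius group acting on a nontrivial abelian group of order prime to that of its kernel, with the kernel acting without nontrivial fixed points, has a complement with a nontrivial fixed point. -/
theorem result {G : Type*} [Group G] [Finite G] (V F : Subgroup G) (hVab : IsMulCommutative V) (hV1 : V ≠ ⊥) (hFV : F ≤ Subgroup.normalizer (V : Set G)) (H : Subgroup ↥F) (hH : Cfsg.IsFrobeniusComplement H) (hcop : (Nat.card V).Coprime (Nat.card (Cfsg.frobeniusKernel H))) (hCK : V ⊓ Subgroup.centralizer (Subtype.val '' Cfsg.frobeniusKernel H : Set G) = ⊥) : V ⊓ Subgroup.centralizer ((H.map F.subtype : Subgroup G) : Set G) ≠ ⊥ := by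
  classical
  have : Fintype F := Fintype.ofFinite F
  obtain ⟨N, hNset, hNn, -⟩ := Cfsg.Agent.Helper1.frobenius_theorem hH
  have hfpf : ∀ n ∈ N, ∀ h ∈ H, h ≠ 1 → n * h = h * n → n = 1 := by
    intro n hn h hh h1 hc
    have h2 := Cfsg.Agent.Helper1.frob_fpf hH hNset h hh h1
    have h3 : n ∈ N ⊓ Subgroup.centralizer {h} := by
      refine Subgroup.mem_inf.mpr ⟨hn, ?_⟩
      rw [Subgroup.mem_centralizer_singleton_iff]
      exact hc
    rw [h2, Subgroup.mem_bot] at h3
    exact h3
  have hcop' : (Nat.card V).Coprime (Nat.card N) := by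
    have : Nat.card N = Nat.card (Cfsg.frobeniusKernel H) := by
      rw [← hNset]; rfl
    rw [this]; exact hcop
  have hCN : ∀ v ∈ V, (∀ n ∈ N, (n : G) * v = v * n) → v = 1 := by
    intro v hv hn
    have h3 : v ∈ V ⊓ Subgroup.centralizer (Subtype.val '' Cfsg.frobeniusKernel H : Set G) := by
      refine Subgroup.mem_inf.mpr ⟨hv, ?_⟩
      rw [Subgroup.mem_centralizer_iff]
      rintro g ⟨n, hnK, rfl⟩
      rw [← hNset] at hnK
      exact hn n hnK
    rw [hCK, Subgroup.mem_bot] at h3
    exact h3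
  obtain ⟨v, hv, hv1, hvH⟩ := Cfsg.Agent.Lead.frobenius_action_fixed_points V F hVab hV1 hFV H N
    hfpf hcop' hCN
  intro hbot
  apply hv1
  have h3 : v ∈ V ⊓ Subgroup.centralizer ((H.map F.subtype : Subgroup G) : Set G) := by
    refine Subgroup.mem_inf.mpr ⟨hv, ?_⟩
    rw [Subgroup.mem_centralizer_iff]
    rintro g ⟨h, hh, rfl⟩
    exact hvH h hh
  rw [hbot, Subgroup.mem_bot] at h3
  exact h3

end Cfsg.Agent.S0666
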