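import Mathlib
import Cfsg.Statements.S0670
import Cfsg.Agent.Helper4.PGroupFixed
import Cfsg.Agent.Helper4.SylowTrans
-- import your own Cfsg.Agent.* helpers here

set_option autoImplicit false
open Cfsg

namespace Cfsg.Agent.S0670

/-- In characteristic `p`, the permutation module of a transitive action of degree `p ^ f` has the line of constant functions as its only irreducible submodule: every non-zero subrepresentation contains it. -/
theorem result {G : Type*} [Group G] [Finite G] {K : Type*} [Field K] {p f : ℕ} [Fact p.Prime] [CharP K p] {Ω : Type*} [Fintype Ω] [MulAction G Ω] [MulAction.IsPretransitive G Ω] (hf : 1 ≤ f) (hcard : Fintype.card Ω = p ^ f) (W : Subrepresentation (Cfsg.permRep K G Ω)) (hW : W.toSubmodule ≠ ⊥) : (Cfsg.permConstants K G Ω).toSubmodule ≤ W.toSubmodule := by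
  classical
  obtain ⟨P⟩ : Nonempty (Sylow p G) := inferInstance
  have htr : MulAction.IsPretransitive (P : Subgroup G) Ω :=
    Cfsg.Agent.Helper4.sylow_isPretransitive (f := f)
      (by rw [Nat.card_eq_fintype_card]; exact hcard) P
  obtain ⟨w, hwW, hw0, hwfix⟩ := Cfsg.Agent.Helper4.exists_fixed_vector_of_pgroup (p := p)
    (P : Subgroup G) P.isPGroup' (Cfsg.permRep K G Ω) W.toSubmodule
    (fun g _ v hv => W.apply_mem_toSubmodule g hv) hW
  -- w is constant
  have hconst : ∀ x y : Ω, w x = w y := by
    intro x y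
    obtain ⟨g, hg⟩ := htr.exists_smul_eq x y
    have h1 := hwfix g⁻¹.1 g⁻¹.2
    have h2 := congrFun h1 x
    have h3 : (Cfsg.permRep K G Ω (g⁻¹ : (P : Subgroup G)).1) w x = w (g.1 • x) := by
      change w (((g⁻¹ : (P : Subgroup G)).1)⁻¹ • x) = w (g.1 • x)
      simp
    rw [h3] at h2
    have h4 : g.1 • x = y := hg
    rw [h4] at h2
    exact h2.symm
  have hne : Nonempty Ω := by
    by_contra h
    rw [not_nonempty_iff] at h
    apply hw0
    funext x
    exact (h.false x).elim
  obtain ⟨x0⟩ := hne
  have hc : w x0 ≠ 0 := by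
    intro h
    apply hw0
    funext x
    rw [hconst x x0, h]; rfl
  have hone : (fun _ : Ω => (1 : K)) = (w x0)⁻¹ • w := by
    funext x
    simp only [Pi.smul_apply, smul_eq_mul]
    rw [hconst x x0, inv_mul_cancel₀ hc]
  change Submodule.span K {fun _ => 1} ≤ W.toSubmodule
  rw [Submodule.span_le, Set.singleton_subset_iff, hone]
  exact W.toSubmodule.smul_mem _ hwW

end Cfsg.Agent.S0670
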