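import Cfsg.Statements.S0678
import Mathlib
import Cfsg.Agent.Helper4.DegreeSeven

set_option autoImplicit false
open Cfsg

namespace Cfsg.Agent.S0678

/-- A non-solvable transitive permutation group on 7 points that does not contain the alternating group is a simple group of order 168. -/
theorem result {α : Type*} [Fintype α] [DecidableEq α] (hα : Fintype.card α = 7) (G : Subgroup (Equiv.Perm α)) [MulAction.IsPretransitive G α] (hG : ¬ Group.IsSolvable G) (hA : ¬ alternatingGroup α ≤ G) : Nat.card G = 168 ∧ IsSimpleGroup G := by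
  obtain ⟨h2, hcard, hN21⟩ := Cfsg.Agent.Helper4.DegreeSeven.card_eq hα G hG hA
  refine ⟨hcard, ?_⟩
  have : Nontrivial G := by
    rw [← Finite.one_lt_card_iff_nontrivial, hcard]
    norm_num
  refine ⟨fun N hN => ?_⟩
  by_cases hbot : N = ⊥
  · exact Or.inl hbot
  · exact Or.inr (Cfsg.Agent.Helper4.DegreeSeven.normal_eq_top hα G h2 hG hA hcard hN21 N hbot)

end Cfsg.Agent.S0678
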