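import Cfsg.Statements.S0679
import Cfsg.Agent.S0675
import Cfsg.Agent.S0676
import Cfsg.Agent.Helper4.S0679N11
import Cfsg.Agent.Helper4.S0679J
import Cfsg.Agent.Helper29.S0679D1
import Cfsg.Agent.Helper29.S0679NODD
import Cfsg.Agent.Helper18.S0679PSL
import Cfsg.Agent.Helper18.S0679SIX
import Cfsg.Agent.Helper26.S0679SUPP8
import Cfsg.Agent.Helper19.S0679FMAIN
import Cfsg.Agent.Helper22.S0679ARITHD
import Cfsg.Agent.Helper22.S0679KTRANS
import Cfsg.Agent.Helper1.S0679ONEORDERS
import Cfsg.Agent.Helper23.S0679EVCARD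
import Cfsg.Agent.Helper19.S0679EVTRANS
import Cfsg.Agent.Lead.S0679EVSOLV
import Cfsg.Agent.Helper12.S0679N95040

set_option autoImplicit false
open Cfsg

namespace Cfsg.Agent.S0679

open Equiv MulAction Cfsg.Agent.S0679P

/-- Sylow-11 normaliser of order 11 ⟹ solvable (helper29's `D1'`) -/
theorem d1_of_card {α : Type*} [Fintype α] [DecidableEq α] (hα : Fintype.card α = 11)
    (G : Subgroup (Equiv.Perm α)) [MulAction.IsPretransitive G α] [Fact (Nat.Prime 11)]
    (P : Sylow 11 G)
    (hN : Nat.card (Subgroup.normalizer ((P : Subgroup G) : Set G)) = 11) : Group.IsSolvable G := by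
  have hP : Nat.card (P : Subgroup G) = 11 := N11.card_sylow hα P
  have hle : (P : Subgroup G) ≤ Subgroup.normalizer ((P : Subgroup G) : Set G) := Subgroup.le_normalizer
  have heq : Subgroup.normalizer ((P : Subgroup G) : Set G) = (P : Subgroup G) :=
    (Subgroup.eq_of_le_of_card_ge hle (by rw [hN, hP])).symm
  have hcyc : IsCyclic (P : Subgroup G) := isCyclic_of_prime_card hP
  refine D1' hα G P heq ?_
  intro a ha b hb
  letI : CommGroup (P : Subgroup G) := IsCyclic.commGroup
  have h := mul_comm (⟨a, ha⟩ : (P : Subgroup G)) ⟨b, hb⟩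
  exact congrArg Subtype.val h

/-- the even case: `G ≤ A_11` -/
theorem even_case {α : Type*} [Fintype α] [DecidableEq α] (hα : Fintype.card α = 11)
    (G : Subgroup (Equiv.Perm α)) [MulAction.IsPretransitive G α] (hG : ¬ Group.IsSolvable G)
    (hA : ¬ alternatingGroup α ≤ G) (hev : G ≤ alternatingGroup α)
    (h2 : IsMultiplyPretransitive G α 2) :
    (Nat.card G = 660 ∧ ∀ [Fact (Nat.Prime 11)], Nat.card (Sylow 11 G) = 12) ∨ Nat.card G = 7920 := by
  haveI : Fact (Nat.Prime 11) := ⟨by norm_num⟩
  obtain ⟨P⟩ : Nonempty (Sylow 11 G) := inferInstance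
  obtain ⟨d, n, hd, hn, hN, hsyl, hord⟩ := N11.card_eq hα P
  have hd4 : d = 1 ∨ d = 2 ∨ d = 5 ∨ d = 10 := by
    have hle : d ≤ 10 := Nat.le_of_dvd (by norm_num) hd
    interval_cases d <;> simp_all
  have hodd : ¬ Even (11 * d) := by
    intro h
    rw [← hN] at h
    exact NODD hα G hev P (N11.card_sylow hα P) (even_iff_two_dvd.mp h)
  rcases hd4 with rfl | rfl | rfl | rfl
  · exact absurd (d1_of_card hα G P (by simpa using hN)) hG
  · exact absurd (by decide) hodd
  · rcases ONE.ORDERS hα h2 hA hn hord with h | h | h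
    · left
      refine ⟨h, ?_⟩
      intro _
      have : n = 12 := by omega
      rw [← this]
      convert hsyl
    · right; exact h
    · exact (N95040.main hα h2 hA h).elim
  · exact absurd (by decide) hodd

/-- no swaps -/
theorem no_swap {α : Type*} [Fintype α] [DecidableEq α] (hα : Fintype.card α = 11)
    {G : Subgroup (Equiv.Perm α)} (h2 : IsMultiplyPretransitive G α 2)
    (hA : ¬ alternatingGroup α ≤ G) : ∀ g ∈ G, ¬ g.IsSwap := by
  intro g hg hs
  have hc : g.support.card = 2 := Equiv.Perm.card_support_eq_two.mpr hs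
  exact J hα h2 hA hg hs.isCycle (by rw [hc]; norm_num) (by rw [hc]; norm_num)

/-- the non-even case is impossible -/
theorem odd_case {α : Type*} [Fintype α] [DecidableEq α] (hα : Fintype.card α = 11)
    (G : Subgroup (Equiv.Perm α)) [MulAction.IsPretransitive G α] (hG : ¬ Group.IsSolvable G)
    (hA : ¬ alternatingGroup α ≤ G) (hev : ¬ G ≤ alternatingGroup α)
    (h2 : IsMultiplyPretransitive G α 2) : False := by
  haveI : Fact (Nat.Prime 11) := ⟨by norm_num⟩
  have h11p : (Fintype.card α).Prime := by rw [hα]; norm_num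
  obtain ⟨P⟩ : Nonempty (Sylow 11 G) := inferInstance
  obtain ⟨d, n, hd, hn, hN, hsyl, hord⟩ := N11.card_eq hα P
  -- the even part
  obtain ⟨Gp, hGp⟩ : ∃ Gp : Subgroup (Equiv.Perm α), Gp = G ⊓ alternatingGroup α := ⟨_, rfl⟩
  haveI htr : MulAction.IsPretransitive Gp α := by
    rw [hGp]; exact ONE.EVTRANS hα
  have hcard : Nat.card G = 2 * Nat.card Gp := by
    rw [hGp]; exact ONE.EVCARD hev
  have hGpS : ¬ Group.IsSolvable Gp := by
    intro h
    apply hG
    apply ONE.EVSOLV
    rw [← hGp]; exact h
  have hAp : ¬ alternatingGroup α ≤ Gp := by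
    intro h
    apply hA
    rw [hGp] at h
    exact h.trans inf_le_left
  have hevp : Gp ≤ alternatingGroup α := by
    rw [hGp]; exact inf_le_right
  have hleG : Gp ≤ G := by
    rw [hGp]; exact inf_le_left
  have h2p : IsMultiplyPretransitive Gp α 2 :=
    (Cfsg.Agent.S0675.result h11p Gp).resolve_left hGpS
  obtain ⟨P'⟩ : Nonempty (Sylow 11 Gp) := inferInstance
  obtain ⟨d', n', hd', hn', hN', hsyl', hord'⟩ := N11.card_eq hα P'
  have harith := ONE.ARITHD hd hd' hn hn' (by rw [← hord, ← hord', hcard])
  rcases harith with ⟨rfl, rfl⟩ | ⟨rfl, rfl⟩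
  · exact hGpS (d1_of_card hα Gp P' (by simpa using hN'))
  · rcases ONE.ORDERS hα h2p hAp hn' hord' with h | h | h
    · -- `|G| = 1320`, but `G` is 3-transitive
      have h3 : IsMultiplyPretransitive G α 3 :=
        Cfsg.Agent.S0676.result hα G hG P (by rw [hN]; decide)
      have hdvd := ONE.KTRANS h3 (by rw [hα]; norm_num)
      rw [Fintype.card_embedding_eq, hα, Fintype.card_fin, hcard, h] at hdvd
      revert hdvd
      decide
    · -- chapter (5)
      have hsix := SIX.main hα h2p hAp hevp h
      refine Cfsg.Agent.S0679F.main hα G ?_ ?_ hev (no_swap hα h2 hA)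
      · intro x y
        haveI := hsix.1
        obtain ⟨g, hg⟩ := MulAction.exists_smul_eq Gp x y
        refine ⟨(g : Equiv.Perm α), hleG g.2, hevp g.2, fun i => ?_⟩
        have h3 : (g • x) i = y i := congrArg (fun z : Fin 4 ↪ α => z i) hg
        rw [Function.Embedding.smul_apply] at h3
        exact h3
      · intro g hg hga hg1
        have hgp : g ∈ Gp := by
          rw [hGp]; exact ⟨hg, hga⟩
        exact SUPP8 hα h2p hAp hevp h hgp hg1
    · exact N95040.main hα h2p hAp h

/-- A non-solvable transitive permutation group on 11 points that does not contain the alternating group is either sharply 4-transitive (of order 7920) or isomorphic to the projective special linear group of degree 2 over the field with 11 elements. -/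
theorem result {α : Type*} [Fintype α] [DecidableEq α] (hα : Fintype.card α = 11) (G : Subgroup (Equiv.Perm α)) [MulAction.IsPretransitive G α] (hG : ¬ Group.IsSolvable G) (hA : ¬ alternatingGroup α ≤ G) : (MulAction.IsMultiplyPretransitive G α 4 ∧ ∀ x : Fin 4 ↪ α, MulAction.stabilizer G x = ⊥) ∨ Nonempty (G ≃* Matrix.ProjectiveSpecialLinearGroup (Fin 2) (ZMod 11)) := by
  have h11p : (Fintype.card α).Prime := by rw [hα]; norm_num
  have h2 : IsMultiplyPretransitive G α 2 :=
    (Cfsg.Agent.S0675.result h11p G).resolve_left hG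
  by_cases hev : G ≤ alternatingGroup α
  · rcases even_case hα G hG hA hev h2 with ⟨h, hn⟩ | h
    · right
      have : Fact (Nat.Prime 11) := ⟨by norm_num⟩
      exact ONE.PSL hα h hn
    · left
      exact SIX.main hα h2 hA hev h
  · exact (odd_case hα G hG hA hev h2).elim

end Cfsg.Agent.S0679
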