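import Cfsg.Statements.S0680
import Mathlib
import Cfsg.Agent.Helper4.Sharp2

set_option autoImplicit false
open Cfsg

namespace Cfsg.Agent.S0680

/-- A finite sharply doubly transitive permutation group has degree a prime power `p ^ j`; a Sylow `p`-subgroup is normal, elementary abelian and regular, and consists of the identity together with the elements without fixed points. (Frobenius' Theorem is not needed.) -/
theorem result {α : Type*} [Fintype α] [DecidableEq α] (G : Subgroup (Equiv.Perm α)) [MulAction.IsMultiplyPretransitive G α 2] (hsharp : ∀ x : Fin 2 ↪ α, MulAction.stabilizer G x = ⊥) (h2 : 2 ≤ Fintype.card α) : ∃ p j : ℕ, p.Prime ∧ 1 ≤ j ∧ Fintype.card α = p ^ j ∧ ∀ (hp : Fact p.Prime) (P : Sylow p G), (P : Subgroup G).Normal ∧ IsMulCommutative (P : Subgroup G) ∧ (∀ x ∈ (P : Subgroup G), x ^ p = 1) ∧ MulAction.IsPretransitive (P : Subgroup G) α ∧ (∀ a : α, MulAction.stabilizer (P : Subgroup G) a = ⊥) ∧ ∀ g : G, g ∈ (P : Subgroup G) ↔ g = 1 ∨ ∀ a : α, g • a ≠ a := by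
  classical
  have hs : ∀ (g : G) (x y : α), x ≠ y → g • x = x → g • y = y → g = 1 :=
    fun g x y hxy hx hy => Cfsg.Agent.Helper4.eq_one_of_fix_two hsharp g hxy hx hy
  have h2t : MulAction.IsMultiplyPretransitive G α 2 := inferInstance
  obtain ⟨N, hNnormal, hNmem, hNcard, hGcard⟩ :=
    Cfsg.Agent.Helper4.sharp2_fpf_subgroup h2t hs h2
  have := hNnormal
  -- N is regular
  have hreg : ∀ a : α, MulAction.stabilizer N a = ⊥ := by
    intro a
    rw [Subgroup.eq_bot_iff_forall]
    intro g hg
    rcases (hNmem g.1).mp g.2 with h | h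
    · exact Subtype.ext h
    · exact absurd hg (h a)
  have hne : Nonempty α := Fintype.card_pos_iff.mp (by omega)
  have htransN : MulAction.IsPretransitive N α := by
    obtain ⟨a0⟩ := hne
    have hinj : Function.Injective (fun g : N => g • a0) := by
      intro g h hgh
      have : h⁻¹ * g ∈ MulAction.stabilizer N a0 := by
        rw [MulAction.mem_stabilizer_iff, mul_smul]
        change h⁻¹ • (g • a0) = a0
        rw [show g • a0 = h • a0 from hgh, inv_smul_smul]
      rw [hreg a0, Subgroup.mem_bot, inv_mul_eq_one] at this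
      exact this.symm
    have hbij : Function.Bijective (fun g : N => g • a0) :=
      hinj.bijective_of_nat_card_le (by rw [hNcard, Nat.card_eq_fintype_card])
    refine ⟨fun x y => ?_⟩
    obtain ⟨gx, hgx⟩ := hbij.2 x
    obtain ⟨gy, hgy⟩ := hbij.2 y
    refine ⟨gy * gx⁻¹, ?_⟩
    rw [mul_smul, ← hgx]
    change gy • gx⁻¹ • gx • a0 = y
    rw [inv_smul_smul]
    exact hgy
  obtain ⟨p, hp, hexp, _, hcomm, k, hk⟩ :=
    Cfsg.Agent.Helper4.regular_normal_elementary_abelian N
      (by rw [Nat.card_eq_fintype_card]; exact h2) h2t htransN hreg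
  rw [Nat.card_eq_fintype_card] at hk
  have hk1 : 1 ≤ k := by
    rcases Nat.eq_zero_or_pos k with h | h
    · rw [h, pow_zero] at hk; omega
    · exact h
  refine ⟨p, k, hp, hk1, hk, ?_⟩
  intro hpf P
  -- P = N
  have hNp : IsPGroup p N := IsPGroup.of_card (n := k) (by rw [hNcard, hk])
  have hPN : (P : Subgroup G) = N := by
    obtain ⟨Q, hQ⟩ := hNp.exists_le_sylow
    obtain ⟨g, hg⟩ := MulAction.exists_smul_eq G Q P
    have hNP : N ≤ (P : Subgroup G) := by
      intro u hu
      rw [← hg, Sylow.coe_subgroup_smul, Subgroup.mem_pointwise_smul_iff_inv_smul_mem]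
      apply hQ
      have : (MulAut.conj g)⁻¹ • u = g⁻¹ * u * g⁻¹⁻¹ := by
        rw [MulAut.smul_def, MulAut.conj_inv_apply, inv_inv]
      rw [this]
      exact hNnormal.conj_mem u hu g⁻¹
    symm
    apply Subgroup.eq_of_le_of_card_ge hNP
    rw [Sylow.card_eq_multiplicity, hGcard, hNcard, hk]
    have hpk : p ^ k - 1 ≠ 0 := by
      have : 2 ≤ p ^ k := by rw [← hk]; exact h2
      omega
    have hndvd : ¬ p ∣ p ^ k - 1 := by
      intro hd
      have h1 : p ∣ p ^ k := dvd_pow_self p (by omega)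
      have : p ∣ p ^ k - (p ^ k - 1) := Nat.dvd_sub h1 hd
      have e : p ^ k - (p ^ k - 1) = 1 := by
        have : 1 ≤ p ^ k := Nat.one_le_pow _ _ hp.pos
        omega
      rw [e] at this
      exact hp.one_lt.ne' (Nat.dvd_one.mp this)
    rw [Nat.factorization_mul (pow_ne_zero _ hp.ne_zero) hpk, Finsupp.add_apply,
      hp.factorization_pow, Finsupp.single_eq_same,
      Nat.factorization_eq_zero_of_not_dvd hndvd, add_zero]
  rw [hPN]
  refine ⟨hNnormal, ⟨⟨fun a b => Subtype.ext (hcomm a.1 a.2 b.1 b.2)⟩⟩, hexp, htransN, hreg, hNmem⟩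

end Cfsg.Agent.S0680
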