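import Mathlib
import Cfsg.Statements.S0686
import Cfsg.Agent.Helper3.MinNonab
import Cfsg.Agent.Helper3.S0686Lib

set_option autoImplicit false
set_option linter.style.haveILetI false
open Cfsg

namespace Cfsg.Agent.S0686

/-- In a linear group over the prime field that is regular on non-zero vectors and has no irreducible cyclic normal subgroup, let `A` be a maximal normal abelian subgroup and `N` a normal subgroup centralising `A` that is minimal among non-abelian normal subgroups centralising `A`. Then `N` is quaternion of order 8 or isomorphic to `SL(2,5)`. -/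
theorem result {p : ℕ} [Fact p.Prime] {V : Type*} [AddCommGroup V] [Module (ZMod p) V] [Finite V] (H : Subgroup (V ≃ₗ[ZMod p] V)) (hreg : ∀ v w : V, v ≠ 0 → w ≠ 0 → ∃! h : H, (h : V ≃ₗ[ZMod p] V) v = w) (hI : ∀ A : Subgroup H, A.Normal → IsCyclic A → ∃ W : Submodule (ZMod p) V, W ≠ ⊥ ∧ W ≠ ⊤ ∧ ∀ a ∈ A, ∀ v ∈ W, ((a : H) : V ≃ₗ[ZMod p] V) v ∈ W) (A : Subgroup H) (hAn : A.Normal) (hAc : IsMulCommutative A) (hAmax : ∀ B : Subgroup H, B.Normal → IsMulCommutative B → A ≤ B → B = A) (N : Subgroup H) (hNn : N.Normal) (hNle : N ≤ Subgroup.centralizer (A : Set H)) (hNna : ¬ IsMulCommutative N) (hNmin : ∀ M : Subgroup H, M.Normal → M ≤ N → ¬ IsMulCommutative M → M = N) : Nonempty (N ≃* QuaternionGroup 2) ∨ Nonempty (N ≃* Matrix.SpecialLinearGroup (Fin 2) (ZMod 5)) := by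
  classical
  haveI : Finite (V ≃ₗ[ZMod p] V) := Cfsg.Agent.Helper3.S0686Lib.finite_linearEquiv
  have hfpf : ∀ h : H, h ≠ 1 → ∀ v : V, (h : V ≃ₗ[ZMod p] V) v = v → v = 0 :=
    fun h hh v hv => Cfsg.Agent.Helper3.S0686Lib.fpf_of_reg H hreg h hh v hv
  have hcentral : ∀ M : Subgroup H, M.Normal → M ≤ N → IsMulCommutative M →
      ∀ m ∈ M, ∀ n ∈ N, m * n = n * m :=
    fun M hMn hMN hMc => Cfsg.Agent.Helper3.MinNonab.central_of_comm hAn hAc hAmax hNle hMn hMN hMc
  have hne : N ≠ ⊥ := by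
    rintro rfl
    apply hNna
    exact ⟨⟨fun a b => Subsingleton.elim _ _⟩⟩
  by_cases hperf : ⁅N, N⁆ = N
  · right
    exact Cfsg.Agent.Helper3.S0686Lib.perfect_case H hfpf N hperf hne
  · left
    haveI := hNn
    have hcn : (⁅N, N⁆ : Subgroup H).Normal := Subgroup.commutator_normal N N
    have hle : ⁅N, N⁆ ≤ N := Subgroup.commutator_le_left N N
    have hc : IsMulCommutative (⁅N, N⁆ : Subgroup H) := by
      by_contra h
      exact hperf (hNmin _ hcn hle h)
    have hcen := hcentral _ hcn hle hc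
    obtain ⟨r, hr, hNr⟩ := Cfsg.Agent.Helper3.MinNonab.isPGroup_of_central hNn hNna hNmin hcen
    exact Cfsg.Agent.Helper3.S0686Lib.quaternion_case H hfpf N hNn r hr hNr hNna hcentral

end Cfsg.Agent.S0686
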