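import Cfsg.Statements.S0690
import Cfsg.Agent.Helper5.ZasLattice
import Cfsg.Agent.Helper6.FrobSemidirect
import Cfsg.Agent.Helper5.ZasFinal

set_option autoImplicit false
open Cfsg

namespace Cfsg.Agent.S0690

/-- Zassenhaus: a perfect non-trivial group of fixed-point-free automorphisms of a finite group is isomorphic to `SL(2,5)`. -/
theorem result {K : Type*} [Group K] [Finite K] (G : Subgroup (MulAut K)) (hfpf : ∀ φ ∈ G, φ ≠ 1 → ∀ k : K, φ k = k → k = 1) (hperf : commutator G = ⊤) (hne : G ≠ ⊥) : Nonempty (G ≃* Matrix.SpecialLinearGroup (Fin 2) (ZMod 5)) := by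
  have hGnt : Nontrivial G := (Subgroup.nontrivial_iff_ne_bot G).mpr hne
  have hKnt : Nontrivial K := by
    by_contra hK
    rw [not_nontrivial_iff_subsingleton] at hK
    apply hne
    rw [eq_bot_iff]
    intro φ _
    rw [Subgroup.mem_bot]
    ext k
    exact Subsingleton.elim _ _
  let _ : MulDistribMulAction G K := MulDistribMulAction.compHom K G.subtype
  have hfpf' : ∀ s : G, s ≠ 1 → ∀ v : K, s • v = v → v = 1 := by
    intro s hs v hv
    exact hfpf s.1 s.2 (fun h => hs (Subtype.ext h)) v hv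
  obtain ⟨L, iL, iF, H, hH, ⟨e⟩⟩ :=
    Cfsg.Agent.Helper6.exists_frobenius_of_fpf_mul' (S := G) (V := K) hfpf'
  obtain ⟨p, hp, V, i1, i2, i3, i4, ⟨S⟩⟩ := Cfsg.Agent.Helper5.Zas.exists_setup_of_fc H hH
  exact Cfsg.Agent.Helper5.ZasFin.perfect_iso_sl25 (S.ofEquiv e) hperf hGnt

end Cfsg.Agent.S0690
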