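import Cfsg.Statements.S0691
import Mathlib
import Cfsg.Agent.Helper4.MatGroup

set_option autoImplicit false
open Cfsg

namespace Cfsg.Agent.S0691

section Data
open Cfsg.Agent.Helper4.MatGroup

def gA : T := (2, 0, 0, 3)
def gB : T := (0, 4, 1, 0)
def gC : T := (1, 2, 1, 3)

def W : List (List T) := [
  [],
  [gA],
  [gB],
  [gC],
  [gA, gA],
  [gB, gA],
  [gC, gA],
  [gA, gB],
  [gC, gB],
  [gB, gC],
  [gC, gC],
  [gA, gA, gA],
  [gB, gA, gA],
  [gC, gA, gA],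
  [gB, gC, gA],
  [gC, gC, gA],
  [gC, gA, gB],
  [gC, gC, gB],
  [gA, gB, gC],
  [gC, gB, gC],
  [gC, gC, gA, gA],
  [gC, gB, gC, gA],
  [gC, gC, gA, gB],
  [gC, gA, gB, gC]]

def Lt : List T := [
  (1, 0, 0, 1),
  (2, 0, 0, 3),
  (0, 4, 1, 0),
  (1, 2, 1, 3),
  (4, 0, 0, 4),
  (0, 2, 2, 0),
  (2, 1, 2, 4),
  (0, 3, 3, 0),
  (2, 4, 3, 4),
  (4, 2, 1, 2),
  (3, 3, 4, 1),
  (3, 0, 0, 2),
  (0, 1, 4, 0),
  (4, 3, 4, 2),
  (3, 1, 2, 1),
  (1, 4, 3, 3),
  (1, 3, 4, 3),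
  (3, 2, 1, 1),
  (3, 4, 3, 1),
  (1, 1, 2, 3),
  (2, 2, 1, 4),
  (2, 3, 4, 4),
  (4, 4, 3, 2),
  (4, 1, 2, 2)]


end Data

/-- An exceptional sharply doubly transitive group of degree 5^2: the listed matrices generate a subgroup of GL(2,5) of order 24 acting regularly on the non-zero vectors. -/
theorem result (A : Matrix.GeneralLinearGroup (Fin 2) (ZMod 5)) (B : Matrix.GeneralLinearGroup (Fin 2) (ZMod 5)) (C : Matrix.GeneralLinearGroup (Fin 2) (ZMod 5)) (hA : (A : Matrix (Fin 2) (Fin 2) (ZMod 5)) = !![2, 0; 0, -2]) (hB : (B : Matrix (Fin 2) (Fin 2) (ZMod 5)) = !![0, -1; 1, 0]) (hC : (C : Matrix (Fin 2) (Fin 2) (ZMod 5)) = !![1, 2; 1, -2]) : Nat.card (Subgroup.closure ({A, B, C} : Set (Matrix.GeneralLinearGroup (Fin 2) (ZMod 5)))) = 24 ∧ ∀ v w : Fin 2 → ZMod 5, v ≠ 0 → w ≠ 0 → ∃! h : Subgroup.closure ({A, B, C} : Set (Matrix.GeneralLinearGroup (Fin 2) (ZMod 5))), Matrix.mulVec ((h : Matrix.GeneralLinearGroup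 (Fin 2) (ZMod 5)) : Matrix (Fin 2) (Fin 2) (ZMod 5)) v = w := by
  have hAm : (A : Matrix (Fin 2) (Fin 2) (ZMod 5)) = Cfsg.Agent.Helper4.MatGroup.toM 5 gA := by
    rw [hA]; decide
  have hBm : (B : Matrix (Fin 2) (Fin 2) (ZMod 5)) = Cfsg.Agent.Helper4.MatGroup.toM 5 gB := by
    rw [hB]; decide
  have hCm : (C : Matrix (Fin 2) (Fin 2) (ZMod 5)) = Cfsg.Agent.Helper4.MatGroup.toM 5 gC := by
    rw [hC]; decide
  have : Fact (Nat.Prime 5) := ⟨by norm_num⟩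
  have := Cfsg.Agent.Helper4.MatGroup.closure_regular (p := 5)
    ({A, B, C} : Set (Matrix.GeneralLinearGroup (Fin 2) (ZMod 5))) [gA, gB, gC]
    (by
      intro s hs
      simp only [List.mem_cons, List.not_mem_nil, or_false] at hs
      rcases hs with rfl | rfl | rfl
      · exact ⟨A, by simp, hAm⟩
      · exact ⟨B, by simp, hBm⟩
      · exact ⟨C, by simp, hCm⟩)
    (by
      intro g hg
      simp only [Set.mem_insert_iff, Set.mem_singleton_iff] at hg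
      rcases hg with rfl | rfl | rfl
      · exact ⟨gA, by simp, hAm⟩
      · exact ⟨gB, by simp, hBm⟩
      · exact ⟨gC, by simp, hCm⟩)
    W Lt (by decide +kernel) (by decide +kernel) (by decide +kernel) (by decide +kernel)
    (by decide +kernel) (by decide +kernel) (by decide +kernel) (by decide +kernel)
  exact this

end Cfsg.Agent.S0691
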