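import Cfsg.Statements.S0692
import Mathlib
import Cfsg.Agent.Helper4.MatGroup

set_option autoImplicit false
open Cfsg

namespace Cfsg.Agent.S0692

section Data
open Cfsg.Agent.Helper4.MatGroup

def gA : T := (0, 10, 1, 0)
def gB : T := (2, 4, 1, 8)

def W : List (List T) := [
  [],
  [gA],
  [gB],
  [gA, gA],
  [gB, gA],
  [gA, gB],
  [gB, gB],
  [gA, gA, gA],
  [gB, gA, gA],
  [gA, gB, gA],
  [gB, gB, gA],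
  [gB, gA, gB],
  [gA, gB, gB],
  [gB, gA, gA, gA],
  [gA, gB, gA, gA],
  [gB, gB, gA, gA],
  [gB, gA, gB, gA],
  [gA, gB, gB, gA],
  [gA, gB, gA, gB],
  [gB, gB, gA, gB],
  [gB, gA, gB, gB],
  [gA, gB, gA, gA, gA],
  [gB, gB, gA, gA, gA],
  [gB, gA, gB, gA, gA],
  [gA, gB, gB, gA, gA],
  [gA, gB, gA, gB, gA],
  [gB, gB, gA, gB, gA],
  [gB, gA, gB, gB, gA],
  [gB, gA, gB, gA, gB],
  [gA, gB, gB, gA, gB],
  [gA, gB, gA, gB, gB],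
  [gB, gB, gA, gB, gB],
  [gB, gA, gB, gA, gA, gA],
  [gA, gB, gB, gA, gA, gA],
  [gA, gB, gA, gB, gA, gA],
  [gB, gB, gA, gB, gA, gA],
  [gB, gA, gB, gB, gA, gA],
  [gB, gA, gB, gA, gB, gA],
  [gA, gB, gB, gA, gB, gA],
  [gA, gB, gA, gB, gB, gA],
  [gB, gB, gA, gB, gB, gA],
  [gB, gB, gA, gB, gA, gB],
  [gB, gA, gB, gB, gA, gB],
  [gB, gA, gB, gA, gB, gB],
  [gA, gB, gA, gB, gA, gA, gA],
  [gB, gB, gA, gB, gA, gA, gA],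
  [gB, gA, gB, gB, gA, gA, gA],
  [gB, gA, gB, gA, gB, gA, gA],
  [gA, gB, gB, gA, gB, gA, gA],
  [gA, gB, gA, gB, gB, gA, gA],
  [gB, gB, gA, gB, gB, gA, gA],
  [gB, gB, gA, gB, gA, gB, gA],
  [gB, gA, gB, gB, gA, gB, gA],
  [gB, gA, gB, gA, gB, gB, gA],
  [gA, gB, gB, gA, gB, gA, gB],
  [gA, gB, gA, gB, gB, gA, gB],
  [gB, gB, gA, gB, gB, gA, gB],
  [gB, gB, gA, gB, gA, gB, gB],
  [gB, gA, gB, gA, gB, gA, gA, gA],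
  [gA, gB, gB, gA, gB, gA, gA, gA],
  [gA, gB, gA, gB, gB, gA, gA, gA],
  [gB, gB, gA, gB, gB, gA, gA, gA],
  [gB, gB, gA, gB, gA, gB, gA, gA],
  [gB, gA, gB, gB, gA, gB, gA, gA],
  [gB, gA, gB, gA, gB, gB, gA, gA],
  [gA, gB, gB, gA, gB, gA, gB, gA],
  [gA, gB, gA, gB, gB, gA, gB, gA],
  [gB, gB, gA, gB, gB, gA, gB, gA],
  [gB, gB, gA, gB, gA, gB, gB, gA],
  [gB, gA, gB, gB, gA, gB, gA, gB],
  [gB, gA, gB, gA, gB, gB, gA, gB],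
  [gA, gB, gB, gA, gB, gA, gB, gB],
  [gB, gB, gA, gB, gA, gB, gA, gA, gA],
  [gB, gA, gB, gB, gA, gB, gA, gA, gA],
  [gB, gA, gB, gA, gB, gB, gA, gA, gA],
  [gA, gB, gB, gA, gB, gA, gB, gA, gA],
  [gA, gB, gA, gB, gB, gA, gB, gA, gA],
  [gB, gB, gA, gB, gB, gA, gB, gA, gA],
  [gB, gB, gA, gB, gA, gB, gB, gA, gA],
  [gB, gA, gB, gB, gA, gB, gA, gB, gA],
  [gB, gA, gB, gA, gB, gB, gA, gB, gA],
  [gA, gB, gB, gA, gB, gA, gB, gB, gA],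
  [gA, gB, gA, gB, gB, gA, gB, gA, gB],
  [gB, gB, gA, gB, gB, gA, gB, gA, gB],
  [gB, gB, gA, gB, gA, gB, gB, gA, gB],
  [gB, gA, gB, gB, gA, gB, gA, gB, gB],
  [gA, gB, gB, gA, gB, gA, gB, gA, gA, gA],
  [gA, gB, gA, gB, gB, gA, gB, gA, gA, gA],
  [gB, gB, gA, gB, gB, gA, gB, gA, gA, gA],
  [gB, gB, gA, gB, gA, gB, gB, gA, gA, gA],
  [gB, gA, gB, gB, gA, gB, gA, gB, gA, gA],
  [gB, gA, gB, gA, gB, gB, gA, gB, gA, gA],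
  [gA, gB, gB, gA, gB, gA, gB, gB, gA, gA],
  [gA, gB, gA, gB, gB, gA, gB, gA, gB, gA],
  [gB, gB, gA, gB, gB, gA, gB, gA, gB, gA],
  [gB, gB, gA, gB, gA, gB, gB, gA, gB, gA],
  [gB, gA, gB, gB, gA, gB, gA, gB, gB, gA],
  [gB, gA, gB, gA, gB, gB, gA, gB, gA, gB],
  [gA, gB, gB, gA, gB, gA, gB, gB, gA, gB],
  [gA, gB, gA, gB, gB, gA, gB, gA, gB, gB],
  [gB, gA, gB, gB, gA, gB, gA, gB, gA, gA, gA],
  [gB, gA, gB, gA, gB, gB, gA, gB, gA, gA, gA],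
  [gA, gB, gA, gB, gB, gA, gB, gA, gB, gA, gA],
  [gB, gB, gA, gB, gB, gA, gB, gA, gB, gA, gA],
  [gB, gB, gA, gB, gA, gB, gB, gA, gB, gA, gA],
  [gB, gA, gB, gB, gA, gB, gA, gB, gB, gA, gA],
  [gA, gB, gB, gA, gB, gA, gB, gB, gA, gB, gA],
  [gA, gB, gA, gB, gB, gA, gB, gA, gB, gB, gA],
  [gB, gB, gA, gB, gA, gB, gB, gA, gB, gA, gB],
  [gB, gA, gB, gB, gA, gB, gA, gB, gB, gA, gB],
  [gB, gA, gB, gA, gB, gB, gA, gB, gA, gB, gB],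
  [gA, gB, gA, gB, gB, gA, gB, gA, gB, gA, gA, gA],
  [gB, gB, gA, gB, gB, gA, gB, gA, gB, gA, gA, gA],
  [gB, gB, gA, gB, gA, gB, gB, gA, gB, gA, gA, gA],
  [gA, gB, gA, gB, gB, gA, gB, gA, gB, gB, gA, gA],
  [gB, gA, gB, gB, gA, gB, gA, gB, gB, gA, gB, gA],
  [gB, gA, gB, gA, gB, gB, gA, gB, gA, gB, gB, gA],
  [gA, gB, gB, gA, gB, gA, gB, gB, gA, gB, gA, gB],
  [gA, gB, gA, gB, gB, gA, gB, gA, gB, gB, gA, gB],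
  [gB, gB, gA, gB, gA, gB, gB, gA, gB, gA, gB, gB]]

def Lt : List T := [
  (1, 0, 0, 1),
  (0, 10, 1, 0),
  (2, 4, 1, 8),
  (10, 0, 0, 10),
  (4, 9, 8, 10),
  (10, 3, 2, 4),
  (8, 7, 10, 2),
  (0, 1, 10, 0),
  (9, 7, 10, 3),
  (3, 1, 4, 9),
  (7, 3, 2, 1),
  (6, 0, 4, 2),
  (1, 9, 8, 7),
  (7, 2, 3, 1),
  (1, 8, 9, 7),
  (3, 4, 1, 9),
  (0, 5, 2, 7),
  (9, 10, 7, 3),
  (7, 9, 6, 0),
  (6, 8, 5, 5),
  (1, 2, 10, 10),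
  (8, 10, 7, 2),
  (4, 8, 9, 10),
  (5, 0, 7, 9),
  (10, 2, 3, 4),
  (9, 4, 0, 5),
  (8, 5, 5, 6),
  (2, 10, 10, 1),
  (5, 7, 0, 9),
  (6, 6, 6, 8),
  (1, 1, 1, 2),
  (9, 0, 4, 5),
  (0, 6, 9, 4),
  (2, 1, 4, 8),
  (4, 2, 5, 0),
  (5, 3, 6, 6),
  (10, 9, 1, 1),
  (7, 6, 9, 0),
  (6, 5, 8, 5),
  (1, 10, 2, 10),
  (0, 2, 5, 7),
  (10, 6, 5, 2),
  (3, 0, 10, 4),
  (6, 10, 9, 6),
  (2, 7, 0, 6),
  (3, 6, 6, 5),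
  (9, 1, 1, 10),
  (6, 4, 0, 2),
  (5, 5, 5, 3),
  (10, 10, 10, 9),
  (2, 0, 7, 6),
  (6, 1, 2, 6),
  (0, 8, 4, 1),
  (10, 5, 6, 2),
  (6, 9, 10, 6),
  (1, 7, 3, 0),
  (2, 5, 6, 10),
  (4, 0, 1, 3),
  (4, 5, 2, 0),
  (5, 6, 3, 6),
  (10, 1, 9, 1),
  (0, 9, 6, 4),
  (1, 5, 6, 9),
  (8, 0, 1, 7),
  (5, 1, 2, 5),
  (9, 5, 6, 1),
  (7, 10, 0, 8),
  (5, 9, 10, 5),
  (0, 7, 3, 10),
  (8, 9, 9, 2),
  (3, 3, 3, 7),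
  (10, 8, 4, 0),
  (5, 10, 9, 5),
  (0, 3, 7, 10),
  (1, 6, 5, 9),
  (5, 2, 1, 5),
  (10, 4, 8, 0),
  (9, 6, 5, 1),
  (7, 0, 10, 8),
  (9, 3, 2, 2),
  (3, 8, 7, 8),
  (8, 1, 0, 7),
  (2, 9, 8, 9),
  (8, 4, 3, 3),
  (7, 1, 5, 4),
  (3, 5, 9, 8),
  (2, 6, 5, 10),
  (4, 1, 0, 3),
  (6, 2, 1, 6),
  (0, 4, 8, 1),
  (3, 2, 2, 9),
  (8, 8, 8, 4),
  (1, 3, 7, 0),
  (9, 9, 9, 3),
  (4, 3, 3, 8),
  (1, 4, 4, 6),
  (5, 8, 8, 2),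
  (3, 10, 0, 4),
  (6, 7, 7, 1),
  (2, 3, 3, 5),
  (2, 8, 9, 9),
  (8, 3, 4, 3),
  (9, 2, 3, 2),
  (3, 7, 8, 8),
  (4, 10, 6, 7),
  (8, 6, 2, 3),
  (7, 5, 1, 4),
  (3, 9, 5, 8),
  (6, 3, 3, 9),
  (7, 7, 7, 4),
  (5, 4, 4, 10),
  (2, 2, 2, 8),
  (7, 8, 8, 3),
  (10, 7, 7, 5),
  (9, 8, 8, 6),
  (7, 4, 4, 4),
  (4, 6, 10, 7),
  (8, 2, 6, 3),
  (4, 7, 7, 7),
  (4, 4, 4, 7)]


end Data

/-- An exceptional sharply doubly transitive group of degree 11^2: the listed matrices generate a subgroup of GL(2,11) of order 120 acting regularly on the non-zero vectors. -/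
theorem result (A : Matrix.GeneralLinearGroup (Fin 2) (ZMod 11)) (B : Matrix.GeneralLinearGroup (Fin 2) (ZMod 11)) (hA : (A : Matrix (Fin 2) (Fin 2) (ZMod 11)) = !![0, -1; 1, 0]) (hB : (B : Matrix (Fin 2) (Fin 2) (ZMod 11)) = !![2, 4; 1, -3]) : Nat.card (Subgroup.closure ({A, B} : Set (Matrix.GeneralLinearGroup (Fin 2) (ZMod 11)))) = 120 ∧ ∀ v w : Fin 2 → ZMod 11, v ≠ 0 → w ≠ 0 → ∃! h : Subgroup.closure ({A, B} : Set (Matrix.GeneralLinearGroup (Fin 2) (ZMod 11))), Matrix.mulVec ((h : Matrix.GeneralLinearGroup (Fin 2) (ZMod 11)) : Matrix (Fin 2) (Fin 2) (ZMod 11)) v = w := by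
  have hAm : (A : Matrix (Fin 2) (Fin 2) (ZMod 11)) = Cfsg.Agent.Helper4.MatGroup.toM 11 gA := by
    rw [hA]; decide
  have hBm : (B : Matrix (Fin 2) (Fin 2) (ZMod 11)) = Cfsg.Agent.Helper4.MatGroup.toM 11 gB := by
    rw [hB]; decide
  have : Fact (Nat.Prime 11) := ⟨by norm_num⟩
  have := Cfsg.Agent.Helper4.MatGroup.closure_regular (p := 11)
    ({A, B} : Set (Matrix.GeneralLinearGroup (Fin 2) (ZMod 11))) [gA, gB]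
    (by
      intro s hs
      simp only [List.mem_cons, List.not_mem_nil, or_false] at hs
      rcases hs with rfl | rfl
      · exact ⟨A, by simp, hAm⟩
      · exact ⟨B, by simp, hBm⟩)
    (by
      intro g hg
      simp only [Set.mem_insert_iff, Set.mem_singleton_iff] at hg
      rcases hg with rfl | rfl
      · exact ⟨gA, by simp, hAm⟩
      · exact ⟨gB, by simp, hBm⟩)
    W Lt (by decide +kernel) (by decide +kernel) (by decide +kernel) (by decide +kernel)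
    (by decide +kernel) (by decide +kernel) (by decide +kernel) (by decide +kernel)
  exact this

end Cfsg.Agent.S0692
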