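import Cfsg.Statements.S0693
import Mathlib
import Cfsg.Agent.Helper4.MatGroup

set_option autoImplicit false
open Cfsg

namespace Cfsg.Agent.S0693

section Data
open Cfsg.Agent.Helper4.MatGroup

def gA : T := (0, 58, 1, 0)
def gB : T := (9, 15, 49, 49)

def W0 : List (List T) := [
  [],
  [gA],
  [gB],
  [gA, gA],
  [gB, gA],
  [gA, gB],
  [gB, gB],
  [gA, gA, gA],
  [gB, gA, gA],
  [gA, gB, gA],
  [gB, gB, gA],
  [gB, gA, gB],
  [gA, gB, gB],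
  [gB, gA, gA, gA],
  [gA, gB, gA, gA],
  [gB, gB, gA, gA],
  [gB, gA, gB, gA],
  [gA, gB, gB, gA],
  [gA, gB, gA, gB],
  [gB, gB, gA, gB],
  [gB, gA, gB, gB],
  [gA, gB, gA, gA, gA],
  [gB, gB, gA, gA, gA],
  [gB, gA, gB, gA, gA],
  [gA, gB, gB, gA, gA],
  [gA, gB, gA, gB, gA],
  [gB, gB, gA, gB, gA],
  [gB, gA, gB, gB, gA],
  [gB, gA, gB, gA, gB],
  [gA, gB, gB, gA, gB],
  [gA, gB, gA, gB, gB],
  [gB, gB, gA, gB, gB],
  [gB, gA, gB, gA, gA, gA],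
  [gA, gB, gB, gA, gA, gA],
  [gA, gB, gA, gB, gA, gA],
  [gB, gB, gA, gB, gA, gA],
  [gB, gA, gB, gB, gA, gA],
  [gB, gA, gB, gA, gB, gA],
  [gA, gB, gB, gA, gB, gA],
  [gA, gB, gA, gB, gB, gA],
  [gB, gB, gA, gB, gB, gA],
  [gB, gB, gA, gB, gA, gB],
  [gB, gA, gB, gB, gA, gB],
  [gB, gA, gB, gA, gB, gB],
  [gA, gB, gA, gB, gA, gA, gA],
  [gB, gB, gA, gB, gA, gA, gA],
  [gB, gA, gB, gB, gA, gA, gA],
  [gB, gA, gB, gA, gB, gA, gA],
  [gA, gB, gB, gA, gB, gA, gA],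
  [gA, gB, gA, gB, gB, gA, gA],
  [gB, gB, gA, gB, gB, gA, gA],
  [gB, gB, gA, gB, gA, gB, gA],
  [gB, gA, gB, gB, gA, gB, gA],
  [gB, gA, gB, gA, gB, gB, gA],
  [gA, gB, gB, gA, gB, gA, gB],
  [gA, gB, gA, gB, gB, gA, gB],
  [gB, gB, gA, gB, gB, gA, gB],
  [gB, gB, gA, gB, gA, gB, gB],
  [gB, gA, gB, gA, gB, gA, gA, gA],
  [gA, gB, gB, gA, gB, gA, gA, gA],
  [gA, gB, gA, gB, gB, gA, gA, gA],
  [gB, gB, gA, gB, gB, gA, gA, gA],
  [gB, gB, gA, gB, gA, gB, gA, gA],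
  [gB, gA, gB, gB, gA, gB, gA, gA],
  [gB, gA, gB, gA, gB, gB, gA, gA],
  [gA, gB, gB, gA, gB, gA, gB, gA],
  [gA, gB, gA, gB, gB, gA, gB, gA],
  [gB, gB, gA, gB, gB, gA, gB, gA],
  [gB, gB, gA, gB, gA, gB, gB, gA],
  [gB, gA, gB, gB, gA, gB, gA, gB],
  [gB, gA, gB, gA, gB, gB, gA, gB],
  [gA, gB, gB, gA, gB, gA, gB, gB],
  [gB, gB, gA, gB, gA, gB, gA, gA, gA],
  [gB, gA, gB, gB, gA, gB, gA, gA, gA],
  [gB, gA, gB, gA, gB, gB, gA, gA, gA],
  [gA, gB, gB, gA, gB, gA, gB, gA, gA],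
  [gA, gB, gA, gB, gB, gA, gB, gA, gA],
  [gB, gB, gA, gB, gB, gA, gB, gA, gA],
  [gB, gB, gA, gB, gA, gB, gB, gA, gA],
  [gB, gA, gB, gB, gA, gB, gA, gB, gA],
  [gB, gA, gB, gA, gB, gB, gA, gB, gA],
  [gA, gB, gB, gA, gB, gA, gB, gB, gA],
  [gA, gB, gA, gB, gB, gA, gB, gA, gB],
  [gB, gB, gA, gB, gB, gA, gB, gA, gB],
  [gB, gB, gA, gB, gA, gB, gB, gA, gB],
  [gB, gA, gB, gB, gA, gB, gA, gB, gB],
  [gA, gB, gB, gA, gB, gA, gB, gA, gA, gA],
  [gA, gB, gA, gB, gB, gA, gB, gA, gA, gA],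
  [gB, gB, gA, gB, gB, gA, gB, gA, gA, gA],
  [gB, gB, gA, gB, gA, gB, gB, gA, gA, gA],
  [gB, gA, gB, gB, gA, gB, gA, gB, gA, gA],
  [gB, gA, gB, gA, gB, gB, gA, gB, gA, gA],
  [gA, gB, gB, gA, gB, gA, gB, gB, gA, gA],
  [gA, gB, gA, gB, gB, gA, gB, gA, gB, gA],
  [gB, gB, gA, gB, gB, gA, gB, gA, gB, gA],
  [gB, gB, gA, gB, gA, gB, gB, gA, gB, gA],
  [gB, gA, gB, gB, gA, gB, gA, gB, gB, gA],
  [gB, gA, gB, gA, gB, gB, gA, gB, gA, gB],
  [gA, gB, gB, gA, gB, gA, gB, gB, gA, gB],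
  [gA, gB, gA, gB, gB, gA, gB, gA, gB, gB],
  [gB, gA, gB, gB, gA, gB, gA, gB, gA, gA, gA],
  [gB, gA, gB, gA, gB, gB, gA, gB, gA, gA, gA],
  [gA, gB, gA, gB, gB, gA, gB, gA, gB, gA, gA],
  [gB, gB, gA, gB, gB, gA, gB, gA, gB, gA, gA],
  [gB, gB, gA, gB, gA, gB, gB, gA, gB, gA, gA],
  [gB, gA, gB, gB, gA, gB, gA, gB, gB, gA, gA],
  [gA, gB, gB, gA, gB, gA, gB, gB, gA, gB, gA],
  [gA, gB, gA, gB, gB, gA, gB, gA, gB, gB, gA],
  [gB, gB, gA, gB, gA, gB, gB, gA, gB, gA, gB],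
  [gB, gA, gB, gB, gA, gB, gA, gB, gB, gA, gB],
  [gB, gA, gB, gA, gB, gB, gA, gB, gA, gB, gB],
  [gA, gB, gA, gB, gB, gA, gB, gA, gB, gA, gA, gA],
  [gB, gB, gA, gB, gB, gA, gB, gA, gB, gA, gA, gA],
  [gB, gB, gA, gB, gA, gB, gB, gA, gB, gA, gA, gA],
  [gA, gB, gA, gB, gB, gA, gB, gA, gB, gB, gA, gA],
  [gB, gA, gB, gB, gA, gB, gA, gB, gB, gA, gB, gA],
  [gB, gA, gB, gA, gB, gB, gA, gB, gA, gB, gB, gA],
  [gA, gB, gB, gA, gB, gA, gB, gB, gA, gB, gA, gB],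
  [gA, gB, gA, gB, gB, gA, gB, gA, gB, gB, gA, gB],
  [gB, gB, gA, gB, gA, gB, gB, gA, gB, gA, gB, gB]]

def Lt0 : List T := [
  (1, 0, 0, 1),
  (0, 58, 1, 0),
  (9, 15, 49, 49),
  (58, 0, 0, 58),
  (15, 50, 49, 10),
  (10, 10, 9, 15),
  (49, 44, 10, 9),
  (0, 1, 58, 0),
  (50, 44, 10, 10),
  (10, 49, 15, 50),
  (44, 10, 9, 49),
  (48, 20, 46, 45),
  (49, 50, 49, 44),
  (44, 9, 10, 49),
  (49, 49, 50, 44),
  (10, 15, 49, 50),
  (20, 11, 45, 13),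
  (50, 10, 44, 10),
  (13, 14, 48, 20),
  (1, 29, 4, 58),
  (55, 48, 23, 4),
  (49, 10, 44, 9),
  (15, 49, 50, 10),
  (11, 39, 13, 14),
  (10, 9, 10, 15),
  (14, 46, 20, 11),
  (29, 58, 58, 55),
  (48, 4, 4, 36),
  (11, 13, 39, 14),
  (55, 1, 1, 29),
  (36, 55, 55, 48),
  (14, 20, 46, 11),
  (39, 48, 14, 46),
  (9, 49, 15, 49),
  (46, 45, 11, 39),
  (58, 30, 55, 1),
  (4, 11, 36, 55),
  (13, 48, 14, 20),
  (1, 4, 29, 58),
  (55, 23, 48, 4),
  (20, 45, 11, 13),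
  (35, 32, 31, 25),
  (38, 31, 30, 54),
  (28, 35, 34, 32),
  (45, 13, 39, 48),
  (30, 1, 1, 4),
  (11, 55, 55, 23),
  (48, 46, 20, 45),
  (4, 58, 58, 30),
  (23, 4, 4, 11),
  (45, 39, 13, 48),
  (32, 24, 25, 28),
  (31, 21, 54, 29),
  (35, 31, 32, 25),
  (28, 34, 35, 32),
  (29, 5, 38, 31),
  (25, 27, 28, 35),
  (54, 28, 29, 38),
  (46, 11, 45, 39),
  (58, 55, 30, 1),
  (4, 36, 11, 55),
  (39, 14, 48, 46),
  (24, 27, 28, 34),
  (21, 28, 29, 5),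
  (31, 24, 25, 27),
  (34, 31, 32, 24),
  (5, 30, 31, 21),
  (27, 34, 35, 31),
  (28, 5, 38, 30),
  (10, 19, 19, 48),
  (5, 38, 38, 53),
  (30, 21, 54, 28),
  (27, 35, 34, 31),
  (28, 38, 5, 30),
  (24, 28, 27, 34),
  (31, 25, 24, 27),
  (30, 54, 21, 28),
  (34, 32, 31, 24),
  (5, 31, 30, 21),
  (19, 49, 48, 40),
  (38, 54, 53, 21),
  (21, 29, 28, 5),
  (40, 11, 10, 19),
  (21, 6, 5, 38),
  (25, 16, 42, 34),
  (18, 19, 45, 41),
  (25, 28, 27, 35),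
  (54, 29, 28, 38),
  (32, 25, 24, 28),
  (31, 54, 21, 29),
  (49, 40, 40, 11),
  (54, 21, 21, 6),
  (29, 38, 5, 31),
  (11, 19, 19, 49),
  (6, 38, 38, 54),
  (16, 34, 34, 17),
  (19, 41, 41, 14),
  (38, 30, 31, 54),
  (17, 25, 25, 16),
  (14, 18, 18, 19),
  (40, 10, 11, 19),
  (21, 5, 6, 38),
  (19, 48, 49, 40),
  (38, 53, 54, 21),
  (34, 43, 17, 25),
  (41, 40, 14, 18),
  (25, 42, 16, 34),
  (18, 45, 19, 41),
  (40, 18, 18, 45),
  (56, 52, 52, 3),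
  (42, 34, 34, 43),
  (48, 40, 40, 10),
  (53, 21, 21, 5),
  (43, 25, 25, 42),
  (45, 41, 41, 40),
  (52, 3, 3, 7),
  (34, 17, 43, 25),
  (41, 14, 40, 18),
  (7, 56, 56, 52),
  (3, 7, 7, 56)]


theorem c_hLt : W0.map (evalT 59) = Lt0 := by decide +kernel
theorem c_hW : ∀ w ∈ W0, ∀ x ∈ w, x ∈ [gA, gB] := by decide +kernel
theorem c_hone : tone ∈ Lt0 := by decide +kernel
theorem c_hclosed : ∀ s ∈ [gA, gB], ∀ t ∈ Lt0, tmul 59 s t ∈ Lt0 := by decide +kernel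
theorem c_nodup : Lt0.Nodup := by decide +kernel
theorem c_hb : ∀ t ∈ Lt0, tbounded 59 t := by decide +kernel
theorem c_det : ∀ t ∈ Lt0, (t.1 * t.2.2.2) % 59 = (t.2.1 * t.2.2.1 + 1) % 59 := by
  decide +kernel
theorem c_stab : ∀ t ∈ Lt0, ∀ k < 29, t.2.2.1 = 0 → (4 ^ k * t.1) % 59 = 1 →
    k = 0 ∧ t = tone := by decide +kernel
theorem c_pow : ∀ k < 29, ∀ k' < 29, (16 ^ k) % 59 = (16 ^ k') % 59 → k = k' := by
  decide +kernel
theorem c_len : Lt0.length = 120 := by decide +kernel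

theorem z29 : (4 : ZMod 59) ^ 29 = 1 := by decide +kernel
theorem z4 : (4 : ZMod 59) ≠ 0 := by decide +kernel

theorem det_toM (t : T) (ht : t ∈ Lt0) : (toM 59 t).det = 1 := by
  have h := c_det t ht
  have h' : ((t.1 * t.2.2.2 : ℕ) : ZMod 59) = ((t.2.1 * t.2.2.1 + 1 : ℕ) : ZMod 59) :=
    (ZMod.natCast_eq_natCast_iff' _ _ _).mpr h
  push_cast at h'
  rw [toM, Matrix.det_fin_two_of, h']
  ring

theorem aux (A B C : Matrix.GeneralLinearGroup (Fin 2) (ZMod 59))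
    (hA : (A : Matrix (Fin 2) (Fin 2) (ZMod 59)) = toM 59 gA)
    (hB : (B : Matrix (Fin 2) (Fin 2) (ZMod 59)) = toM 59 gB)
    (hC : (C : Matrix (Fin 2) (Fin 2) (ZMod 59)) =
      (4 : ZMod 59) • (1 : Matrix (Fin 2) (Fin 2) (ZMod 59))) :
    Nat.card (Subgroup.closure
      ({A, B, C} : Set (Matrix.GeneralLinearGroup (Fin 2) (ZMod 59)))) = 3480 ∧
    ∀ v w : Fin 2 → ZMod 59, v ≠ 0 → w ≠ 0 →
      ∃! h : Subgroup.closure ({A, B, C} : Set (Matrix.GeneralLinearGroup (Fin 2) (ZMod 59))),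
        Matrix.mulVec ((h : Matrix.GeneralLinearGroup (Fin 2) (ZMod 59)) :
          Matrix (Fin 2) (Fin 2) (ZMod 59)) v = w := by
  classical
  have hprime : Fact (Nat.Prime 59) := ⟨by norm_num⟩
  set K := Subgroup.closure ({A, B, C} : Set (Matrix.GeneralLinearGroup (Fin 2) (ZMod 59)))
    with hK
  have z0 : ∀ k : ℕ, (4 : ZMod 59) ^ k ≠ 0 := fun k => pow_ne_zero _ z4
  -- (1) every element has a code
  have h1 : ∀ g ∈ K, ∃ k < 29, ∃ t ∈ Lt0,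
      (g : Matrix (Fin 2) (Fin 2) (ZMod 59)) = (4 : ZMod 59) ^ k • toM 59 t := by
    intro g hg
    refine closure_induction_finite (Units.coeHom (Matrix (Fin 2) (Fin 2) (ZMod 59)))
      ({A, B, C} : Set (Matrix.GeneralLinearGroup (Fin 2) (ZMod 59)))
      (fun m => ∃ k < 29, ∃ t ∈ Lt0, m = (4 : ZMod 59) ^ k • toM 59 t)
      ⟨0, by norm_num, tone, c_hone, by simp [toM_tone]⟩ ?_ g hg
    intro s hs m ⟨k, hk, t, ht, hm⟩
    simp only [Set.mem_insert_iff, Set.mem_singleton_iff] at hs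
    rcases hs with rfl | rfl | rfl
    · refine ⟨k, hk, tmul 59 gA t, c_hclosed gA (by simp) t ht, ?_⟩
      change (s : Matrix (Fin 2) (Fin 2) (ZMod 59)) * m = _
      rw [hm, hA, Matrix.mul_smul, toM_tmul]
    · refine ⟨k, hk, tmul 59 gB t, c_hclosed gB (by simp) t ht, ?_⟩
      change (s : Matrix (Fin 2) (Fin 2) (ZMod 59)) * m = _
      rw [hm, hB, Matrix.mul_smul, toM_tmul]
    · have hsm : (Units.coeHom (Matrix (Fin 2) (Fin 2) (ZMod 59))) s * m =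
          (4 : ZMod 59) ^ (k + 1) • toM 59 t := by
        change (s : Matrix (Fin 2) (Fin 2) (ZMod 59)) * m = _
        rw [hm, hC, Matrix.smul_mul, Matrix.one_mul, smul_smul, ← pow_succ']
      by_cases hk' : k + 1 < 29
      · exact ⟨k + 1, hk', t, ht, hsm⟩
      · have hk29 : k + 1 = 29 := by omega
        refine ⟨0, by norm_num, t, ht, ?_⟩
        rw [hsm, hk29, z29, pow_zero]
  -- (2) every code is attained
  have h2 : ∀ k < 29, ∀ t ∈ Lt0, ∃ g ∈ K,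
      (g : Matrix (Fin 2) (Fin 2) (ZMod 59)) = (4 : ZMod 59) ^ k • toM 59 t := by
    intro k _ t ht
    obtain ⟨g0, hg0, hg0m⟩ := exists_mem_closure_of_code
      ({A, B} : Set (Matrix.GeneralLinearGroup (Fin 2) (ZMod 59))) [gA, gB]
      (by
        intro s hs
        simp only [List.mem_cons, List.not_mem_nil, or_false] at hs
        rcases hs with rfl | rfl
        · exact ⟨A, by simp, hA⟩
        · exact ⟨B, by simp, hB⟩) W0 Lt0 c_hLt c_hW t ht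
    have hg0K : g0 ∈ K := by
      refine Subgroup.closure_mono ?_ hg0
      intro x hx
      simp only [Set.mem_insert_iff, Set.mem_singleton_iff] at hx ⊢
      tauto
    have hCK : C ∈ K := Subgroup.subset_closure (by simp)
    refine ⟨C ^ k * g0, K.mul_mem (K.pow_mem hCK k) hg0K, ?_⟩
    rw [Matrix.GeneralLinearGroup.coe_mul, hg0m]
    have : ((C ^ k : Matrix.GeneralLinearGroup (Fin 2) (ZMod 59)) :
        Matrix (Fin 2) (Fin 2) (ZMod 59)) =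
        (4 : ZMod 59) ^ k • (1 : Matrix (Fin 2) (Fin 2) (ZMod 59)) := by
      rw [Units.val_pow_eq_pow_val, hC, smul_pow, one_pow]
    rw [this, Matrix.smul_mul, Matrix.one_mul]
  -- (3) the cardinality
  let f : ℕ × T → Matrix (Fin 2) (Fin 2) (ZMod 59) := fun x => (4 : ZMod 59) ^ x.1 • toM 59 x.2
  have hfinj : Set.InjOn f ((Finset.range 29 ×ˢ Lt0.toFinset : Finset (ℕ × T)) : Set (ℕ × T)) := by
    rintro ⟨k, t⟩ hx ⟨k', t'⟩ hy hxy
    simp only [Finset.coe_product, Set.mem_prod, Finset.mem_coe, Finset.mem_range,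
      List.mem_toFinset] at hx hy
    obtain ⟨hk, ht⟩ := hx
    obtain ⟨hk', ht'⟩ := hy
    have hxy' : (4 : ZMod 59) ^ k • toM 59 t = (4 : ZMod 59) ^ k' • toM 59 t' := hxy
    have hdet := congrArg Matrix.det hxy'
    rw [Matrix.det_smul, Matrix.det_smul, det_toM t ht, det_toM t' ht', Fintype.card_fin,
      mul_one, mul_one, ← pow_mul, ← pow_mul, mul_comm k, mul_comm k', pow_mul, pow_mul] at hdet
    have h16 : ((4 : ZMod 59) ^ 2) = ((16 : ℕ) : ZMod 59) := by norm_num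
    rw [h16, ← Nat.cast_pow, ← Nat.cast_pow, ZMod.natCast_eq_natCast_iff'] at hdet
    have hkk : k = k' := c_pow k hk k' hk' hdet
    subst hkk
    have htt : toM 59 t = toM 59 t' := smul_right_injective _ (z0 k) hxy'
    have := toM_injOn 59 t t' (c_hb t ht) (c_hb t' ht') htt
    rw [this]
  have hinj : Function.Injective
      (fun g : Matrix.GeneralLinearGroup (Fin 2) (ZMod 59) =>
        (g : Matrix (Fin 2) (Fin 2) (ZMod 59))) := fun a b h => Units.ext h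
  have hcard : Nat.card K = 3480 := by
    have e1 : Nat.card K = Set.ncard ((fun g : Matrix.GeneralLinearGroup (Fin 2) (ZMod 59) =>
        (g : Matrix (Fin 2) (Fin 2) (ZMod 59))) '' (K : Set _)) := by
      rw [Set.ncard_image_of_injective _ hinj]
      rfl
    have e2 : ((fun g : Matrix.GeneralLinearGroup (Fin 2) (ZMod 59) =>
        (g : Matrix (Fin 2) (Fin 2) (ZMod 59))) '' (K : Set _)) =
        f '' ((Finset.range 29 ×ˢ Lt0.toFinset : Finset (ℕ × T)) : Set (ℕ × T)) := by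
      ext m
      constructor
      · rintro ⟨g, hg, rfl⟩
        obtain ⟨k, hk, t, ht, hgt⟩ := h1 g hg
        refine ⟨(k, t), ?_, hgt.symm⟩
        simp only [Finset.coe_product, Set.mem_prod, Finset.mem_coe, Finset.mem_range,
          List.mem_toFinset]
        exact ⟨hk, ht⟩
      · rintro ⟨⟨k, t⟩, hx, rfl⟩
        simp only [Finset.coe_product, Set.mem_prod, Finset.mem_coe, Finset.mem_range,
          List.mem_toFinset] at hx
        obtain ⟨g, hgK, hg⟩ := h2 k hx.1 t hx.2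
        exact ⟨g, hgK, hg⟩
    rw [e1, e2, Set.InjOn.ncard_image hfinj, Set.ncard_coe_finset, Finset.card_product,
      Finset.card_range, List.toFinset_card_of_nodup c_nodup, c_len]
  refine ⟨hcard, ?_⟩
  -- (4) the stabiliser of the first basis vector
  have hstab : ∀ h ∈ K,
      (h : Matrix (Fin 2) (Fin 2) (ZMod 59)).mulVec ![1, 0] = ![1, 0] → h = 1 := by
    intro h hh hfix
    obtain ⟨k, hk, t, ht, hht⟩ := h1 h hh
    rw [hht] at hfix
    obtain ⟨b1, _, b3, _⟩ := c_hb t ht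
    have h0 := congrFun hfix 0
    have h1' := congrFun hfix 1
    simp [toM, Matrix.mulVec, dotProduct, Fin.sum_univ_two] at h0 h1'
    have e3 : t.2.2.1 = 0 := by
      rcases h1' with h1' | h1'
      · exact absurd h1'.1 z4
      · have := congrArg ZMod.val h1'
        rwa [ZMod.val_natCast_of_lt b3, ZMod.val_zero] at this
    have e1 : (4 ^ k * t.1) % 59 = 1 := by
      have : ((4 ^ k * t.1 : ℕ) : ZMod 59) = ((1 : ℕ) : ZMod 59) := by
        push_cast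
        exact h0
      rw [ZMod.natCast_eq_natCast_iff'] at this
      exact this
    obtain ⟨rfl, rfl⟩ := c_stab t ht k hk e3 e1
    apply Units.ext
    rw [hht, pow_zero, one_smul, toM_tone]
    rfl
  intro v w hv hw
  exact existsUnique_of_card K hcard hstab v w hv hw

end Data

/-- An exceptional sharply doubly transitive group of degree 59^2: the listed matrices generate a subgroup of GL(2,59) of order 3480 acting regularly on the non-zero vectors. -/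
theorem result (A : Matrix.GeneralLinearGroup (Fin 2) (ZMod 59)) (B : Matrix.GeneralLinearGroup (Fin 2) (ZMod 59)) (C : Matrix.GeneralLinearGroup (Fin 2) (ZMod 59)) (hA : (A : Matrix (Fin 2) (Fin 2) (ZMod 59)) = !![0, -1; 1, 0]) (hB : (B : Matrix (Fin 2) (Fin 2) (ZMod 59)) = !![9, 15; -10, -10]) (hC : (C : Matrix (Fin 2) (Fin 2) (ZMod 59)) = !![4, 0; 0, 4]) : Nat.card (Subgroup.closure ({A, B, C} : Set (Matrix.GeneralLinearGroup (Fin 2) (ZMod 59)))) = 3480 ∧ ∀ v w : Fin 2 → ZMod 59, v ≠ 0 → w ≠ 0 → ∃! h : Subgroup.closure ({A, B, C} : Set (Matrix.GeneralLinearGroup (Fin 2) (ZMod 59))), Matrix.mulVec ((h : Matrix.GeneralLinearGroup (Fin 2) (ZMod 59)) : Matrix (Fin 2) (Fin 2) (ZMod 59)) v = w := by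
  have hAm : (A : Matrix (Fin 2) (Fin 2) (ZMod 59)) = Cfsg.Agent.Helper4.MatGroup.toM 59 gA := by
    rw [hA]; decide +kernel
  have hBm : (B : Matrix (Fin 2) (Fin 2) (ZMod 59)) = Cfsg.Agent.Helper4.MatGroup.toM 59 gB := by
    rw [hB]; decide +kernel
  have hCm : (C : Matrix (Fin 2) (Fin 2) (ZMod 59)) =
      (4 : ZMod 59) • (1 : Matrix (Fin 2) (Fin 2) (ZMod 59)) := by
    rw [hC]; decide +kernel
  exact aux A B C hAm hBm hCm

end Cfsg.Agent.S0693
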