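import Cfsg.Statements.S0698
import Mathlib
import Cfsg.Agent.Helper4.JordanNormal

set_option autoImplicit false
open Cfsg

namespace Cfsg.Agent.S0698

/-- Jordan's Theorem on normal subgroups of multiply transitive groups: if `G` is `k`-transitive (`k > 1`) of degree greater than `k`, a non-trivial normal subgroup is `(k-1)`-transitive, except possibly for `k = 3` when it may be an elementary abelian 2-group. -/
theorem result {α : Type*} [Fintype α] [DecidableEq α] (G : Subgroup (Equiv.Perm α)) {k : ℕ} (hk : 1 < k) (hdeg : k < Fintype.card α) (hG : MulAction.IsMultiplyPretransitive G α k) (N : Subgroup G) [N.Normal] (hN : N ≠ ⊥) : MulAction.IsMultiplyPretransitive N α (k - 1) ∨ (k = 3 ∧ IsMulCommutative N ∧ ∀ n ∈ N, n ^ 2 = 1) := by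
  classical
  obtain ⟨j, rfl⟩ : ∃ j, k = j + 2 := ⟨k - 2, by omega⟩
  have hdeg' : j + 2 < Nat.card α := by rw [Nat.card_eq_fintype_card]; exact hdeg
  rcases Cfsg.Agent.Helper4.JordanNormal.jordan_normal_aux j G α hG hdeg' N hN with
    h | ⟨hj, _, hexp⟩
  · left
    exact h
  · right
    refine ⟨by omega, ?_, ?_⟩
    · constructor
      constructor
      intro x y
      apply Subtype.ext
      have hx := hexp x.1 x.2
      have hy := hexp y.1 y.2
      have hxy := hexp (x.1 * y.1) (N.mul_mem x.2 y.2)
      change x.1 * y.1 = y.1 * x.1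
      calc x.1 * y.1 = (y.1 * y.1) * (x.1 * y.1) * (x.1 * x.1) := by rw [hx, hy]; group
        _ = y.1 * (y.1 * x.1 * (y.1 * x.1)) * x.1 := by group
        _ = y.1 * x.1 := by
          have hyx := hexp (y.1 * x.1) (N.mul_mem y.2 x.2)
          rw [hyx]; group
    · intro n hn
      rw [pow_two]
      exact hexp n hn

end Cfsg.Agent.S0698
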