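import Cfsg.Statements.S0699
import Mathlib
import Cfsg.Agent.Helper4.Wagner
import Cfsg.Agent.Helper4.MinDegree

set_option autoImplicit false
open Cfsg

namespace Cfsg.Agent.S0699

/-- Wagner's Theorem: a non-trivial normal subgroup of a triply transitive permutation group of odd degree at least 5 is triply transitive. -/
theorem result {α : Type*} [Fintype α] [DecidableEq α] (G : Subgroup (Equiv.Perm α)) (hodd : Odd (Fintype.card α)) (h5 : 5 ≤ Fintype.card α) (hG : MulAction.IsMultiplyPretransitive G α 3) (N : Subgroup G) [N.Normal] (hN : N ≠ ⊥) : MulAction.IsMultiplyPretransitive N α 3 := by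
  classical
  have hdeg : 1 + 2 < Nat.card α := by rw [Nat.card_eq_fintype_card]; omega
  -- `N` is doubly transitive
  have hN2t : MulAction.IsMultiplyPretransitive N α 2 := by
    rcases Cfsg.Agent.Helper4.JordanNormal.jordan_normal_aux 1 G α hG hdeg N hN with
      h | ⟨_, hsemi, hexp⟩
    · exact h
    · exfalso
      obtain ⟨g, hg1⟩ := (Subgroup.ne_bot_iff_exists_ne_one).mp hN
      have hg1' : (g : G) ≠ 1 := fun h => hg1 (Subtype.ext h)
      haveI : Fact (Nat.Prime 2) := ⟨Nat.prime_two⟩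
      have hnd : ¬ 2 ∣ Fintype.card α := by
        intro h2
        exact (Nat.not_even_iff_odd.mpr hodd) (even_iff_two_dvd.mpr h2)
      have hsq : (((g : G) : Equiv.Perm α)) ^ 2 ^ 1 = 1 := by
        rw [pow_one, pow_two]
        have := hexp g.1 g.2
        exact congrArg Subtype.val this
      obtain ⟨a, ha⟩ := Equiv.Perm.exists_fixed_point_of_prime hnd hsq
      exact hg1' (hsemi g.1 g.2 a ha)
  rw [MulAction.is_two_pretransitive_iff] at hN2t
  have hN2 : ∀ a b c d : α, a ≠ b → c ≠ d → ∃ n ∈ N, n • a = c ∧ n • b = d := by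
    intro a b c d hab hcd
    obtain ⟨n, h1, h2⟩ := hN2t hab hcd
    exact ⟨n.1, n.2, h1, h2⟩
  have hG3 : ∀ a b γ δ : α, a ≠ b → γ ≠ a → γ ≠ b → δ ≠ a → δ ≠ b →
      ∃ g : G, g • a = a ∧ g • b = b ∧ g • γ = δ := by
    intro a b γ δ hab hγa hγb hδa hδb
    obtain ⟨h, hhG, hfix, hmove⟩ := Cfsg.Agent.Helper4.MinDegree.exists_fix_move G
      (by omega : 3 ≤ Fintype.card α) hG {a, b}
      (by rw [Finset.card_pair hab]) γ δ
      (by simp [hγa, hγb]) (by simp [hδa, hδb])
    refine ⟨⟨h, hhG⟩, hfix a (by simp), hfix b (by simp), hmove⟩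
  have hcore := Cfsg.Agent.Helper4.Wagner.wagner_core N
    (by rw [Nat.card_eq_fintype_card]; exact hodd) hN2 hG3
  constructor
  intro x y
  have hx01 : x 0 ≠ x 1 := fun h => by simpa using x.injective h
  have hx02 : x 0 ≠ x 2 := fun h => by simpa using x.injective h
  have hx12 : x 1 ≠ x 2 := fun h => by simpa using x.injective h
  have hy01 : y 0 ≠ y 1 := fun h => by simpa using y.injective h
  have hy02 : y 0 ≠ y 2 := fun h => by simpa using y.injective h
  have hy12 : y 1 ≠ y 2 := fun h => by simpa using y.injective h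
  obtain ⟨n₁, hn₁N, hn₁0, hn₁1⟩ := hN2 (x 0) (x 1) (y 0) (y 1) hx01 hy01
  have h20 : n₁ • x 2 ≠ y 0 := by
    rw [← hn₁0]
    intro h
    exact hx02 (MulAction.injective n₁ h).symm
  have h21 : n₁ • x 2 ≠ y 1 := by
    rw [← hn₁1]
    intro h
    exact hx12 (MulAction.injective n₁ h).symm
  obtain ⟨n₂, hn₂N, hn₂0, hn₂1, hn₂2⟩ := hcore (y 0) (y 1) (n₁ • x 2) (y 2) hy01 h20 h21
    hy02.symm hy12.symm
  refine ⟨⟨n₂ * n₁, N.mul_mem hn₂N hn₁N⟩, ?_⟩
  ext i
  change (n₂ * n₁) • x i = y i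
  fin_cases i
  · change (n₂ * n₁) • x 0 = y 0
    rw [mul_smul, hn₁0, hn₂0]
  · change (n₂ * n₁) • x 1 = y 1
    rw [mul_smul, hn₁1, hn₂1]
  · change (n₂ * n₁) • x 2 = y 2
    rw [mul_smul, hn₂2]

end Cfsg.Agent.S0699
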