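import Mathlib
import Cfsg.Statements.S0701
import Cfsg.Agent.Helper4.Regular
-- import your own Cfsg.Agent.* helpers here

set_option autoImplicit false
open Cfsg

namespace Cfsg.Agent.S0701

/-- The centraliser in the full symmetric group of a transitive permutation group `G` is semiregular, and it is transitive if and only if `G` is regular. -/
theorem result {α : Type*} (G : Subgroup (Equiv.Perm α)) [MulAction.IsPretransitive G α] : (∀ c ∈ Subgroup.centralizer (G : Set (Equiv.Perm α)), ∀ a : α, c a = a → c = 1) ∧ (MulAction.IsPretransitive (Subgroup.centralizer (G : Set (Equiv.Perm α))) α ↔ ∀ a : α, MulAction.stabilizer G a = ⊥) := by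
  classical
  have hfix : ∀ c ∈ Subgroup.centralizer (G : Set (Equiv.Perm α)), ∀ a : α, c a = a → c = 1 := by
    intro c hc a hca
    ext b
    obtain ⟨g, rfl⟩ := MulAction.exists_smul_eq G a b
    rw [Subgroup.mem_centralizer_iff] at hc
    have := hc g.1 g.2
    have h2 := congrArg (fun t => t a) this
    simp only [Equiv.Perm.coe_mul, Function.comp_apply] at h2
    rw [Subgroup.smul_def, Equiv.Perm.smul_def, Equiv.Perm.coe_one, id_eq, ← h2, hca]
  refine ⟨hfix, ?_, ?_⟩
  · intro htr a
    rw [Subgroup.eq_bot_iff_forall]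
    intro g hg
    apply Subtype.ext
    ext b
    obtain ⟨c, rfl⟩ := MulAction.exists_smul_eq (Subgroup.centralizer (G : Set (Equiv.Perm α))) a b
    have hc := c.2
    rw [Subgroup.mem_centralizer_iff] at hc
    have := hc g.1 g.2
    have h2 := congrArg (fun t => t a) this
    simp only [Equiv.Perm.coe_mul, Function.comp_apply] at h2
    rw [MulAction.mem_stabilizer_iff, Subgroup.smul_def, Equiv.Perm.smul_def] at hg
    rw [Subgroup.smul_def, Equiv.Perm.smul_def, Subgroup.coe_one, Equiv.Perm.coe_one, id_eq, h2, hg]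
  · intro hreg
    refine ⟨fun a b => ?_⟩
    obtain ⟨φ, hφ, hab⟩ := Cfsg.Agent.Helper4.exists_equivariant_perm (G := G) hreg a b
    refine ⟨⟨φ, ?_⟩, hab⟩
    rw [Subgroup.mem_centralizer_iff]
    intro h hh
    ext x
    simp only [Equiv.Perm.coe_mul, Function.comp_apply]
    have := hφ ⟨h, hh⟩ x
    rw [Subgroup.smul_def, Subgroup.smul_def, Equiv.Perm.smul_def, Equiv.Perm.smul_def] at this
    exact this.symm

end Cfsg.Agent.S0701
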