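import Mathlib
import Cfsg.Statements.S0702
import Cfsg.Agent.Helper4.PermCentralizer
-- import your own Cfsg.Agent.* helpers here

set_option autoImplicit false
open Cfsg

namespace Cfsg.Agent.S0702

/-- For a transitive permutation group `G` on a finite set, the centraliser of `G` in the symmetric group is isomorphic to `N_G(G_ω)/G_ω`, and its orbit of `ω` is the set of fixed points of `G_ω`. -/
theorem result {α : Type*} [Finite α] (G : Subgroup (Equiv.Perm α)) [MulAction.IsPretransitive G α] (a : α) : Nonempty (Subgroup.centralizer (G : Set (Equiv.Perm α)) ≃* Subgroup.normalizer ((MulAction.stabilizer G a : Subgroup G) : Set G) ⧸ (MulAction.stabilizer G a).subgroupOf (Subgroup.normalizer ((MulAction.stabilizer G a : Subgroup G) : Set G))) ∧ MulAction.orbit (Subgroup.centralizer (G : Set (Equiv.Perm α))) a = MulAction.fixedPoints (MulAction.stabilizer G a) α := by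
  refine ⟨⟨?_⟩, Cfsg.Agent.Helper4.orbit_centralizer_eq_fixedPoints G a⟩
  have e1 := QuotientGroup.quotientKerEquivOfSurjective
    (Cfsg.Agent.Helper4.normToCentralizer G a)
    (Cfsg.Agent.Helper4.normToCentralizer_surjective G a)
  have e2 := QuotientGroup.quotientMulEquivOfEq
    (Cfsg.Agent.Helper4.normToCentralizer_ker G a)
  exact (e2.symm.trans e1).symm

end Cfsg.Agent.S0702
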