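import Mathlib
import Cfsg.Statements.S0703
import Cfsg.Agent.Helper4.PermCentralizer
-- import your own Cfsg.Agent.* helpers here

set_option autoImplicit false
set_option linter.style.haveILetI false
open Cfsg

namespace Cfsg.Agent.S0703

/-- An abelian transitive minimal normal subgroup `M` of a permutation group on a finite set is self-centralising in the symmetric group, regular, elementary abelian, and is the unique minimal normal subgroup. -/
theorem result {α : Type*} [Finite α] (G : Subgroup (Equiv.Perm α)) (M : Subgroup G) [M.Normal] (hM : M ≠ ⊥) (hmin : ∀ L : Subgroup G, L.Normal → L ≤ M → L = ⊥ ∨ L = M) (hab : IsMulCommutative M) (htrans : MulAction.IsPretransitive M α) : Subgroup.centralizer ((M.map G.subtype : Subgroup (Equiv.Perm α)) : Set (Equiv.Perm α)) = M.map G.subtype ∧ (∀ a : α, MulAction.stabilizer M a = ⊥) ∧ (∃ p : ℕ, p.Prime ∧ ∀ m ∈ M, m ^ p = 1) ∧ ∀ L : Subgroup G, L.Normal → L ≠ ⊥ → (∀ L' : Subgroup G, L'.Normal → L' ≤ L → L' = ⊥ ∨ L' = L) → L = M := by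
  classical
  haveI hGfin : Finite G := Finite.of_injective (fun g : G => (g : Equiv.Perm α)) Subtype.val_injective
  -- α is nonempty
  have hne : Nonempty α := by
    by_contra hne
    rw [not_nonempty_iff] at hne
    apply hM
    rw [Subgroup.eq_bot_iff_forall]
    intro m _
    apply Subtype.ext
    apply Equiv.ext
    intro x
    exact (hne.false x).elim
  set M' : Subgroup (Equiv.Perm α) := M.map G.subtype with hM'
  have hM'tr : MulAction.IsPretransitive M' α := by
    refine ⟨fun a b => ?_⟩
    obtain ⟨m, hm⟩ := htrans.exists_smul_eq a b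
    exact ⟨⟨m.1.1, ⟨m.1, m.2, rfl⟩⟩, hm⟩
  have hcomm : ∀ x ∈ M, ∀ y ∈ M, x * y = y * x := by
    intro x hx y hy
    have := hab.is_comm.comm ⟨x, hx⟩ ⟨y, hy⟩
    exact congrArg Subtype.val this
  have hM'le : M' ≤ Subgroup.centralizer (M' : Set (Equiv.Perm α)) := by
    rintro _ ⟨x, hx, rfl⟩
    rw [Subgroup.mem_centralizer_iff]
    rintro _ ⟨y, hy, rfl⟩
    have := hcomm y hy x hx
    exact congrArg Subtype.val this
  have hcent : Subgroup.centralizer (M' : Set (Equiv.Perm α)) = M' :=
    (Cfsg.Agent.Helper4.centralizer_eq_of_transitive_le M' M' hM'le).symm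
  have hreg : ∀ a : α, MulAction.stabilizer M a = ⊥ := by
    intro a
    rw [Subgroup.eq_bot_iff_forall]
    intro m hm
    have h1 : m.1.1 ∈ Subgroup.centralizer (M' : Set (Equiv.Perm α)) :=
      hM'le ⟨m.1, m.2, rfl⟩
    have h2 : m.1.1 a = a := hm
    have h3 := Cfsg.Agent.Helper4.centralizer_semiregular M' m.1.1 h1 a h2
    apply Subtype.ext
    apply Subtype.ext
    exact h3
  refine ⟨hcent, hreg, ?_, ?_⟩
  · -- elementary abelian
    have hMnt : Nontrivial M := (Subgroup.nontrivial_iff_ne_bot M).mpr hM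
    have hcard : 1 < Nat.card M := Finite.one_lt_card
    obtain ⟨p, hp, hpdvd⟩ := Nat.exists_prime_and_dvd (Nat.ne_of_gt hcard)
    haveI : Fact p.Prime := ⟨hp⟩
    refine ⟨p, hp, ?_⟩
    let L : Subgroup G :=
      { carrier := {m | m ∈ M ∧ m ^ p = 1}
        mul_mem' := by
          rintro a b ⟨ha, hap⟩ ⟨hb, hbp⟩
          refine ⟨M.mul_mem ha hb, ?_⟩
          have hc : Commute a b := hcomm a ha b hb
          rw [hc.mul_pow, hap, hbp, one_mul]
        one_mem' := ⟨M.one_mem, one_pow p⟩
        inv_mem' := by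
          rintro a ⟨ha, hap⟩
          exact ⟨M.inv_mem ha, by rw [inv_pow, hap, inv_one]⟩ }
    have hLn : L.Normal := by
      refine ⟨fun n hn g => ?_⟩
      obtain ⟨hnM, hnp⟩ := hn
      refine ⟨‹M.Normal›.conj_mem n hnM g, ?_⟩
      rw [conj_pow, hnp, mul_one, mul_inv_cancel]
    have hLM : L ≤ M := fun x hx => hx.1
    obtain ⟨x, hx⟩ := exists_prime_orderOf_dvd_card' (G := M) p hpdvd
    have hLne : L ≠ ⊥ := by
      intro h
      have hxL : x.1 ∈ L := by
        refine ⟨x.2, ?_⟩
        have := pow_orderOf_eq_one x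
        rw [hx] at this
        exact congrArg Subtype.val this
      rw [h, Subgroup.mem_bot] at hxL
      have : x = 1 := Subtype.ext hxL
      rw [this, orderOf_one] at hx
      exact hp.one_lt.ne hx
    have hLeq : L = M := (hmin L hLn hLM).resolve_left hLne
    intro m hm
    rw [← hLeq] at hm
    exact hm.2
  · intro L hLn hLne hLmin
    have hinfn : (L ⊓ M).Normal := Subgroup.normal_inf_normal L M
    rcases hmin (L ⊓ M) hinfn inf_le_right with h | h
    · exfalso
      have hdisj : Disjoint L M := disjoint_iff.mpr h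
      have hLle : L.map G.subtype ≤ Subgroup.centralizer (M' : Set (Equiv.Perm α)) := by
        rintro _ ⟨x, hx, rfl⟩
        rw [Subgroup.mem_centralizer_iff]
        rintro _ ⟨y, hy, rfl⟩
        have := Subgroup.commute_of_normal_of_disjoint L M hLn ‹M.Normal› hdisj x y hx hy
        exact (congrArg Subtype.val this.eq).symm
      rw [hcent] at hLle
      have hLM : L ≤ M := by
        intro x hx
        obtain ⟨y, hy, hyx⟩ := hLle ⟨x, hx, rfl⟩
        have : y = x := Subtype.ext hyx
        rwa [← this]
      apply hLne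
      rw [← h]
      exact (inf_eq_left.mpr hLM).symm
    · have hML : M ≤ L := by
        rw [← h]; exact inf_le_left
      rcases hLmin M ‹M.Normal› hML with h1 | h1
      · exact absurd h1 hM
      · exact h1.symm

end Cfsg.Agent.S0703
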