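import Mathlib
import Cfsg.Statements.S0704
import Cfsg.Agent.Helper4.PermCentralizer
-- import your own Cfsg.Agent.* helpers here

set_option autoImplicit false
set_option linter.style.haveILetI false
open Cfsg

namespace Cfsg.Agent.S0704

/-- Two distinct transitive minimal normal subgroups `M`, `N` of a permutation group are regular, non-abelian, isomorphic, each other's centraliser in the symmetric group, and the only minimal normal subgroups. -/
theorem result {α : Type*} (G : Subgroup (Equiv.Perm α)) (M N : Subgroup G) [M.Normal] [N.Normal] (hM : M ≠ ⊥) (hN : N ≠ ⊥) (hMmin : ∀ L : Subgroup G, L.Normal → L ≤ M → L = ⊥ ∨ L = M) (hNmin : ∀ L : Subgroup G, L.Normal → L ≤ N → L = ⊥ ∨ L = N) (hMN : M ≠ N) (hMt : MulAction.IsPretransitive M α) (hNt : MulAction.IsPretransitive N α) : (∀ a : α, MulAction.stabilizer M a = ⊥) ∧ (∀ a : α, MulAction.stabilizer N a = ⊥) ∧ ¬ IsMulCommutative M ∧ Nonempty (M ≃* N) ∧ Subgroup.centralizer ((M.map G.subtype : Subgroup (Equiv.Perm α)) : Set (Equiv.Perm α))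 = N.map G.subtype ∧ Subgroup.centralizer ((N.map G.subtype : Subgroup (Equiv.Perm α)) : Set (Equiv.Perm α)) = M.map G.subtype ∧ ∀ L : Subgroup G, L.Normal → L ≠ ⊥ → (∀ L' : Subgroup G, L'.Normal → L' ≤ L → L' = ⊥ ∨ L' = L) → L = M ∨ L = N := by
  classical
  have hne : Nonempty α := by
    by_contra hne
    rw [not_nonempty_iff] at hne
    apply hM
    rw [Subgroup.eq_bot_iff_forall]
    intro m _
    apply Subtype.ext
    apply Equiv.ext
    intro x
    exact (hne.false x).elim
  have a0 : α := hne.some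
  set M' : Subgroup (Equiv.Perm α) := M.map G.subtype with hM'
  set N' : Subgroup (Equiv.Perm α) := N.map G.subtype with hN'
  have hM'tr : MulAction.IsPretransitive M' α := by
    refine ⟨fun a b => ?_⟩
    obtain ⟨m, hm⟩ := hMt.exists_smul_eq a b
    exact ⟨⟨m.1.1, ⟨m.1, m.2, rfl⟩⟩, hm⟩
  have hN'tr : MulAction.IsPretransitive N' α := by
    refine ⟨fun a b => ?_⟩
    obtain ⟨m, hm⟩ := hNt.exists_smul_eq a b
    exact ⟨⟨m.1.1, ⟨m.1, m.2, rfl⟩⟩, hm⟩
  -- M ⊓ N = ⊥
  have hinf : M ⊓ N = ⊥ := by
    have hinfn : (M ⊓ N).Normal := Subgroup.normal_inf_normal M N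
    rcases hMmin (M ⊓ N) hinfn inf_le_left with h | h
    · exact h
    · exfalso
      have hMN' : M ≤ N := by rw [← h]; exact inf_le_right
      rcases hNmin M ‹M.Normal› hMN' with h1 | h1
      · exact hM h1
      · exact hMN h1
  have hdisj : Disjoint M N := disjoint_iff.mpr hinf
  have hcommMN : ∀ x ∈ M, ∀ y ∈ N, x * y = y * x := fun x hx y hy =>
    (Subgroup.commute_of_normal_of_disjoint M N ‹M.Normal› ‹N.Normal› hdisj x y hx hy).eq
  have hN'le : N' ≤ Subgroup.centralizer (M' : Set (Equiv.Perm α)) := by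
    rintro _ ⟨y, hy, rfl⟩
    rw [Subgroup.mem_centralizer_iff]
    rintro _ ⟨x, hx, rfl⟩
    exact congrArg Subtype.val (hcommMN x hx y hy)
  have hM'le : M' ≤ Subgroup.centralizer (N' : Set (Equiv.Perm α)) := by
    rintro _ ⟨x, hx, rfl⟩
    rw [Subgroup.mem_centralizer_iff]
    rintro _ ⟨y, hy, rfl⟩
    exact (congrArg Subtype.val (hcommMN x hx y hy)).symm
  have hcentM : Subgroup.centralizer (M' : Set (Equiv.Perm α)) = N' :=
    (Cfsg.Agent.Helper4.centralizer_eq_of_transitive_le M' N' hN'le).symm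
  have hcentN : Subgroup.centralizer (N' : Set (Equiv.Perm α)) = M' :=
    (Cfsg.Agent.Helper4.centralizer_eq_of_transitive_le N' M' hM'le).symm
  have hregM : ∀ a : α, MulAction.stabilizer M a = ⊥ := by
    intro a
    rw [Subgroup.eq_bot_iff_forall]
    intro m hm
    have h1 : m.1.1 ∈ Subgroup.centralizer (N' : Set (Equiv.Perm α)) :=
      hM'le ⟨m.1, m.2, rfl⟩
    have h2 : m.1.1 a = a := hm
    have h3 := Cfsg.Agent.Helper4.centralizer_semiregular N' m.1.1 h1 a h2
    apply Subtype.ext
    apply Subtype.ext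
    exact h3
  have hregN : ∀ a : α, MulAction.stabilizer N a = ⊥ := by
    intro a
    rw [Subgroup.eq_bot_iff_forall]
    intro m hm
    have h1 : m.1.1 ∈ Subgroup.centralizer (M' : Set (Equiv.Perm α)) :=
      hN'le ⟨m.1, m.2, rfl⟩
    have h2 : m.1.1 a = a := hm
    have h3 := Cfsg.Agent.Helper4.centralizer_semiregular M' m.1.1 h1 a h2
    apply Subtype.ext
    apply Subtype.ext
    exact h3
  have hleMN : ∀ L : Subgroup G, L.map G.subtype ≤ N' → L ≤ N := by
    intro L hL x hx
    obtain ⟨y, hy, hyx⟩ := hL ⟨x, hx, rfl⟩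
    have : y = x := Subtype.ext hyx
    rwa [← this]
  refine ⟨hregM, hregN, ?_, ?_, hcentM, hcentN, ?_⟩
  · intro hab
    have hM'c : M' ≤ Subgroup.centralizer (M' : Set (Equiv.Perm α)) := by
      rintro _ ⟨x, hx, rfl⟩
      rw [Subgroup.mem_centralizer_iff]
      rintro _ ⟨y, hy, rfl⟩
      have := hab.is_comm.comm ⟨y, hy⟩ ⟨x, hx⟩
      exact congrArg Subtype.val (congrArg Subtype.val this)
    rw [hcentM] at hM'c
    have hMleN : M ≤ N := hleMN M hM'c
    apply hM
    rw [← hinf]
    exact (inf_eq_left.mpr hMleN).symm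
  · -- M ≃* N
    have hregM' : MulAction.stabilizer M' a0 = ⊥ := by
      rw [Subgroup.eq_bot_iff_forall]
      rintro ⟨_, ⟨x, hx, rfl⟩⟩ hfix
      have h1 : (⟨x, hx⟩ : M) ∈ MulAction.stabilizer M a0 := hfix
      rw [hregM a0, Subgroup.mem_bot] at h1
      apply Subtype.ext
      have : x = 1 := congrArg Subtype.val h1
      change G.subtype x = 1
      rw [this, map_one]
    obtain ⟨e⟩ := Cfsg.Agent.Helper4.nonempty_mulEquiv_centralizer_of_regular M' a0 hregM'
    have eM : M ≃* M' := Subgroup.equivMapOfInjective M G.subtype G.subtype_injective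
    have eN : N ≃* N' := Subgroup.equivMapOfInjective N G.subtype G.subtype_injective
    exact ⟨(eM.trans e).trans ((MulEquiv.subgroupCongr hcentM).trans eN.symm)⟩
  · intro L hLn hLne hLmin
    have hinfn : (L ⊓ M).Normal := Subgroup.normal_inf_normal L M
    rcases hMmin (L ⊓ M) hinfn inf_le_right with h | h
    · right
      have hdisj' : Disjoint L M := disjoint_iff.mpr h
      have hLle : L.map G.subtype ≤ Subgroup.centralizer (M' : Set (Equiv.Perm α)) := by
        rintro _ ⟨x, hx, rfl⟩
        rw [Subgroup.mem_centralizer_iff]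
        rintro _ ⟨y, hy, rfl⟩
        have := Subgroup.commute_of_normal_of_disjoint L M hLn ‹M.Normal› hdisj' x y hx hy
        exact (congrArg Subtype.val this.eq).symm
      rw [hcentM] at hLle
      have hLN : L ≤ N := hleMN L hLle
      exact (hNmin L hLn hLN).resolve_left hLne
    · left
      have hML : M ≤ L := by
        rw [← h]; exact inf_le_left
      rcases hLmin M ‹M.Normal› hML with h1 | h1
      · exact absurd h1 hM
      · exact h1.symm

end Cfsg.Agent.S0704
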