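import Mathlib
import Cfsg.Statements.S0705
import Cfsg.Agent.Helper4.MultiTrans
-- import your own Cfsg.Agent.* helpers here

set_option autoImplicit false
set_option linter.style.haveILetI false
open scoped Pointwise
open Cfsg

namespace Cfsg.Agent.S0705

/-- A generously `k`-transitive permutation group (every `(k+1)`-subset has its full symmetric group induced by the setwise stabiliser) of degree greater than `k` is `k`-transitive, and for a `k`-subset the setwise and pointwise stabilisers have the same orbits outside it. -/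
theorem result {α : Type*} [Fintype α] [DecidableEq α] (G : Subgroup (Equiv.Perm α)) {k : ℕ} (hk : k < Fintype.card α) (hgen : ∀ s : Finset α, s.card = k + 1 → ∀ σ : Equiv.Perm ↥s, ∃ g ∈ G, ∀ x : ↥s, g (x : α) = σ x) : MulAction.IsMultiplyPretransitive G α k ∧ ∀ s : Finset α, s.card = k → ∀ a b : α, a ∉ s → b ∉ s → (∃ g ∈ G, g • s = s ∧ g a = b) → ∃ g ∈ G, (∀ x ∈ s, g x = x) ∧ g a = b := by
  classical
  constructor
  · rcases Nat.eq_zero_or_pos k with rfl | hkpos
    · exact MulAction.is_zero_pretransitive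
    obtain ⟨j, rfl⟩ : ∃ j, k = j + 1 := ⟨k - 1, by omega⟩
    apply Cfsg.Agent.Helper4.isMultiplyPretransitive_of_fixing_transitive j (by omega)
    intro T hT u v huT hvT
    by_cases huv : u = v
    · exact ⟨1, fun x _ => one_smul _ x, by rw [one_smul, huv]⟩
    set s : Finset α := insert u (insert v T) with hs
    have hvT' : v ∉ T := hvT
    have hu' : u ∉ insert v T := by
      rw [Finset.mem_insert]; rintro (h | h)
      · exact huv h
      · exact huT h
    have hscard : s.card = j + 1 + 1 := by
      rw [hs, Finset.card_insert_of_notMem hu', Finset.card_insert_of_notMem hvT', hT]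
    have hus : u ∈ s := Finset.mem_insert_self _ _
    have hvs : v ∈ s := Finset.mem_insert_of_mem (Finset.mem_insert_self _ _)
    obtain ⟨g, hgG, hg⟩ := hgen s hscard (Equiv.swap ⟨u, hus⟩ ⟨v, hvs⟩)
    refine ⟨⟨g, hgG⟩, ?_, ?_⟩
    · intro x hx
      have hxs : x ∈ s := Finset.mem_insert_of_mem (Finset.mem_insert_of_mem hx)
      have h1 := hg ⟨x, hxs⟩
      have hxu : (⟨x, hxs⟩ : ↥s) ≠ ⟨u, hus⟩ := by
        intro e; apply huT; have := congrArg Subtype.val e; simp only at this; rwa [← this]
      have hxv : (⟨x, hxs⟩ : ↥s) ≠ ⟨v, hvs⟩ := by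
        intro e; apply hvT; have := congrArg Subtype.val e; simp only at this; rwa [← this]
      rw [Equiv.swap_apply_of_ne_of_ne hxu hxv] at h1
      exact h1
    · have h1 := hg ⟨u, hus⟩
      rw [Equiv.swap_apply_left] at h1
      exact h1
  · intro s hs a b has hbs hex
    obtain ⟨g0, hg0G, hg0s, hg0a⟩ := hex
    have hmem : ∀ x, x ∈ s ↔ g0 x ∈ s := by
      intro x
      have := Finset.smul_mem_smul_finset_iff (s := s) (b := x) g0
      rw [hg0s] at this
      exact this.symm
    have hmem' : ∀ x, g0⁻¹ x ∈ s ↔ x ∈ s := by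
      intro x
      rw [hmem (g0⁻¹ x)]
      simp
    set τ : Equiv.Perm α := Equiv.Perm.ofSubtype (g0⁻¹.subtypePerm hmem') with hτ
    have hτs : ∀ x, x ∈ s → τ x = g0⁻¹ x := by
      intro x hx
      rw [hτ, Equiv.Perm.ofSubtype_apply_of_mem _ hx, Equiv.Perm.subtypePerm_apply]
    have hτns : ∀ x, x ∉ s → τ x = x := by
      intro x hx
      rw [hτ, Equiv.Perm.ofSubtype_apply_of_not_mem _ hx]
    set Δ : Finset α := insert a s with hΔ
    have hΔcard : Δ.card = k + 1 := by
      rw [hΔ, Finset.card_insert_of_notMem has, hs]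
    have hτΔ : ∀ x, τ x ∈ Δ ↔ x ∈ Δ := by
      intro x
      by_cases hx : x ∈ s
      · rw [hτs x hx]
        constructor
        · intro _; exact Finset.mem_insert_of_mem hx
        · intro _; exact Finset.mem_insert_of_mem ((hmem' x).mpr hx)
      · rw [hτns x hx]
    obtain ⟨h, hhG, hh⟩ := hgen Δ hΔcard (τ.subtypePerm hτΔ)
    refine ⟨g0 * h, G.mul_mem hg0G hhG, ?_, ?_⟩
    · intro x hx
      have hxΔ : x ∈ Δ := Finset.mem_insert_of_mem hx
      have h1 := hh ⟨x, hxΔ⟩
      rw [Equiv.Perm.subtypePerm_apply] at h1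
      simp only at h1
      rw [Equiv.Perm.mul_apply, h1, hτs x hx]
      simp
    · have haΔ : a ∈ Δ := Finset.mem_insert_self _ _
      have h1 := hh ⟨a, haΔ⟩
      rw [Equiv.Perm.subtypePerm_apply] at h1
      simp only at h1
      rw [Equiv.Perm.mul_apply, h1, hτns a has, hg0a]

end Cfsg.Agent.S0705
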