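import Cfsg.Statements.S0706
import Mathlib
import Cfsg.Agent.S0705
import Cfsg.Agent.Helper4.Wagner

set_option autoImplicit false
set_option linter.style.haveILetI false
open scoped Pointwise
open Cfsg

namespace Cfsg.Agent.S0706

/-- In a generously `k`-transitive permutation group, for a prime `p ≤ k` and a `k`-set `Γ`, there are no `p` points outside `Γ` lying in distinct orbits of the pointwise stabiliser of `Γ` all of length prime to `p` (at most `p - 1` such orbits). -/
theorem result {α : Type*} [Fintype α] [DecidableEq α] (G : Subgroup (Equiv.Perm α)) {k : ℕ} (hk : k < Fintype.card α) (hgen : ∀ s : Finset α, s.card = k + 1 → ∀ σ : Equiv.Perm ↥s, ∃ g ∈ G, ∀ x : ↥s, g (x : α) = σ x) {p : ℕ} (hp : p.Prime) (hpk : p ≤ k) (Γ : Finset α) (hΓ : Γ.card = k) (f : Fin p → α) (hf : ∀ i, f i ∉ Γ) (hdist : ∀ i j, i ≠ j → f j ∉ MulAction.orbit (fixingSubgroup G (Γ : Set α)) (f i)) : ∃ i, p ∣ Nat.card (MulAction.orbit (fixingSubgroup G (Γ : Set α)) (f i)) := by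
  classical
  by_contra hcon
  push Not at hcon
  haveI : Fact p.Prime := ⟨hp⟩
  obtain ⟨hkt, hsame⟩ := Cfsg.Agent.S0705.result G hk hgen
  -- abbreviations
  set K : Subgroup ↥G := fixingSubgroup G (Γ : Set α) with hK
  have hKmem : ∀ g : ↥G, g ∈ K ↔ ∀ x ∈ Γ, g • x = x := by
    intro g
    rw [hK, mem_fixingSubgroup_iff]
    simp only [Finset.mem_coe]
  -- choose C ⊆ Γ of size p
  obtain ⟨C, hCΓ, hCcard⟩ := Finset.exists_subset_card_eq (s := Γ) (n := p) (by rw [hΓ]; exact hpk)
  set Γ₀ : Finset α := Γ \ C with hΓ₀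
  have hΓ₀card : Γ₀.card = k - p := by
    rw [hΓ₀, Finset.card_sdiff_of_subset hCΓ, hΓ, hCcard]
  -- the group L
  set L : Subgroup ↥G := fixingSubgroup G (Γ₀ : Set α) ⊓ MulAction.stabilizer ↥G ((C : Finset α) : Set α) with hL
  have hLmem : ∀ g : ↥G, g ∈ L ↔ (∀ x ∈ Γ₀, g • x = x) ∧ ∀ x, g • x ∈ C ↔ x ∈ C := by
    intro g
    rw [hL, Subgroup.mem_inf, mem_fixingSubgroup_iff, MulAction.mem_stabilizer_set]
    simp only [Finset.mem_coe]
  have hKL : K ≤ L := by
    intro g hg
    rw [hKmem] at hg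
    rw [hLmem]
    refine ⟨fun x hx => hg x (Finset.sdiff_subset hx), fun x => ⟨fun h => ?_, fun h => ?_⟩⟩
    · have h1 : g • (g • x) = g • x := hg _ (hCΓ h)
      have h2 : g • x = x := MulAction.injective g h1
      rwa [h2] at h
    · rw [hg x (hCΓ h)]; exact h
  -- elements of L preserve Γ
  have hLΓ : ∀ g ∈ L, ∀ x, g • x ∈ Γ ↔ x ∈ Γ := by
    intro g hg x
    rw [hLmem] at hg
    have hunion : ∀ y, y ∈ Γ ↔ y ∈ Γ₀ ∨ y ∈ C := by
      intro y
      rw [hΓ₀, Finset.mem_sdiff]
      constructor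
      · intro hy
        by_cases hyC : y ∈ C
        · exact Or.inr hyC
        · exact Or.inl ⟨hy, hyC⟩
      · rintro (hy | hy)
        · exact hy.1
        · exact hCΓ hy
    rw [hunion, hunion, hg.2 x]
    constructor
    · rintro (h | h)
      · left
        have h1 : g • (g • x) = g • x := hg.1 _ h
        have h2 : g • x = x := MulAction.injective g h1
        rwa [h2] at h
      · exact Or.inr h
    · rintro (h | h)
      · left; rw [hg.1 x h]; exact h
      · exact Or.inr h
  -- K-orbits of points outside Γ are L-invariant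
  have hKorb_notin : ∀ y, y ∉ Γ → ∀ z ∈ MulAction.orbit K y, z ∉ Γ := by
    intro y hy z hz hzΓ
    obtain ⟨κ, rfl⟩ := hz
    have hκ := (hKmem κ.1).mp κ.2
    have h1 : (κ : ↥G) • ((κ : ↥G) • y) = (κ : ↥G) • y := hκ _ hzΓ
    have h2 : (κ : ↥G) • y = y := MulAction.injective (κ : ↥G) h1
    apply hy
    rw [← h2]; exact hzΓ
  have hLinv : ∀ g ∈ L, ∀ y, y ∉ Γ → g • y ∈ MulAction.orbit K y := by
    intro g hg y hy
    have hgy : g • y ∉ Γ := fun h => hy ((hLΓ g hg y).mp h)
    have hgΓ : (g : Equiv.Perm α) • Γ = Γ := by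
      ext x
      rw [← Finset.inv_smul_mem_iff]
      have := hLΓ g hg ((g : Equiv.Perm α)⁻¹ • x)
      rw [← this]
      change (g : Equiv.Perm α) ((g : Equiv.Perm α)⁻¹ x) ∈ Γ ↔ x ∈ Γ
      simp
    obtain ⟨g', hg'G, hg'fix, hg'y⟩ := hsame Γ hΓ y (g • y) hy hgy ⟨g.1, g.2, hgΓ, rfl⟩
    refine ⟨⟨⟨g', hg'G⟩, ?_⟩, ?_⟩
    · rw [hKmem]; intro x hx; exact hg'fix x hx
    · exact hg'y
  -- L is transitive on C
  have hp0 : 0 < p := hp.pos
  have hLtrans : ∀ c ∈ C, ∀ c' ∈ C, ∃ g ∈ L, g • c = c' := by
    intro c hc c' hc'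
    set y0 : α := f ⟨0, hp0⟩ with hy0
    have hy0Γ : y0 ∉ Γ := hf _
    set Δ : Finset α := insert y0 Γ with hΔ
    have hΔcard : Δ.card = k + 1 := by rw [hΔ, Finset.card_insert_of_notMem hy0Γ, hΓ]
    have hcΔ : c ∈ Δ := Finset.mem_insert_of_mem (hCΓ hc)
    have hc'Δ : c' ∈ Δ := Finset.mem_insert_of_mem (hCΓ hc')
    obtain ⟨g, hgG, hg⟩ := hgen Δ hΔcard (Equiv.swap ⟨c, hcΔ⟩ ⟨c', hc'Δ⟩)
    have hgΓ : ∀ x ∈ Γ, g x = Equiv.swap c c' x := by
      intro x hx
      have hxΔ : x ∈ Δ := Finset.mem_insert_of_mem hx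
      have h1 := hg ⟨x, hxΔ⟩
      rw [h1]
      by_cases hxc : x = c
      · subst hxc; rw [Equiv.swap_apply_left, Equiv.swap_apply_left]
      by_cases hxc' : x = c'
      · subst hxc'; rw [Equiv.swap_apply_right, Equiv.swap_apply_right]
      rw [Equiv.swap_apply_of_ne_of_ne hxc hxc', Equiv.swap_apply_of_ne_of_ne]
      · intro e; exact hxc (congrArg Subtype.val e)
      · intro e; exact hxc' (congrArg Subtype.val e)
    refine ⟨⟨g, hgG⟩, ?_, ?_⟩
    · rw [hLmem]
      refine ⟨fun x hx => ?_, fun x => ?_⟩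
      · have hxΓ : x ∈ Γ := Finset.sdiff_subset hx
        have hxC : x ∉ C := (Finset.mem_sdiff.mp hx).2
        change g x = x
        rw [hgΓ x hxΓ, Equiv.swap_apply_of_ne_of_ne]
        · rintro rfl; exact hxC hc
        · rintro rfl; exact hxC hc'
      · change g x ∈ C ↔ x ∈ C
        constructor
        · intro h
          -- g x ∈ C ⊆ Γ; apply to g⁻¹
          by_contra hxC
          -- g permutes C, so by injectivity on the finite set C, x ∈ C
          have hmaps : ∀ z ∈ C, g z ∈ C := by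
            intro z hz
            rw [hgΓ z (hCΓ hz)]
            by_cases hzc : z = c
            · subst hzc; rw [Equiv.swap_apply_left]; exact hc'
            by_cases hzc' : z = c'
            · subst hzc'; rw [Equiv.swap_apply_right]; exact hc
            rw [Equiv.swap_apply_of_ne_of_ne hzc hzc']; exact hz
          have hsurj : Set.SurjOn g (C : Set α) (C : Set α) :=
            Finset.surjOn_of_injOn_of_card_le (s := C) (t := C) g hmaps
              (g.injective.injOn) le_rfl
          obtain ⟨z, hz, hzx⟩ := hsurj (Finset.mem_coe.mpr h)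
          have : z = x := g.injective hzx
          rw [← this] at hxC
          exact hxC (Finset.mem_coe.mp hz)
        · intro hx
          rw [hgΓ x (hCΓ hx)]
          by_cases hzc : x = c
          · subst hzc; rw [Equiv.swap_apply_left]; exact hc'
          by_cases hzc' : x = c'
          · subst hzc'; rw [Equiv.swap_apply_right]; exact hc
          rw [Equiv.swap_apply_of_ne_of_ne hzc hzc']; exact hx
    · change g c = c'
      rw [hgΓ c (hCΓ hc), Equiv.swap_apply_left]
  -- p * |K| divides |L|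
  obtain ⟨c, hc⟩ : ∃ c, c ∈ C := by
    apply Finset.card_pos.mp; rw [hCcard]; exact hp0
  have hdiv : p * Nat.card K ∣ Nat.card L := by
    have h1 := MulAction.card_orbit_mul_card_stabilizer_eq_card_group ↥L c
    simp only [← Nat.card_eq_fintype_card] at h1
    have horb : MulAction.orbit ↥L c = ((C : Finset α) : Set α) := by
      ext z
      constructor
      · rintro ⟨l, rfl⟩
        have := ((hLmem l.1).mp l.2).2 c
        exact Finset.mem_coe.mpr (this.mpr hc)
      · intro hz
        obtain ⟨g, hgL, hgz⟩ := hLtrans c hc z (Finset.mem_coe.mp hz)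
        exact ⟨⟨g, hgL⟩, hgz⟩
    have h2 : Nat.card (MulAction.orbit ↥L c) = p := by
      rw [horb, Nat.card_coe_set_eq, Set.ncard_coe_finset, hCcard]
    have h3 : Nat.card K ∣ Nat.card (MulAction.stabilizer ↥L c) := by
      have hle : K.subgroupOf L ≤ MulAction.stabilizer ↥L c := by
        intro l hl
        rw [Subgroup.mem_subgroupOf, hKmem] at hl
        rw [MulAction.mem_stabilizer_iff]
        exact hl c (hCΓ hc)
      have := Subgroup.card_dvd_of_le hle
      rwa [Nat.card_congr (Subgroup.subgroupOfEquivOfLe hKL).toEquiv] at this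
    rw [← h1, h2]
    exact Nat.mul_dvd_mul_left p h3
  -- Sylow subgroup of L, pushed to ↥G
  obtain ⟨S0⟩ : Nonempty (Sylow p ↥L) := inferInstance
  set S : Subgroup ↥G := (S0 : Subgroup ↥L).map L.subtype with hS
  have hSL : S ≤ L := by
    rw [hS]; intro x hx
    obtain ⟨y, -, rfl⟩ := Subgroup.mem_map.mp hx
    exact y.2
  have hSp : IsPGroup p S := by
    rw [hS]; exact S0.2.map _
  have hScard : Nat.card S = p ^ (Nat.card L).factorization p := by
    rw [hS, Subgroup.card_map_of_injective L.subtype_injective, Sylow.card_eq_multiplicity]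
  have hSK : ¬ Nat.card S ∣ Nat.card K := by
    intro hdvd
    have h1 : p * Nat.card S ∣ Nat.card L := (Nat.mul_dvd_mul_left p hdvd).trans hdiv
    rw [hScard, ← pow_succ'] at h1
    exact Nat.pow_succ_factorization_not_dvd Nat.card_pos.ne' hp h1
  -- fixed points of S in each K-orbit
  have hfix : ∀ i : Fin p, ∃ x ∈ MulAction.orbit K (f i), ∀ s ∈ S, s • x = x := by
    intro i
    apply Cfsg.Agent.Helper4.Wagner.exists_fixed_of_invariant S hSp
    · intro s hs x hx
      have h1 : s • x ∈ MulAction.orbit K x :=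
        hLinv s (hSL hs) x (hKorb_notin (f i) (hf i) x hx)
      rw [MulAction.orbit_eq_iff.mpr hx] at h1
      exact h1
    · exact hcon i
  choose f' hf'orb hf'fix using hfix
  have hf'Γ : ∀ i, f' i ∉ Γ := fun i => hKorb_notin (f i) (hf i) _ (hf'orb i)
  have hf'inj : Function.Injective f' := by
    intro i j hij
    by_contra hne
    apply hdist i j hne
    have h1 : MulAction.orbit K (f' i) = MulAction.orbit K (f i) := MulAction.orbit_eq_iff.mpr (hf'orb i)
    have h2 : MulAction.orbit K (f' j) = MulAction.orbit K (f j) := MulAction.orbit_eq_iff.mpr (hf'orb j)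
    rw [← h1, hij, h2]
    exact MulAction.mem_orbit_self _
  -- the new k-set
  set Γ' : Finset α := Γ₀ ∪ Finset.image f' Finset.univ with hΓ'
  have hΓ'card : Γ'.card = k := by
    rw [hΓ', Finset.card_union_of_disjoint, hΓ₀card, Finset.card_image_of_injective _ hf'inj,
      Finset.card_univ, Fintype.card_fin]
    · omega
    · rw [Finset.disjoint_left]
      intro x hx hx'
      obtain ⟨i, -, rfl⟩ := Finset.mem_image.mp hx'
      exact hf'Γ i (Finset.sdiff_subset hx)
  set K' : Subgroup ↥G := fixingSubgroup G (Γ' : Set α) with hK'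
  have hSK' : S ≤ K' := by
    intro s hs
    rw [hK', mem_fixingSubgroup_iff]
    intro x hx
    rw [Finset.mem_coe, hΓ', Finset.mem_union] at hx
    rcases hx with hx | hx
    · exact ((hLmem s).mp (hSL hs)).1 x hx
    · obtain ⟨i, -, rfl⟩ := Finset.mem_image.mp hx
      exact hf'fix i s hs
  have hcardeq : Nat.card K' = Nat.card K := by
    have e1 := hkt.index_of_fixingSubgroup_mul (s := (Γ : Set α)) (by rw [Set.ncard_coe_finset, hΓ])
    have e2 := hkt.index_of_fixingSubgroup_mul (s := (Γ' : Set α)) (by rw [Set.ncard_coe_finset, hΓ'card])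
    have hidx : K'.index = K.index := by
      apply Nat.eq_of_mul_eq_mul_right (Nat.factorial_pos (Nat.card α - k))
      rw [hK', hK, e1, e2]
    have c1 := K.card_mul_index
    have c2 := K'.card_mul_index
    rw [hidx] at c2
    have hpos : 0 < K.index := Nat.pos_of_ne_zero Subgroup.index_ne_zero_of_finite
    exact Nat.eq_of_mul_eq_mul_right hpos (c2.trans c1.symm)
  apply hSK
  rw [← hcardeq]
  exact Subgroup.card_dvd_of_le hSK'

end Cfsg.Agent.S0706
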