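import Mathlib
import Cfsg.Statements.S0710
import Cfsg.Agent.Helper4.SylowTrans
-- import your own Cfsg.Agent.* helpers here

set_option autoImplicit false
set_option linter.style.haveILetI false
open Cfsg

namespace Cfsg.Agent.S0710

/-- No transitive permutation group on 13 points has order `13 * 12 * 11 * 10 * 9 * 8`. -/
theorem result {α : Type*} [Fintype α] [DecidableEq α] (hα : Fintype.card α = 13) (G : Subgroup (Equiv.Perm α)) [MulAction.IsPretransitive G α] : Nat.card G ≠ 13 * 12 * 11 * 10 * 9 * 8 := by
  classical
  intro hG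
  haveI : Fact (Nat.Prime 13) := ⟨by norm_num⟩
  obtain ⟨P⟩ : Nonempty (Sylow 13 G) := inferInstance
  -- |P| = 13
  have hPcard : Nat.card (P : Subgroup G) = 13 := by
    obtain ⟨m, hm⟩ := (IsPGroup.iff_card (p := 13)).mp P.isPGroup'
    have hdvd : Nat.card (P : Subgroup G) ∣ Nat.card G := Subgroup.card_subgroup_dvd_card _
    have h13 : 13 ∣ Nat.card (P : Subgroup G) := P.dvd_card_of_dvd_card (by rw [hG]; norm_num)
    rw [hm] at hdvd h13 ⊢
    rw [hG] at hdvd
    have hm1 : m ≠ 0 := by
      rintro rfl
      norm_num at h13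
    have hm2 : m < 2 := by
      by_contra hlt
      push Not at hlt
      have : 13 ^ 2 ∣ 13 * 12 * 11 * 10 * 9 * 8 := (pow_dvd_pow 13 hlt).trans hdvd
      norm_num at this
    have : m = 1 := by omega
    rw [this, pow_one]
  have htr : MulAction.IsPretransitive (P : Subgroup G) α :=
    Cfsg.Agent.Helper4.sylow_isPretransitive (f := 1)
      (by rw [Nat.card_eq_fintype_card, hα, pow_one]) P
  set C : Subgroup G := Subgroup.centralizer ((P : Subgroup G) : Set G) with hC
  set N : Subgroup G := Subgroup.normalizer ((P : Subgroup G) : Set G) with hN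
  -- C is semiregular
  obtain ⟨a⟩ : Nonempty α := by
    rw [← Fintype.card_pos_iff, hα]; norm_num
  have hCstab : MulAction.stabilizer C a = ⊥ := by
    rw [Subgroup.eq_bot_iff_forall]
    intro c hc
    apply Subtype.ext
    apply Subtype.ext
    ext b
    obtain ⟨g, hg⟩ := htr.exists_smul_eq a b
    have hcomm : g.1 * c.1 = c.1 * g.1 := by
      have h1 : c.1 ∈ Subgroup.centralizer ((P : Subgroup G) : Set G) := c.2
      rw [Subgroup.mem_centralizer_iff] at h1
      exact h1 g.1 g.2
    have hca : c.1 • a = a := hc
    have hga : g.1 • a = b := hg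
    change c.1 • b = b
    rw [← hga, ← mul_smul, ← hcomm, mul_smul, hca]
  have hCle : Nat.card C ≤ 13 := by
    have h1 : (MulAction.stabilizer C a).index = (MulAction.orbit C a).ncard :=
      MulAction.index_stabilizer _ a
    rw [hCstab, Subgroup.index_bot] at h1
    rw [h1, ← hα, ← Nat.card_eq_fintype_card]
    exact Set.ncard_le_card _
  have hPC : (P : Subgroup G) ≤ C := by
    haveI : IsCyclic (P : Subgroup G) := isCyclic_of_prime_card hPcard
    intro x hx
    rw [hC, Subgroup.mem_centralizer_iff]
    intro y hy
    have := (IsCyclic.commGroup (α := (P : Subgroup G))).mul_comm ⟨y, hy⟩ ⟨x, hx⟩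
    exact congrArg Subtype.val this
  have hCcard : Nat.card C = 13 := by
    have h1 : 13 ∣ Nat.card C := by
      rw [← hPcard]; exact Subgroup.card_dvd_of_le hPC
    have h2 : 0 < Nat.card C := Nat.card_pos
    obtain ⟨t, ht⟩ := h1
    have : t = 1 := by nlinarith
    rw [ht, this]
  have hCN : C ≤ N := Subgroup.centralizer_le_normalizer _
  -- N/C embeds in Aut(P)
  have hkey : C.relIndex N ∣ 12 := by
    haveI : IsCyclic (P : Subgroup G) := isCyclic_of_prime_card hPcard
    have key := Subgroup.card_dvd_of_injective _
      (QuotientGroup.kerLift_injective (P : Subgroup G).normalizerMonoidHom)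
    rw [Subgroup.normalizerMonoidHom_ker, ← Subgroup.index, ← Subgroup.relIndex] at key
    rw [IsCyclic.card_mulAut, hPcard] at key
    have h12 : Nat.totient 13 = 12 := by
      rw [Nat.totient_prime (by norm_num)]
    rwa [h12] at key
  have hidx : C.relIndex N * N.index = C.index := Subgroup.relIndex_mul_index hCN
  have hCidx : C.index = 95040 := by
    have := Subgroup.card_mul_index C
    rw [hCcard, hG] at this
    omega
  have hsyl : Nat.card (Sylow 13 G) = N.index := P.card_eq_index_normalizer
  have hmod : Nat.card (Sylow 13 G) ≡ 1 [MOD 13] := card_sylow_modEq_one 13 G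
  rw [hsyl] at hmod
  rw [hCidx] at hidx
  set k := C.relIndex N with hk
  set n13 := N.index with hn13
  have hk12 : k ≤ 12 := Nat.le_of_dvd (by norm_num) hkey
  have hmod' : n13 % 13 = 1 := hmod
  interval_cases k <;> omega

end Cfsg.Agent.S0710
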