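import Cfsg.Statements.S0718
import Mathlib
import Cfsg.Agent.Helper20.PermCharL

set_option autoImplicit false
open Cfsg

namespace Cfsg.Agent.S0718

/-- Multiplicity-freeness of the permutation character is equivalent to commutativity of the centraliser ring, i.e. of the algebra of `G`-equivariant endomorphisms of the complex permutation module. -/
theorem result {G : Type*} [Group G] [Fintype G] {Ω : Type*} [Fintype Ω] [MulAction G Ω] : (∀ χ : G → ℂ, Cfsg.IsIrrCharacter G χ → Cfsg.classInner (fun g : G => (Nat.card (MulAction.fixedBy Ω g) : ℂ)) χ = 0 ∨ Cfsg.classInner (fun g : G => (Nat.card (MulAction.fixedBy Ω g) : ℂ)) χ = 1) ↔ ∀ S T : (Ω → ℂ) →ₗ[ℂ] (Ω → ℂ), S ∈ ((Cfsg.permRep ℂ G Ω).linHom (Cfsg.permRep ℂ G Ω)).invariants → T ∈ ((Cfsg.permRep ℂ G Ω).linHom (Cfsg.permRep ℂ G Ω)).invariants → S ∘ₗ T = T ∘ₗ S := by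
  classical
  rw [← Cfsg.Agent.Helper20.PermChar.character_permRep' (G := G) (Ω := Ω)]
  constructor
  · intro h S T hS hT
    have h' : ∀ χ : IrrCharacter G,
        classInner (Cfsg.permRep ℂ G Ω).character (χ : G → ℂ) = 0 ∨
        classInner (Cfsg.permRep ℂ G Ω).character (χ : G → ℂ) = 1 := fun χ => h χ.1 χ.2
    have := Cfsg.Agent.Helper20.PermChar.commutant_comm_of_multFree (Cfsg.permRep ℂ G Ω) h'
      S T hS hT
    rw [Module.End.mul_eq_comp, Module.End.mul_eq_comp] at this
    exact this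
  · intro h χ hχ
    refine Cfsg.Agent.Helper20.PermChar.multFree_of_commutant_comm (Cfsg.permRep ℂ G Ω) ?_ χ hχ
    intro S T hS hT
    rw [Module.End.mul_eq_comp, Module.End.mul_eq_comp]
    exact h S T hS hT

end Cfsg.Agent.S0718
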