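import Cfsg.Statements.S0719
import Mathlib
import Cfsg.Agent.Helper20.PermCharS

set_option autoImplicit false
open Cfsg

namespace Cfsg.Agent.S0719

/-- Groups of Wielandt type: if a primitive group of degree `2m` has rank 3 and permutation character `1 + χ₁ + χ₂` with irreducible `χ₁, χ₂` of degrees `m - 1` and `m`, then `m = 2a² + 2a + 1` for some positive integer `a` and the two non-trivial subdegrees are `a(2a+1)` and `(a+1)(2a+1)`. -/
theorem result {G : Type*} [Group G] [Fintype G] {Ω : Type*} [Fintype Ω] [MulAction G Ω] (hprim : MulAction.IsPreprimitive G Ω) {m : ℕ} (hm : Fintype.card Ω = 2 * m) (a₀ : Ω) (hrank : Nat.card (MulAction.orbitRel.Quotient (MulAction.stabilizer G a₀) Ω) = 3) (χ₁ χ₂ : G → ℂ) (h₁ : Cfsg.IsIrrCharacter G χ₁) (h₂ : Cfsg.IsIrrCharacter G χ₂) (hπ : (fun g : G => (Nat.card (MulAction.fixedBy Ω g) : ℂ)) = fun g => 1 + χ₁ g + χ₂ g) (hd₁ : χ₁ 1 = (m : ℂ) - 1) (hd₂ :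 χ₂ 1 = m) : ∃ a : ℕ, 0 < a ∧ m = 2 * a ^ 2 + 2 * a + 1 ∧ ∀ b : Ω, b ≠ a₀ → Nat.card (MulAction.orbit (MulAction.stabilizer G a₀) b) = a * (2 * a + 1) ∨ Nat.card (MulAction.orbit (MulAction.stabilizer G a₀) b) = (a + 1) * (2 * a + 1) := by
  classical
  haveI : MulAction.IsPreprimitive G Ω := hprim
  haveI : MulAction.IsPretransitive G Ω := inferInstance
  obtain ⟨hm2, h01, h02, h12, hmult⟩ := Cfsg.Agent.Helper20.PermChar.wielandt_setup a₀ χ₁ χ₂ h₁ h₂ hπ hd₁ hd₂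
  have hgen : ∀ a b : Ω, ∃ g : G, g • a = b ∧ g • b = a :=
    fun a b => Cfsg.Agent.Helper20.PermChar.wielandt_generous a₀ χ₁ χ₂ h₁ h₂ hπ hd₁ hd₂ a b
  obtain ⟨b₁, b₂, hb₁, hb₂, hb, hall⟩ := Cfsg.Agent.Helper20.PermChar.exists_reps_of_rank_three (G := G) a₀ hrank
  have hb' : b₁ ∉ MulAction.orbit (MulAction.stabilizer G a₀) b₂ := by
    intro h
    apply hb
    have e := MulAction.orbit_eq_iff.mpr h
    rw [e]
    exact MulAction.mem_orbit_self b₂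
  have hall' : ∀ y : Ω, y = a₀ ∨ y ∈ MulAction.orbit (MulAction.stabilizer G a₀) b₂ ∨
      y ∈ MulAction.orbit (MulAction.stabilizer G a₀) b₁ := by
    intro y
    rcases hall y with h | h | h
    · exact Or.inl h
    · exact Or.inr (Or.inr h)
    · exact Or.inr (Or.inl h)
  obtain ⟨r, s, R1, R2⟩ := Cfsg.Agent.Helper20.PermChar.wielandt_relations hgen a₀ b₁ b₂ hb₁ hb₂ hb hall ⟨χ₁, h₁⟩ ⟨χ₂, h₂⟩
    h01 h02 h12 hmult hm2 hd₁ hd₂ hm
  have hcnt := Cfsg.Agent.Helper20.PermChar.card_eq_one_add (G := G) a₀ b₁ b₂ hb₁ hb₂ hb hall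
  rw [hm] at hcnt
  have hΩ : 2 < Nat.card Ω := by
    rw [Nat.card_eq_fintype_card, hm]
    omega
  have hk1 := Cfsg.Agent.Helper20.PermChar.card_orbit_ne_one_of_preprimitive hgen hΩ a₀ b₁ hb₁
  have hl1 := Cfsg.Agent.Helper20.PermChar.card_orbit_ne_one_of_preprimitive hgen hΩ a₀ b₂ hb₂
  haveI : Nonempty (MulAction.orbit (MulAction.stabilizer G a₀) b₁) :=
    ⟨⟨b₁, MulAction.mem_orbit_self b₁⟩⟩
  haveI : Nonempty (MulAction.orbit (MulAction.stabilizer G a₀) b₂) :=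
    ⟨⟨b₂, MulAction.mem_orbit_self b₂⟩⟩
  have hk0 : 0 < Nat.card (MulAction.orbit (MulAction.stabilizer G a₀) b₁) := Nat.card_pos
  have hl0 : 0 < Nat.card (MulAction.orbit (MulAction.stabilizer G a₀) b₂) := Nat.card_pos
  obtain ⟨a, ha, hma, hkl⟩ := Cfsg.Agent.Helper20.PermChar.wielandt_numeric m _ _ r s hm2 (by omega) (by omega) hcnt.symm R1 R2
  refine ⟨a, ha, hma, ?_⟩
  intro b hba
  rcases hall b with h | h | h
  · exact absurd h hba
  · rw [MulAction.orbit_eq_iff.mpr h]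
    rcases hkl with ⟨e1, -⟩ | ⟨e1, -⟩
    · exact Or.inl e1
    · exact Or.inr e1
  · rw [MulAction.orbit_eq_iff.mpr h]
    rcases hkl with ⟨-, e2⟩ | ⟨-, e2⟩
    · exact Or.inr e2
    · exact Or.inl e2

end Cfsg.Agent.S0719
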