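import Cfsg.Statements.S0720
import Cfsg.Agent.Helper1.W2pDefs
import Cfsg.Agent.Helper1.W2pFin
import Cfsg.Agent.Helper3.W2pBR
import Cfsg.Agent.Helper8.W2pT1
import Cfsg.Agent.Helper24.W2pLIFTb
import Cfsg.Agent.Helper24.W2pLIFTc
import Cfsg.Agent.Helper16.W2pJOR
import Cfsg.Agent.Helper16.W2pSYL
import Cfsg.Agent.Helper20.W2pST4
import Cfsg.Agent.Helper21.W2pPERF
import Cfsg.Agent.Helper21.W2pSMALL
import Cfsg.Agent.Helper25.W2pSCH
import Cfsg.Agent.S0719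

set_option autoImplicit false
set_option linter.style.haveILetI false
set_option linter.unusedVariables false
open Cfsg

namespace Cfsg.Agent.S0720

open Cfsg.Agent.Helper24 Cfsg.Agent.Helper1.W2p Cfsg.Agent.Helper1.W2pFin MulAction

/-- Wielandt's Theorem on primitive groups of degree `2p`: such a group is doubly transitive, or it has rank 3, `p = 2a² + 2a + 1`, and subdegrees `a(2a+1)` and `(a+1)(2a+1)`. -/
theorem result {α : Type*} [Fintype α] [DecidableEq α] {p : ℕ} (hp : p.Prime) (hα : Fintype.card α = 2 * p) (G : Subgroup (Equiv.Perm α)) (hG : MulAction.IsPreprimitive G α) (a₀ : α) : MulAction.IsMultiplyPretransitive G α 2 ∨ (Nat.card (MulAction.orbitRel.Quotient (MulAction.stabilizer G a₀) α) = 3 ∧ ∃ a : ℕ, 0 < a ∧ p = 2 * a ^ 2 + 2 * a + 1 ∧ ∀ b : α, b ≠ a₀ → Nat.card (MulAction.orbit (MulAction.stabilizer G a₀) b) = a * (2 * a + 1) ∨ Nat.card (MulAction.orbit (MulAction.stabilizer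 G a₀) b) = (a + 1) * (2 * a + 1)) := by
  classical
  by_cases hp2 : p = 2
  · left
    subst hp2
    exact Cfsg.Agent.Helper21.W2p.two_trans_of_card_four (by omega) G hG
  haveI : Fact p.Prime := ⟨hp⟩
  by_cases hfix : ∃ g ∈ G, orderOf g = p ∧ ∃ x : α, g x = x
  · obtain ⟨g, hg, hord, x, hx⟩ := hfix
    left
    exact Cfsg.Agent.Helper16.W2p.two_trans_of_fixed_point hp hα G hG g hg hord x hx
  have hfpf : ∀ g ∈ G, orderOf g = p → ∀ x : α, g x ≠ x := by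
    intro g hg hord x hx
    exact hfix ⟨g, hg, hord, x, hx⟩
  haveI hT : IsPretransitive G α := hG.toIsPretransitive
  obtain ⟨hcard, hfpf'⟩ := Cfsg.Agent.Helper16.W2p.sylow_card_eq hp2 hα G hT hfpf
  let P : Sylow p G := default
  have hP := hcard P
  by_cases hC : Subgroup.centralizer ((P : Subgroup G) : Set G) = (P : Subgroup G)
  swap
  · left
    exact Cfsg.Agent.Helper25.W2p.two_trans_of_centralizer_ne hp2 hα G hG hfpf' P hP hC
  -- the main case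
  have hΩ : Nat.card α = 2 * p := by rw [Nat.card_eq_fintype_card]; exact hα
  set G₁ : Subgroup G := Subgroup.normalClosure ((P : Subgroup G) : Set G) with hG₁
  obtain ⟨hT₁, hlin, P₁, hP₁, hC₁, hP₁eq⟩ := Cfsg.Agent.Helper21.W2p.normalClosure_props hG p hp2 hΩ P hP hC G₁ hG₁
  obtain ⟨D⟩ := Cfsg.Agent.Helper8.W2p.exists_brauerData p hp2 P₁ hP₁ hC₁
  have hfpf₁ : ∀ g : G₁, p ∣ orderOf g → ∀ x : α, g • x ≠ x := by
    intro g hg x
    exact hfpf' (g : G) (by rwa [Subgroup.orderOf_coe]) x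
  haveI : Fintype G₁ := Fintype.ofFinite _
  haveI : Fintype G := Fintype.ofFinite _
  -- conclusion from the rank 3 alternative
  have hrank3 : (Nat.card (orbitRel.Quotient (stabilizer G a₀) α) = 3 ∧
      ∃ χ₁ χ₂ : G → ℂ, IsIrrCharacter G χ₁ ∧ IsIrrCharacter G χ₂ ∧
        ((fun g : G => (Nat.card (fixedBy α g) : ℂ)) = fun g => 1 + χ₁ g + χ₂ g) ∧
        χ₁ 1 = (p : ℂ) - 1 ∧ χ₂ 1 = p) →
      (Nat.card (MulAction.orbitRel.Quotient (MulAction.stabilizer G a₀) α) = 3 ∧ ∃ a : ℕ, 0 < a ∧ p = 2 * a ^ 2 + 2 * a + 1 ∧ ∀ b : α, b ≠ a₀ → Nat.card (MulAction.orbit (MulAction.stabilizer G a₀) b) = a * (2 * a + 1) ∨ Nat.card (MulAction.orbit (MulAction.stabilizer G a₀) b) = (a + 1) * (2 * a + 1)) := by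
    rintro ⟨hrank, χ₁, χ₂, h₁, h₂, hπ, hd₁, hd₂⟩
    exact ⟨hrank, Cfsg.Agent.S0719.result hG hα a₀ hrank χ₁ χ₂ h₁ h₂ hπ hd₁ hd₂⟩
  rcases Cfsg.Agent.Helper20.W2p.step4 (H := ↥G₁) (Ω := α) p hp2 hα (P₁ : Subgroup G₁) hP₁ D hfpf₁ hlin with
    ⟨χ, hχ⟩ | ⟨χ, η, hχd, hηd, hπ⟩ | ⟨hε, hY2, hdeg, η, hηd, hηY, hπ⟩
  · -- case (a)
    left
    apply two_trans_of_subgroup G₁
    exact two_trans_of_decomp (by rw [hα]; have := hp.two_le; omega) χ hχ
  · -- case (b)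
    rcases Cfsg.Agent.Helper24.W2p.lift_three (G := ↥G) (Ω := α) G₁ p hp.two_le hα χ η hχd hηd hπ a₀ with h | h
    · left; exact h
    · right; exact hrank3 h
  · -- case (c)
    obtain ⟨hY, hodd⟩ := Cfsg.Agent.Helper3.W2p.brauer_ineq p hp2 P₁ hP₁ hC₁ D hlin hε hY2 hdeg
    have he2 : 2 * eN (P₁ : Subgroup G₁) = p - 1 := by
      have := D.card_Y
      rwa [hY] at this
    obtain ⟨ψ₁, ψ₂, hne, hYeq⟩ : ∃ ψ₁ ψ₂ : IrrCharacter G₁, ψ₁ ≠ ψ₂ ∧ D.Y = {ψ₁, ψ₂} := by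
      have := hY
      rw [Nat.card_coe_set_eq, Set.ncard_eq_two] at this
      exact this
    have hψ₁Y : ψ₁ ∈ D.Y := by rw [hYeq]; exact Set.mem_insert _ _
    have hψ₂Y : ψ₂ ∈ D.Y := by rw [hYeq]; exact Set.mem_insert_of_mem _ rfl
    have hπ' : ∀ g : G₁, (Nat.card (fixedBy α (g : G)) : ℂ) =
        1 + (ψ₁ : G₁ → ℂ) g + (ψ₂ : G₁ → ℂ) g + (η : G₁ → ℂ) g := by
      intro g
      have := hπ g
      rw [hYeq, finsum_mem_pair hne] at this
      rw [← add_assoc] at this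
      exact this
    have hd₁ : 2 * irrDeg ψ₁ = p - 1 := by rw [hdeg ψ₁ hψ₁Y]; exact he2
    have hd₂ : 2 * irrDeg ψ₂ = p - 1 := by rw [hdeg ψ₂ hψ₂Y]; exact he2
    rcases Cfsg.Agent.Helper24.W2p.lift_four (G := ↥G) (Ω := α) G₁ p hp.two_le hα ψ₁ ψ₂ η hne hd₁ hd₂ hηd hπ' a₀ with
      h | h | ⟨Ψ, hΨ, hres | hres⟩
    · left; exact h
    · right; exact hrank3 h
    · exact (final_contra hG p hp2 hα G₁ P₁ hP₁ hC₁ D hε hodd hfpf₁ ψ₁ hψ₁Y (hdeg ψ₁ hψ₁Y) Ψ hΨ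
        hres).elim
    · exact (final_contra hG p hp2 hα G₁ P₁ hP₁ hC₁ D hε hodd hfpf₁ ψ₂ hψ₂Y (hdeg ψ₂ hψ₂Y) Ψ hΨ
        hres).elim

end Cfsg.Agent.S0720
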