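import Mathlib
import Cfsg.Statements.S0726
-- import your own Cfsg.Agent.* helpers here

set_option autoImplicit false
open Cfsg

namespace Cfsg.Agent.S0726

/-- The left and right regular permutation representations of a group are each other's centralisers in the symmetric group: the centraliser of the left regular image is the right regular image, and a transitive subgroup centralising the left regular image is the whole right regular image. -/
theorem result {G : Type*} [Group G] : Subgroup.centralizer ((MulAction.toPermHom G G).range : Set (Equiv.Perm G)) = (MulAction.toPermHom Gᵐᵒᵖ G).range ∧ ∀ H : Subgroup (Equiv.Perm G), H ≤ Subgroup.centralizer ((MulAction.toPermHom G G).range : Set (Equiv.Perm G)) → MulAction.IsPretransitive H G → H = (MulAction.toPermHom Gᵐᵒᵖ G).range := by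
  have key : ∀ c : Equiv.Perm G,
      c ∈ Subgroup.centralizer ((MulAction.toPermHom G G).range : Set (Equiv.Perm G)) →
      c = MulAction.toPermHom Gᵐᵒᵖ G (MulOpposite.op (c 1)) := by
    intro c hc
    rw [Subgroup.mem_centralizer_iff] at hc
    ext x
    have := hc (MulAction.toPermHom G G x) ⟨x, rfl⟩
    have h2 := congrArg (fun t => t 1) this
    simp only [Equiv.Perm.coe_mul, Function.comp_apply, MulAction.toPermHom_apply,
      MulAction.toPerm_apply, smul_eq_mul, mul_one] at h2
    simp only [MulAction.toPermHom_apply, MulAction.toPerm_apply, MulOpposite.smul_eq_mul_unop,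
      MulOpposite.unop_op]
    exact h2.symm
  have hrange : (MulAction.toPermHom Gᵐᵒᵖ G).range ≤
      Subgroup.centralizer ((MulAction.toPermHom G G).range : Set (Equiv.Perm G)) := by
    rintro _ ⟨a, rfl⟩
    rw [Subgroup.mem_centralizer_iff]
    rintro _ ⟨g, rfl⟩
    ext x
    simp only [Equiv.Perm.coe_mul, Function.comp_apply, MulAction.toPermHom_apply,
      MulAction.toPerm_apply, smul_eq_mul, MulOpposite.smul_eq_mul_unop, mul_assoc]
  have hle : Subgroup.centralizer ((MulAction.toPermHom G G).range : Set (Equiv.Perm G)) ≤
      (MulAction.toPermHom Gᵐᵒᵖ G).range := by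
    intro c hc
    exact ⟨MulOpposite.op (c 1), (key c hc).symm⟩
  refine ⟨le_antisymm hle hrange, ?_⟩
  intro H hH htr
  apply le_antisymm (hH.trans hle)
  rintro _ ⟨a, rfl⟩
  obtain ⟨h, hh⟩ := htr.exists_smul_eq (1 : G) (MulOpposite.unop a)
  have h3 := key h.1 (hH h.2)
  rw [Subgroup.smul_def, Equiv.Perm.smul_def] at hh
  rw [hh, MulOpposite.op_unop] at h3
  rw [← h3]
  exact h.2

end Cfsg.Agent.S0726
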