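import Cfsg.Statements.S0733
import Mathlib

set_option autoImplicit false
open Cfsg

namespace Cfsg.Agent.S0733

section Aux
open scoped Pointwise

theorem affine_aux {p : ℕ} [Fact p.Prime] {V : Type*} [AddCommGroup V] [Module (ZMod p) V] [Finite V] [Nontrivial V] (G₀ : Subgroup (V ≃ₗ[ZMod p] V)) (G : Subgroup (Equiv.Perm V)) (hG : ∀ σ : Equiv.Perm V, σ ∈ G ↔ ∃ g ∈ G₀, ∃ b : V, ∀ x : V, σ x = (g : V ≃ₗ[ZMod p] V) x + b) : MulAction.IsPreprimitive G V ↔ ∀ W : Submodule (ZMod p) V, (∀ g ∈ G₀, ∀ v ∈ W, (g : V ≃ₗ[ZMod p] V) v ∈ W) → W = ⊥ ∨ W = ⊤ := by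
  classical
  -- translations and linear maps belong to G
  have htrans_mem : ∀ b : V, Equiv.addRight b ∈ G := by
    intro b
    rw [hG]
    exact ⟨1, G₀.one_mem, b, fun x => by simp⟩
  have hlin_mem : ∀ g ∈ G₀, (g : V ≃ₗ[ZMod p] V).toEquiv ∈ G := by
    intro g hg
    rw [hG]
    exact ⟨g, hg, 0, fun x => by simp⟩
  have hsmul : ∀ (σ : G) (x : V), σ • x = (σ : Equiv.Perm V) x := fun σ x => rfl
  constructor
  · intro hprim W hW
    have hblock : MulAction.IsBlock G (W : Set V) := by
      rw [MulAction.isBlock_iff_smul_eq_of_mem]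
      intro σ y hy hσy
      obtain ⟨g, hg, b, hgb⟩ := (hG σ).mp σ.2
      have hbW : b ∈ W := by
        have h1 : (σ : Equiv.Perm V) y ∈ W := hσy
        rw [hgb] at h1
        have h2 := hW g hg y hy
        have := W.sub_mem h1 h2
        simpa using this
      ext x
      rw [Set.mem_smul_set_iff_inv_smul_mem]
      constructor
      · intro hx
        have h1 : σ • (σ⁻¹ • x) ∈ (W : Set V) := by
          rw [hsmul, hgb]
          exact W.add_mem (hW g hg _ hx) hbW
        rwa [smul_inv_smul] at h1
      · intro hx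
        -- σ⁻¹ x = g⁻¹ (x - b)
        have h1 : σ⁻¹ • x = (g⁻¹ : V ≃ₗ[ZMod p] V) (x - b) := by
          rw [inv_smul_eq_iff, hsmul, hgb]
          have : g ((g⁻¹ : V ≃ₗ[ZMod p] V) (x - b)) = x - b := by
            change (g * g⁻¹) (x - b) = x - b
            rw [mul_inv_cancel]
            rfl
          rw [this]
          abel
        rw [h1]
        exact hW g⁻¹ (G₀.inv_mem hg) _ (W.sub_mem hx hbW)
    rcases hprim.isTrivialBlock_of_isBlock hblock with hsub | huniv
    · left
      rw [Submodule.eq_bot_iff]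
      intro x hx
      exact hsub hx W.zero_mem
    · right
      rw [Submodule.eq_top_iff']
      intro x
      have : x ∈ (W : Set V) := by rw [huniv]; trivial
      exact this
  · intro hirr
    have hpre : MulAction.IsPretransitive G V := by
      refine ⟨fun x y => ⟨⟨Equiv.addRight (y - x), htrans_mem _⟩, ?_⟩⟩
      rw [hsmul]
      simp
    apply MulAction.IsPreprimitive.of_isTrivialBlock_base (0 : V)
    intro B h0 hB
    have hadd : ∀ x ∈ B, ∀ y ∈ B, x + y ∈ B := by
      intro x hx y hy
      have hτ : (⟨Equiv.addRight y, htrans_mem y⟩ : G) • B = B := by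
        apply hB.smul_eq_of_mem h0
        rw [hsmul]
        simpa using hy
      rw [← hτ]
      refine ⟨x, hx, ?_⟩
      change (⟨Equiv.addRight y, htrans_mem y⟩ : G) • x = x + y
      rw [hsmul]
      simp
    have hnsmul : ∀ (n : ℕ), ∀ x ∈ B, n • x ∈ B := by
      intro n x hx
      induction n with
      | zero => simpa using h0
      | succ n ih =>
        rw [succ_nsmul]
        exact hadd _ ih _ hx
    let W : Submodule (ZMod p) V :=
      { carrier := B
        add_mem' := fun {x y} hx hy => hadd x hx y hy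
        zero_mem' := h0
        smul_mem' := by
          intro c x hx
          have : c • x = c.val • x := by
            rw [← Nat.cast_smul_eq_nsmul (ZMod p), ZMod.natCast_zmod_val]
          change c • x ∈ B
          rw [this]
          exact hnsmul _ x hx }
    have hWB : (W : Set V) = B := rfl
    have hWinv : ∀ g ∈ G₀, ∀ v ∈ W, (g : V ≃ₗ[ZMod p] V) v ∈ W := by
      intro g hg v hv
      have hσ : (⟨(g : V ≃ₗ[ZMod p] V).toEquiv, hlin_mem g hg⟩ : G) • B = B := by
        apply hB.smul_eq_of_mem h0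
        rw [hsmul]
        simpa using h0
      change g v ∈ B
      rw [← hσ]
      exact ⟨v, hv, rfl⟩
    rcases hirr W hWinv with hbot | htop
    · left
      intro x hx y hy
      have hx' : x ∈ W := hx
      have hy' : y ∈ W := hy
      rw [hbot, Submodule.mem_bot] at hx' hy'
      rw [hx', hy']
    · right
      rw [← hWB, htop]
      rfl

end Aux

/-- A permutation group of affine type — generated by the translations of a finite vector space `V` over `ZMod p` together with a group `G₀` of linear automorphisms — is primitive on `V` if and only if `G₀` is irreducible on `V`. -/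
theorem result {p : ℕ} [Fact p.Prime] {V : Type*} [AddCommGroup V] [Module (ZMod p) V] [Finite V] [Nontrivial V] (G₀ : Subgroup (V ≃ₗ[ZMod p] V)) (G : Subgroup (Equiv.Perm V)) (hG : ∀ σ : Equiv.Perm V, σ ∈ G ↔ ∃ g ∈ G₀, ∃ b : V, ∀ x : V, σ x = (g : V ≃ₗ[ZMod p] V) x + b) : MulAction.IsPreprimitive G V ↔ ∀ W : Submodule (ZMod p) V, (∀ g ∈ G₀, ∀ v ∈ W, (g : V ≃ₗ[ZMod p] V) v ∈ W) → W = ⊥ ∨ W = ⊤ :=
  affine_aux G₀ G hG

end Cfsg.Agent.S0733
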