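import Cfsg.Statements.S0734
import Mathlib

set_option autoImplicit false
open Cfsg

namespace Cfsg.Agent.S0734

section Aux
open scoped Pointwise

theorem higman_aux {G : Type*} [Group G] {Ω : Type*} [Finite Ω] [MulAction G Ω] [MulAction.IsPretransitive G Ω] [Nontrivial Ω] : MulAction.IsPreprimitive G Ω ↔ ∀ a b : Ω, a ≠ b → (SimpleGraph.fromRel fun x y : Ω => ∃ g : G, g • a = x ∧ g • b = y).Connected := by
  classical
  constructor
  · intro hprim a b hab
    set Γ : SimpleGraph Ω :=
      SimpleGraph.fromRel fun x y : Ω => ∃ g : G, g • a = x ∧ g • b = y with hΓ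
    have hadj : ∀ (h : G) (x y : Ω), Γ.Adj x y → Γ.Adj (h • x) (h • y) := by
      intro h x y hxy
      rw [hΓ, SimpleGraph.fromRel_adj] at hxy ⊢
      obtain ⟨hne, hr⟩ := hxy
      refine ⟨fun hh => hne (smul_left_cancel h hh), ?_⟩
      rcases hr with ⟨g, h1, h2⟩ | ⟨g, h1, h2⟩
      · left
        exact ⟨h * g, by rw [mul_smul, h1], by rw [mul_smul, h2]⟩
      · right
        exact ⟨h * g, by rw [mul_smul, h1], by rw [mul_smul, h2]⟩
    have hreach : ∀ (h : G) (x y : Ω), Γ.Reachable x y → Γ.Reachable (h • x) (h • y) := by
      intro h x y hxy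
      rw [SimpleGraph.reachable_iff_reflTransGen] at hxy ⊢
      induction hxy with
      | refl => exact Relation.ReflTransGen.refl
      | tail _ hbc ih => exact Relation.ReflTransGen.tail ih (hadj h _ _ hbc)
    set B : Set Ω := {x | Γ.Reachable a x} with hB
    have hsmulB : ∀ g : G, g • B = {x | Γ.Reachable (g • a) x} := by
      intro g
      ext x
      rw [Set.mem_smul_set_iff_inv_smul_mem, hB, Set.mem_ofPred_eq, Set.mem_ofPred_eq]
      constructor
      · intro h
        have := hreach g _ _ h
        rwa [smul_inv_smul] at this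
      · intro h
        have := hreach g⁻¹ _ _ h
        rwa [inv_smul_smul] at this
    have hblock : MulAction.IsBlock G B := by
      rw [MulAction.isBlock_iff_smul_eq_of_mem]
      intro g y hy hgy
      rw [hsmulB g]
      have h1 : Γ.Reachable (g • a) (g • y) := hreach g _ _ hy
      have h2 : Γ.Reachable a (g • a) := hgy.trans h1.symm
      ext x
      simp only [hB, Set.mem_ofPred_eq]
      exact ⟨fun h => h2.trans h, fun h => h2.symm.trans h⟩
    have hab' : Γ.Adj a b := by
      rw [hΓ, SimpleGraph.fromRel_adj]
      exact ⟨hab, Or.inl ⟨1, one_smul _ _, one_smul _ _⟩⟩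
    rcases hprim.isTrivialBlock_of_isBlock hblock with hsub | huniv
    · exfalso
      apply hab
      exact hsub (SimpleGraph.Reachable.refl a) hab'.reachable
    · have hall : ∀ x, Γ.Reachable a x := by
        intro x
        have : x ∈ B := by rw [huniv]; trivial
        exact this
      have : Nonempty Ω := ⟨a⟩
      exact ⟨fun x y => (hall x).symm.trans (hall y)⟩
  · intro hconn
    refine ⟨?_⟩
    intro B hBlock
    by_cases hsub : B.Subsingleton
    · exact Or.inl hsub
    right
    rw [Set.not_subsingleton_iff] at hsub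
    obtain ⟨a, ha, b, hb, hab⟩ := hsub
    have hc := hconn a b hab
    set Γ : SimpleGraph Ω :=
      SimpleGraph.fromRel fun x y : Ω => ∃ g : G, g • a = x ∧ g • b = y with hΓ
    have hstep : ∀ u v : Ω, Γ.Adj u v → u ∈ B → v ∈ B := by
      intro u v huv hu
      rw [hΓ, SimpleGraph.fromRel_adj] at huv
      obtain ⟨_, hr⟩ := huv
      rcases hr with ⟨g, h1, h2⟩ | ⟨g, h1, h2⟩
      · have hgB : g • B = B := hBlock.smul_eq_of_mem ha (by rw [h1]; exact hu)
        rw [← hgB, ← h2]
        exact Set.smul_mem_smul_set hb
      · have hgB : g • B = B := hBlock.smul_eq_of_mem hb (by rw [h2]; exact hu)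
        rw [← hgB, ← h1]
        exact Set.smul_mem_smul_set ha
    apply Set.eq_univ_of_forall
    intro x
    have hr : Γ.Reachable a x := hc.preconnected a x
    rw [SimpleGraph.reachable_iff_reflTransGen] at hr
    induction hr with
    | refl => exact ha
    | tail _ hbc ih => exact hstep _ _ hbc ih

end Aux

/-- Higman's criterion for primitivity: a transitive action on a finite set is primitive if and only if every non-trivial orbital graph (edges = images of a fixed pair of distinct points) is connected. -/
theorem result {G : Type*} [Group G] {Ω : Type*} [Finite Ω] [MulAction G Ω] [MulAction.IsPretransitive G Ω] [Nontrivial Ω] : MulAction.IsPreprimitive G Ω ↔ ∀ a b : Ω, a ≠ b → (SimpleGraph.fromRel fun x y : Ω => ∃ g : G, g • a = x ∧ g • b = y).Connected :=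
  higman_aux

end Cfsg.Agent.S0734
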