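import Mathlib
import Cfsg.Statements.S0735
-- import your own Cfsg.Agent.* helpers here

set_option autoImplicit false
set_option linter.style.haveILetI false
open Cfsg

namespace Cfsg.Agent.S0735

/-- A 2-homogeneous permutation group (transitive on 2-subsets) of even order is doubly transitive; a non-trivial 2-homogeneous group is primitive. -/
theorem result {α : Type*} [Fintype α] [DecidableEq α] (G : Subgroup (Equiv.Perm α)) (h2 : MulAction.IsPretransitive G (Set.powersetCard α 2)) (hα : 3 ≤ Fintype.card α) : (Even (Nat.card G) → MulAction.IsMultiplyPretransitive G α 2) ∧ (G ≠ ⊥ → MulAction.IsPreprimitive G α) := by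
  classical
  -- key: pairs can be mapped to pairs
  have key : ∀ a b c d : α, a ≠ b → c ≠ d →
      ∃ g : G, (g • a = c ∧ g • b = d) ∨ (g • a = d ∧ g • b = c) := by
    intro a b c d hab hcd
    let s : Set.powersetCard α 2 := ⟨{a, b}, Finset.card_pair hab⟩
    let t : Set.powersetCard α 2 := ⟨{c, d}, Finset.card_pair hcd⟩
    obtain ⟨g, hg⟩ := h2.exists_smul_eq s t
    refine ⟨g, ?_⟩
    have h1 : ((g • s : Set.powersetCard α 2) : Finset α) = (t : Finset α) := congrArg _ hg
    open scoped Pointwise in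
    have h3 : g • ({a, b} : Finset α) = {c, d} := by
      rw [← Set.powersetCard.coe_smul (s := s)]
      exact h1
    open scoped Pointwise in
    have ha : g • a ∈ ({c, d} : Finset α) := by
      rw [← h3]; exact Finset.smul_mem_smul_finset (Finset.mem_insert_self _ _)
    open scoped Pointwise in
    have hb : g • b ∈ ({c, d} : Finset α) := by
      rw [← h3]
      exact Finset.smul_mem_smul_finset (Finset.mem_insert_of_mem (Finset.mem_singleton_self _))
    rw [Finset.mem_insert, Finset.mem_singleton] at ha hb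
    have hne : g • a ≠ g • b := fun e => hab (smul_left_cancel g e)
    rcases ha with ha | ha <;> rcases hb with hb | hb
    · exact absurd (ha.trans hb.symm) hne
    · exact Or.inl ⟨ha, hb⟩
    · exact Or.inr ⟨ha, hb⟩
    · exact absurd (ha.trans hb.symm) hne
  have hthird : ∀ x y : α, ∃ z : α, z ≠ x ∧ z ≠ y := by
    intro x y
    by_contra hcon
    push Not at hcon
    have : (Finset.univ : Finset α) ⊆ {x, y} := by
      intro z _
      rw [Finset.mem_insert, Finset.mem_singleton]
      by_cases hzx : z = x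
      · exact Or.inl hzx
      · exact Or.inr (hcon z hzx)
    have h1 := Finset.card_le_card this
    have h2 : ({x, y} : Finset α).card ≤ 2 := Finset.card_le_two
    rw [Finset.card_univ] at h1
    omega
  constructor
  · intro heven
    haveI : Fact (Nat.Prime 2) := ⟨Nat.prime_two⟩
    obtain ⟨t, ht⟩ := exists_prime_orderOf_dvd_card' (G := G) 2 heven.two_dvd
    have ht1 : t ≠ 1 := by
      intro e; rw [e, orderOf_one] at ht; omega
    have ht2 : t * t = 1 := by
      have := pow_orderOf_eq_one t
      rwa [ht, pow_two] at this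
    obtain ⟨a, ha⟩ : ∃ a : α, t • a ≠ a := by
      by_contra hcon
      push Not at hcon
      apply ht1
      apply Subtype.ext
      ext x
      exact hcon x
    have htb : t • (t • a) = a := by rw [← mul_smul, ht2, one_smul]
    rw [MulAction.is_two_pretransitive_iff]
    intro x y c d hxy hcd
    obtain ⟨g1, hg1⟩ := key x y a (t • a) hxy (Ne.symm ha)
    obtain ⟨g2, hg2⟩ := key a (t • a) c d (Ne.symm ha) hcd
    -- first normalise g1 so that g1 x = a, g1 y = t a
    obtain ⟨k1, hk1a, hk1b⟩ : ∃ k : G, k • x = a ∧ k • y = t • a := by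
      rcases hg1 with ⟨h1, h2⟩ | ⟨h1, h2⟩
      · exact ⟨g1, h1, h2⟩
      · exact ⟨t * g1, by rw [mul_smul, h1, htb], by rw [mul_smul, h2]⟩
    obtain ⟨k2, hk2a, hk2b⟩ : ∃ k : G, k • a = c ∧ k • (t • a) = d := by
      rcases hg2 with ⟨h1, h2⟩ | ⟨h1, h2⟩
      · exact ⟨g2, h1, h2⟩
      · exact ⟨g2 * t, by rw [mul_smul, h2], by rw [mul_smul, htb, h1]⟩
    exact ⟨k2 * k1, by rw [mul_smul, hk1a, hk2a], by rw [mul_smul, hk1b, hk2b]⟩
  · intro _
    have htrans : MulAction.IsPretransitive G α := by
      refine ⟨fun x y => ?_⟩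
      by_cases hxy : x = y
      · exact ⟨1, by rw [one_smul, hxy]⟩
      obtain ⟨z, hzx, hzy⟩ := hthird x y
      obtain ⟨g1, hg1⟩ := key x y x z hxy (Ne.symm hzx)
      obtain ⟨g2, hg2⟩ := key x y y z hxy (Ne.symm hzy)
      rcases hg2 with ⟨h1, _⟩ | ⟨h1, h2⟩
      · exact ⟨g2, h1⟩
      · rcases hg1 with ⟨_, h4⟩ | ⟨_, h4⟩
        · -- g1 y = z, g2 x = z, so x = g2⁻¹ g1 y
          refine ⟨g1⁻¹ * g2, ?_⟩
          rw [mul_smul, h1, ← h4, inv_smul_smul]
        · -- g1 y = x
          exact ⟨g1⁻¹, by rw [← h4, inv_smul_smul]⟩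
    refine @MulAction.IsPreprimitive.mk G α _ htrans ?_
    intro B hB
    by_contra hcon
    unfold MulAction.IsTrivialBlock at hcon
    push Not at hcon
    obtain ⟨hns, hnu⟩ := hcon
    obtain ⟨a, ha, b, hb, hab⟩ := hns
    obtain ⟨c, hc⟩ : ∃ c, c ∉ B := by
      by_contra hcon
      push Not at hcon
      exact hnu (Set.eq_univ_of_forall hcon)
    have hac : a ≠ c := fun e => hc (e ▸ ha)
    obtain ⟨g, hg⟩ := key a b a c hab hac
    rcases hg with ⟨h1, h2⟩ | ⟨h1, h2⟩
    · have := hB.smul_eq_of_mem ha (h1.symm ▸ ha)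
      apply hc
      rw [← this, ← h2]
      exact Set.smul_mem_smul_set hb
    · have := hB.smul_eq_of_mem hb (h2.symm ▸ ha)
      apply hc
      rw [← this, ← h1]
      exact Set.smul_mem_smul_set ha

end Cfsg.Agent.S0735
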