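import Mathlib
import Cfsg.Statements.S0751
import Cfsg.Agent.Helper28.HermWitt

set_option autoImplicit false
open Cfsg

namespace Cfsg.Agent.S0751

open Cfsg.Agent.Helper28.HW

/-- Witt's Lemma for Hermitian forms. Let σ be a non-identity involutive automorphism of a finite field F and B a non-degenerate σ-sesquilinear form on a finite-dimensional F-space V which is conjugate-symmetric (σ (B x y) = B y x). Then every linear equivalence between subspaces X, Y of V preserving B extends to a B-preserving linear automorphism of V. -/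
theorem result {F V : Type*} [Field F] [Finite F] [AddCommGroup V] [Module F V] [FiniteDimensional F V] (σ : F →+* F) (hσ : σ ≠ RingHom.id F) (hσ2 : ∀ a : F, σ (σ a) = a) (B : V →ₛₗ[σ] V →ₗ[F] F) (hS : B.IsSymm) (hB : B.Nondegenerate) (X Y : Submodule F V) (φ : X ≃ₗ[F] Y) (hφ : ∀ x x' : X, B (φ x : V) (φ x' : V) = B (x : V) (x' : V)) : ∃ g : V ≃ₗ[F] V, (∀ u v : V, B (g u) (g v) = B u v) ∧ ∀ x : X, g (x : V) = (φ x : V) := by
  obtain ⟨g₀, hg₀⟩ := LinearMap.exists_extend (Y.subtype ∘ₗ φ.toLinearMap)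
  have hg₀' : ∀ x : X, g₀ (x : V) = (φ x : V) := by
    intro x
    have := LinearMap.congr_fun hg₀ x
    simpa using this
  have hiso : ∀ x ∈ X, ∀ x' ∈ X, B (g₀ x) (g₀ x') = B x x' := by
    intro x hx x' hx'
    have := hφ ⟨x, hx⟩ ⟨x', hx'⟩
    rw [hg₀' ⟨x, hx⟩, hg₀' ⟨x', hx'⟩]
    exact this
  have hinj₀ : ∀ x ∈ X, g₀ x = 0 → x = 0 := by
    intro x hx h0
    have h1 := hg₀' ⟨x, hx⟩
    simp only at h1
    rw [h0] at h1
    have h2 : φ ⟨x, hx⟩ = 0 := by
      ext
      exact h1.symm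
    have h3 : (⟨x, hx⟩ : X) = 0 := by
      simpa using h2
    simpa using congrArg Subtype.val h3
  obtain ⟨g', hg'1, hg'2⟩ := exists_isometry_ext hσ hσ2 hS hB _ X g₀ le_rfl hiso hinj₀
  have hinj : Function.Injective g' := by
    rw [← LinearMap.ker_eq_bot, LinearMap.ker_eq_bot']
    intro u hu
    apply hB.1
    intro w
    rw [← hg'2 u w, hu]
    simp
  refine ⟨LinearEquiv.ofInjectiveEndo g' hinj, ?_, ?_⟩
  · intro u v
    simp only [LinearEquiv.coe_ofInjectiveEndo]
    exact hg'2 u v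
  · intro x
    simp only [LinearEquiv.coe_ofInjectiveEndo]
    rw [hg'1 x x.2, hg₀']

end Cfsg.Agent.S0751
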