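import Mathlib
import Cfsg.Statements.S0757

set_option autoImplicit false
open Cfsg

namespace Cfsg.Agent.S0757

open Matrix

theorem polar_wss {F : Type*} [Field F] {k : ℕ} (w : Fin k → F) (x y : Fin k → F) :
    QuadraticMap.polar (QuadraticMap.weightedSumSquares F w) x y = 2 * ∑ i, w i * x i * y i := by
  simp only [QuadraticMap.polar, QuadraticMap.weightedSumSquares_apply, Pi.add_apply, smul_eq_mul]
  rw [← Finset.sum_sub_distrib, ← Finset.sum_sub_distrib, Finset.mul_sum]
  apply Finset.sum_congr rfl
  intro i _
  ring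

theorem gram_wss {F : Type*} [Field F] {k : ℕ} (w : Fin k → F) :
    LinearMap.BilinForm.toMatrix' (QuadraticMap.polarBilin (QuadraticMap.weightedSumSquares F w)) =
      Matrix.diagonal (fun i => 2 * w i) := by
  ext i j
  rw [LinearMap.BilinForm.toMatrix'_apply, QuadraticMap.polarBilin_apply_apply, polar_wss]
  by_cases h : i = j
  · subst h
    simp [Matrix.diagonal_apply_eq, Pi.single_apply]
  · rw [Matrix.diagonal_apply_ne _ h]
    have : ∑ x, w x * (Pi.single i (1 : F) : Fin k → F) x * (Pi.single j (1 : F) : Fin k → F) x = 0 := by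
      apply Finset.sum_eq_zero
      intro x _
      by_cases hx : x = i
      · subst hx
        simp [Pi.single_apply, h]
      · simp [Pi.single_apply, hx]
    rw [this, mul_zero]

/-- The two diagonal forms Σ x_i^2 and Σ_(i<n) x_i^2 + α x_n^2 on F^(n+1), with α a non-square and 2 ≠ 0 in F, are inequivalent quadratic forms (so over a finite field of odd order there are exactly two classes of non-singular symmetric bilinear forms in each dimension). -/
theorem result {F : Type*} [Field F] (h2 : (2 : F) ≠ 0) (n : ℕ) (α : F) (hα : ¬ IsSquare α) : ¬ (QuadraticMap.weightedSumSquares F (fun _ : Fin (n + 1) => (1 : F))).Equivalent (QuadraticMap.weightedSumSquares F (fun i : Fin (n + 1) => if i = Fin.last n then α else (1 : F))) := by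
  rintro ⟨e⟩
  set Q₁ := QuadraticMap.weightedSumSquares F (fun _ : Fin (n + 1) => (1 : F)) with hQ₁
  set w₂ : Fin (n + 1) → F := fun i => if i = Fin.last n then α else (1 : F) with hw₂
  set Q₂ := QuadraticMap.weightedSumSquares F w₂ with hQ₂
  set B₁ : LinearMap.BilinForm F (Fin (n + 1) → F) := QuadraticMap.polarBilin Q₁ with hB₁
  set B₂ : LinearMap.BilinForm F (Fin (n + 1) → F) := QuadraticMap.polarBilin Q₂ with hB₂
  set f : (Fin (n + 1) → F) →ₗ[F] (Fin (n + 1) → F) := e.toLinearEquiv.toLinearMap with hf
  have hmap : ∀ x, Q₂ (f x) = Q₁ x := fun x => e.map_app x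
  have hcomp : LinearMap.BilinForm.comp B₂ f f = B₁ := by
    apply LinearMap.ext
    intro x
    apply LinearMap.ext
    intro y
    rw [LinearMap.BilinForm.comp_apply]
    simp only [hB₁, hB₂, QuadraticMap.polarBilin_apply_apply, QuadraticMap.polar, ← map_add, hmap]
  have hM := congrArg LinearMap.BilinForm.toMatrix' hcomp
  rw [LinearMap.BilinForm.toMatrix'_comp, hB₁, hB₂, hQ₁, hQ₂, gram_wss, gram_wss] at hM
  have hdet := congrArg Matrix.det hM
  rw [Matrix.det_mul, Matrix.det_mul, Matrix.det_transpose, Matrix.det_diagonal, Matrix.det_diagonal,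
    Finset.prod_mul_distrib, Finset.prod_mul_distrib] at hdet
  simp only [Finset.prod_const, Finset.prod_const_one, mul_one, Finset.card_univ, Fintype.card_fin] at hdet
  have hprod : ∏ i, w₂ i = α := by
    rw [hw₂, Finset.prod_ite_eq' Finset.univ (Fin.last n) (fun _ => α)]
    simp
  rw [hprod] at hdet
  have h2n : (2 : F) ^ (n + 1) ≠ 0 := pow_ne_zero _ h2
  set d := (LinearMap.toMatrix' f).det with hd
  have hkey : d * d * α = 1 := by
    have : (2 : F) ^ (n + 1) * (d * d * α - 1) = 0 := by linear_combination hdet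
    rcases mul_eq_zero.mp this with h | h
    · exact absurd h h2n
    · exact sub_eq_zero.mp h
  have hd0 : d ≠ 0 := by
    rintro h
    rw [h] at hkey
    simp at hkey
  apply hα
  refine ⟨d⁻¹, ?_⟩
  field_simp
  linear_combination hkey

end Cfsg.Agent.S0757
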