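import Mathlib
import Cfsg.Statements.S0759

set_option autoImplicit false
open Cfsg

namespace Cfsg.Agent.S0759

open Matrix Module

theorem det_zero_block {m : ℕ} {F : Type*} [Field F] (A A' C : Matrix (Fin m) (Fin m) F) :
    (fromBlocks 0 A A' C).det = (-1) ^ m * A.det * A'.det := by
  have hK : (fromBlocks (1 : Matrix (Fin m) (Fin m) F) (-1 : Matrix (Fin m) (Fin m) F)
      (1 : Matrix (Fin m) (Fin m) F) (0 : Matrix (Fin m) (Fin m) F)).det = 1 := by
    rw [det_fromBlocks_one₁₁]; simp
  have hmul : fromBlocks 0 A A' C * fromBlocks (1 : Matrix (Fin m) (Fin m) F)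
      (-1 : Matrix (Fin m) (Fin m) F) (1 : Matrix (Fin m) (Fin m) F) (0 : Matrix (Fin m) (Fin m) F)
      = fromBlocks A 0 (A' + C) (-A') := by
    rw [fromBlocks_multiply]; simp
  have := congrArg det hmul
  rw [det_mul, hK, mul_one, det_fromBlocks_zero₁₂, det_neg, Fintype.card_fin] at this
  rw [this]; ring

/-- the index equivalence -/
def EE (m : ℕ) : Fin m ⊕ Fin m ≃ Fin (2 * m) := finSumFinEquiv.trans (finCongr (two_mul m).symm)

theorem neg_one_pow_isSquare {F : Type*} [Field F] (h2 : (2 : F) ≠ 0) (m : ℕ)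
    (W : Submodule F (Fin (2 * m) → F)) (hW : finrank F W = m)
    (hQ : ∀ w ∈ W, ∑ i, w i ^ 2 = 0) : IsSquare ((-1 : F) ^ m) := by
  classical
  set D : LinearMap.BilinForm F (Fin (2 * m) → F) := Matrix.toBilin' 1 with hD
  have hDa : ∀ x y, D x y = x ⬝ᵥ y := by
    intro x y
    rw [hD, Matrix.toBilin'_apply', Matrix.one_mulVec]
  have hDQ : ∀ x, D x x = ∑ i, x i ^ 2 := by
    intro x
    rw [hDa, dotProduct]
    apply Finset.sum_congr rfl
    intro i _
    ring
  have hD0 : ∀ w ∈ W, ∀ w' ∈ W, D w w' = 0 := by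
    intro w hw w' hw'
    have e1 := hDQ (w + w')
    rw [hQ _ (W.add_mem hw hw')] at e1
    simp only [map_add, LinearMap.add_apply] at e1
    rw [hDQ w, hDQ w', hQ w hw, hQ w' hw'] at e1
    have e2 : D w' w = D w w' := by rw [hDa, hDa, dotProduct_comm]
    rw [e2] at e1
    have : (2 : F) * D w w' = 0 := by linear_combination e1
    rcases mul_eq_zero.mp this with h | h
    · exact absurd h h2
    · exact h
  obtain ⟨W', hc⟩ := Submodule.exists_isCompl W
  have hW' : finrank F W' = m := by
    have := Submodule.finrank_add_eq_of_isCompl hc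
    rw [hW, Module.finrank_fin_fun] at this
    omega
  set bW := Module.finBasisOfFinrankEq F W hW with hbW
  set bW' := Module.finBasisOfFinrankEq F W' hW' with hbW'
  set b : Basis (Fin m ⊕ Fin m) F (Fin (2 * m) → F) :=
    (bW.prod bW').map (W.prodEquivOfIsCompl W' hc) with hb
  have hbl : ∀ i, b (Sum.inl i) = (bW i : Fin (2 * m) → F) := by
    intro i
    rw [hb, Basis.map_apply, Submodule.coe_prodEquivOfIsCompl', Basis.prod_apply_inl_fst,
      Basis.prod_apply_inl_snd]
    simp
  set b₀ : Basis (Fin m ⊕ Fin m) F (Fin (2 * m) → F) :=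
    (Pi.basisFun F (Fin (2 * m))).reindex (EE m).symm with hb₀
  have hb₀a : ∀ s, b₀ s = Pi.single (EE m s) 1 := by
    intro s
    rw [hb₀, Basis.reindex_apply]
    simp
  have hG₀ : LinearMap.BilinForm.toMatrix b₀ D = 1 := by
    ext s s'
    rw [LinearMap.BilinForm.toMatrix_apply, hb₀a, hb₀a, hDa, Matrix.one_apply]
    simp [Pi.single_apply, eq_comm]
  set G := LinearMap.BilinForm.toMatrix b D with hG
  have hG11 : G.toBlocks₁₁ = 0 := by
    ext i j
    simp only [toBlocks₁₁, Matrix.of_apply, Matrix.zero_apply]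
    rw [hG, LinearMap.BilinForm.toMatrix_apply, hbl, hbl]
    exact hD0 _ (bW i).2 _ (bW j).2
  have hG21 : G.toBlocks₂₁ = G.toBlocks₁₂ᵀ := by
    ext i j
    simp only [toBlocks₂₁, toBlocks₁₂, Matrix.of_apply, Matrix.transpose_apply]
    rw [hG, LinearMap.BilinForm.toMatrix_apply, LinearMap.BilinForm.toMatrix_apply, hDa, hDa,
      dotProduct_comm]
  have hGdet : G.det = (-1) ^ m * G.toBlocks₁₂.det * G.toBlocks₁₂.det := by
    conv_lhs => rw [← fromBlocks_toBlocks G, hG11, hG21]
    rw [det_zero_block, det_transpose]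
  have hdet := congrArg Matrix.det (LinearMap.BilinForm.toMatrix_mul_basis_toMatrix b₀ b D)
  rw [hG₀, Matrix.mul_one, Matrix.det_mul, Matrix.det_transpose, ← hG, hGdet] at hdet
  set P := (b₀.toMatrix ⇑b).det with hP
  set a := G.toBlocks₁₂.det with ha
  have hP0 : P ≠ 0 := by
    have := congrArg Matrix.det (Basis.toMatrix_mul_toMatrix_flip b₀ b)
    rw [Matrix.det_mul, Matrix.det_one] at this
    intro h
    rw [← hP, h, zero_mul] at this
    exact zero_ne_one this
  have ha0 : a ≠ 0 := by
    intro h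
    rw [h] at hdet
    simp at hdet
    exact hP0 hdet
  refine ⟨P * a⁻¹, ?_⟩
  field_simp
  linear_combination -hdet

theorem exists_W {F : Type*} [Field F] (m : ℕ) (ψ : (Fin m → F) →ₗ[F] (Fin m → F))
    (hψ : ∀ c, ∑ j, (ψ c j) ^ 2 = - ∑ j, (c j) ^ 2) :
    ∃ W : Submodule F (Fin (2 * m) → F), finrank F W = m ∧ ∀ w ∈ W, ∑ i, w i ^ 2 = 0 := by
  set φ : (Fin m → F) →ₗ[F] (Fin (2 * m) → F) :=
    { toFun := fun c k => Sum.elim c (ψ c) ((EE m).symm k)
      map_add' := by
        intro c c'
        funext k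
        simp only [Pi.add_apply]
        generalize (EE m).symm k = s
        rcases s with j | j <;> simp
      map_smul' := by
        intro r c
        funext k
        simp only [Pi.smul_apply, RingHom.id_apply]
        generalize (EE m).symm k = s
        rcases s with j | j <;> simp } with hφ
  have hφa : ∀ c s, φ c (EE m s) = Sum.elim c (ψ c) s := by
    intro c s
    simp [hφ]
  have hinj : Function.Injective φ := by
    rw [← LinearMap.ker_eq_bot, LinearMap.ker_eq_bot']
    intro c hc
    funext j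
    have := congrFun hc (EE m (Sum.inl j))
    rw [hφa] at this
    simpa using this
  refine ⟨LinearMap.range φ, ?_, ?_⟩
  · rw [LinearMap.finrank_range_of_inj hinj, Module.finrank_fin_fun]
  · rintro _ ⟨c, rfl⟩
    rw [← Equiv.sum_comp (EE m), Fintype.sum_sum_type]
    simp only [hφa, Sum.elim_inl, Sum.elim_inr]
    rw [hψ]
    ring

theorem exists_psi {F : Type*} [Field F] [Fintype F] (h2 : (2 : F) ≠ 0) (m : ℕ)
    (h : ¬ (Fintype.card F % 4 = 3 ∧ Odd m)) :
    ∃ ψ : (Fin m → F) →ₗ[F] (Fin m → F), ∀ c, ∑ j, (ψ c j) ^ 2 = - ∑ j, (c j) ^ 2 := by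
  by_cases hq : Fintype.card F % 4 = 3
  · have hm : Even m := by
      rw [← Nat.not_odd_iff_even]
      intro hodd
      exact h ⟨hq, hodd⟩
    obtain ⟨t, rfl⟩ := hm
    -- a^2 + b^2 = -1
    have hchar : ringChar F ≠ 2 := by
      intro hc
      apply h2
      have := ringChar.Nat.cast_ringChar (R := F)
      rw [hc] at this
      exact_mod_cast this
    have hf : (Polynomial.C (1 : F) * Polynomial.X ^ 2 + Polynomial.C 0 * Polynomial.X + Polynomial.C 0 :
        Polynomial F).degree = 2 := Polynomial.degree_quadratic one_ne_zero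
    have hg : (Polynomial.C (1 : F) * Polynomial.X ^ 2 + Polynomial.C 0 * Polynomial.X + Polynomial.C 1 :
        Polynomial F).degree = 2 := Polynomial.degree_quadratic one_ne_zero
    obtain ⟨a, b, hab⟩ := FiniteField.exists_root_sum_quadratic hf hg
      (FiniteField.odd_card_of_char_ne_two hchar)
    simp only [Polynomial.eval_add, Polynomial.eval_mul, Polynomial.eval_C, Polynomial.eval_pow,
      Polynomial.eval_X] at hab
    set e : Fin t ⊕ Fin t ≃ Fin (t + t) := finSumFinEquiv with he
    set ψ : (Fin (t + t) → F) →ₗ[F] (Fin (t + t) → F) :=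
      { toFun := fun c k => Sum.elim (fun j => a * c (e (Sum.inl j)) - b * c (e (Sum.inr j)))
          (fun j => b * c (e (Sum.inl j)) + a * c (e (Sum.inr j))) (e.symm k)
        map_add' := by
          intro c c'
          funext k
          simp only [Pi.add_apply]
          generalize e.symm k = s
          rcases s with j | j <;> simp <;> ring
        map_smul' := by
          intro r c
          funext k
          simp only [Pi.smul_apply, RingHom.id_apply]
          generalize e.symm k = s
          rcases s with j | j <;> simp <;> ring } with hψ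
    have hψa : ∀ c s, ψ c (e s) = Sum.elim (fun j => a * c (e (Sum.inl j)) - b * c (e (Sum.inr j)))
          (fun j => b * c (e (Sum.inl j)) + a * c (e (Sum.inr j))) s := by
      intro c s
      simp [hψ]
    refine ⟨ψ, ?_⟩
    intro c
    rw [← Equiv.sum_comp e, Fintype.sum_sum_type, ← Equiv.sum_comp e (fun j => c j ^ 2),
      Fintype.sum_sum_type]
    simp only [hψa, Sum.elim_inl, Sum.elim_inr]
    rw [← Finset.sum_add_distrib, ← Finset.sum_add_distrib, ← Finset.sum_neg_distrib]
    apply Finset.sum_congr rfl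
    intro j _
    linear_combination (c (e (Sum.inl j)) ^ 2 + c (e (Sum.inr j)) ^ 2) * hab
  · obtain ⟨i, hi⟩ := FiniteField.isSquare_neg_one_iff.mpr hq
    refine ⟨i • LinearMap.id, ?_⟩
    intro c
    simp only [LinearMap.smul_apply, LinearMap.id_apply, Pi.smul_apply, smul_eq_mul]
    rw [← Finset.sum_neg_distrib]
    apply Finset.sum_congr rfl
    intro j _
    linear_combination (-(c j) ^ 2) * hi

/-- Type of the orthonormal form: over a finite field of odd order q and for m ≥ 1, the quadratic form Σ_(i<2m) x_i² on F^(2m) admits an m-dimensional subspace on which it vanishes identically if and only if it is not the case that q ≡ 3 (mod 4) and m is odd. -/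
theorem result {F : Type*} [Field F] [Fintype F] (h2 : (2 : F) ≠ 0) (m : ℕ) (hm : 1 ≤ m) : (∃ W : Submodule F (Fin (2 * m) → F), Module.finrank F W = m ∧ ∀ w ∈ W, ∑ i, w i ^ 2 = 0) ↔ ¬ (Fintype.card F % 4 = 3 ∧ Odd m) := by
  constructor
  · rintro ⟨W, hW, hQ⟩ ⟨hq, hodd⟩
    have hsq := neg_one_pow_isSquare h2 m W hW hQ
    rw [hodd.neg_one_pow] at hsq
    exact (FiniteField.isSquare_neg_one_iff.mp hsq) hq
  · intro h
    obtain ⟨ψ, hψ⟩ := exists_psi h2 m h
    exact exists_W m ψ hψ

end Cfsg.Agent.S0759
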