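import Mathlib
import Cfsg.Statements.S0763

set_option autoImplicit false
open Cfsg

namespace Cfsg.Agent.S0763

theorem li_pair {F V : Type*} [Field F] [CharP F 2] [AddCommGroup V] [Module F V]
    (Q : QuadraticForm F V) (v w : V) (h : QuadraticMap.polar Q v w = 1) :
    LinearIndependent F ![v, w] := by
  rw [LinearIndependent.pair_iff]
  intro s t hst
  have h2 : (2 : F) = 0 := CharTwo.two_eq_zero
  have hvv : QuadraticMap.polar Q v v = 0 := by
    rw [QuadraticMap.polar_self, two_smul]; exact CharTwo.add_self_eq_zero _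
  have hww : QuadraticMap.polar Q w w = 0 := by
    rw [QuadraticMap.polar_self, two_smul]; exact CharTwo.add_self_eq_zero _
  have h1 : QuadraticMap.polar Q v (s • v + t • w) = 0 := by
    rw [hst]; simp
  have h3 : QuadraticMap.polar Q (s • v + t • w) w = 0 := by
    rw [hst]; simp
  rw [QuadraticMap.polar_add_right, QuadraticMap.polar_smul_right, QuadraticMap.polar_smul_right,
    hvv, h] at h1
  rw [QuadraticMap.polar_add_left, QuadraticMap.polar_smul_left, QuadraticMap.polar_smul_left,
    hww, h] at h3
  constructor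
  · simpa using h3
  · simpa using h1

/-- Binary quadratic forms in characteristic two over a finite field: if Q is a quadratic form on a 2-dimensional space whose polar form is non-degenerate, then either there are vectors v, w with Q v = Q w = 0 and polar value 1 (Q is xy in these coordinates), or there are v, w and μ with Q v = 1, Q w = μ, polar value 1 and x² + x + μ without roots in F (Q is x² + xy + μy²). -/
theorem result {F V : Type*} [Field F] [Finite F] [CharP F 2] [AddCommGroup V] [Module F V] (Q : QuadraticForm F V) (h2 : Module.finrank F V = 2) (hQ : (QuadraticMap.polarBilin Q).Nondegenerate) : (∃ v w : V, LinearIndependent F ![v, w] ∧ Q v = 0 ∧ Q w = 0 ∧ QuadraticMap.polar Q v w = 1) ∨ (∃ (v w : V) (μ : F), LinearIndependent F ![v, w] ∧ (∀ x : F, x ^ 2 + x + μ ≠ 0) ∧ Q v = 1 ∧ Q w = μ ∧ QuadraticMap.polar Q v w = 1) := by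
  have htwo : (2 : F) = 0 := CharTwo.two_eq_zero
  have hsep : ∀ x : V, x ≠ 0 → ∃ y, QuadraticMap.polar Q x y = 1 := by
    intro x hx
    have : ∃ y, QuadraticMap.polar Q x y ≠ 0 := by
      by_contra hcon
      push Not at hcon
      exact hx (hQ.1 x hcon)
    obtain ⟨y, hy⟩ := this
    refine ⟨(QuadraticMap.polar Q x y)⁻¹ • y, ?_⟩
    rw [QuadraticMap.polar_smul_right, smul_eq_mul, inv_mul_cancel₀ hy]
  have hself : ∀ x : V, QuadraticMap.polar Q x x = 0 := by
    intro x
    rw [QuadraticMap.polar_self, two_smul]; exact CharTwo.add_self_eq_zero _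
  by_cases hiso : ∃ v : V, v ≠ 0 ∧ Q v = 0
  · left
    obtain ⟨v, hv0, hQv⟩ := hiso
    obtain ⟨w₀, hw₀⟩ := hsep v hv0
    set c := Q w₀ with hc
    have hpol : QuadraticMap.polar Q v (w₀ + c • v) = 1 := by
      rw [QuadraticMap.polar_add_right, QuadraticMap.polar_smul_right, hself, hw₀]
      simp
    refine ⟨v, w₀ + c • v, li_pair Q _ _ hpol, hQv, ?_, hpol⟩
    rw [QuadraticMap.map_add Q, QuadraticMap.map_smul, hQv, QuadraticMap.polar_smul_right,
      QuadraticMap.polar_comm, hw₀, ← hc]
    simp only [smul_eq_mul, mul_zero, add_zero, mul_one]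
    have : c + c = 2 * c := by ring
    rw [this, htwo, zero_mul]
  · right
    push Not at hiso
    haveI : Module.Finite F V := Module.finite_of_finrank_pos (by omega)
    have hV : ∃ v₀ : V, v₀ ≠ 0 := by
      have : 0 < Module.finrank F V := by omega
      exact Module.finrank_pos_iff_exists_ne_zero.mp this
    obtain ⟨v₀, hv₀⟩ := hV
    have ha : Q v₀ ≠ 0 := hiso v₀ hv₀
    have hchar : ringChar F = 2 := ringChar.eq F 2
    haveI := Fintype.ofFinite F
    obtain ⟨s, hs⟩ := FiniteField.isSquare_of_char_two hchar (Q v₀)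
    have hs0 : s ≠ 0 := by
      rintro rfl
      apply ha
      rw [hs]; simp
    set v := s⁻¹ • v₀ with hv
    have hv0 : v ≠ 0 := smul_ne_zero (inv_ne_zero hs0) hv₀
    have hQv : Q v = 1 := by
      rw [hv, QuadraticMap.map_smul, hs, smul_eq_mul]
      field_simp
    obtain ⟨w, hw⟩ := hsep v hv0
    have hli := li_pair Q v w hw
    refine ⟨v, w, Q w, hli, ?_, hQv, rfl, hw⟩
    intro x hx
    have hne : x • v + w ≠ 0 := by
      intro h0
      rw [LinearIndependent.pair_iff] at hli
      have := (hli x 1 (by simpa using h0)).2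
      exact one_ne_zero this
    apply hiso _ hne
    rw [QuadraticMap.map_add Q, QuadraticMap.map_smul, hQv, QuadraticMap.polar_smul_left, hw]
    simp only [smul_eq_mul, mul_one]
    linear_combination hx

end Cfsg.Agent.S0763
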