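import Mathlib
import Cfsg.Statements.S0768
import Cfsg.Agent.Helper28.Symp
import Cfsg.Agent.Helper28.SympTrans

set_option autoImplicit false

namespace Cfsg.Agent.S0768

open Matrix Cfsg.Agent.Helper28
open scoped LinearAlgebra.Projectivization Pointwise

variable {F : Type*} [Field F] {m : ℕ}

/-- A symplectic matrix as an element of `spGL`. -/
def toG (A : Matrix.symplecticGroup (Fin m) F) : ↥(Cfsg.spGL m F) :=
  ⟨⟨A.1, (A⁻¹).1, congrArg Subtype.val (mul_inv_cancel A), congrArg Subtype.val (inv_mul_cancel A)⟩,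
    by
      intro u v
      exact (mem_symplecticGroup_iff_preserves A.1).mp A.2 u v⟩

theorem toG_smul (A : Matrix.symplecticGroup (Fin m) F) (v : Fin m ⊕ Fin m → F) :
    toG A • v = (A : Matrix (Fin m ⊕ Fin m) (Fin m ⊕ Fin m) F) *ᵥ v := rfl

theorem toG_smul_mk (A : Matrix.symplecticGroup (Fin m) F) (v : Fin m ⊕ Fin m → F) (hv : v ≠ 0)
    (w : Fin m ⊕ Fin m → F) (hw : w ≠ 0)
    (h : ∃ a : F, a • w = (A : Matrix (Fin m ⊕ Fin m) (Fin m ⊕ Fin m) F) *ᵥ v) :
    toG A • Projectivization.mk F v hv = Projectivization.mk F w hw := by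
  rw [Subgroup.smul_def, Projectivization.smul_mk, Projectivization.mk_eq_mk_iff]
  obtain ⟨a, ha⟩ := h
  have ha0 : a ≠ 0 := by
    rintro rfl
    rw [zero_smul] at ha
    have h1 : toG A • v = 0 := by rw [toG_smul, ← ha]
    exact hv ((smul_eq_zero_iff_eq (toG A)).mp h1)
  refine ⟨Units.mk0 a ha0, ?_⟩
  show a • w = (A : Matrix (Fin m ⊕ Fin m) (Fin m ⊕ Fin m) F) *ᵥ v
  exact ha

theorem exists_both_ne {u z : Fin m ⊕ Fin m → F} (hu : u ≠ 0) (hz : z ≠ 0) :
    ∃ y, Cfsg.sympForm m F u y ≠ 0 ∧ Cfsg.sympForm m F z y ≠ 0 := by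
  obtain ⟨w1, hw1⟩ := sympForm_exists_ne_zero hu
  obtain ⟨w2, hw2⟩ := sympForm_exists_ne_zero hz
  by_cases h1 : Cfsg.sympForm m F z w1 ≠ 0
  · exact ⟨w1, hw1, h1⟩
  · push Not at h1
    by_cases h2 : Cfsg.sympForm m F u w2 ≠ 0
    · exact ⟨w2, h2, hw2⟩
    · push Not at h2
      refine ⟨w1 + w2, ?_, ?_⟩
      · rw [sympForm_add_right, h2, add_zero]; exact hw1
      · rw [sympForm_add_right, h1, zero_add]; exact hw2

/-- K1: a block containing `⟨u⟩` and a point not perpendicular to `u` contains all points not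
perpendicular to `u`. -/
theorem block_nonperp {B : Set (ℙ F (Fin m ⊕ Fin m → F))}
    (hB : MulAction.IsBlock ↥(Cfsg.spGL m F) B) {u w z : Fin m ⊕ Fin m → F}
    (hu : u ≠ 0) (hw : w ≠ 0) (hz : z ≠ 0)
    (huB : Projectivization.mk F u hu ∈ B) (hwB : Projectivization.mk F w hw ∈ B)
    (huw : Cfsg.sympForm m F u w ≠ 0) (huz : Cfsg.sympForm m F u z ≠ 0) :
    Projectivization.mk F z hz ∈ B := by
  have h1 : Cfsg.sympForm m F u ((Cfsg.sympForm m F u w)⁻¹ • w) = 1 := by
    rw [sympForm_smul_right, inv_mul_cancel₀ huw]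
  have h2 : Cfsg.sympForm m F u ((Cfsg.sympForm m F u z)⁻¹ • z) = 1 := by
    rw [sympForm_smul_right, inv_mul_cancel₀ huz]
  obtain ⟨A, _, hAu, hAw⟩ := sympTrans_fix_move h1 h2
  have hgu : toG A • Projectivization.mk F u hu = Projectivization.mk F u hu :=
    toG_smul_mk A u hu u hu ⟨1, by rw [one_smul, hAu]⟩
  have hgB : toG A • B = B := hB.smul_eq_of_mem huB (by rw [hgu]; exact huB)
  have hgw : toG A • Projectivization.mk F w hw = Projectivization.mk F z hz := by
    apply toG_smul_mk
    refine ⟨Cfsg.sympForm m F u w * (Cfsg.sympForm m F u z)⁻¹, ?_⟩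
    rw [Matrix.mulVec_smul] at hAw
    have : (A : Matrix (Fin m ⊕ Fin m) (Fin m ⊕ Fin m) F) *ᵥ w =
        Cfsg.sympForm m F u w • ((Cfsg.sympForm m F u w)⁻¹ •
          ((A : Matrix (Fin m ⊕ Fin m) (Fin m ⊕ Fin m) F) *ᵥ w)) := by
      rw [smul_smul, mul_inv_cancel₀ huw, one_smul]
    rw [this, hAw, smul_smul]
  rw [← hgw, ← hgB]
  exact Set.smul_mem_smul_set hwB

/-- K2 -/
theorem block_univ_of_nonperp {B : Set (ℙ F (Fin m ⊕ Fin m → F))}
    (hB : MulAction.IsBlock ↥(Cfsg.spGL m F) B) {u w : Fin m ⊕ Fin m → F}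
    (hu : u ≠ 0) (hw : w ≠ 0)
    (huB : Projectivization.mk F u hu ∈ B) (hwB : Projectivization.mk F w hw ∈ B)
    (huw : Cfsg.sympForm m F u w ≠ 0) : B = Set.univ := by
  rw [Set.eq_univ_iff_forall]
  intro x
  induction x using Projectivization.ind with
  | h z hz =>
    obtain ⟨y, huy, hzy⟩ := exists_both_ne hu hz
    have hy : y ≠ 0 := by
      rintro rfl
      simp at huy
    have hyB : Projectivization.mk F y hy ∈ B := block_nonperp hB hu hw hy huB hwB huw huy
    have hyu : Cfsg.sympForm m F y u ≠ 0 := by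
      rw [sympForm_swap]
      exact neg_ne_zero.mpr huy
    have hyz : Cfsg.sympForm m F y z ≠ 0 := by
      rw [sympForm_swap]
      exact neg_ne_zero.mpr hzy
    exact block_nonperp hB hy hu hz hyB huB hyu hyz

/-- for independent `u`, `w` there is `y ⊥ w` with `y` not perpendicular to `u` -/
theorem exists_perp_nonperp {u w : Fin m ⊕ Fin m → F} (hw : w ≠ 0)
    (hne : ∀ a : F, a • w ≠ u) :
    ∃ y, Cfsg.sympForm m F w y = 0 ∧ Cfsg.sympForm m F u y ≠ 0 := by
  by_contra hcon
  push Not at hcon
  obtain ⟨y1, hy1⟩ := sympForm_exists_ne_zero hw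
  set c := Cfsg.sympForm m F u y1 * (Cfsg.sympForm m F w y1)⁻¹ with hc
  have hall : ∀ y, Cfsg.sympForm m F (u - c • w) y = 0 := by
    intro y
    have h0 : Cfsg.sympForm m F w (y - (Cfsg.sympForm m F w y * (Cfsg.sympForm m F w y1)⁻¹) • y1)
        = 0 := by
      rw [sympForm_sub_right, sympForm_smul_right, mul_assoc, inv_mul_cancel₀ hy1, mul_one, sub_self]
    have h1 := hcon _ h0
    rw [sympForm_sub_right, sympForm_smul_right] at h1
    rw [sympForm_sub_left, sympForm_smul_left, hc]
    have h2 : Cfsg.sympForm m F u y = Cfsg.sympForm m F w y * (Cfsg.sympForm m F w y1)⁻¹ *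
        Cfsg.sympForm m F u y1 := sub_eq_zero.mp h1
    rw [h2]
    ring
  have h3 : u - c • w = 0 := by
    by_contra h
    obtain ⟨y, hy⟩ := sympForm_exists_ne_zero h
    exact hy (hall y)
  exact hne c (sub_eq_zero.mp h3).symm

theorem result {F : Type*} [Field F] [Finite F] (m : ℕ) (hm : 1 ≤ m) : MulAction.IsPreprimitive ↥(Cfsg.spGL m F) (ℙ F (Fin m ⊕ Fin m → F)) := by
  classical
  have : MulAction.IsPretransitive ↥(Cfsg.spGL m F) (ℙ F (Fin m ⊕ Fin m → F)) := by
    constructor
    intro x y
    induction x using Projectivization.ind with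
    | h u hu =>
      induction y using Projectivization.ind with
      | h u' hu' =>
        obtain ⟨A, _, hA⟩ := sympTrans_transitive hu hu'
        exact ⟨toG A, toG_smul_mk A u hu u' hu' ⟨1, by rw [one_smul, hA]⟩⟩
  refine MulAction.IsPreprimitive.mk ?_
  intro B hB
  by_cases hsub : B.Subsingleton
  · exact Or.inl hsub
  · right
    rw [Set.not_subsingleton_iff] at hsub
    obtain ⟨x, hx, y, hy, hxy⟩ := hsub
    induction x using Projectivization.ind with
    | h u hu =>
      induction y using Projectivization.ind with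
      | h w hw =>
        by_cases huw : Cfsg.sympForm m F u w ≠ 0
        · exact block_univ_of_nonperp hB hu hw hx hy huw
        · push Not at huw
          have hne : ∀ a : F, a • w ≠ u := by
            intro a ha
            apply hxy
            rw [Projectivization.mk_eq_mk_iff']
            exact ⟨a, ha⟩
          obtain ⟨y, hwy, huy⟩ := exists_perp_nonperp hw hne
          -- the transvection T_y(1)
          set A : Matrix.symplecticGroup (Fin m) F := sympT y 1 with hA
          have hAw : (A : Matrix (Fin m ⊕ Fin m) (Fin m ⊕ Fin m) F) *ᵥ w = w :=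
            sympT_fix 1 hwy
          have hAu : (A : Matrix (Fin m ⊕ Fin m) (Fin m ⊕ Fin m) F) *ᵥ u =
              u + Cfsg.sympForm m F u y • y := by
            show Cfsg.sympTransvection m y 1 *ᵥ u = _
            rw [sympTransvection_mulVec, one_mul]
          have hgw : toG A • Projectivization.mk F w hw = Projectivization.mk F w hw :=
            toG_smul_mk A w hw w hw ⟨1, by rw [one_smul, hAw]⟩
          have hgB : toG A • B = B := hB.smul_eq_of_mem hy (by rw [hgw]; exact hy)
          have hu2 : u + Cfsg.sympForm m F u y • y ≠ 0 := by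
            intro h0
            have := congrArg (fun t => Cfsg.sympForm m F t y) h0
            simp only [sympForm_add_left, sympForm_smul_left, sympForm_self, mul_zero, add_zero,
              sympForm_zero_left] at this
            exact huy this
          have hgu : toG A • Projectivization.mk F u hu =
              Projectivization.mk F (u + Cfsg.sympForm m F u y • y) hu2 :=
            toG_smul_mk A u hu _ hu2 ⟨1, by rw [one_smul, hAu]⟩
          have hu2B : Projectivization.mk F (u + Cfsg.sympForm m F u y • y) hu2 ∈ B := by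
            rw [← hgu, ← hgB]
            exact Set.smul_mem_smul_set hx
          have hnp : Cfsg.sympForm m F u (u + Cfsg.sympForm m F u y • y) ≠ 0 := by
            rw [sympForm_add_right, sympForm_self, zero_add, sympForm_smul_right]
            exact mul_ne_zero huy huy
          exact block_univ_of_nonperp hB hu hu2 hx hu2B hnp

end Cfsg.Agent.S0768
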