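import Mathlib
import Cfsg.Statements.S0769

set_option autoImplicit false

namespace Cfsg.Agent.S0769

open Matrix

theorem result {F : Type*} [Field F] [Fintype F] {q : ℕ} (hF : Fintype.card F = q) (n : ℕ) : Nat.card {g : Matrix.GeneralLinearGroup (Fin n) F // ∀ i j : Fin n, i < j → (g : Matrix (Fin n) (Fin n) F) i j = 0} = q ^ (n * (n - 1) / 2) * (q - 1) ^ n := by
  classical
  -- the allowed entries
  let S : Fin n → Fin n → Finset F := fun i j =>
    if j < i then Finset.univ else if j = i then Finset.univ.erase 0 else {0}
  have hdet : ∀ M : Matrix (Fin n) (Fin n) F, (∀ i j : Fin n, i < j → M i j = 0) →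
      M.det = ∏ i, M i i := by
    intro M hM
    apply Matrix.det_of_isLowerTriangular
    intro i j hij
    exact hM i j hij
  -- equivalence with the pi-finset
  have hequiv : {g : Matrix.GeneralLinearGroup (Fin n) F // ∀ i j : Fin n, i < j →
      (g : Matrix (Fin n) (Fin n) F) i j = 0} ≃
      {M : Fin n → Fin n → F // M ∈ Fintype.piFinset (fun i => Fintype.piFinset (S i))} := by
    refine
      { toFun := fun g => ⟨fun i j => (g.1 : Matrix (Fin n) (Fin n) F) i j, ?_⟩
        invFun := fun M => ⟨Matrix.GeneralLinearGroup.mkOfDetNeZero (Matrix.of M.1) ?_, ?_⟩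
        left_inv := ?_
        right_inv := ?_ }
    · rw [Fintype.mem_piFinset]
      intro i
      rw [Fintype.mem_piFinset]
      intro j
      simp only [S]
      split_ifs with h1 h2
      · exact Finset.mem_univ _
      · subst h2
        rw [Finset.mem_erase]
        refine ⟨?_, Finset.mem_univ _⟩
        intro h0
        have hd := hdet (g.1 : Matrix (Fin n) (Fin n) F) g.2
        have hne : (g.1 : Matrix (Fin n) (Fin n) F).det ≠ 0 := by
          have := (Matrix.isUnits_det_units g.1)
          exact this.ne_zero
        rw [hd] at hne
        exact hne (Finset.prod_eq_zero (Finset.mem_univ j) h0)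
      · rw [Finset.mem_singleton]
        apply g.2
        rcases lt_trichotomy i j with h | h | h
        · exact h
        · exact absurd h.symm h2
        · exact absurd h h1
    · have hM := M.2
      rw [Fintype.mem_piFinset] at hM
      have hM' : ∀ i j, M.1 i j ∈ S i j := fun i j => Fintype.mem_piFinset.mp (hM i) j
      have hz : ∀ i j : Fin n, i < j → (Matrix.of M.1) i j = 0 := by
        intro i j hij
        have := hM' i j
        simp only [S] at this
        rw [if_neg (not_lt.mpr hij.le), if_neg hij.ne'] at this
        exact Finset.mem_singleton.mp this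
      rw [hdet _ hz]
      apply Finset.prod_ne_zero_iff.mpr
      intro i _
      have := hM' i i
      simp only [S, lt_irrefl, if_false, if_true] at this
      exact (Finset.mem_erase.mp this).1
    · have hM := M.2
      rw [Fintype.mem_piFinset] at hM
      have hM' : ∀ i j, M.1 i j ∈ S i j := fun i j => Fintype.mem_piFinset.mp (hM i) j
      intro i j hij
      have := hM' i j
      simp only [S] at this
      rw [if_neg (not_lt.mpr hij.le), if_neg hij.ne'] at this
      exact Finset.mem_singleton.mp this
    · intro g
      apply Subtype.ext
      apply Units.ext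
      rfl
    · intro M
      apply Subtype.ext
      rfl
  rw [Nat.card_congr hequiv, Nat.card_eq_fintype_card, Fintype.card_coe, Fintype.card_piFinset]
  simp only [Fintype.card_piFinset]
  -- compute row products
  have hrow : ∀ i : Fin n, ∏ j, (S i j).card = q ^ (i : ℕ) * (q - 1) := by
    intro i
    simp only [S]
    have h1 : ∀ j : Fin n, (if j < i then (Finset.univ : Finset F) else
        if j = i then Finset.univ.erase 0 else {0}).card
        = (if j < i then q else 1) * (if j = i then (q - 1) else 1) := by
      intro j
      split_ifs with h1 h2 h3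
      · exact absurd h2 h1.ne
      · rw [Finset.card_univ, hF, mul_one]
      · rw [Finset.card_erase_of_mem (Finset.mem_univ _), Finset.card_univ, hF, one_mul]
      · rw [Finset.card_singleton]
    rw [Finset.prod_congr rfl (fun j _ => h1 j), Finset.prod_mul_distrib, Finset.prod_ite_eq']
    simp only [Finset.mem_univ, if_true]
    rw [Finset.prod_ite, Finset.prod_const_one, mul_one, Finset.prod_const]
    congr 2
    have : Finset.univ.filter (fun j : Fin n => j < i) = Finset.Iio i := by
      ext j; simp
    rw [this, Fin.card_Iio]
  rw [Finset.prod_congr rfl (fun i _ => hrow i), Finset.prod_mul_distrib, Finset.prod_const,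
    Finset.card_univ, Fintype.card_fin, Finset.prod_pow_eq_pow_sum, Fin.sum_univ_eq_sum_range (fun i => i) n,
    Finset.sum_range_id]

end Cfsg.Agent.S0769
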