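import Mathlib
import Cfsg.Statements.S0770

set_option autoImplicit false
open Cfsg

namespace Cfsg.Agent.S0770

open Matrix

variable {F : Type*} [Field F] {n : ℕ}

/-- the diagonal torus -/
abbrev TT (F : Type*) [Field F] (n : ℕ) : Subgroup (Matrix.GeneralLinearGroup (Fin n) F) :=
  (Units.map (Matrix.diagonalRingHom (Fin n) F).toMonoidHom).range

theorem mem_TT_iff (h : Matrix.GeneralLinearGroup (Fin n) F) :
    h ∈ TT F n ↔ ∃ d : Fin n → F, (∀ i, d i ≠ 0) ∧
      (h : Matrix (Fin n) (Fin n) F) = Matrix.diagonal d := by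
  constructor
  · rintro ⟨u, rfl⟩
    refine ⟨(u : Fin n → F), ?_, rfl⟩
    intro i hi
    have := congrFun u.mul_inv i
    simp only [Pi.mul_apply, Pi.one_apply] at this
    rw [hi, zero_mul] at this
    exact zero_ne_one this
  · rintro ⟨d, hd, hh⟩
    refine ⟨⟨d, fun i => (d i)⁻¹, ?_, ?_⟩, ?_⟩
    · funext i
      simp [mul_inv_cancel₀ (hd i)]
    · funext i
      simp [inv_mul_cancel₀ (hd i)]
    · apply Units.ext
      rw [hh]
      rfl

/-- Build an element of GL from a diagonal with nonzero entries. -/
theorem exists_diag (d : Fin n → F) (hd : ∀ i, d i ≠ 0) :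
    ∃ h : Matrix.GeneralLinearGroup (Fin n) F, h ∈ TT F n ∧
      (h : Matrix (Fin n) (Fin n) F) = Matrix.diagonal d := by
  have : ∃ h : Matrix.GeneralLinearGroup (Fin n) F, (h : Matrix (Fin n) (Fin n) F) = Matrix.diagonal d := by
    refine ⟨⟨Matrix.diagonal d, Matrix.diagonal (fun i => (d i)⁻¹), ?_, ?_⟩, rfl⟩
    · rw [Matrix.diagonal_mul_diagonal]
      simp [mul_inv_cancel₀ (hd _)]
    · rw [Matrix.diagonal_mul_diagonal]
      simp [inv_mul_cancel₀ (hd _)]
  obtain ⟨h, hh⟩ := this
  exact ⟨h, (mem_TT_iff h).2 ⟨d, hd, hh⟩, hh⟩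

theorem coe_mul_inv_eq (g h k : Matrix.GeneralLinearGroup (Fin n) F)
    (e : (g : Matrix (Fin n) (Fin n) F) * (h : Matrix (Fin n) (Fin n) F) =
      (k : Matrix (Fin n) (Fin n) F) * (g : Matrix (Fin n) (Fin n) F)) : g * h * g⁻¹ = k := by
  have : g * h = k * g := by
    apply Units.ext
    simpa using e
  rw [this, mul_assoc, mul_inv_cancel, mul_one]

/-- For a field with at least 3 elements, an invertible matrix normalises the subgroup of invertible diagonal matrices of GL_n if and only if it is monomial (exactly one non-zero entry in each row). -/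
theorem result {F : Type*} [Field F] (hF : ∃ a : F, a ≠ 0 ∧ a ≠ 1) (n : ℕ) (g : Matrix.GeneralLinearGroup (Fin n) F) : g ∈ Subgroup.normalizer ((Units.map (Matrix.diagonalRingHom (Fin n) F).toMonoidHom).range : Subgroup (Matrix.GeneralLinearGroup (Fin n) F)) ↔ ∀ i : Fin n, ∃! j : Fin n, (g : Matrix (Fin n) (Fin n) F) i j ≠ 0 := by
  classical
  obtain ⟨a, ha0, ha1⟩ := hF
  set G : Matrix (Fin n) (Fin n) F := (g : Matrix (Fin n) (Fin n) F) with hG
  have hdet : G.det ≠ 0 := by
    have := (Matrix.isUnit_iff_isUnit_det G).mp ⟨g, rfl⟩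
    exact this.ne_zero
  constructor
  · intro hg i
    rw [Subgroup.mem_normalizer_iff] at hg
    -- existence of a nonzero entry in row i
    have hex : ∃ j, G i j ≠ 0 := by
      by_contra hcon
      push Not at hcon
      exact hdet (Matrix.det_eq_zero_of_row_eq_zero i hcon)
    obtain ⟨j₀, hj₀⟩ := hex
    refine ⟨j₀, hj₀, ?_⟩
    intro j₁ hj₁
    by_contra hne
    -- the diagonal matrix with `a` at `j₀`
    set d : Fin n → F := Function.update (fun _ => (1 : F)) j₀ a with hd
    have hd0 : ∀ i, d i ≠ 0 := by
      intro i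
      by_cases hi : i = j₀
      · subst hi; simp [hd, ha0]
      · simp [hd, hi]
    obtain ⟨h, hhT, hh⟩ := exists_diag d hd0
    have h1 := (hg h).1 hhT
    obtain ⟨d', hd'0, hd'⟩ := (mem_TT_iff _).1 h1
    have e : G * Matrix.diagonal d = Matrix.diagonal d' * G := by
      have : g * h = (g * h * g⁻¹) * g := by group
      have := congrArg (fun x : Matrix.GeneralLinearGroup (Fin n) F => (x : Matrix (Fin n) (Fin n) F)) this
      simp only [Units.val_mul] at this
      rw [← hh, hG, this]
      simp only [Units.val_mul] at hd'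
      rw [hd']
    have e0 := congrFun (congrFun e i) j₀
    have e1 := congrFun (congrFun e i) j₁
    rw [Matrix.mul_diagonal, Matrix.diagonal_mul] at e0 e1
    have hdj₀ : d j₀ = a := by simp [hd]
    have hdj₁ : d j₁ = 1 := by simp [hd, hne]
    rw [hdj₀] at e0
    rw [hdj₁, mul_one] at e1
    have hd'i : d' i = 1 := by
      have : (d' i - 1) * G i j₁ = 0 := by linear_combination -e1
      rcases mul_eq_zero.mp this with h | h
      · exact sub_eq_zero.mp h
      · exact absurd h hj₁
    rw [hd'i, one_mul] at e0
    have : G i j₀ * (a - 1) = 0 := by linear_combination e0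
    rcases mul_eq_zero.mp this with h | h
    · exact hj₀ h
    · exact ha1 (sub_eq_zero.mp h)
  · intro hmono
    choose π hπ hπu using hmono
    have hzero : ∀ i j, j ≠ π i → G i j = 0 := by
      intro i j hj
      by_contra h
      exact hj (hπu i j h)
    -- π is surjective
    have hsurj : Function.Surjective π := by
      intro j
      have hex : ∃ i, G i j ≠ 0 := by
        by_contra hcon
        push Not at hcon
        exact hdet (Matrix.det_eq_zero_of_column_eq_zero j hcon)
      obtain ⟨i, hi⟩ := hex
      exact ⟨i, (hπu i j hi).symm⟩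
    have hbij : Function.Bijective π := (Finite.surjective_iff_bijective).mp hsurj
    set σ := (Equiv.ofBijective π hbij).symm with hσ
    have hσπ : ∀ i, σ (π i) = i := fun i => (Equiv.ofBijective π hbij).symm_apply_apply i
    have hπσ : ∀ j, π (σ j) = j := fun j => (Equiv.ofBijective π hbij).apply_symm_apply j
    have key1 : ∀ d : Fin n → F, G * Matrix.diagonal d = Matrix.diagonal (d ∘ π) * G := by
      intro d
      ext i j
      rw [Matrix.mul_diagonal, Matrix.diagonal_mul]
      by_cases hj : j = π i
      · subst hj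
        simp [mul_comm]
      · rw [hzero i j hj]; simp
    have key2 : ∀ d' : Fin n → F, Matrix.diagonal d' * G = G * Matrix.diagonal (d' ∘ σ) := by
      intro d'
      ext i j
      rw [Matrix.mul_diagonal, Matrix.diagonal_mul]
      by_cases hj : j = π i
      · subst hj
        simp [mul_comm, hσπ]
      · rw [hzero i j hj]; simp
    rw [Subgroup.mem_normalizer_iff]
    intro h
    constructor
    · intro hh
      obtain ⟨d, hd0, hd⟩ := (mem_TT_iff h).1 hh
      obtain ⟨k, hkT, hk⟩ := exists_diag (d ∘ π) (fun i => hd0 _)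
      have : g * h * g⁻¹ = k := by
        apply coe_mul_inv_eq
        rw [hd, hk, ← hG]
        exact key1 d
      rw [this]
      exact hkT
    · intro hh
      obtain ⟨d', hd'0, hd'⟩ := (mem_TT_iff _).1 hh
      obtain ⟨k, hkT, hk⟩ := exists_diag (d' ∘ σ) (fun i => hd'0 _)
      have e : g * h = g * k := by
        have h1 : g * h = (g * h * g⁻¹) * g := by group
        rw [h1]
        apply Units.ext
        simp only [Units.val_mul] at hd' ⊢
        rw [hd', hk, ← hG]
        exact key2 d'
      have : h = k := mul_left_cancel e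
      rw [this]
      exact hkT

end Cfsg.Agent.S0770
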