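import Mathlib
import Cfsg.Statements.S0771

set_option autoImplicit false
open Cfsg

namespace Cfsg.Agent.S0771

open Matrix

variable {F : Type*} [Field F]

/-- index equivalence -/
def ee (n k : ℕ) (hk : k ≤ n) : Fin k ⊕ Fin (n - k) ≃ Fin n :=
  finSumFinEquiv.trans (finCongr (by omega))

theorem ee_inl (n k : ℕ) (hk : k ≤ n) (a : Fin k) : ((ee n k hk (Sum.inl a) : Fin n) : ℕ) = a := by
  simp [ee]

theorem ee_inr (n k : ℕ) (hk : k ≤ n) (b : Fin (n - k)) :
    ((ee n k hk (Sum.inr b) : Fin n) : ℕ) = k + b := by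
  simp [ee]

/-- the reindexed matrix -/
def reM (n k : ℕ) (hk : k ≤ n) (M : Matrix (Fin n) (Fin n) F) :
    Matrix (Fin k ⊕ Fin (n - k)) (Fin k ⊕ Fin (n - k)) F :=
  M.submatrix (ee n k hk) (ee n k hk)

theorem mem_SS_iff (n k : ℕ) (hk : k ≤ n) (v : Fin n → F) :
    v ∈ {v : Fin n → F | ∀ i : Fin n, k ≤ (i : ℕ) → v i = 0} ↔
      ∀ b : Fin (n - k), (v ∘ ee n k hk) (Sum.inr b) = 0 := by
  constructor
  · intro h b
    apply h
    rw [ee_inr]; omega
  · intro h i hi
    obtain ⟨s, rfl⟩ := (ee n k hk).surjective i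
    rcases s with a | b
    · rw [ee_inl] at hi
      exact absurd a.2 (by omega)
    · exact h b

theorem mulVec_comp (n k : ℕ) (hk : k ≤ n) (M : Matrix (Fin n) (Fin n) F) (v : Fin n → F) :
    (M *ᵥ v) ∘ ee n k hk = reM n k hk M *ᵥ (v ∘ ee n k hk) := by
  rw [reM, Matrix.submatrix_mulVec_equiv]
  congr 2
  funext i
  simp

theorem mem_stab_iff (n k : ℕ) (hk : k ≤ n) (g : Matrix.GeneralLinearGroup (Fin n) F) :
    g ∈ Cfsg.stabilizing (Cfsg.glToMat (Fin n) F) {v : Fin n → F | ∀ i : Fin n, k ≤ (i : ℕ) → v i = 0} ↔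
      (reM n k hk (g : Matrix (Fin n) (Fin n) F)).toBlocks₂₁ = 0 := by
  classical
  set G : Matrix (Fin n) (Fin n) F := (g : Matrix (Fin n) (Fin n) F) with hG
  set M := reM n k hk G with hM
  have hdetG : G.det ≠ 0 := by
    have := (Matrix.isUnit_iff_isUnit_det G).mp ⟨g, rfl⟩
    exact this.ne_zero
  constructor
  · intro hg
    ext b a
    simp only [toBlocks₂₁, Matrix.of_apply, Matrix.zero_apply]
    have h1 : (Pi.single (ee n k hk (Sum.inl a)) 1 : Fin n → F) ∈
        {v : Fin n → F | ∀ i : Fin n, k ≤ (i : ℕ) → v i = 0} := by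
      intro i hi
      have : i ≠ ee n k hk (Sum.inl a) := by
        intro h
        rw [h, ee_inl] at hi
        exact absurd a.2 (by omega)
      simp [Pi.single_apply, this]
    have h2 := (hg _).1 h1
    have h3 := h2 (ee n k hk (Sum.inr b)) (by rw [ee_inr]; omega)
    simp only [Cfsg.glToMat, Units.coeHom_apply, Matrix.mulVec_single_one] at h3
    simpa [hM, reM] using h3
  · intro hblock v
    have hMeq : M = fromBlocks M.toBlocks₁₁ M.toBlocks₁₂ 0 M.toBlocks₂₂ := by
      conv_lhs => rw [← fromBlocks_toBlocks M, hblock]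
    have hdetM : M.det = G.det := by
      rw [hM, reM, Matrix.det_submatrix_equiv_self]
    have hdetD : M.toBlocks₂₂.det ≠ 0 := by
      intro h0
      apply hdetG
      rw [← hdetM, hMeq, Matrix.det_fromBlocks_zero₂₁, h0, mul_zero]
    show v ∈ _ ↔ G *ᵥ v ∈ _
    rw [mem_SS_iff n k hk, mem_SS_iff n k hk, mulVec_comp, ← hM, hMeq, Matrix.fromBlocks_mulVec]
    simp only [Sum.elim_inr, Matrix.zero_mulVec, zero_add]
    constructor
    · intro h b
      have : (v ∘ ee n k hk) ∘ Sum.inr = 0 := by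
        funext b'
        exact h b'
      rw [this, Matrix.mulVec_zero]
      rfl
    · intro h b
      have h0 : M.toBlocks₂₂ *ᵥ ((v ∘ ee n k hk) ∘ Sum.inr) = 0 := by
        funext b'
        exact h b'
      have := Matrix.eq_zero_of_mulVec_eq_zero hdetD h0
      exact congrFun this b

/-- invertible matrices vs GL -/
def detNeZeroEquiv (m : ℕ) : {A : Matrix (Fin m) (Fin m) F // A.det ≠ 0} ≃ Matrix.GeneralLinearGroup (Fin m) F where
  toFun A := Matrix.GeneralLinearGroup.mkOfDetNeZero A.1 A.2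
  invFun g := ⟨(g : Matrix (Fin m) (Fin m) F), by
    have := (Matrix.isUnit_iff_isUnit_det (g : Matrix (Fin m) (Fin m) F)).mp ⟨g, rfl⟩
    exact this.ne_zero⟩
  left_inv A := by
    apply Subtype.ext
    rfl
  right_inv g := by
    apply Units.ext
    rfl

/-- the main equivalence -/
noncomputable def blockEquiv (n k : ℕ) (hk : k ≤ n) :
    {g : Matrix.GeneralLinearGroup (Fin n) F //
      (reM n k hk (g : Matrix (Fin n) (Fin n) F)).toBlocks₂₁ = 0} ≃
    ({A : Matrix (Fin k) (Fin k) F // A.det ≠ 0} × {D : Matrix (Fin (n - k)) (Fin (n - k)) F // D.det ≠ 0}) ×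
      Matrix (Fin k) (Fin (n - k)) F where
  toFun g :=
    have hMeq : reM n k hk (g.1 : Matrix (Fin n) (Fin n) F) =
        fromBlocks (reM n k hk (g.1 : Matrix (Fin n) (Fin n) F)).toBlocks₁₁
          (reM n k hk (g.1 : Matrix (Fin n) (Fin n) F)).toBlocks₁₂ 0
          (reM n k hk (g.1 : Matrix (Fin n) (Fin n) F)).toBlocks₂₂ := by
      conv_lhs => rw [← fromBlocks_toBlocks (reM n k hk (g.1 : Matrix (Fin n) (Fin n) F)), g.2]
    have hdet : (reM n k hk (g.1 : Matrix (Fin n) (Fin n) F)).toBlocks₁₁.det *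
        (reM n k hk (g.1 : Matrix (Fin n) (Fin n) F)).toBlocks₂₂.det ≠ 0 := by
      rw [← Matrix.det_fromBlocks_zero₂₁ _ (reM n k hk (g.1 : Matrix (Fin n) (Fin n) F)).toBlocks₁₂, ← hMeq,
        reM, Matrix.det_submatrix_equiv_self]
      have := (Matrix.isUnit_iff_isUnit_det (g.1 : Matrix (Fin n) (Fin n) F)).mp ⟨g.1, rfl⟩
      exact this.ne_zero
    ((⟨(reM n k hk (g.1 : Matrix (Fin n) (Fin n) F)).toBlocks₁₁, left_ne_zero_of_mul hdet⟩,
      ⟨(reM n k hk (g.1 : Matrix (Fin n) (Fin n) F)).toBlocks₂₂, right_ne_zero_of_mul hdet⟩),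
      (reM n k hk (g.1 : Matrix (Fin n) (Fin n) F)).toBlocks₁₂)
  invFun x :=
    ⟨Matrix.GeneralLinearGroup.mkOfDetNeZero
      ((fromBlocks x.1.1.1 x.2 0 x.1.2.1).submatrix (ee n k hk).symm (ee n k hk).symm) (by
        rw [Matrix.det_submatrix_equiv_self, Matrix.det_fromBlocks_zero₂₁]
        exact mul_ne_zero x.1.1.2 x.1.2.2), by
      show (reM n k hk ((fromBlocks x.1.1.1 x.2 0 x.1.2.1).submatrix (ee n k hk).symm (ee n k hk).symm)).toBlocks₂₁ = 0
      rw [reM, Matrix.submatrix_submatrix]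
      simp⟩
  left_inv g := by
    apply Subtype.ext
    apply Units.ext
    show (fromBlocks _ _ 0 _).submatrix (ee n k hk).symm (ee n k hk).symm = (g.1 : Matrix (Fin n) (Fin n) F)
    have hMeq : reM n k hk (g.1 : Matrix (Fin n) (Fin n) F) =
        fromBlocks (reM n k hk (g.1 : Matrix (Fin n) (Fin n) F)).toBlocks₁₁
          (reM n k hk (g.1 : Matrix (Fin n) (Fin n) F)).toBlocks₁₂ 0
          (reM n k hk (g.1 : Matrix (Fin n) (Fin n) F)).toBlocks₂₂ := by
      conv_lhs => rw [← fromBlocks_toBlocks (reM n k hk (g.1 : Matrix (Fin n) (Fin n) F)), g.2]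
    rw [← hMeq, reM, Matrix.submatrix_submatrix]
    simp
  right_inv x := by
    obtain ⟨⟨⟨A, hA⟩, ⟨D, hD⟩⟩, B⟩ := x
    have h : reM n k hk ((fromBlocks A B 0 D).submatrix (ee n k hk).symm (ee n k hk).symm) =
        fromBlocks A B 0 D := by
      rw [reM, Matrix.submatrix_submatrix]
      simp
    apply Prod.ext
    · apply Prod.ext
      · apply Subtype.ext
        show (reM n k hk ((fromBlocks A B 0 D).submatrix (ee n k hk).symm (ee n k hk).symm)).toBlocks₁₁ = A
        rw [h, toBlocks_fromBlocks₁₁]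
      · apply Subtype.ext
        show (reM n k hk ((fromBlocks A B 0 D).submatrix (ee n k hk).symm (ee n k hk).symm)).toBlocks₂₂ = D
        rw [h, toBlocks_fromBlocks₂₂]
    · show (reM n k hk ((fromBlocks A B 0 D).submatrix (ee n k hk).symm (ee n k hk).symm)).toBlocks₁₂ = B
      rw [h, toBlocks_fromBlocks₁₂]

/-- Maximal parabolic of GL_n(q): the stabiliser of the coordinate subspace spanned by the first k basis vectors has order q^(k(n-k)) · |GL_k(q)| · |GL_(n-k)(q)| (unipotent radical of order q^(k(n-k)) and Levi complement GL_k × GL_(n-k)). -/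
theorem result {F : Type*} [Field F] [Fintype F] {q : ℕ} (hF : Fintype.card F = q) (n k : ℕ) (hk : k ≤ n) : Nat.card ↥(Cfsg.stabilizing (Cfsg.glToMat (Fin n) F) {v : Fin n → F | ∀ i : Fin n, k ≤ (i : ℕ) → v i = 0}) = q ^ (k * (n - k)) * (∏ i : Fin k, (q ^ k - q ^ (i : ℕ))) * ∏ i : Fin (n - k), (q ^ (n - k) - q ^ (i : ℕ)) := by
  classical
  have e1 : ↥(Cfsg.stabilizing (Cfsg.glToMat (Fin n) F) {v : Fin n → F | ∀ i : Fin n, k ≤ (i : ℕ) → v i = 0}) ≃
      {g : Matrix.GeneralLinearGroup (Fin n) F //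
        (reM n k hk (g : Matrix (Fin n) (Fin n) F)).toBlocks₂₁ = 0} :=
    Equiv.subtypeEquivRight (fun g => mem_stab_iff n k hk g)
  rw [Nat.card_congr e1, Nat.card_congr (blockEquiv n k hk), Nat.card_prod, Nat.card_prod,
    Nat.card_congr (detNeZeroEquiv k), Nat.card_congr (detNeZeroEquiv (n - k)),
    Matrix.card_GL_field, Matrix.card_GL_field, hF]
  have : Nat.card (Matrix (Fin k) (Fin (n - k)) F) = q ^ (k * (n - k)) := by
    rw [Nat.card_eq_fintype_card]
    show Fintype.card (Fin k → Fin (n - k) → F) = _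
    rw [Fintype.card_fun, Fintype.card_fun, Fintype.card_fin, Fintype.card_fin, ← pow_mul, mul_comm, hF]
  rw [this]
  ring

end Cfsg.Agent.S0771
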