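import Mathlib
import Cfsg.Statements.S0773
import Cfsg.Agent.Helper28.Transv
import Cfsg.Agent.Helper28.Transv2

set_option autoImplicit false

namespace Cfsg.Agent.S0773

open Matrix Cfsg.Agent.Helper28.Transv

variable {F : Type*} [Field F] {n : ℕ}

/-- the coordinate subspace spanned by the first `j` basis vectors -/
def Ec (F : Type*) [Field F] (n j : ℕ) : Submodule F (Fin n → F) where
  carrier := {v | ∀ i : Fin n, j ≤ (i : ℕ) → v i = 0}
  add_mem' := by
    intro a b ha hb i hi
    simp [ha i hi, hb i hi]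
  zero_mem' := by
    intro i _
    rfl
  smul_mem' := by
    intro c a ha i hi
    simp [ha i hi]

theorem mem_Ec (j : ℕ) (v : Fin n → F) : v ∈ Ec F n j ↔ ∀ i : Fin n, j ≤ (i : ℕ) → v i = 0 :=
  Iff.rfl

theorem single_mem_Ec (j : ℕ) (b : Fin n) (hb : (b : ℕ) < j) :
    (Pi.single b 1 : Fin n → F) ∈ Ec F n j := by
  intro i hi
  have : i ≠ b := by
    rintro rfl
    omega
  simp [this]

theorem Ec_lt (a b : ℕ) (hab : a < b) (hb : b ≤ n) : Ec F n a < Ec F n b := by
  rw [SetLike.lt_iff_le_and_exists]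
  refine ⟨fun v hv i hi => hv i (by omega), Pi.single ⟨a, by omega⟩ 1,
    single_mem_Ec b _ (by simpa using hab), ?_⟩
  intro h
  have := h ⟨a, by omega⟩ (le_refl _)
  simp at this

theorem Ec_ne_bot (j : ℕ) (hj : 0 < j) (hjn : j ≤ n) : Ec F n j ≠ ⊥ := by
  intro h
  have h1 : (Pi.single ⟨0, by omega⟩ 1 : Fin n → F) ∈ Ec F n j := single_mem_Ec j _ (by simpa using hj)
  rw [h, Submodule.mem_bot] at h1
  have := congrFun h1 ⟨0, by omega⟩
  simp at this

/-- entries of an element stabilising a coordinate subspace -/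
theorem stab_entries (j : ℕ) (g : Matrix.GeneralLinearGroup (Fin n) F)
    (hg : g ∈ Cfsg.stabilizing (Cfsg.glToMat (Fin n) F) (Ec F n j : Set (Fin n → F)))
    (a b : Fin n) (ha : j ≤ (a : ℕ)) (hb : (b : ℕ) < j) :
    (g : Matrix (Fin n) (Fin n) F) a b = 0 := by
  have h1 := (hg _).mp (single_mem_Ec (F := F) j b hb)
  have h2 := h1 a ha
  simpa [Cfsg.glToMat, Matrix.mulVec_single_one] using h2

/-- transpose and reverse the indices -/
def psiM (A : Matrix (Fin n) (Fin n) F) : Matrix (Fin n) (Fin n) F :=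
  Aᵀ.submatrix (Fin.revPerm : Fin n ≃ Fin n) (Fin.revPerm : Fin n ≃ Fin n)

theorem psiM_apply (A : Matrix (Fin n) (Fin n) F) (i l : Fin n) :
    psiM A i l = A (Fin.rev l) (Fin.rev i) := rfl

theorem psiM_mul (A B : Matrix (Fin n) (Fin n) F) : psiM (A * B) = psiM B * psiM A := by
  unfold psiM
  rw [Matrix.transpose_mul, Matrix.submatrix_mul_equiv]

theorem psiM_one : psiM (1 : Matrix (Fin n) (Fin n) F) = 1 := by
  unfold psiM
  rw [Matrix.transpose_one, Matrix.submatrix_one_equiv]

theorem psiM_psiM (A : Matrix (Fin n) (Fin n) F) : psiM (psiM A) = A := by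
  ext i l
  simp [psiM_apply]

/-- the inverse-transpose automorphism twisted by the reversal -/
def psi (g : Matrix.GeneralLinearGroup (Fin n) F) : Matrix.GeneralLinearGroup (Fin n) F where
  val := psiM ((g⁻¹ : Matrix.GeneralLinearGroup (Fin n) F) : Matrix (Fin n) (Fin n) F)
  inv := psiM (g : Matrix (Fin n) (Fin n) F)
  val_inv := by
    rw [← psiM_mul, ← Units.val_mul, mul_inv_cancel]
    exact psiM_one
  inv_val := by
    rw [← psiM_mul, ← Units.val_mul, inv_mul_cancel]
    exact psiM_one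

theorem psi_val (g : Matrix.GeneralLinearGroup (Fin n) F) :
    ((psi g : Matrix.GeneralLinearGroup (Fin n) F) : Matrix (Fin n) (Fin n) F) =
      psiM ((g⁻¹ : Matrix.GeneralLinearGroup (Fin n) F) : Matrix (Fin n) (Fin n) F) := rfl

theorem psi_inv_val (g : Matrix.GeneralLinearGroup (Fin n) F) :
    (((psi g)⁻¹ : Matrix.GeneralLinearGroup (Fin n) F) : Matrix (Fin n) (Fin n) F) =
      psiM (g : Matrix (Fin n) (Fin n) F) := rfl

theorem psi_mul (g h : Matrix.GeneralLinearGroup (Fin n) F) : psi (g * h) = psi g * psi h := by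
  apply Units.ext
  rw [Units.val_mul, psi_val, psi_val, psi_val, _root_.mul_inv_rev, Units.val_mul, psiM_mul]

theorem psi_psi (g : Matrix.GeneralLinearGroup (Fin n) F) : psi (psi g) = g := by
  apply Units.ext
  rw [psi_val, psi_inv_val, psiM_psiM]

theorem psi_stab (j : ℕ) (hj : j ≤ n) (g : Matrix.GeneralLinearGroup (Fin n) F)
    (hg : g ∈ Cfsg.stabilizing (Cfsg.glToMat (Fin n) F) (Ec F n j : Set (Fin n → F))) :
    psi g ∈ Cfsg.stabilizing (Cfsg.glToMat (Fin n) F) (Ec F n (n - j) : Set (Fin n → F)) := by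
  apply mem_stab_of_forall
  intro x hx i hi
  rw [psi_val, Matrix.mulVec, dotProduct]
  apply Finset.sum_eq_zero
  intro l _
  rw [psiM_apply]
  by_cases hl : n - j ≤ (l : ℕ)
  · rw [hx l hl, mul_zero]
  · push Not at hl
    have hg' := Subgroup.inv_mem _ hg
    rw [stab_entries j g⁻¹ hg' (Fin.rev l) (Fin.rev i) (by rw [Fin.val_rev]; omega)
      (by rw [Fin.val_rev]; omega), zero_mul]

theorem conj_mem_stab (S : Set (Fin n → F)) (g h : Matrix.GeneralLinearGroup (Fin n) F)
    (hh : h ∈ Cfsg.stabilizing (Cfsg.glToMat (Fin n) F) S) :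
    g * h * g⁻¹ ∈ Cfsg.stabilizing (Cfsg.glToMat (Fin n) F)
      ((fun v => (g : Matrix (Fin n) (Fin n) F) *ᵥ v) '' S) := by
  have hA : ∀ v : Fin n → F, v ∈ (fun v => (g : Matrix (Fin n) (Fin n) F) *ᵥ v) '' S ↔
      ((g⁻¹ : Matrix.GeneralLinearGroup (Fin n) F) : Matrix (Fin n) (Fin n) F) *ᵥ v ∈ S := by
    intro v
    constructor
    · rintro ⟨u, hu, rfl⟩
      simp only [Matrix.mulVec_mulVec]
      rw [← Units.val_mul, inv_mul_cancel]
      simpa using hu
    · intro hv
      refine ⟨_, hv, ?_⟩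
      simp only [Matrix.mulVec_mulVec]
      rw [← Units.val_mul, mul_inv_cancel]
      simp
  intro v
  rw [hA, hA]
  have := hh (((g⁻¹ : Matrix.GeneralLinearGroup (Fin n) F) : Matrix (Fin n) (Fin n) F) *ᵥ v)
  rw [this]
  have e : ((g⁻¹ : Matrix.GeneralLinearGroup (Fin n) F) : Matrix (Fin n) (Fin n) F) *ᵥ
      ((Cfsg.glToMat (Fin n) F) (g * h * g⁻¹) *ᵥ v) =
      (Cfsg.glToMat (Fin n) F) h *ᵥ
        (((g⁻¹ : Matrix.GeneralLinearGroup (Fin n) F) : Matrix (Fin n) (Fin n) F) *ᵥ v) := by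
    simp only [Cfsg.glToMat, Units.coeHom_apply, Matrix.mulVec_mulVec]
    congr 1
    rw [← Units.val_mul, ← Units.val_mul]
    congr 1
    group
  rw [e]

theorem result {F : Type*} [Field F] [Finite F] (n k : ℕ) (hk0 : 0 < k) (hkn : k < n) (h2 : 2 * k ≠ n) : Nonempty (↥(Cfsg.stabilizing (Cfsg.glToMat (Fin n) F) {v : Fin n → F | ∀ i : Fin n, k ≤ (i : ℕ) → v i = 0}) ≃* ↥(Cfsg.stabilizing (Cfsg.glToMat (Fin n) F) {v : Fin n → F | ∀ i : Fin n, n - k ≤ (i : ℕ) → v i = 0})) ∧ ∀ g : Matrix.GeneralLinearGroup (Fin n) F, (Cfsg.stabilizing (Cfsg.glToMat (Fin n) F) {v : Fin n → F | ∀ i : Fin n, k ≤ (i : ℕ) → v i = 0}).map (MulAut.conj g).toMonoidHom ≠ Cfsg.stabilizing (Cfsg.glToMat (Fin n) F) {v : Fin n → F | ∀ i : Fin n, n - k ≤ (i : ℕ) → v i = 0} := by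
  classical
  constructor
  · refine ⟨
      { toFun := fun g => ⟨psi g.1, psi_stab k (le_of_lt hkn) g.1 g.2⟩
        invFun := fun g => ⟨psi g.1, by
          have := psi_stab (n - k) (by omega) g.1 g.2
          rwa [Nat.sub_sub_self (le_of_lt hkn)] at this⟩
        left_inv := fun g => Subtype.ext (psi_psi g.1)
        right_inv := fun g => Subtype.ext (psi_psi g.1)
        map_mul' := fun g h => Subtype.ext (psi_mul g.1 h.1) }⟩
  · intro g hmap
    change (Cfsg.stabilizing (Cfsg.glToMat (Fin n) F) (Ec F n k : Set (Fin n → F))).map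
      (MulAut.conj g).toMonoidHom =
      Cfsg.stabilizing (Cfsg.glToMat (Fin n) F) (Ec F n (n - k) : Set (Fin n → F)) at hmap
    set L : (Fin n → F) →ₗ[F] (Fin n → F) := Matrix.mulVecLin (g : Matrix (Fin n) (Fin n) F) with hL
    have hLinj : Function.Injective L := mulVec_injective g
    set W : Submodule F (Fin n → F) := (Ec F n k).map L with hW
    have hWcoe : (W : Set (Fin n → F)) =
        (fun v => (g : Matrix (Fin n) (Fin n) F) *ᵥ v) '' (Ec F n k : Set (Fin n → F)) := by
      rw [hW, Submodule.map_coe]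
      rfl
    have hWdim : Module.finrank F W = Module.finrank F (Ec F n k) :=
      ((Submodule.equivMapOfInjective L hLinj (Ec F n k)).finrank_eq).symm
    have hWne : W ≠ Ec F n (n - k) := by
      intro heq
      rw [heq] at hWdim
      rcases Nat.lt_or_gt_of_ne (show k ≠ n - k by omega) with h | h
      · have := Submodule.finrank_lt_finrank_of_lt (Ec_lt (F := F) (n := n) k (n - k) h (by omega))
        omega
      · have := Submodule.finrank_lt_finrank_of_lt (Ec_lt (F := F) (n := n) (n - k) k h (by omega))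
        omega
    have hW0 : W ≠ ⊥ := by
      intro h0
      have h1 := Ec_ne_bot (F := F) (n := n) k hk0 (le_of_lt hkn)
      apply h1
      rw [eq_bot_iff]
      intro x hx
      have hx' : L x ∈ W := Submodule.mem_map_of_mem hx
      rw [h0, Submodule.mem_bot] at hx'
      rw [Submodule.mem_bot]
      exact hLinj (by rw [hx', map_zero])
    have hA0 : Ec F n (n - k) ≠ ⊥ := Ec_ne_bot (n - k) (by omega) (by omega)
    obtain ⟨t, ht⟩ := exists_distinguishing W (Ec F n (n - k)) hW0 hA0 hWne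
    apply ht
    rw [← hmap, hWcoe]
    constructor
    · intro htW
      refine ⟨g⁻¹ * t * g, ?_, ?_⟩
      · have := conj_mem_stab _ g⁻¹ t htW
        rw [inv_inv, Set.image_image] at this
        have hid : (fun x => ((g⁻¹ : Matrix.GeneralLinearGroup (Fin n) F) :
            Matrix (Fin n) (Fin n) F) *ᵥ ((g : Matrix (Fin n) (Fin n) F) *ᵥ x)) = id := by
          funext x
          simp only [Matrix.mulVec_mulVec]
          rw [← Units.val_mul, inv_mul_cancel]
          simp
        rw [hid, Set.image_id] at this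
        exact this
      · simp only [MulEquiv.coe_toMonoidHom, MulAut.conj_apply]
        group
    · rintro ⟨h, hh, rfl⟩
      simp only [MulEquiv.coe_toMonoidHom, MulAut.conj_apply]
      exact conj_mem_stab _ g h hh

end Cfsg.Agent.S0773
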