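import Mathlib
import Cfsg.Statements.S0772
import Cfsg.Agent.Helper28.Quad
import Cfsg.Agent.Helper28.Transv
import Cfsg.Agent.Helper28.Transv2
import Cfsg.Agent.S0773

set_option autoImplicit false

namespace Cfsg.Agent.S0772

open Matrix Cfsg.Agent.Helper28.Transv Cfsg.Agent.S0773

variable {F : Type*} [Field F] {n : ℕ}

/-- elementary transvection as an element of `GL` -/
noncomputable def tGL (i j : Fin n) (hij : i ≠ j) (c : F) : Matrix.GeneralLinearGroup (Fin n) F :=
  Matrix.GeneralLinearGroup.mkOfDetNeZero (Matrix.transvection i j c)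
    (by rw [Matrix.det_transvection_of_ne i j hij]; exact one_ne_zero)

theorem tGL_val (i j : Fin n) (hij : i ≠ j) (c : F) :
    ((tGL i j hij c : Matrix.GeneralLinearGroup (Fin n) F) : Matrix (Fin n) (Fin n) F) =
      Matrix.transvection i j c := rfl

theorem tGL_mulVec (i j : Fin n) (hij : i ≠ j) (c : F) (x : Fin n → F) :
    ((tGL i j hij c : Matrix.GeneralLinearGroup (Fin n) F) : Matrix (Fin n) (Fin n) F) *ᵥ x =
      x + (c * x j) • (Pi.single i 1 : Fin n → F) := by
  rw [tGL_val, Matrix.transvection, Matrix.add_mulVec, Matrix.one_mulVec, Matrix.single_mulVec]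
  congr 1
  ext a
  by_cases h : a = i
  · subst h
    simp
  · simp [h]

theorem tGL_mem_of_lt (k : ℕ) (i j : Fin n) (hij : i ≠ j) (c : F) (hi : (i : ℕ) < k) :
    tGL i j hij c ∈ Cfsg.stabilizing (Cfsg.glToMat (Fin n) F) (Ec F n k : Set (Fin n → F)) := by
  apply mem_stab_of_forall
  intro x hx
  rw [tGL_mulVec]
  exact (Ec F n k).add_mem hx ((Ec F n k).smul_mem _ (single_mem_Ec k i hi))

theorem tGL_mem_of_ge (k : ℕ) (i j : Fin n) (hij : i ≠ j) (c : F) (hj : k ≤ (j : ℕ)) :
    tGL i j hij c ∈ Cfsg.stabilizing (Cfsg.glToMat (Fin n) F) (Ec F n k : Set (Fin n → F)) := by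
  apply mem_stab_of_forall
  intro x hx
  rw [tGL_mulVec, hx j hj, mul_zero, zero_smul, add_zero]
  exact hx

/-- the parabolic moves any vector outside `E` to any coordinate vector outside `E` -/
theorem exists_move (k : ℕ) (u : Fin n → F) (hu : u ∉ Ec F n k) (i : Fin n) (hi : k ≤ (i : ℕ)) :
    ∃ p ∈ Cfsg.stabilizing (Cfsg.glToMat (Fin n) F) (Ec F n k : Set (Fin n → F)),
      (p : Matrix (Fin n) (Fin n) F) *ᵥ u = Pi.single i 1 := by
  classical
  -- the functional
  obtain ⟨φ, hφE, hφu, hφi⟩ : ∃ φ : Fin n → F, (∀ x ∈ Ec F n k, φ ⬝ᵥ x = 0) ∧ φ ⬝ᵥ u = 1 ∧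
      φ ⬝ᵥ (Pi.single i 1 : Fin n → F) ≠ 0 := by
    by_cases hui : u i = 0
    · obtain ⟨i0, hi0, hui0⟩ : ∃ i0 : Fin n, k ≤ (i0 : ℕ) ∧ u i0 ≠ 0 := by
        by_contra hcon
        push Not at hcon
        exact hu hcon
      have hne : i0 ≠ i := by
        rintro rfl
        exact hui0 hui
      refine ⟨Pi.single i0 (u i0)⁻¹ + Pi.single i 1, ?_, ?_, ?_⟩
      · intro x hx
        rw [add_dotProduct, single_dotProduct, single_dotProduct, hx i0 hi0, hx i hi]
        simp
      · rw [add_dotProduct, single_dotProduct, single_dotProduct, hui, inv_mul_cancel₀ hui0]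
        simp
      · rw [add_dotProduct, single_dotProduct, single_dotProduct]
        simp [hne]
    · refine ⟨Pi.single i (u i)⁻¹, ?_, ?_, ?_⟩
      · intro x hx
        rw [single_dotProduct, hx i hi, mul_zero]
      · rw [single_dotProduct, inv_mul_cancel₀ hui]
      · rw [single_dotProduct]
        simp [hui]
  set v : Fin n → F := Pi.single i 1 - u with hv
  set M : Matrix (Fin n) (Fin n) F := 1 + Matrix.vecMulVec v φ with hM
  have hMx : ∀ x : Fin n → F, M *ᵥ x = x + (φ ⬝ᵥ x) • v := by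
    intro x
    rw [hM, Matrix.add_mulVec, Matrix.one_mulVec, Matrix.vecMulVec_mulVec]
    congr 1
    ext a
    simp [mul_comm]
  have hdet : M.det ≠ 0 := by
    rw [hM, Cfsg.Agent.Helper28.det_one_add_vecMulVec, hv, dotProduct_sub, hφu]
    simpa using hφi
  refine ⟨Matrix.GeneralLinearGroup.mkOfDetNeZero M hdet, ?_, ?_⟩
  · apply mem_stab_of_forall
    intro x hx
    show M *ᵥ x ∈ Ec F n k
    rw [hMx, hφE x hx, zero_smul, add_zero]
    exact hx
  · show M *ᵥ u = Pi.single i 1
    rw [hMx, hφu, one_smul, hv]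
    abel

theorem result {F : Type*} [Field F] [Finite F] (n k : ℕ) (hk0 : 0 < k) (hkn : k < n) : IsCoatom (Cfsg.stabilizing (Cfsg.glToMat (Fin n) F) {v : Fin n → F | ∀ i : Fin n, k ≤ (i : ℕ) → v i = 0}) := by
  classical
  change IsCoatom (Cfsg.stabilizing (Cfsg.glToMat (Fin n) F) (Ec F n k : Set (Fin n → F)))
  constructor
  · have htop : Ec F n k ≠ ⊤ := by
      have := Ec_lt (F := F) (n := n) k n hkn (le_refl _)
      intro h
      rw [h] at this
      exact not_top_lt this
    obtain ⟨t, _, ht⟩ := exists_sl_not_stab (Ec F n k) (Ec_ne_bot k hk0 hkn.le) htop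
    intro h
    apply ht
    show t ∈ Cfsg.stabilizing (Cfsg.glToMat (Fin n) F) (Ec F n k : Set (Fin n → F))
    rw [h]
    trivial
  · intro H hPH
    obtain ⟨h0, h0H, h0P⟩ := SetLike.exists_of_lt hPH
    obtain ⟨e, heE, hue⟩ : ∃ e ∈ Ec F n k,
        (h0 : Matrix (Fin n) (Fin n) F) *ᵥ e ∉ Ec F n k := by
      by_contra hcon
      push Not at hcon
      exact h0P (mem_stab_of_forall _ _ hcon)
    have hT : ∀ (i j : Fin n) (hij : i ≠ j) (c : F), tGL i j hij c ∈ H := by
      intro i j hij c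
      by_cases hi : (i : ℕ) < k
      · exact hPH.le (tGL_mem_of_lt k i j hij c hi)
      by_cases hj : k ≤ (j : ℕ)
      · exact hPH.le (tGL_mem_of_ge k i j hij c hj)
      push Not at hi hj
      obtain ⟨p, hpP, hpu⟩ := exists_move k _ hue i hi
      set h := p * h0 with hh
      have hhH : h ∈ H := H.mul_mem (hPH.le hpP) h0H
      have hhe : (h : Matrix (Fin n) (Fin n) F) *ᵥ e = Pi.single i 1 := by
        rw [hh, Units.val_mul, ← Matrix.mulVec_mulVec, hpu]
      have hinv : ((h⁻¹ : Matrix.GeneralLinearGroup (Fin n) F) : Matrix (Fin n) (Fin n) F) *ᵥ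
          (Pi.single i 1 : Fin n → F) = e := by
        rw [← hhe, Matrix.mulVec_mulVec, ← Units.val_mul, inv_mul_cancel]
        simp
      have hτ : h⁻¹ * tGL i j hij c * h ∈
          Cfsg.stabilizing (Cfsg.glToMat (Fin n) F) (Ec F n k : Set (Fin n → F)) := by
        apply mem_stab_of_forall
        intro x hx
        have e1 : ((h⁻¹ * tGL i j hij c * h : Matrix.GeneralLinearGroup (Fin n) F) :
            Matrix (Fin n) (Fin n) F) *ᵥ x =
            x + (c * ((h : Matrix (Fin n) (Fin n) F) *ᵥ x) j) • e := by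
          rw [Units.val_mul, Units.val_mul, ← Matrix.mulVec_mulVec, ← Matrix.mulVec_mulVec,
            tGL_mulVec, Matrix.mulVec_add, Matrix.mulVec_smul, hinv, Matrix.mulVec_mulVec,
            ← Units.val_mul, inv_mul_cancel]
          simp
        rw [e1]
        exact (Ec F n k).add_mem hx ((Ec F n k).smul_mem _ heE)
      have e2 : tGL i j hij c = h * (h⁻¹ * tGL i j hij c * h) * h⁻¹ := by group
      rw [e2]
      exact H.mul_mem (H.mul_mem hhH (hPH.le hτ)) (H.inv_mem hhH)
    have hD : ∀ (D : Fin n → F) (hD : (Matrix.diagonal D).det ≠ 0),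
        Matrix.GeneralLinearGroup.mkOfDetNeZero (Matrix.diagonal D) hD ∈ H := by
      intro D hD
      apply hPH.le
      apply mem_stab_of_forall
      intro x hx a ha
      show (Matrix.diagonal D *ᵥ x) a = 0
      rw [Matrix.mulVec_diagonal, hx a ha, mul_zero]
    rw [eq_top_iff]
    intro g _
    obtain ⟨L, L', D, hg⟩ := Matrix.Pivot.exists_list_transvec_mul_diagonal_mul_list_transvec
      (g : Matrix (Fin n) (Fin n) F)
    have hL : ∀ L : List (Matrix.TransvectionStruct (Fin n) F), ∃ y ∈ H,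
        (y : Matrix (Fin n) (Fin n) F) = (L.map Matrix.TransvectionStruct.toMatrix).prod := by
      intro L
      induction L with
      | nil => exact ⟨1, H.one_mem, by simp⟩
      | cons t L ih =>
        obtain ⟨y, hy, hy'⟩ := ih
        refine ⟨tGL t.i t.j t.hij t.c * y, H.mul_mem (hT _ _ _ _) hy, ?_⟩
        rw [Units.val_mul, hy', tGL_val, List.map_cons, List.prod_cons]
        rfl
    obtain ⟨y, hy, hy'⟩ := hL L
    obtain ⟨y', hy'H, hy''⟩ := hL L'
    have hdetD : (Matrix.diagonal D).det ≠ 0 := by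
      have h1 := congrArg Matrix.det hg
      rw [Matrix.det_mul, Matrix.det_mul] at h1
      intro h0
      rw [h0, mul_zero, zero_mul] at h1
      have := (Matrix.isUnit_iff_isUnit_det (g : Matrix (Fin n) (Fin n) F)).mp ⟨g, rfl⟩
      exact this.ne_zero h1
    have e3 : g = y * Matrix.GeneralLinearGroup.mkOfDetNeZero (Matrix.diagonal D) hdetD * y' := by
      apply Units.ext
      rw [Units.val_mul, Units.val_mul, hy', hy'']
      exact hg
    rw [e3]
    exact H.mul_mem (H.mul_mem hy (hD D hdetD)) hy'H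

end Cfsg.Agent.S0772
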