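import Mathlib
import Cfsg.Statements.S0774
import Cfsg.Agent.Helper28.FormBlocks
import Cfsg.Agent.S0769

set_option autoImplicit false

namespace Cfsg.Agent.S0774

open Matrix

variable {F : Type*} [Field F] {m : ℕ}

/-- the flag subspace `⟨e_0, …, e_k⟩` -/
def Ek (F : Type*) [Field F] (m : ℕ) (k : Fin m) : Submodule F (Fin m ⊕ Fin m → F) where
  carrier := {v | (∀ i : Fin m, (k : ℕ) < (i : ℕ) → v (Sum.inl i) = 0) ∧ ∀ i : Fin m, v (Sum.inr i) = 0}
  add_mem' := by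
    rintro a b ⟨ha1, ha2⟩ ⟨hb1, hb2⟩
    exact ⟨fun i hi => by simp [ha1 i hi, hb1 i hi], fun i => by simp [ha2 i, hb2 i]⟩
  zero_mem' := ⟨fun _ _ => rfl, fun _ => rfl⟩
  smul_mem' := by
    rintro c a ⟨ha1, ha2⟩
    exact ⟨fun i hi => by simp [ha1 i hi], fun i => by simp [ha2 i]⟩

theorem mulVec_inl (g : Matrix (Fin m ⊕ Fin m) (Fin m ⊕ Fin m) F) (v : Fin m ⊕ Fin m → F)
    (i : Fin m) : (g *ᵥ v) (Sum.inl i) =
      ∑ j, g (Sum.inl i) (Sum.inl j) * v (Sum.inl j) + ∑ j, g (Sum.inl i) (Sum.inr j) * v (Sum.inr j) := by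
  rw [Matrix.mulVec, dotProduct, Fintype.sum_sum_type]

theorem mulVec_inr (g : Matrix (Fin m ⊕ Fin m) (Fin m ⊕ Fin m) F) (v : Fin m ⊕ Fin m → F)
    (i : Fin m) : (g *ᵥ v) (Sum.inr i) =
      ∑ j, g (Sum.inr i) (Sum.inl j) * v (Sum.inl j) + ∑ j, g (Sum.inr i) (Sum.inr j) * v (Sum.inr j) := by
  rw [Matrix.mulVec, dotProduct, Fintype.sum_sum_type]

/-- characterisation of the Borel subgroup -/
theorem mem_borel_iff (g : Matrix.symplecticGroup (Fin m) F) :
    g ∈ (⨅ k : Fin m, Cfsg.stabilizing (Cfsg.spToMat m F) (Ek F m k : Set (Fin m ⊕ Fin m → F))) ↔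
      (∀ i j : Fin m, (g : Matrix (Fin m ⊕ Fin m) (Fin m ⊕ Fin m) F) (Sum.inr i) (Sum.inl j) = 0) ∧
      ∀ i j : Fin m, j < i → (g : Matrix (Fin m ⊕ Fin m) (Fin m ⊕ Fin m) F) (Sum.inl i) (Sum.inl j) = 0 := by
  classical
  rw [Subgroup.mem_iInf]
  constructor
  · intro h
    have key : ∀ j : Fin m, (g : Matrix (Fin m ⊕ Fin m) (Fin m ⊕ Fin m) F) *ᵥ
        (Pi.single (Sum.inl j) 1) ∈ Ek F m j := by
      intro j
      apply (h j _).mp
      refine ⟨fun i hi => ?_, fun i => ?_⟩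
      · have : (Sum.inl i : Fin m ⊕ Fin m) ≠ Sum.inl j := by
          intro hh
          have := Sum.inl.inj hh
          rw [this] at hi
          exact lt_irrefl _ hi
        simp [Pi.single_apply, this]
      · simp [Pi.single_apply]
    refine ⟨fun i j => ?_, fun i j hij => ?_⟩
    · have := (key j).2 i
      simpa [Matrix.mulVec_single_one] using this
    · have := (key j).1 i hij
      simpa [Matrix.mulVec_single_one] using this
  · rintro ⟨h1, h2⟩ k v
    apply Cfsg.Agent.Helper28.FB.mem_iff_mulVec_mem (Ek F m k)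
      (g : Matrix (Fin m ⊕ Fin m) (Fin m ⊕ Fin m) F)
      ((g⁻¹ : Matrix.symplecticGroup (Fin m) F) : Matrix (Fin m ⊕ Fin m) (Fin m ⊕ Fin m) F)
      (congrArg Subtype.val (inv_mul_cancel g))
    rintro w ⟨hw1, hw2⟩
    refine ⟨fun i hi => ?_, fun i => ?_⟩
    · rw [mulVec_inl]
      have e1 : ∑ j, (g : Matrix (Fin m ⊕ Fin m) (Fin m ⊕ Fin m) F) (Sum.inl i) (Sum.inl j) *
          w (Sum.inl j) = 0 := by
        apply Finset.sum_eq_zero
        intro j _
        by_cases hj : (k : ℕ) < (j : ℕ)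
        · rw [hw1 j hj, mul_zero]
        · rw [h2 i j (by
            rw [Fin.lt_def]
            omega), zero_mul]
      have e2 : ∑ j, (g : Matrix (Fin m ⊕ Fin m) (Fin m ⊕ Fin m) F) (Sum.inl i) (Sum.inr j) *
          w (Sum.inr j) = 0 := by
        apply Finset.sum_eq_zero
        intro j _
        rw [hw2 j, mul_zero]
      rw [e1, e2, add_zero]
    · rw [mulVec_inr]
      have e1 : ∑ j, (g : Matrix (Fin m ⊕ Fin m) (Fin m ⊕ Fin m) F) (Sum.inr i) (Sum.inl j) *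
          w (Sum.inl j) = 0 := by
        apply Finset.sum_eq_zero
        intro j _
        rw [h1 i j, zero_mul]
      have e2 : ∑ j, (g : Matrix (Fin m ⊕ Fin m) (Fin m ⊕ Fin m) F) (Sum.inr i) (Sum.inr j) *
          w (Sum.inr j) = 0 := by
        apply Finset.sum_eq_zero
        intro j _
        rw [hw2 j, mul_zero]
      rw [e1, e2, add_zero]

/-- the symplectic condition for block upper triangular matrices -/
theorem symp_block_iff (A B D : Matrix (Fin m) (Fin m) F) :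
    fromBlocks A B 0 D ∈ Matrix.symplecticGroup (Fin m) F ↔ Aᵀ * D = 1 ∧ Dᵀ * B = Bᵀ * D := by
  rw [SymplecticGroup.mem_iff', Matrix.J, Matrix.fromBlocks_transpose, Matrix.fromBlocks_multiply,
    Matrix.fromBlocks_multiply, Matrix.fromBlocks_inj]
  simp only [Matrix.transpose_zero, Matrix.mul_zero, Matrix.zero_mul, add_zero, zero_add,
    Matrix.mul_one, Matrix.mul_neg, Matrix.neg_mul, neg_inj, true_and]
  constructor
  · rintro ⟨h1, _, h3⟩
    exact ⟨h1, by rw [← sub_eq_add_neg] at h3; exact sub_eq_zero.mp h3⟩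
  · rintro ⟨h1, h2⟩
    refine ⟨h1, ?_, ?_⟩
    · have := congrArg Matrix.transpose h1
      rw [Matrix.transpose_mul, Matrix.transpose_transpose, Matrix.transpose_one] at this
      exact this
    · rw [h2]
      simp

/-- symmetric matrices -/
abbrev Sym (F : Type*) [Field F] (m : ℕ) := {S : Matrix (Fin m) (Fin m) F // Sᵀ = S}

/-- invertible lower triangular matrices -/
abbrev Low (F : Type*) [Field F] (m : ℕ) :=
  {L : Matrix.GeneralLinearGroup (Fin m) F // ∀ i j : Fin m, i < j →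
    (L : Matrix (Fin m) (Fin m) F) i j = 0}

/-- symmetric matrices are functions on the upper triangle -/
def symEquiv (F : Type*) [Field F] (m : ℕ) :
    Sym F m ≃ ((Σ j : Fin m, Fin (j.val + 1)) → F) where
  toFun S := fun p => S.1 ⟨p.2.val, lt_of_lt_of_le p.2.2 p.1.2⟩ p.1
  invFun f := ⟨Matrix.of fun a b =>
      if h : a ≤ b then f ⟨b, ⟨a.val, Nat.lt_succ_of_le h⟩⟩
      else f ⟨a, ⟨b.val, Nat.lt_succ_of_le (le_of_lt (not_le.mp h))⟩⟩, by
    ext a b
    simp only [Matrix.transpose_apply, Matrix.of_apply]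
    by_cases h1 : a ≤ b
    · by_cases h2 : b ≤ a
      · have : a = b := le_antisymm h1 h2
        subst this
        rfl
      · rw [dif_pos h1, dif_neg h2]
    · have h2 : b ≤ a := le_of_lt (not_le.mp h1)
      rw [dif_neg h1, dif_pos h2]⟩
  left_inv := by
    rintro ⟨S, hS⟩
    apply Subtype.ext
    ext a b
    simp only [Matrix.of_apply]
    by_cases h : a ≤ b
    · rw [dif_pos h]
    · rw [dif_neg h]
      have := congrFun (congrFun hS a) b
      rw [Matrix.transpose_apply] at this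
      exact this
  right_inv := by
    intro f
    funext p
    obtain ⟨j, i⟩ := p
    have h : (⟨i.val, lt_of_lt_of_le i.2 j.2⟩ : Fin m) ≤ j := Nat.le_of_lt_succ i.2
    simp only [Matrix.of_apply]
    rw [dif_pos h]

theorem card_sym [Fintype F] {q : ℕ} (hF : Fintype.card F = q) (m : ℕ) :
    Nat.card (Sym F m) = q ^ (∑ j ∈ Finset.range m, (j + 1)) := by
  classical
  rw [Nat.card_congr (symEquiv F m), Nat.card_eq_fintype_card, Fintype.card_fun, hF,
    Fintype.card_sigma]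
  simp only [Fintype.card_fin]
  rw [Fin.sum_univ_eq_sum_range (fun j => j + 1) m]

/-- the Borel subgroup is in bijection with pairs (lower triangular, symmetric) -/
def borelEquiv (F : Type*) [Field F] (m : ℕ) :
    ↥(⨅ k : Fin m, Cfsg.stabilizing (Cfsg.spToMat m F) (Ek F m k : Set (Fin m ⊕ Fin m → F))) ≃
      Low F m × Sym F m where
  toFun g :=
    have hb := (mem_borel_iff g.1).mp g.2
    have hg : (g.1 : Matrix (Fin m ⊕ Fin m) (Fin m ⊕ Fin m) F) =
        fromBlocks (g.1 : Matrix (Fin m ⊕ Fin m) (Fin m ⊕ Fin m) F).toBlocks₁₁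
          (g.1 : Matrix (Fin m ⊕ Fin m) (Fin m ⊕ Fin m) F).toBlocks₁₂ 0
          (g.1 : Matrix (Fin m ⊕ Fin m) (Fin m ⊕ Fin m) F).toBlocks₂₂ := by
      conv_lhs => rw [← Matrix.fromBlocks_toBlocks (g.1 : Matrix (Fin m ⊕ Fin m) (Fin m ⊕ Fin m) F)]
      congr 1
      ext i j
      exact hb.1 i j
    have hs := (symp_block_iff _ _ _).mp (hg ▸ g.1.2)
    (⟨⟨(g.1 : Matrix (Fin m ⊕ Fin m) (Fin m ⊕ Fin m) F).toBlocks₁₁ᵀ,
        (g.1 : Matrix (Fin m ⊕ Fin m) (Fin m ⊕ Fin m) F).toBlocks₂₂, hs.1,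
        mul_eq_one_comm.mp hs.1⟩, fun i j hij => hb.2 j i hij⟩,
      ⟨(g.1 : Matrix (Fin m ⊕ Fin m) (Fin m ⊕ Fin m) F).toBlocks₂₂ᵀ *
        (g.1 : Matrix (Fin m ⊕ Fin m) (Fin m ⊕ Fin m) F).toBlocks₁₂, by
        rw [Matrix.transpose_mul, Matrix.transpose_transpose]
        exact hs.2.symm⟩)
  invFun p :=
    ⟨⟨fromBlocks (p.1.1 : Matrix (Fin m) (Fin m) F)ᵀ ((p.1.1 : Matrix (Fin m) (Fin m) F)ᵀ * p.2.1) 0
        ((p.1.1⁻¹ : Matrix.GeneralLinearGroup (Fin m) F) : Matrix (Fin m) (Fin m) F), by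
      rw [symp_block_iff]
      have h1 : (p.1.1 : Matrix (Fin m) (Fin m) F) *
          ((p.1.1⁻¹ : Matrix.GeneralLinearGroup (Fin m) F) : Matrix (Fin m) (Fin m) F) = 1 := by
        rw [← Units.val_mul, mul_inv_cancel, Units.val_one]
      refine ⟨by rw [Matrix.transpose_transpose]; exact h1, ?_⟩
      rw [← Matrix.mul_assoc, ← Matrix.transpose_mul, h1, Matrix.transpose_one, Matrix.one_mul,
        Matrix.transpose_mul, Matrix.transpose_transpose, p.2.2, Matrix.mul_assoc, h1,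
        Matrix.mul_one]⟩, by
      rw [mem_borel_iff]
      refine ⟨fun i j => rfl, fun i j hij => ?_⟩
      show (p.1.1 : Matrix (Fin m) (Fin m) F)ᵀ i j = 0
      rw [Matrix.transpose_apply]
      exact p.1.2 j i hij⟩
  left_inv := by
    intro g
    have hb := (mem_borel_iff g.1).mp g.2
    have hg : (g.1 : Matrix (Fin m ⊕ Fin m) (Fin m ⊕ Fin m) F) =
        fromBlocks (g.1 : Matrix (Fin m ⊕ Fin m) (Fin m ⊕ Fin m) F).toBlocks₁₁
          (g.1 : Matrix (Fin m ⊕ Fin m) (Fin m ⊕ Fin m) F).toBlocks₁₂ 0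
          (g.1 : Matrix (Fin m ⊕ Fin m) (Fin m ⊕ Fin m) F).toBlocks₂₂ := by
      conv_lhs => rw [← Matrix.fromBlocks_toBlocks (g.1 : Matrix (Fin m ⊕ Fin m) (Fin m ⊕ Fin m) F)]
      congr 1
      ext i j
      exact hb.1 i j
    have hs := (symp_block_iff _ _ _).mp (hg ▸ g.1.2)
    apply Subtype.ext
    apply Subtype.ext
    show fromBlocks ((g.1 : Matrix (Fin m ⊕ Fin m) (Fin m ⊕ Fin m) F).toBlocks₁₁ᵀ)ᵀ
      (((g.1 : Matrix (Fin m ⊕ Fin m) (Fin m ⊕ Fin m) F).toBlocks₁₁ᵀ)ᵀ *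
        ((g.1 : Matrix (Fin m ⊕ Fin m) (Fin m ⊕ Fin m) F).toBlocks₂₂ᵀ *
          (g.1 : Matrix (Fin m ⊕ Fin m) (Fin m ⊕ Fin m) F).toBlocks₁₂)) 0
      (g.1 : Matrix (Fin m ⊕ Fin m) (Fin m ⊕ Fin m) F).toBlocks₂₂ =
        (g.1 : Matrix (Fin m ⊕ Fin m) (Fin m ⊕ Fin m) F)
    have h2 : (g.1 : Matrix (Fin m ⊕ Fin m) (Fin m ⊕ Fin m) F).toBlocks₁₁ *
        (g.1 : Matrix (Fin m ⊕ Fin m) (Fin m ⊕ Fin m) F).toBlocks₂₂ᵀ = 1 := by
      have := congrArg Matrix.transpose (mul_eq_one_comm.mp hs.1)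
      rw [Matrix.transpose_mul, Matrix.transpose_transpose, Matrix.transpose_one] at this
      exact this
    rw [Matrix.transpose_transpose, ← Matrix.mul_assoc, h2, Matrix.one_mul]
    exact hg.symm
  right_inv := by
    rintro ⟨⟨L, hL⟩, ⟨S, hS⟩⟩
    apply Prod.ext
    · apply Subtype.ext
      apply Units.ext
      show ((fromBlocks (L : Matrix (Fin m) (Fin m) F)ᵀ ((L : Matrix (Fin m) (Fin m) F)ᵀ * S) 0
        ((L⁻¹ : Matrix.GeneralLinearGroup (Fin m) F) : Matrix (Fin m) (Fin m) F)).toBlocks₁₁)ᵀ =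
          (L : Matrix (Fin m) (Fin m) F)
      rw [Matrix.toBlocks_fromBlocks₁₁, Matrix.transpose_transpose]
    · apply Subtype.ext
      show ((fromBlocks (L : Matrix (Fin m) (Fin m) F)ᵀ ((L : Matrix (Fin m) (Fin m) F)ᵀ * S) 0
        ((L⁻¹ : Matrix.GeneralLinearGroup (Fin m) F) : Matrix (Fin m) (Fin m) F)).toBlocks₂₂)ᵀ *
        (fromBlocks (L : Matrix (Fin m) (Fin m) F)ᵀ ((L : Matrix (Fin m) (Fin m) F)ᵀ * S) 0
        ((L⁻¹ : Matrix.GeneralLinearGroup (Fin m) F) : Matrix (Fin m) (Fin m) F)).toBlocks₁₂ = S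
      rw [Matrix.toBlocks_fromBlocks₂₂, Matrix.toBlocks_fromBlocks₁₂, ← Matrix.mul_assoc,
        ← Matrix.transpose_mul, ← Units.val_mul, mul_inv_cancel, Units.val_one,
        Matrix.transpose_one, Matrix.one_mul]

theorem result {F : Type*} [Field F] [Fintype F] {q : ℕ} (hF : Fintype.card F = q) (m : ℕ) : Nat.card ↥(⨅ k : Fin m, Cfsg.stabilizing (Cfsg.spToMat m F) {v : Fin m ⊕ Fin m → F | (∀ i : Fin m, (k : ℕ) < (i : ℕ) → v (Sum.inl i) = 0) ∧ ∀ i : Fin m, v (Sum.inr i) = 0}) = q ^ (m ^ 2) * (q - 1) ^ m := by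
  classical
  change Nat.card ↥(⨅ k : Fin m, Cfsg.stabilizing (Cfsg.spToMat m F)
    (Ek F m k : Set (Fin m ⊕ Fin m → F))) = _
  rw [Nat.card_congr (borelEquiv F m), Nat.card_prod, card_sym hF m]
  have h1 : Nat.card (Low F m) = q ^ (m * (m - 1) / 2) * (q - 1) ^ m :=
    Cfsg.Agent.S0769.result hF m
  rw [h1]
  have h2 : ∑ j ∈ Finset.range m, (j + 1) = m * (m - 1) / 2 + m := by
    rw [Finset.sum_add_distrib, Finset.sum_range_id]
    simp
  have h3 : m * (m - 1) / 2 + (m * (m - 1) / 2 + m) = m ^ 2 := by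
    have he : 2 * (m * (m - 1) / 2) = m * (m - 1) :=
      Nat.two_mul_div_two_of_even (Nat.even_mul_pred_self m)
    rcases m with _ | k
    · simp
    · simp only [Nat.add_sub_cancel] at he ⊢
      nlinarith
  rw [h2, mul_right_comm, ← pow_add, h3]

end Cfsg.Agent.S0774
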