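import Mathlib
import Cfsg.Statements.S0776
import Cfsg.Agent.Helper28.Symp
import Cfsg.Agent.Helper28.SympFrame
import Cfsg.Agent.Helper28.FormBlocks

set_option autoImplicit false

namespace Cfsg.Agent.S0776

open Matrix Cfsg.Agent.Helper28 Cfsg.Agent.Helper28.SympFrame Cfsg.Agent.Helper28.FB

theorem mem_sp_iff {F : Type*} [Field F] {l : Type*} [Fintype l] [DecidableEq l]
    (A : Matrix (l ⊕ l) (l ⊕ l) F) : A ∈ Matrix.symplecticGroup l F ↔ IsP (Matrix.J l F) A :=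
  SymplecticGroup.mem_iff'

theorem J_neg_mul {F : Type*} [Field F] {l : Type*} [Fintype l] [DecidableEq l] :
    (-Matrix.J l F) * Matrix.J l F = 1 := by
  rw [Matrix.neg_mul, Matrix.J_squared]
  simp

theorem result {F : Type*} [Field F] (m k : ℕ) (hk : k ≤ m) (W : Submodule F (Fin m ⊕ Fin m → F)) (hWk : Module.finrank F W = 2 * k) (hW : ∀ u ∈ W, (∀ v ∈ W, Cfsg.sympForm m F u v = 0) → u = 0) : Nonempty (↥(Cfsg.stabilizing (Cfsg.spToMat m F) (W : Set (Fin m ⊕ Fin m → F))) ≃* Matrix.symplecticGroup (Fin k) F × Matrix.symplecticGroup (Fin (m - k)) F) := by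
  classical
  obtain ⟨x, y, hxW, hyW, hxx, hyy⟩ := exists_adapted_frame m k hk W hWk hW
  set Jm := Matrix.J (Fin m) F with hJm
  set Jk := Matrix.J (Fin k) F with hJk
  set Jr := Matrix.J (Fin (m - k)) F with hJr
  -- matrices
  set X : Matrix (Fin m ⊕ Fin m) (Fin k ⊕ Fin k) F := Matrix.of fun i j => x j i with hX
  set Y : Matrix (Fin m ⊕ Fin m) (Fin (m - k) ⊕ Fin (m - k)) F := Matrix.of fun i j => y j i with hY
  have hgram : ∀ {α β : Type} [Fintype α] [Fintype β] (P : Matrix (Fin m ⊕ Fin m) α F)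
      (Q : Matrix (Fin m ⊕ Fin m) β F) (a : α) (b : β),
      (Pᵀ * Jm * Q) a b = Cfsg.sympForm m F (fun i => P i a) (fun i => Q i b) := by
    intro α β _ _ P Q a b
    rw [sympForm_def, Matrix.mul_assoc, Matrix.mul_apply, dotProduct]
    apply Finset.sum_congr rfl
    intro i _
    rw [Matrix.transpose_apply]
    congr 1
  have G1 : Xᵀ * Jm * X = Jk := by
    ext a a'
    rw [hgram]
    exact hxx a a'
  have G2 : Yᵀ * Jm * Y = Jr := by
    ext b b'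
    rw [hgram]
    exact hyy b b'
  have G3 : Xᵀ * Jm * Y = 0 := by
    ext a b
    rw [hgram]
    exact hyW b _ (hxW a)
  have G4 : Yᵀ * Jm * X = 0 := by
    ext b a
    rw [hgram, sympForm_swap]
    have := hyW b _ (hxW a)
    simp only [hX, hY, Matrix.of_apply] at this ⊢
    rw [this]
    simp
  set Xs : Matrix (Fin k ⊕ Fin k) (Fin m ⊕ Fin m) F := (-Jk) * Xᵀ * Jm with hXs
  set Ys : Matrix (Fin (m - k) ⊕ Fin (m - k)) (Fin m ⊕ Fin m) F := (-Jr) * Yᵀ * Jm with hYs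
  have F1 : Xs * X = 1 := by
    rw [hXs, Matrix.mul_assoc, Matrix.mul_assoc, ← Matrix.mul_assoc Xᵀ, G1]
    exact J_neg_mul
  have F2 : Ys * Y = 1 := by
    rw [hYs, Matrix.mul_assoc, Matrix.mul_assoc, ← Matrix.mul_assoc Yᵀ, G2]
    exact J_neg_mul
  have F3 : Xs * Y = 0 := by
    rw [hXs, Matrix.mul_assoc, Matrix.mul_assoc, ← Matrix.mul_assoc Xᵀ, G3, Matrix.mul_zero]
  have F4 : Ys * X = 0 := by
    rw [hYs, Matrix.mul_assoc, Matrix.mul_assoc, ← Matrix.mul_assoc Yᵀ, G4, Matrix.mul_zero]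
  have hXv : ∀ c : Fin k ⊕ Fin k → F, X *ᵥ c = ∑ j, c j • x j := by
    intro c
    ext i
    simp only [hX, mulVec, dotProduct, of_apply, Finset.sum_apply, Pi.smul_apply, smul_eq_mul]
    apply Finset.sum_congr rfl; intro j _; ring
  have hXW : ∀ c : Fin k ⊕ Fin k → F, X *ᵥ c ∈ W := by
    intro c
    rw [hXv]
    exact W.sum_mem (fun j _ => W.smul_mem _ (hxW j))
  have hYsW : ∀ w ∈ W, Ys *ᵥ w = 0 := by
    intro w hw
    have h0 : (Yᵀ * Jm) *ᵥ w = 0 := by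
      ext b
      have : ((Yᵀ * Jm) *ᵥ w) b = Cfsg.sympForm m F (y b) w := by
        rw [sympForm_def, ← Matrix.mulVec_mulVec, Matrix.mulVec, dotProduct, dotProduct]
        apply Finset.sum_congr rfl
        intro i _
        rw [Matrix.transpose_apply]
        simp [hY, hJm]
      rw [this, sympForm_swap, hyW b w hw]
      simp
    rw [hYs, Matrix.mul_assoc, ← Matrix.mulVec_mulVec, h0, Matrix.mulVec_zero]
  set M : Matrix (Fin m ⊕ Fin m) ((Fin k ⊕ Fin k) ⊕ (Fin (m - k) ⊕ Fin (m - k))) F :=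
    Matrix.fromCols X Y with hM
  set Ms : Matrix ((Fin k ⊕ Fin k) ⊕ (Fin (m - k) ⊕ Fin (m - k))) (Fin m ⊕ Fin m) F :=
    Matrix.fromRows Xs Ys with hMs
  set J' : Matrix ((Fin k ⊕ Fin k) ⊕ (Fin (m - k) ⊕ Fin (m - k)))
      ((Fin k ⊕ Fin k) ⊕ (Fin (m - k) ⊕ Fin (m - k))) F := fromBlocks Jk 0 0 Jr with hJ'
  have F5 : Ms * M = 1 := by
    rw [hMs, hM, Matrix.fromRows_mul_fromCols, F1, F2, F3, F4, Matrix.fromBlocks_one]
  have e : (Fin m ⊕ Fin m) ≃ (Fin k ⊕ Fin k) ⊕ (Fin (m - k) ⊕ Fin (m - k)) :=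
    Fintype.equivOfCardEq (by simp only [Fintype.card_sum, Fintype.card_fin]; omega)
  have F6 : M * Ms = 1 := (Matrix.fromCols_mul_fromRows_eq_one_comm e X Y Xs Ys).mpr F5
  have hΩ : Mᵀ * Jm * M = J' := by
    rw [hM, Matrix.transpose_fromCols, Matrix.fromRows_mul, Matrix.fromRows_mul_fromCols, G1, G2, G3,
      G4]
  -- block form of the conjugate
  have hblock : ∀ G : Matrix (Fin m ⊕ Fin m) (Fin m ⊕ Fin m) F,
      Ms * G * M = fromBlocks (Xs * G * X) (Xs * G * Y) (Ys * G * X) (Ys * G * Y) := by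
    intro G
    rw [hMs, hM, Matrix.fromRows_mul, Matrix.fromRows_mul_fromCols]
  have hstab0 : ∀ g : Matrix.symplecticGroup (Fin m) F,
      g ∈ Cfsg.stabilizing (Cfsg.spToMat m F) (W : Set (Fin m ⊕ Fin m → F)) →
      Ys * (g : Matrix (Fin m ⊕ Fin m) (Fin m ⊕ Fin m) F) * X = 0 := by
    intro g hg
    apply Matrix.ext_of_mulVec_single
    intro j
    rw [← Matrix.mulVec_mulVec, ← Matrix.mulVec_mulVec, Matrix.zero_mulVec]
    apply hYsW
    exact (hg _).mp (hXW _)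
  have hdiag : ∀ g : Matrix.symplecticGroup (Fin m) F,
      g ∈ Cfsg.stabilizing (Cfsg.spToMat m F) (W : Set (Fin m ⊕ Fin m → F)) →
      Xs * (g : Matrix (Fin m ⊕ Fin m) (Fin m ⊕ Fin m) F) * Y = 0 ∧
        IsP Jk (Xs * (g : Matrix (Fin m ⊕ Fin m) (Fin m ⊕ Fin m) F) * X) ∧
        IsP Jr (Ys * (g : Matrix (Fin m ⊕ Fin m) (Fin m ⊕ Fin m) F) * Y) ∧
        Ms * (g : Matrix (Fin m ⊕ Fin m) (Fin m ⊕ Fin m) F) * M =
          fromBlocks (Xs * (g : Matrix (Fin m ⊕ Fin m) (Fin m ⊕ Fin m) F) * X) 0 0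
            (Ys * (g : Matrix (Fin m ⊕ Fin m) (Fin m ⊕ Fin m) F) * Y) := by
    intro g hgS
    have h1 := isP_conj Jm J' M Ms F6 hΩ _ ((mem_sp_iff _).mp g.2)
    rw [hblock, hstab0 g hgS] at h1
    obtain ⟨hB0, hA, hD⟩ := isP_upper Jk (-Jk) J_neg_mul Jr _ _ _ h1
    refine ⟨hB0, hA, hD, ?_⟩
    rw [hblock, hstab0 g hgS, hB0]
  -- the inverse construction
  have hinvS : ∀ (A : Matrix (Fin k ⊕ Fin k) (Fin k ⊕ Fin k) F)
      (D : Matrix (Fin (m - k) ⊕ Fin (m - k)) (Fin (m - k) ⊕ Fin (m - k)) F),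
      IsP Jk A → IsP Jr D → IsP Jm (M * fromBlocks A 0 0 D * Ms) := by
    intro A D hA hD
    exact isP_conj' Jm J' M Ms F6 hΩ _ (isP_blocks Jk Jr A D hA hD)
  have hinvW : ∀ (A : Matrix (Fin k ⊕ Fin k) (Fin k ⊕ Fin k) F)
      (D : Matrix (Fin (m - k) ⊕ Fin (m - k)) (Fin (m - k) ⊕ Fin (m - k)) F),
      ∀ w ∈ W, (M * fromBlocks A 0 0 D * Ms) *ᵥ w ∈ W := by
    intro A D w hw
    have e1 : M * fromBlocks A 0 0 D * Ms = X * A * Xs + Y * D * Ys := by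
      rw [hM, hMs, Matrix.fromCols_mul_fromBlocks, Matrix.fromCols_mul_fromRows]
      simp
    rw [e1, Matrix.add_mulVec, ← Matrix.mulVec_mulVec (M := Y * D), hYsW w hw, Matrix.mulVec_zero,
      add_zero, ← Matrix.mulVec_mulVec, ← Matrix.mulVec_mulVec]
    exact hXW _
  have hinvStab : ∀ (A : Matrix.symplecticGroup (Fin k) F)
      (D : Matrix.symplecticGroup (Fin (m - k)) F)
      (hmem : M * fromBlocks (A : Matrix (Fin k ⊕ Fin k) (Fin k ⊕ Fin k) F) 0 0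
        (D : Matrix (Fin (m - k) ⊕ Fin (m - k)) (Fin (m - k) ⊕ Fin (m - k)) F) * Ms ∈
          Matrix.symplecticGroup (Fin m) F),
      (⟨_, hmem⟩ : Matrix.symplecticGroup (Fin m) F) ∈
        Cfsg.stabilizing (Cfsg.spToMat m F) (W : Set (Fin m ⊕ Fin m → F)) := by
    intro A D hmem v
    show v ∈ W ↔ (M * fromBlocks (A : Matrix (Fin k ⊕ Fin k) (Fin k ⊕ Fin k) F) 0 0
        (D : Matrix (Fin (m - k) ⊕ Fin (m - k)) (Fin (m - k) ⊕ Fin (m - k)) F) * Ms) *ᵥ v ∈ W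
    apply mem_iff_mulVec_mem W _
      (M * fromBlocks ((A⁻¹ : Matrix.symplecticGroup (Fin k) F) :
          Matrix (Fin k ⊕ Fin k) (Fin k ⊕ Fin k) F) 0 0
        ((D⁻¹ : Matrix.symplecticGroup (Fin (m - k)) F) :
          Matrix (Fin (m - k) ⊕ Fin (m - k)) (Fin (m - k) ⊕ Fin (m - k)) F) * Ms) _ (hinvW _ _)
    have hA1 : ((A⁻¹ : Matrix.symplecticGroup (Fin k) F) :
        Matrix (Fin k ⊕ Fin k) (Fin k ⊕ Fin k) F) * (A : Matrix (Fin k ⊕ Fin k) (Fin k ⊕ Fin k) F)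
        = 1 := by
      exact congrArg Subtype.val (inv_mul_cancel A)
    have hD1 : ((D⁻¹ : Matrix.symplecticGroup (Fin (m - k)) F) :
        Matrix (Fin (m - k) ⊕ Fin (m - k)) (Fin (m - k) ⊕ Fin (m - k)) F) *
        (D : Matrix (Fin (m - k) ⊕ Fin (m - k)) (Fin (m - k) ⊕ Fin (m - k)) F) = 1 := by
      exact congrArg Subtype.val (inv_mul_cancel D)
    calc _ = M * (fromBlocks ((A⁻¹ : Matrix.symplecticGroup (Fin k) F) :
          Matrix (Fin k ⊕ Fin k) (Fin k ⊕ Fin k) F) 0 0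
        ((D⁻¹ : Matrix.symplecticGroup (Fin (m - k)) F) :
          Matrix (Fin (m - k) ⊕ Fin (m - k)) (Fin (m - k) ⊕ Fin (m - k)) F) * (Ms * M) *
          fromBlocks (A : Matrix (Fin k ⊕ Fin k) (Fin k ⊕ Fin k) F) 0 0
        (D : Matrix (Fin (m - k) ⊕ Fin (m - k)) (Fin (m - k) ⊕ Fin (m - k)) F)) * Ms := by
          simp only [Matrix.mul_assoc]
      _ = 1 := by
          rw [F5, Matrix.mul_one, Matrix.fromBlocks_multiply]
          simp only [Matrix.mul_zero, Matrix.zero_mul, add_zero, zero_add, hA1, hD1,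
            Matrix.fromBlocks_one, Matrix.mul_one, F6]
  refine ⟨
    { toFun := fun g => (⟨_, (mem_sp_iff _).mpr (hdiag g.1 g.2).2.1⟩,
        ⟨_, (mem_sp_iff _).mpr (hdiag g.1 g.2).2.2.1⟩)
      invFun := fun p =>
        ⟨⟨M * fromBlocks (p.1 : Matrix (Fin k ⊕ Fin k) (Fin k ⊕ Fin k) F) 0 0
            (p.2 : Matrix (Fin (m - k) ⊕ Fin (m - k)) (Fin (m - k) ⊕ Fin (m - k)) F) * Ms,
          (mem_sp_iff _).mpr (hinvS _ _ ((mem_sp_iff _).mp p.1.2) ((mem_sp_iff _).mp p.2.2))⟩,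
          hinvStab p.1 p.2 _⟩
      left_inv := ?_
      right_inv := ?_
      map_mul' := ?_ }⟩
  · intro g
    apply Subtype.ext
    apply Subtype.ext
    show M * fromBlocks (Xs * (g.1 : Matrix (Fin m ⊕ Fin m) (Fin m ⊕ Fin m) F) * X) 0 0
      (Ys * (g.1 : Matrix (Fin m ⊕ Fin m) (Fin m ⊕ Fin m) F) * Y) * Ms =
        (g.1 : Matrix (Fin m ⊕ Fin m) (Fin m ⊕ Fin m) F)
    rw [← (hdiag g.1 g.2).2.2.2]
    calc M * (Ms * (g.1 : Matrix (Fin m ⊕ Fin m) (Fin m ⊕ Fin m) F) * M) * Ms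
        = (M * Ms) * (g.1 : Matrix (Fin m ⊕ Fin m) (Fin m ⊕ Fin m) F) * (M * Ms) := by
          simp only [Matrix.mul_assoc]
      _ = _ := by rw [F6, Matrix.one_mul, Matrix.mul_one]
  · rintro ⟨A, D⟩
    have key : Ms * (M * fromBlocks (A.1 : Matrix (Fin k ⊕ Fin k) (Fin k ⊕ Fin k) F) 0 0
        (D.1 : Matrix (Fin (m - k) ⊕ Fin (m - k)) (Fin (m - k) ⊕ Fin (m - k)) F) * Ms) * M
        = fromBlocks (A.1 : Matrix (Fin k ⊕ Fin k) (Fin k ⊕ Fin k) F) 0 0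
          (D.1 : Matrix (Fin (m - k) ⊕ Fin (m - k)) (Fin (m - k) ⊕ Fin (m - k)) F) := by
      calc Ms * (M * fromBlocks (A.1 : Matrix (Fin k ⊕ Fin k) (Fin k ⊕ Fin k) F) 0 0
            (D.1 : Matrix (Fin (m - k) ⊕ Fin (m - k)) (Fin (m - k) ⊕ Fin (m - k)) F) * Ms) * M
          = (Ms * M) * fromBlocks (A.1 : Matrix (Fin k ⊕ Fin k) (Fin k ⊕ Fin k) F) 0 0
            (D.1 : Matrix (Fin (m - k) ⊕ Fin (m - k)) (Fin (m - k) ⊕ Fin (m - k)) F) *
              (Ms * M) := by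
            simp only [Matrix.mul_assoc]
        _ = _ := by rw [F5, Matrix.one_mul, Matrix.mul_one]
    rw [hblock, fromBlocks_inj] at key
    apply Prod.ext
    · apply Subtype.ext
      exact key.1
    · apply Subtype.ext
      exact key.2.2.2
  · intro g g'
    have h1 := (hdiag g.1 g.2).2.2.2
    have h2 := (hdiag g'.1 g'.2).2.2.2
    have key : Ms * ((g.1 : Matrix (Fin m ⊕ Fin m) (Fin m ⊕ Fin m) F) *
          (g'.1 : Matrix (Fin m ⊕ Fin m) (Fin m ⊕ Fin m) F)) * M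
        = fromBlocks ((Xs * (g.1 : Matrix (Fin m ⊕ Fin m) (Fin m ⊕ Fin m) F) * X) *
              (Xs * (g'.1 : Matrix (Fin m ⊕ Fin m) (Fin m ⊕ Fin m) F) * X)) 0 0
            ((Ys * (g.1 : Matrix (Fin m ⊕ Fin m) (Fin m ⊕ Fin m) F) * Y) *
              (Ys * (g'.1 : Matrix (Fin m ⊕ Fin m) (Fin m ⊕ Fin m) F) * Y)) := by
      calc Ms * ((g.1 : Matrix (Fin m ⊕ Fin m) (Fin m ⊕ Fin m) F) *
              (g'.1 : Matrix (Fin m ⊕ Fin m) (Fin m ⊕ Fin m) F)) * M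
          = (Ms * (g.1 : Matrix (Fin m ⊕ Fin m) (Fin m ⊕ Fin m) F) * M) *
              (Ms * (g'.1 : Matrix (Fin m ⊕ Fin m) (Fin m ⊕ Fin m) F) * M) := by
            have : Ms * (g.1 : Matrix (Fin m ⊕ Fin m) (Fin m ⊕ Fin m) F) * M *
                (Ms * (g'.1 : Matrix (Fin m ⊕ Fin m) (Fin m ⊕ Fin m) F) * M)
                = Ms * (g.1 : Matrix (Fin m ⊕ Fin m) (Fin m ⊕ Fin m) F) * (M * Ms) *
                  (g'.1 : Matrix (Fin m ⊕ Fin m) (Fin m ⊕ Fin m) F) * M := by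
              simp only [Matrix.mul_assoc]
            rw [this, F6, Matrix.mul_one]
            simp only [Matrix.mul_assoc]
        _ = _ := by
            rw [h1, h2, fromBlocks_multiply]
            simp
    rw [hblock, fromBlocks_inj] at key
    apply Prod.ext
    · apply Subtype.ext
      exact key.1
    · apply Subtype.ext
      exact key.2.2.2

end Cfsg.Agent.S0776
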