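import Mathlib
import Cfsg.Statements.S0778

set_option autoImplicit false
open Cfsg

namespace Cfsg.Agent.S0778

open Matrix

variable {F : Type*} [Field F] {m : ℕ}

/-- the block diagonal matrix attached to an invertible `X` -/
def blk (X : Matrix.GeneralLinearGroup (Fin m) F) : Matrix (Fin m ⊕ Fin m) (Fin m ⊕ Fin m) F :=
  fromBlocks (X : Matrix (Fin m) (Fin m) F) 0 0
    ((X⁻¹ : Matrix.GeneralLinearGroup (Fin m) F) : Matrix (Fin m) (Fin m) F)ᵀ

theorem coe_mul_inv (X : Matrix.GeneralLinearGroup (Fin m) F) :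
    (X : Matrix (Fin m) (Fin m) F) * ((X⁻¹ : Matrix.GeneralLinearGroup (Fin m) F) : Matrix (Fin m) (Fin m) F) = 1 := by
  rw [← Units.val_mul, mul_inv_cancel, Units.val_one]

theorem coe_inv_mul (X : Matrix.GeneralLinearGroup (Fin m) F) :
    ((X⁻¹ : Matrix.GeneralLinearGroup (Fin m) F) : Matrix (Fin m) (Fin m) F) * (X : Matrix (Fin m) (Fin m) F) = 1 := by
  rw [← Units.val_mul, inv_mul_cancel, Units.val_one]

theorem blk_mem (X : Matrix.GeneralLinearGroup (Fin m) F) : blk X ∈ Matrix.symplecticGroup (Fin m) F := by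
  rw [SymplecticGroup.mem_iff, blk, Matrix.J, fromBlocks_transpose, fromBlocks_multiply, fromBlocks_multiply]
  simp only [Matrix.mul_zero, Matrix.zero_mul, add_zero, zero_add, Matrix.mul_one, Matrix.mul_neg,
    Matrix.transpose_zero, Matrix.transpose_transpose, Matrix.neg_mul]
  rw [coe_mul_inv, ← Matrix.transpose_mul, coe_mul_inv, Matrix.transpose_one, neg_zero]

theorem blk_mul (X Y : Matrix.GeneralLinearGroup (Fin m) F) : blk (X * Y) = blk X * blk Y := by
  simp only [blk, fromBlocks_multiply, Matrix.mul_zero, Matrix.zero_mul, add_zero, zero_add,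
    Units.val_mul, _root_.mul_inv_rev, Matrix.transpose_mul]

theorem blk_one : blk (1 : Matrix.GeneralLinearGroup (Fin m) F) = 1 := by
  simp [blk]

/-- the two coordinate subspaces -/
def WW (m : ℕ) (F : Type*) [Field F] : Set (Fin m ⊕ Fin m → F) := {v | ∀ i : Fin m, v (Sum.inr i) = 0}
def UU (m : ℕ) (F : Type*) [Field F] : Set (Fin m ⊕ Fin m → F) := {v | ∀ i : Fin m, v (Sum.inl i) = 0}

theorem blk_mulVec (X : Matrix.GeneralLinearGroup (Fin m) F) (v : Fin m ⊕ Fin m → F) :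
    blk X *ᵥ v = Sum.elim ((X : Matrix (Fin m) (Fin m) F) *ᵥ (v ∘ Sum.inl))
      (((X⁻¹ : Matrix.GeneralLinearGroup (Fin m) F) : Matrix (Fin m) (Fin m) F)ᵀ *ᵥ (v ∘ Sum.inr)) := by
  rw [blk, fromBlocks_mulVec]
  simp

theorem mulVec_eq_zero_iff (X : Matrix.GeneralLinearGroup (Fin m) F) (x : Fin m → F) :
    (X : Matrix (Fin m) (Fin m) F) *ᵥ x = 0 ↔ x = 0 := by
  constructor
  · intro h
    have := congrArg (fun y => ((X⁻¹ : Matrix.GeneralLinearGroup (Fin m) F) : Matrix (Fin m) (Fin m) F) *ᵥ y) h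
    simp only [Matrix.mulVec_mulVec, coe_inv_mul, Matrix.one_mulVec, Matrix.mulVec_zero] at this
    exact this
  · rintro rfl
    simp

theorem transpose_mulVec_eq_zero_iff (X : Matrix.GeneralLinearGroup (Fin m) F) (x : Fin m → F) :
    (X : Matrix (Fin m) (Fin m) F)ᵀ *ᵥ x = 0 ↔ x = 0 := by
  constructor
  · intro h
    have := congrArg (fun y => ((X⁻¹ : Matrix.GeneralLinearGroup (Fin m) F) : Matrix (Fin m) (Fin m) F)ᵀ *ᵥ y) h
    simp only [Matrix.mulVec_mulVec, ← Matrix.transpose_mul, coe_mul_inv, Matrix.transpose_one,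
      Matrix.one_mulVec, Matrix.mulVec_zero] at this
    exact this
  · rintro rfl
    simp

theorem blk_stab_W (X : Matrix.GeneralLinearGroup (Fin m) F) (v : Fin m ⊕ Fin m → F) :
    v ∈ WW m F ↔ blk X *ᵥ v ∈ WW m F := by
  rw [blk_mulVec]
  simp only [WW, Set.mem_setOf_eq, Sum.elim_inr]
  have h1 : (∀ i, v (Sum.inr i) = 0) ↔ v ∘ Sum.inr = 0 := by
    constructor
    · intro h; funext i; exact h i
    · intro h i; exact congrFun h i
  have h2 : (∀ i, (((X⁻¹ : Matrix.GeneralLinearGroup (Fin m) F) : Matrix (Fin m) (Fin m) F)ᵀ *ᵥ (v ∘ Sum.inr)) i = 0) ↔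
      ((X⁻¹ : Matrix.GeneralLinearGroup (Fin m) F) : Matrix (Fin m) (Fin m) F)ᵀ *ᵥ (v ∘ Sum.inr) = 0 := by
    constructor
    · intro h; funext i; exact h i
    · intro h i; exact congrFun h i
  rw [h1, h2, transpose_mulVec_eq_zero_iff]

theorem blk_stab_U (X : Matrix.GeneralLinearGroup (Fin m) F) (v : Fin m ⊕ Fin m → F) :
    v ∈ UU m F ↔ blk X *ᵥ v ∈ UU m F := by
  rw [blk_mulVec]
  simp only [UU, Set.mem_setOf_eq, Sum.elim_inl]
  have h1 : (∀ i, v (Sum.inl i) = 0) ↔ v ∘ Sum.inl = 0 := by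
    constructor
    · intro h; funext i; exact h i
    · intro h i; exact congrFun h i
  have h2 : (∀ i, ((X : Matrix (Fin m) (Fin m) F) *ᵥ (v ∘ Sum.inl)) i = 0) ↔
      (X : Matrix (Fin m) (Fin m) F) *ᵥ (v ∘ Sum.inl) = 0 := by
    constructor
    · intro h; funext i; exact h i
    · intro h i; exact congrFun h i
  rw [h1, h2, mulVec_eq_zero_iff]

/-- the subgroup in question -/
abbrev HH (m : ℕ) (F : Type*) [Field F] : Subgroup (Matrix.symplecticGroup (Fin m) F) :=
  Cfsg.stabilizing (Cfsg.spToMat m F) {v : Fin m ⊕ Fin m → F | ∀ i : Fin m, v (Sum.inr i) = 0} ⊓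
    Cfsg.stabilizing (Cfsg.spToMat m F) {v : Fin m ⊕ Fin m → F | ∀ i : Fin m, v (Sum.inl i) = 0}

/-- the homomorphism GL_m → H -/
def psi (m : ℕ) (F : Type*) [Field F] : Matrix.GeneralLinearGroup (Fin m) F →* HH m F where
  toFun X := ⟨⟨blk X, blk_mem X⟩, ⟨fun v => blk_stab_W X v, fun v => blk_stab_U X v⟩⟩
  map_one' := by
    apply Subtype.ext
    apply Subtype.ext
    exact blk_one
  map_mul' X Y := by
    apply Subtype.ext
    apply Subtype.ext
    exact blk_mul X Y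

theorem psi_injective : Function.Injective (psi m F) := by
  intro X Y h
  have h1 : blk X = blk Y := congrArg (fun z : HH m F => ((z : Matrix.symplecticGroup (Fin m) F) :
    Matrix (Fin m ⊕ Fin m) (Fin m ⊕ Fin m) F)) h
  rw [blk, blk, fromBlocks_inj] at h1
  exact Units.ext h1.1

theorem psi_surjective : Function.Surjective (psi m F) := by
  classical
  rintro ⟨⟨A, hA⟩, ⟨hW, hU⟩⟩
  have hW' : ∀ v : Fin m ⊕ Fin m → F, v ∈ WW m F ↔ A *ᵥ v ∈ WW m F := hW
  have hU' : ∀ v : Fin m ⊕ Fin m → F, v ∈ UU m F ↔ A *ᵥ v ∈ UU m F := hU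
  -- lower-left block is zero
  have h21 : A.toBlocks₂₁ = 0 := by
    ext i j
    have hmem : (Pi.single (Sum.inl j) 1 : Fin m ⊕ Fin m → F) ∈ WW m F := by
      intro i'
      simp
    have := (hW' _).1 hmem i
    rw [Matrix.mulVec_single_one] at this
    simpa [toBlocks₂₁] using this
  have h12 : A.toBlocks₁₂ = 0 := by
    ext i j
    have hmem : (Pi.single (Sum.inr j) 1 : Fin m ⊕ Fin m → F) ∈ UU m F := by
      intro i'
      simp
    have := (hU' _).1 hmem i
    rw [Matrix.mulVec_single_one] at this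
    simpa [toBlocks₁₂] using this
  have hAeq : A = fromBlocks A.toBlocks₁₁ 0 0 A.toBlocks₂₂ := by
    conv_lhs => rw [← fromBlocks_toBlocks A, h21, h12]
  have hsymp := SymplecticGroup.mem_iff.mp hA
  rw [hAeq, Matrix.J, fromBlocks_transpose, fromBlocks_multiply, fromBlocks_multiply] at hsymp
  simp only [Matrix.mul_zero, Matrix.zero_mul, add_zero, zero_add, Matrix.mul_one, Matrix.mul_neg,
    Matrix.transpose_zero, Matrix.neg_mul, fromBlocks_inj] at hsymp
  obtain ⟨-, h1, h2, -⟩ := hsymp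
  have hXY : A.toBlocks₁₁ * A.toBlocks₂₂ᵀ = 1 := by
    have := neg_injective h1
    exact this
  have hYX : A.toBlocks₂₂ᵀ * A.toBlocks₁₁ = 1 := by
    exact mul_eq_one_comm.mp hXY
  set X : Matrix.GeneralLinearGroup (Fin m) F := ⟨A.toBlocks₁₁, A.toBlocks₂₂ᵀ, hXY, hYX⟩ with hX
  refine ⟨X, ?_⟩
  apply Subtype.ext
  apply Subtype.ext
  show blk X = A
  rw [hAeq]
  simp only [blk, hX]
  congr 1

/-- The elements of Sp_2m(F) stabilising both W = ⟨e_1..e_m⟩ and U = ⟨f_1..f_m⟩ form a subgroup isomorphic to GL_m(F) (block-diagonal matrices diag(X, X^(−ᵀ)) up to the sign convention of J), for m ≥ 1 or m = 0 alike. -/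
theorem result {F : Type*} [Field F] (m : ℕ) : Nonempty (↥(Cfsg.stabilizing (Cfsg.spToMat m F) {v : Fin m ⊕ Fin m → F | ∀ i : Fin m, v (Sum.inr i) = 0} ⊓ Cfsg.stabilizing (Cfsg.spToMat m F) {v : Fin m ⊕ Fin m → F | ∀ i : Fin m, v (Sum.inl i) = 0}) ≃* Matrix.GeneralLinearGroup (Fin m) F) :=
  ⟨(MulEquiv.ofBijective (psi m F) ⟨psi_injective, psi_surjective⟩).symm⟩

end Cfsg.Agent.S0778
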