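import Mathlib
import Cfsg.Statements.S0779
import Cfsg.Agent.Helper28.Herm

set_option autoImplicit false
open Cfsg

namespace Cfsg.Agent.S0779

open Matrix Cfsg.Agent.Helper28

/-- Unitary transvections: let |F| = q², h the standard Hermitian form Σ x_i y_i^q and v ≠ 0 with h(v, v) = 0. The linear map x ↦ x + c h(x, v) v is an isometry of h if and only if c = 0 or c^(q−1) = −1. -/
theorem result {F : Type*} [Field F] [Fintype F] {q : ℕ} (hF : Fintype.card F = q ^ 2) (n : ℕ) (v : Fin n → F) (hv : v ≠ 0) (hv0 : Cfsg.hermForm n F q v v = 0) (c : F) : (∀ x y : Fin n → F, Cfsg.hermForm n F q ((Cfsg.unitaryTransvection n q v c).mulVec x) ((Cfsg.unitaryTransvection n q v c).mulVec y) = Cfsg.hermForm n F q x y) ↔ (c = 0 ∨ c ^ (q - 1) = -1) := by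
  obtain ⟨σ, hσ, hσ2⟩ := exists_frob hF
  have hq1 : 1 ≤ q := by
    rcases Nat.eq_zero_or_pos q with h | h
    · subst h
      have : 1 < Fintype.card F := Fintype.one_lt_card
      rw [hF] at this
      simp at this
    · exact h
  -- key expansion
  have key : ∀ x y : Fin n → F,
      Cfsg.hermForm n F q ((Cfsg.unitaryTransvection n q v c).mulVec x)
        ((Cfsg.unitaryTransvection n q v c).mulVec y) =
      Cfsg.hermForm n F q x y +
        (c ^ q + c) * (Cfsg.hermForm n F q x v * Cfsg.hermForm n F q v y) := by
    intro x y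
    rw [unitaryTransvection_mulVec, unitaryTransvection_mulVec, hermForm_add_left,
      hermForm_add_right σ hσ, hermForm_add_right σ hσ, hermForm_smul_left, hermForm_smul_left,
      hermForm_smul_right, hermForm_smul_right, hv0, mul_pow, hermForm_conj σ hσ hσ2 v y]
    ring
  have hcq : c ^ q + c = 0 ↔ (c = 0 ∨ c ^ (q - 1) = -1) := by
    have : c ^ q = c ^ (q - 1) * c := by
      rw [← pow_succ]; congr 1; omega
    rw [this]
    constructor
    · intro h
      have h' : (c ^ (q - 1) + 1) * c = 0 := by linear_combination h
      rcases mul_eq_zero.mp h' with h1 | h1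
      · right; linear_combination h1
      · left; exact h1
    · rintro (h | h)
      · rw [h]; simp
      · rw [h]; ring
  rw [← hcq]
  constructor
  · intro h
    -- pick i with v i ≠ 0
    obtain ⟨i, hi⟩ : ∃ i, v i ≠ 0 := by
      by_contra hcon
      push Not at hcon
      exact hv (funext hcon)
    have h1 := h (Pi.single i 1) (Pi.single i 1)
    rw [key] at h1
    have hx : Cfsg.hermForm n F q (Pi.single i 1) v = v i ^ q := by
      simp [Cfsg.hermForm, Pi.single_apply]
    have hy : Cfsg.hermForm n F q v (Pi.single i 1) = v i := by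
      simp only [Cfsg.hermForm, Pi.single_apply]
      rw [Finset.sum_eq_single i]
      · simp
      · intro j _ hj
        simp [hj, zero_pow (by omega : q ≠ 0)]
      · simp
    rw [hx, hy] at h1
    have h2 : (c ^ q + c) * (v i ^ q * v i) = 0 := by linear_combination h1
    rcases mul_eq_zero.mp h2 with h3 | h3
    · exact h3
    · exfalso
      rcases mul_eq_zero.mp h3 with h4 | h4
      · exact hi (pow_eq_zero_iff (by omega : q ≠ 0) |>.mp h4)
      · exact hi h4
  · intro h x y
    rw [key, h, zero_mul, add_zero]

end Cfsg.Agent.S0779
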