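import Mathlib
import Cfsg.Statements.S0785
import Cfsg.Agent.Helper28.Quad

set_option autoImplicit false
open Cfsg

namespace Cfsg.Agent.S0785

open Matrix Cfsg.Agent.Helper28

theorem mem_isometryGroup_iff {F : Type*} [Field F] {n : ℕ} (Q : (Fin n → F) → F)
    (g : Matrix.GeneralLinearGroup (Fin n) F) :
    g ∈ Cfsg.isometryGroup F Q ↔ ∀ x, Q ((g : Matrix (Fin n) (Fin n) F) *ᵥ x) = Q x := by
  constructor
  · intro h x
    exact h x x
  · intro h x _
    exact h x

theorem det_sq_eq_one {F : Type*} [Field F] {n : ℕ} (Q : QuadraticForm F (Fin n → F))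
    (hQ : (QuadraticMap.polarBilin Q).Nondegenerate) (A : Matrix (Fin n) (Fin n) F)
    (hA : ∀ x, Q (A *ᵥ x) = Q x) : A.det * A.det = 1 := by
  set B : LinearMap.BilinForm F (Fin n → F) := QuadraticMap.polarBilin Q with hB
  have hpol : ∀ x y, B (A *ᵥ x) (A *ᵥ y) = B x y := by
    intro x y
    simp only [hB, QuadraticMap.polarBilin_apply_apply, QuadraticMap.polar, ← Matrix.mulVec_add, hA]
  have hcomp : LinearMap.BilinForm.comp B (Matrix.toLin' A) (Matrix.toLin' A) = B := by
    apply LinearMap.ext
    intro x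
    apply LinearMap.ext
    intro y
    rw [LinearMap.BilinForm.comp_apply, Matrix.toLin'_apply, Matrix.toLin'_apply, hpol]
  have hM := congrArg LinearMap.BilinForm.toMatrix' hcomp
  rw [LinearMap.BilinForm.toMatrix'_comp, LinearMap.toMatrix'_toLin'] at hM
  have hdet := congrArg Matrix.det hM
  rw [Matrix.det_mul, Matrix.det_mul, Matrix.det_transpose] at hdet
  have hne : (LinearMap.BilinForm.toMatrix' B).det ≠ 0 := by
    rw [← Matrix.nondegenerate_iff_det_ne_zero]
    exact LinearMap.BilinForm.Nondegenerate.toMatrix' hQ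
  have : (A.det * A.det - 1) * (LinearMap.BilinForm.toMatrix' B).det = 0 := by
    linear_combination hdet
  rcases mul_eq_zero.mp this with h | h
  · exact sub_eq_zero.mp h
  · exact absurd h hne

/-- det(I) = {±1}: for a quadratic form on F^n whose polar form is non-degenerate, every element of the isometry group has determinant 1 or −1, and as soon as Q takes a non-zero value some isometry has determinant −1. -/
theorem result {F : Type*} [Field F] {n : ℕ} (Q : QuadraticForm F (Fin n → F)) (hQ : (QuadraticMap.polarBilin Q).Nondegenerate) : (∀ g : ↥(Cfsg.isometryGroup F ⇑Q), ((g : Matrix.GeneralLinearGroup (Fin n) F) : Matrix (Fin n) (Fin n) F).det = 1 ∨ ((g : Matrix.GeneralLinearGroup (Fin n) F) : Matrix (Fin n) (Fin n) F).det = -1) ∧ ((∃ v, Q v ≠ 0) → ∃ g : ↥(Cfsg.isometryGroup F ⇑Q), ((g : Matrix.GeneralLinearGroup (Fin n) F) : Matrix (Fin n) (Fin n) F).det = -1) := by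
  constructor
  · intro g
    have hg := (mem_isometryGroup_iff (⇑Q) g.1).mp g.2
    have h := det_sq_eq_one Q hQ _ hg
    exact mul_self_eq_one_iff.mp h
  · rintro ⟨v, hv⟩
    have hdet : (Cfsg.reflectionMatrix ⇑Q v).det = -1 := by
      unfold Cfsg.reflectionMatrix
      rw [sub_eq_add_neg, ← neg_smul, ← Matrix.smul_vecMulVec, det_one_add_vecMulVec,
        dotProduct_smul, polarVec_dotProduct, polar_self, smul_eq_mul]
      field_simp
      ring
    have hunit : IsUnit (Cfsg.reflectionMatrix ⇑Q v).det := by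
      rw [hdet]; exact isUnit_one.neg
    let g : Matrix.GeneralLinearGroup (Fin n) F :=
      Matrix.GeneralLinearGroup.mk'' (Cfsg.reflectionMatrix ⇑Q v) hunit
    have hgmem : g ∈ Cfsg.isometryGroup F ⇑Q := by
      rw [mem_isometryGroup_iff]
      intro x
      show Q (Cfsg.reflectionMatrix ⇑Q v *ᵥ x) = Q x
      rw [reflectionMatrix_mulVec, sub_eq_add_neg, ← neg_smul, map_add_smul,
        QuadraticMap.polar_comm (⇑Q) x v]
      field_simp
      ring
    exact ⟨⟨g, hgmem⟩, hdet⟩

end Cfsg.Agent.S0785
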