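import Cfsg.Statements.S0786
import Cfsg.Agent.Helper28.CD2
import Cfsg.Agent.Helper28.CartanDieudonne
import Cfsg.Agent.Helper28.Spin4

set_option autoImplicit false
open Cfsg

namespace Cfsg.Agent.S0786

open Cfsg.Agent.Helper28 Cfsg.Agent.Helper28.Spin Cfsg.Agent.Helper28.CD2 in
/-- Generation by reflections: if F is finite, Q is a quadratic form on F^n with non-degenerate polar form, and (|F|, n) ≠ (2, 4), then the isometry group of Q is generated by the reflections r_v, Q(v) ≠ 0. -/
theorem result {F : Type*} [Field F] [Fintype F] {n : ℕ} (Q : QuadraticForm F (Fin n → F)) (hQ : (QuadraticMap.polarBilin Q).Nondegenerate) (h : Fintype.card F ≠ 2 ∨ n ≠ 4) : Subgroup.closure {g : ↥(Cfsg.isometryGroup F ⇑Q) | ∃ v : Fin n → F, Q v ≠ 0 ∧ ((g : Matrix.GeneralLinearGroup (Fin n) F) : Matrix (Fin n) (Fin n) F) = Cfsg.reflectionMatrix ⇑Q v} = ⊤ := by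
  by_cases h2 : (2 : F) = 0
  · have := Rfl_eq_top Q h2 hQ (by simpa using h)
    exact this
  · rw [eq_top_iff]
    intro g _
    obtain ⟨L, hL⟩ := cartan_dieudonne Q h2 hQ _ (isom_apply Q g)
    have hgL : g = prodO Q L := by
      apply Subtype.ext
      apply Units.ext
      rw [hL, prodO_val]
      rfl
    rw [hgL]
    unfold prodO
    apply Subgroup.list_prod_mem
    intro x hx
    rw [List.mem_map] at hx
    obtain ⟨v, _, rfl⟩ := hx
    exact Subgroup.subset_closure ⟨v.1, v.2, rfl⟩

end Cfsg.Agent.S0786
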