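import Mathlib
import Cfsg.Statements.S0788
import Cfsg.Agent.Helper28.Spin8

set_option autoImplicit false

namespace Cfsg.Agent.S0788

open Cfsg.Agent.Helper28.Spin Cfsg.Agent.Helper28.IsoTransport

theorem cd_fin {F : Type*} [Field F] [Fintype F] (h2 : (2 : F) ≠ 0) {n : ℕ}
    (Q : QuadraticForm F (Fin n → F)) (hQ : (QuadraticMap.polarBilin Q).Nondegenerate)
    (g : ↥(Cfsg.isometryGroup F ⇑Q)) : ∃ L : List (NS Q), g = prodO Q L := by
  obtain ⟨L, hL⟩ := Cfsg.Agent.Helper28.cartan_dieudonne Q h2 hQ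
    ((g : Matrix.GeneralLinearGroup (Fin n) F) : Matrix (Fin n) (Fin n) F)
    (fun x => isom_apply Q g x)
  refine ⟨L, ?_⟩
  apply Subtype.ext
  apply Units.ext
  rw [hL, prodO_val]
  rfl

theorem result {F : Type*} [Field F] [Fintype F] (h2 : (2 : F) ≠ 0) {n : ℕ} (hn : 2 ≤ n) (Q : QuadraticForm F (Fin n → F)) (hQ : (QuadraticMap.polarBilin Q).Nondegenerate) : (Cfsg.Omega F ⇑Q).index = 4 :=
  index_Omega Q h2 hQ (by rw [Fintype.card_fin]; exact hn) (cd_fin h2 Q hQ)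

end Cfsg.Agent.S0788
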