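import Mathlib
import Cfsg.Statements.S0792
import Cfsg.Agent.Helper28.CartanDieudonne
import Cfsg.Agent.S0785

set_option autoImplicit false
open Cfsg

namespace Cfsg.Agent.S0792

open Matrix Cfsg.Agent.Helper28

variable {F : Type*} [Field F] {n : ℕ} (Q : QuadraticForm F (Fin n → F))

/-- A reflection as an element of the isometry group. -/
noncomputable def reflG (v : {v : Fin n → F // Q v ≠ 0}) : ↥(Cfsg.isometryGroup F ⇑Q) :=
  ⟨⟨Cfsg.reflectionMatrix ⇑Q v.1, Cfsg.reflectionMatrix ⇑Q v.1, refl_sq Q v.2, refl_sq Q v.2⟩, by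
    rw [Cfsg.Agent.S0785.mem_isometryGroup_iff]
    intro x
    exact refl_pres Q v.2 x⟩

theorem coe_reflG (v : {v : Fin n → F // Q v ≠ 0}) :
    ((reflG Q v : Matrix.GeneralLinearGroup (Fin n) F) : Matrix (Fin n) (Fin n) F) =
      Cfsg.reflectionMatrix ⇑Q v.1 := rfl

theorem coe_prod (L : List {v : Fin n → F // Q v ≠ 0}) :
    ((((L.map (reflG Q)).prod : ↥(Cfsg.isometryGroup F ⇑Q)) : Matrix.GeneralLinearGroup (Fin n) F) :
      Matrix (Fin n) (Fin n) F) = reflProd Q L := by
  induction L with
  | nil => simp [reflProd]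
  | cons a L ih =>
    simp only [List.map_cons, List.prod_cons, Subgroup.coe_mul, Units.val_mul, reflProd] at ih ⊢
    rw [ih, coe_reflG]

/-- the generating set of products of two reflections -/
def pairSet : Set ↥(Cfsg.isometryGroup F ⇑Q) :=
  {g | ∃ u v : Fin n → F, Q u ≠ 0 ∧ Q v ≠ 0 ∧
    ((g : Matrix.GeneralLinearGroup (Fin n) F) : Matrix (Fin n) (Fin n) F) =
      Cfsg.reflectionMatrix ⇑Q u * Cfsg.reflectionMatrix ⇑Q v}

theorem even_prod_mem (j : ℕ) : ∀ L : List {v : Fin n → F // Q v ≠ 0}, L.length = 2 * j →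
    (L.map (reflG Q)).prod ∈ Subgroup.closure (pairSet Q) := by
  induction j with
  | zero =>
    intro L hL
    have : L = [] := List.length_eq_zero_iff.mp (by omega)
    subst this
    simp
  | succ j ih =>
    intro L hL
    match L, hL with
    | a :: b :: L', hL =>
      simp only [List.length_cons] at hL
      simp only [List.map_cons, List.prod_cons]
      rw [← mul_assoc]
      apply Subgroup.mul_mem
      · apply Subgroup.subset_closure
        refine ⟨a.1, b.1, a.2, b.2, ?_⟩
        simp only [Subgroup.coe_mul, Units.val_mul, coe_reflG]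
      · exact ih L' (by omega)

theorem mem_special_iff (g : ↥(Cfsg.isometryGroup F ⇑Q)) :
    g ∈ Cfsg.specialIsometryGroup F ⇑Q ↔
      ((g : Matrix.GeneralLinearGroup (Fin n) F) : Matrix (Fin n) (Fin n) F).det = 1 := by
  unfold Cfsg.specialIsometryGroup
  rw [MonoidHom.mem_ker]
  simp only [MonoidHom.comp_apply, Subgroup.coe_subtype]
  constructor
  · intro h
    have := congrArg Units.val h
    simpa using this
  · intro h
    apply Units.ext
    simpa using h

/-- For q odd and Q with non-degenerate polar form on F^n, the determinant-one isometries form the subgroup generated by all products r_u r_v of two reflections (Q(u), Q(v) ≠ 0). -/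
theorem result {F : Type*} [Field F] [Fintype F] (h2 : (2 : F) ≠ 0) {n : ℕ} (Q : QuadraticForm F (Fin n → F)) (hQ : (QuadraticMap.polarBilin Q).Nondegenerate) : Cfsg.specialIsometryGroup F ⇑Q = Subgroup.closure {g : ↥(Cfsg.isometryGroup F ⇑Q) | ∃ u v : Fin n → F, Q u ≠ 0 ∧ Q v ≠ 0 ∧ ((g : Matrix.GeneralLinearGroup (Fin n) F) : Matrix (Fin n) (Fin n) F) = Cfsg.reflectionMatrix ⇑Q u * Cfsg.reflectionMatrix ⇑Q v} := by
  apply le_antisymm
  · intro g hg
    rw [mem_special_iff] at hg
    have hM := (Cfsg.Agent.S0785.mem_isometryGroup_iff (⇑Q) (g : Matrix.GeneralLinearGroup (Fin n) F)).mp g.2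
    obtain ⟨L, hL⟩ := cartan_dieudonne Q h2 hQ _ hM
    have hdet : ((-1 : F)) ^ L.length = 1 := by
      rw [← reflProd_det Q L, ← hL, hg]
    have hne : (-1 : F) ≠ 1 := by
      intro h
      apply h2
      linear_combination -h
    have heven : Even L.length := (neg_one_pow_eq_one_iff_even hne).mp hdet
    obtain ⟨j, hj⟩ := heven
    have hgL : g = (L.map (reflG Q)).prod := by
      apply Subtype.ext
      apply Units.ext
      rw [coe_prod, ← hL]
    rw [hgL]
    exact even_prod_mem Q j L (by omega)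
  · rw [Subgroup.closure_le]
    rintro g ⟨u, v, hu, hv, hg⟩
    show g ∈ Cfsg.specialIsometryGroup F ⇑Q
    rw [mem_special_iff, hg, Matrix.det_mul, refl_det Q hu, refl_det Q hv]
    ring

end Cfsg.Agent.S0792
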