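import Cfsg.Statements.S0787
import Cfsg.Agent.S0786
import Cfsg.Agent.S0788
import Cfsg.Agent.S0792
import Cfsg.Agent.Helper28.CD2b

set_option autoImplicit false
open Cfsg

namespace Cfsg.Agent.S0787

open Matrix Cfsg.Agent.Helper28.Spin Cfsg.Agent.Helper28.IsoTransport Cfsg.Agent.Helper28.CD2
open scoped commutatorElement

section

variable {F : Type*} [Field F] [Fintype F] {n : ℕ} (Q : QuadraticForm F (Fin n → F))

/-- squares of determinant-one isometries -/
def sqSet : Set ↥(Cfsg.isometryGroup F ⇑Q) := {y | ∃ x ∈ Cfsg.specialIsometryGroup F ⇑Q, y = x * x}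

theorem mem_special_iff (g : ↥(Cfsg.isometryGroup F ⇑Q)) :
    g ∈ Cfsg.specialIsometryGroup F ⇑Q ↔
      ((g : Matrix.GeneralLinearGroup (Fin n) F) : Matrix (Fin n) (Fin n) F).det = 1 :=
  Cfsg.Agent.S0792.mem_special_iff Q g

instance special_normal : (Cfsg.specialIsometryGroup F ⇑Q).Normal := by
  unfold Cfsg.specialIsometryGroup
  infer_instance

theorem reflO_mul_mem_special (u v : Fin n → F) (hu : Q u ≠ 0) (hv : Q v ≠ 0) :
    reflO Q u hu * reflO Q v hv ∈ Cfsg.specialIsometryGroup F ⇑Q := by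
  rw [mem_special_iff]
  show (Cfsg.reflectionMatrix ⇑Q u * Cfsg.reflectionMatrix ⇑Q v).det = 1
  rw [Matrix.det_mul, refl_det Q hu, refl_det Q hv]
  ring

/-- `Ω` lies in the normal closure of the squares of `SO` -/
theorem Omega_le_normalClosure (hQ : (QuadraticMap.polarBilin Q).Nondegenerate)
    (h : Fintype.card F ≠ 2 ∨ n ≠ 4) :
    Cfsg.Omega F ⇑Q ≤ Subgroup.normalClosure (sqSet Q) := by
  set K := Subgroup.normalClosure (sqSet Q) with hK
  set π := QuotientGroup.mk' K with hπ
  have hgen : ∀ g : ↥(Cfsg.isometryGroup F ⇑Q), g ∈ Rfl Q := by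
    intro g
    have := Cfsg.Agent.S0786.result Q hQ h
    have h2 : Rfl Q = ⊤ := this
    rw [h2]
    trivial
  have hrr : ∀ (u : Fin n → F) (hu : Q u ≠ 0), π (reflO Q u hu) * π (reflO Q u hu) = 1 := by
    intro u hu
    rw [← map_mul, reflO_mul_self, map_one]
  have h1 : ∀ (u v : Fin n → F) (hu : Q u ≠ 0) (hv : Q v ≠ 0),
      Commute (π (reflO Q u hu)) (π (reflO Q v hv)) := by
    intro u v hu hv
    have hsq : (reflO Q u hu * reflO Q v hv) * (reflO Q u hu * reflO Q v hv) ∈ K :=
      Subgroup.subset_normalClosure ⟨_, reflO_mul_mem_special Q u v hu hv, rfl⟩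
    have h3 : π ((reflO Q u hu * reflO Q v hv) * (reflO Q u hu * reflO Q v hv)) = 1 :=
      (QuotientGroup.eq_one_iff _).2 hsq
    rw [map_mul, map_mul] at h3
    set a := π (reflO Q u hu) with ha
    set b := π (reflO Q v hv) with hb
    have haa : a * a = 1 := hrr u hu
    have hbb : b * b = 1 := hrr v hv
    show a * b = b * a
    have ha' : a⁻¹ = a := inv_eq_of_mul_eq_one_left haa
    have hb' : b⁻¹ = b := inv_eq_of_mul_eq_one_left hbb
    have hab : (a * b)⁻¹ = a * b := inv_eq_of_mul_eq_one_left h3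
    calc a * b = (a * b)⁻¹ := hab.symm
      _ = b⁻¹ * a⁻¹ := _root_.mul_inv_rev a b
      _ = b * a := by rw [ha', hb']
  have h2 : ∀ (g : ↥(Cfsg.isometryGroup F ⇑Q)) (v : Fin n → F) (hv : Q v ≠ 0), Commute (π g) (π (reflO Q v hv)) := by
    intro g v hv
    have hg := hgen g
    unfold Rfl at hg
    induction hg using Subgroup.closure_induction with
    | mem x hx =>
      obtain ⟨u, hu, hx⟩ := hx
      have e : x = reflO Q u hu := Subtype.ext (Units.ext hx)
      rw [e]
      exact h1 u v hu hv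
    | one => rw [map_one]; exact Commute.one_left _
    | mul a b _ _ iha ihb => rw [map_mul]; exact Commute.mul_left iha ihb
    | inv a _ iha => rw [map_inv]; exact Commute.inv_left iha
  have h3 : ∀ g k : ↥(Cfsg.isometryGroup F ⇑Q), Commute (π g) (π k) := by
    intro g k
    have hk := hgen k
    unfold Rfl at hk
    induction hk using Subgroup.closure_induction with
    | mem x hx =>
      obtain ⟨u, hu, hx⟩ := hx
      have e : x = reflO Q u hu := Subtype.ext (Units.ext hx)
      rw [e]
      exact h2 g u hu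
    | one => rw [map_one]; exact Commute.one_right _
    | mul a b _ _ iha ihb => rw [map_mul]; exact Commute.mul_right iha ihb
    | inv a _ iha => rw [map_inv]; exact Commute.inv_right iha
  show commutator ↥(Cfsg.isometryGroup F ⇑Q) ≤ K
  rw [commutator_def, Subgroup.commutator_le]
  intro g _ k _
  rw [← QuotientGroup.eq_one_iff]
  show π ⁅g, k⁆ = 1
  rw [map_commutatorElement, commutatorElement_eq_one_iff_commute]
  exact h3 g k

theorem normalClosure_eq :
    Subgroup.normalClosure (sqSet Q) = Subgroup.closure (sqSet Q) := by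
  apply le_antisymm
  · unfold Subgroup.normalClosure
    apply Subgroup.closure_mono
    intro y hy
    rw [Group.mem_conjugatesOfSet_iff] at hy
    obtain ⟨b, ⟨x, hx, rfl⟩, hconj⟩ := hy
    rw [isConj_iff] at hconj
    obtain ⟨c, rfl⟩ := hconj
    refine ⟨c * x * c⁻¹, (special_normal Q).conj_mem x hx c, by group⟩
  · exact Subgroup.closure_le_normalClosure

theorem det_cases (hQ : (QuadraticMap.polarBilin Q).Nondegenerate)
    (g : ↥(Cfsg.isometryGroup F ⇑Q)) :
    ((g : Matrix.GeneralLinearGroup (Fin n) F) : Matrix (Fin n) (Fin n) F).det = 1 ∨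
      ((g : Matrix.GeneralLinearGroup (Fin n) F) : Matrix (Fin n) (Fin n) F).det = -1 :=
  (Cfsg.Agent.S0785.result Q hQ).1 g

theorem exists_nonsingular (hQ : (QuadraticMap.polarBilin Q).Nondegenerate) (hn : 1 ≤ n) :
    ∃ w : Fin n → F, Q w ≠ 0 := by
  by_contra hcon
  push Not at hcon
  have hzero : ∀ x : Fin n → F, x = 0 := by
    intro x
    apply hQ.1
    intro y
    show QuadraticMap.polar ⇑Q x y = 0
    unfold QuadraticMap.polar
    rw [hcon, hcon, hcon]
    simp
  have := congrFun (hzero (Pi.single ⟨0, by omega⟩ 1)) ⟨0, by omega⟩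
  simp at this

/-- index of `Ω` in `SO` -/
theorem relIndex_Omega (hn : 2 ≤ n) (hQ : (QuadraticMap.polarBilin Q).Nondegenerate)
    (h : Fintype.card F ≠ 2 ∨ n ≠ 4) :
    (Cfsg.Omega F ⇑Q).relIndex (Cfsg.specialIsometryGroup F ⇑Q) = 2 := by
  by_cases h2 : (2 : F) = 0
  · have htop : Cfsg.specialIsometryGroup F ⇑Q = ⊤ := by
      rw [eq_top_iff]
      intro g _
      rw [mem_special_iff]
      rcases det_cases Q hQ g with h1 | h1
      · exact h1
      · rw [h1]
        linear_combination -h2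
    rw [htop, Subgroup.relIndex_top_right]
    exact index_Omega Q h2 hQ (by simpa using h) ⟨⟨0, by omega⟩⟩
  · have h4 : (Cfsg.Omega F ⇑Q).index = 4 := Cfsg.Agent.S0788.result h2 hn Q hQ
    have hle : Cfsg.Omega F ⇑Q ≤ Cfsg.specialIsometryGroup F ⇑Q := by
      unfold Cfsg.specialIsometryGroup
      exact Abelianization.commutator_subset_ker _
    have hS : (Cfsg.specialIsometryGroup F ⇑Q).index = 2 := by
      obtain ⟨w, hw⟩ := exists_nonsingular Q hQ (by omega)
      rw [Subgroup.index_eq_two_iff]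
      refine ⟨reflO Q w hw, fun b => ?_⟩
      rw [mem_special_iff, mem_special_iff]
      have e : (((b * reflO Q w hw : ↥(Cfsg.isometryGroup F ⇑Q)) :
          Matrix.GeneralLinearGroup (Fin n) F) : Matrix (Fin n) (Fin n) F).det =
          ((b : Matrix.GeneralLinearGroup (Fin n) F) : Matrix (Fin n) (Fin n) F).det * (-1) := by
        show (((b : Matrix.GeneralLinearGroup (Fin n) F) : Matrix (Fin n) (Fin n) F) *
          Cfsg.reflectionMatrix ⇑Q w).det = _
        rw [Matrix.det_mul, refl_det Q hw]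
      rw [e]
      have hne : (-1 : F) ≠ 1 := by
        intro h'
        apply h2
        linear_combination -h'
      rcases det_cases Q hQ b with h1 | h1
      · right
        rw [h1]
        exact ⟨rfl, by rw [one_mul]; exact hne⟩
      · left
        rw [h1]
        exact ⟨by ring, hne⟩
    have := Subgroup.relIndex_mul_index hle
    rw [hS, h4] at this
    omega

end

/-- Existence and uniqueness of Ω: if F is finite, n ≥ 2, Q is a quadratic form on F^n with non-degenerate polar form and (|F|, n) ≠ (2, 4), then the group of isometries of determinant one has a unique subgroup of index 2. -/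
theorem result {F : Type*} [Field F] [Fintype F] {n : ℕ} (hn : 2 ≤ n) (Q : QuadraticForm F (Fin n → F)) (hQ : (QuadraticMap.polarBilin Q).Nondegenerate) (h : Fintype.card F ≠ 2 ∨ n ≠ 4) : ∃! H : Subgroup ↥(Cfsg.specialIsometryGroup F ⇑Q), H.index = 2 := by
  have hrel : ((Cfsg.Omega F ⇑Q).subgroupOf (Cfsg.specialIsometryGroup F ⇑Q)).index = 2 :=
    relIndex_Omega Q hn hQ h
  refine ⟨(Cfsg.Omega F ⇑Q).subgroupOf (Cfsg.specialIsometryGroup F ⇑Q), hrel, ?_⟩
  intro H hH
  have hle : (Cfsg.Omega F ⇑Q).subgroupOf (Cfsg.specialIsometryGroup F ⇑Q) ≤ H := by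
    intro ω hω
    have hω' : (ω : ↥(Cfsg.isometryGroup F ⇑Q)) ∈ Cfsg.Omega F ⇑Q := hω
    have h1 := Omega_le_normalClosure Q hQ h hω'
    rw [normalClosure_eq] at h1
    have himg : sqSet Q = (Cfsg.specialIsometryGroup F ⇑Q).subtype ''
        {y : ↥(Cfsg.specialIsometryGroup F ⇑Q) | ∃ x, y = x * x} := by
      ext y
      constructor
      · rintro ⟨x, hx, rfl⟩
        exact ⟨⟨x, hx⟩ * ⟨x, hx⟩, ⟨⟨x, hx⟩, rfl⟩, rfl⟩
      · rintro ⟨y', ⟨x, rfl⟩, rfl⟩
        exact ⟨x.1, x.2, rfl⟩
    rw [himg, ← MonoidHom.map_closure] at h1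
    obtain ⟨k, hk, hkω⟩ := h1
    have hkω' : k = ω := Subtype.ext hkω
    rw [← hkω']
    refine (Subgroup.closure_le H).2 ?_ hk
    rintro y ⟨x, rfl⟩
    exact Subgroup.mul_self_mem_of_index_two hH x
  have h3 := Subgroup.relIndex_mul_index hle
  rw [hH, hrel] at h3
  have h4 : ((Cfsg.Omega F ⇑Q).subgroupOf (Cfsg.specialIsometryGroup F ⇑Q)).relIndex H = 1 := by
    omega
  exact le_antisymm (Subgroup.relIndex_eq_one.1 h4) hle

end Cfsg.Agent.S0787
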