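import Mathlib
import Cfsg.Statements.S0796

set_option autoImplicit false
open Cfsg

namespace Cfsg.Agent.S0796

/-- If G is finite and acts faithfully and primitively on X, H is the stabiliser of a point, A is a normal subgroup of H whose normal closure in G is G, then for every non-trivial normal subgroup K of G the quotient G ⧸ K is isomorphic to A ⧸ B for some normal subgroup B of A. -/
theorem result {G X : Type*} [Group G] [Finite G] [MulAction G X] [FaithfulSMul G X] (hprim : MulAction.IsPreprimitive G X) (x : X) (A : Subgroup G) (hA : A ≤ MulAction.stabilizer G x) (hAn : (A.subgroupOf (MulAction.stabilizer G x)).Normal) (hgen : Subgroup.normalClosure (A : Set G) = ⊤) (K : Subgroup G) [K.Normal] (hK : K ≠ ⊥) : ∃ (B : Subgroup A) (_ : B.Normal), Nonempty (G ⧸ K ≃* A ⧸ B) := by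
  -- K acts nontrivially
  have hKfix : MulAction.fixedPoints K X ≠ Set.univ := by
    intro h
    apply hK
    rw [Subgroup.eq_bot_iff_forall]
    intro k hk
    apply FaithfulSMul.eq_of_smul_eq_smul (α := X)
    intro y
    rw [one_smul]
    have : y ∈ MulAction.fixedPoints K X := by rw [h]; trivial
    exact this ⟨k, hk⟩
  haveI : MulAction.IsPretransitive K X :=
    MulAction.IsQuasiPreprimitive.isPretransitive_of_normal hKfix
  -- K ⊔ A is normal
  have hnormal : (K ⊔ A).Normal := by
    constructor
    intro n hn g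
    -- write g = k * h with k ∈ K, h ∈ stabilizer
    obtain ⟨k, hk⟩ := MulAction.exists_smul_eq K x (g • x)
    have hh : (k : G)⁻¹ * g ∈ MulAction.stabilizer G x := by
      rw [MulAction.mem_stabilizer_iff, mul_smul, ← hk]
      show (k : G)⁻¹ • ((k : G) • x) = x
      rw [inv_smul_smul]
    set h := (k : G)⁻¹ * g with hh_def
    have hg : g = (k : G) * h := by rw [hh_def]; group
    -- conjugation by h preserves K ⊔ A
    have hconj_h : h * n * h⁻¹ ∈ K ⊔ A := by
      rw [Subgroup.mem_sup_of_normal_left] at hn ⊢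
      obtain ⟨y, hy, z, hz, rfl⟩ := hn
      refine ⟨h * y * h⁻¹, Subgroup.Normal.conj_mem inferInstance y hy h, h * z * h⁻¹, ?_, by group⟩
      have hzH : z ∈ MulAction.stabilizer G x := hA hz
      have := hAn.conj_mem ⟨z, hzH⟩ (by rwa [Subgroup.mem_subgroupOf]) ⟨h, hh⟩
      rwa [Subgroup.mem_subgroupOf] at this
    have hkmem : (k : G) ∈ K ⊔ A := Subgroup.mem_sup_left k.2
    have : g * n * g⁻¹ = (k : G) * (h * n * h⁻¹) * (k : G)⁻¹ := by rw [hg]; group
    rw [this]
    exact Subgroup.mul_mem _ (Subgroup.mul_mem _ hkmem hconj_h) (Subgroup.inv_mem _ hkmem)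
  have htop : K ⊔ A = ⊤ := by
    rw [eq_top_iff, ← hgen]
    haveI := hnormal
    exact Subgroup.normalClosure_le_normal (le_sup_right (a := K) (b := A))
  -- the map A → G/K
  let φ : A →* G ⧸ K := (QuotientGroup.mk' K).comp A.subtype
  have hφ : Function.Surjective φ := by
    intro q
    obtain ⟨g, rfl⟩ := QuotientGroup.mk'_surjective K q
    have hg : g ∈ K ⊔ A := by rw [htop]; trivial
    rw [Subgroup.mem_sup_of_normal_left] at hg
    obtain ⟨y, hy, z, hz, rfl⟩ := hg
    refine ⟨⟨z, hz⟩, ?_⟩
    show (QuotientGroup.mk' K) z = (QuotientGroup.mk' K) (y * z)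
    rw [map_mul]
    have : (QuotientGroup.mk' K) y = 1 := (QuotientGroup.eq_one_iff y).mpr hy
    rw [this, one_mul]
  exact ⟨φ.ker, inferInstance, ⟨(QuotientGroup.quotientKerEquivOfSurjective φ hφ).symm⟩⟩

end Cfsg.Agent.S0796
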