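import Mathlib
import Cfsg.Statements.S0797
import Cfsg.Agent.Helper28.Spin8
import Cfsg.Agent.Helper28.IndexTwo
import Cfsg.Agent.S0788

set_option autoImplicit false

namespace Cfsg.Agent.S0797

open Cfsg.Agent.Helper28.Spin Cfsg.Agent.Helper28.IsoTransport

theorem result {F : Type*} [Field F] [Fintype F] (h2 : (2 : F) ≠ 0) {n : ℕ} (hn : 2 ≤ n) (heven : Even n) (Q : QuadraticForm F (Fin n → F)) (hQ : (QuadraticMap.polarBilin Q).Nondegenerate) : Nat.card {H : Subgroup ↥(Cfsg.isometryGroup F ⇑Q) // H.index = 2} = 3 := by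
  have hidx := Cfsg.Agent.S0788.result h2 hn Q hQ
  rw [Cfsg.Omega, Subgroup.index_eq_card] at hidx
  haveI : Finite ↥(Cfsg.isometryGroup F ⇑Q) := inferInstance
  exact Cfsg.Agent.Helper28.card_index_two_subgroups hidx
    (abel_exp_two Q h2 (Cfsg.Agent.S0788.cd_fin h2 Q hQ))

end Cfsg.Agent.S0797
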