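import Cfsg.Statements.S0810
import Cfsg.Agent.Helper18.MinSimple4

set_option autoImplicit false
open Cfsg

namespace Cfsg.Agent.S0810

/-- PSL_2(q) is minimal simple iff q is 2^r (r prime), 3^r (r an odd prime), a prime greater than 5 congruent to 2 or 3 mod 5, or 5. -/
theorem result {F : Type*} [Field F] [Fintype F] {q : ℕ} (hF : Fintype.card F = q) : Cfsg.IsMinimalSimple (Matrix.ProjectiveSpecialLinearGroup (Fin 2) F) ↔ ((∃ r : ℕ, r.Prime ∧ q = 2 ^ r) ∨ (∃ r : ℕ, r.Prime ∧ r ≠ 2 ∧ q = 3 ^ r) ∨ (q.Prime ∧ 5 < q ∧ (q % 5 = 2 ∨ q % 5 = 3)) ∨ q = 5) := by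
  classical
  obtain ⟨p, hchar⟩ := CharP.exists F
  have hpp : p.Prime := CharP.char_is_prime F p
  haveI : Fact p.Prime := ⟨hpp⟩
  obtain ⟨n0, -, hn0⟩ := FiniteField.card F p
  obtain ⟨n, hn⟩ : ∃ n : ℕ, n = (n0 : ℕ) := ⟨_, rfl⟩
  rw [← hn] at hn0
  have hn1 : 1 ≤ n := by rw [hn]; exact n0.pos
  clear hn
  have hq : q = p ^ n := by rw [← hF, hn0]
  have hpq : p ∣ q := by rw [hq]; exact dvd_pow_self p (by omega)
  have hq1 : 1 ≤ q := by rw [hq]; exact Nat.one_le_pow _ _ hpp.pos
  constructor
  · rintro ⟨hsimple, hncomm, hsub⟩
    by_contra hlist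
    push Not at hlist
    obtain ⟨hl1, hl2, hl3, hl4⟩ := hlist
    by_cases h4 : 4 ≤ q
    · have key : ∃ H : Subgroup (Matrix.ProjectiveSpecialLinearGroup (Fin 2) F),
          H ≠ ⊤ ∧ ¬ Group.IsSolvable H := by
        by_cases hp2 : p = 2
        · subst hp2
          have hnp : ¬ n.Prime := fun h => hl1 n h hq
          have hn2 : 2 ≤ n := by
            by_contra hlt
            have : n = 1 := by omega
            rw [this, pow_one] at hq
            omega
          obtain ⟨a, han, ha2, halt⟩ := Nat.exists_dvd_of_not_prime2 hn2 hnp
          letI : Fintype (GaloisField 2 a) := Fintype.ofFinite _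
          have hcK : Fintype.card (GaloisField 2 a) = 2 ^ a := by
            rw [← Nat.card_eq_fintype_card]; exact GaloisField.card 2 a (by omega)
          obtain ⟨b, hb⟩ := han
          have hb1 : 1 ≤ b := by
            rcases Nat.eq_zero_or_pos b with h | h
            · rw [h, mul_zero] at hb; omega
            · exact h
          obtain ⟨ι⟩ := Cfsg.Agent.S0805.exists_ringHom_of_card_pow (K := GaloisField 2 a)
            (F := F) (m := b) hb1 (by rw [hcK, ← pow_mul, ← hb, hn0])
          refine Cfsg.Agent.Helper18.MinSimple.exists_nonsolvable_even ι ?_ ?_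
          · rw [hcK]
            calc 4 = 2 ^ 2 := by norm_num
              _ ≤ 2 ^ a := Nat.pow_le_pow_right (by norm_num) ha2
          · rw [hcK, hn0]
            exact Nat.pow_lt_pow_right (by norm_num) halt
        · have hodd : Odd (Fintype.card F) :=
            Cfsg.Agent.Helper18.Dickson.odd_card_of_char p hp2
          have h2F : (2 : F) ≠ 0 := Cfsg.Agent.Helper18.Dickson.two_ne_zero_of_char (E := F) p hp2
          by_cases hp3 : p = 3
          · subst hp3
            have hn2 : 2 ≤ n := by
              by_contra hlt
              have : n = 1 := by omega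
              rw [this, pow_one] at hq
              omega
            by_cases heven : Even n
            · refine Cfsg.Agent.Helper18.MinSimple.exists_nonsolvable_A5 h2F ?_ ?_
              · rw [hF]
                apply Cfsg.Agent.Helper18.MinSimple.dvd_of_sq_mod hq1
                rw [hq]
                exact Cfsg.Agent.Helper18.MinSimple.three_pow_even_mod heven
              · rw [hn0]
                calc 7 ≤ 3 ^ 2 := by norm_num
                  _ ≤ 3 ^ n := Nat.pow_le_pow_right (by norm_num) hn2
            · have hnp : ¬ n.Prime := by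
                intro h
                apply hl2 n h _ hq
                rintro rfl
                exact heven (by decide)
              obtain ⟨a, han, ha2, halt⟩ := Nat.exists_dvd_of_not_prime2 hn2 hnp
              letI : Fintype (GaloisField 3 a) := Fintype.ofFinite _
              have hcK : Fintype.card (GaloisField 3 a) = 3 ^ a := by
                rw [← Nat.card_eq_fintype_card]; exact GaloisField.card 3 a (by omega)
              obtain ⟨b, hb⟩ := han
              have hb1 : 1 ≤ b := by
                rcases Nat.eq_zero_or_pos b with h | h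
                · rw [h, mul_zero] at hb; omega
                · exact h
              refine Cfsg.Agent.Helper18.MinSimple.exists_nonsolvable_odd hodd
                (K := GaloisField 3 a) b hb1 (by rw [hcK, ← pow_mul, ← hb, hn0]) ?_ ?_
              · rw [hcK]
                calc 4 ≤ 3 ^ 2 := by norm_num
                  _ ≤ 3 ^ a := Nat.pow_le_pow_right (by norm_num) ha2
              · rw [hcK, hn0]
                exact Nat.pow_lt_pow_right (by norm_num) halt
          · have hp5 : 5 ≤ p := by
              have := hpp.two_le
              by_contra hlt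
              have : p = 4 := by omega
              rw [this] at hpp
              exact absurd hpp (by decide)
            by_cases hn1' : n = 1
            · rw [hn1', pow_one] at hq
              subst hq
              have hq5 : q ≠ 5 := hl4
              have hq7 : 7 ≤ q := by
                by_contra hlt
                have : q = 6 := by omega
                rw [this] at hpp
                exact absurd hpp (by decide)
              have hmod0 : q % 5 ≠ 0 := by
                intro h0
                have : 5 ∣ q := Nat.dvd_of_mod_eq_zero h0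
                have := (Nat.prime_dvd_prime_iff_eq Nat.prime_five hpp).1 this
                omega
              have hmod : q % 5 = 1 ∨ q % 5 = 4 := by
                have h5 : q % 5 < 5 := Nat.mod_lt _ (by norm_num)
                have h23 := hl3 hpp (by omega)
                omega
              refine Cfsg.Agent.Helper18.MinSimple.exists_nonsolvable_A5 h2F ?_ (by rw [hF]; exact hq7)
              rw [hF]
              apply Cfsg.Agent.Helper18.MinSimple.dvd_of_sq_mod hq1
              rw [Nat.pow_mod]
              rcases hmod with h | h <;> rw [h]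
            · have hn2 : 2 ≤ n := by omega
              refine Cfsg.Agent.Helper18.MinSimple.exists_nonsolvable_odd hodd
                (K := ZMod p) n hn1 (by rw [ZMod.card, hn0]) ?_ ?_
              · rw [ZMod.card]; omega
              · rw [ZMod.card, hn0]
                calc p = p ^ 1 := (pow_one p).symm
                  _ < p ^ n := Nat.pow_lt_pow_right hpp.one_lt (by omega)
      obtain ⟨H, hH, hns⟩ := key
      exact hns (hsub H hH)
    · -- `q ∈ {2, 3}`
      have hsolv : Group.IsSolvable (Matrix.ProjectiveSpecialLinearGroup (Fin 2) F) := by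
        have hple : p ≤ q := Nat.le_of_dvd (by omega) hpq
        have hp2le := hpp.two_le
        have hq23 : q = 2 ∨ q = 3 := by omega
        rcases hq23 with h | h
        · have hp2 : p = 2 := by omega
          subst hp2
          have hc : Nat.card (Matrix.ProjectiveSpecialLinearGroup (Fin 2) F) = 6 := by
            rw [← Nat.card_congr (Cfsg.Agent.Helper11.L2E.slEquivPSL F).toEquiv,
              Cfsg.Agent.S2301.card_sl2, hF, h]
          exact Cfsg.Agent.Helper18.Order60Char.solvable_of_card_dvd_sixty
            (by rw [hc]; norm_num) (by rw [hc]; norm_num)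
        · have hp3 : p = 3 := by
            rw [h] at hpq
            exact (Nat.prime_dvd_prime_iff_eq hpp Nat.prime_three).1 hpq
          have h2F : (2 : F) ≠ 0 :=
            Cfsg.Agent.Helper18.Dickson.two_ne_zero_of_char (E := F) p (by omega)
          have hc := Cfsg.Agent.Helper18.Dickson.two_mul_card_psl (F := F) h2F
          rw [hF, h] at hc
          have hc' : Nat.card (Matrix.ProjectiveSpecialLinearGroup (Fin 2) F) = 12 := by omega
          exact Cfsg.Agent.Helper18.Order60Char.solvable_of_card_dvd_sixty
            (by rw [hc']; norm_num) (by rw [hc']; norm_num)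
      have := (IsSimpleGroup.comm_iff_isSolvable
        (G := Matrix.ProjectiveSpecialLinearGroup (Fin 2) F)).2 hsolv
      exact hncomm ⟨⟨this⟩⟩
  · intro hlist
    have h4 : 4 ≤ q := by
      rcases hlist with ⟨r, hr, rfl⟩ | ⟨r, hr, -, rfl⟩ | ⟨-, h, -⟩ | rfl
      · calc 4 = 2 ^ 2 := by norm_num
          _ ≤ 2 ^ r := Nat.pow_le_pow_right (by norm_num) hr.two_le
      · calc 4 ≤ 3 ^ 2 := by norm_num
          _ ≤ 3 ^ r := Nat.pow_le_pow_right (by norm_num) hr.two_le
      · omega
      · norm_num
    refine ⟨Matrix.ProjectiveSpecialLinearGroup.rank_two_simple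
      (by rw [Nat.card_eq_fintype_card, hF]; exact h4),
      Cfsg.Agent.Helper18.MinSimple.psl2_not_comm, ?_⟩
    intro H hH
    rcases hlist with ⟨r, hr, hqr⟩ | ⟨r, hr, hr2, hqr⟩ | ⟨hqp, hq5, hmod⟩ | hq5
    · have hp2 : p = 2 := by
        rw [hqr] at hpq
        exact (Nat.prime_dvd_prime_iff_eq hpp Nat.prime_two).1 (hpp.dvd_of_dvd_pow hpq)
      subst hp2
      exact Cfsg.Agent.Helper18.MinSimple.solvable_of_even hr (hF.trans hqr) H hH
    · have hp3 : p = 3 := by
        rw [hqr] at hpq
        exact (Nat.prime_dvd_prime_iff_eq hpp Nat.prime_three).1 (hpp.dvd_of_dvd_pow hpq)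
      subst hp3
      have h2F : (2 : F) ≠ 0 :=
        Cfsg.Agent.Helper18.Dickson.two_ne_zero_of_char (E := F) 3 (by norm_num)
      refine Cfsg.Agent.Helper18.MinSimple.solvable_of_odd 3 (by norm_num) H ?_ ?_ hH
      · intro h60
        have hdvd : Nat.card H ∣ Nat.card (Matrix.ProjectiveSpecialLinearGroup (Fin 2) F) :=
          Subgroup.card_subgroup_dvd_card H
        have hc := Cfsg.Agent.Helper18.Dickson.two_mul_card_psl (F := F) h2F
        rw [hF] at hc
        have hnd := Cfsg.Agent.Helper18.MinSimple.not_dvd_prod hq1 (by
          rw [hqr]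
          exact Cfsg.Agent.Helper18.MinSimple.three_pow_odd_mod (hr.odd_of_ne_two hr2))
        apply hnd
        rw [← hc]
        rw [h60] at hdvd
        exact dvd_trans (dvd_trans (by norm_num) hdvd) (dvd_mul_left _ 2)
      · intro K s hs hs1
        exact Cfsg.Agent.Helper18.MinSimple.subfield_three_pow hr hr2 (hF.trans hqr) K s hs hs1
    · have hpeq : p = q := (Nat.prime_dvd_prime_iff_eq hpp hqp).1 hpq
      subst hpeq
      have hp2 : p ≠ 2 := by omega
      have h2F : (2 : F) ≠ 0 :=
        Cfsg.Agent.Helper18.Dickson.two_ne_zero_of_char (E := F) p hp2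
      refine Cfsg.Agent.Helper18.MinSimple.solvable_of_odd p hp2 H ?_ ?_ hH
      · intro h60
        have hdvd : Nat.card H ∣ Nat.card (Matrix.ProjectiveSpecialLinearGroup (Fin 2) F) :=
          Subgroup.card_subgroup_dvd_card H
        have hc := Cfsg.Agent.Helper18.Dickson.two_mul_card_psl (F := F) h2F
        rw [hF] at hc
        have hnd := Cfsg.Agent.Helper18.MinSimple.not_dvd_prod hq1 hmod
        apply hnd
        rw [← hc]
        rw [h60] at hdvd
        exact dvd_trans (dvd_trans (by norm_num) hdvd) (dvd_mul_left _ 2)
      · intro K s hs hs1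
        exact Or.inl (Cfsg.Agent.Helper18.Dickson.eq_top_of_prime_field p hF K s hs)
    · have hpeq : p = q := by
        rw [hq5] at hpq ⊢
        exact (Nat.prime_dvd_prime_iff_eq hpp Nat.prime_five).1 hpq
      subst hpeq
      have hp2 : p ≠ 2 := by omega
      have h2F : (2 : F) ≠ 0 :=
        Cfsg.Agent.Helper18.Dickson.two_ne_zero_of_char (E := F) p hp2
      refine Cfsg.Agent.Helper18.MinSimple.solvable_of_odd p hp2 H ?_ ?_ hH
      · intro h60
        have hc := Cfsg.Agent.Helper18.Dickson.two_mul_card_psl (F := F) h2F
        rw [hF, hq5] at hc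
        apply hH
        apply Subgroup.eq_top_of_card_eq
        rw [h60]
        omega
      · intro K s hs hs1
        exact Or.inl (Cfsg.Agent.Helper18.Dickson.eq_top_of_prime_field p hF K s hs)

end Cfsg.Agent.S0810
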