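import Cfsg.Statements.S0811
import Cfsg.Agent.Helper18.DihEven2

set_option autoImplicit false
open Cfsg

namespace Cfsg.Agent.S0811

/-- For q ∉ {2, 7, 9}, PSL_2(q) has a maximal subgroup isomorphic to the dihedral group of order 2(q + 1)/d, d = gcd(2, q − 1). -/
theorem result {F : Type*} [Field F] [Fintype F] {q : ℕ} (hF : Fintype.card F = q) (hq : q ∉ ({2, 7, 9} : Finset ℕ)) : ∃ H : Subgroup (Matrix.ProjectiveSpecialLinearGroup (Fin 2) F), IsCoatom H ∧ Nonempty (H ≃* DihedralGroup ((q + 1) / Nat.gcd 2 (q - 1))) := by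
  classical
  obtain ⟨p, hchar⟩ := CharP.exists F
  have hpp : p.Prime := CharP.char_is_prime F p
  haveI : Fact p.Prime := ⟨hpp⟩
  obtain ⟨n, -, hn⟩ := FiniteField.card F p
  have hq2 : 2 ≤ q := by rw [← hF]; exact Fintype.one_lt_card
  simp only [Finset.mem_insert, Finset.mem_singleton, not_or] at hq
  obtain ⟨hq2', hq7, hq9⟩ := hq
  by_cases hp2 : p = 2
  · subst hp2
    have heven : Even q := by
      rw [← hF, hn]
      exact (Nat.even_pow.2 ⟨even_two, n.ne_zero⟩)
    obtain ⟨j, hj⟩ := heven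
    have h4 : 4 ≤ Fintype.card F := by rw [hF]; omega
    have hg : Nat.gcd 2 (q - 1) = 1 := by
      have : Odd (q - 1) := ⟨j - 1, by omega⟩
      exact (Nat.coprime_two_left.2 this)
    rw [hg, Nat.div_one, ← hF]
    exact Cfsg.Agent.Helper18.DihEven.exists_even_plus h4
  · obtain ⟨k, hk⟩ := Cfsg.Agent.Helper18.Dickson.odd_card_of_char (F := F) p hp2
    rw [hF] at hk
    have hg : Nat.gcd 2 (q - 1) = 2 := by
      have : q - 1 = 2 * k := by omega
      rw [this]
      exact Nat.gcd_mul_right_right k 2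
    rw [hg, ← hF]
    obtain ⟨M, hcM, ⟨e⟩⟩ := Cfsg.Agent.Helper18.Dickson.exists_dihedral_plus (F := F) p hp2
    exact ⟨M, Cfsg.Agent.Helper18.Dickson.dihedral_plus_maximal p hp2 (by rw [hF]; exact hq7)
      (by rw [hF]; exact hq9) M hcM e, ⟨e⟩⟩

end Cfsg.Agent.S0811
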