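import Mathlib
import Cfsg.Statements.S0819

set_option autoImplicit false

namespace Cfsg.Agent.S0819

/-- concrete field with four elements: `a + b ω`, `ω² = ω + 1` -/
structure F4 where
  a : Bool
  b : Bool
deriving DecidableEq, Fintype

namespace F4

instance : Zero F4 := ⟨⟨false, false⟩⟩
instance : One F4 := ⟨⟨true, false⟩⟩
instance : Add F4 := ⟨fun x y => ⟨xor x.a y.a, xor x.b y.b⟩⟩
instance : Neg F4 := ⟨fun x => x⟩
instance : Mul F4 := ⟨fun x y => ⟨xor (x.a && y.a) (x.b && y.b),
  xor (xor (x.a && y.b) (x.b && y.a)) (x.b && y.b)⟩⟩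
instance : Inv F4 := ⟨fun x => x * x⟩

instance : CommRing F4 where
  add_assoc := by decide
  zero_add := by decide
  add_zero := by decide
  nsmul := nsmulRec
  zsmul := zsmulRec
  neg_add_cancel := by decide
  add_comm := by decide
  left_distrib := by decide
  right_distrib := by decide
  zero_mul := by decide
  mul_zero := by decide
  mul_assoc := by decide
  one_mul := by decide
  mul_one := by decide
  mul_comm := by decide

instance : Field F4 where
  exists_pair_ne := ⟨0, 1, by decide⟩
  mul_inv_cancel := by decide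
  inv_zero := by decide
  nnqsmul := _
  qsmul := _

theorem card : Fintype.card F4 = 4 := by decide

end F4

/-- coefficients of `x^k` modulo `x³ = a x² + b x + c` -/
def pw {R : Type*} [CommRing R] (a b c : R) : ℕ → R × R × R
  | 0 => (0, 0, 1)
  | k+1 => ((a * (pw a b c k).1 + (pw a b c k).2.1), (b * (pw a b c k).1 + (pw a b c k).2.2),
      c * (pw a b c k).1)

theorem pw_map {R S : Type*} [CommRing R] [CommRing S] (e : R →+* S) (a b c : R) (k : ℕ) :
    pw (e a) (e b) (e c) k = (e (pw a b c k).1, e (pw a b c k).2.1, e (pw a b c k).2.2) := by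
  induction k with
  | zero => simp [pw]
  | succ k ih => simp [pw, ih]

theorem f4_check : ∀ a b : F4, ∃ k ∈ [3, 4, 5, 7],
    (pw a b 1 k).1 = 0 ∧ (pw a b 1 k).2.1 = 0 := by decide

/-- second coefficient -/
def c2 {R : Type*} [CommRing R] (M : Matrix (Fin 3) (Fin 3) R) : R :=
  M 0 0 * M 1 1 - M 0 1 * M 1 0 + (M 0 0 * M 2 2 - M 0 2 * M 2 0) + (M 1 1 * M 2 2 - M 1 2 * M 2 1)

theorem ch3 {R : Type*} [CommRing R] (M : Matrix (Fin 3) (Fin 3) R) :
    M * M * M = M.trace • (M * M) + (- c2 M) • M + M.det • (1 : Matrix (Fin 3) (Fin 3) R) := by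
  ext i j
  fin_cases i <;> fin_cases j <;>
    simp [Matrix.mul_apply, Fin.sum_univ_three, Matrix.det_fin_three, Matrix.trace_fin_three, c2] <;>
    ring

theorem pow_eq {R : Type*} [CommRing R] (M : Matrix (Fin 3) (Fin 3) R) (k : ℕ) :
    M ^ k = (pw M.trace (- c2 M) M.det k).1 • (M * M) + (pw M.trace (- c2 M) M.det k).2.1 • M
      + (pw M.trace (- c2 M) M.det k).2.2 • (1 : Matrix (Fin 3) (Fin 3) R) := by
  induction k with
  | zero => simp [pw]
  | succ k ih =>
    rw [pow_succ, ih]
    simp only [pw]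
    have h := ch3 M
    simp only [add_mul, Matrix.smul_mul, one_mul, h]
    module

theorem result {F : Type*} [Field F] [Fintype F] (hF : Fintype.card F = 4) (g : Matrix.ProjectiveSpecialLinearGroup (Fin 3) F) : orderOf g ≠ 15 := by
  intro h15
  obtain ⟨A, rfl⟩ := QuotientGroup.mk_surjective g
  have e : F ≃+* F4 := FiniteField.ringEquivOfCardEq (hF.trans F4.card.symm)
  set M : Matrix (Fin 3) (Fin 3) F := A.1 with hM
  have hdet : M.det = 1 := A.2
  obtain ⟨k, hk, h1, h2⟩ := f4_check (e M.trace) (e (- c2 M))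
  have hmap := pw_map e.toRingHom M.trace (- c2 M) 1 k
  simp only [RingEquiv.toRingHom_eq_coe, RingHom.coe_coe, map_one] at hmap
  rw [hmap] at h1 h2
  simp only at h1 h2
  have h1' : (pw M.trace (- c2 M) 1 k).1 = 0 := by simpa using h1
  have h2' : (pw M.trace (- c2 M) 1 k).2.1 = 0 := by simpa using h2
  have hpow := pow_eq M k
  rw [hdet, h1', h2'] at hpow
  simp only [zero_smul, zero_add] at hpow
  set γ := (pw M.trace (- c2 M) 1 k).2.2 with hγ
  have hγ3 : γ ^ 3 = 1 := by
    have := congrArg Matrix.det hpow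
    rw [Matrix.det_pow, hdet, one_pow, Matrix.det_smul, Matrix.det_one, mul_one] at this
    simpa using this.symm
  have hcen : A ^ k ∈ Subgroup.center (Matrix.SpecialLinearGroup (Fin 3) F) := by
    rw [Matrix.SpecialLinearGroup.mem_center_iff]
    refine ⟨γ, by simpa using hγ3, ?_⟩
    rw [Matrix.SpecialLinearGroup.coe_pow, ← hM, hpow]
    ext i j
    simp [Matrix.scalar_apply, Matrix.smul_apply, Matrix.one_apply, Matrix.diagonal_apply]
  have hone : (QuotientGroup.mk A : Matrix.ProjectiveSpecialLinearGroup (Fin 3) F) ^ k = 1 := by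
    rw [← QuotientGroup.mk_pow]
    exact (QuotientGroup.eq_one_iff _).2 hcen
  have hdvd := orderOf_dvd_of_pow_eq_one hone
  rw [h15] at hdvd
  simp only [List.mem_cons, List.mem_nil_iff, or_false] at hk
  rcases hk with rfl | rfl | rfl | rfl <;> omega

end Cfsg.Agent.S0819
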