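import Cfsg.Statements.S0820
-- import your own Cfsg.Agent.* helpers here
import Cfsg.Agent.Helper11.SLInvol

set_option autoImplicit false
open Cfsg

namespace Cfsg.Agent.S0820

open Matrix

theorem eq_zero_of_rank_eq_zero {F : Type*} [Field F] {n : ℕ} (M : Matrix (Fin n) (Fin n) F)
    (h : M.rank = 0) : M = 0 := by
  have h1 : LinearMap.range M.mulVecLin = ⊥ := by
    rw [← Submodule.finrank_eq_zero]
    exact h
  have h2 : M.mulVecLin = 0 := LinearMap.range_eq_bot.1 h1
  ext i j
  have h3 := congrFun (congrArg (fun f => f (Pi.single j 1)) h2) i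
  simpa using h3

/-- A field with four elements has characteristic 2. -/
theorem charP_two {F : Type*} [Field F] [Fintype F] (hF : Fintype.card F = 4) : CharP F 2 := by
  obtain ⟨p, hp⟩ := CharP.exists F
  obtain ⟨n, hpp, hn⟩ := FiniteField.card F p
  rw [hF] at hn
  have h1 : p ∣ 4 := by
    rw [hn]
    exact dvd_pow_self p n.ne_zero
  have h2 : p ∣ 2 ^ 2 := by norm_num; exact h1
  have h3 : p = 2 := (Nat.prime_dvd_prime_iff_eq hpp Nat.prime_two).1 (hpp.dvd_of_dvd_pow h2)
  exact h3 ▸ hp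

/-- An element of order 2 of `PSL₃(F)` (char 2, cube roots of unity: `|F| = 4`) lifts to an
involution `A` of `SL₃(F)` with `A - 1` of rank 1. -/
theorem exists_lift {F : Type*} [Field F] [Fintype F] [CharP F 2]
    (x : Matrix.ProjectiveSpecialLinearGroup (Fin 3) F) (hx : orderOf x = 2) :
    ∃ A : Matrix.SpecialLinearGroup (Fin 3) F,
      QuotientGroup.mk' (Subgroup.center (Matrix.SpecialLinearGroup (Fin 3) F)) A = x ∧
      orderOf A = 2 ∧ ((A : Matrix (Fin 3) (Fin 3) F) - 1).rank = 1 := by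
  obtain ⟨A₀, rfl⟩ := QuotientGroup.mk'_surjective _ x
  have hx2 : (QuotientGroup.mk' (Subgroup.center (Matrix.SpecialLinearGroup (Fin 3) F)) A₀) ^ 2 = 1 := by
    rw [← hx]
    exact pow_orderOf_eq_one _
  rw [← map_pow, QuotientGroup.mk'_apply, QuotientGroup.eq_one_iff] at hx2
  have hx1 : QuotientGroup.mk' (Subgroup.center (Matrix.SpecialLinearGroup (Fin 3) F)) A₀ ≠ 1 := by
    intro h
    rw [h, orderOf_one] at hx
    omega
  -- the lift `A₀ ^ 3`
  have hcube : (A₀ ^ 2) ^ 3 = 1 := by
    obtain ⟨r, hr, hr'⟩ := Matrix.SpecialLinearGroup.mem_center_iff.1 hx2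
    apply Subtype.ext
    rw [Matrix.SpecialLinearGroup.coe_pow, ← hr']
    rw [Fintype.card_fin] at hr
    rw [← map_pow, hr, map_one]
    rfl
  refine ⟨A₀ ^ 3, ?_, ?_, ?_⟩
  · rw [map_pow]
    have h3 : (QuotientGroup.mk' (Subgroup.center (Matrix.SpecialLinearGroup (Fin 3) F)) A₀) ^ 3 =
        (QuotientGroup.mk' (Subgroup.center (Matrix.SpecialLinearGroup (Fin 3) F)) A₀) ^ 2 *
        (QuotientGroup.mk' (Subgroup.center (Matrix.SpecialLinearGroup (Fin 3) F)) A₀) := by
      rw [← pow_succ]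
    rw [h3, ← map_pow, QuotientGroup.mk'_apply, (QuotientGroup.eq_one_iff _).2 hx2, one_mul]
  · have hne : A₀ ^ 3 ≠ 1 := by
      intro h
      apply hx1
      have h3 : (QuotientGroup.mk' (Subgroup.center (Matrix.SpecialLinearGroup (Fin 3) F)) A₀) ^ 3 = 1 := by
        rw [← map_pow, h, map_one]
      have h2 : (QuotientGroup.mk' (Subgroup.center (Matrix.SpecialLinearGroup (Fin 3) F)) A₀) ^ 2 = 1 := by
        rw [← map_pow, QuotientGroup.mk'_apply, (QuotientGroup.eq_one_iff _).2 hx2]
      have : (QuotientGroup.mk' (Subgroup.center (Matrix.SpecialLinearGroup (Fin 3) F)) A₀) ^ 3 =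
          (QuotientGroup.mk' (Subgroup.center (Matrix.SpecialLinearGroup (Fin 3) F)) A₀) ^ 2 *
          (QuotientGroup.mk' (Subgroup.center (Matrix.SpecialLinearGroup (Fin 3) F)) A₀) := by
        rw [← pow_succ]
      rw [this, h2, one_mul] at h3
      exact h3
    apply orderOf_eq_prime
    · rw [← pow_mul]
      rw [← pow_mul] at hcube
      exact hcube
    · exact hne
  · have hord : (A₀ ^ 3) ^ 2 = 1 := by
      rw [← pow_mul]
      rw [← pow_mul] at hcube
      exact hcube
    have hne : A₀ ^ 3 ≠ 1 := by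
      intro h
      apply hx1
      have h3 : (QuotientGroup.mk' (Subgroup.center (Matrix.SpecialLinearGroup (Fin 3) F)) A₀) ^ 3 = 1 := by
        rw [← map_pow, h, map_one]
      have h2 : (QuotientGroup.mk' (Subgroup.center (Matrix.SpecialLinearGroup (Fin 3) F)) A₀) ^ 2 = 1 := by
        rw [← map_pow, QuotientGroup.mk'_apply, (QuotientGroup.eq_one_iff _).2 hx2]
      have : (QuotientGroup.mk' (Subgroup.center (Matrix.SpecialLinearGroup (Fin 3) F)) A₀) ^ 3 =
          (QuotientGroup.mk' (Subgroup.center (Matrix.SpecialLinearGroup (Fin 3) F)) A₀) ^ 2 *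
          (QuotientGroup.mk' (Subgroup.center (Matrix.SpecialLinearGroup (Fin 3) F)) A₀) := by
        rw [← pow_succ]
      rw [this, h2, one_mul] at h3
      exact h3
    have hmat : ((A₀ ^ 3 : Matrix.SpecialLinearGroup (Fin 3) F) : Matrix (Fin 3) (Fin 3) F) *
        ((A₀ ^ 3 : Matrix.SpecialLinearGroup (Fin 3) F) : Matrix (Fin 3) (Fin 3) F) = 1 := by
      rw [pow_two] at hord
      exact congrArg Subtype.val hord
    have hsq := Cfsg.Agent.Helper11.SLInvol.sub_one_mul_self hmat
    have hle := Matrix.rank_add_rank_le_card_of_mul_eq_zero hsq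
    rw [Fintype.card_fin] at hle
    have hpos : 0 < (((A₀ ^ 3 : Matrix.SpecialLinearGroup (Fin 3) F) : Matrix (Fin 3) (Fin 3) F)
        - 1).rank := by
      rw [Nat.pos_iff_ne_zero]
      intro h0
      apply hne
      apply Subtype.ext
      have := eq_zero_of_rank_eq_zero _ h0
      exact sub_eq_zero.1 this
    omega

/-- Any two elements of order 2 of PSL_3(4) are conjugate. -/
theorem result {F : Type*} [Field F] [Fintype F] (hF : Fintype.card F = 4) (x y : Matrix.ProjectiveSpecialLinearGroup (Fin 3) F) (hx : orderOf x = 2) (hy : orderOf y = 2) : IsConj x y := by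
  have hc := charP_two hF
  obtain ⟨A, rfl, hA, hAr⟩ := exists_lift x hx
  obtain ⟨B, rfl, hB, hBr⟩ := exists_lift y hy
  have h := Cfsg.Agent.Helper11.SLInvol.sl_involution_conj A B hA hB (hAr.trans hBr.symm)
  obtain ⟨c, hc'⟩ := isConj_iff.1 h
  rw [isConj_iff]
  refine ⟨QuotientGroup.mk' _ c, ?_⟩
  rw [← map_inv, ← map_mul, ← map_mul, hc']

end Cfsg.Agent.S0820
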