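import Cfsg.Statements.S0821
import Cfsg.Agent.Helper12.InvClassC
import Cfsg.Agent.Helper12.InvClassG

set_option autoImplicit false
open Cfsg

namespace Cfsg.Agent.S0821

open Cfsg.Agent.Helper12.InvClass

/-- PSp_2m(q) ≇ PΩ_(2m+1)(q) for q odd and m ≥ 3 (they have the same order). -/
theorem result {F : Type*} [Field F] [Fintype F] (hodd : Odd (Fintype.card F)) (m : ℕ) (hm : 3 ≤ m) : IsEmpty (Cfsg.PSp m F ≃* Cfsg.POmega F (Cfsg.quadFormOdd m F)) := by
  have h2 : (2 : F) ≠ 0 := by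
    apply Ring.two_ne_zero
    intro h
    rw [FiniteField.even_card_iff_char_two] at h
    rcases hodd with ⟨k, hk⟩
    omega
  refine ⟨fun e => ?_⟩
  obtain ⟨f, hf2, hfnc⟩ := exists_involutions_POmega h2 m hm
  obtain ⟨inv, hinv1, hinv2⟩ := exists_inv_PSp (F := F) (m := m) h2 (by omega)
  have hg2 : ∀ i, orderOf (e.symm (f i)) = 2 := by
    intro i
    rw [MulEquiv.orderOf_eq]
    exact hf2 i
  have hlt : Fintype.card (Fin (m / 2 + 1)) < Fintype.card (Fin m) := by
    rw [Fintype.card_fin, Fintype.card_fin]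
    omega
  obtain ⟨i, j, hij, h⟩ := Fintype.exists_ne_map_eq_of_card_lt
    (fun i : Fin m => (⟨inv (e.symm (f i)) / 2, by
      have := (hinv1 _ (hg2 i)).2
      omega⟩ : Fin (m / 2 + 1))) hlt
  have h' : inv (e.symm (f i)) / 2 = inv (e.symm (f j)) / 2 := congrArg Fin.val h
  have heq : inv (e.symm (f i)) = inv (e.symm (f j)) := by
    obtain ⟨a, ha⟩ := (hinv1 _ (hg2 i)).1
    obtain ⟨b, hb⟩ := (hinv1 _ (hg2 j)).1
    omega
  have hconj := hinv2 _ _ (hg2 i) (hg2 j) heq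
  have hc2 := e.toMonoidHom.map_isConj hconj
  simp only [MulEquiv.toMonoidHom_eq_coe, MonoidHom.coe_coe, MulEquiv.apply_symm_apply] at hc2
  exact hij (hfnc i j hc2)

end Cfsg.Agent.S0821
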