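import Mathlib
import Cfsg.Statements.S0824
import Cfsg.Agent.Helper28.IsoTransport

set_option autoImplicit false
open Cfsg

namespace Cfsg.Agent.S0824

open Matrix Cfsg.Agent.Helper28.IsoTransport

abbrev I4 := (Fin 1 ⊕ Fin 1) ⊕ Fin 2
abbrev K := ZMod 2
abbrev QK : (I4 → K) → K := Cfsg.quadFormMinus 1 K 1 1

/-- non-zero singular vectors -/
def IsSing (v : I4 → K) : Prop := QK v = 0 ∧ v ≠ 0

instance : DecidablePred IsSing := fun v => by unfold IsSing; infer_instance

abbrev S := {v : I4 → K // IsSing v}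

set_option maxRecDepth 100000 in
theorem card_S : Fintype.card S = 5 := by decide +kernel

def polar (u v : I4 → K) : K := QK (u + v) + QK u + QK v

/-- the reflection in `a` -/
def refl (a : I4 → K) : Matrix I4 I4 K :=
  1 + Matrix.vecMulVec a (fun j => polar (Pi.single j 1) a)

set_option maxRecDepth 100000 in
set_option synthInstance.maxSize 2000 in
set_option synthInstance.maxHeartbeats 0 in
theorem refl_facts : ∀ s t : S, s ≠ t →
    refl (s.1 + t.1) * refl (s.1 + t.1) = 1 ∧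
    (∀ u, QK (Matrix.mulVec (refl (s.1 + t.1)) u) = QK u) ∧
    Matrix.mulVec (refl (s.1 + t.1)) s.1 = t.1 ∧ Matrix.mulVec (refl (s.1 + t.1)) t.1 = s.1 ∧
    ∀ u : S, u ≠ s → u ≠ t → Matrix.mulVec (refl (s.1 + t.1)) u.1 = u.1 := by
  decide +kernel

/-- value of an optional singular vector -/
def oval : Option S → (I4 → K)
  | none => 0
  | some s => s.1

set_option maxRecDepth 100000 in
set_option synthInstance.maxSize 2000 in
set_option synthInstance.maxHeartbeats 0 in
theorem span_facts : ∀ j : I4, ∃ a b c : Option S,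
    (Pi.single j 1 : I4 → K) = oval a + oval b + oval c := by
  decide +kernel

abbrev G := Cfsg.isometryGroup K QK

theorem smul_sing (g : G) (s : S) : IsSing ((g.1 : Matrix I4 I4 K) *ᵥ s.1) := by
  refine ⟨?_, ?_⟩
  · rw [(mem_isometryGroup_iff QK g.1).mp g.2 s.1]
    exact s.2.1
  · intro h0
    apply s.2.2
    have : ((g.1⁻¹ : GL I4 K) : Matrix I4 I4 K) *ᵥ ((g.1 : Matrix I4 I4 K) *ᵥ s.1) = s.1 := by
      rw [Matrix.mulVec_mulVec, ← Units.val_mul, inv_mul_cancel, Units.val_one, Matrix.one_mulVec]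
    rw [← this, h0, Matrix.mulVec_zero]

instance : MulAction G S where
  smul g s := ⟨(g.1 : Matrix I4 I4 K) *ᵥ s.1, smul_sing g s⟩
  one_smul s := by
    apply Subtype.ext
    show ((1 : G).1 : Matrix I4 I4 K) *ᵥ s.1 = s.1
    simp
  mul_smul g h s := by
    apply Subtype.ext
    show ((g * h).1 : Matrix I4 I4 K) *ᵥ s.1 = (g.1 : Matrix I4 I4 K) *ᵥ ((h.1 : Matrix I4 I4 K) *ᵥ s.1)
    rw [Matrix.mulVec_mulVec]
    rfl

theorem smul_val (g : G) (s : S) : (g • s).1 = (g.1 : Matrix I4 I4 K) *ᵥ s.1 := rfl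

abbrev Φ : G →* Equiv.Perm S := MulAction.toPermHom G S

theorem Φ_injective : Function.Injective Φ := by
  rw [injective_iff_map_eq_one]
  intro g hg
  have hfix : ∀ s : S, (g.1 : Matrix I4 I4 K) *ᵥ s.1 = s.1 := by
    intro s
    have := congrArg (fun σ : Equiv.Perm S => (σ s).1) hg
    simpa [smul_val] using this
  have hfixo : ∀ a : Option S, (g.1 : Matrix I4 I4 K) *ᵥ oval a = oval a := by
    intro a
    cases a with
    | none => simp [oval]
    | some s => exact hfix s
  apply Subtype.ext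
  apply Units.ext
  show (g.1 : Matrix I4 I4 K) = 1
  ext i j
  obtain ⟨a, b, c, habc⟩ := span_facts j
  have h1 : ((g.1 : Matrix I4 I4 K) *ᵥ (Pi.single j 1)) i = (Pi.single j 1 : I4 → K) i := by
    rw [habc, Matrix.mulVec_add, Matrix.mulVec_add, hfixo, hfixo, hfixo]
  rw [Matrix.mulVec_single_one] at h1
  rw [Matrix.one_apply]
  simpa [Pi.single_apply, eq_comm] using h1

theorem Φ_surjective : Function.Surjective Φ := by
  rw [← MonoidHom.range_eq_top, eq_top_iff, ← Equiv.Perm.closure_isSwap, Subgroup.closure_le]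
  rintro σ ⟨s, t, hst, rfl⟩
  obtain ⟨h1, h2, h3, h4, h5⟩ := refl_facts s t hst
  set g0 : GL I4 K := ⟨refl (s.1 + t.1), refl (s.1 + t.1), h1, h1⟩ with hg0
  have hg0G : g0 ∈ G := (mem_isometryGroup_iff QK g0).mpr h2
  refine ⟨⟨g0, hg0G⟩, ?_⟩
  apply Equiv.ext
  intro u
  apply Subtype.ext
  show ((⟨g0, hg0G⟩ : G) • u).1 = _
  rw [smul_val]
  show refl (s.1 + t.1) *ᵥ u.1 = _
  by_cases hus : u = s
  · rw [hus, Equiv.swap_apply_left, h3]
  · by_cases hut : u = t
    · rw [hut, Equiv.swap_apply_right, h4]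
    · rw [Equiv.swap_apply_of_ne_of_ne hus hut, h5 u hus hut]

/-- O⁻_4(2) is isomorphic to the symmetric group S_5. -/
theorem result {F : Type*} [Field F] [Fintype F] (hF : Fintype.card F = 2) : Nonempty (↥(Cfsg.isometryGroup F (Cfsg.quadFormMinus 1 F 1 1)) ≃* Equiv.Perm (Fin 5)) := by
  classical
  set e : ZMod 2 ≃+* F := ZMod.ringEquivOfPrime F Nat.prime_two hF with he
  obtain ⟨T⟩ := isometryGroup_transport (ι := I4) e QK (Cfsg.quadFormMinus 1 F 1 1) (by
    intro w
    simp only [QK, Cfsg.quadFormMinus, Function.comp_apply, map_add, map_mul, map_sum, map_pow,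
      map_one])
  have eS : S ≃ Fin 5 := Fintype.equivFinOfCardEq card_S
  exact ⟨T.symm.trans ((MulEquiv.ofBijective Φ ⟨Φ_injective, Φ_surjective⟩).trans
    eS.permCongrHom)⟩

end Cfsg.Agent.S0824
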