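import Mathlib
import Cfsg.Statements.S0826
import Cfsg.Agent.Helper28.SymEmb

set_option autoImplicit false
open Cfsg

namespace Cfsg.Agent.S0826

open Cfsg.Agent.Helper28.SymEmb

/-- For n ≥ 3 the symmetric group S_2n embeds in the symplectic group Sp_(2n−2)(2). -/
theorem result (n : ℕ) (hn : 3 ≤ n) : ∃ f : Equiv.Perm (Fin (2 * n)) →* Matrix.symplecticGroup (Fin (n - 1)) (ZMod 2), Function.Injective f := by
  obtain ⟨m, rfl⟩ : ∃ m, n = m + 1 := ⟨n - 1, by omega⟩
  have hm : 2 ≤ m := by omega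
  change ∃ f : Equiv.Perm (Fin (2 * (m + 1))) →* Matrix.symplecticGroup (Fin m) (ZMod 2),
    Function.Injective f
  haveI : NeZero m := ⟨by omega⟩
  obtain ⟨e, f, hee, hff, hef⟩ := exists_frame m
  have eΩ : Fin (2 * (m + 1)) ≃ Om m := Fintype.equivOfCardEq (by
    simp only [Fintype.card_fin, Fintype.card_option]
    ring)
  refine ⟨(emb e f hee hff hef).comp eΩ.permCongrHom.toMonoidHom, ?_⟩
  rw [MonoidHom.coe_comp]
  apply Function.Injective.comp _ eΩ.permCongrHom.injective
  rw [injective_iff_map_eq_one]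
  intro σ hσ
  exact eq_one_of_T m hm σ (T_eq_id_of_emb e f hee hff hef σ hσ)

end Cfsg.Agent.S0826
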