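import Mathlib
import Cfsg.Statements.S0828
import Cfsg.Agent.Helper28.Symp
import Cfsg.Agent.Helper28.SympFrame

set_option autoImplicit false

namespace Cfsg.Agent.S0828

open Module Submodule Cfsg.Agent.Helper28 Cfsg.Agent.Helper28.SympFrame

variable {F : Type*} [Field F] [Fintype F]

/-- The ambient 4-space. -/
abbrev V4 (F : Type*) := Fin 2 ⊕ Fin 2 → F

noncomputable instance instFintypeSubV4 : Fintype (Submodule F (V4 F)) := Fintype.ofFinite _

open Classical in
theorem card_filter_mem (W : Submodule F (V4 F)) :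
    (Finset.univ.filter (fun w : V4 F => w ∈ W)).card = Fintype.card F ^ finrank F W := by
  rw [← Module.card_eq_pow_finrank (K := F) (V := W)]
  exact (Fintype.card_of_subtype _ (by simp)).symm

theorem TI_span_pair {v w : V4 F} (h : Cfsg.sympForm 2 F v w = 0) :
    ∀ a ∈ span F {v, w}, ∀ b ∈ span F {v, w}, Cfsg.sympForm 2 F a b = 0 := by
  intro a ha b hb
  obtain ⟨a1, a2, rfl⟩ := Submodule.mem_span_pair.mp ha
  obtain ⟨b1, b2, rfl⟩ := Submodule.mem_span_pair.mp hb
  have h' : Cfsg.sympForm 2 F w v = 0 := by rw [sympForm_swap, h, neg_zero]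
  simp [sympForm_add_left, sympForm_add_right, sympForm_smul_left, sympForm_smul_right,
    sympForm_self, h, h']

theorem finrank_span_pair {v w : V4 F} (hv : v ≠ 0) (hw : w ∉ span F {v}) :
    finrank F (span F {v, w}) = 2 := by
  have hli : LinearIndependent F ![v, w] := by
    rw [LinearIndependent.pair_iff' hv]
    intro a ha
    apply hw
    rw [← ha]
    exact Submodule.smul_mem _ _ (Submodule.mem_span_singleton_self v)
  have := finrank_span_eq_card hli
  have hr : Set.range ![v, w] = {v, w} := by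
    ext z
    simp [eq_comm]
    tauto
  rw [hr] at this
  simpa using this

theorem eq_span_pair {v w : V4 F} (hv : v ≠ 0) (hw : w ∉ span F {v}) (W : Submodule F (V4 F))
    (hW : finrank F W = 2) (hvW : v ∈ W) (hwW : w ∈ W) : W = span F {v, w} := by
  symm
  apply Submodule.eq_of_le_of_finrank_eq
  · rw [Submodule.span_le]
    intro z hz
    rcases hz with rfl | rfl
    · exact hvW
    · exact hwW
  · rw [finrank_span_pair hv hw, hW]

open Classical in
/-- Counting vectors in `W` outside a subspace `U ≤ W`. -/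
theorem card_filter_diff (U W : Submodule F (V4 F)) (hUW : U ≤ W) :
    (Finset.univ.filter (fun w : V4 F => w ∈ W ∧ w ∉ U)).card + Fintype.card F ^ finrank F U
      = Fintype.card F ^ finrank F W := by
  rw [← card_filter_mem, ← card_filter_mem]
  have := Finset.card_filter_add_card_filter_not (s := Finset.univ.filter (fun w : V4 F => w ∈ W))
    (fun w => w ∈ U)
  rw [Finset.filter_filter, Finset.filter_filter] at this
  rw [← this, add_comm]
  congr 2
  ext z
  simp only [Finset.mem_filter, Finset.mem_univ, true_and]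
  exact ⟨fun h => ⟨hUW h, h⟩, fun h => h.2⟩

theorem finrank_ker (v : V4 F) (hv : v ≠ 0) : finrank F (LinearMap.ker (sB 2 F v)) = 3 := by
  have hne : sB 2 F v ≠ 0 := by
    intro h0
    obtain ⟨w, hw⟩ := sympForm_exists_ne_zero hv
    apply hw
    rw [← sB_apply, h0]
    rfl
  have hsurj := LinearMap.surjective_of_ne_zero hne
  have := LinearMap.finrank_range_add_finrank_ker (sB 2 F v)
  rw [LinearMap.range_eq_top.mpr hsurj, finrank_top, finrank_self,
    Module.finrank_fintype_fun_eq_card] at this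
  simp only [Fintype.card_sum, Fintype.card_fin] at this
  omega

open Classical in
theorem part2 {q : ℕ} (hF : Fintype.card F = q) (v : V4 F) (hv : v ≠ 0) :
    (Finset.univ.filter (fun W : Submodule F (V4 F) => finrank F W = 2 ∧ v ∈ W ∧
      ∀ u ∈ W, ∀ w ∈ W, Cfsg.sympForm 2 F u w = 0)).card = q + 1 := by
  set s := Finset.univ.filter (fun W : Submodule F (V4 F) => finrank F W = 2 ∧ v ∈ W ∧
      ∀ u ∈ W, ∀ w ∈ W, Cfsg.sympForm 2 F u w = 0) with hs
  have hq2 : 2 ≤ q := by
    rw [← hF]
    exact Fintype.one_lt_card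
  have hsv : finrank F (span F {v}) = 1 := finrank_span_singleton hv
  have hdc := Finset.sum_card_bipartiteAbove_eq_sum_card_bipartiteBelow
    (fun (W : Submodule F (V4 F)) (w : V4 F) => w ∈ W ∧ w ∉ span F {v}) (s := s)
    (t := (Finset.univ : Finset (V4 F)))
  -- left side
  have hL : ∀ W ∈ s, (Finset.bipartiteAbove (fun (W : Submodule F (V4 F)) (w : V4 F) =>
      w ∈ W ∧ w ∉ span F {v}) Finset.univ W).card + q = q ^ 2 := by
    intro W hW
    rw [hs, Finset.mem_filter] at hW
    obtain ⟨_, hW2, hvW, _⟩ := hW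
    have := card_filter_diff (span F {v}) W (by
      rw [Submodule.span_le]
      intro z hz
      rw [Set.mem_singleton_iff] at hz
      rw [hz]
      exact hvW)
    rw [hsv, hW2, hF, pow_one] at this
    exact this
  -- right side
  have hR : ∀ w : V4 F, (Finset.bipartiteBelow (fun (W : Submodule F (V4 F)) (w : V4 F) =>
      w ∈ W ∧ w ∉ span F {v}) s w).card =
      if (w ∈ LinearMap.ker (sB 2 F v) ∧ w ∉ span F {v}) then 1 else 0 := by
    intro w
    unfold Finset.bipartiteBelow
    split_ifs with h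
    · obtain ⟨hk, hns⟩ := h
      rw [LinearMap.mem_ker, sB_apply] at hk
      rw [Finset.card_eq_one]
      refine ⟨span F {v, w}, ?_⟩
      ext W
      rw [Finset.mem_filter, Finset.mem_singleton, hs, Finset.mem_filter]
      constructor
      · rintro ⟨⟨_, hW2, hvW, _⟩, hwW, _⟩
        exact eq_span_pair hv hns W hW2 hvW hwW
      · rintro rfl
        refine ⟨⟨Finset.mem_univ _, finrank_span_pair hv hns,
          Submodule.subset_span (by simp), TI_span_pair hk⟩,
          Submodule.subset_span (by simp), hns⟩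
    · rw [Finset.card_eq_zero, Finset.filter_eq_empty_iff]
      intro W hW
      rw [hs, Finset.mem_filter] at hW
      obtain ⟨_, hW2, hvW, hTI⟩ := hW
      rintro ⟨hwW, hns⟩
      apply h
      refine ⟨?_, hns⟩
      rw [LinearMap.mem_ker, sB_apply]
      exact hTI v hvW w hwW
  have hT : (Finset.univ.filter (fun w : V4 F =>
      w ∈ LinearMap.ker (sB 2 F v) ∧ w ∉ span F {v})).card + q = q ^ 3 := by
    have := card_filter_diff (span F {v}) (LinearMap.ker (sB 2 F v)) (by
      rw [Submodule.span_le]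
      intro z hz
      rw [Set.mem_singleton_iff] at hz
      rw [hz]
      show v ∈ LinearMap.ker (sB 2 F v)
      rw [LinearMap.mem_ker, sB_apply, sympForm_self])
    rw [hsv, finrank_ker v hv, hF, pow_one] at this
    exact this
  rw [Finset.sum_congr rfl (fun w _ => hR w), Finset.sum_boole] at hdc
  -- arithmetic
  obtain ⟨A, hA⟩ : ∃ A, A + q = q ^ 2 := ⟨q ^ 2 - q, Nat.sub_add_cancel (by nlinarith)⟩
  have hL' : ∀ W ∈ s, (Finset.bipartiteAbove (fun (W : Submodule F (V4 F)) (w : V4 F) =>
      w ∈ W ∧ w ∉ span F {v}) Finset.univ W).card = A := by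
    intro W hW
    have := hL W hW
    omega
  rw [Finset.sum_congr rfl hL', Finset.sum_const, smul_eq_mul] at hdc
  have hApos : 0 < A := by nlinarith
  have hcast : (s.card : ℕ) * A = (Finset.univ.filter (fun w : V4 F =>
      w ∈ LinearMap.ker (sB 2 F v) ∧ w ∉ span F {v})).card := by
    rw [hdc]
    simp
  set T := (Finset.univ.filter (fun w : V4 F =>
      w ∈ LinearMap.ker (sB 2 F v) ∧ w ∉ span F {v})).card with hTdef
  have h1 : (q + 1) * A = T := by
    have e1 : (q + 1) * A + (q + 1) * q = (q + 1) * q ^ 2 := by rw [← mul_add, hA]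
    have e2 : (q + 1) * q ^ 2 = q ^ 3 + q ^ 2 := by ring
    have e3 : (q + 1) * q = q ^ 2 + q := by ring
    omega
  have h2 : s.card * A = (q + 1) * A := by rw [hcast, h1]
  exact Nat.eq_of_mul_eq_mul_right hApos h2

open Classical in
theorem part1 {q : ℕ} (hF : Fintype.card F = q) :
    (Finset.univ.filter (fun W : Submodule F (V4 F) => finrank F W = 2 ∧
      ∀ u ∈ W, ∀ w ∈ W, Cfsg.sympForm 2 F u w = 0)).card = (q + 1) * (q ^ 2 + 1) := by
  set s := Finset.univ.filter (fun W : Submodule F (V4 F) => finrank F W = 2 ∧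
      ∀ u ∈ W, ∀ w ∈ W, Cfsg.sympForm 2 F u w = 0) with hs
  have hq2 : 2 ≤ q := by
    rw [← hF]
    exact Fintype.one_lt_card
  have hdc := Finset.sum_card_bipartiteAbove_eq_sum_card_bipartiteBelow
    (fun (W : Submodule F (V4 F)) (w : V4 F) => w ∈ W ∧ w ≠ 0) (s := s)
    (t := (Finset.univ : Finset (V4 F)))
  have hL : ∀ W ∈ s, (Finset.bipartiteAbove (fun (W : Submodule F (V4 F)) (w : V4 F) =>
      w ∈ W ∧ w ≠ 0) Finset.univ W).card + 1 = q ^ 2 := by
    intro W hW
    rw [hs, Finset.mem_filter] at hW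
    obtain ⟨_, hW2, _⟩ := hW
    have := card_filter_diff (⊥ : Submodule F (V4 F)) W bot_le
    rw [finrank_bot, hW2, hF, pow_zero] at this
    simpa [Finset.bipartiteAbove] using this
  have hR : ∀ w : V4 F, (Finset.bipartiteBelow (fun (W : Submodule F (V4 F)) (w : V4 F) =>
      w ∈ W ∧ w ≠ 0) s w).card = if w ≠ 0 then q + 1 else 0 := by
    intro w
    unfold Finset.bipartiteBelow
    split_ifs with h
    · rw [← part2 hF w h]
      refine congrArg Finset.card ?_
      ext W
      simp only [hs, Finset.mem_filter, Finset.mem_univ, true_and]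
      tauto
    · rw [Finset.card_eq_zero, Finset.filter_eq_empty_iff]
      intro W _ hw
      exact h hw.2
  obtain ⟨A, hA⟩ : ∃ A, A + 1 = q ^ 2 := ⟨q ^ 2 - 1, Nat.sub_add_cancel (by nlinarith)⟩
  have hL' : ∀ W ∈ s, (Finset.bipartiteAbove (fun (W : Submodule F (V4 F)) (w : V4 F) =>
      w ∈ W ∧ w ≠ 0) Finset.univ W).card = A := by
    intro W hW
    have := hL W hW
    omega
  rw [Finset.sum_congr rfl hL', Finset.sum_const, smul_eq_mul, Finset.sum_congr rfl (fun w _ => hR w),
    ← Finset.sum_filter, Finset.sum_const, smul_eq_mul] at hdc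
  have hcardV : Fintype.card (V4 F) = q ^ 4 := by
    rw [Fintype.card_fun, hF]
    simp
  have hne : (Finset.univ.filter (fun w : V4 F => w ≠ 0)).card + 1 = q ^ 4 := by
    rw [Finset.filter_ne', Finset.card_erase_of_mem (Finset.mem_univ _), Finset.card_univ, hcardV]
    have : 0 < q ^ 4 := by positivity
    omega
  set T := (Finset.univ.filter (fun w : V4 F => w ≠ 0)).card with hTdef
  have hApos : 0 < A := by nlinarith
  have h1 : (q + 1) * (q ^ 2 + 1) * A = T * (q + 1) := by
    have e1 : T = (q ^ 2 + 1) * A := by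
      have h3 : (q ^ 2 + 1) * A + (q ^ 2 + 1) = q ^ 4 + q ^ 2 := by
        have : (q ^ 2 + 1) * A + (q ^ 2 + 1) = (q ^ 2 + 1) * (A + 1) := by ring
        rw [this, hA]
        ring
      omega
    rw [e1]
    ring
  have h2 : s.card * A = (q + 1) * (q ^ 2 + 1) * A := by rw [hdc, h1]
  exact Nat.eq_of_mul_eq_mul_right hApos h2

theorem result {F : Type*} [Field F] [Fintype F] {q : ℕ} (hF : Fintype.card F = q) : Nat.card {W : Submodule F (Fin 2 ⊕ Fin 2 → F) // Module.finrank F W = 2 ∧ ∀ u ∈ W, ∀ v ∈ W, Cfsg.sympForm 2 F u v = 0} = (q + 1) * (q ^ 2 + 1) ∧ ∀ v : Fin 2 ⊕ Fin 2 → F, v ≠ 0 → Nat.card {W : Submodule F (Fin 2 ⊕ Fin 2 → F) // Module.finrank F W = 2 ∧ v ∈ W ∧ ∀ u ∈ W, ∀ w ∈ W, Cfsg.sympForm 2 F u w = 0} = q + 1 := by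
  classical
  constructor
  · rw [Nat.card_eq_fintype_card, ← part1 hF]
    exact Fintype.card_of_subtype _ (by simp)
  · intro v hv
    rw [Nat.card_eq_fintype_card, ← part2 hF v hv]
    exact Fintype.card_of_subtype _ (by simp)

end Cfsg.Agent.S0828
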