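import Mathlib
import Cfsg.Statements.S0829
import Cfsg.Agent.Helper28.HermCount

set_option autoImplicit false
open Cfsg

namespace Cfsg.Agent.S0829

open Cfsg.Agent.Helper28.HermCount

/-- The unitary quadrangle of PSU_4(q): with |F| = q², the number of 2-dimensional subspaces of F^4 on which the Hermitian form Σ x_i y_i^q vanishes is (q + 1)(q³ + 1). -/
theorem result {F : Type*} [Field F] [Fintype F] {q : ℕ} (hF : Fintype.card F = q ^ 2) : Nat.card {W : Submodule F (Fin 4 → F) // Module.finrank F W = 2 ∧ ∀ u ∈ W, ∀ v ∈ W, Cfsg.hermForm 4 F q u v = 0} = (q + 1) * (q ^ 3 + 1) := by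
  classical
  rw [nat_card_eq]
  have hq2 : 2 ≤ q := by
    have h1 : 1 < Fintype.card F := Fintype.one_lt_card
    rw [hF] at h1
    by_contra hlt
    push Not at hlt
    interval_cases q <;> simp at h1
  have hI0 : isoN F q 0 = 1 := isoN_zero
  have h1 := isoN_succ hF 0
  have h2 := isoN_succ hF 1
  have h3 := isoN_succ hF 2
  have h4 := isoN_succ hF 3
  rw [hI0] at h1
  simp only [zero_add, Nat.reduceAdd, Nat.reduceMul, pow_zero, mul_one] at h1 h2 h3 h4
  have hq24 : q ^ 2 < q ^ 4 := Nat.pow_lt_pow_right (by omega) (by norm_num)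
  have hq4 : 1 < q ^ 4 := Nat.one_lt_pow (by norm_num) (by omega)
  obtain ⟨A, hA⟩ : ∃ A, A + q ^ 2 = q ^ 4 := ⟨q ^ 4 - q ^ 2, Nat.sub_add_cancel hq24.le⟩
  obtain ⟨A', hA'⟩ : ∃ A', A' + 1 = q ^ 4 := ⟨q ^ 4 - 1, Nat.sub_add_cancel hq4.le⟩
  have hApos : 0 < A := by omega
  have hA'pos : 0 < A' := by omega
  have hL : ∀ v ∈ Finset.univ.filter (fun v : Fin 4 → F =>
      v ≠ 0 ∧ Cfsg.hermForm 4 F q v v = 0), (linesThrough q 4 v).card = q + 1 := by
    intro v hv
    rw [Finset.mem_filter] at hv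
    have := part2 hF 2 v hv.2.1 hv.2.2 A hA
    apply Nat.eq_of_mul_eq_mul_right hApos
    zify at *
    linear_combination this + (q ^ 2 : ℤ) * h2 - (q ^ 3 : ℤ) * h1 - (q + 1 : ℤ) * hA
  have hP1 := part1 hF 4 A' hA'
  rw [Finset.sum_congr rfl hL, Finset.sum_const, smul_eq_mul] at hP1
  have hC := card_iso_nonzero (F := F) (q := q) 4
  apply Nat.eq_of_mul_eq_mul_right hA'pos
  rw [hP1]
  zify at *
  linear_combination (q + 1 : ℤ) * hC + (q + 1 : ℤ) * h4 - (q * (q + 1) : ℤ) * h3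
    + (q ^ 2 * (q + 1) : ℤ) * h2 - (q ^ 3 * (q + 1) : ℤ) * h1 - ((q + 1) * (q ^ 3 + 1) : ℤ) * hA'

end Cfsg.Agent.S0829
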