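import Mathlib
import Cfsg.Statements.S0833
import Cfsg.Agent.Helper28.SympFrame

set_option autoImplicit false

namespace Cfsg.Agent.S0833

open Module TensorProduct Cfsg.Agent.Helper28.SympFrame

theorem tmul_apply {F U W : Type*} [Field F] [AddCommGroup U] [Module F U] [AddCommGroup W]
    [Module F W] (B₁ : LinearMap.BilinForm F U) (B₂ : LinearMap.BilinForm F W) (u u' : U) (w w' : W) :
    (B₁.tmul B₂) (u ⊗ₜ[F] w) (u' ⊗ₜ[F] w') = B₁ u u' * B₂ w w' := by
  rw [LinearMap.BilinForm.tmul, LinearMap.BilinForm.tensorDistrib_tmul, smul_eq_mul, mul_comm]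

theorem result {F U W : Type*} [Field F] [Fintype F] [AddCommGroup U] [Module F U] [FiniteDimensional F U] [AddCommGroup W] [Module F W] [FiniteDimensional F W] (B₁ : LinearMap.BilinForm F U) (B₂ : LinearMap.BilinForm F W) (h₁ : B₁.Nondegenerate) (h₂ : B₂.Nondegenerate) (hA₁ : B₁.IsAlt) (hA₂ : B₂.IsAlt) (k l : ℕ) (hU : Module.finrank F U = 2 * k) (hW : Module.finrank F W = 2 * l) : (B₁.tmul B₂).IsSymm ∧ (B₁.tmul B₂).Nondegenerate ∧ (∃ X : Submodule F (TensorProduct F U W), Module.finrank F X = 2 * k * l ∧ ∀ x ∈ X, ∀ y ∈ X, (B₁.tmul B₂) x y = 0) := by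
  classical
  refine ⟨?_, ?_, ?_⟩
  · -- symmetric
    have hflip : B₁.tmul B₂ = (B₁.tmul B₂).flip := by
      ext u w u' w'
      simp only [TensorProduct.AlgebraTensorModule.curry_apply, TensorProduct.curry_apply,
        LinearMap.coe_restrictScalars, LinearMap.flip_apply, tmul_apply]
      rw [← hA₁.neg_eq u u', ← hA₂.neg_eq w w']
      ring
    constructor
    intro x y
    conv_lhs => rw [hflip]
    rfl
  · -- nondegenerate
    set b₁ := Module.finBasis F U
    set b₂ := Module.finBasis F W
    apply (LinearMap.BilinForm.nondegenerate_iff_det_ne_zero (B := B₁.tmul B₂)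
      (b₁.tensorProduct b₂)).mpr
    have hM : LinearMap.BilinForm.toMatrix (b₁.tensorProduct b₂) (B₁.tmul B₂) =
        Matrix.kroneckerMap (fun x1 x2 => x1 * x2) (LinearMap.BilinForm.toMatrix b₁ B₁)
          (LinearMap.BilinForm.toMatrix b₂ B₂) := by
      ext ⟨i, j⟩ ⟨i', j'⟩
      simp only [LinearMap.BilinForm.toMatrix_apply, Basis.tensorProduct_apply, tmul_apply,
        Matrix.kroneckerMap_apply]
    rw [hM, Matrix.det_kronecker]
    have d1 := (LinearMap.BilinForm.nondegenerate_iff_det_ne_zero b₁).mp h₁
    have d2 := (LinearMap.BilinForm.nondegenerate_iff_det_ne_zero b₂).mp h₂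
    exact mul_ne_zero (pow_ne_zero _ d1) (pow_ne_zero _ d2)
  · -- totally isotropic subspace
    obtain ⟨e, f, _, _, hee, _, hef⟩ := exists_alt_frame B₁ hA₁ k ⊤
      (by rw [finrank_top, hU])
      (by
        intro u _ h
        exact h₁.1 u (fun v => h v trivial))
    set E : (Fin k → F) →ₗ[F] U := Fintype.linearCombination F e with hE
    have hEc : ∀ c : Fin k → F, E c = ∑ i, c i • e i := fun c => by
      rw [hE, Fintype.linearCombination_apply]
    have hEinj : Function.Injective E := by
      rw [← LinearMap.ker_eq_bot, LinearMap.ker_eq_bot']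
      intro c hc
      funext j
      have := congrArg (fun x => B₁ x (f j)) hc
      simp only [hEc, map_sum, map_smul, LinearMap.sum_apply, LinearMap.smul_apply, smul_eq_mul,
        hef, mul_ite, mul_one, mul_zero, Finset.sum_ite_eq', Finset.mem_univ, if_true, map_zero,
        LinearMap.zero_apply] at this
      simpa using this
    have hEE : ∀ c c' : Fin k → F, B₁ (E c) (E c') = 0 := by
      intro c c'
      simp only [hEc, map_sum, map_smul, LinearMap.sum_apply, LinearMap.smul_apply, smul_eq_mul,
        hee, mul_zero, Finset.sum_const_zero]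
    set T : (Fin k → F) ⊗[F] W →ₗ[F] U ⊗[F] W := LinearMap.rTensor W E with hT
    have hTinj : Function.Injective T := Module.Flat.rTensor_preserves_injective_linearMap E hEinj
    refine ⟨LinearMap.range T, ?_, ?_⟩
    · rw [LinearMap.finrank_range_of_inj hTinj, Module.finrank_tensorProduct, hW,
        Module.finrank_fintype_fun_eq_card, Fintype.card_fin]
      ring
    · rintro x ⟨x', rfl⟩ y ⟨y', rfl⟩
      induction x' using TensorProduct.induction_on with
      | zero => simp
      | add a b ha hb => rw [map_add, map_add, LinearMap.add_apply, ha, hb, add_zero]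
      | tmul c w =>
        induction y' using TensorProduct.induction_on with
        | zero => simp
        | add a b ha hb => rw [map_add, map_add, ha, hb, add_zero]
        | tmul c' w' =>
          rw [hT, LinearMap.rTensor_tmul, LinearMap.rTensor_tmul, tmul_apply, hEE, zero_mul]

end Cfsg.Agent.S0833
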