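import Cfsg.Statements.S0835
import Mathlib
import Cfsg.Agent.Helper2.SymTensor

set_option autoImplicit false
open Cfsg

namespace Cfsg.Agent.S0835

open Cfsg.Agent.Helper2.SymDisc Module

/-- Over a finite field with 2 ≠ 0: if B₁ on U (dim 2k, k ≥ 1) is non-degenerate symmetric of minus type (no totally isotropic k-subspace) and B₂ on W (dim 2l + 1) is non-degenerate symmetric, then B₁ ⊗ B₂ (dimension 2k(2l+1)) admits no totally isotropic subspace of dimension k(2l+1) (minus type). -/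
theorem result {F U W : Type*} [Field F] [Fintype F] [AddCommGroup U] [Module F U] [FiniteDimensional F U] [AddCommGroup W] [Module F W] [FiniteDimensional F W] (h2 : (2 : F) ≠ 0) (B₁ : LinearMap.BilinForm F U) (B₂ : LinearMap.BilinForm F W) (h₁ : B₁.Nondegenerate) (h₂ : B₂.Nondegenerate) (hS₁ : B₁.IsSymm) (hS₂ : B₂.IsSymm) (k l : ℕ) (hk : 1 ≤ k) (hU : Module.finrank F U = 2 * k) (hW : Module.finrank F W = 2 * l + 1) (hm₁ : ¬ (∃ X : Submodule F (U), Module.finrank F X = k ∧ ∀ x ∈ X, ∀ y ∈ X, (B₁) x y = 0)) : ¬ (∃ X : Submodule F (TensorProduct F U W), Module.finrank F X = k * (2 * l + 1) ∧ ∀ x ∈ X, ∀ y ∈ X, (B₁.tmul B₂) x y = 0) := by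
  rintro ⟨X, hXfin, hX⟩
  obtain ⟨b, c, hTS, hTN, hgram, hg₁, hg₂⟩ := tensor_data h2 B₁ B₂ h₁ h₂ hS₁ hS₂
  have hfin : finrank F (TensorProduct F U W) = 2 * (k * (2 * l + 1)) := by
    rw [Module.finrank_tensorProduct, hU, hW]; ring
  have hsq := isSquare_of_ti (B₁.tmul B₂) h2 hTS hTN hfin X hX hXfin (b.tensorProduct c)
  have hsq' : IsSquare ((-1 : F) ^ k * gramDet B₁ b) := by
    rw [hgram] at hsq
    revert hsq hg₁ hg₂
    generalize gramDet B₁ b = g₁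
    generalize gramDet B₂ c = g₂
    rw [hU, hW]
    intro hg₁ hg₂ hsq
    have hs : (-1 : F) ^ (k * l) * g₁ ^ l * g₂ ^ k ≠ 0 :=
      mul_ne_zero (mul_ne_zero (pow_ne_zero _ (by simp)) (pow_ne_zero _ hg₁)) (pow_ne_zero _ hg₂)
    have heq : (-1 : F) ^ (k * (2 * l + 1)) * (g₁ ^ (2 * l + 1) * g₂ ^ (2 * k))
        = ((-1) ^ (k * l) * g₁ ^ l * g₂ ^ k) ^ 2 * ((-1) ^ k * g₁) := by
      ring
    rw [heq] at hsq
    exact (isSquare_sq_mul_iff hs).mp hsq
  obtain ⟨X', hX'fin, hX'⟩ := exists_ti_of_isSquare B₁ h2 hS₁ h₁ hU b hsq'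
  exact hm₁ ⟨X', hX'fin, hX'⟩

end Cfsg.Agent.S0835
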