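import Mathlib
import Cfsg.Statements.S0839

set_option autoImplicit false
open Cfsg

namespace Cfsg.Agent.S0839

open Matrix Module

variable {F : Type*} [Field F]

theorem rank_one_decomp {m : ℕ} (N : Matrix (Fin m) (Fin m) F) (h : N.rank = 1) :
    ∃ u w : Fin m → F, N = vecMulVec u w := by
  unfold Matrix.rank at h
  obtain ⟨v, hv0, hv⟩ := finrank_eq_one_iff'.mp h
  have : ∀ j, ∃ c : F, c • (v : Fin m → F) = N *ᵥ Pi.single j 1 := by
    intro j
    obtain ⟨c, hc⟩ := hv ⟨N *ᵥ Pi.single j 1, ⟨Pi.single j 1, rfl⟩⟩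
    exact ⟨c, by simpa using congrArg Subtype.val hc⟩
  choose w hw using this
  refine ⟨v, w, ?_⟩
  ext i j
  have := congrFun (hw j) i
  rw [Matrix.mulVec_single_one] at this
  simp only [vecMulVec_apply]
  rw [mul_comm]
  simpa using this.symm

/-- existence of a determinant-one matrix `g` with `w ᵥ* g = e_0`. -/
theorem exists_sl_row (n : ℕ) (w : Fin (n + 2) → F) (hw : w ≠ 0) :
    ∃ g : Matrix (Fin (n + 2)) (Fin (n + 2)) F, g.det = 1 ∧ w ᵥ* g = Pi.single 0 1 := by
  classical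
  set φ : (Fin (n + 2) → F) →ₗ[F] F :=
    { toFun := fun x => w ⬝ᵥ x
      map_add' := dotProduct_add w
      map_smul' := fun c x => by simp [dotProduct_smul] } with hφ
  have hφa : ∀ x, φ x = w ⬝ᵥ x := fun x => rfl
  obtain ⟨i₀, hi₀⟩ : ∃ i, w i ≠ 0 := by
    by_contra hcon
    push Not at hcon
    exact hw (funext hcon)
  set u₀ : Fin (n + 2) → F := (w i₀)⁻¹ • Pi.single i₀ 1 with hu₀
  have hφu₀ : φ u₀ = 1 := by
    rw [hφa, hu₀, dotProduct_smul, dotProduct_single_one, smul_eq_mul, inv_mul_cancel₀ hi₀]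
  obtain ⟨K, hK⟩ : ∃ K : Submodule F (Fin (n + 2) → F), K = LinearMap.ker φ := ⟨_, rfl⟩
  have hKmem : ∀ x ∈ K, φ x = 0 := by
    intro x hx
    rw [hK] at hx
    exact hx
  have hfrK : finrank F K = n + 1 := by
    have hrange : LinearMap.range φ = ⊤ := by
      rw [LinearMap.range_eq_top]
      intro c
      exact ⟨c • u₀, by rw [map_smul, hφu₀, smul_eq_mul, mul_one]⟩
    have := LinearMap.finrank_range_add_finrank_ker φ
    rw [hrange, finrank_top, finrank_self, Module.finrank_fin_fun, ← hK] at this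
    omega
  set bK := Module.finBasisOfFinrankEq F K hfrK with hbK
  set c : Fin (n + 2) → (Fin (n + 2) → F) := Fin.cons u₀ (fun j => (bK j : Fin (n + 2) → F)) with hc
  have hli : LinearIndependent F c := by
    rw [hc, linearIndependent_finCons]
    refine ⟨bK.linearIndependent.map' K.subtype (Submodule.ker_subtype K), ?_⟩
    intro hmem
    have hle : Submodule.span F (Set.range fun j => (bK j : Fin (n + 2) → F)) ≤ K := by
      rw [Submodule.span_le]
      rintro _ ⟨j, rfl⟩
      exact (bK j).2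
    have := hle hmem
    rw [hK, LinearMap.mem_ker, hφu₀] at this
    exact one_ne_zero this
  set g₀ : Matrix (Fin (n + 2)) (Fin (n + 2)) F := Matrix.of (fun i j => c j i) with hg₀
  have hcol : g₀.col = c := by
    funext j i
    rfl
  have hunit : IsUnit g₀ := by
    rw [← Matrix.linearIndependent_cols_iff_isUnit, hcol]
    exact hli
  have hd : g₀.det ≠ 0 := ((Matrix.isUnit_iff_isUnit_det g₀).mp hunit).ne_zero
  have hrow : w ᵥ* g₀ = Pi.single 0 1 := by
    funext j
    have : (w ᵥ* g₀) j = φ (c j) := by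
      rw [hφa]
      rfl
    rw [this]
    induction j using Fin.cases with
    | zero => simp [hc, hφu₀]
    | succ j =>
      have h1 : φ (bK j : Fin (n + 2) → F) = 0 := hKmem _ (bK j).2
      simp [hc, h1]
  set D : Matrix (Fin (n + 2)) (Fin (n + 2)) F :=
    Matrix.diagonal (Function.update (fun _ => (1 : F)) 1 (g₀.det)⁻¹) with hD
  refine ⟨g₀ * D, ?_, ?_⟩
  · rw [Matrix.det_mul, hD, Matrix.det_diagonal, Finset.prod_update_of_mem (Finset.mem_univ _)]
    simp [mul_inv_cancel₀ hd]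
  · rw [← Matrix.vecMul_vecMul, hrow]
    funext j
    rw [hD, Matrix.vecMul_diagonal]
    by_cases hj : j = 0
    · subst hj
      have : (0 : Fin (n + 2)) ≠ 1 := by
        intro h
        simp [Fin.ext_iff] at h
      simp [Function.update_of_ne this]
    · simp [Pi.single_apply, hj]

/-- Every transvection t ∈ SL_(n+2)(F) (rank(t − 1) = 1, (t − 1)² = 0) is conjugate in SL_(n+2)(F) to 1 + v·e_0ᵀ for some column vector v with v_0 = 0 (the group A of matrices that are the identity except in the first column below the diagonal); the dimension is written n + 2 ≥ 2. -/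
theorem result {F : Type*} [Field F] (n : ℕ) (t : Matrix.SpecialLinearGroup (Fin (n + 2)) F) (ht : Cfsg.IsTransvection (t : Matrix (Fin (n + 2)) (Fin (n + 2)) F)) : ∃ (g : Matrix.SpecialLinearGroup (Fin (n + 2)) F) (v : Fin (n + 2) → F), v 0 = 0 ∧ ((g⁻¹ * t * g : Matrix.SpecialLinearGroup (Fin (n + 2)) F) : Matrix (Fin (n + 2)) (Fin (n + 2)) F) = 1 + Matrix.vecMulVec v (Pi.single 0 1) := by
  classical
  obtain ⟨hrank, hsq⟩ := ht
  set T : Matrix (Fin (n + 2)) (Fin (n + 2)) F := (t : Matrix (Fin (n + 2)) (Fin (n + 2)) F) with hT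
  obtain ⟨u, w, hN⟩ := rank_one_decomp (T - 1) hrank
  have hN0 : T - 1 ≠ 0 := by
    intro h0
    rw [h0, Matrix.rank_zero] at hrank
    exact zero_ne_one hrank
  have hw0 : w ≠ 0 := by
    rintro rfl
    apply hN0
    rw [hN]
    ext i j
    simp [vecMulVec_apply]
  have hwu : w ⬝ᵥ u = 0 := by
    by_contra hne
    apply hN0
    rw [hN, Matrix.vecMulVec_mul_vecMulVec] at hsq
    have : (w ⬝ᵥ u) • vecMulVec u w = 0 := by
      rw [← hsq]
      ext i j
      simp [vecMulVec_apply]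
      ring
    rcases smul_eq_zero.mp this with h | h
    · exact absurd h hne
    · rw [hN]; exact h
  obtain ⟨g₁, hg₁det, hg₁row⟩ := exists_sl_row n w hw0
  set g : Matrix.SpecialLinearGroup (Fin (n + 2)) F := ⟨g₁, hg₁det⟩ with hg
  have hgcoe : (g : Matrix (Fin (n + 2)) (Fin (n + 2)) F) = g₁ := rfl
  have hinv1 : ((g⁻¹ : Matrix.SpecialLinearGroup (Fin (n + 2)) F) : Matrix (Fin (n + 2)) (Fin (n + 2)) F) * g₁ = 1 := by
    rw [← hgcoe, ← Matrix.SpecialLinearGroup.coe_mul, inv_mul_cancel, Matrix.SpecialLinearGroup.coe_one]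
  have hinv2 : g₁ * ((g⁻¹ : Matrix.SpecialLinearGroup (Fin (n + 2)) F) : Matrix (Fin (n + 2)) (Fin (n + 2)) F) = 1 := by
    rw [← hgcoe, ← Matrix.SpecialLinearGroup.coe_mul, mul_inv_cancel, Matrix.SpecialLinearGroup.coe_one]
  set Gi : Matrix (Fin (n + 2)) (Fin (n + 2)) F :=
    ((g⁻¹ : Matrix.SpecialLinearGroup (Fin (n + 2)) F) : Matrix (Fin (n + 2)) (Fin (n + 2)) F) with hGi
  refine ⟨g, Gi *ᵥ u, ?_, ?_⟩
  · have h1 : (Gi *ᵥ u) 0 = (Pi.single 0 1 : Fin (n + 2) → F) ⬝ᵥ (Gi *ᵥ u) := by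
      rw [single_one_dotProduct]
    rw [h1, ← hg₁row, ← Matrix.dotProduct_mulVec, Matrix.mulVec_mulVec, hinv2, Matrix.one_mulVec, hwu]
  · rw [Matrix.SpecialLinearGroup.coe_mul, Matrix.SpecialLinearGroup.coe_mul, ← hGi, hgcoe, ← hT]
    have hTN : T = 1 + vecMulVec u w := by rw [← hN]; abel
    rw [hTN, Matrix.mul_add, Matrix.add_mul, Matrix.mul_one, hinv1, Matrix.mul_vecMulVec,
      Matrix.vecMulVec_mul, hg₁row]

end Cfsg.Agent.S0839
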