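import Cfsg.Statements.S0844
import Cfsg.Agent.Helper8.QuatExc3

set_option autoImplicit false
open Cfsg

namespace Cfsg.Agent.S0844

/-- Suppose a Sylow 2-subgroup S of the finite group G is generalized quaternion of order at least 16. Then G has two non-principal irreducible characters χ₁ and χ₂ with χ₁ 1 = χ₂ 1 + 1 such that χ₁ g - χ₂ g = 1 for every element g whose order is not divisible by 4. -/
theorem result {G : Type*} [Group G] [Fintype G] (S : Sylow 2 G) (n : ℕ) (e : (S : Subgroup G) ≃* QuaternionGroup (2 ^ (n + 2))) : ∃ χ₁ χ₂ : G → ℂ, Cfsg.IsIrrCharacter G χ₁ ∧ Cfsg.IsIrrCharacter G χ₂ ∧ χ₁ ≠ (fun _ => 1) ∧ χ₂ ≠ (fun _ => 1) ∧ χ₁ 1 = χ₂ 1 + 1 ∧ ∀ g : G, ¬ 4 ∣ orderOf g → χ₁ g - χ₂ g = 1 := by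
  obtain ⟨Θ, hgen, h3, h1, h0, hvan, _⟩ := Cfsg.Agent.Helper8.QuatExc.exists_theta S n e
  obtain ⟨χ₁, χ₂, hχ₁, hχ₂, hne₁, hne₂, hdeg, hΘ⟩ :=
    Cfsg.Agent.Helper8.ExcPair.exists_pair_of_norm_three hgen h3 h1 h0
  refine ⟨χ₁, χ₂, hχ₁, hχ₂, hne₁, hne₂, hdeg, ?_⟩
  intro g hg
  have h4 : Θ g = 0 := by
    apply hvan
    intro x hx
    apply hg
    have h5 : orderOf (x⁻¹ * g * x) = orderOf g := by
      have := Cfsg.Agent.Helper9.orderOf_conj' x⁻¹ g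
      rwa [inv_inv] at this
    rw [h5] at hx
    refine Dvd.dvd.trans ?_ hx
    exact Dvd.intro_left (2 ^ n) (by rw [pow_add]; norm_num)
  rw [hΘ] at h4
  simp only [Pi.add_apply, Pi.sub_apply] at h4
  linear_combination -h4

end Cfsg.Agent.S0844
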