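import Cfsg.Statements.S0845
import Cfsg.Agent.Helper8.QuatExc4
import Cfsg.Agent.Helper24.Codegree

set_option autoImplicit false
open Cfsg

namespace Cfsg.Agent.S0845

/-- Suppose a Sylow 2-subgroup S of the finite group G is generalized quaternion of order at least 16. Then G has a normal subgroup M of even order such that G / M is non-abelian, that is, M does not contain the commutator subgroup of G. -/
theorem result {G : Type*} [Group G] [Finite G] (S : Sylow 2 G) (n : ℕ) (e : (S : Subgroup G) ≃* QuaternionGroup (2 ^ (n + 2))) : ∃ M : Subgroup G, M.Normal ∧ Even (Nat.card M) ∧ ¬ commutator G ≤ M := by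
  classical
  haveI : Fintype G := Fintype.ofFinite G
  haveI : NeZero (2 ^ (n + 2)) := ⟨by positivity⟩
  obtain ⟨χ₁, χ₂, hne₁, hne₂, hdeg, hval, _⟩ := Cfsg.Agent.Helper8.QuatExc.exists_exc_pair S n e
  obtain ⟨z, _, hz⟩ := Cfsg.Agent.Helper8.QuatInvol.exists_involution S _ e
  have hker := Cfsg.Agent.Helper8.QuatExc.exc_pair_kernel S n e χ₁ χ₂ hne₁ hne₂ hdeg hval z hz
  obtain ⟨N, hNn, hmem, χ', hχ'⟩ := Cfsg.Agent.Helper24.exists_kernel_quotient χ₁
  refine ⟨N, hNn, ?_, ?_⟩
  · have hzN : z ∈ N := (hmem z).mpr hker.1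
    have := Subgroup.orderOf_dvd_natCard N hzN
    rw [hz] at this
    exact even_iff_two_dvd.mpr this
  · intro hle
    haveI := hNn
    have hcomm : IsMulCommutative (G ⧸ N) :=
      Subgroup.Normal.quotient_commutative_iff_commutator_le.mpr hle
    have h1 := (Cfsg.Agent.Helper24.comm_iff_forall_irr_one (G := G ⧸ N)).mp
      (fun a b => mul_comm' a b) χ'
    have h2 := hχ' 1
    rw [QuotientGroup.mk_one, h1, hdeg] at h2
    have h3 : (χ₂ : G → ℂ) 1 = 0 := by linear_combination -h2
    exact Cfsg.Agent.Helper24.irr_one_ne_zero χ₂ h3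

end Cfsg.Agent.S0845
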