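import Cfsg.Statements.S0849
import Cfsg.Agent.Helper5.PermChar

set_option autoImplicit false
open Cfsg

namespace Cfsg.Agent.S0849

/-- Let H be a subgroup of a finite group G and S a subset of H that is mapped to itself under conjugation by H, is disjoint from its conjugate by any element outside H, and is closed under inverses. Let φ be a class function of H vanishing on H away from S, and let u, v be involutions of G. Then the sum of the induced function of φ over all products a * b with a conjugate to u and b conjugate to v equals the index of H times the sum of φ (a * b) over such pairs with a and b in H. -/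
theorem result {G : Type*} [Group G] [Fintype G] (H : Subgroup G) (S : Set G) (hSH : S ⊆ H) (hHS : ∀ h ∈ H, ∀ s ∈ S, h * s * h⁻¹ ∈ S) (hTI : ∀ g : G, g ∉ H → ∀ s ∈ S, g * s * g⁻¹ ∉ S) (hinv : ∀ s ∈ S, s⁻¹ ∈ S) (φ : H → ℂ) (hφ : Cfsg.IsClassFunction H φ) (hφS : ∀ x : H, (x : G) ∉ S → φ x = 0) (u v : G) (hu : orderOf u = 2) (hv : orderOf v = 2) : ∑ᶠ p ∈ {p : G × G | IsConj u p.1 ∧ IsConj v p.2}, Cfsg.indFun H φ (p.1 * p.2) = (H.index : ℂ) * ∑ᶠ p ∈ {p : H × H | IsConj u (p.1 : G) ∧ IsConj v (p.2 : G)}, φ (p.1 * p.2) := by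
  classical
  have hu2 : ∀ a : G, IsConj u a → a * a = 1 ∧ a⁻¹ = a := by
    intro a ha
    obtain ⟨g, hg⟩ := isConj_iff.1 ha
    have huu : u * u = 1 := by
      have := pow_orderOf_eq_one u
      rwa [hu, sq] at this
    have h1 : a * a = 1 := by
      rw [← hg]
      calc g * u * g⁻¹ * (g * u * g⁻¹) = g * (u * u) * g⁻¹ := by group
        _ = 1 := by rw [huu]; group
    exact ⟨h1, inv_eq_of_mul_eq_one_left h1⟩
  have hv2 : ∀ a : G, IsConj v a → a * a = 1 ∧ a⁻¹ = a := by
    intro a ha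
    obtain ⟨g, hg⟩ := isConj_iff.1 ha
    have hvv : v * v = 1 := by
      have := pow_orderOf_eq_one v
      rwa [hv, sq] at this
    have h1 : a * a = 1 := by
      rw [← hg]
      calc g * v * g⁻¹ * (g * v * g⁻¹) = g * (v * v) * g⁻¹ := by group
        _ = 1 := by rw [hvv]; group
    exact ⟨h1, inv_eq_of_mul_eq_one_left h1⟩
  -- the key vanishing: nonzero terms come from pairs inside `H`
  have hkey : ∀ a b : G, IsConj u a → IsConj v b →
      Cfsg.extendByZero H φ (a * b) ≠ 0 → a ∈ H ∧ b ∈ H := by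
    intro a b ha hb hne
    have habH : a * b ∈ H := by
      by_contra h
      exact hne (Cfsg.Agent.Helper5.extendByZero_apply_not_mem H φ h)
    rw [Cfsg.Agent.Helper5.extendByZero_apply_mem H φ habH] at hne
    have habS : a * b ∈ S := by
      by_contra h
      exact hne (hφS ⟨a * b, habH⟩ h)
    obtain ⟨haa, hainv⟩ := hu2 a ha
    obtain ⟨hbb, hbinv⟩ := hv2 b hb
    have hinvS : (a * b)⁻¹ ∈ S := hinv _ habS
    have e1 : a * (a * b) * a⁻¹ = (a * b)⁻¹ := by
      rw [mul_inv_rev, hainv, hbinv, ← mul_assoc a a b, haa, one_mul]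
    have e2 : b * (a * b) * b⁻¹ = (a * b)⁻¹ := by
      rw [mul_inv_rev, hainv, hbinv, mul_assoc, mul_assoc, hbb, mul_one]
    constructor
    · by_contra h
      exact hTI a h _ habS (by rw [e1]; exact hinvS)
    · by_contra h
      exact hTI b h _ habS (by rw [e2]; exact hinvS)
  rw [finsum_mem_eq_finite_toFinset_sum _ (Set.toFinite _),
    finsum_mem_eq_finite_toFinset_sum _ (Set.toFinite _)]
  set A : Finset (G × G) := (Set.toFinite {p : G × G | IsConj u p.1 ∧ IsConj v p.2}).toFinset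
    with hA
  have hAmem : ∀ p : G × G, p ∈ A ↔ IsConj u p.1 ∧ IsConj v p.2 := by
    intro p
    rw [hA, Set.Finite.mem_toFinset]
    rfl
  -- conjugation invariance of the inner sum
  have hT : ∀ x : G, ∑ p ∈ A, Cfsg.extendByZero H φ (x⁻¹ * (p.1 * p.2) * x) =
      ∑ p ∈ A, Cfsg.extendByZero H φ (p.1 * p.2) := by
    intro x
    apply Finset.sum_bij (fun p _ => (x⁻¹ * p.1 * x, x⁻¹ * p.2 * x))
    · intro p hp
      rw [hAmem] at hp ⊢
      constructor
      · refine hp.1.trans (isConj_iff.2 ⟨x⁻¹, ?_⟩)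
        rw [inv_inv]
      · refine hp.2.trans (isConj_iff.2 ⟨x⁻¹, ?_⟩)
        rw [inv_inv]
    · intro p _ q _ hpq
      have h1 := congrArg Prod.fst hpq
      have h3 := congrArg Prod.snd hpq
      simp only [mul_left_inj, mul_right_inj] at h1 h3
      exact Prod.ext h1 h3
    · intro q hq
      refine ⟨(x * q.1 * x⁻¹, x * q.2 * x⁻¹), ?_, ?_⟩
      · rw [hAmem] at hq ⊢
        exact ⟨hq.1.trans (isConj_iff.2 ⟨x, rfl⟩), hq.2.trans (isConj_iff.2 ⟨x, rfl⟩)⟩
      · apply Prod.ext <;> simp [mul_assoc]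
    · intro p _
      congr 1
      group
  have hLHS : ∑ p ∈ A, Cfsg.indFun H φ (p.1 * p.2) =
      (Nat.card H : ℂ)⁻¹ * ((Fintype.card G : ℂ) * ∑ p ∈ A, Cfsg.extendByZero H φ (p.1 * p.2)) := by
    unfold Cfsg.indFun
    rw [← Finset.mul_sum, Finset.sum_comm]
    congr 1
    rw [Finset.sum_congr rfl (fun x _ => hT x), Finset.sum_const, Finset.card_univ, nsmul_eq_mul]
  rw [hLHS]
  -- reduce to pairs in H
  set B : Finset (H × H) :=
    (Set.toFinite {p : H × H | IsConj u (p.1 : G) ∧ IsConj v (p.2 : G)}).toFinset with hB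
  have hBmem : ∀ p : H × H, p ∈ B ↔ IsConj u (p.1 : G) ∧ IsConj v (p.2 : G) := by
    intro p
    rw [hB, Set.Finite.mem_toFinset]
    rfl
  have hred : ∑ p ∈ A, Cfsg.extendByZero H φ (p.1 * p.2) = ∑ p ∈ B, φ (p.1 * p.2) := by
    symm
    apply Finset.sum_bij_ne_zero (fun (p : H × H) _ _ => ((p.1 : G), (p.2 : G)))
    · intro p hp _
      rw [hAmem]
      exact (hBmem p).1 hp
    · intro p _ _ q _ _ hpq
      have h1 := congrArg Prod.fst hpq
      have h3 := congrArg Prod.snd hpq
      exact Prod.ext (Subtype.ext h1) (Subtype.ext h3)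
    · intro q hq hne
      rw [hAmem] at hq
      obtain ⟨h1, h3⟩ := hkey q.1 q.2 hq.1 hq.2 hne
      refine ⟨(⟨q.1, h1⟩, ⟨q.2, h3⟩), (hBmem _).2 hq, ?_, rfl⟩
      rw [Cfsg.Agent.Helper5.extendByZero_apply_mem H φ (H.mul_mem h1 h3)] at hne
      exact hne
    · intro p _ _
      have : ((p.1 : G) * (p.2 : G)) ∈ H := H.mul_mem p.1.2 p.2.2
      rw [Cfsg.Agent.Helper5.extendByZero_apply_mem H φ this]
      rfl
  rw [hred, ← mul_assoc]
  congr 1
  have h1 := H.index_mul_card
  have hpos : (Nat.card H : ℂ) ≠ 0 := by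
    exact_mod_cast (Nat.card_pos (α := H)).ne'
  rw [← Nat.card_eq_fintype_card, ← h1]
  push_cast
  field_simp

end Cfsg.Agent.S0849
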