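import Cfsg.Statements.S0855
import Cfsg.Agent.Helper24.ThompsonDegrees
import Cfsg.Agent.Helper24.Ito
import Cfsg.Agent.Helper24.Codegree
import Cfsg.Agent.Helper24.SmallDegree
import Cfsg.Agent.Helper24.Clifford
import Cfsg.Agent.Helper24.Expansion
import Cfsg.Agent.S0963

set_option autoImplicit false
open Cfsg

namespace Cfsg.Agent.S0855

/-- For a finite group G and a prime p: every irreducible character of G has degree a power of p if and only if G has an abelian normal subgroup whose order is prime to p and whose index is a power of p. -/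
theorem result {G : Type*} [Group G] [Finite G] (p : ℕ) (hp : p.Prime) : (∀ χ : Cfsg.IrrCharacter G, ∃ k : ℕ, (χ : G → ℂ) 1 = (p : ℂ) ^ k) ↔ ∃ A : Subgroup G, A.Normal ∧ (∀ a ∈ A, ∀ b ∈ A, a * b = b * a) ∧ Nat.Coprime (Nat.card A) p ∧ ∃ k : ℕ, A.index = p ^ k := by
  classical
  have : Fintype G := Fintype.ofFinite G
  have : Fintype (IrrCharacter G) := Fintype.ofFinite _
  constructor
  · intro hall
    have hdegpow : ∀ χ : IrrCharacter G, ∃ k : ℕ, Cfsg.Agent.Helper24.irrDeg χ = p ^ k := by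
      intro χ
      obtain ⟨k, hk⟩ := hall χ
      refine ⟨k, ?_⟩
      rw [Cfsg.Agent.Helper24.irrDeg_spec] at hk
      exact_mod_cast hk
    have hdeg : ∀ χ : IrrCharacter G, charDegree (χ : G → ℂ) ≠ 1 →
        p ∣ charDegree (χ : G → ℂ) := by
      intro χ hne
      rw [Cfsg.Agent.Helper24.charDegree_irr] at hne ⊢
      obtain ⟨k, hk⟩ := hdegpow χ
      rw [hk] at hne ⊢
      have hk0 : k ≠ 0 := by
        rintro rfl
        exact hne (pow_zero p)
      exact dvd_pow_self p hk0
    obtain ⟨N, hNn, hcop, k, hidx⟩ :=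
      Cfsg.Agent.Helper24.normal_pComplement_of_dvd_nonlinear p hp hdeg
    refine ⟨N, hNn, ?_, hcop, k, hidx⟩
    have := hNn
    have : Fintype N := Fintype.ofFinite N
    have : Fintype (IrrCharacter N) := Fintype.ofFinite _
    have hcomm : ∀ a b : N, a * b = b * a := by
      rw [Cfsg.Agent.Helper24.comm_iff_forall_irr_one]
      intro θ
      obtain ⟨χ, hχ⟩ := Cfsg.Agent.S0963.exists_irr_over N θ
      have hcl := Cfsg.Agent.Helper24.clifford_finset N χ.2 θ.2 hχ
      have h1 := congrFun hcl 1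
      obtain ⟨c, hc⟩ := Cfsg.Agent.Helper24.IsCharacter.classInner_nat
        (Cfsg.Agent.Helper8.isCharacter_restrict N (Cfsg.Agent.Helper24.IsIrrCharacter.isCharacter χ.2))
        (Cfsg.Agent.Helper24.IsIrrCharacter.isCharacter θ.2)
      have hsum : (∑ ψ ∈ Finset.univ.image (Cfsg.Agent.Helper24.conjFun N (θ : N → ℂ)), ψ) 1 =
          ((Finset.univ.image (Cfsg.Agent.Helper24.conjFun N (θ : N → ℂ))).card : ℂ) *
            (θ : N → ℂ) 1 := by
        rw [Finset.sum_apply]
        rw [Finset.sum_congr rfl (g := fun _ => (θ : N → ℂ) 1)]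
        · rw [Finset.sum_const, nsmul_eq_mul]
        · intro ψ hψ
          obtain ⟨g, -, rfl⟩ := Finset.mem_image.mp hψ
          rw [Cfsg.Agent.Helper24.conjFun_apply]
          refine congrArg _ ?_
          apply Subtype.ext
          simp
      rw [Pi.smul_apply, hsum, hc, smul_eq_mul] at h1
      have h2 : ((1 : N) : G) = 1 := rfl
      rw [h2, Cfsg.Agent.Helper24.irrDeg_spec, Cfsg.Agent.Helper24.irrDeg_spec] at h1
      have h3 : Cfsg.Agent.Helper24.irrDeg χ =
          c * ((Finset.univ.image (Cfsg.Agent.Helper24.conjFun N (θ : N → ℂ))).card *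
            Cfsg.Agent.Helper24.irrDeg θ) := by exact_mod_cast h1
      obtain ⟨j, hj⟩ := hdegpow χ
      have h4 : Cfsg.Agent.Helper24.irrDeg θ ∣ p ^ j := by
        rw [← hj, h3, ← mul_assoc]
        exact dvd_mul_left _ _
      obtain ⟨i, -, hi⟩ := (Nat.dvd_prime_pow hp).mp h4
      have h5 : Cfsg.Agent.Helper24.irrDeg θ ∣ Nat.card N :=
        Cfsg.Agent.Helper24.irrDeg_dvd_card θ
      have hi0 : i = 0 := by
        by_contra hne
        have : p ∣ Nat.card N := dvd_trans (hi ▸ dvd_pow_self p hne) h5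
        exact (Nat.Prime.coprime_iff_not_dvd hp).mp hcop.symm this
      rw [Cfsg.Agent.Helper24.irrDeg_spec, hi, hi0, pow_zero, Nat.cast_one]
    intro a ha b hb
    exact congrArg Subtype.val (hcomm ⟨a, ha⟩ ⟨b, hb⟩)
  · rintro ⟨A, hAn, hab, hcop, k, hidx⟩ χ
    have := hAn
    obtain ⟨d, hd, hdvd⟩ := Cfsg.Agent.Helper24.ito_character A hab (χ : G → ℂ) χ.2
    rw [hidx] at hdvd
    obtain ⟨j, -, hj⟩ := (Nat.dvd_prime_pow hp).mp hdvd
    exact ⟨j, by rw [hd, hj]; push_cast; rfl⟩

end Cfsg.Agent.S0855
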