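import Mathlib
import Cfsg.Statements.S0860
import Cfsg.Agent.Helper24.ColumnOrth

set_option autoImplicit false
open Cfsg

namespace Cfsg.Agent.S0860

open Cfsg.Agent.Helper24

/-- Summing the centralizer orders over the elements of a class gives the group order. -/
theorem sum_card_centralizer_fibre {G : Type*} [Group G] [Fintype G] [DecidableEq (ConjClasses G)]
    (C : ConjClasses G) :
    ∑ g ∈ Finset.univ.filter (fun g : G => ConjClasses.mk g = C),
      (Nat.card (Subgroup.centralizer ({g} : Set G)) : ℂ) = (Nat.card G : ℂ) := by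
  classical
  obtain ⟨h, rfl⟩ := ConjClasses.exists_rep C
  have h1 : ∀ g ∈ Finset.univ.filter (fun g : G => ConjClasses.mk g = ConjClasses.mk h),
      (Nat.card (Subgroup.centralizer ({g} : Set G)) : ℂ) =
        (Nat.card (Subgroup.centralizer ({h} : Set G)) : ℂ) := by
    intro g hg
    rw [Finset.mem_filter, ConjClasses.mk_eq_mk_iff_isConj] at hg
    rw [card_centralizer_eq_of_isConj hg.2]
  rw [Finset.sum_congr rfl h1, Finset.sum_const, nsmul_eq_mul]
  have h2 : (Finset.univ.filter (fun g : G => ConjClasses.mk g = ConjClasses.mk h)).card =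
      Nat.card {x : G // IsConj h x} := by
    rw [Nat.card_eq_fintype_card, Fintype.card_subtype]
    congr 1
    ext g
    simp only [Finset.mem_filter, Finset.mem_univ, true_and]
    rw [ConjClasses.mk_eq_mk_iff_isConj]
    exact ⟨fun hc => hc.symm, fun hc => hc.symm⟩
  rw [h2]
  exact_mod_cast card_conj_mul_card_centralizer h

theorem result {G : Type*} [Group G] [Finite G] {A : Type*} [Group A] [MulAction A (Cfsg.IrrCharacter G)] [MulAction A (ConjClasses G)] (hcompat : ∀ (a : A) (χ : Cfsg.IrrCharacter G) (g g' : G), ConjClasses.mk g' = a • ConjClasses.mk g → ((a • χ : Cfsg.IrrCharacter G) : G → ℂ) g' = (χ : G → ℂ) g) (a : A) : Nat.card {χ : Cfsg.IrrCharacter G // a • χ = χ} = Nat.card {C : ConjClasses G // a • C = C} := by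
  classical
  have : Fintype G := Fintype.ofFinite G
  have : Fintype (Cfsg.IrrCharacter G) := Fintype.ofFinite _
  have : Fintype (ConjClasses G) := Fintype.ofFinite _
  have hG : (Nat.card G : ℂ) ≠ 0 := card_ne_zero_complex
  -- left side as a sum of inner products
  have hL : (Nat.card {χ : Cfsg.IrrCharacter G // a • χ = χ} : ℂ) =
      ∑ χ : Cfsg.IrrCharacter G, Cfsg.classInner ((a • χ : Cfsg.IrrCharacter G) : G → ℂ) (χ : G → ℂ) := by
    rw [Nat.card_eq_fintype_card, Fintype.card_subtype, Finset.card_eq_sum_ones, Nat.cast_sum,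
      Finset.sum_filter]
    apply Finset.sum_congr rfl
    intro χ _
    rw [classInner_irr]
    simp
  have hR : (Nat.card {C : ConjClasses G // a • C = C} : ℂ) =
      ∑ C : ConjClasses G, if a • C = C then (1 : ℂ) else 0 := by
    rw [Nat.card_eq_fintype_card, Fintype.card_subtype, Finset.card_eq_sum_ones, Nat.cast_sum,
      Finset.sum_filter]
    simp
  -- the element g* for each g
  let star : G → G := fun g => Quotient.out (a⁻¹ • ConjClasses.mk g)
  have hstar : ∀ g, ConjClasses.mk g = a • ConjClasses.mk (star g) := by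
    intro g
    have : ConjClasses.mk (star g) = a⁻¹ • ConjClasses.mk g := Quotient.out_eq _
    rw [this, smul_inv_smul]
  have hval : ∀ (χ : Cfsg.IrrCharacter G) (g : G),
      ((a • χ : Cfsg.IrrCharacter G) : G → ℂ) g = (χ : G → ℂ) (star g) :=
    fun χ g => hcompat a χ (star g) g (hstar g)
  have hconj : ∀ g, IsConj (star g) g ↔ a • ConjClasses.mk g = ConjClasses.mk g := by
    intro g
    rw [← ConjClasses.mk_eq_mk_iff_isConj]
    have : ConjClasses.mk (star g) = a⁻¹ • ConjClasses.mk g := Quotient.out_eq _
    rw [this, inv_smul_eq_iff, eq_comm]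
  have key : ∑ χ : Cfsg.IrrCharacter G,
      Cfsg.classInner ((a • χ : Cfsg.IrrCharacter G) : G → ℂ) (χ : G → ℂ) =
      (Nat.card G : ℂ)⁻¹ * ∑ g : G, if a • ConjClasses.mk g = ConjClasses.mk g then
        (Nat.card (Subgroup.centralizer ({g} : Set G)) : ℂ) else 0 := by
    unfold Cfsg.classInner
    rw [← Finset.mul_sum, Finset.sum_comm]
    congr 1
    apply Finset.sum_congr rfl
    intro g _
    simp_rw [hval]
    rw [sum_irr_mul_conj (star g) g]
    by_cases h : IsConj (star g) g
    · rw [if_pos h, if_pos ((hconj g).mp h), card_centralizer_eq_of_isConj h]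
    · rw [if_neg h, if_neg (fun h' => h ((hconj g).mpr h'))]
  have key2 : ∑ g : G, (if a • ConjClasses.mk g = ConjClasses.mk g then
        (Nat.card (Subgroup.centralizer ({g} : Set G)) : ℂ) else 0) =
      (Nat.card G : ℂ) * ∑ C : ConjClasses G, if a • C = C then (1 : ℂ) else 0 := by
    rw [← Finset.sum_fiberwise Finset.univ (fun g : G => ConjClasses.mk g), Finset.mul_sum]
    apply Finset.sum_congr rfl
    intro C _
    by_cases hC : a • C = C
    · rw [if_pos hC, mul_one, ← sum_card_centralizer_fibre C]
      apply Finset.sum_congr rfl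
      intro g hg
      rw [Finset.mem_filter] at hg
      rw [hg.2, if_pos hC]
    · rw [if_neg hC, mul_zero]
      apply Finset.sum_eq_zero
      intro g hg
      rw [Finset.mem_filter] at hg
      rw [hg.2, if_neg hC]
  have : (Nat.card {χ : Cfsg.IrrCharacter G // a • χ = χ} : ℂ) =
      (Nat.card {C : ConjClasses G // a • C = C} : ℂ) := by
    rw [hL, key, key2, hR, ← mul_assoc, inv_mul_cancel₀ hG, one_mul]
  exact_mod_cast this

end Cfsg.Agent.S0860
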