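import Mathlib
import Cfsg.Statements.S0869

set_option autoImplicit false
open Cfsg

namespace Cfsg.Agent.S0869

theorem exists_eval_one {S : Type*} (R : AddSubgroup (S → ℤ)) (x : S)
    (h : ∀ p : ℕ, p.Prime → ∃ f ∈ R, ¬ (p : ℤ) ∣ f x) : ∃ f ∈ R, f x = 1 := by
  classical
  let I : AddSubgroup ℤ := R.map (Pi.evalAddMonoidHom (fun _ : S => ℤ) x)
  have hI : ∀ a : ℤ, a ∈ I ↔ ∃ f ∈ R, f x = a := by
    intro a
    simp [I, AddSubgroup.mem_map]
  obtain ⟨⟨n, hn⟩, hgen⟩ := (inferInstance : IsAddCyclic I).exists_generator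
  have hdiv : ∀ a ∈ I, n ∣ a := by
    intro a ha
    have := hgen ⟨a, ha⟩
    rw [AddSubgroup.mem_zmultiples_iff] at this
    obtain ⟨k, hk⟩ := this
    have hk' := congrArg Subtype.val hk
    simp at hk'
    exact ⟨k, by rw [← hk']; ring⟩
  by_cases hn1 : n.natAbs = 1
  · rcases Int.natAbs_eq n with h1 | h1
    · rw [hn1] at h1
      obtain ⟨f, hf, hfx⟩ := (hI n).mp hn
      exact ⟨f, hf, by rw [hfx, h1]; rfl⟩
    · rw [hn1] at h1
      obtain ⟨f, hf, hfx⟩ := (hI n).mp hn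
      refine ⟨-f, R.neg_mem hf, ?_⟩
      simp [hfx, h1]
  · exfalso
    obtain ⟨p, hp, hpn⟩ := Nat.exists_prime_and_dvd hn1
    obtain ⟨f, hf, hfx⟩ := h p hp
    apply hfx
    have h1 : n ∣ f x := hdiv _ ((hI _).mpr ⟨f, hf, rfl⟩)
    have h2 : (p : ℤ) ∣ n := Int.natCast_dvd.mpr hpn
    exact h2.trans h1

theorem one_sub_prod_mem {S : Type*} (R : AddSubgroup (S → ℤ))
    (hmul : ∀ f ∈ R, ∀ g ∈ R, f * g ∈ R) (F : S → (S → ℤ)) (hF : ∀ x, F x ∈ R) (T : Finset S) :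
    1 - ∏ x ∈ T, (1 - F x) ∈ R := by
  classical
  induction T using Finset.induction_on with
  | empty => simp
  | insert a T ha ih =>
    rw [Finset.prod_insert ha]
    set Q := ∏ x ∈ T, (1 - F x) with hQ
    have : 1 - (1 - F a) * Q = F a + (1 - Q) - F a * (1 - Q) := by ring
    rw [this]
    exact R.sub_mem (R.add_mem (hF a) ih) (hmul _ (hF a) _ ih)

theorem result {S : Type*} [Finite S] [Nonempty S] (R : AddSubgroup (S → ℤ)) (hmul : ∀ f ∈ R, ∀ g ∈ R, f * g ∈ R) (h1 : (1 : S → ℤ) ∉ R) : ∃ (x : S) (p : ℕ), p.Prime ∧ ∀ f ∈ R, (p : ℤ) ∣ f x := by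
  classical
  by_contra hcon
  push Not at hcon
  have hex : ∀ x : S, ∃ f ∈ R, f x = 1 := fun x => exists_eval_one R x (hcon x)
  choose F hFR hF1 using hex
  have := Fintype.ofFinite S
  have key := one_sub_prod_mem R hmul F hFR Finset.univ
  apply h1
  have hz : ∏ x : S, (1 - F x) = 0 := by
    funext y
    rw [Finset.prod_apply]
    apply Finset.prod_eq_zero (Finset.mem_univ y)
    simp [hF1 y]
  rw [hz, sub_zero] at key
  exact key

end Cfsg.Agent.S0869
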