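import Mathlib
import Cfsg.Statements.S0870
import Cfsg.Agent.Helper5.PermChar

set_option autoImplicit false
open Cfsg

namespace Cfsg.Agent.S0870

open Cfsg.Agent.Helper5

theorem exists_rep {G : Type*} [Group G] (H K : Subgroup G)
    (ω : MulAction.orbitRel.Quotient G ((G ⧸ H) × (G ⧸ K))) :
    ∃ x : (G ⧸ H) × (G ⧸ K), Quotient.mk'' x = ω ∧ MulAction.stabilizer G x ≤ H := by
  induction ω using Quotient.inductionOn' with
  | h p =>
    obtain ⟨q1, q2⟩ := p
    induction q1 using QuotientGroup.induction_on with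
    | H a =>
      refine ⟨a⁻¹ • ((a : G ⧸ H), q2), ?_, ?_⟩
      · rw [Quotient.eq'']
        exact ⟨a⁻¹, rfl⟩
      · intro g hg
        rw [MulAction.mem_stabilizer_iff] at hg
        have h1 := congrArg Prod.fst hg
        simp only [Prod.smul_fst, MulAction.Quotient.smul_mk, smul_eq_mul, inv_mul_cancel] at h1
        have h2 := (QuotientGroup.eq (s := H)).mp h1
        simpa using H.inv_mem h2

theorem result {G : Type*} [Group G] [Fintype G] (H K : Subgroup G) : ∃ a : Subgroup G → ℕ, (∀ U, a U ≠ 0 → U ≤ H) ∧ Cfsg.indFun H (fun _ => 1) * Cfsg.indFun K (fun _ => 1) = ∑ U : Subgroup G, (a U : ℂ) • Cfsg.indFun U (fun _ => 1) := by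
  classical
  choose rep hrep hstab using exists_rep H K
  have : Fintype (MulAction.orbitRel.Quotient G ((G ⧸ H) × (G ⧸ K))) := Fintype.ofFinite _
  let S : MulAction.orbitRel.Quotient G ((G ⧸ H) × (G ⧸ K)) → Subgroup G :=
    fun ω => MulAction.stabilizer G (rep ω)
  refine ⟨fun U => (Finset.univ.filter (fun ω => S ω = U)).card, ?_, ?_⟩
  · intro U hU
    obtain ⟨ω, hω⟩ := Finset.card_pos.mp (Nat.pos_of_ne_zero hU)
    rw [Finset.mem_filter] at hω
    rw [← hω.2]
    exact hstab ω
  · funext g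
    rw [Pi.mul_apply, indFun_one_eq_card_fixedBy, indFun_one_eq_card_fixedBy, ← Nat.cast_mul,
      ← card_fixedBy_prod, card_fixedBy_eq_sum_orbits g rep hrep, Finset.sum_apply]
    simp only [Pi.smul_apply, smul_eq_mul]
    rw [Nat.cast_sum, ← Finset.sum_fiberwise Finset.univ S]
    apply Finset.sum_congr rfl
    intro U _
    rw [Finset.card_eq_sum_ones, Nat.cast_sum, Finset.sum_mul]
    apply Finset.sum_congr rfl
    intro ω hω
    rw [Finset.mem_filter] at hω
    rw [Nat.cast_one, one_mul, indFun_one_eq_card_fixedBy, ← hω.2]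

end Cfsg.Agent.S0870
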