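import Mathlib
import Cfsg.Statements.S0871
import Cfsg.Agent.Helper5.PermChar

set_option autoImplicit false
open Cfsg

namespace Cfsg.Agent.S0871

open Cfsg.Agent.Helper5

/-- `H` is `p`-quasi-elementary (in the sense of the statement). -/
def IsQE {G : Type*} [Group G] (p : ℕ) (H : Subgroup G) : Prop :=
  ∃ C : Subgroup G, C ≤ H ∧ H ≤ Subgroup.normalizer (C : Set G) ∧ IsCyclic C ∧
    Nat.Coprime (Nat.card C) p ∧ ∃ k : ℕ, C.relIndex H = p ^ k

theorem key {G : Type*} [Group G] [Finite G] (x : G) (p : ℕ) (hp : p.Prime) :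
    ∃ H : Subgroup G, IsQE p H ∧ ¬ p ∣ Nat.card (MulAction.fixedBy (G ⧸ H) x) := by
  have : Fact p.Prime := ⟨hp⟩
  obtain ⟨a, m, hm, ho⟩ := Nat.exists_eq_pow_mul_and_not_dvd (orderOf_pos x).ne' p hp.ne_one
  set y := x ^ (p ^ a) with hy
  have hym : orderOf y = m := by
    rw [hy, orderOf_pow_of_dvd (pow_ne_zero _ hp.ne_zero) ⟨m, ho⟩, ho,
      Nat.mul_div_cancel_left _ (pow_pos hp.pos _)]
  set C := Subgroup.zpowers y with hC
  have hCcard : Nat.card C = m := by rw [Nat.card_zpowers, hym]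
  have hcop : Nat.Coprime m p := (Nat.Coprime.symm ((Nat.Prime.coprime_iff_not_dvd hp).mpr hm))
  set N := Subgroup.normalizer (C : Set G) with hN
  have hCN : C ≤ N := Subgroup.le_normalizer
  have hxy : Commute x y := (Commute.refl x).pow_right _
  have hxN : x ∈ N := by
    rw [hN, Subgroup.mem_normalizer_iff]
    intro c
    have hcomm : ∀ c ∈ C, x * c * x⁻¹ = c := by
      intro c hc
      obtain ⟨k, rfl⟩ := Subgroup.mem_zpowers_iff.mp hc
      have := (hxy.zpow_right k).eq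
      rw [this, mul_inv_cancel_right]
    constructor
    · intro hc
      rw [hcomm c hc]; exact hc
    · intro hc
      have h2 := hcomm _ hc
      have : x * c * x⁻¹ = c := by
        have h3 : x⁻¹ * (x * (x * c * x⁻¹) * x⁻¹) * x = x⁻¹ * (x * c * x⁻¹) * x := by rw [h2]
        simpa [mul_assoc] using h3
      rw [← this]; exact hc
  set CN : Subgroup N := C.subgroupOf N with hCNdef
  have hCNn : CN.Normal := Subgroup.normal_in_normalizer
  let P₀ : Sylow p N := default
  set HN : Subgroup N := CN ⊔ (P₀ : Subgroup N) with hHN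
  set H : Subgroup G := HN.map N.subtype with hH
  have hCmap : CN.map N.subtype = C := Subgroup.map_subgroupOf_eq_of_le hCN
  have hCH : C ≤ H := by
    rw [← hCmap, hH]
    exact Subgroup.map_mono le_sup_left
  have hHleN : H ≤ N := Subgroup.map_subtype_le _
  have hHsub : H.subgroupOf N = HN := by
    rw [hH]
    ext n
    simp [Subgroup.mem_subgroupOf]
  obtain ⟨k, hk⟩ : ∃ k, C.relIndex H = p ^ k := by
    have h1 : C.relIndex H = CN.relIndex HN := by
      rw [← hCmap, hH, Subgroup.relIndex_map_map_of_injective _ _ N.subtype_injective]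
    rw [h1, hHN, Subgroup.relIndex_sup_left]
    obtain ⟨n, hn⟩ := P₀.2.exists_card_eq
    have h2 : CN.relIndex (P₀ : Subgroup N) ∣ p ^ n := hn ▸ Subgroup.relIndex_dvd_card _ _
    obtain ⟨j, _, hj⟩ := (Nat.dvd_prime_pow hp).mp h2
    exact ⟨j, hj⟩
  refine ⟨H, ⟨C, hCH, hHleN, inferInstance, hCcard ▸ hcop, k, hk⟩, ?_⟩
  -- elements of `H` of order prime to `p` lie in `C`
  have hCHnormal : (C.subgroupOf H).Normal :=
    (Subgroup.normal_subgroupOf_iff_le_normalizer hCH).mpr hHleN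
  have hpow : ∀ c : G, c ∈ H → c ^ (p ^ k) ∈ C := by
    intro c hc
    have := Subgroup.pow_index_mem (C.subgroupOf H) (⟨c, hc⟩ : H)
    rw [← Subgroup.relIndex, hk] at this
    exact this
  have hmemC : ∀ c : G, c ∈ H → orderOf c = m → c ∈ C := by
    intro c hc hcm
    have hcop' : Nat.Coprime (p ^ k) (orderOf c) := by
      rw [hcm]; exact (Nat.Coprime.pow_left k hcop.symm)
    obtain ⟨j, hj⟩ := exists_pow_eq_self_of_coprime hcop'
    rw [← hj]
    exact C.pow_mem (hpow c hc) j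
  have hNmem : ∀ g : G, g⁻¹ * x * g ∈ H → g ∈ N := by
    intro g hg
    have h1 : g⁻¹ * y * g ∈ H := by
      have : g⁻¹ * y * g = (g⁻¹ * x * g) ^ (p ^ a) := by
        rw [hy]
        have := conj_pow (a := g⁻¹) (b := x) (i := p ^ a)
        simpa using this.symm
      rw [this]
      exact H.pow_mem hg _
    have h2 : orderOf (g⁻¹ * y * g) = m := by
      have hsc : SemiconjBy g⁻¹ y (g⁻¹ * y * g) := by
        unfold SemiconjBy; group
      rw [← hsc.orderOf_eq, hym]
    have h3 : g⁻¹ * y * g ∈ C := hmemC _ h1 h2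
    -- g⁻¹ normalizes C
    have h4 : g⁻¹ ∈ N := by
      rw [hN]
      apply Subgroup.mem_normalizer_fintype
      intro c hc
      obtain ⟨j, rfl⟩ := Subgroup.mem_zpowers_iff.mp hc
      have : g⁻¹ * y ^ j * g⁻¹⁻¹ = (g⁻¹ * y * g) ^ j := by
        have := conj_zpow (a := g⁻¹) (b := y) (i := j)
        simpa using this.symm
      rw [this]
      exact C.zpow_mem h3 j
    simpa using N.inv_mem h4
  rw [card_fixedBy_eq_card_fixedBy_subgroupOf H N x hxN hNmem]
  -- now count mod p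
  have hyC : ∀ t : N ⧸ H.subgroupOf N, (⟨x, hxN⟩ : N) ^ (p ^ a) • t = t := by
    intro t
    induction t using QuotientGroup.induction_on with
    | H n =>
      rw [smul_mk_eq_iff, Subgroup.mem_subgroupOf]
      apply hCH
      have hyCN : (⟨y, hCN (Subgroup.mem_zpowers y)⟩ : N) ∈ CN := by
        rw [hCNdef, Subgroup.mem_subgroupOf]; exact Subgroup.mem_zpowers y
      have hconj := hCNn.conj_mem _ hyCN n⁻¹
      rw [hCNdef, Subgroup.mem_subgroupOf] at hconj
      simpa [hy] using hconj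
  have hmod := card_modEq_card_fixedBy_of_pow_smul p (⟨x, hxN⟩ : N) a hyC
  intro hdvd
  have h5 : p ∣ Nat.card (N ⧸ H.subgroupOf N) :=
    (Nat.modEq_zero_iff_dvd.mp (hmod.trans (Nat.modEq_zero_iff_dvd.mpr hdvd)))
  rw [hHsub, ← Subgroup.index] at h5
  have h6 : HN.index ∣ (P₀ : Subgroup N).index := Subgroup.index_dvd_of_le le_sup_right
  exact P₀.not_dvd_index (h5.trans h6)

theorem result {G : Type*} [Group G] [Fintype G] (x : G) (p : ℕ) (hp : p.Prime) : ∃ H : Subgroup G, (∃ C : Subgroup G, C ≤ H ∧ H ≤ Subgroup.normalizer (C : Set G) ∧ IsCyclic C ∧ Nat.Coprime (Nat.card C) p ∧ ∃ k : ℕ, C.relIndex H = p ^ k) ∧ ∃ n : ℕ, Cfsg.indFun H (fun _ => 1) x = (n : ℂ) ∧ ¬ p ∣ n := by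
  obtain ⟨H, hQE, hdvd⟩ := key x p hp
  exact ⟨H, hQE, _, indFun_one_eq_card_fixedBy H x, hdvd⟩

end Cfsg.Agent.S0871
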