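import Mathlib
import Cfsg.Statements.S0872
import Cfsg.Agent.Helper5.PermChar
import Cfsg.Agent.S0870
import Cfsg.Agent.S0871

set_option autoImplicit false
open Cfsg

namespace Cfsg.Agent.S0872

open Cfsg.Agent.Helper5 Cfsg.Agent.S0871

variable {G : Type*} [Group G]

/-- Subgroups of `p`-quasi-elementary groups are `p`-quasi-elementary. -/
theorem isQE_of_le {p : ℕ} (hp : p.Prime) {U H : Subgroup G} (hUH : U ≤ H) (hH : IsQE p H) : IsQE p U := by
  obtain ⟨C, hCH, hHN, hcyc, hcop, k, hk⟩ := hH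
  refine ⟨C ⊓ U, inf_le_right, ?_, ?_, ?_, ?_⟩
  · refine le_trans ?_ Subgroup.inf_normalizer_le_normalizer_inf
    exact le_inf (hUH.trans hHN) Subgroup.le_normalizer
  · exact Subgroup.isCyclic_of_le (inf_le_left : C ⊓ U ≤ C)
  · exact Nat.Coprime.coprime_dvd_left (Subgroup.card_dvd_of_le inf_le_left) hcop
  · rw [Subgroup.inf_relIndex_right]
    have hn : (C.subgroupOf H).Normal := (Subgroup.normal_subgroupOf_iff_le_normalizer hCH).mpr hHN
    have h1 : (C.subgroupOf H).relIndex (U.subgroupOf H) ∣ (C.subgroupOf H).index :=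
      Subgroup.relIndex_dvd_index_of_normal _ _
    rw [Subgroup.relIndex_subgroupOf hUH, ← Subgroup.relIndex, hk] at h1
    obtain ⟨j, _, hj⟩ := (Nat.dvd_prime_pow hp).mp h1
    exact ⟨j, hj⟩

/-- The integer valued permutation character. -/
noncomputable def permZ (H : Subgroup G) : G → ℤ := fun g => (Nat.card (MulAction.fixedBy (G ⧸ H) g) : ℤ)

/-- The span of permutation characters of `p`-quasi-elementary subgroups. -/
noncomputable def RQE (p : ℕ) : Submodule ℤ (G → ℤ) :=
  Submodule.span ℤ (Set.range fun H : {H : Subgroup G // IsQE p H} => permZ H.1)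

theorem permZ_mem {p : ℕ} {H : Subgroup G} (hH : IsQE p H) : permZ H ∈ RQE (G := G) p :=
  Submodule.subset_span ⟨⟨H, hH⟩, rfl⟩

theorem permZ_mul_mem [Finite G] {p : ℕ} (hp : p.Prime) {H : Subgroup G} (hH : IsQE p H) (K : Subgroup G) :
    permZ H * permZ K ∈ RQE (G := G) p := by
  classical
  choose rep hrep hstab using Cfsg.Agent.S0870.exists_rep H K
  have : Fintype (MulAction.orbitRel.Quotient G ((G ⧸ H) × (G ⧸ K))) := Fintype.ofFinite _
  have : permZ H * permZ K = ∑ ω : MulAction.orbitRel.Quotient G ((G ⧸ H) × (G ⧸ K)),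
      permZ (MulAction.stabilizer G (rep ω)) := by
    funext g
    rw [Pi.mul_apply, Finset.sum_apply]
    unfold permZ
    rw [← Nat.cast_mul, ← card_fixedBy_prod, card_fixedBy_eq_sum_orbits g rep hrep, Nat.cast_sum]
  rw [this]
  apply Submodule.sum_mem
  intro ω _
  exact permZ_mem (isQE_of_le hp (hstab ω) hH)

theorem mul_mem_RQE [Finite G] {p : ℕ} (hp : p.Prime) {f g : G → ℤ} (hf : f ∈ RQE (G := G) p)
    (hg : g ∈ RQE (G := G) p) : f * g ∈ RQE (G := G) p := by
  unfold RQE at hf hg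
  induction hf, hg using Submodule.span_induction₂ with
  | mem_mem x y hx hy =>
    obtain ⟨⟨H, hH⟩, rfl⟩ := hx
    obtain ⟨⟨K, hK⟩, rfl⟩ := hy
    exact permZ_mul_mem hp hH K
  | zero_left y hy => rw [zero_mul]; exact Submodule.zero_mem _
  | zero_right x hx => rw [mul_zero]; exact Submodule.zero_mem _
  | add_left x y z hx hy hz h1 h2 => rw [add_mul]; exact Submodule.add_mem _ h1 h2
  | add_right x y z hx hy hz h1 h2 => rw [mul_add]; exact Submodule.add_mem _ h1 h2
  | smul_left r x y hx hy h => rw [smul_mul_assoc]; exact Submodule.smul_mem _ r h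
  | smul_right r x y hx hy h => rw [mul_smul_comm]; exact Submodule.smul_mem _ r h

theorem prod_sub_mem [Finite G] {p : ℕ} (hp : p.Prime) (F : G → (G → ℤ)) (hF : ∀ x, F x ∈ RQE (G := G) p)
    (c : G → ℤ) (T : Finset G) :
    (fun _ => ∏ x ∈ T, c x) - ∏ x ∈ T, ((fun _ => c x) - F x) ∈ RQE (G := G) p := by
  classical
  induction T using Finset.induction_on with
  | empty =>
    have : ((fun _ => ∏ x ∈ (∅ : Finset G), c x) - ∏ x ∈ (∅ : Finset G), ((fun _ => c x) - F x) : G → ℤ) = 0 := by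
      funext g; simp
    rw [this]; exact Submodule.zero_mem _
  | insert a T ha ih =>
    rw [Finset.prod_insert ha, Finset.prod_insert ha]
    set M := ∏ x ∈ T, c x with hM
    set Q := ∏ x ∈ T, ((fun _ => c x) - F x) with hQ
    set r : G → ℤ := (fun _ => M) - Q with hr
    have : ((fun _ => c a * M) - ((fun _ => c a) - F a) * Q : G → ℤ)
        = c a • r + M • F a - F a * r := by
      funext g
      simp only [hr, Pi.sub_apply, Pi.mul_apply, Pi.add_apply, Pi.smul_apply, smul_eq_mul]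
      ring
    rw [this]
    exact Submodule.sub_mem _ (Submodule.add_mem _ (Submodule.smul_mem _ _ ih)
      (Submodule.smul_mem _ _ (hF a))) (mul_mem_RQE hp (hF a) ih)

theorem exists_const_mem [Finite G] {p : ℕ} (hp : p.Prime) :
    ∃ m : ℤ, ¬ (p : ℤ) ∣ m ∧ (fun _ => m) ∈ RQE (G := G) p := by
  classical
  have := Fintype.ofFinite G
  have hex : ∀ x : G, ∃ H : Subgroup G, IsQE p H ∧ ¬ p ∣ Nat.card (MulAction.fixedBy (G ⧸ H) x) :=
    fun x => key x p hp
  choose Hx hQE hnd using hex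
  refine ⟨∏ x : G, permZ (Hx x) x, ?_, ?_⟩
  · rw [Prime.dvd_finsetProd_iff (Nat.prime_iff_prime_int.mp hp)]
    rintro ⟨x, _, hx⟩
    exact hnd x (Int.natCast_dvd_natCast.mp hx)
  · have h := prod_sub_mem hp (fun x => permZ (Hx x)) (fun x => permZ_mem (hQE x))
      (fun x => permZ (Hx x) x) Finset.univ
    have hz : ∏ x : G, ((fun _ => permZ (Hx x) x) - permZ (Hx x) : G → ℤ) = 0 := by
      funext y
      rw [Finset.prod_apply]
      apply Finset.prod_eq_zero (Finset.mem_univ y)
      simp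
    rw [hz, sub_zero] at h
    exact h

theorem result {G : Type*} [Group G] [Fintype G] (p : ℕ) (hp : p.Prime) : ∃ (m : ℤ) (a : Subgroup G → ℤ), ¬ (p : ℤ) ∣ m ∧ (∀ H, a H ≠ 0 → (∃ C : Subgroup G, C ≤ H ∧ H ≤ Subgroup.normalizer (C : Set G) ∧ IsCyclic C ∧ Nat.Coprime (Nat.card C) p ∧ ∃ k : ℕ, C.relIndex H = p ^ k)) ∧ (fun _ : G => (m : ℂ)) = ∑ H : Subgroup G, (a H : ℂ) • Cfsg.indFun H (fun _ => 1) := by
  classical
  obtain ⟨m, hm, hmem⟩ := exists_const_mem (G := G) hp
  have : Fintype {H : Subgroup G // IsQE p H} := Fintype.ofFinite _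
  unfold RQE at hmem
  rw [Submodule.mem_span_range_iff_exists_fun] at hmem
  obtain ⟨c, hc⟩ := hmem
  refine ⟨m, fun H => if h : IsQE p H then c ⟨H, h⟩ else 0, hm, ?_, ?_⟩
  · intro H hH
    by_cases h : IsQE p H
    · exact h
    · simp only [dif_neg h] at hH; exact absurd rfl hH
  · funext g
    have hcg := congrFun hc g
    rw [Finset.sum_apply] at hcg
    rw [Finset.sum_apply, ← hcg, Int.cast_sum]
    have h1 : ∀ H : Subgroup G, ((((if h : IsQE p H then c ⟨H, h⟩ else 0 : ℤ) : ℂ)) •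
        Cfsg.indFun H (fun _ => 1)) g = if IsQE p H then
          ((((if h : IsQE p H then c ⟨H, h⟩ else 0 : ℤ) : ℂ)) • Cfsg.indFun H (fun _ => 1)) g else 0 := by
      intro H
      by_cases h : IsQE p H
      · rw [if_pos h]
      · rw [if_neg h, dif_neg h]; simp
    rw [Finset.sum_congr rfl (fun H _ => h1 H), ← Finset.sum_filter,
      Finset.sum_subtype (Finset.univ.filter (fun H : Subgroup G => IsQE p H)) (p := fun H => IsQE p H)
        (by intro H; simp)]
    apply Finset.sum_congr rfl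
    rintro ⟨H, hH⟩ _
    rw [dif_pos hH, Pi.smul_apply, Pi.smul_apply, indFun_one_eq_card_fixedBy]
    simp [permZ]

end Cfsg.Agent.S0872
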