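import Mathlib
import Cfsg.Statements.S0873
import Cfsg.Agent.Helper5.LinChar
import Cfsg.Agent.Helper5.ConjAct

set_option autoImplicit false
open Cfsg

namespace Cfsg.Agent.S0873

open Cfsg.Agent.Helper5

theorem result {G : Type*} [Group G] [Finite G] (p : ℕ) [Fact p.Prime] (C P : Subgroup G) [hC : C.Normal] (hP : IsPGroup p P) (hcop : Nat.Coprime (Nat.card C) p) (hCP : C ⊔ P = ⊤) (lam : C → ℂ) (hlam : Cfsg.IsCharacter C lam ∧ lam 1 = 1) (hinv : ∀ (g : G) (c : C), lam ⟨g * c * g⁻¹, hC.conj_mem (c : G) c.2 g⟩ = lam c) (hker : ∀ c : C, (c : G) ∈ Subgroup.centralizer (P : Set G) → lam c = 1) : lam = fun _ => 1 := by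
  classical
  funext c
  -- the kernel of lam
  let φ := linCharHom hlam.1 hlam.2
  have hφ : ∀ x : C, φ x = lam x := fun _ => rfl
  -- the set of elements of C with the same value as c
  let S : Set G := {x | ∃ hx : x ∈ C, lam ⟨x, hx⟩ = lam c}
  have hSstab : ∀ u ∈ P, ∀ s ∈ S, u * s * u⁻¹ ∈ S := by
    rintro u _ s ⟨hs, hs'⟩
    exact ⟨hC.conj_mem s hs u, (hinv u ⟨s, hs⟩).trans hs'⟩
  -- S is in bijection with the kernel of φ
  have hcard : Nat.card S = Nat.card φ.ker := by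
    apply Nat.card_congr
    refine ⟨fun s => ⟨c⁻¹ * ⟨s.1, s.2.1⟩, ?_⟩, fun k => ⟨((c * k.1 : C) : G), ⟨(c * k.1).2, ?_⟩⟩, ?_, ?_⟩
    · rw [MonoidHom.mem_ker, map_mul, hφ, hφ, linChar_inv hlam.1 hlam.2, s.2.2,
        inv_mul_cancel₀ (linChar_ne_zero hlam.1 hlam.2 c)]
    · have hk : φ k.1 = 1 := k.2
      show lam (c * k.1) = lam c
      rw [← hφ, map_mul, hk, mul_one]; rfl
    · intro s
      apply Subtype.ext
      simp
    · intro k
      apply Subtype.ext
      apply Subtype.ext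
      simp
  have hfin : Finite S := Finite.of_injective (fun s : S => (s : G)) Subtype.val_injective
  have hnd : ¬ p ∣ Nat.card S := by
    rw [hcard]
    intro hdvd
    have h1 : Nat.card φ.ker ∣ Nat.card C := Subgroup.card_subgroup_dvd_card _
    have h2 : p ∣ Nat.card C := hdvd.trans h1
    exact (Nat.Prime.coprime_iff_not_dvd Fact.out).mp hcop.symm h2
  obtain ⟨s, ⟨hsC, hs⟩, hscent⟩ := exists_mem_centralizer_of_not_dvd_card p P hP S hSstab hnd
  rw [← hs]
  exact hker ⟨s, hsC⟩ hscent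

end Cfsg.Agent.S0873
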