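import Mathlib
import Cfsg.Statements.S0874
import Cfsg.Agent.Helper24.BrauerMain

set_option autoImplicit false
open Cfsg

namespace Cfsg.Agent.S0874

open Cfsg.Agent.Helper24

/-- Negating the integer coefficients of a list negates its sum. -/
theorem neg_list_sum {G : Type*} [Group G] [Fintype G]
    (l : List ((E : Subgroup G) × ((E → ℂ) × ℤ))) :
    -(l.map fun t => (t.2.2 : ℂ) • Cfsg.indFun t.1 t.2.1).sum =
      ((l.map fun t => (⟨t.1, t.2.1, -t.2.2⟩ : (E : Subgroup G) × ((E → ℂ) × ℤ))).map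
        fun t => (t.2.2 : ℂ) • Cfsg.indFun t.1 t.2.1).sum := by
  induction l with
  | nil => simp
  | cons a l ih =>
    rw [List.map_cons, List.map_cons, List.map_cons, List.sum_cons, List.sum_cons, neg_add, ih]
    congr 1
    simp

/-- Membership in the additive closure of a set of induced characters, in list form. -/
theorem exists_list_of_mem_closure {G : Type*} [Group G] [Fintype G] (p : ℕ) (f : G → ℂ)
    (hf : f ∈ AddSubgroup.closure {φ : G → ℂ | ∃ (E : Subgroup G) (ψ : E → ℂ),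
      IsElementary p E ∧ IsCharacter E ψ ∧ φ = indFun E ψ}) :
    ∃ l : List ((E : Subgroup G) × ((E → ℂ) × ℤ)),
      (∀ t ∈ l, Cfsg.IsElementary p t.1 ∧ Cfsg.IsCharacter t.1 t.2.1) ∧
      f = (l.map fun t => (t.2.2 : ℂ) • Cfsg.indFun t.1 t.2.1).sum := by
  induction hf using AddSubgroup.closure_induction with
  | mem φ hφ =>
    obtain ⟨E, ψ, hE, hψ, rfl⟩ := hφ
    refine ⟨[⟨E, ψ, 1⟩], ?_, ?_⟩
    · intro t ht
      rw [List.mem_singleton] at ht
      subst ht
      exact ⟨hE, hψ⟩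
    · simp
  | zero => exact ⟨[], by simp, by simp⟩
  | add x y _ _ hx hy =>
    obtain ⟨l₁, h₁, rfl⟩ := hx
    obtain ⟨l₂, h₂, rfl⟩ := hy
    refine ⟨l₁ ++ l₂, ?_, ?_⟩
    · intro t ht
      rcases List.mem_append.mp ht with h | h
      · exact h₁ t h
      · exact h₂ t h
    · rw [List.map_append, List.sum_append]
  | neg x _ hx =>
    obtain ⟨l₁, h₁, rfl⟩ := hx
    refine ⟨l₁.map fun t => ⟨t.1, t.2.1, -t.2.2⟩, ?_, ?_⟩
    · intro t ht
      obtain ⟨s, hs, rfl⟩ := List.mem_map.mp ht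
      exact h₁ s hs
    · exact neg_list_sum l₁

/-- For a finite group G and a prime p there are an integer m not divisible by p and a list of triples (E, φ, c), with E a p-elementary subgroup, φ a character of E and c an integer, such that the constant function m on G equals the sum of the c • (function induced from φ). -/
theorem result {G : Type*} [Group G] [Fintype G] (p : ℕ) (hp : p.Prime) : ∃ (m : ℤ) (l : List ((E : Subgroup G) × ((E → ℂ) × ℤ))), ¬ (p : ℤ) ∣ m ∧ (∀ t ∈ l, Cfsg.IsElementary p t.1 ∧ Cfsg.IsCharacter t.1 t.2.1) ∧ (fun _ : G => (m : ℂ)) = (l.map fun t => (t.2.2 : ℂ) • Cfsg.indFun t.1 t.2.1).sum := by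
  classical
  have := Fact.mk hp
  have : Fintype (IrrCharacter G) := Fintype.ofFinite _
  obtain ⟨l₀, hl₀, hmem⟩ := exists_coprime_smul_one_mem (G := G) p
  have hone : ((l₀ : ℂ) • (fun _ : G => (1 : ℂ))) = ∑ χ : IrrCharacter G,
      ((Pi.single (trivIrr G) (l₀ : ℤ) : IrrCharacter G → ℤ) χ : ℂ) • (χ : G → ℂ) := by
    rw [Finset.sum_eq_single (trivIrr G)]
    · rw [Pi.single_eq_same]
      funext g
      simp [trivIrr_apply]
    · intro χ _ hχ
      rw [Pi.single_eq_of_ne hχ, Int.cast_zero, zero_smul]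
    · intro h
      exact absurd (Finset.mem_univ _) h
  have hS : ∀ φ ∈ {φ : G → ℂ | ∃ (E : Subgroup G) (ψ : E → ℂ),
      IsElementary p E ∧ IsCharacter E ψ ∧ φ = indFun E ψ}, IsCharacter G φ := by
    rintro φ ⟨E, ψ, _, hψ, rfl⟩
    exact isCharacter_indFun E hψ
  have hmem2 := mem_closure_of_mem_closure_integral _ hS
    (Pi.single (trivIrr G) (l₀ : ℤ) : IrrCharacter G → ℤ) (by
      rw [← hone]
      refine AddSubgroup.closure_mono ?_ hmem
      rintro h ⟨a, E, ψ, ha, hE, hψ, rfl⟩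
      exact ⟨a, indFun E ψ, ha, ⟨E, ψ, hE, hψ, rfl⟩, rfl⟩)
  rw [← hone] at hmem2
  obtain ⟨l, hl, hsum⟩ := exists_list_of_mem_closure p _ hmem2
  refine ⟨(l₀ : ℤ), l, ?_, hl, ?_⟩
  · intro h
    exact hl₀ (Int.natCast_dvd_natCast.mp h)
  · rw [← hsum]
    funext g
    simp

end Cfsg.Agent.S0874
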