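import Mathlib
import Cfsg.Statements.S0876
import Cfsg.Agent.Helper5.SectionChar2
import Cfsg.Agent.Helper5.PElementCongr

set_option autoImplicit false
open Cfsg

namespace Cfsg.Agent.S0876

open Cfsg.Agent.Helper5 Cfsg.Agent.Helper5.Loc Cfsg.Agent.Helper24

/-- Let G be a finite group, p a prime and M a maximal ideal of the ring of algebraic integers containing p. Let x, y be elements with p-parts a and b (so a⁻¹ * x and b⁻¹ * y are their p-regular parts). Then a⁻¹ * x and b⁻¹ * y are conjugate in G if and only if, for every irreducible character χ, the difference χ x - χ y lies in the local ideal at M. -/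
theorem result {G : Type*} [Group G] [Finite G] (p : ℕ) (M : Ideal Cfsg.AlgInt) (hM : Cfsg.IsPModular p M) (x y a b : G) (ha : Cfsg.IsPPart p x a) (hb : Cfsg.IsPPart p y b) : IsConj (a⁻¹ * x) (b⁻¹ * y) ↔ ∀ χ : Cfsg.IrrCharacter G, Cfsg.MemLocalIdeal M ((χ : G → ℂ) x - (χ : G → ℂ) y) := by
  classical
  have hp : Fact p.Prime := ⟨hM.1⟩
  have : Fintype G := Fintype.ofFinite G
  have : Fintype (IrrCharacter G) := Fintype.ofFinite _
  have hMp := isPrime_of_isPModular hM
  obtain ⟨x', hax, hcx, ⟨kx, hkx⟩, hx'⟩ := ha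
  obtain ⟨y', hby, hcy, ⟨ky, hky⟩, hy'⟩ := hb
  have ex : a⁻¹ * x = x' := by rw [← hax]; group
  have ey : b⁻¹ * y = y' := by rw [← hby]; group
  rw [ex, ey]
  have hxcong : ∀ χ : IrrCharacter G, MemLocalIdeal M ((χ : G → ℂ) x - (χ : G → ℂ) x') := by
    intro χ
    rw [← hax]
    apply char_mul_sub_char_memLocalIdeal hM (IsIrrCharacter.isCharacter χ.2) a x' hcx kx
    rw [← hkx]; exact pow_orderOf_eq_one a
  have hycong : ∀ χ : IrrCharacter G, MemLocalIdeal M ((χ : G → ℂ) y - (χ : G → ℂ) y') := by
    intro χ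
    rw [← hby]
    apply char_mul_sub_char_memLocalIdeal hM (IsIrrCharacter.isCharacter χ.2) b y' hcy ky
    rw [← hky]; exact pow_orderOf_eq_one b
  constructor
  · intro hconj χ
    have heq : (χ : G → ℂ) x' = (χ : G → ℂ) y' :=
      IsClassFunction.eq_of_isConj (isClassFunction_irr χ) hconj
    have := li_sub hMp (hxcong χ) (hycong χ)
    rw [heq] at this
    have e : (χ : G → ℂ) x - (χ : G → ℂ) y' - ((χ : G → ℂ) y - (χ : G → ℂ) y') =
        (χ : G → ℂ) x - (χ : G → ℂ) y := by ring
    rwa [e] at this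
  · intro hall
    have hall' : ∀ χ : IrrCharacter G, MemLocalIdeal M ((χ : G → ℂ) x' - (χ : G → ℂ) y') := by
      intro χ
      have h1 := li_sub hMp (hall χ) (hxcong χ)
      have h2 := li_add hMp h1 (hycong χ)
      have e : (χ : G → ℂ) x - (χ : G → ℂ) y - ((χ : G → ℂ) x - (χ : G → ℂ) x') +
          ((χ : G → ℂ) y - (χ : G → ℂ) y') = (χ : G → ℂ) x' - (χ : G → ℂ) y' := by ring
      rwa [e] at h2
    -- the section function
    have hG0 : Nat.card G ≠ 0 := Nat.card_pos.ne'
    set m := p ^ (Nat.card G).factorization p with hm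
    set n := Nat.card G / p ^ (Nat.card G).factorization p with hn
    have hmn : Nat.card G = m * n := (Nat.ordProj_mul_ordCompl_eq_self (Nat.card G) p).symm
    have hcop : Nat.Coprime m n := (Nat.coprime_ordCompl hp.out hG0).pow_left _
    have hpn : ¬ p ∣ n := Nat.not_dvd_ordCompl hp.out hG0
    by_contra hnc
    set ϑ : G → ℂ := fun z => if InSection m n x' z then (n : ℂ) else 0 with hϑ
    have hmem := section_mem_charSpanA m n hmn hcop x' ϑ
      (fun z hz => by simp only [hϑ]; rw [if_pos hz])
      (fun z hz => by simp only [hϑ]; rw [if_neg hz])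
    obtain ⟨d, hd, hsum⟩ := charSpanA_exists_coeff hmem
    have hordx : x' ^ n = 1 := by
      have h1 : orderOf x' ∣ m * n := by rw [← hmn]; exact orderOf_dvd_natCard x'
      have h2 : Nat.Coprime (orderOf x') m :=
        Nat.Coprime.pow_right _ ((Nat.Prime.coprime_iff_not_dvd hp.out).mpr hx').symm
      exact orderOf_dvd_iff_pow_eq_one.mp (h2.dvd_of_dvd_mul_left h1)
    have hordy : y' ^ n = 1 := by
      have h1 : orderOf y' ∣ m * n := by rw [← hmn]; exact orderOf_dvd_natCard y'
      have h2 : Nat.Coprime (orderOf y') m :=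
        Nat.Coprime.pow_right _ ((Nat.Prime.coprime_iff_not_dvd hp.out).mpr hy').symm
      exact orderOf_dvd_iff_pow_eq_one.mp (h2.dvd_of_dvd_mul_left h1)
    have hx1 : ϑ x' = n := by
      have h1 := (inSection_mul_iff hmn hcop x' (Commute.one_left x') (one_pow m) hordx).mpr
        (IsConj.refl x')
      rw [one_mul] at h1
      simp only [hϑ]; rw [if_pos h1]
    have hy0 : ϑ y' = 0 := by
      have h1 : ¬ InSection m n x' y' := by
        intro h
        have h2 := (inSection_mul_iff hmn hcop x' (Commute.one_left y') (one_pow m) hordy).mp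
          (by rwa [one_mul])
        exact hnc h2.symm
      simp only [hϑ]; rw [if_neg h1]
    have hdiff : MemLocalIdeal M (ϑ x' - ϑ y') := by
      rw [hsum]
      simp only [Finset.sum_apply, Pi.smul_apply, smul_eq_mul]
      rw [← Finset.sum_sub_distrib]
      apply li_sum hMp
      intro χ _
      rw [← mul_sub]
      exact li_mul_left hMp (memLocalRing_of_isIntegral hMp (hd χ)) (hall' χ)
    rw [hx1, hy0, sub_zero, memLocalIdeal_natCast_iff hM] at hdiff
    exact hpn hdiff

end Cfsg.Agent.S0876
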