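import Mathlib
import Cfsg.Statements.S0879
import Cfsg.Agent.Helper5.Zassenhaus

set_option autoImplicit false
open Cfsg

namespace Cfsg.Agent.S0879

open Cfsg.Agent.Helper5.Zassenhaus MulAction

section aux

variable {G Ω : Type*} [Group G] [MulAction G Ω]

theorem mem_E_iff {a b : Ω} {g : G} :
    g ∈ (stabilizer G a ⊓ stabilizer G b : Subgroup G) ↔ g • a = a ∧ g • b = b := by
  rw [Subgroup.mem_inf, mem_stabilizer_iff, mem_stabilizer_iff]

theorem inv_smul_of_smul {a b : Ω} {g : G} (h : g • a = b) : g⁻¹ • b = a := by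
  rw [← h, inv_smul_smul]

/-- An element preserving `{a, b}` normalizes the two point stabilizer. -/
theorem mem_normalizer_of_preserve {a b : Ω} {g : G}
    (h : (g • a = a ∧ g • b = b) ∨ (g • a = b ∧ g • b = a)) :
    g ∈ Subgroup.normalizer ((stabilizer G a ⊓ stabilizer G b : Subgroup G) : Set G) := by
  rw [Subgroup.mem_normalizer_iff]
  intro x
  rw [mem_E_iff, mem_E_iff]
  simp only [mul_smul]
  rcases h with ⟨ha, hb⟩ | ⟨ha, hb⟩
  · have ha' := inv_smul_of_smul ha
    have hb' := inv_smul_of_smul hb
    rw [ha', hb']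
    constructor
    · rintro ⟨h1, h2⟩
      rw [h1, h2]; exact ⟨ha, hb⟩
    · rintro ⟨h1, h2⟩
      constructor
      · have := congrArg (fun y => g⁻¹ • y) h1
        simpa [ha'] using this
      · have := congrArg (fun y => g⁻¹ • y) h2
        simpa [hb'] using this
  · have ha' := inv_smul_of_smul ha
    have hb' := inv_smul_of_smul hb
    rw [ha', hb']
    constructor
    · rintro ⟨h1, h2⟩
      rw [h1, h2]; exact ⟨hb, ha⟩
    · rintro ⟨h1, h2⟩
      constructor
      · have := congrArg (fun y => g⁻¹ • y) h2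
        simpa [ha'] using this
      · have := congrArg (fun y => g⁻¹ • y) h1
        simpa [hb'] using this

/-- If `g x g⁻¹` lies in the two point stabilizer for a non-identity `x` in it, then `g` preserves
`{a, b}`. -/
theorem preserve_of_conj_mem (hZ : IsZassenhausGroup G Ω) {a b : Ω} (hab : a ≠ b) {g x : G}
    (hx : x ∈ (stabilizer G a ⊓ stabilizer G b : Subgroup G)) (hx1 : x ≠ 1)
    (hgx : g * x * g⁻¹ ∈ (stabilizer G a ⊓ stabilizer G b : Subgroup G)) :
    (g • a = a ∧ g • b = b) ∨ (g • a = b ∧ g • b = a) := by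
  rw [mem_E_iff] at hx hgx
  have hne : g * x * g⁻¹ ≠ 1 := by
    intro h
    apply hx1
    have h2 : g * x = g := by
      have := congrArg (fun y => y * g) h
      simpa [mul_assoc] using this
    exact mul_left_cancel (a := g) (by rw [h2, mul_one])
  have h1 : (g * x * g⁻¹) • (g • a) = g • a := by
    rw [mul_smul, mul_smul, inv_smul_smul, hx.1]
  have h2 : (g * x * g⁻¹) • (g • b) = g • b := by
    rw [mul_smul, mul_smul, inv_smul_smul, hx.2]
  have hga := fixed_of_fix2 hZ hab hne hgx.1 hgx.2 h1
  have hgb := fixed_of_fix2 hZ hab hne hgx.1 hgx.2 h2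
  have hinj : g • a ≠ g • b := fun h => hab (smul_left_cancel g h)
  rcases hga with hga | hga <;> rcases hgb with hgb | hgb
  · exact absurd (hga.trans hgb.symm) hinj
  · exact Or.inl ⟨hga, hgb⟩
  · exact Or.inr ⟨hga, hgb⟩
  · exact absurd (hga.trans hgb.symm) hinj

end aux

/-- Let G be a Zassenhaus group on the finite set Ω and E the stabilizer of two distinct points a, b. Then an element outside the normalizer of E conjugates no non-identity element of E into E, and E has index 2 in its normalizer. -/
theorem result {G Ω : Type*} [Group G] [Finite G] [MulAction G Ω] [Fintype Ω] (hZ : Cfsg.IsZassenhausGroup G Ω) {a b : Ω} (hab : a ≠ b) : (∀ g : G, g ∉ Subgroup.normalizer ((MulAction.stabilizer G a ⊓ MulAction.stabilizer G b : Subgroup G) : Set G) → ∀ x ∈ (MulAction.stabilizer G a ⊓ MulAction.stabilizer G b : Subgroup G), g * x * g⁻¹ ∈ (MulAction.stabilizer G a ⊓ MulAction.stabilizer G b : Subgroup G) → x = 1) ∧ ((MulAction.stabilizer G a ⊓ MulAction.stabilizer G b : Subgroup G).subgroupOf (Subgroup.normalizer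 ((MulAction.stabilizer G a ⊓ MulAction.stabilizer G b : Subgroup G) : Set G))).index = 2 := by
  constructor
  · intro g hg x hx hgx
    by_contra hx1
    exact hg (mem_normalizer_of_preserve (preserve_of_conj_mem hZ hab hx hx1 hgx))
  · rw [Subgroup.index_eq_two_iff_exists_notMem_and]
    obtain ⟨t, hta, htb⟩ := two_trans hZ hab hab.symm
    have htN : t ∈ Subgroup.normalizer
        ((MulAction.stabilizer G a ⊓ MulAction.stabilizer G b : Subgroup G) : Set G) :=
      mem_normalizer_of_preserve (Or.inr ⟨hta, htb⟩)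
    refine ⟨⟨t, htN⟩, ?_, ?_⟩
    · rw [Subgroup.mem_subgroupOf, mem_E_iff]
      intro h
      exact hab (h.1.symm.trans hta)
    · rintro ⟨g, hg⟩
      rw [Subgroup.mem_subgroupOf, Subgroup.mem_subgroupOf]
      simp only [Subgroup.coe_mul]
      obtain ⟨x, hx1, hxa, hxb⟩ := exists_ne_one_fix2 hZ hab
      have hx : x ∈ (MulAction.stabilizer G a ⊓ MulAction.stabilizer G b : Subgroup G) :=
        mem_E_iff.mpr ⟨hxa, hxb⟩
      have hgx := (Subgroup.mem_normalizer_iff.mp hg x).mp hx
      rcases preserve_of_conj_mem hZ hab hx hx1 hgx with h | h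
      · right
        exact mem_E_iff.mpr h
      · left
        rw [mem_E_iff, mul_smul, mul_smul, hta, htb]
        exact ⟨h.2, h.1⟩

end Cfsg.Agent.S0879
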