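import Mathlib
import Cfsg.Statements.S0880
import Cfsg.Agent.Helper5.Zassenhaus2
import Cfsg.Agent.Helper24.Classes

set_option autoImplicit false
open Cfsg

namespace Cfsg.Agent.S0880

open Cfsg.Agent.Helper5.Zassenhaus MulAction

/-- The arithmetic core: `F = (m+2)((m+3)e'+1)` cannot divide `(m+3)(m+2)(2e'+1)` when `e' ≥ 1`. -/
theorem arith (m e' F : ℕ) (he' : 1 ≤ e')
    (hF : 2 * F + (m + 2) * (m + 1) = (m + 3) * (m + 2) * (2 * e' + 1))
    (hdvd : F ∣ (m + 3) * (m + 2) * (2 * e' + 1)) : False := by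
  have hFeq : F = (m + 2) * ((m + 3) * e' + 1) := by
    have : 2 * F = 2 * ((m + 2) * ((m + 3) * e' + 1)) := by
      have h := hF
      ring_nf at h ⊢
      omega
    omega
  rw [hFeq] at hdvd
  have h1 : (m + 2) * ((m + 3) * e' + 1) ∣ (m + 2) * ((m + 3) * (2 * e' + 1)) := by
    have : (m + 3) * (m + 2) * (2 * e' + 1) = (m + 2) * ((m + 3) * (2 * e' + 1)) := by ring
    rwa [this] at hdvd
  have h2 : ((m + 3) * e' + 1) ∣ (m + 3) * (2 * e' + 1) :=
    Nat.dvd_of_mul_dvd_mul_left (by omega) h1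
  have hcop : Nat.Coprime ((m + 3) * e' + 1) (m + 3) := by
    have : Nat.Coprime ((m + 3) * e' + 1) (m + 3) ↔ Nat.Coprime 1 (m + 3) := by
      rw [Nat.coprime_mul_left_add_left]
    rw [this]
    exact Nat.coprime_one_left _
  have h3 : ((m + 3) * e' + 1) ∣ (2 * e' + 1) := hcop.dvd_of_dvd_mul_left h2
  have h4 := Nat.le_of_dvd (by omega) h3
  have h5 : (m + 3) * e' = m * e' + 3 * e' := by ring
  have h6 : 0 ≤ m * e' := Nat.zero_le _
  omega

/-- Let G be a finite simple Zassenhaus group on Ω with n points whose two-point stabilizer E has odd order less than n - 2. Then there are two elements of G, each fixing no point of Ω, that are not conjugate. -/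
theorem result {G Ω : Type*} [Group G] [Finite G] [MulAction G Ω] [Fintype Ω] (hZ : Cfsg.IsZassenhausGroup G Ω) {a b : Ω} (hab : a ≠ b) [IsSimpleGroup G] (hodd : Odd (Nat.card ↥(MulAction.stabilizer G a ⊓ MulAction.stabilizer G b : Subgroup G))) (hlt : Nat.card ↥(MulAction.stabilizer G a ⊓ MulAction.stabilizer G b : Subgroup G) < Fintype.card Ω - 2) : ∃ x y : G, (∀ c : Ω, x • c ≠ c) ∧ (∀ c : Ω, y • c ≠ c) ∧ ¬ IsConj x y := by
  classical
  have : Fintype G := Fintype.ofFinite G
  have hF := card_fpf hZ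
  have hG := card_group hZ hab
  have hn := three_le_card hZ
  obtain ⟨m, hm⟩ : ∃ m, Fintype.card Ω = m + 3 := ⟨Fintype.card Ω - 3, by omega⟩
  -- e ≥ 2
  have he2 : 1 < Nat.card ↥(MulAction.stabilizer G a ⊓ MulAction.stabilizer G b : Subgroup G) := by
    rw [Finite.one_lt_card_iff_nontrivial]
    obtain ⟨x, hx1, hxa, hxb⟩ := exists_ne_one_fix2 hZ hab
    refine ⟨⟨⟨x, ?_⟩, 1, ?_⟩⟩
    · rw [Subgroup.mem_inf, mem_stabilizer_iff, mem_stabilizer_iff]
      exact ⟨hxa, hxb⟩
    · intro h
      exact hx1 (congrArg Subtype.val h)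
  obtain ⟨e', he'⟩ := hodd
  have he'1 : 1 ≤ e' := by omega
  rw [← Nat.card_eq_fintype_card (α := G), hG, he', hm] at hF
  have hF' : 2 * (Finset.univ.filter (fun g : G => ∀ c : Ω, g • c ≠ c)).card +
      (m + 2) * (m + 1) = (m + 3) * (m + 2) * (2 * e' + 1) := by
    have h1 : m + 3 - 1 = m + 2 := by omega
    have h2 : m + 3 - 2 = m + 1 := by omega
    rw [h1, h2] at hF
    exact hF
  by_contra hcon
  push Not at hcon
  -- the set of fixed-point-free elements is nonempty
  have hFpos : 0 < (Finset.univ.filter (fun g : G => ∀ c : Ω, g • c ≠ c)).card := by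
    by_contra h0
    have h0' : (Finset.univ.filter (fun g : G => ∀ c : Ω, g • c ≠ c)).card = 0 := by omega
    rw [h0'] at hF'
    have : (m + 3) * (m + 2) * (2 * e' + 1) ≥ (m + 3) * (m + 2) * 3 := by
      apply Nat.mul_le_mul_left
      omega
    nlinarith
  obtain ⟨x, hx⟩ := Finset.card_pos.mp hFpos
  have hxf : ∀ c : Ω, x • c ≠ c := (Finset.mem_filter.mp hx).2
  -- it is a single conjugacy class
  have hclass : (Finset.univ.filter (fun g : G => ∀ c : Ω, g • c ≠ c)) =
      Finset.univ.filter (fun g : G => IsConj x g) := by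
    ext y
    simp only [Finset.mem_filter, Finset.mem_univ, true_and]
    constructor
    · intro hy
      exact hcon x y hxf hy
    · intro hxy c hc
      rw [isConj_iff] at hxy
      obtain ⟨g, rfl⟩ := hxy
      apply hxf (g⁻¹ • c)
      have := congrArg (fun z => g⁻¹ • z) hc
      simpa [mul_smul] using this
  have hcard : (Finset.univ.filter (fun g : G => ∀ c : Ω, g • c ≠ c)).card =
      Nat.card {y : G // IsConj x y} := by
    rw [hclass, Nat.card_eq_fintype_card, Fintype.card_subtype]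
  have hdvd : (Finset.univ.filter (fun g : G => ∀ c : Ω, g • c ≠ c)).card ∣
      (m + 3) * (m + 2) * (2 * e' + 1) := by
    rw [hcard]
    have h := Cfsg.Agent.Helper24.card_conj_mul_card_centralizer x
    rw [hG, he', hm] at h
    have h1 : m + 3 - 1 = m + 2 := by omega
    rw [h1] at h
    exact Dvd.intro _ h
  exact arith m e' _ he'1 hF' hdvd

end Cfsg.Agent.S0880
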