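import Cfsg.Statements.S0894
import Cfsg.Agent.Helper12.ExtraspecialChar

set_option autoImplicit false
open Cfsg Cfsg.Agent.Helper12 Cfsg.Agent.Helper24

namespace Cfsg.Agent.S0894

/-- Let P be an extraspecial p-group of order p ^ (2 * n + 1). Then every irreducible character of P has degree 1 or p ^ n, and exactly p - 1 of them have degree p ^ n. -/
theorem result {P : Type*} [Group P] [Finite P] (p n : ℕ) [Fact p.Prime] (hP : Cfsg.IsExtraspecial p P) (hcard : Nat.card P = p ^ (2 * n + 1)) : (∀ χ : Cfsg.IrrCharacter P, (χ : P → ℂ) 1 = 1 ∨ (χ : P → ℂ) 1 = (p : ℂ) ^ n) ∧ Nat.card {χ : Cfsg.IrrCharacter P // (χ : P → ℂ) 1 = (p : ℂ) ^ n} = p - 1 := by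
  classical
  have hp : p.Prime := Fact.out
  have : Fintype P := Fintype.ofFinite P
  have : Fintype (IrrCharacter P) := Fintype.ofFinite _
  have hZ := hP.2
  -- `n ≥ 1`
  have hn : n ≠ 0 := by
    rintro rfl
    rw [Nat.mul_zero, zero_add, pow_one] at hcard
    have hcyc : IsCyclic P := isCyclic_of_prime_card hcard
    have hcomm : commutator P = ⊥ := by
      rw [eq_bot_iff, commutator_def, Subgroup.commutator_le]
      intro a _ b _
      rw [Subgroup.mem_bot, commutatorElement_eq_one_iff_commute]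
      obtain ⟨g, hg⟩ := hcyc.exists_generator
      obtain ⟨i, rfl⟩ := Subgroup.mem_zpowers_iff.1 (hg a)
      obtain ⟨j, rfl⟩ := Subgroup.mem_zpowers_iff.1 (hg b)
      exact (Commute.refl g).zpow_zpow i j
    have h1 : Nat.card (commutator P) = p := by rw [hP.1.2.2, hZ]
    rw [hcomm, Subgroup.card_bot] at h1
    exact hp.one_lt.ne' h1.symm
  have hpn : 1 < p ^ n := Nat.one_lt_pow hn hp.one_lt
  -- class number and number of linear characters
  have hk := extraspecial_card_conjClasses p hP n hcard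
  rw [← card_irr_eq_card_conjClasses] at hk
  have hlin := card_linear_irr (G := P)
  have hidx : (commutator P).index = p ^ (2 * n) := by
    have h1 := (commutator P).card_mul_index
    rw [hP.1.2.2, hZ, hcard, pow_succ] at h1
    have h2 : p * (commutator P).index = p * p ^ (2 * n) := by
      rw [hP.1.2.2, h1]; ring
    exact Nat.eq_of_mul_eq_mul_left hp.pos h2
  rw [hidx] at hlin
  -- degree bound
  have hbound : ∀ χ : IrrCharacter P, irrDeg χ ^ 2 ≤ p ^ (2 * n) := by
    intro χ
    have h1 := irrDeg_sq_mul_card_center_le χ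
    rw [hZ, hcard, pow_succ] at h1
    exact Nat.le_of_mul_le_mul_right h1 hp.pos
  -- counting
  have hsum := sum_irrDeg_sq (G := P)
  rw [hcard] at hsum
  have hlin' : (Finset.univ.filter (fun χ : IrrCharacter P => irrDeg χ = 1)).card = p ^ (2 * n) := by
    rw [← hlin, Nat.card_eq_fintype_card, Fintype.card_subtype]
    congr 1
    ext χ
    simp only [Finset.mem_filter, Finset.mem_univ, true_and]
    exact irrDeg_eq_one_iff χ
  have hall : (Finset.univ : Finset (IrrCharacter P)).card + 1 = p ^ (2 * n) + p := by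
    rw [Finset.card_univ, ← Nat.card_eq_fintype_card]
    exact hk
  have hsplit := Finset.card_filter_add_card_filter_not (s := (Finset.univ : Finset (IrrCharacter P)))
    (fun χ : IrrCharacter P => irrDeg χ = 1)
  have hNL : (Finset.univ.filter (fun χ : IrrCharacter P => ¬ irrDeg χ = 1)).card + 1 = p := by
    omega
  have hsum2 := Finset.sum_filter_add_sum_filter_not (Finset.univ : Finset (IrrCharacter P))
    (fun χ : IrrCharacter P => irrDeg χ = 1) (fun χ => irrDeg χ ^ 2)
  have hs1 : ∑ χ ∈ Finset.univ.filter (fun χ : IrrCharacter P => irrDeg χ = 1), irrDeg χ ^ 2 =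
      p ^ (2 * n) := by
    rw [← hlin', Finset.card_eq_sum_ones]
    refine Finset.sum_congr rfl fun χ hχ => ?_
    rw [(Finset.mem_filter.1 hχ).2, one_pow]
  rw [hs1, hsum] at hsum2
  -- the nonlinear characters all have degree `p ^ n`
  have hdef : ∑ χ ∈ Finset.univ.filter (fun χ : IrrCharacter P => ¬ irrDeg χ = 1),
      (p ^ (2 * n) - irrDeg χ ^ 2) = 0 := by
    have h1 : ∑ χ ∈ Finset.univ.filter (fun χ : IrrCharacter P => ¬ irrDeg χ = 1),
        (p ^ (2 * n) - irrDeg χ ^ 2) +
        ∑ χ ∈ Finset.univ.filter (fun χ : IrrCharacter P => ¬ irrDeg χ = 1), irrDeg χ ^ 2 =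
        (Finset.univ.filter (fun χ : IrrCharacter P => ¬ irrDeg χ = 1)).card * p ^ (2 * n) := by
      rw [← Finset.sum_add_distrib, Finset.card_eq_sum_ones, Finset.sum_mul]
      refine Finset.sum_congr rfl fun χ _ => ?_
      rw [one_mul]
      exact Nat.sub_add_cancel (hbound χ)
    have h2 : p ^ (2 * n + 1) = p * p ^ (2 * n) := by rw [pow_succ]; ring
    have h3 : ((Finset.univ.filter (fun χ : IrrCharacter P => ¬ irrDeg χ = 1)).card + 1) *
        p ^ (2 * n) = p * p ^ (2 * n) := by rw [hNL]
    rw [add_mul, one_mul] at h3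
    omega
  have hNLdeg : ∀ χ : IrrCharacter P, irrDeg χ ≠ 1 → irrDeg χ = p ^ n := by
    intro χ hχ
    have h1 := (Finset.sum_eq_zero_iff.1 hdef) χ (Finset.mem_filter.2 ⟨Finset.mem_univ _, hχ⟩)
    have h2 : irrDeg χ ^ 2 = (p ^ n) ^ 2 := by
      have := hbound χ
      rw [← pow_mul, mul_comm n 2]
      omega
    exact Nat.pow_left_injective (by norm_num : 2 ≠ 0) h2
  have hdegC : ∀ χ : IrrCharacter P, (χ : P → ℂ) 1 = (p : ℂ) ^ n ↔ irrDeg χ ≠ 1 := by
    intro χ
    rw [irrDeg_spec χ]
    constructor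
    · intro h h1
      rw [h1] at h
      have : (1 : ℕ) = p ^ n := by exact_mod_cast h
      omega
    · intro h
      rw [hNLdeg χ h]
      push_cast
      rfl
  refine ⟨fun χ => ?_, ?_⟩
  · by_cases h : irrDeg χ = 1
    · left; exact (irrDeg_eq_one_iff χ).1 h
    · right; exact (hdegC χ).2 h
  · rw [Nat.card_eq_fintype_card, Fintype.card_subtype]
    have : (Finset.univ.filter (fun χ : IrrCharacter P => (χ : P → ℂ) 1 = (p : ℂ) ^ n)) =
        Finset.univ.filter (fun χ : IrrCharacter P => ¬ irrDeg χ = 1) := by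
      ext χ
      simp only [Finset.mem_filter, Finset.mem_univ, true_and]
      exact hdegC χ
    rw [this]
    omega

end Cfsg.Agent.S0894
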