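import Mathlib
import Cfsg.Statements.S0901
import Cfsg.Agent.Helper5.AlgIntMod

set_option autoImplicit false
open Cfsg

namespace Cfsg.Agent.S0901

open Cfsg.Agent.Helper5

theorem result (p : ℕ) [Fact p.Prime] (M : Ideal Cfsg.AlgInt) (hM : Cfsg.IsPModular p M) : (∀ ε₁ ε₂ : Cfsg.AlgInt, (∃ m : ℕ, ¬ p ∣ m ∧ (ε₁ : ℂ) ^ m = 1) → (∃ m : ℕ, ¬ p ∣ m ∧ (ε₂ : ℂ) ^ m = 1) → ε₁ - ε₂ ∈ M → ε₁ = ε₂) ∧ (∀ a : Cfsg.AlgInt, a ∉ M → ∃ ε : Cfsg.AlgInt, (∃ m : ℕ, ¬ p ∣ m ∧ (ε : ℂ) ^ m = 1) ∧ a - ε ∈ M) :=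
  ⟨fun ε₁ ε₂ h₁ h₂ h => root_of_unity_inj p M hM ε₁ ε₂ h₁ h₂ h,
   fun a ha => exists_root_of_unity_lift p M hM a ha⟩

end Cfsg.Agent.S0901
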