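import Mathlib
import Cfsg.Statements.S0905
import Cfsg.Agent.Helper5.NilClassSum

set_option autoImplicit false

namespace Cfsg.Agent.S0905

open Cfsg.Agent.Helper5.NilClass

theorem result {G : Type*} [Group G] [Finite G] (p : ℕ) [Fact p.Prime] (F : Type*) [Field F] [CharP F p] (g : G) (hg : ∀ x : G, IsConj g x → x ∉ Subgroup.centralizer (Cfsg.pCore p G : Set G)) : IsNilpotent (∑ᶠ x ∈ ConjClasses.carrier (ConjClasses.mk g), MonoidAlgebra.single x (1 : F) : MonoidAlgebra F G) := by
  classical
  have : Fintype G := Fintype.ofFinite G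
  let K : Finset G := Finset.univ.filter (fun x => IsConj g x)
  have hKset : ConjClasses.carrier (ConjClasses.mk g) = (K : Set G) := by
    ext x
    rw [ConjClasses.mem_carrier_iff_mk_eq, ConjClasses.mk_eq_mk_iff_isConj]
    simp only [K, Finset.coe_filter, Finset.mem_univ, true_and, Set.mem_ofPred_eq]
    exact isConj_comm
  rw [hKset, finsum_mem_coe_finset]
  have hQn : (Cfsg.pCore p G).Normal := Subgroup.sSup_normal _ (fun _ h => h.1)
  have hQ : IsPGroup p (Cfsg.pCore p G) :=
    Sylow.sSup_of_normal _ (fun _ h => h.2) (fun _ h => h.1)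
  refine isNilpotent_setSum F K ?_ (Cfsg.pCore p G) hQ ?_
  · intro x t ht
    simp only [K, Finset.mem_filter, Finset.mem_univ, true_and] at ht ⊢
    exact ht.trans (isConj_iff.mpr ⟨x, rfl⟩)
  · intro t ht
    simp only [K, Finset.mem_filter, Finset.mem_univ, true_and] at ht
    exact hg t ht

end Cfsg.Agent.S0905
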