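import Mathlib
import Cfsg.Statements.S0915
import Cfsg.Agent.Helper5.BlockSupport
import Cfsg.Agent.Helper5.ClaimN
import Cfsg.Agent.Helper23.HallHigman

set_option autoImplicit false
open Cfsg

namespace Cfsg.Agent.S0915

open Cfsg.Agent.Helper5.CC Cfsg.Agent.Helper5.Loc

/-- Let G be a finite p-solvable group with trivial largest normal subgroup of order prime to p. Then any two irreducible characters of G lie in the same block relative to every maximal ideal M of the algebraic integers containing p: G has a single p-block. -/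
theorem result {G : Type*} [Group G] [Finite G] (p : ℕ) [Fact p.Prime] (M : Ideal Cfsg.AlgInt) (hM : Cfsg.IsPModular p M) (hsolv : Cfsg.IsPSolvable p G) (hcore : Cfsg.pPrimeCore p G = ⊥) (χ ψ : Cfsg.IrrCharacter G) : Cfsg.SameBlock M (χ : G → ℂ) (ψ : G → ℂ) := by
  classical
  have : Fintype G := Fintype.ofFinite G
  have : Fintype (IrrCharacter G) := Fintype.ofFinite _
  have hMp := isPrime_of_isPModular hM
  have hQn : (Cfsg.pCore p G).Normal := Subgroup.sSup_normal _ (fun _ h => h.1)
  have hQp : IsPGroup p (Cfsg.pCore p G) :=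
    Sylow.sSup_of_normal _ (fun _ h => h.2) (fun _ h => h.1)
  have hHH := Cfsg.Agent.Helper23.centralizer_pCore_le_of_isPSolvable hsolv hcore
  apply sameBlock_of_regular hM χ ψ
  intro g hg
  by_cases hgC : g ∈ Subgroup.centralizer (Cfsg.pCore p G : Set G)
  · -- then `g` is a `p`-regular element of a `p`-group, so `g = 1`
    have hgQ : g ∈ Cfsg.pCore p G := hHH hgC
    obtain ⟨k, hk⟩ := IsPGroup.iff_orderOf.mp hQp ⟨g, hgQ⟩
    have hk' : orderOf g = p ^ k := by
      rw [← hk]; exact (Subgroup.orderOf_mk g hgQ).symm
    have hg1 : g = 1 := by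
      rcases Nat.eq_zero_or_pos k with h0 | hkpos
      · rw [h0, pow_zero, orderOf_eq_one_iff] at hk'
        exact hk'
      · exfalso
        apply hg
        rw [hk']
        exact dvd_pow_self p hkpos.ne'
    rw [hg1]
    have h1 : ∀ θ : IrrCharacter G, centralChar (θ : G → ℂ) 1 = 1 := by
      intro θ
      have := act_classIndicator (1 : G) θ
      rw [← this]
      exact act_deltaOne θ
    rw [h1, h1, sub_self]
    exact memLocalIdeal_zero hMp
  · exact li_sub hMp
      (centralChar_memLocalIdeal_of_not_mem_centralizer hM _ hQp χ g hgC)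
      (centralChar_memLocalIdeal_of_not_mem_centralizer hM _ hQp ψ g hgC)

end Cfsg.Agent.S0915
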