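import Mathlib
import Cfsg.Statements.S0921
import Cfsg.Agent.Helper5.PPrimeNormal
import Cfsg.Agent.Helper19.Cores

set_option autoImplicit false
open Cfsg

namespace Cfsg.Agent.S0921

open Cfsg.Agent.Helper5.CC Cfsg.Agent.Helper5.Loc Cfsg.Agent.Helper24

theorem result {G : Type*} [Group G] [Finite G] (p : ℕ) [Fact p.Prime] (M : Ideal Cfsg.AlgInt) (hM : Cfsg.IsPModular p M) [Fintype G] (χ ψ : Cfsg.IrrCharacter G) (h : Cfsg.SameBlock M (χ : G → ℂ) (ψ : G → ℂ)) (θ : Cfsg.IrrCharacter (Cfsg.pPrimeCore p G)) [Fintype (Cfsg.pPrimeCore p G)] : Cfsg.classInner (fun n : Cfsg.pPrimeCore p G => (χ : G → ℂ) n) (θ : Cfsg.pPrimeCore p G → ℂ) ≠ 0 ↔ Cfsg.classInner (fun n : Cfsg.pPrimeCore p G => (ψ : G → ℂ) n) (θ : Cfsg.pPrimeCore p G → ℂ) ≠ 0 := by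
  classical
  have : Fintype (IrrCharacter G) := Fintype.ofFinite _
  have hN : (Cfsg.pPrimeCore p G).Normal := Subgroup.sSup_normal _ (fun _ h => h.1)
  have hcop : (Nat.card (Cfsg.pPrimeCore p G)).Coprime p := Cfsg.Agent.Helper19.pPrimeCore_coprime p
  have hpN : ¬ p ∣ Nat.card (Cfsg.pPrimeCore p G) := by
    intro hdvd
    have h1 : p ∣ Nat.gcd (Nat.card (Cfsg.pPrimeCore p G)) p := Nat.dvd_gcd hdvd dvd_rfl
    rw [hcop] at h1
    exact (Fact.out : p.Prime).one_lt.ne' (Nat.dvd_one.mp h1)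
  constructor
  · exact constituent_of_sameBlock hM _ hpN χ ψ h θ
  · exact constituent_of_sameBlock hM _ hpN ψ χ (sameBlock_symm h) θ

end Cfsg.Agent.S0921
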