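import Mathlib
import Cfsg.Statements.S0923
import Cfsg.Agent.Helper5.SecondMain
import Cfsg.Agent.Helper5.BlockPart
import Cfsg.Agent.Helper5.PPart
import Cfsg.Agent.S0919

set_option autoImplicit false
open Cfsg

namespace Cfsg.Agent.S0923

open Cfsg.Agent.Helper5.CC Cfsg.Agent.Helper5.Loc Cfsg.Agent.Helper24 Cfsg.Agent.Helper5

/-- The second main theorem for a subgroup `C` with `C_G(x) ≤ C` all of whose elements commute
with the `p`-element `x`. -/
theorem second_main_char {G : Type*} [Group G] [Finite G] (p : ℕ) [Fact p.Prime]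
    (M : Ideal Cfsg.AlgInt) (hM : Cfsg.IsPModular p M) (x : G) (hx : ∃ k : ℕ, orderOf x = p ^ k)
    (C : Subgroup G) (hxC : x ∈ C) (hcomm : ∀ c : C, x * (c : G) = (c : G) * x)
    (hcent : Subgroup.centralizer ({x} : Set G) ≤ C)
    (B : Set (Cfsg.IrrCharacter G)) (hB : Cfsg.IsPBlock M B) (χ : Cfsg.IrrCharacter G) (hχ : χ ∈ B)
    (b : Set (Cfsg.IrrCharacter C)) (hb : Cfsg.IsPBlock M b)
    (hnot : ¬ Cfsg.IsInducedBlock M C b B) (y : C) (hy : ¬ p ∣ orderOf y) :
    Cfsg.blockPart b (fun c : C => (χ : G → ℂ) (x * (c : G))) y = 0 := by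
  classical
  have hMp := isPrime_of_isPModular hM
  have : Fintype G := Fintype.ofFinite G
  have : Fintype C := Fintype.ofFinite _
  have : Fintype (IrrCharacter G) := Fintype.ofFinite _
  have : Fintype (IrrCharacter C) := Fintype.ofFinite _
  have hχc := isClassFunction_irr χ
  -- ϑ is a class function on C
  have hϑ : IsClassFunction C (fun c : C => (χ : G → ℂ) (x * (c : G))) := by
    intro c h
    show (χ : G → ℂ) (x * ((h * c * h⁻¹ : C) : G)) = (χ : G → ℂ) (x * (c : G))
    rw [← hχc (x * (c : G)) (h : G)]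
    simp only [Subgroup.coe_mul, Subgroup.coe_inv]
    rw [← mul_assoc, ← mul_assoc, hcomm h]
    group
  rw [blockPart_eq_sum_blockCoeff b hϑ y]
  -- the induced block
  obtain ⟨k, hk⟩ := hx
  have hP : IsPGroup p (Subgroup.zpowers x) := by
    apply IsPGroup.of_card (n := k)
    rw [Nat.card_zpowers, hk]
  have hPH : Subgroup.zpowers x ≤ C := by
    rw [Subgroup.zpowers_le]; exact hxC
  have hCH : Subgroup.centralizer ((Subgroup.zpowers x : Subgroup G) : Set G) ≤ C := by
    refine le_trans (Subgroup.centralizer_le ?_) hcent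
    rw [Set.singleton_subset_iff]
    exact Subgroup.mem_zpowers x
  have hHN : C ≤ Subgroup.normalizer ((Subgroup.zpowers x : Subgroup G) : Set G) := by
    refine le_trans ?_ (Subgroup.centralizer_le_normalizer _)
    intro c hc
    rw [Subgroup.mem_centralizer_iff]
    intro q hq
    obtain ⟨i, rfl⟩ := Subgroup.mem_zpowers_iff.mp hq
    have h1 : Commute x c := hcomm ⟨c, hc⟩
    exact (h1.zpow_left i).eq
  obtain ⟨B', hB'⟩ := Cfsg.Agent.S0919.result p M hM (Subgroup.zpowers x) C hP hPH hCH hHN b hb
  have hχB' : χ ∉ B' := by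
    intro hcon
    apply hnot
    have e1 := IsPBlock_eq_blockOf hMp hB hχ
    have e2 := IsPBlock_eq_blockOf hMp hB'.2.1 hcon
    rw [e1, ← e2]
    exact hB'
  -- the element x * y of C
  have hxyC : x * (y : G) ∈ C := C.mul_mem hxC y.2
  have hy' : ¬ p ∣ orderOf (y : G) := by rwa [Subgroup.orderOf_coe]
  have hpp : IsPPart p (x * (y : G)) x := ⟨(y : G), rfl, hcomm y, ⟨k, hk⟩, hy'⟩
  have hC : ∀ z : G, IsPPart p (((⟨x * (y : G), hxyC⟩ : C) : G)) z →
      Subgroup.centralizer ({z} : Set G) ≤ C := by
    intro z hz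
    have : x = z := isPPart_unique hpp hz
    rw [← this]
    exact hcent
  have hmain := second_main_idem hM C b B' hB' ⟨x * (y : G), hxyC⟩ hC χ hχB'
  rw [← hmain]
  refine Finset.sum_congr rfl fun c _ => ?_
  congr 1
  show (χ : G → ℂ) (x * ((c * y : C) : G)) = (χ : G → ℂ) ((c : G) * (x * (y : G)))
  rw [Subgroup.coe_mul, ← mul_assoc, hcomm c, mul_assoc]

/-- Brauer's Second Main Theorem, in terms of ordinary characters. Let x be a p-element of the finite group G with centralizer C, let χ lie in the block B of G and let b be a block of C that does not induce B (relative to a maximal ideal M of the algebraic integers containing p). Form the class function ϑ(c) = χ(x c) on C and its b-part (the sum over ψ ∈ b of the inner product of ϑ with ψ, times ψ). Then the b-part of ϑ vanishes at every p-regular element of C. (Equivalently, the generalized decomposition numbers of χ with respect to b are zero.) -/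
theorem result {G : Type*} [Group G] [Finite G] (p : ℕ) [Fact p.Prime] (M : Ideal Cfsg.AlgInt) (hM : Cfsg.IsPModular p M) (x : G) (hx : ∃ k : ℕ, orderOf x = p ^ k) (B : Set (Cfsg.IrrCharacter G)) (hB : Cfsg.IsPBlock M B) (χ : Cfsg.IrrCharacter G) (hχ : χ ∈ B) (b : Set (Cfsg.IrrCharacter (Subgroup.centralizer ({x} : Set G)))) (hb : Cfsg.IsPBlock M b) (hnot : ¬ Cfsg.IsInducedBlock M (Subgroup.centralizer ({x} : Set G)) b B) (y : Subgroup.centralizer ({x} : Set G)) (hy : ¬ p ∣ orderOf y) : Cfsg.blockPart b (fun c : Subgroup.centralizer ({x} : Set G) => (χ : G → ℂ) (x * (c : G))) y = 0 := by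
  apply second_main_char p M hM x hx (Subgroup.centralizer ({x} : Set G)) ?_ ?_ le_rfl B hB χ hχ b hb
    hnot y hy
  · rw [Subgroup.mem_centralizer_iff]
    intro h hh
    rw [Set.mem_singleton_iff] at hh
    rw [hh]
  · intro c
    exact Subgroup.mem_centralizer_iff.mp c.2 x (Set.mem_singleton x)

end Cfsg.Agent.S0923
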