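import Mathlib
import Cfsg.Statements.S0926
import Cfsg.Agent.Helper5.HeightZero2
import Cfsg.Agent.Helper5.DefectGroups2
import Cfsg.Agent.S0924

set_option autoImplicit false
open Cfsg

namespace Cfsg.Agent.S0926

open Cfsg.Agent.Helper5 Cfsg.Agent.Helper5.CC Cfsg.Agent.Helper5.Loc Cfsg.Agent.Helper14

/-- Let B be a block of the finite group G with defect group D (relative to a maximal ideal M of the algebraic integers containing p), let χ ∈ B have height zero, and let x be a p-element. Then some conjugate of x lies in D if and only if χ does not vanish on the whole p-section of x (the elements whose p-part is conjugate to x). -/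
theorem result {G : Type*} [Group G] [Finite G] (p : ℕ) [Fact p.Prime] (M : Ideal Cfsg.AlgInt) (hM : Cfsg.IsPModular p M) (B : Set (Cfsg.IrrCharacter G)) (hB : Cfsg.IsPBlock M B) (D : Subgroup G) (hD : Cfsg.IsDefectGroup p M B D) (χ : Cfsg.IrrCharacter G) (hχ : χ ∈ B) (h0 : Cfsg.blockHeight p B (χ : G → ℂ) = 0) (x : G) (hx : ∃ k : ℕ, orderOf x = p ^ k) : (∃ g : G, g * x * g⁻¹ ∈ D) ↔ ∃ u : G, (∃ z : G, Cfsg.IsPPart p u z ∧ IsConj x z) ∧ (χ : G → ℂ) u ≠ 0 := by
  classical
  have : Fintype G := Fintype.ofFinite G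
  have : Fintype (IrrCharacter G) := Fintype.ofFinite _
  have hMp := isPrime_of_isPModular hM
  constructor
  · rintro ⟨g, hg⟩
    obtain ⟨y, hy, P, rfl⟩ := hD
    obtain ⟨x', hx'P, hx'⟩ := hg
    have hx'' : (x' : G) = g * x * g⁻¹ := hx'
    have hxy : Commute (x' : G) y := by
      have := x'.2
      rw [Subgroup.mem_centralizer_singleton_iff] at this
      exact this
    obtain ⟨k, hk⟩ := hx
    have hord : orderOf (x' : G) = p ^ k := by
      rw [hx'', ← hk]
      exact orderOf_injective (cj g) (cj_injective g) x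
    have hpow : (x' : G) ^ (p ^ k) = 1 := by
      rw [← hord]; exact pow_orderOf_eq_one _
    have hne := not_memLocalIdeal_char_mul_of_defectClass hM hB hy χ hχ h0 (x' : G) hxy k hpow
    have hyreg := not_dvd_orderOf_of_defectClass hM hB hy
    refine ⟨(x' : G) * y, ⟨(x' : G), ⟨y, rfl, hxy, ⟨k, hord⟩, hyreg⟩, ?_⟩, ?_⟩
    · rw [isConj_iff]
      exact ⟨g, hx''.symm⟩
    · intro h
      apply hne
      rw [h]
      exact memLocalIdeal_zero hMp
  · rintro ⟨u, ⟨z, hz, hxz⟩, hne⟩
    by_contra hcon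
    push Not at hcon
    apply hne
    have hBeq := IsPBlock_eq_blockOf hMp hB hχ
    apply Cfsg.Agent.S0924.result p M hM χ u z hz
    intro D' hD' hzD'
    rw [← hBeq] at hD'
    obtain ⟨c, hc⟩ := defectGroup_conj hM B hB D D' hD hD'
    rw [hc, mem_map_cj] at hzD'
    rw [isConj_iff] at hxz
    obtain ⟨a, ha⟩ := hxz
    apply hcon (c⁻¹ * a)
    have : c⁻¹ * a * x * (c⁻¹ * a)⁻¹ = c⁻¹ * z * c := by
      rw [← ha]; group
    rw [this]
    exact hzD'

end Cfsg.Agent.S0926
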