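import Cfsg.Statements.S0928
import Cfsg.Agent.Helper5.KVb
import Cfsg.Agent.S0906
import Cfsg.Agent.Helper24.DefectZero
import Cfsg.Agent.Helper24.SmallDegree
import Cfsg.Agent.Helper24.Codegree

set_option autoImplicit false
open Cfsg

namespace Cfsg.Agent.S0928

/-- Let χ be an irreducible character of the finite group G and p a prime. If χ g = 0 for every element g of order p, then the exponent of p in the degree χ(1) equals the exponent of p in the order of G (χ has p-defect zero). -/
theorem result {G : Type*} [Group G] [Finite G] (p : ℕ) [Fact p.Prime] (χ : Cfsg.IrrCharacter G) (hvan : ∀ g : G, orderOf g = p → (χ : G → ℂ) g = 0) : (Cfsg.charDegree (χ : G → ℂ)).factorization p = (Nat.card G).factorization p := by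
  classical
  haveI : Fintype G := Fintype.ofFinite G
  have hp := (Fact.out : p.Prime)
  obtain ⟨M, hM⟩ := Cfsg.Agent.Helper24.exists_isPModular p hp
  have hMp := Cfsg.Agent.Helper5.Loc.isPrime_of_isPModular hM
  obtain ⟨g, hg⟩ := Cfsg.Agent.S0906.result p M hM (blockOf M (χ : G → ℂ))
    (Cfsg.Agent.Helper5.CC.isPBlock_blockOf χ)
  have hnd := Cfsg.Agent.Helper5.KV.not_dvd_card_centralizer hM χ hvan g hg
  set a := (Nat.card G).factorization p with ha
  have hpa : p ^ a ∣ Nat.card G := Nat.ordProj_dvd _ _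
  have hidx : p ^ a ∣ (Subgroup.centralizer ({g} : Set G)).index := by
    have hmul : Nat.card (Subgroup.centralizer ({g} : Set G)) *
        (Subgroup.centralizer ({g} : Set G)).index = Nat.card G := Subgroup.card_mul_index _
    rw [← hmul] at hpa
    exact (Nat.Coprime.pow_left a ((Nat.Prime.coprime_iff_not_dvd hp).mpr hnd)).dvd_of_dvd_mul_left
      hpa
  have hdeg := Cfsg.Agent.Helper5.CC.pow_dvd_irrDeg_of_unit hM χ g
    (hg.2.2 χ (Cfsg.Agent.Helper5.CC.mem_blockOf_self hMp χ)) a hidx
  rw [Cfsg.Agent.Helper24.charDegree_irr]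
  have hpos := Cfsg.Agent.Helper24.irrDeg_pos χ
  apply le_antisymm
  · exact (Nat.factorization_le_iff_dvd hpos.ne' Nat.card_pos.ne').mpr
      (Cfsg.Agent.Helper24.irrDeg_dvd_card χ) p
  · exact (hp.pow_dvd_iff_le_factorization hpos.ne').mp hdeg

end Cfsg.Agent.S0928
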