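import Mathlib
import Cfsg.Statements.S0934
import Cfsg.Agent.Helper5.BlockBasic
import Cfsg.Agent.Helper8.Ind
import Cfsg.Agent.S0932

set_option autoImplicit false
open Cfsg

namespace Cfsg.Agent.S0934

open Cfsg.Agent.Helper5.CC Cfsg.Agent.Helper5.Loc Cfsg.Agent.Helper24 Cfsg.Agent.Helper5

/-- Let H be a subgroup of the finite group G and fix a maximal ideal M of the algebraic integers containing the prime p. If the block b of H induces the block B of G and ξ ∈ b, then there is χ ∈ B whose restriction to H has nonzero inner product with ξ. -/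
theorem result {G : Type*} [Group G] [Fintype G] (p : ℕ) [Fact p.Prime] (M : Ideal Cfsg.AlgInt) (hM : Cfsg.IsPModular p M) (H : Subgroup G) [Fintype H] (b : Set (Cfsg.IrrCharacter H)) (B : Set (Cfsg.IrrCharacter G)) (hind : Cfsg.IsInducedBlock M H b B) (ξ : Cfsg.IrrCharacter H) (hξ : ξ ∈ b) : ∃ χ ∈ B, Cfsg.classInner (fun h : H => (χ : G → ℂ) h) (ξ : H → ℂ) ≠ 0 := by
  classical
  have : Fintype (IrrCharacter G) := Fintype.ofFinite _
  have : Fintype (ConjClasses G) := Fintype.ofFinite _
  have hMp := isPrime_of_isPModular hM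
  obtain ⟨hb, hB, hcong⟩ := hind
  obtain ⟨χ₀, hχ₀⟩ := IsPBlock.nonempty hMp hB
  have hθcf : IsClassFunction G (indFun H (ξ : H → ℂ)) :=
    Cfsg.Agent.Helper8.indFun_isClassFunction H _
  have hθ1 : indFun H (ξ : H → ℂ) 1 ≠ 0 := by
    rw [indFun_apply_one]
    apply mul_ne_zero
    · exact_mod_cast (Subgroup.index_ne_zero_of_finite (H := H))
    · exact irr_one_ne_zero ξ
  have hc := isClassFunction_blockCoeff B
  have hcM : ∀ g, MemLocalRing M (blockCoeff B g) := osima hMp B hB
  -- Claim A
  have hA : ∑ t : G, blockCoeff B t * indFun H (ξ : H → ℂ) t =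
      indFun H (ξ : H → ℂ) 1 * ∑ K : ConjClasses G, blockCoeff B (rep K) *
        inducedCentralChar H (ξ : H → ℂ) (rep K) := by
    have hF : IsClassFunction G (fun t => blockCoeff B t * indFun H (ξ : H → ℂ) t) :=
      isClassFunction_mul hc hθcf
    rw [sum_eq_sum_conjClasses hF, Finset.mul_sum]
    refine Finset.sum_congr rfl fun K _ => ?_
    rw [Cfsg.Agent.S0932.result H (ξ : H → ℂ) (IsIrrCharacter.isCharacter ξ.2), centralChar_def]
    field_simp
  -- Claim B
  have hB' : ∑ K : ConjClasses G, blockCoeff B (rep K) *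
      inducedCentralChar H (ξ : H → ℂ) (rep K) ≠ 0 := by
    intro h0
    have h1 : act (blockCoeff B) χ₀ = 1 := by rw [act_blockCoeff, if_pos hχ₀]
    rw [act_eq_sum_centralChar hc] at h1
    have h2 : MemLocalIdeal M (∑ K : ConjClasses G, blockCoeff B (rep K) *
        inducedCentralChar H (ξ : H → ℂ) (rep K) - ∑ K : ConjClasses G, blockCoeff B (rep K) *
        centralChar (χ₀ : G → ℂ) (rep K)) := by
      rw [← Finset.sum_sub_distrib]
      apply li_sum hMp
      intro K _
      rw [← mul_sub]
      exact li_mul_left hMp (hcM _) (hcong ξ hξ χ₀ hχ₀ _)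
    rw [h0, h1, zero_sub] at h2
    have := li_neg h2
    rw [neg_neg] at this
    exact not_memLocalIdeal_one hMp this
  have hS : ∑ t : G, blockCoeff B t * indFun H (ξ : H → ℂ) t ≠ 0 := by
    rw [hA]
    exact mul_ne_zero hθ1 hB'
  -- Claim C
  by_contra hcon
  push Not at hcon
  apply hS
  have hexp := IsClassFunction.eq_sum_classInner hθcf
  have e1 : ∀ t : G, indFun H (ξ : H → ℂ) t = ∑ χ : IrrCharacter G,
      classInner (indFun H (ξ : H → ℂ)) (χ : G → ℂ) * (χ : G → ℂ) t := by
    intro t
    have := congrFun hexp t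
    simpa [Finset.sum_apply, Pi.smul_apply, smul_eq_mul] using this
  have e2 : ∑ t : G, blockCoeff B t * indFun H (ξ : H → ℂ) t =
      ∑ χ : IrrCharacter G, classInner (indFun H (ξ : H → ℂ)) (χ : G → ℂ) *
        (act (blockCoeff B) χ * (χ : G → ℂ) 1) := by
    calc ∑ t : G, blockCoeff B t * indFun H (ξ : H → ℂ) t
        = ∑ t : G, ∑ χ : IrrCharacter G, classInner (indFun H (ξ : H → ℂ)) (χ : G → ℂ) *
            (blockCoeff B t * (χ : G → ℂ) t) := by
          refine Finset.sum_congr rfl fun t _ => ?_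
          rw [e1 t, Finset.mul_sum]
          refine Finset.sum_congr rfl fun χ _ => ?_
          ring
      _ = ∑ χ : IrrCharacter G, classInner (indFun H (ξ : H → ℂ)) (χ : G → ℂ) *
            ∑ t : G, blockCoeff B t * (χ : G → ℂ) t := by
          rw [Finset.sum_comm]
          refine Finset.sum_congr rfl fun χ _ => ?_
          rw [Finset.mul_sum]
      _ = _ := by
          refine Finset.sum_congr rfl fun χ _ => ?_
          rw [act, div_mul_cancel₀ _ (irr_one_ne_zero χ)]
  rw [e2]
  apply Finset.sum_eq_zero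
  intro χ _
  by_cases hχ : χ ∈ B
  · have h1 := Cfsg.Agent.Helper8.frobenius_reciprocity H (ξ : H → ℂ) (χ : G → ℂ)
      (isClassFunction_irr χ)
    have h2 := classInner_conj_symm (fun h : H => (χ : G → ℂ) h) (ξ : H → ℂ)
    rw [hcon χ hχ, map_zero] at h2
    rw [h1, ← h2, zero_mul]
  · rw [act_blockCoeff, if_neg hχ, zero_mul, mul_zero]

end Cfsg.Agent.S0934
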