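import Cfsg.Statements.S0935
import Cfsg.Agent.Helper8.Blau

set_option autoImplicit false
open Cfsg

namespace Cfsg.Agent.S0935

/-- Let H be a subgroup of the finite group G and χ an irreducible character of G whose restriction to H is irreducible; fix a maximal ideal M of the algebraic integers containing the prime p and suppose χ and its restriction have height zero in their blocks B and b. If e is a block of H whose induced block is defined, then e induces B if and only if e = b. -/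
theorem result {G : Type*} [Group G] [Finite G] (p : ℕ) [Fact p.Prime] (M : Ideal Cfsg.AlgInt) (hM : Cfsg.IsPModular p M) (H : Subgroup G) (χ : Cfsg.IrrCharacter G) (hres : Cfsg.IsIrrCharacter H (fun h : H => (χ : G → ℂ) h)) (hχ0 : Cfsg.blockHeight p (Cfsg.blockOf M (χ : G → ℂ)) (χ : G → ℂ) = 0) (hψ0 : Cfsg.blockHeight p (Cfsg.blockOf M (fun h : H => (χ : G → ℂ) h)) (fun h : H => (χ : G → ℂ) h) = 0) (e : Set (Cfsg.IrrCharacter H)) (he : Cfsg.InducedBlockDefined M H e) : Cfsg.IsInducedBlock M H e (Cfsg.blockOf M (χ : G → ℂ)) ↔ e = Cfsg.blockOf M (fun h : H => (χ : G → ℂ) h) := by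
  classical
  haveI : Fintype G := Fintype.ofFinite _
  haveI : Fintype H := Fintype.ofFinite _
  haveI : Fintype (IrrCharacter G) := Fintype.ofFinite _
  haveI : Fintype (IrrCharacter H) := Fintype.ofFinite _
  set ψ : IrrCharacter H := ⟨fun h : H => (χ : G → ℂ) h, hres⟩ with hψdef
  have hψ : ∀ h : H, (ψ : H → ℂ) h = (χ : G → ℂ) h := fun h => rfl
  have hψ0' : Cfsg.blockHeight p (Cfsg.blockOf M (ψ : H → ℂ)) (ψ : H → ℂ) = 0 := hψ0
  have hminχ : ∀ ξ ∈ Cfsg.blockOf M (χ : G → ℂ), (Cfsg.Agent.Helper24.irrDeg χ).factorization p ≤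
      (Cfsg.Agent.Helper24.irrDeg ξ).factorization p := by
    intro ξ hξ
    rw [Cfsg.Agent.Helper8.IndHt.blockHeight_eq, Nat.sub_eq_zero_iff_le] at hχ0
    exact le_trans hχ0 (Cfsg.Agent.Helper8.IndHt.minVal_le p hξ)
  have hminψ : ∀ ξ ∈ Cfsg.blockOf M (ψ : H → ℂ), (Cfsg.Agent.Helper24.irrDeg ψ).factorization p ≤
      (Cfsg.Agent.Helper24.irrDeg ξ).factorization p := by
    intro ξ hξ
    rw [Cfsg.Agent.Helper8.IndHt.blockHeight_eq, Nat.sub_eq_zero_iff_le] at hψ0'
    exact le_trans hψ0' (Cfsg.Agent.Helper8.IndHt.minVal_le p hξ)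
  exact Cfsg.Agent.Helper8.Blau.okuyama hM H χ ψ hψ hminχ hminψ e he

end Cfsg.Agent.S0935
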