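import Cfsg.Statements.S0937
import Cfsg.Agent.Helper8.Blau

set_option autoImplicit false
open Cfsg

namespace Cfsg.Agent.S0937

/-- Let H be a subgroup of the finite group G and fix a maximal ideal M of the algebraic integers containing the prime p. If the block b of H induces the block B of G and χ ∈ B has height zero, then there is ξ ∈ b of height zero whose multiplicity in the restriction of χ to H is a natural number not divisible by p. -/
theorem result {G : Type*} [Group G] [Fintype G] (p : ℕ) [Fact p.Prime] (M : Ideal Cfsg.AlgInt) (hM : Cfsg.IsPModular p M) (H : Subgroup G) [Fintype H] (b : Set (Cfsg.IrrCharacter H)) (B : Set (Cfsg.IrrCharacter G)) (hind : Cfsg.IsInducedBlock M H b B) (χ : Cfsg.IrrCharacter G) (hχ : χ ∈ B) (h0 : Cfsg.blockHeight p B (χ : G → ℂ) = 0) : ∃ ξ ∈ b, Cfsg.blockHeight p b (ξ : H → ℂ) = 0 ∧ ∃ n : ℕ, Cfsg.classInner (fun h : H => (χ : G → ℂ) h) (ξ : H → ℂ) = (n : ℂ) ∧ ¬ p ∣ n := by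
  classical
  haveI : Fintype (IrrCharacter G) := Fintype.ofFinite _
  haveI : Fintype (IrrCharacter H) := Fintype.ofFinite _
  have hchar : IsCharacter H (fun h : H => (χ : G → ℂ) h) :=
    Cfsg.Agent.Helper8.isCharacter_restrict H (Cfsg.Agent.Helper24.IsIrrCharacter.isCharacter χ.2)
  obtain ⟨n, hn⟩ := Cfsg.Agent.Helper24.IsCharacter.exists_nat_coeff hchar
  have hmin : ∀ ξ ∈ B, (Cfsg.Agent.Helper24.irrDeg χ).factorization p ≤
      (Cfsg.Agent.Helper24.irrDeg ξ).factorization p := by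
    intro ξ hξ
    rw [Cfsg.Agent.Helper8.IndHt.blockHeight_eq, Nat.sub_eq_zero_iff_le] at h0
    exact le_trans h0 (Cfsg.Agent.Helper8.IndHt.minVal_le p hξ)
  obtain ⟨ξ, hξ, hh, hnd⟩ :=
    Cfsg.Agent.Helper8.Blau.exists_heightZero_constituent hM H hind χ hχ hmin n hn
  refine ⟨ξ, hξ, hh, n ξ, ?_, hnd⟩
  rw [hn]
  exact Cfsg.Agent.Helper24.classInner_sum_irr _ ξ

end Cfsg.Agent.S0937
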