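import Mathlib
import Cfsg.Statements.S0940
import Cfsg.Agent.Helper5.Kulshammer

set_option autoImplicit false
open Cfsg

namespace Cfsg.Agent.S0940

open Cfsg.Agent.Helper5.CC Cfsg.Agent.Helper5.Loc Cfsg.Agent.Helper24

/-- Let G be a finite group and M a maximal ideal of the algebraic integers containing the prime p. For every p-regular g, the idempotent coefficient of the principal block at g (the inverse of the group order times the sum over χ in the principal block of χ 1 * conj (χ g)) is congruent modulo the local ideal at M to N / R, where N is the number of pairs (x, y) with x of p-power order, y of order prime to p and x * y = g, and R is the number of elements of G of order prime to p. -/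
theorem result {G : Type*} [Group G] [Finite G] (p : ℕ) [Fact p.Prime] (M : Ideal Cfsg.AlgInt) (hM : Cfsg.IsPModular p M) (g : G) (hg : ¬ p ∣ orderOf g) : Cfsg.MemLocalIdeal M (Cfsg.blockCoeff (Cfsg.principalBlock M G) g - (Nat.card {xy : G × G // (∃ k : ℕ, orderOf xy.1 = p ^ k) ∧ ¬ p ∣ orderOf xy.2 ∧ xy.1 * xy.2 = g} : ℂ) / (Nat.card {y : G // ¬ p ∣ orderOf y} : ℂ)) := by
  classical
  have : Fintype G := Fintype.ofFinite G
  have : Fintype (IrrCharacter G) := Fintype.ofFinite _
  have hMp := isPrime_of_isPModular hM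
  have hp : p.Prime := Fact.out
  -- the count of pairs
  have hcard : Nat.card {xy : G × G // (∃ k : ℕ, orderOf xy.1 = p ^ k) ∧ ¬ p ∣ orderOf xy.2 ∧
      xy.1 * xy.2 = g} =
      Nat.card {h : G // (∃ k : ℕ, orderOf h = p ^ k) ∧ ¬ p ∣ orderOf (h * g)} := by
    apply Nat.card_congr
    refine ⟨fun xy => ⟨xy.1.1⁻¹, ?_, ?_⟩, fun h => ⟨(h.1⁻¹, h.1 * g), ?_, ?_, ?_⟩, ?_, ?_⟩
    · rw [orderOf_inv]; exact xy.2.1
    · have h3 : xy.1.1⁻¹ * g = xy.1.2 := by
        have := xy.2.2.2
        exact inv_mul_eq_iff_eq_mul.mpr this.symm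
      rw [h3]; exact xy.2.2.1
    · show ∃ k : ℕ, orderOf h.1⁻¹ = p ^ k
      rw [orderOf_inv]; exact h.2.1
    · exact h.2.2
    · show h.1⁻¹ * (h.1 * g) = g
      rw [inv_mul_cancel_left]
    · rintro ⟨⟨x, y⟩, h1, h2, h3⟩
      apply Subtype.ext
      simp only [inv_inv]
      have h3' : x * y = g := h3
      rw [Prod.mk.injEq]
      refine ⟨rfl, ?_⟩
      rw [← h3', inv_mul_cancel_left]
    · rintro ⟨h, h1, h2⟩
      apply Subtype.ext
      simp only [inv_inv]
  rw [hcard]
  set r : ℕ := Nat.card {y : G // ¬ p ∣ orderOf y} with hr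
  -- `p ∤ r`, from the congruence at `1`
  have h1 := kulshammer_congr hM (1 : G) (by rw [orderOf_one]; exact hp.not_dvd_one)
  have hN1 : Nat.card {h : G // (∃ k : ℕ, orderOf h = p ^ k) ∧ ¬ p ∣ orderOf (h * 1)} = 1 := by
    rw [Nat.card_eq_one_iff_unique]
    refine ⟨⟨?_⟩, ⟨⟨1, ⟨0, by simp⟩, by rw [mul_one, orderOf_one]; exact hp.not_dvd_one⟩⟩⟩
    rintro ⟨a, ⟨k, hk⟩, ha⟩ ⟨b, ⟨l, hl⟩, hb⟩
    apply Subtype.ext
    show a = b
    rw [mul_one] at ha hb
    have ha1 : a = 1 := by
      rcases Nat.eq_zero_or_pos k with h0 | hkpos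
      · rw [h0, pow_zero, orderOf_eq_one_iff] at hk; exact hk
      · exact absurd (hk ▸ dvd_pow_self p hkpos.ne') ha
    have hb1 : b = 1 := by
      rcases Nat.eq_zero_or_pos l with h0 | hlpos
      · rw [h0, pow_zero, orderOf_eq_one_iff] at hl; exact hl
      · exact absurd (hl ▸ dvd_pow_self p hlpos.ne') hb
    rw [ha1, hb1]
  rw [hN1, Nat.cast_one] at h1
  have hrp : ¬ p ∣ r := by
    intro hdvd
    have h2 : MemLocalIdeal M ((r : ℂ) * blockCoeff (principalBlock M G) 1) :=
      li_mul_right hMp ((memLocalIdeal_natCast_iff hM r).mpr hdvd)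
        (osima hMp _ (isPBlock_blockOf (trivIrr G)) 1)
    have h3 := li_add hMp h1 h2
    rw [sub_add_cancel] at h3
    exact not_memLocalIdeal_one hMp h3
  have hr0 : (r : ℂ) ≠ 0 := by
    intro h0
    apply hrp
    have : r = 0 := by exact_mod_cast h0
    rw [this]; exact dvd_zero p
  have h2 := kulshammer_congr hM g hg
  have h3 := li_mul_right hMp (li_neg h2) (memLocalRing_inv_natCast hM hrp)
  convert h3 using 1
  field_simp
  ring

end Cfsg.Agent.S0940
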