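import Mathlib
import Cfsg.Statements.S0941
import Cfsg.Agent.Helper5.QuotP

set_option autoImplicit false
open Cfsg

namespace Cfsg.Agent.S0941

open Cfsg.Agent.Helper5.CC Cfsg.Agent.Helper5.Loc Cfsg.Agent.Helper24

/-- Let P be a normal p-subgroup of the finite group G such that the index of C_G(P) is a power of p, and fix a maximal ideal M of the algebraic integers containing p. Then (i) two irreducible characters of G ⧸ P lie in the same block if and only if their inflations to G do, and (ii) every block of G contains the inflation of some irreducible character of G ⧸ P; so inflation induces a bijection between the blocks of G ⧸ P and the blocks of G. -/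
theorem result {G : Type*} [Group G] [Finite G] (p : ℕ) [Fact p.Prime] (M : Ideal Cfsg.AlgInt) (hM : Cfsg.IsPModular p M) (P : Subgroup G) [P.Normal] (hP : IsPGroup p P) (hC : ∃ k : ℕ, (Subgroup.centralizer (P : Set G)).index = p ^ k) : (∀ χ ψ : Cfsg.IrrCharacter (G ⧸ P), Cfsg.SameBlock M (χ : G ⧸ P → ℂ) (ψ : G ⧸ P → ℂ) ↔ Cfsg.SameBlock M ((χ : G ⧸ P → ℂ) ∘ QuotientGroup.mk) ((ψ : G ⧸ P → ℂ) ∘ QuotientGroup.mk)) ∧ ∀ B : Set (Cfsg.IrrCharacter G), Cfsg.IsPBlock M B → ∃ χ : Cfsg.IrrCharacter (G ⧸ P), ∃ θ ∈ B, (θ : G → ℂ) = (χ : G ⧸ P → ℂ) ∘ QuotientGroup.mk := by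
  classical
  have : Fintype G := Fintype.ofFinite G
  have : Fintype (G ⧸ P) := Fintype.ofFinite _
  have : Fintype (IrrCharacter G) := Fintype.ofFinite _
  have : Fintype (IrrCharacter (G ⧸ P)) := Fintype.ofFinite _
  have hMp := isPrime_of_isPModular hM
  have hreg : ∀ g : G, ¬ p ∣ orderOf g → g ∈ Subgroup.centralizer (P : Set G) :=
    fun g hg => mem_of_regular_of_index_pow _ hC g hg
  constructor
  · intro χ ψ
    show SameBlock M (χ : G ⧸ P → ℂ) (ψ : G ⧸ P → ℂ) ↔
      SameBlock M (infl P χ : G → ℂ) (infl P ψ : G → ℂ)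
    constructor
    · intro h
      apply sameBlock_of_regular hM
      intro g hg
      rw [centralChar_infl P hP hreg χ g hg, centralChar_infl P hP hreg ψ g hg]
      exact h _
    · intro h
      apply sameBlock_of_regular hM
      intro q hq
      obtain ⟨g, hg, rfl⟩ := exists_regular_lift P q hq
      rw [← centralChar_infl P hP hreg χ g hg, ← centralChar_infl P hP hreg ψ g hg]
      exact h g
  · intro B hB
    -- the image of the block idempotent is nonzero
    obtain ⟨χ₀, hχ₀⟩ := IsPBlock.nonempty hMp hB
    have hact : act (blockCoeff B) χ₀ = 1 := by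
      rw [act_blockCoeff, if_pos hχ₀]
    obtain ⟨g, hg⟩ : ∃ g : G, blockCoeff B g ≠ 0 := by
      by_contra hcon
      push Not at hcon
      have : act (blockCoeff B) χ₀ = 0 := by
        unfold act
        rw [Finset.sum_eq_zero (fun t _ => by rw [hcon t, zero_mul]), zero_div]
      rw [this] at hact
      exact zero_ne_one hact
    have hgreg : ¬ p ∣ orderOf g := fun hdvd => hg (blockCoeff_eq_zero_of_singular hM hB g hdvd)
    have hpush : push P (blockCoeff B) (g : G ⧸ P) = blockCoeff B g :=
      push_eq_of_regular P hP (fun z hz => blockCoeff_eq_zero_of_singular hM hB z hz) g hgreg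
        (hreg g hgreg)
    obtain ⟨χ, hχ⟩ : ∃ χ : IrrCharacter (G ⧸ P), act (push P (blockCoeff B)) χ ≠ 0 := by
      by_contra hcon
      push Not at hcon
      have h1 := coeff_act (isClassFunction_push P (isClassFunction_blockCoeff B)) (g : G ⧸ P)
      rw [Finset.sum_eq_zero (fun χ _ => by rw [hcon χ, zero_mul]), mul_zero] at h1
      rw [hpush] at h1
      exact hg h1.symm
    rw [act_push, act_blockCoeff] at hχ
    have hmem : infl P χ ∈ B := by
      by_contra hne
      rw [if_neg hne] at hχ
      exact hχ rfl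
    exact ⟨χ, infl P χ, hmem, rfl⟩

end Cfsg.Agent.S0941
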