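import Mathlib
import Cfsg.Statements.S0945
import Cfsg.Agent.Helper16.Homocyclic

set_option autoImplicit false
open Cfsg

namespace Cfsg.Agent.S0945

open Cfsg.Agent.Helper16.Homocyclic

theorem result {G : Type*} [Group G] [Finite G] (P : Sylow 2 G) (m : ℕ) (hm : 1 ≤ m) (e : (P : Subgroup G) ≃* Multiplicative (ZMod (2 ^ m) × ZMod (2 ^ m))) : ((Subgroup.centralizer (P : Set G)).relIndex (Subgroup.normalizer (P : Set G)) = 1 ∨ (Subgroup.centralizer (P : Set G)).relIndex (Subgroup.normalizer (P : Set G)) = 3) ∧ ((Subgroup.centralizer (P : Set G)).relIndex (Subgroup.normalizer (P : Set G)) ≠ 1 → ∀ z ∈ (P : Subgroup G), z ≠ 1 → Subgroup.centralizer ({z} : Set G) ⊓ Subgroup.normalizer (P : Set G) = Subgroup.centralizer (P : Set G)) := by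
  refine ⟨relIndex_one_or_three P m hm e, ?_⟩
  intro hr z hz hz1
  apply le_antisymm
  · intro n hn
    rw [Subgroup.mem_inf] at hn
    obtain ⟨hnz, hnN⟩ := hn
    apply mem_centralizer_of_commute P m hm e hr z hz hz1 n hnN
    rw [Subgroup.mem_centralizer_iff] at hnz
    exact (hnz z rfl).symm
  · intro c hc
    rw [Subgroup.mem_inf]
    refine ⟨?_, Subgroup.centralizer_le_normalizer _ hc⟩
    rw [Subgroup.mem_centralizer_iff] at hc ⊢
    intro y hy
    rw [Set.mem_singleton_iff] at hy
    subst hy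
    exact hc y hz

end Cfsg.Agent.S0945
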