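import Mathlib
import Cfsg.Statements.S0946
import Cfsg.Agent.Helper16.Homocyclic

set_option autoImplicit false
open Cfsg

namespace Cfsg.Agent.S0946

open Cfsg.Agent.Helper16.Homocyclic
open Pointwise

theorem sylow_mem_smul {p : ℕ} {G : Type*} [Group G] (g : G) (P : Sylow p G) (x : G) :
    x ∈ g • P ↔ g⁻¹ * x * g ∈ P := by
  have h : x ∈ g • P ↔ x ∈ ((g • P : Sylow p G) : Subgroup G) := Iff.rfl
  rw [h, Sylow.coe_subgroup_smul, Subgroup.mem_pointwise_smul_iff_inv_smul_mem]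
  simp only [MulAut.smul_def, MulAut.conj_inv_apply]
  exact Iff.rfl

/-- every involution is conjugate into the Sylow 2-subgroup -/
theorem invol_conj_mem {G : Type*} [Group G] [Finite G] (P : Sylow 2 G) (s : G)
    (hs : orderOf s = 2) :
    ∃ g : G, g⁻¹ * s * g ∈ (P : Subgroup G) ∧ g⁻¹ * s * g ≠ 1 ∧ (g⁻¹ * s * g) ^ 2 = 1 := by
  have : Fact (Nat.Prime 2) := ⟨Nat.prime_two⟩
  have hp : IsPGroup 2 (Subgroup.zpowers s) := by
    rw [IsPGroup.iff_card, Nat.card_zpowers]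
    exact ⟨1, by rw [hs, pow_one]⟩
  obtain ⟨Q, hQ⟩ := hp.exists_le_sylow
  obtain ⟨g, hg⟩ := MulAction.exists_smul_eq G P Q
  have hsQ : s ∈ Q := hQ (Subgroup.mem_zpowers s)
  rw [← hg] at hsQ
  refine ⟨g, (sylow_mem_smul g P s).mp hsQ, ?_, ?_⟩
  · intro h
    have : s = g * (g⁻¹ * s * g) * g⁻¹ := by group
    rw [h] at this
    have hs1 : s = 1 := by rw [this]; group
    rw [hs1, orderOf_one] at hs
    exact absurd hs (by norm_num)
  · have h2 : s ^ 2 = 1 := by rw [← hs]; exact pow_orderOf_eq_one s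
    have : g⁻¹ * s * g = g⁻¹ * s * g⁻¹⁻¹ := by rw [inv_inv]
    rw [this, conj_pow, h2]; group

theorem result {G : Type*} [Group G] [Finite G] (P : Sylow 2 G) (m : ℕ) (hm : 1 ≤ m) (e : (P : Subgroup G) ≃* Multiplicative (ZMod (2 ^ m) × ZMod (2 ^ m))) : (∃ N : Subgroup G, N.Normal ∧ Subgroup.IsComplement' N (P : Subgroup G)) ∨ ∀ s t : G, orderOf s = 2 → orderOf t = 2 → IsConj s t := by
  have : Fact (Nat.Prime 2) := ⟨Nat.prime_two⟩
  by_cases hr : (Subgroup.centralizer ((P : Subgroup G) : Set G)).relIndex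
      (Subgroup.normalizer ((P : Subgroup G) : Set G)) = 1
  · left
    have hP : Subgroup.normalizer ((P : Subgroup G) : Set G) ≤
        Subgroup.centralizer ((P : Subgroup G) : Set G) := Subgroup.relIndex_eq_one.mp hr
    exact ⟨(MonoidHom.transferSylow P hP).ker, inferInstance,
      MonoidHom.ker_transferSylow_isComplement' P hP⟩
  · right
    intro s t hs ht
    obtain ⟨g, hg1, hg2, hg3⟩ := invol_conj_mem P s hs
    obtain ⟨k, hk1, hk2, hk3⟩ := invol_conj_mem P t ht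
    obtain ⟨n, hn⟩ := exists_conj_invol P m hm e hr _ _ hg1 hg2 hg3 hk1 hk2 hk3
    rw [isConj_iff]
    refine ⟨k * n * g⁻¹, ?_⟩
    calc k * n * g⁻¹ * s * (k * n * g⁻¹)⁻¹ = k * (n * (g⁻¹ * s * g) * n⁻¹) * k⁻¹ := by group
      _ = k * (k⁻¹ * t * k) * k⁻¹ := by rw [hn]
      _ = t := by group

end Cfsg.Agent.S0946
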