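import Mathlib
import Cfsg.Statements.S0957
import Cfsg.Agent.Helper5.ConjAct

set_option autoImplicit false
open Cfsg

namespace Cfsg.Agent.S0957

open Cfsg.Agent.Helper5

variable {G : Type*} [Group G]

/-- The set of pairs. -/
abbrev Pairs (P : Subgroup G) (g h : G) : Type _ :=
  {yz : G × G // IsConj g yz.1 ∧ IsConj h yz.2 ∧ yz.2 * yz.1⁻¹ ∈ P}

theorem isConj_conj {g x : G} (u : G) (hx : IsConj g x) : IsConj g (u * x * u⁻¹) :=
  hx.trans (isConj_iff.mpr ⟨u, rfl⟩)

/-- Conjugation action of `P` on the pairs. -/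
@[instance_reducible]
noncomputable def pairsAction (P : Subgroup G) (g h : G) : MulAction P (Pairs P g h) where
  smul u yz := ⟨((u : G) * yz.1.1 * (u : G)⁻¹, (u : G) * yz.1.2 * (u : G)⁻¹),
    isConj_conj _ yz.2.1, isConj_conj _ yz.2.2.1, by
      have h1 : (u : G) * yz.1.2 * (u : G)⁻¹ * ((u : G) * yz.1.1 * (u : G)⁻¹)⁻¹
          = (u : G) * (yz.1.2 * yz.1.1⁻¹) * (u : G)⁻¹ := by group
      show (u : G) * yz.1.2 * (u : G)⁻¹ * ((u : G) * yz.1.1 * (u : G)⁻¹)⁻¹ ∈ P
      rw [h1]
      exact P.mul_mem (P.mul_mem u.2 yz.2.2.2) (P.inv_mem u.2)⟩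
  one_smul yz := by
    apply Subtype.ext
    show (((1 : P) : G) * yz.1.1 * ((1 : P) : G)⁻¹, ((1 : P) : G) * yz.1.2 * ((1 : P) : G)⁻¹) = yz.1
    simp
  mul_smul u v yz := by
    apply Subtype.ext
    show (((u * v : P) : G) * yz.1.1 * ((u * v : P) : G)⁻¹, ((u * v : P) : G) * yz.1.2 * ((u * v : P) : G)⁻¹)
      = ((u : G) * ((v : G) * yz.1.1 * (v : G)⁻¹) * (u : G)⁻¹, (u : G) * ((v : G) * yz.1.2 * (v : G)⁻¹) * (u : G)⁻¹)
    simp [mul_assoc]

theorem result {G : Type*} [Group G] [Finite G] (p : ℕ) [Fact p.Prime] (P : Sylow p G) (g h : G) (S : Sylow p (Subgroup.centralizer ({g} : Set G))) : Nat.card P / Nat.card S ∣ Nat.card {yz : G × G // IsConj g yz.1 ∧ IsConj h yz.2 ∧ yz.2 * yz.1⁻¹ ∈ (P : Subgroup G)} := by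
  classical
  let _ := pairsAction (P : Subgroup G) g h
  have hp : p.Prime := Fact.out
  apply dvd_card_of_dvd_index_stabilizer (Q := (P : Subgroup G)) (X := Pairs (P : Subgroup G) g h)
  intro x
  set T := MulAction.stabilizer (P : Subgroup G) x with hT
  -- index = |P| / |T|
  have hidx : T.index = Nat.card (P : Subgroup G) / Nat.card T := by
    have := T.card_mul_index
    rw [← this, Nat.mul_div_cancel_left _ Nat.card_pos]
  rw [hidx]
  -- sizes
  have hPcard : Nat.card (P : Subgroup G) = p ^ (Nat.card G).factorization p := P.card_eq_multiplicity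
  have hScard : Nat.card (S : Subgroup (Subgroup.centralizer ({g} : Set G))) = p ^ (Nat.card (Subgroup.centralizer ({g} : Set G))).factorization p :=
    S.card_eq_multiplicity
  -- T is a p-group
  have hTp : IsPGroup p T := P.2.to_subgroup T
  obtain ⟨t, ht⟩ := hTp.exists_card_eq
  -- T embeds into the centralizer of x.1.1
  have hTdvd : Nat.card T ∣ Nat.card (Subgroup.centralizer ({x.1.1} : Set G)) := by
    let f : T →* Subgroup.centralizer ({x.1.1} : Set G) :=
      { toFun := fun u => ⟨((u : (P : Subgroup G)) : G), by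
          rw [Subgroup.mem_centralizer_iff]
          intro z hz
          rw [Set.mem_singleton_iff] at hz
          subst hz
          have h1 : (u : (P : Subgroup G)) • x = x := u.2
          have h2 := congrArg (fun w => w.1.1) h1
          have h3 : ((u : (P : Subgroup G)) : G) * x.1.1 * ((u : (P : Subgroup G)) : G)⁻¹ = x.1.1 := h2
          calc x.1.1 * ((u : (P : Subgroup G)) : G)
              = (((u : (P : Subgroup G)) : G) * x.1.1 * ((u : (P : Subgroup G)) : G)⁻¹) * ((u : (P : Subgroup G)) : G) := by rw [h3]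
            _ = ((u : (P : Subgroup G)) : G) * x.1.1 := by group⟩
        map_one' := rfl
        map_mul' := fun _ _ => rfl }
    have hf : Function.Injective f := by
      intro a b hab
      apply Subtype.ext
      apply Subtype.ext
      exact congrArg (fun w : Subgroup.centralizer ({x.1.1} : Set G) => (w : G)) hab
    exact Subgroup.card_dvd_of_injective f hf
  obtain ⟨c, hc⟩ := isConj_iff.mp x.2.1
  rw [← hc, card_centralizer_conj] at hTdvd
  -- so |T| divides |S|
  have hTS : Nat.card T ∣ Nat.card (S : Subgroup (Subgroup.centralizer ({g} : Set G))) := by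
    rw [ht, hScard]
    rw [ht] at hTdvd
    apply pow_dvd_pow
    exact (hp.pow_dvd_iff_le_factorization Nat.card_pos.ne').mp hTdvd
  have hSP : Nat.card (S : Subgroup (Subgroup.centralizer ({g} : Set G))) ∣ Nat.card (P : Subgroup G) := by
    rw [hScard, hPcard]
    apply pow_dvd_pow
    have hdvd : Nat.card (Subgroup.centralizer ({g} : Set G)) ∣ Nat.card G := Subgroup.card_subgroup_dvd_card _
    exact (Nat.factorization_le_iff_dvd Nat.card_pos.ne' Nat.card_pos.ne').mpr hdvd p
  exact Nat.div_dvd_div_left hSP hTS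

end Cfsg.Agent.S0957
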