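import Mathlib
import Cfsg.Statements.S0967
import Cfsg.Agent.Helper5.QuotPPrime
import Cfsg.Agent.Helper5.PPrimeNormal
import Cfsg.Agent.Helper5.CharKer
import Cfsg.Agent.Helper23.PrincipalBlock

set_option autoImplicit false
open Cfsg

namespace Cfsg.Agent.S0967

open Cfsg.Agent.Helper5 Cfsg.Agent.Helper5.CC Cfsg.Agent.Helper5.Loc Cfsg.Agent.Helper24

/-- Let N be a normal subgroup of the finite group G of order prime to p and fix a maximal ideal M of the algebraic integers containing p. If χ is an irreducible character of G ⧸ N and ψ lies in the block of its inflation χ ∘ (quotient map), then ψ is itself inflated from an irreducible character ψ' of G ⧸ N lying in the block of χ. (Over a normal p'-subgroup, blocks of the quotient are whole blocks of G.) -/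
theorem result {G : Type*} [Group G] [Finite G] (p : ℕ) [Fact p.Prime] (M : Ideal Cfsg.AlgInt) (hM : Cfsg.IsPModular p M) (N : Subgroup G) [N.Normal] (hN : ¬ p ∣ Nat.card N) (χ : Cfsg.IrrCharacter (G ⧸ N)) (ψ : Cfsg.IrrCharacter G) (hψ : ψ ∈ Cfsg.blockOf M ((χ : G ⧸ N → ℂ) ∘ QuotientGroup.mk)) : ∃ ψ' : Cfsg.IrrCharacter (G ⧸ N), (ψ : G → ℂ) = (ψ' : G ⧸ N → ℂ) ∘ QuotientGroup.mk ∧ Cfsg.SameBlock M (χ : G ⧸ N → ℂ) (ψ' : G ⧸ N → ℂ) := by
  classical
  have : Fintype G := Fintype.ofFinite G
  have : Fintype N := Fintype.ofFinite _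
  have : Fintype (G ⧸ N) := Fintype.ofFinite _
  have : Fintype (IrrCharacter G) := Fintype.ofFinite _
  have hMp := isPrime_of_isPModular hM
  have hsame : SameBlock M (infl N χ : G → ℂ) (ψ : G → ℂ) := hψ
  -- `N` lies in the kernel of `ψ`
  have hconst : ∀ n ∈ N, (infl N χ : G → ℂ) n = (infl N χ : G → ℂ) 1 := by
    intro n hn
    rw [infl_apply, infl_apply, (QuotientGroup.eq_one_iff n).mpr hn, QuotientGroup.mk_one]
  have h1 := classInner_restrict_triv_ne_zero N (infl N χ) hconst
  have h2 := constituent_of_sameBlock hM N hN (infl N χ) ψ hsame (trivIrr N) h1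
  have hker : ∀ n ∈ N, (ψ : G → ℂ) n = (ψ : G → ℂ) 1 :=
    fun n hn => eq_one_of_trivial_constituent N ψ h2 n hn
  obtain ⟨ψ', hψ'⟩ := Cfsg.Agent.Helper23.PB.exists_irr_quotient N ψ hker
  have hinfl : infl N ψ' = ψ := by
    apply Subtype.ext
    funext g
    exact hψ' g
  refine ⟨ψ', ?_, ?_⟩
  · funext g
    exact (hψ' g).symm
  · apply sameBlock_of_infl N hM hN χ ψ'
    rw [hinfl]
    exact hsame

end Cfsg.Agent.S0967
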