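import Cfsg.Statements.S0974
import Cfsg.Agent.Helper24.SelfCentD
import Cfsg.Agent.Helper11.O504A

set_option autoImplicit false
open Cfsg

namespace Cfsg.Agent.S0974

/-- No finite simple group has order 3648 = 2^6 * 3 * 19. -/
theorem result {G : Type*} [Group G] [Finite G] [IsSimpleGroup G] : Nat.card G ≠ 3648 := by
  intro hcard
  have hG : ¬ IsMulCommutative G :=
    Cfsg.Agent.Helper11.simple_noncomm_of_card (by rw [hcard]; norm_num)
  have : Fact (Nat.Prime 19) := ⟨by norm_num⟩
  have hG' : Nat.card G = 192 * 19 ^ 1 := by rw [hcard]; norm_num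
  have hm : ¬ 19 ∣ 192 := by norm_num
  have hn := Cfsg.Agent.Helper11.card_sylow_mem_filter 192 1 hG' hm
  have hfilter : (Nat.divisors 192).filter (fun d => d % 19 = 1) = {1, 96} := by
    decide +kernel
  rw [hfilter] at hn
  simp only [Finset.mem_insert, Finset.mem_singleton] at hn
  have hdvd : 19 ∣ Nat.card G := by rw [hcard]; norm_num
  have hS : ∀ Q : Sylow 19 G, Nat.card ↥(Q : Subgroup G) = 19 := by
    intro Q
    have := (Cfsg.Agent.Helper11.sylow_card_of_card_eq_pow 192 1 hG' hm Q).1
    rwa [pow_one] at this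
  obtain ⟨P⟩ : Nonempty (Sylow 19 G) := inferInstance
  have hNP := Cfsg.Agent.Helper11.card_sylow_mul_card_normalizer P
  rw [hcard] at hNP
  rcases hn with h | h
  · exact Cfsg.Agent.Helper11.simple_card_sylow_ne_one hG 19 hdvd h
  · rw [h] at hNP
    have hN : Nat.card ↥(Subgroup.normalizer ((P : Subgroup G) : Set G)) = 19 * 2 := by omega
    obtain ⟨hk1, hk4, hkC, h5C⟩ := Cfsg.Agent.Helper11.simple_automizer_data hG 19 P (hS P)
    rw [hN] at hkC
    have hC : Nat.card ↥(Subgroup.centralizer ((P : Subgroup G) : Set G)) = 19 := by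
      have hk : (Subgroup.centralizer ((P : Subgroup G) : Set G)).relIndex
        (Subgroup.normalizer ((P : Subgroup G) : Set G)) ≤ 18 := Nat.le_of_dvd (by norm_num) hk4
      generalize (Subgroup.centralizer ((P : Subgroup G) : Set G)).relIndex
        (Subgroup.normalizer ((P : Subgroup G) : Set G)) = k at hk hk1 hk4 hkC
      generalize Nat.card ↥(Subgroup.centralizer ((P : Subgroup G) : Set G)) = c at hkC h5C ⊢
      obtain ⟨q, rfl⟩ := h5C
      have hkpos : 0 < k := Nat.pos_of_dvd_of_pos hk4 (by norm_num)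
      have hq : q ≤ 2 := by nlinarith
      interval_cases k <;> interval_cases q <;> omega
    obtain ⟨ε, d, S, a, hε, hd, ⟨kd, hkd⟩, hSp, hsq, heq, _⟩ :=
      Cfsg.Agent.Helper24.SelfCent.perfect_degree_equation
        (Cfsg.Agent.Helper11.O504.commutator_eq_top hG) 19 (P : Subgroup G) (hS P) 2 9 hN hC
        (by norm_num) (by norm_num)
    classical
    obtain ⟨ψ, hψ, hψa, hf⟩ :=
      Cfsg.Agent.Helper24.SelfCent.exists_of_sum_sq_eq_one S a (by rw [hsq]; norm_num)
    rw [hf (fun ψ => (Cfsg.Agent.Helper24.irrDeg ψ : ℤ))] at heq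
    obtain ⟨hfd, hf1, kf, hkf⟩ := hSp ψ hψ
    rw [hcard] at hfd hd
    have hfmem : Cfsg.Agent.Helper24.irrDeg ψ ∈
        (Nat.divisors 3648).filter (fun f => f % 19 = 1 ∨ f % 19 = 18) := by
      rw [Finset.mem_filter, Nat.mem_divisors]
      refine ⟨⟨hfd, by norm_num⟩, ?_⟩
      rcases hψa with h1 | h1 <;> rw [h1] at hkf <;> omega
    have hfilt2 : (Nat.divisors 3648).filter (fun f => f % 19 = 1 ∨ f % 19 = 18) = {1, 96} := by
      decide +kernel
    rw [hfilt2] at hfmem
    simp only [Finset.mem_insert, Finset.mem_singleton] at hfmem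
    rcases hfmem with h1 | h1
    · exact hf1 h1
    · rw [h1] at hkf heq
      have ha1 : a ψ = 1 := by
        rcases hψa with h2 | h2
        · exact h2
        · rw [h2] at hkf; omega
      rw [ha1] at heq
      have hd97 : d = 97 := by
        rcases hε with h2 | h2 <;> rw [h2] at heq <;> omega
      rw [hd97] at hd
      norm_num at hd

end Cfsg.Agent.S0974
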