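import Cfsg.Statements.S0976
import Cfsg.Agent.Helper15.O4032e
import Cfsg.Agent.Helper11.O504A

set_option autoImplicit false
open Cfsg

namespace Cfsg.Agent.S0976

/-- No finite simple group has order 4032 = 2^6 * 3^2 * 7. -/
theorem result {G : Type*} [Group G] [Finite G] [IsSimpleGroup G] : Nat.card G ≠ 4032 := by
  intro hcard
  have hG : ¬ IsMulCommutative G :=
    Cfsg.Agent.Helper11.simple_noncomm_of_card (by rw [hcard]; norm_num)
  have : Fact (Nat.Prime 7) := ⟨by norm_num⟩
  have hG' : Nat.card G = 576 * 7 ^ 1 := by rw [hcard]; norm_num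
  have hm : ¬ 7 ∣ 576 := by norm_num
  have hn := Cfsg.Agent.Helper11.card_sylow_mem_filter 576 1 hG' hm
  have hfilter : (Nat.divisors 576).filter (fun d => d % 7 = 1) = {1, 8, 36, 64, 288} := by
    decide +kernel
  rw [hfilter] at hn
  simp only [Finset.mem_insert, Finset.mem_singleton] at hn
  have hdvd : 7 ∣ Nat.card G := by rw [hcard]; norm_num
  have hS : ∀ Q : Sylow 7 G, Nat.card ↥(Q : Subgroup G) = 7 := by
    intro Q
    have := (Cfsg.Agent.Helper11.sylow_card_of_card_eq_pow 576 1 hG' hm Q).1
    rwa [pow_one] at this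
  obtain ⟨P⟩ : Nonempty (Sylow 7 G) := inferInstance
  have hNP := Cfsg.Agent.Helper11.card_sylow_mul_card_normalizer P
  rw [hcard] at hNP
  obtain ⟨hk1, hk6, hkC, -⟩ := Cfsg.Agent.Helper11.simple_automizer_data hG 7 P (hS P)
  have hk6' : (Subgroup.centralizer ((P : Subgroup G) : Set G)).relIndex
      (Subgroup.normalizer ((P : Subgroup G) : Set G)) ∣ 6 := hk6
  have hkle : (Subgroup.centralizer ((P : Subgroup G) : Set G)).relIndex
      (Subgroup.normalizer ((P : Subgroup G) : Set G)) ≤ 6 := Nat.le_of_dvd (by norm_num) hk6'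
  rcases hn with h | h | h | h | h
  · exact Cfsg.Agent.Helper11.simple_card_sylow_ne_one hG 7 hdvd h
  · -- n = 8
    have hidx : (Subgroup.normalizer ((P : Subgroup G) : Set G)).index = 7 + 1 := by
      have h3 := P.card_eq_index_normalizer
      rw [h] at h3
      exact h3.symm
    have h2 := Cfsg.Agent.Helper11.simple_normalizer_dvd_of_index hG 7 (by norm_num) _
      (Or.inr hidx) P (hS P)
    rw [h] at hNP
    have hN : Nat.card ↥(Subgroup.normalizer ((P : Subgroup G) : Set G)) = 504 := by omega
    rw [hN] at h2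
    norm_num at h2
  · -- n = 36, |N| = 112
    rw [h] at hNP
    have hN : Nat.card ↥(Subgroup.normalizer ((P : Subgroup G) : Set G)) = 112 := by omega
    rw [hN] at hkC
    generalize hk : (Subgroup.centralizer ((P : Subgroup G) : Set G)).relIndex
      (Subgroup.normalizer ((P : Subgroup G) : Set G)) = k at hk1 hk6' hkle hkC
    have hk2 : k = 2 := by
      have hk112 : k ∣ 112 := Dvd.intro _ hkC
      interval_cases k <;> omega
    subst hk2
    exact Cfsg.Agent.Helper15.O4032.case_e2_56 hcard P (hS P) hk (by omega)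
  · -- n = 64, |N| = 63
    rw [h] at hNP
    have hN : Nat.card ↥(Subgroup.normalizer ((P : Subgroup G) : Set G)) = 63 := by omega
    rw [hN] at hkC
    generalize hk : (Subgroup.centralizer ((P : Subgroup G) : Set G)).relIndex
      (Subgroup.normalizer ((P : Subgroup G) : Set G)) = k at hk1 hk6' hkle hkC
    have hk3 : k = 3 := by
      have hk63 : k ∣ 63 := Dvd.intro _ hkC
      interval_cases k <;> omega
    subst hk3
    exact Cfsg.Agent.Helper15.O4032.case_e3 hcard P (hS P) hk (by omega)
  · -- n = 288, |N| = 14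
    rw [h] at hNP
    have hN : Nat.card ↥(Subgroup.normalizer ((P : Subgroup G) : Set G)) = 14 := by omega
    rw [hN] at hkC
    generalize hk : (Subgroup.centralizer ((P : Subgroup G) : Set G)).relIndex
      (Subgroup.normalizer ((P : Subgroup G) : Set G)) = k at hk1 hk6' hkle hkC
    have hk2 : k = 2 := by
      have hk14 : k ∣ 14 := Dvd.intro _ hkC
      interval_cases k <;> omega
    subst hk2
    exact Cfsg.Agent.Helper15.O4032.case_e2_7 hcard P (hS P) hk (by omega) hN

end Cfsg.Agent.S0976
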