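import Cfsg.Statements.S0979
import Cfsg.Agent.Helper24.SelfCentD
import Cfsg.Agent.Helper11.O504A

set_option autoImplicit false
open Cfsg

namespace Cfsg.Agent.S0979

/-- No finite simple group has order 5472 = 2^5 * 3^2 * 19. -/
theorem result {G : Type*} [Group G] [Finite G] [IsSimpleGroup G] : Nat.card G ≠ 5472 := by
  intro hcard
  have hG : ¬ IsMulCommutative G :=
    Cfsg.Agent.Helper11.simple_noncomm_of_card (by rw [hcard]; norm_num)
  have : Fact (Nat.Prime 19) := ⟨by norm_num⟩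
  have hG' : Nat.card G = 288 * 19 ^ 1 := by rw [hcard]; norm_num
  have hm : ¬ 19 ∣ 288 := by norm_num
  have hn := Cfsg.Agent.Helper11.card_sylow_mem_filter 288 1 hG' hm
  have hfilter : (Nat.divisors 288).filter (fun d => d % 19 = 1) = {1, 96} := by
    decide +kernel
  rw [hfilter] at hn
  simp only [Finset.mem_insert, Finset.mem_singleton] at hn
  have hdvd : 19 ∣ Nat.card G := by rw [hcard]; norm_num
  have hS : ∀ Q : Sylow 19 G, Nat.card ↥(Q : Subgroup G) = 19 := by
    intro Q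
    have := (Cfsg.Agent.Helper11.sylow_card_of_card_eq_pow 288 1 hG' hm Q).1
    rwa [pow_one] at this
  obtain ⟨P⟩ : Nonempty (Sylow 19 G) := inferInstance
  have hNP := Cfsg.Agent.Helper11.card_sylow_mul_card_normalizer P
  rw [hcard] at hNP
  rcases hn with h | h
  · exact Cfsg.Agent.Helper11.simple_card_sylow_ne_one hG 19 hdvd h
  · rw [h] at hNP
    have hN : Nat.card ↥(Subgroup.normalizer ((P : Subgroup G) : Set G)) = 19 * 3 := by omega
    obtain ⟨hk1, hk4, hkC, h5C⟩ := Cfsg.Agent.Helper11.simple_automizer_data hG 19 P (hS P)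
    rw [hN] at hkC
    have hC : Nat.card ↥(Subgroup.centralizer ((P : Subgroup G) : Set G)) = 19 := by
      have hk : (Subgroup.centralizer ((P : Subgroup G) : Set G)).relIndex
        (Subgroup.normalizer ((P : Subgroup G) : Set G)) ≤ 18 := Nat.le_of_dvd (by norm_num) hk4
      generalize (Subgroup.centralizer ((P : Subgroup G) : Set G)).relIndex
        (Subgroup.normalizer ((P : Subgroup G) : Set G)) = k at hk hk1 hk4 hkC
      generalize Nat.card ↥(Subgroup.centralizer ((P : Subgroup G) : Set G)) = c at hkC h5C ⊢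
      obtain ⟨q, rfl⟩ := h5C
      have hkpos : 0 < k := Nat.pos_of_dvd_of_pos hk4 (by norm_num)
      have hq : q ≤ 3 := by nlinarith
      interval_cases k <;> interval_cases q <;> omega
    obtain ⟨ε, d, S, a, hε, hd, ⟨kd, hkd⟩, hSp, hsq, heq, _⟩ :=
      Cfsg.Agent.Helper24.SelfCent.perfect_degree_equation
        (Cfsg.Agent.Helper11.O504.commutator_eq_top hG) 19 (P : Subgroup G) (hS P) 3 6 hN hC
        (by norm_num) (by norm_num)
    classical
    obtain ⟨ψ₁, hψ₁, ψ₂, hψ₂, _, ha₁, ha₂, hf⟩ :=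
      Cfsg.Agent.Helper24.SelfCent.exists_of_sum_sq_eq_two S a (by rw [hsq]; norm_num)
    rw [hf (fun ψ => (Cfsg.Agent.Helper24.irrDeg ψ : ℤ))] at heq
    obtain ⟨hfd₁, hf1₁, kf₁, hkf₁⟩ := hSp ψ₁ hψ₁
    obtain ⟨hfd₂, hf1₂, kf₂, hkf₂⟩ := hSp ψ₂ hψ₂
    rw [hcard] at hfd₁ hfd₂ hd
    have hfilt2 : (Nat.divisors 5472).filter (fun f => f % 19 = 1 ∨ f % 19 = 18) =
        {1, 18, 96} := by
      decide +kernel
    have hfilt3 : (Nat.divisors 5472).filter (fun f => f % 19 = 3 ∨ f % 19 = 16) =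
        {3, 16, 288} := by
      decide +kernel
    have hfmem₁ : Cfsg.Agent.Helper24.irrDeg ψ₁ ∈
        (Nat.divisors 5472).filter (fun f => f % 19 = 1 ∨ f % 19 = 18) := by
      rw [Finset.mem_filter, Nat.mem_divisors]
      refine ⟨⟨hfd₁, by norm_num⟩, ?_⟩
      rcases ha₁ with h1 | h1 <;> rw [h1] at hkf₁ <;> omega
    have hfmem₂ : Cfsg.Agent.Helper24.irrDeg ψ₂ ∈
        (Nat.divisors 5472).filter (fun f => f % 19 = 1 ∨ f % 19 = 18) := by
      rw [Finset.mem_filter, Nat.mem_divisors]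
      refine ⟨⟨hfd₂, by norm_num⟩, ?_⟩
      rcases ha₂ with h1 | h1 <;> rw [h1] at hkf₂ <;> omega
    have hdmem : d ∈ (Nat.divisors 5472).filter (fun f => f % 19 = 3 ∨ f % 19 = 16) := by
      rw [Finset.mem_filter, Nat.mem_divisors]
      refine ⟨⟨hd, by norm_num⟩, ?_⟩
      rcases hε with h1 | h1 <;> rw [h1] at hkd <;> omega
    rw [hfilt2] at hfmem₁ hfmem₂
    rw [hfilt3] at hdmem
    simp only [Finset.mem_insert, Finset.mem_singleton] at hfmem₁ hfmem₂ hdmem
    generalize Cfsg.Agent.Helper24.irrDeg ψ₁ = f₁ at *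
    generalize Cfsg.Agent.Helper24.irrDeg ψ₂ = f₂ at *
    generalize a ψ₁ = a₁ at *
    generalize a ψ₂ = a₂ at *
    rcases hfmem₁ with h1 | h1 | h1
    · exact hf1₁ h1
    all_goals
      rcases hfmem₂ with h2 | h2 | h2
      · exact hf1₂ h2
      all_goals
        rcases hdmem with h3 | h3 | h3 <;> rcases ha₁ with h4 | h4 <;>
          rcases ha₂ with h5 | h5 <;> rcases hε with h6 | h6 <;>
          subst h1 h2 h3 h4 h5 h6 <;> omega

end Cfsg.Agent.S0979
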