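import Cfsg.Statements.S0983
import Cfsg.Agent.Helper18.CensusD
import Cfsg.Agent.Helper18.CensusE
import Cfsg.Agent.Helper18.CensusF
import Cfsg.Agent.Helper18.CensusG
import Cfsg.Agent.S0975
import Cfsg.Agent.S0976
import Cfsg.Agent.S0977
import Cfsg.Agent.S0978
import Cfsg.Agent.S0980
import Cfsg.Agent.Lead.S0983O4620
import Cfsg.Agent.Helper18.S0983O5460
import Cfsg.Agent.Helper18.S0983O5400

set_option autoImplicit false
open Cfsg

namespace Cfsg.Agent.S0983

open Cfsg.Agent.Helper18.Census in
/-- A non-abelian finite simple group of order greater than 3640 and at most 6232 has order 4080, 5616, 6048 or 6072. -/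
theorem result {G : Type*} [Group G] [Finite G] [IsSimpleGroup G] (hG : ¬ IsMulCommutative G) (h1 : 3640 < Nat.card G) (h2 : Nat.card G ≤ 6232) : Nat.card G = 4080 ∨ Nat.card G = 5616 ∨ Nat.card G = 6048 ∨ Nat.card G = 6072 := by
  rcases range_cases (Nat.card G) h1 h2 with h | h
  · exact absurd rfl (h G hG)
  · unfold hardList at h
    simp only [List.mem_cons, List.not_mem_nil, or_false] at h
    rcases h with h | h | h | h | h | h | h | h | h | h | h | h | h | h | h | h | h | h | h | h |
      h | h | h | h
    · exact absurd h (no3696 G hG)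
    · exact absurd h Cfsg.Agent.S0975.result
    · exact absurd h (no3780 G hG)
    · exact absurd h (no3960 G hG)
    · exact absurd h Cfsg.Agent.S0976.result
    · exact Or.inl h
    · exact absurd h (no4200 G hG)
    · exact absurd h Cfsg.Agent.S0977.result
    · exact absurd h (Cfsg.Agent.S0983P.no4620 G hG)
    · exact absurd h (no4680 G hG)
    · exact absurd h (no4725 G hG)
    · exact absurd h Cfsg.Agent.S0978.result
    · exact absurd h (no5148 G hG)
    · exact absurd h (Cfsg.Agent.S0983P.no5400 G hG)
    · exact absurd h (Cfsg.Agent.S0983P.no5460 G hG)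
    · exact absurd h (no5600 G hG)
    · exact Or.inr (Or.inl h)
    · exact absurd h Cfsg.Agent.S0980.result
    · exact absurd h (no5880 G hG)
    · exact absurd h (no5940 G hG)
    · exact absurd h (no6000 G hG)
    · exact Or.inr (Or.inr (Or.inl h))
    · exact Or.inr (Or.inr (Or.inr h))
    · exact absurd h (no6160 G hG)

end Cfsg.Agent.S0983
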