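import Cfsg.Statements.S0986
import Cfsg.Agent.Helper11.SylowInter

set_option autoImplicit false
open Cfsg

namespace Cfsg.Agent.S0986

open Cfsg.Agent.Helper11

theorem result {G : Type*} [Group G] [Finite G] (p : ℕ) [Fact p.Prime] (P Q : Sylow p G) (hPQ : P ≠ Q) (hmax : ∀ P' Q' : Sylow p G, P' ≠ Q' → Nat.card ↥((P' : Subgroup G) ⊓ (Q' : Subgroup G)) ≤ Nat.card ↥((P : Subgroup G) ⊓ (Q : Subgroup G))) : 1 < Nat.card (Sylow p ↥(Subgroup.normalizer (((P : Subgroup G) ⊓ (Q : Subgroup G) : Subgroup G) : Set G))) ∧ (∀ S T : Sylow p ↥(Subgroup.normalizer (((P : Subgroup G) ⊓ (Q : Subgroup G) : Subgroup G) : Set G)), S ≠ T → (S : Subgroup _) ⊓ (T : Subgroup _) = ((P : Subgroup G) ⊓ (Q : Subgroup G)).subgroupOf (Subgroup.normalizer (((P : Subgroup G) ⊓ (Q : Subgroup G) : Subgroup G) : Set G))) ∧ ∀ S : Sylow p ↥(Subgroup.normalizer (((P : Subgroup G) ⊓ (Q : Subgroup G) : Subgroup G) : Set G)), ∃! T : Sylow p G, (S : Subgroup _).map (Subgroup.normalizer (((P : Subgroup G) ⊓ (Q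 : Subgroup G) : Subgroup G) : Set G)).subtype ≤ (T : Subgroup G) := by
  classical
  set D : Subgroup G := (P : Subgroup G) ⊓ (Q : Subgroup G) with hD
  set N : Subgroup G := Subgroup.normalizer (D : Set G) with hN
  have hDN : D ≤ N := Subgroup.le_normalizer
  -- D < P and D < Q
  have hDP : D < (P : Subgroup G) := by
    refine lt_of_le_of_ne inf_le_left ?_
    intro h
    apply hPQ
    apply sylow_eq_of_le
    rw [← h]; exact inf_le_right
  have hDQ : D < (Q : Subgroup G) := by
    refine lt_of_le_of_ne inf_le_right ?_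
    intro h
    apply hPQ
    symm
    apply sylow_eq_of_le
    rw [← h]; exact inf_le_left
  have hPN : D < (P : Subgroup G) ⊓ N := lt_inf_normalizer _ _ P.2 hDP
  have hQN : D < (Q : Subgroup G) ⊓ N := lt_inf_normalizer _ _ Q.2 hDQ
  have hcardlt : ∀ {A : Subgroup G}, D < A → Nat.card ↥D < Nat.card ↥A := by
    intro A hA
    by_contra hcon
    push Not at hcon
    exact hA.ne (Subgroup.eq_of_le_of_card_ge hA.le hcon)
  -- the normal p-subgroup D of N
  have hDnormal : (D.subgroupOf N).Normal := Subgroup.normal_in_normalizer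
  have hDp : IsPGroup p ↥(D.subgroupOf N) := (P.2.to_le inf_le_left).comap_subtype
  have hDS : ∀ S : Sylow p ↥N, D.subgroupOf N ≤ (S : Subgroup ↥N) :=
    fun S => normal_pgroup_le_sylow S _ hDp
  have hcardD : Nat.card ↥(D.subgroupOf N) = Nat.card ↥D :=
    Nat.card_congr (Subgroup.subgroupOfEquivOfLe hDN).toEquiv
  -- p-subgroups of G inside N give p-subgroups of N
  have hsub : ∀ (A : Subgroup G), IsPGroup p ↥A → A ≤ N → ∀ S : Sylow p ↥N,
      Nat.card ↥A ≤ Nat.card ↥(S : Subgroup ↥N) := by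
    intro A hA hAN S
    have h1 : IsPGroup p ↥(A.subgroupOf N) := hA.comap_subtype
    have h2 := card_le_sylow S _ h1
    rwa [Nat.card_congr (Subgroup.subgroupOfEquivOfLe hAN).toEquiv] at h2
  have hSbig : ∀ S : Sylow p ↥N, Nat.card ↥D < Nat.card ↥(S : Subgroup ↥N) := by
    intro S
    exact lt_of_lt_of_le (hcardlt hPN) (hsub _ (P.2.to_le inf_le_left) inf_le_right S)
  have hmapcard : ∀ A : Subgroup ↥N, Nat.card ↥(A.map N.subtype) = Nat.card ↥A := by
    intro A
    exact Nat.card_congr (A.equivMapOfInjective N.subtype N.subtype_injective).toEquiv.symm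
  have hmapP : ∀ S : Sylow p ↥N, IsPGroup p ↥((S : Subgroup ↥N).map N.subtype) :=
    fun S => S.2.map _
  -- uniqueness of the Sylow subgroup of G above S
  have huniq : ∀ (S : Sylow p ↥N) (T₁ T₂ : Sylow p G),
      (S : Subgroup ↥N).map N.subtype ≤ (T₁ : Subgroup G) →
      (S : Subgroup ↥N).map N.subtype ≤ (T₂ : Subgroup G) → T₁ = T₂ := by
    intro S T₁ T₂ h1 h2
    by_contra hne
    have h3 : Nat.card ↥((S : Subgroup ↥N).map N.subtype) ≤ Nat.card ↥((T₁ : Subgroup G) ⊓ (T₂ : Subgroup G)) :=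
      Subgroup.card_le_of_le (le_inf h1 h2)
    have h4 := hmax T₁ T₂ hne
    have h5 := hSbig S
    rw [hmapcard] at h3
    omega
  refine ⟨?_, ?_, ?_⟩
  · -- more than one Sylow subgroup in N
    by_contra hcon
    push Not at hcon
    have hss : Subsingleton (Sylow p ↥N) := by
      have : Nat.card (Sylow p ↥N) ≠ 0 := Nat.card_pos.ne'
      exact (Nat.card_eq_one_iff_unique.mp (by omega)).1
    obtain ⟨SP, hSP⟩ := (show IsPGroup p ↥(((P : Subgroup G) ⊓ N).subgroupOf N) from
      (P.2.to_le inf_le_left).comap_subtype).exists_le_sylow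
    obtain ⟨SQ, hSQ⟩ := (show IsPGroup p ↥(((Q : Subgroup G) ⊓ N).subgroupOf N) from
      (Q.2.to_le inf_le_left).comap_subtype).exists_le_sylow
    have hSS : SQ = SP := Subsingleton.elim _ _
    rw [hSS] at hSQ
    obtain ⟨T, hT⟩ := (hmapP SP).exists_le_sylow
    have hPT : (P : Subgroup G) ⊓ N ≤ (T : Subgroup G) := by
      intro x hx
      apply hT
      exact ⟨⟨x, hx.2⟩, hSP (by rw [Subgroup.mem_subgroupOf]; exact hx), rfl⟩
    have hQT : (Q : Subgroup G) ⊓ N ≤ (T : Subgroup G) := by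
      intro x hx
      apply hT
      exact ⟨⟨x, hx.2⟩, hSQ (by rw [Subgroup.mem_subgroupOf]; exact hx), rfl⟩
    have hP_eq : P = T := by
      by_contra hne
      have h1 := hmax P T hne
      have h2 : Nat.card ↥((P : Subgroup G) ⊓ N) ≤ Nat.card ↥((P : Subgroup G) ⊓ (T : Subgroup G)) :=
        Subgroup.card_le_of_le (le_inf inf_le_left hPT)
      have h3 := hcardlt hPN
      omega
    have hQ_eq : Q = T := by
      by_contra hne
      have h1 := hmax Q T hne
      have h2 : Nat.card ↥((Q : Subgroup G) ⊓ N) ≤ Nat.card ↥((Q : Subgroup G) ⊓ (T : Subgroup G)) :=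
        Subgroup.card_le_of_le (le_inf inf_le_left hQT)
      have h3 := hcardlt hQN
      omega
    exact hPQ (hP_eq.trans hQ_eq.symm)
  · -- intersections of distinct Sylow subgroups of N
    intro S T hST
    obtain ⟨S', hS'⟩ := (hmapP S).exists_le_sylow
    obtain ⟨T', hT'⟩ := (hmapP T).exists_le_sylow
    have hne : S' ≠ T' := by
      intro heq
      rw [← heq] at hT'
      -- both S and T lie in the p-subgroup (S' ⊓ N).subgroupOf N
      have hB : IsPGroup p ↥(((S' : Subgroup G) ⊓ N).subgroupOf N) :=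
        (S'.2.to_le inf_le_left).comap_subtype
      have h1 : (S : Subgroup ↥N) ≤ ((S' : Subgroup G) ⊓ N).subgroupOf N := by
        intro x hx
        rw [Subgroup.mem_subgroupOf]
        exact ⟨hS' ⟨x, hx, rfl⟩, x.2⟩
      have h2 : (T : Subgroup ↥N) ≤ ((S' : Subgroup G) ⊓ N).subgroupOf N := by
        intro x hx
        rw [Subgroup.mem_subgroupOf]
        exact ⟨hT' ⟨x, hx, rfl⟩, x.2⟩
      have e1 := S.3 hB h1
      have e2 := T.3 hB h2
      exact hST (Sylow.ext (e1.symm.trans e2))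
    symm
    apply Subgroup.eq_of_le_of_card_ge (le_inf (hDS S) (hDS T))
    rw [hcardD]
    have h1 : ((S : Subgroup ↥N) ⊓ (T : Subgroup ↥N)).map N.subtype ≤ (S' : Subgroup G) ⊓ (T' : Subgroup G) := by
      apply le_inf
      · exact (Subgroup.map_mono inf_le_left).trans hS'
      · exact (Subgroup.map_mono inf_le_right).trans hT'
    have h2 := Subgroup.card_le_of_le h1
    rw [hmapcard] at h2
    exact h2.trans (hmax S' T' hne)
  · intro S
    obtain ⟨T, hT⟩ := (hmapP S).exists_le_sylow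
    exact ⟨T, hT, fun T' hT' => huniq S T' T hT' hT⟩

end Cfsg.Agent.S0986
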