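import Cfsg.Statements.S0987
import Cfsg.Agent.Helper11.SylowCount
import Cfsg.Agent.Helper11.Transfer

set_option autoImplicit false
open Cfsg

namespace Cfsg.Agent.S0987

open Cfsg.Agent.Helper11

theorem result {G : Type*} [Group G] [Finite G] (p q r : ℕ) (hp : p.Prime) (hq : q.Prime) [Fact r.Prime] (hpq : p < q) (hqr : q < r) (hG : Nat.card G = p * q * r) (R : Sylow r G) : (R : Subgroup G).Normal := by
  classical
  have hr : r.Prime := Fact.out
  have : Fact q.Prime := ⟨hq⟩
  have hrpq : ¬ r ∣ p * q := by
    intro h
    rcases (Nat.Prime.dvd_mul hr).mp h with h | h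
    · have := Nat.le_of_dvd hp.pos h; omega
    · have := Nat.le_of_dvd hq.pos h; omega
  obtain ⟨hRcard, hRidx⟩ := sylow_card_of_card_eq (p * q) hG hrpq R
  set n := Nat.card (Sylow r G) with hn
  have hndvd : n ∣ p * q := hRidx ▸ R.card_dvd_index
  have hnmod : n ≡ 1 [MOD r] := card_sylow_modEq_one r G
  have hcases := dvd_prime_mul_prime hp hq hndvd
  have hn1 : n = 1 ∨ n = p * q := by
    rcases hcases with h | h | h | h
    · left; exact h
    · exfalso
      rw [h] at hnmod
      unfold Nat.ModEq at hnmod
      rw [Nat.mod_eq_of_lt (by omega), Nat.mod_eq_of_lt hr.one_lt] at hnmod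
      have := hp.one_lt; omega
    · exfalso
      rw [h] at hnmod
      unfold Nat.ModEq at hnmod
      rw [Nat.mod_eq_of_lt (by omega), Nat.mod_eq_of_lt hr.one_lt] at hnmod
      have := hq.one_lt; omega
    · right; exact h
  rcases hn1 with h1 | hpq'
  · have : Subsingleton (Sylow r G) := (Nat.card_eq_one_iff_unique.mp h1).1
    exact R.normal_of_subsingleton
  · exfalso
    -- every Sylow r-subgroup has normalizer of order r
    have hNcard : ∀ R' : Sylow r G, Nat.card ↥(Subgroup.normalizer ((R' : Subgroup G) : Set G)) = r := by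
      intro R'
      have h2 := card_sylow_mul_card_normalizer R'
      rw [← hn, hpq', hG] at h2
      exact Nat.eq_of_mul_eq_mul_left (Nat.mul_pos hp.pos hq.pos) h2
    have hNR : Subgroup.normalizer ((R : Subgroup G) : Set G) = R :=
      (Subgroup.eq_of_le_of_card_ge Subgroup.le_normalizer (by rw [hNcard R, hRcard])).symm
    have hRcyc : IsCyclic ↥(R : Subgroup G) := isCyclic_of_prime_card hRcard
    have hNC : Subgroup.normalizer ((R : Subgroup G) : Set G) ≤ Subgroup.centralizer ((R : Subgroup G) : Set G) := by
      rw [hNR]; exact Subgroup.le_centralizer _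
    set K := (MonoidHom.transferSylow R hNC).ker with hK
    have hcompl := MonoidHom.ker_transferSylow_isComplement' R hNC
    have hKcard : Nat.card ↥K = p * q := by
      have h2 := hcompl.card_mul_card
      rw [hRcard, hG] at h2
      exact Nat.eq_of_mul_eq_mul_right hr.pos h2
    have hqp : ¬ q ∣ p := by
      intro h
      have := Nat.le_of_dvd hp.pos h; omega
    obtain ⟨Q⟩ : Nonempty (Sylow q ↥K) := inferInstance
    obtain ⟨hQcard, hQidx⟩ := sylow_card_of_card_eq p hKcard hqp Q
    have hQchar : (Q : Subgroup ↥K).Characteristic :=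
      sylow_characteristic_of_index_lt Q (by rw [hQidx]; exact hpq)
    have hKnormal : K.Normal := MonoidHom.normal_ker _
    set Q' : Subgroup G := (Q : Subgroup ↥K).map K.subtype with hQ'
    have hQ'normal : Q'.Normal := ConjAct.normal_of_characteristic_of_normal
    have hQ'card : Nat.card ↥Q' = q := by
      rw [← hQcard]
      exact Nat.card_congr ((Q : Subgroup ↥K).equivMapOfInjective K.subtype K.subtype_injective).toEquiv.symm
    have hQ'cyc : IsCyclic ↥Q' := isCyclic_of_prime_card hQ'card
    -- the centralizer of Q' has index dividing q - 1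
    set C := Subgroup.centralizer (Q' : Set G) with hC
    have hCidx : C.index ∣ q - 1 := by
      have h2 := relIndex_centralizer_normalizer_dvd_card_mulAut Q'
      rw [Subgroup.normalizer_eq_top, Subgroup.relIndex_top_right, IsCyclic.card_mulAut, hQ'card,
        Nat.totient_prime hq] at h2
      exact h2
    have hCpos : 0 < C.index := Nat.pos_of_ne_zero Subgroup.index_ne_zero_of_finite
    have hrC : r ∣ Nat.card ↥C := by
      have h2 := C.index_mul_card
      rw [hG] at h2
      have h3 : r ∣ C.index * Nat.card ↥C := by rw [h2]; exact dvd_mul_left r (p * q)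
      rcases (Nat.Prime.dvd_mul hr).mp h3 with h | h
      · exfalso
        have h4 := Nat.le_of_dvd hCpos h
        have h5 := Nat.le_of_dvd (by have := hq.one_lt; omega) hCidx
        omega
      · exact h
    obtain ⟨x, hx⟩ := exists_prime_orderOf_dvd_card' (G := ↥C) r hrC
    -- the subgroup generated by x is a Sylow r-subgroup
    have hxo : orderOf (x : G) = r := by rw [← hx]; exact Subgroup.orderOf_coe x
    have hZcard : Nat.card ↥(Subgroup.zpowers (x : G)) = r := by rw [Nat.card_zpowers, hxo]
    set R₁ : Sylow r G := sylowOfCardPrime (p * q) hG hrpq _ hZcard with hR₁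
    have hQN : Q' ≤ Subgroup.normalizer ((R₁ : Subgroup G) : Set G) := by
      refine le_trans ?_ (Subgroup.centralizer_le_normalizer _)
      intro y hy
      rw [Subgroup.mem_centralizer_iff]
      intro z hz
      have hz' : z ∈ Subgroup.zpowers (x : G) := hz
      obtain ⟨k, rfl⟩ := Subgroup.mem_zpowers_iff.mp hz'
      have hxy : (x : G) * y = y * (x : G) := by
        have h7 : (x : G) ∈ Subgroup.centralizer (Q' : Set G) := x.2
        rw [Subgroup.mem_centralizer_iff] at h7
        exact (h7 y hy).symm
      exact ((Commute.zpow_left (show Commute (x : G) y from hxy) k)).eq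
    have h6 : q ∣ r := by
      have := Subgroup.card_dvd_of_le hQN
      rwa [hQ'card, hNcard R₁] at this
    have := (Nat.prime_dvd_prime_iff_eq hq hr).mp h6
    omega

end Cfsg.Agent.S0987
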