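import Cfsg.Statements.S0988
-- import your own Cfsg.Agent.* helpers here
import Mathlib
import Cfsg.Agent.Helper11.P2QR
import Cfsg.Agent.Helper11.PermSylow

set_option autoImplicit false
open Cfsg

namespace Cfsg.Agent.S0988

open Cfsg.Agent.Helper11

theorem prime_dvd_cases {p q r t : ℕ} (hp : p.Prime) (hq : q.Prime) (hr : r.Prime) (ht : t.Prime)
    (h : t ∣ p ^ 2 * q * r) : t = p ∨ t = q ∨ t = r := by
  rcases (Nat.Prime.dvd_mul ht).1 h with h1 | h1
  · rcases (Nat.Prime.dvd_mul ht).1 h1 with h2 | h2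
    · left; exact (Nat.prime_dvd_prime_iff_eq ht hp).1 (ht.dvd_of_dvd_pow h2)
    · right; left; exact (Nat.prime_dvd_prime_iff_eq ht hq).1 h2
  · right; right; exact (Nat.prime_dvd_prime_iff_eq ht hr).1 h1

theorem dvd_sub_one_of_mod_eq_one {n b : ℕ} (h : n % b = 1) : b ∣ n - 1 := by
  have := Nat.mod_add_div n b
  rw [h] at this
  exact ⟨n / b, by omega⟩

/-- No non-abelian simple group has order `a² b²`. -/
theorem no_simple_sq_sq {G : Type*} [Group G] [Finite G] [IsSimpleGroup G]
    (hnc : ¬ IsMulCommutative G) {a b : ℕ} (ha : a.Prime) (hb : b.Prime) (hab : a < b)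
    (hG : Nat.card G = a ^ 2 * b ^ 2) : False := by
  have : Fact b.Prime := ⟨hb⟩
  have hba : ¬ b ∣ a ^ 2 := fun h => by
    have := (Nat.prime_dvd_prime_iff_eq hb ha).1 (hb.dvd_of_dvd_pow h)
    omega
  have hmem := card_sylow_mem_filter (a ^ 2) 2 hG hba
  rw [Finset.mem_filter, Nat.mem_divisors] at hmem
  obtain ⟨⟨hdvd, _⟩, hmod⟩ := hmem
  obtain ⟨i, hi, hni⟩ := (Nat.dvd_prime_pow ha).1 hdvd
  have hbG : b ∣ Nat.card G := by
    rw [hG]; exact dvd_mul_of_dvd_right (dvd_pow_self b two_ne_zero) _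
  have hne1 := simple_card_sylow_ne_one hnc b hbG
  interval_cases i
  · rw [pow_zero] at hni; exact hne1 hni
  · rw [hni, pow_one, Nat.mod_eq_of_lt hab] at hmod
    exact ha.one_lt.ne' hmod
  · rw [hni] at hmod
    have h1 : b ∣ a ^ 2 - 1 := dvd_sub_one_of_mod_eq_one hmod
    obtain ⟨rfl, rfl⟩ := prime_dvd_sq_sub_one ha hb hab h1
    have h2 := simple_two_mul_card_dvd_factorial_card_sylow hnc 3 hbG
    rw [hni, hG] at h2
    norm_num [Nat.factorial] at h2

/-- No non-abelian simple group has order `p³ r` with `p < r`. -/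
theorem no_simple_cube_mul {G : Type*} [Group G] [Finite G] [IsSimpleGroup G]
    (hnc : ¬ IsMulCommutative G) {p r : ℕ} (hp : p.Prime) (hr : r.Prime) (hpr : p < r)
    (hG : Nat.card G = p ^ 3 * r) : False := by
  have : Fact r.Prime := ⟨hr⟩
  have : Fact p.Prime := ⟨hp⟩
  have hrp : ¬ r ∣ p ^ 3 := fun h => by
    have := (Nat.prime_dvd_prime_iff_eq hr hp).1 (hr.dvd_of_dvd_pow h)
    omega
  obtain ⟨R⟩ : Nonempty (Sylow r G) := inferInstance
  have hR : Nat.card ↥(R : Subgroup G) = r := (sylow_card_of_card_eq (p ^ 3) hG hrp R).1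
  obtain ⟨t, ht1, _, ht3⟩ := simple_card_sylow_mul_dvd hnc r R hR
  rw [hG] at ht3
  have h1 : Nat.card (Sylow r G) * t ∣ p ^ 3 := by
    have : Nat.card (Sylow r G) * (t * r) = Nat.card (Sylow r G) * t * r := by ring
    rw [this] at ht3
    exact Nat.dvd_of_mul_dvd_mul_right hr.pos ht3
  have hrG : r ∣ Nat.card G := by rw [hG]; exact dvd_mul_left r _
  have hne1 := simple_card_sylow_ne_one hnc r hrG
  have hmod : Nat.card (Sylow r G) % r = 1 := by
    have := card_sylow_modEq_one r G
    unfold Nat.ModEq at this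
    rw [this, Nat.mod_eq_of_lt hr.one_lt]
  obtain ⟨i, hi, hni⟩ := (Nat.dvd_prime_pow hp).1 (Dvd.dvd.trans (dvd_mul_right _ _) h1)
  interval_cases i
  · rw [pow_zero] at hni; exact hne1 hni
  · rw [hni, pow_one, Nat.mod_eq_of_lt hpr] at hmod
    exact hp.one_lt.ne' hmod
  · rw [hni] at hmod
    have h2 : r ∣ p ^ 2 - 1 := dvd_sub_one_of_mod_eq_one hmod
    obtain ⟨rfl, rfl⟩ := prime_dvd_sq_sub_one hp hr hpr h2
    -- |G| = 24
    have hG' : Nat.card G = 3 * 2 ^ 3 := by rw [hG]; norm_num
    have hmem := card_sylow_mem_filter 3 3 hG' (by norm_num)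
    have hfilt : (Nat.divisors 3).filter (fun d => d % 2 = 1) = {1, 3} := by decide
    rw [hfilt] at hmem
    have h2G : 2 ∣ Nat.card G := by rw [hG']; norm_num
    have hne2 := simple_card_sylow_ne_one hnc 2 h2G
    have h3 := simple_two_mul_card_dvd_factorial_card_sylow hnc 2 h2G
    simp only [Finset.mem_insert, Finset.mem_singleton] at hmem
    rcases hmem with h | h
    · exact hne2 h
    · rw [h, hG'] at h3
      norm_num [Nat.factorial] at h3
  · rw [hni] at h1
    have : t ∣ 1 := by
      have h3 : p ^ 3 * t ∣ p ^ 3 * 1 := by rwa [mul_one]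
      exact Nat.dvd_of_mul_dvd_mul_left (pow_pos hp.pos 3) h3
    exact ht1 (Nat.dvd_one.1 this)

/-- The main case: `p < q < r`. -/
theorem main_case {G : Type*} [Group G] [Finite G] [IsSimpleGroup G]
    (hnc : ¬ IsMulCommutative G) {p q r : ℕ} (hp : p.Prime) (hq : q.Prime) (hr : r.Prime)
    (hpq : p < q) (hqr : q < r) (hG : Nat.card G = p ^ 2 * q * r) : Nat.card G = 60 := by
  have : Fact r.Prime := ⟨hr⟩
  have : Fact p.Prime := ⟨hp⟩
  have hpqr : ¬ p ∣ q * r := by
    intro h
    rcases hp.dvd_mul.1 h with h1 | h1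
    · have := (Nat.prime_dvd_prime_iff_eq hp hq).1 h1; omega
    · have := (Nat.prime_dvd_prime_iff_eq hp hr).1 h1; omega
  obtain ⟨P⟩ : Nonempty (Sylow p G) := inferInstance
  have hG2 : Nat.card G = q * r * p ^ 2 := by rw [hG]; ring
  have hP : Nat.card ↥(P : Subgroup G) = p ^ 2 := (sylow_card_of_card_eq_pow (q * r) 2 hG2 hpqr P).1
  have hcomm : IsMulCommutative ↥(P : Subgroup G) := IsPGroup.isMulCommutative_of_card_eq_prime_sq hP
  set C : Subgroup G := Subgroup.centralizer ((P : Subgroup G) : Set G) with hC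
  set N : Subgroup G := Subgroup.normalizer ((P : Subgroup G) : Set G) with hN
  have hPC : (P : Subgroup G) ≤ C := by
    intro x hx
    rw [hC, Subgroup.mem_centralizer_iff]
    intro y hy
    have := hcomm.is_comm.comm ⟨y, hy⟩ ⟨x, hx⟩
    exact congrArg Subtype.val this
  have hCN : C ≤ N := Subgroup.centralizer_le_normalizer _
  have hpG : p ∣ Nat.card G := by rw [hG2]; exact dvd_mul_of_dvd_right (dvd_pow_self p two_ne_zero) _
  have hNC : ¬ N ≤ C := simple_not_normalizer_le_centralizer hnc p P hpG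
  set k := C.relIndex N with hk
  have hk1 : k ≠ 1 := by
    intro h
    exact hNC (Subgroup.relIndex_eq_one.1 h)
  have hkqr : k ∣ q * r := by
    have h1 : k * Nat.card ↥C = Nat.card ↥N := relIndex_mul_card hCN
    have h2 : Nat.card ↥(P : Subgroup G) ∣ Nat.card ↥C := Subgroup.card_dvd_of_le hPC
    have h3 : Nat.card ↥N ∣ Nat.card G := Subgroup.card_subgroup_dvd_card N
    rw [hP] at h2
    have h4 : k * p ^ 2 ∣ q * r * p ^ 2 := by
      rw [← hG2]
      refine dvd_trans ?_ h3
      rw [← h1]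
      exact Nat.mul_dvd_mul_left k h2
    exact Nat.dvd_of_mul_dvd_mul_right (pow_pos hp.pos 2) h4
  have hl : k.minFac.Prime := Nat.minFac_prime hk1
  have hlk : k.minFac ∣ k := Nat.minFac_dvd k
  set l := k.minFac with hldef
  have : Fact l.Prime := ⟨hl⟩
  have hlqr : l = q ∨ l = r := by
    rcases hl.dvd_mul.1 (hlk.trans hkqr) with h1 | h1
    · left; exact (Nat.prime_dvd_prime_iff_eq hl hq).1 h1
    · right; exact (Nat.prime_dvd_prime_iff_eq hl hr).1 h1
  have hpl : p < l := by rcases hlqr with h | h <;> omega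
  have hlaut : l ∣ Nat.card (MulAut ↥(P : Subgroup G)) :=
    hlk.trans (relIndex_centralizer_normalizer_dvd_card_mulAut (P : Subgroup G))
  have hp2l3 : p = 2 ∧ l = 3 := by
    rcases prime_dvd_card_mulAut_sq hP hlaut with h | h
    · exact prime_dvd_sq_sub_one hp hl hpl h
    · exfalso
      have h5 : p ^ 2 - p = p * (p - 1) := by
        rw [Nat.mul_sub, mul_one, pow_two]
      rw [h5] at h
      rcases hl.dvd_mul.1 h with h1 | h1
      · have := (Nat.prime_dvd_prime_iff_eq hl hp).1 h1; omega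
      · exact prime_not_dvd_pred hp hpl h1
  obtain ⟨rfl, hl3⟩ := hp2l3
  have hq3 : q = 3 := by
    rcases hlqr with h | h
    · omega
    · omega
  subst hq3
  -- |G| = 12 r with r > 3
  have hG3 : Nat.card G = 12 * r := by rw [hG]; norm_num
  have hr12 : ¬ r ∣ 12 := by
    intro h
    have h12 : (12 : ℕ) = 2 ^ 2 * 3 := by norm_num
    rw [h12] at h
    rcases hr.dvd_mul.1 h with h1 | h1
    · have := (Nat.prime_dvd_prime_iff_eq hr Nat.prime_two).1 (hr.dvd_of_dvd_pow h1); omega
    · have := (Nat.prime_dvd_prime_iff_eq hr Nat.prime_three).1 h1; omega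
  obtain ⟨R⟩ : Nonempty (Sylow r G) := inferInstance
  have hR : Nat.card ↥(R : Subgroup G) = r := (sylow_card_of_card_eq 12 hG3 hr12 R).1
  obtain ⟨t, ht1, _, ht3⟩ := simple_card_sylow_mul_dvd hnc r R hR
  rw [hG3] at ht3
  have h1 : Nat.card (Sylow r G) * t ∣ 12 := by
    have : Nat.card (Sylow r G) * (t * r) = Nat.card (Sylow r G) * t * r := by ring
    rw [this] at ht3
    exact Nat.dvd_of_mul_dvd_mul_right hr.pos ht3
  have hrG : r ∣ Nat.card G := by rw [hG3]; exact dvd_mul_left r _
  have hne1 := simple_card_sylow_ne_one hnc r hrG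
  have hmod : Nat.card (Sylow r G) % r = 1 := by
    have := card_sylow_modEq_one r G
    unfold Nat.ModEq at this
    rw [this, Nat.mod_eq_of_lt hr.one_lt]
  have hrdvd : r ∣ Nat.card (Sylow r G) - 1 := dvd_sub_one_of_mod_eq_one hmod
  have hnpos : 0 < Nat.card (Sylow r G) := Nat.card_pos
  have hge : r + 1 ≤ Nat.card (Sylow r G) := by
    have h2 : 0 < Nat.card (Sylow r G) - 1 := by omega
    have := Nat.le_of_dvd h2 hrdvd
    omega
  have hle : Nat.card (Sylow r G) * t ≤ 12 := Nat.le_of_dvd (by norm_num) h1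
  have ht0 : t ≠ 0 := by
    rintro rfl
    rw [mul_zero] at h1
    norm_num at h1
  have ht2 : 2 ≤ t := by omega
  have hn6 : Nat.card (Sylow r G) ≤ 6 := by nlinarith
  have hr5 : r = 5 := by
    have h4 : r ≤ 5 := by omega
    interval_cases r
    · exact absurd hr (by norm_num)
    · rfl
  rw [hG3, hr5]

/-- If a finite simple group has order p^2 * q * r with p, q and r prime, then its order is 60. -/
theorem result {G : Type*} [Group G] [Finite G] [IsSimpleGroup G] (p q r : ℕ) (hp : p.Prime) (hq : q.Prime) (hr : r.Prime) (hG : Nat.card G = p ^ 2 * q * r) : Nat.card G = 60 := by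
  have hnotprime : ¬ (Nat.card G).Prime := by
    rw [hG]
    have h1 : p ^ 2 * q * r = p * (p * q * r) := by ring
    rw [h1]
    apply Nat.not_prime_mul hp.one_lt.ne'
    have h2 : 1 < p * q * r := by
      have := hp.one_lt
      have := hq.one_lt
      have := hr.one_lt
      have h3 : 1 < p * q := by nlinarith
      nlinarith
    omega
  have hnc : ¬ IsMulCommutative G := simple_noncomm_of_card hnotprime
  have : Fact p.Prime := ⟨hp⟩
  -- symmetric in `q`, `r`
  have key : ∀ q r : ℕ, q.Prime → r.Prime → q ≤ r → Nat.card G = p ^ 2 * q * r → Nat.card G = 60 := by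
    intro q r hq hr hqr hG
    rcases lt_trichotomy p q with hpq | hpq | hpq
    · rcases hqr.lt_or_eq with hqr' | hqr'
      · exact main_case hnc hp hq hr hpq hqr' hG
      · subst hqr'
        exact (no_simple_sq_sq hnc hp hq hpq (by rw [hG]; ring)).elim
    · subst hpq
      rcases hqr.lt_or_eq with hqr' | hqr'
      · exact (no_simple_cube_mul hnc hp hr hqr' (by rw [hG]; ring)).elim
      · subst hqr'
        exact (simple_not_pgroup hnc p (IsPGroup.of_card (n := 4) (by rw [hG]; ring))).elim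
    · rcases hqr.lt_or_eq with hqr' | hqr'
      · exfalso
        have : Fact q.Prime := ⟨hq⟩
        have hqm : ¬ q ∣ p ^ 2 * r := by
          intro h
          rcases hq.dvd_mul.1 h with h1 | h1
          · have := (Nat.prime_dvd_prime_iff_eq hq hp).1 (hq.dvd_of_dvd_pow h1); omega
          · have := (Nat.prime_dvd_prime_iff_eq hq hr).1 h1; omega
        obtain ⟨Q⟩ : Nonempty (Sylow q G) := inferInstance
        have hQ : Nat.card ↥(Q : Subgroup G) = q :=
          (sylow_card_of_card_eq (p ^ 2 * r) (by rw [hG]; ring) hqm Q).1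
        obtain ⟨t, ht, htG, htq⟩ := simple_exists_prime_lt hnc q Q hQ
        rw [hG] at htG
        rcases prime_dvd_cases hp hq hr ht htG with h | h | h <;> omega
      · subst hqr'
        exact (no_simple_sq_sq hnc hq hp hpq (by rw [hG]; ring)).elim
  rcases le_total q r with h | h
  · exact key q r hq hr h hG
  · exact key r q hr hq h (by rw [hG]; ring)

end Cfsg.Agent.S0988
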