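import Cfsg.Statements.S0990
import Cfsg.Agent.Helper11.PermSylow

set_option autoImplicit false
open Cfsg

namespace Cfsg.Agent.S0990

open Cfsg.Agent.Helper11

/-- A `p`-subgroup of `Perm α` with `p` odd lies in the alternating group. -/
theorem pgroup_le_alternating {α : Type*} [Fintype α] [DecidableEq α] (p : ℕ) [Fact p.Prime] (hp : p ≠ 2)
    (P : Subgroup (Equiv.Perm α)) (hP : IsPGroup p ↥P) : P ≤ alternatingGroup α := by
  intro σ hσ
  rw [Equiv.Perm.mem_alternatingGroup]
  obtain ⟨k, hk⟩ := hP ⟨σ, hσ⟩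
  have hk' : σ ^ (p ^ k) = 1 := congrArg Subtype.val hk
  have h1 : (Equiv.Perm.sign σ) ^ (p ^ k) = 1 := by rw [← map_pow, hk', map_one]
  rcases Int.units_eq_one_or (Equiv.Perm.sign σ) with h | h
  · exact h
  · exfalso
    rw [h] at h1
    have hodd : Odd (p ^ k) := ((Fact.out : p.Prime).odd_of_ne_two hp).pow
    rw [hodd.neg_one_pow] at h1
    exact absurd h1 (by decide)

theorem result {α : Type*} [Fintype α] [DecidableEq α] (hα : 2 ≤ Fintype.card α) (p : ℕ) [Fact p.Prime] (hp : p ≠ 2) (P : Sylow p (Equiv.Perm α)) : (P : Subgroup (Equiv.Perm α)) ≤ alternatingGroup α ∧ 2 * Nat.card ↥(Subgroup.normalizer ((((P : Subgroup (Equiv.Perm α)).subgroupOf (alternatingGroup α) : Subgroup ↥(alternatingGroup α)) : Set ↥(alternatingGroup α)))) = Nat.card ↥(Subgroup.normalizer ((P : Subgroup (Equiv.Perm α)) : Set (Equiv.Perm α))) := by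
  classical
  have hPA := pgroup_le_alternating p hp (P : Subgroup (Equiv.Perm α)) P.2
  refine ⟨hPA, ?_⟩
  have : Nontrivial α := Fintype.one_lt_card_iff_nontrivial.mp (by omega)
  set A := alternatingGroup α with hA
  set N := Subgroup.normalizer ((P : Subgroup (Equiv.Perm α)) : Set (Equiv.Perm α)) with hN
  rw [← Subgroup.subgroupOf_normalizer_eq hPA]
  have hfrat : N ⊔ A = ⊤ := Sylow.normalizer_sup_eq_top' P hPA
  have h1 : A.relIndex N = 2 := by
    have := Subgroup.relIndex_sup_right (H := N) (K := A)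
    rw [hfrat, Subgroup.relIndex_top_right, alternatingGroup.index_eq_two] at this
    exact this.symm
  have h2 : (A ⊓ N).relIndex N = 2 := by rw [Subgroup.inf_relIndex_right, h1]
  have h3 := relIndex_mul_card (inf_le_right : A ⊓ N ≤ N)
  rw [h2] at h3
  rw [← h3]
  congr 1
  rw [← Subgroup.inf_subgroupOf_right]
  have h4 : N ⊓ A ≤ A := inf_le_right
  rw [Nat.card_congr (Subgroup.subgroupOfEquivOfLe h4).toEquiv, inf_comm]

end Cfsg.Agent.S0990
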