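import Cfsg.Statements.S0994
import Cfsg.Agent.Helper11.NoSimple

set_option autoImplicit false
open Cfsg

namespace Cfsg.Agent.S0994

open Cfsg.Agent.Helper11

theorem result {G : Type*} [Group G] [Finite G] [IsSimpleGroup G] : Nat.card G ≠ 1188 := by
  intro hcard
  have hG : ¬ IsMulCommutative G := simple_noncomm_of_card (by rw [hcard]; norm_num)
  haveI : Fact (Nat.Prime 11) := ⟨by norm_num⟩
  have hG' : Nat.card G = 108 * 11 ^ 1 := by rw [hcard]; norm_num
  have hm : ¬ 11 ∣ 108 := by norm_num
  have hn := card_sylow_mem_filter 108 1 hG' hm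
  have hfilter : (Nat.divisors 108).filter (fun d => d % 11 = 1) = {1, 12} := by decide
  rw [hfilter] at hn
  simp only [Finset.mem_insert, Finset.mem_singleton] at hn
  have hdvd : 11 ∣ Nat.card G := by rw [hcard]; norm_num
  rcases hn with h | h
  · exact simple_card_sylow_ne_one hG 11 hdvd h
  · obtain ⟨P⟩ : Nonempty (Sylow 11 G) := inferInstance
    obtain ⟨hPcard, -⟩ := sylow_card_of_card_eq_pow 108 1 hG' hm P
    rw [pow_one] at hPcard
    obtain ⟨r, hr1, hr2, hr3⟩ := simple_automizer_prime hG 11 P hPcard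
    have hN := card_sylow_mul_card_normalizer P
    rw [h, hcard] at hN
    have hN' : Nat.card ↥(Subgroup.normalizer ((P : Subgroup G) : Set G)) = 99 := by omega
    rw [hN'] at hr3
    have h9 : r ∣ 9 := by
      have : r * 11 ∣ 9 * 11 := hr3
      exact Nat.dvd_of_mul_dvd_mul_right (by norm_num) this
    have h10 : r ∣ 10 := hr2
    have : r ∣ 1 := by
      have := Nat.dvd_gcd h9 h10
      simpa using this
    exact hr1 (Nat.dvd_one.mp this)

end Cfsg.Agent.S0994
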