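import Cfsg.Statements.S1002
import Cfsg.Agent.Helper11.NoSimple
import Cfsg.Agent.Helper11.SylowCount
import Cfsg.Agent.Helper11.OrderP
import Cfsg.Agent.Helper21.SylFix

set_option autoImplicit false
open Cfsg

namespace Cfsg.Agent.S1002

open Cfsg.Agent.Helper11

theorem arith409 (n : ℕ) (h1 : n ∣ 2457) (h2 : n % 409 = 1) : n = 1 ∨ n = 819 := by
  have hle : n ≤ 2457 := Nat.le_of_dvd (by norm_num) h1
  obtain ⟨k, hk⟩ : ∃ k, n = 409 * k + 1 := ⟨n / 409, by omega⟩
  have hk6 : k ≤ 6 := by omega
  subst hk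
  interval_cases k <;> omega

theorem divisors189 : Nat.divisors 189 = {1, 3, 7, 9, 21, 27, 63, 189} := by decide

theorem divisors351 : Nat.divisors 351 = {1, 3, 9, 13, 27, 39, 117, 351} := by decide

theorem arith13 (n : ℕ) (h1 : n ∣ 77301) (h2 : n % 13 = 1) : n = 1 ∨ n = 27 ∨ n = 25767 := by
  have h3 : n ∣ 189 * 409 := by norm_num; exact h1
  obtain ⟨a, b, ha, hb, rfl⟩ := (Nat.dvd_mul).1 h3
  have ha' : a ∈ Nat.divisors 189 := Nat.mem_divisors.2 ⟨ha, by norm_num⟩
  rw [divisors189] at ha'
  simp only [Finset.mem_insert, Finset.mem_singleton] at ha'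
  have hb' : b = 1 ∨ b = 409 := (Nat.dvd_prime (by norm_num)).1 hb
  rcases ha' with rfl | rfl | rfl | rfl | rfl | rfl | rfl | rfl <;> rcases hb' with rfl | rfl <;> omega

theorem arith7 (n : ℕ) (h1 : n ∣ 143559) (h2 : n % 7 = 1) : n = 1 ∨ n = 351 ∨ n = 47853 := by
  have h3 : n ∣ 351 * 409 := by norm_num; exact h1
  obtain ⟨a, b, ha, hb, rfl⟩ := (Nat.dvd_mul).1 h3
  have ha' : a ∈ Nat.divisors 351 := Nat.mem_divisors.2 ⟨ha, by norm_num⟩
  rw [divisors351] at ha'
  simp only [Finset.mem_insert, Finset.mem_singleton] at ha'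
  have hb' : b = 1 ∨ b = 409 := (Nat.dvd_prime (by norm_num)).1 hb
  rcases ha' with rfl | rfl | rfl | rfl | rfl | rfl | rfl | rfl <;> rcases hb' with rfl | rfl <;> omega

theorem divisors1227 (n : ℕ) (h : n ∣ 1227) : n = 1 ∨ n = 3 ∨ n = 409 ∨ n = 1227 := by
  have h3 : n ∣ 3 * 409 := by norm_num; exact h
  obtain ⟨a, b, ha, hb, rfl⟩ := (Nat.dvd_mul).1 h3
  have ha' : a = 1 ∨ a = 3 := (Nat.dvd_prime (by norm_num)).1 ha
  have hb' : b = 1 ∨ b = 409 := (Nat.dvd_prime (by norm_num)).1 hb
  rcases ha' with rfl | rfl <;> rcases hb' with rfl | rfl <;> omega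

section main

variable {G : Type*} [Group G] [Finite G] [IsSimpleGroup G]

theorem noncomm (hcard : Nat.card G = 1004913) : ¬ IsMulCommutative G :=
  simple_noncomm_of_card (by rw [hcard]; norm_num)

theorem card_sylow409 (hcard : Nat.card G = 1004913) [Fact (Nat.Prime 409)] :
    Nat.card (Sylow 409 G) = 819 := by
  have hG := noncomm hcard
  have hG409 : Nat.card G = 2457 * 409 ^ 1 := by rw [hcard]; norm_num
  have hm409 : ¬ 409 ∣ 2457 := by norm_num
  have hn := card_sylow_mem_filter 2457 1 hG409 hm409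
  rw [Finset.mem_filter, Nat.mem_divisors] at hn
  rcases arith409 _ hn.1.1 hn.2 with h | h
  · exact absurd h (simple_card_sylow_ne_one hG 409 (by rw [hcard]; norm_num))
  · exact h

theorem card_sylow13 (hcard : Nat.card G = 1004913) [Fact (Nat.Prime 13)] :
    Nat.card (Sylow 13 G) = 25767 := by
  have hG := noncomm hcard
  have hG13 : Nat.card G = 77301 * 13 ^ 1 := by rw [hcard]; norm_num
  have hm13 : ¬ 13 ∣ 77301 := by norm_num
  have hn := card_sylow_mem_filter 77301 1 hG13 hm13
  rw [Finset.mem_filter, Nat.mem_divisors] at hn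
  have hdvd : 13 ∣ Nat.card G := by rw [hcard]; norm_num
  rcases arith13 _ hn.1.1 hn.2 with h | h | h
  · exact absurd h (simple_card_sylow_ne_one hG 13 hdvd)
  · exfalso
    have h1 := simple_two_mul_card_dvd_factorial_card_sylow hG 13 hdvd
    rw [h, hcard] at h1
    have h2 : 409 ∣ Nat.factorial 27 := Dvd.dvd.trans (by norm_num) h1
    have h3 := (Nat.Prime.dvd_factorial (by norm_num : Nat.Prime 409)).1 h2
    omega
  · exact h

theorem card_sylow7 (hcard : Nat.card G = 1004913) [Fact (Nat.Prime 7)] :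
    Nat.card (Sylow 7 G) = 47853 := by
  have hG := noncomm hcard
  have hG7 : Nat.card G = 143559 * 7 ^ 1 := by rw [hcard]; norm_num
  have hm7 : ¬ 7 ∣ 143559 := by norm_num
  have hn := card_sylow_mem_filter 143559 1 hG7 hm7
  rw [Finset.mem_filter, Nat.mem_divisors] at hn
  have hdvd : 7 ∣ Nat.card G := by rw [hcard]; norm_num
  rcases arith7 _ hn.1.1 hn.2 with h | h | h
  · exact absurd h (simple_card_sylow_ne_one hG 7 hdvd)
  · exfalso
    have h1 := simple_two_mul_card_dvd_factorial_card_sylow hG 7 hdvd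
    rw [h, hcard] at h1
    have h2 : 409 ∣ Nat.factorial 351 := Dvd.dvd.trans (by norm_num) h1
    have h3 := (Nat.Prime.dvd_factorial (by norm_num : Nat.Prime 409)).1 h2
    omega
  · exact h

/-- Order of a Sylow 409-subgroup and of its normalizer. -/
theorem card_P_N (hcard : Nat.card G = 1004913) [Fact (Nat.Prime 409)] (P : Sylow 409 G) :
    Nat.card ↥(P : Subgroup G) = 409 ∧
    Nat.card ↥(Subgroup.normalizer ((P : Subgroup G) : Set G)) = 1227 := by
  have hG409 : Nat.card G = 2457 * 409 ^ 1 := by rw [hcard]; norm_num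
  have hm409 : ¬ 409 ∣ 2457 := by norm_num
  obtain ⟨hP, -⟩ := sylow_card_of_card_eq_pow 2457 1 hG409 hm409 P
  rw [pow_one] at hP
  refine ⟨hP, ?_⟩
  have h2 := card_sylow_mul_card_normalizer P
  rw [card_sylow409 hcard, hcard] at h2
  omega

/-- Sylow 409-subgroups are self-centralizing. -/
theorem selfCent (hcard : Nat.card G = 1004913) [Fact (Nat.Prime 409)] (P : Sylow 409 G)
    (g : G) (hg : ∀ u ∈ (P : Subgroup G), g * u = u * g) : g ∈ (P : Subgroup G) := by
  have hG := noncomm hcard
  obtain ⟨hP, hN⟩ := card_P_N hcard P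
  set N := Subgroup.normalizer ((P : Subgroup G) : Set G) with hNdef
  set C := Subgroup.centralizer ((P : Subgroup G) : Set G) with hCdef
  have hCN : C ≤ N := Subgroup.centralizer_le_normalizer _
  have hcyc : IsCyclic ↥(P : Subgroup G) := isCyclic_of_prime_card hP
  have hPC : (P : Subgroup G) ≤ C := Subgroup.le_centralizer _
  have h1 : Nat.card ↥C ∣ 1227 := by rw [← hN]; exact Subgroup.card_dvd_of_le hCN
  have h2 : 409 ∣ Nat.card ↥C := by rw [← hP]; exact Subgroup.card_dvd_of_le hPC
  have hdvd : 409 ∣ Nat.card G := by rw [hcard]; norm_num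
  have h3 : Nat.card ↥C = 409 := by
    rcases divisors1227 _ h1 with h | h | h | h
    · rw [h] at h2; omega
    · rw [h] at h2; omega
    · exact h
    · exfalso
      apply simple_not_normalizer_le_centralizer hG 409 P hdvd
      have : C = N := Subgroup.eq_of_le_of_card_ge hCN (by rw [h, hN])
      rw [← hNdef, ← hCdef, this]
  have h4 : (P : Subgroup G) = C := Subgroup.eq_of_le_of_card_ge hPC (by rw [h3, hP])
  rw [h4, hCdef, Subgroup.mem_centralizer_iff]
  intro u hu
  exact (hg u hu).symm

omit [Finite G] [IsSimpleGroup G] in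
/-- An element of order 409 normalizing a Sylow 409-subgroup lies in it. -/
theorem mem_of_orderOf [Fact (Nat.Prime 409)] (P : Sylow 409 G) (g : G)
    (hgN : g ∈ Subgroup.normalizer ((P : Subgroup G) : Set G)) (hg : orderOf g = 409) :
    g ∈ (P : Subgroup G) := by
  have hpg : IsPGroup 409 ↥(Subgroup.zpowers g) := by
    apply IsPGroup.of_card (n := 1)
    rw [Nat.card_zpowers, hg, pow_one]
  have h6 : Subgroup.zpowers g ⊓ Subgroup.normalizer ((P : Subgroup G) : Set G)
      = Subgroup.zpowers g ⊓ (P : Subgroup G) := IsPGroup.inf_normalizer_sylow hpg P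
  have h7 : g ∈ Subgroup.zpowers g ⊓ Subgroup.normalizer ((P : Subgroup G) : Set G) :=
    ⟨Subgroup.mem_zpowers g, hgN⟩
  rw [h6] at h7
  exact h7.2

/-- Elements of `N(P) \ P` have order 3. -/
theorem orderOf_eq_three (hcard : Nat.card G = 1004913) [Fact (Nat.Prime 409)] (P : Sylow 409 G)
    (g : G) (hgN : g ∈ Subgroup.normalizer ((P : Subgroup G) : Set G))
    (hgP : g ∉ (P : Subgroup G)) : orderOf g = 3 := by
  obtain ⟨hP, hN⟩ := card_P_N hcard P
  have h1 : orderOf g ∣ 1227 := by rw [← hN]; exact Subgroup.orderOf_dvd_natCard _ hgN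
  rcases divisors1227 _ h1 with h | h | h | h
  · exfalso
    rw [orderOf_eq_one_iff] at h
    exact hgP (h ▸ one_mem _)
  · exact h
  · exact absurd (mem_of_orderOf P g hgN h) hgP
  · exfalso
    have h3 : orderOf (g ^ 3) = 409 := by
      rw [orderOf_pow_of_dvd (by norm_num) (by rw [h]; norm_num), h]
    have h4 : g ^ 3 ∈ (P : Subgroup G) := mem_of_orderOf P (g ^ 3) (pow_mem hgN 3) h3
    have h5 : g ^ 3 ≠ 1 := by
      intro h5
      rw [h5, orderOf_one] at h3
      omega
    have heq : Subgroup.zpowers (g ^ 3) = (P : Subgroup G) := by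
      apply Subgroup.eq_of_le_of_card_ge ((Subgroup.zpowers_le).2 h4)
      rw [Nat.card_zpowers, h3, hP]
    apply hgP
    apply selfCent hcard P g
    intro u hu
    rw [← heq] at hu
    obtain ⟨k, rfl⟩ := Subgroup.mem_zpowers_iff.1 hu
    exact ((Commute.zpow_right ((Commute.refl g).pow_right 3) k).eq)

/-- Each element of order 3 normalizes at most three Sylow 409-subgroups. -/
theorem card_fixed_le (hcard : Nat.card G = 1004913) [Fact (Nat.Prime 409)]
    [Fintype (Sylow 409 G)] [DecidableEq (Sylow 409 G)] (g : G) (hg : orderOf g = 3)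
    [DecidablePred fun P' : Sylow 409 G => g • P' = P'] :
    ((Finset.univ : Finset (Sylow 409 G)).filter (fun P' => g • P' = P')).card ≤ 3 := by
  classical
  by_cases hne : ((Finset.univ : Finset (Sylow 409 G)).filter (fun P' => g • P' = P')).Nonempty
  · obtain ⟨P₀, hP₀⟩ := hne
    have hgN : g • P₀ = P₀ := (Finset.mem_filter.1 hP₀).2
    obtain ⟨hP, hN⟩ := card_P_N hcard P₀
    have hgP : g ∉ (P₀ : Subgroup G) := by
      intro hgP
      have h1 : orderOf g ∣ 409 := by rw [← hP]; exact Subgroup.orderOf_dvd_natCard _ hgP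
      rw [hg] at h1
      omega
    have h1 := Cfsg.Agent.Helper21.SylFix.card_fixed_mul_le P₀ hP (selfCent hcard P₀) g hgN hgP
    rw [card_sylow409 hcard] at h1
    have h2 : Nat.card {P' : Sylow 409 G // g • P' = P' ∧ P' ≠ P₀} ≤ 2 := by omega
    have h3 : Nat.card {P' : Sylow 409 G // g • P' = P' ∧ P' ≠ P₀}
        = (((Finset.univ : Finset (Sylow 409 G)).filter (fun P' => g • P' = P')).erase P₀).card := by
      rw [Nat.card_eq_fintype_card, Fintype.card_subtype]
      refine congrArg Finset.card ?_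
      ext P'
      simp only [Finset.mem_filter, Finset.mem_univ, true_and, Finset.mem_erase]
      exact and_comm
    have h4 := Finset.card_erase_add_one hP₀
    omega
  · rw [Finset.not_nonempty_iff_eq_empty] at hne
    rw [hne]
    simp

/-- Each Sylow 409-subgroup is normalized by at least 818 elements of order 3. -/
theorem card_order_three_ge (hcard : Nat.card G = 1004913) [Fact (Nat.Prime 409)]
    [Fintype G] [DecidableEq G] (P : Sylow 409 G)
    [DecidablePred fun g : G => g • P = P] :
    818 ≤ (((Finset.univ : Finset G).filter (fun g => orderOf g = 3)).filter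
      (fun g => g • P = P)).card := by
  classical
  obtain ⟨hP, hN⟩ := card_P_N hcard P
  set N := Subgroup.normalizer ((P : Subgroup G) : Set G) with hNdef
  set A : Finset G := Finset.univ.filter (fun g => g ∈ N) with hA
  set B : Finset G := Finset.univ.filter (fun g => g ∈ (P : Subgroup G)) with hB
  have hBA : B ⊆ A := by
    intro g hg
    rw [hB, Finset.mem_filter] at hg
    rw [hA, Finset.mem_filter]
    exact ⟨Finset.mem_univ _, Subgroup.le_normalizer hg.2⟩
  have hAc : A.card = 1227 := by
    rw [← hN, Nat.card_eq_fintype_card, Fintype.card_subtype]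
  have hBc : B.card = 409 := by
    rw [← hP, Nat.card_eq_fintype_card, Fintype.card_subtype]
  have hsd : (A \ B).card = 818 := by
    rw [Finset.card_sdiff_of_subset hBA, hAc, hBc]
  rw [← hsd]
  apply Finset.card_le_card
  intro g hg
  rw [Finset.mem_sdiff, hA, hB, Finset.mem_filter, Finset.mem_filter] at hg
  rw [Finset.mem_filter, Finset.mem_filter]
  have hgP : g ∉ (P : Subgroup G) := fun h => hg.2 ⟨Finset.mem_univ _, h⟩
  exact ⟨⟨Finset.mem_univ _, orderOf_eq_three hcard P g hg.1.2 hgP⟩,
    Sylow.smul_eq_iff_mem_normalizer.2 hg.1.2⟩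

/-- At least 223314 elements of order 3. -/
theorem card_order_three (hcard : Nat.card G = 1004913) [Fact (Nat.Prime 409)]
    [Fintype G] [DecidableEq G] :
    669942 ≤ 3 * ((Finset.univ : Finset G).filter (fun g => orderOf g = 3)).card := by
  classical
  have : Fintype (Sylow 409 G) := Fintype.ofFinite _
  set s : Finset G := Finset.univ.filter (fun g => orderOf g = 3) with hs
  set t : Finset (Sylow 409 G) := Finset.univ with ht
  have key := Finset.sum_card_bipartiteAbove_eq_sum_card_bipartiteBelow (s := s) (t := t)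
    (fun (g : G) (P' : Sylow 409 G) => g • P' = P')
  have hL : ∑ g ∈ s, (t.bipartiteAbove (fun (g : G) (P' : Sylow 409 G) => g • P' = P') g).card
      ≤ ∑ _g ∈ s, 3 := by
    apply Finset.sum_le_sum
    intro g hg
    have hg3 : orderOf g = 3 := (Finset.mem_filter.1 hg).2
    exact card_fixed_le hcard g hg3
  have hR : ∑ _P' ∈ t, 818
      ≤ ∑ P' ∈ t, (s.bipartiteBelow (fun (g : G) (P' : Sylow 409 G) => g • P' = P') P').card := by
    apply Finset.sum_le_sum
    intro P' _
    exact card_order_three_ge hcard P'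
  rw [Finset.sum_const, smul_eq_mul] at hL hR
  have htc : t.card = 819 := by
    rw [ht, Finset.card_univ, ← Nat.card_eq_fintype_card, card_sylow409 hcard]
  rw [htc] at hR
  omega

end main

/-- No finite simple group has order 1004913 = 3^3 * 7 * 13 * 409. -/
theorem result {G : Type*} [Group G] [Finite G] [IsSimpleGroup G] : Nat.card G ≠ 1004913 := by
  classical
  intro hcard
  have : Fact (Nat.Prime 409) := ⟨by norm_num⟩
  have : Fact (Nat.Prime 13) := ⟨by norm_num⟩
  have : Fact (Nat.Prime 7) := ⟨by norm_num⟩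
  have : Fintype G := Fintype.ofFinite G
  -- element counts
  obtain ⟨P409⟩ : Nonempty (Sylow 409 G) := inferInstance
  obtain ⟨P13⟩ : Nonempty (Sylow 13 G) := inferInstance
  obtain ⟨P7⟩ : Nonempty (Sylow 7 G) := inferInstance
  have hP409 := (card_P_N hcard P409).1
  have hP13 : Nat.card ↥(P13 : Subgroup G) = 13 := by
    have := (sylow_card_of_card_eq_pow 77301 1 (by rw [hcard]; norm_num) (by norm_num) P13).1
    rwa [pow_one] at this
  have hP7 : Nat.card ↥(P7 : Subgroup G) = 7 := by
    have := (sylow_card_of_card_eq_pow 143559 1 (by rw [hcard]; norm_num) (by norm_num) P7).1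
    rwa [pow_one] at this
  have c409 := card_orderOf_eq_prime P409 hP409
  have c13 := card_orderOf_eq_prime P13 hP13
  have c7 := card_orderOf_eq_prime P7 hP7
  rw [card_sylow409 hcard] at c409
  rw [card_sylow13 hcard] at c13
  rw [card_sylow7 hcard] at c7
  have c3 := card_order_three (G := G) hcard
  rw [Nat.card_eq_fintype_card, Fintype.card_subtype] at c409 c13 c7
  -- disjoint union
  set f : ℕ → Finset G := fun k => Finset.univ.filter (fun g => orderOf g = k) with hf
  have hdisj : ∀ x ∈ ({409, 13, 7, 3} : Finset ℕ), ∀ y ∈ ({409, 13, 7, 3} : Finset ℕ), x ≠ y →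
      Disjoint (f x) (f y) := by
    intro x _ y _ hxy
    rw [Finset.disjoint_left]
    intro g h1 h2
    rw [hf, Finset.mem_filter] at h1 h2
    exact hxy (h1.2.symm.trans h2.2)
  have hcardU := Finset.card_biUnion hdisj
  have hle : (({409, 13, 7, 3} : Finset ℕ).biUnion f).card ≤ Fintype.card G := Finset.card_le_univ _
  rw [hcardU] at hle
  rw [Finset.sum_insert (by decide), Finset.sum_insert (by decide), Finset.sum_insert (by decide),
    Finset.sum_singleton] at hle
  rw [← Nat.card_eq_fintype_card, hcard] at hle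
  change (Finset.univ.filter (fun g => orderOf g = 409)).card
    + ((Finset.univ.filter (fun g => orderOf g = 13)).card
    + ((Finset.univ.filter (fun g => orderOf g = 7)).card
    + (Finset.univ.filter (fun g : G => orderOf g = 3)).card)) ≤ 1004913 at hle
  omega

end Cfsg.Agent.S1002
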