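import Cfsg.Statements.S1008
-- import your own Cfsg.Agent.* helpers here
import Cfsg.Agent.Helper11.Order168f

set_option autoImplicit false
open Cfsg

namespace Cfsg.Agent.S1008

/-- In a simple group of order 168 every maximal subgroup is either isomorphic to the symmetric group of degree 4 or non-abelian of order 21; the maximal subgroups of order 21 form one conjugacy class and those isomorphic to the symmetric group of degree 4 form exactly two conjugacy classes. -/
theorem result {G : Type*} [Group G] [Finite G] [IsSimpleGroup G] (h : Nat.card G = 168) : (∀ M : Subgroup G, IsCoatom M → Nonempty (↥M ≃* Equiv.Perm (Fin 4)) ∨ (Nat.card ↥M = 21 ∧ ¬ IsMulCommutative ↥M)) ∧ (∀ M M' : Subgroup G, IsCoatom M → IsCoatom M' → Nat.card ↥M = 21 → Nat.card ↥M' = 21 → ∃ g : G, M' = M.map (MulAut.conj g).toMonoidHom) ∧ ∃ M₁ M₂ : Subgroup G, IsCoatom M₁ ∧ IsCoatom M₂ ∧ Nonempty (↥M₁ ≃* Equiv.Perm (Fin 4)) ∧ Nonempty (↥M₂ ≃* Equiv.Perm (Fin 4)) ∧ (∀ g : G, M₂ ≠ M₁.map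 (MulAut.conj g).toMonoidHom) ∧ ∀ M : Subgroup G, IsCoatom M → Nonempty (↥M ≃* Equiv.Perm (Fin 4)) → ∃ g : G, M = M₁.map (MulAut.conj g).toMonoidHom ∨ M = M₂.map (MulAut.conj g).toMonoidHom := by
  open Cfsg.Agent.Helper11.O168 in
  refine ⟨?_, ?_, ?_⟩
  · intro M hM
    rcases card_coatom h M hM with h1 | h1
    · exact Or.inr ⟨h1, not_comm_of_card_twentyone h M h1⟩
    · exact Or.inl (equiv_perm_of_card h M h1)
  · intro M M' _ _ h1 h2
    exact conj_of_card_twentyone h M M' h1 h2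
  · obtain ⟨M₁, M₂, h1, h2, h3, h4⟩ := s4_classes h
    refine ⟨M₁, M₂, coatom_of_card_twentyfour h M₁ h1, coatom_of_card_twentyfour h M₂ h2,
      equiv_perm_of_card h M₁ h1, equiv_perm_of_card h M₂ h2, h3, ?_⟩
    intro M hM ⟨φ⟩
    apply h4
    rw [Nat.card_congr φ.toEquiv, Nat.card_eq_fintype_card, Fintype.card_perm, Fintype.card_fin]
    rfl

end Cfsg.Agent.S1008
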