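import Cfsg.Statements.S1009
import Cfsg.Agent.Helper11.Basic

set_option autoImplicit false
open Cfsg

namespace Cfsg.Agent.S1009

open Cfsg.Agent.Helper11

theorem result {G : Type*} [Group G] [Finite G] (p : ℕ) [Fact p.Prime] (hab : ∀ P : Sylow p G, IsMulCommutative ↥(P : Subgroup G)) : ∃ P Q : Sylow p G, (P : Subgroup G) ⊓ (Q : Subgroup G) = ⨅ R : Sylow p G, (R : Subgroup G) := by
  classical
  obtain ⟨⟨S, T⟩, hmin⟩ := Finite.exists_min (fun PQ : Sylow p G × Sylow p G =>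
    Nat.card ↥((PQ.1 : Subgroup G) ⊓ (PQ.2 : Subgroup G)))
  refine ⟨S, T, ?_⟩
  set D : Subgroup G := (S : Subgroup G) ⊓ (T : Subgroup G) with hD
  apply le_antisymm
  swap
  · exact le_inf (iInf_le _ S) (iInf_le _ T)
  apply le_iInf
  intro R
  set N : Subgroup G := Subgroup.normalizer (D : Set G) with hN
  have hSN : (S : Subgroup G) ≤ N := abelian_le_normalizer _ _ (hab S) inf_le_left
  have hTN : (T : Subgroup G) ≤ N := abelian_le_normalizer _ _ (hab T) inf_le_right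
  -- conjugate R ∩ N into S inside N
  have hA : IsPGroup p ↥(((R : Subgroup G) ⊓ N).subgroupOf N) := by
    have h1 : IsPGroup p ↥((R : Subgroup G) ⊓ N) := R.2.to_le inf_le_left
    exact h1.comap_subtype
  obtain ⟨x, hx⟩ := exists_conj_le_sylow p (S.subtype hSN) _ hA
  -- R' = x • R
  have hRT : (((x : G) • R : Sylow p G) : Subgroup G) ⊓ (T : Subgroup G) ≤ D := by
    intro y hy
    obtain ⟨hy1, hy2⟩ := hy
    refine ⟨?_, hy2⟩
    have hr : (x : G)⁻¹ * y * (x : G) ∈ (R : Subgroup G) := (mem_smul_sylow_iff R _ _).mp hy1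
    have hrN : (x : G)⁻¹ * y * (x : G) ∈ N :=
      N.mul_mem (N.mul_mem (N.inv_mem x.2) (hTN hy2)) x.2
    have h1 := hx ⟨(x : G)⁻¹ * y * (x : G), hrN⟩ (by
      rw [Subgroup.mem_subgroupOf]; exact ⟨hr, hrN⟩)
    rw [Sylow.coe_subtype, Subgroup.mem_subgroupOf] at h1
    have : ((x * ⟨(x : G)⁻¹ * y * (x : G), hrN⟩ * x⁻¹ : ↥N) : G) = y := by
      simp only [Subgroup.coe_mul, Subgroup.coe_inv]
      group
    rw [this] at h1
    exact h1
  have heq : (((x : G) • R : Sylow p G) : Subgroup G) ⊓ (T : Subgroup G) = D := by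
    apply Subgroup.eq_of_le_of_card_ge hRT
    exact hmin ((x : G) • R, T)
  intro d hd
  have hd' : (x : G) * d * (x : G)⁻¹ ∈ D := by
    have h2 : (x : G) ∈ Subgroup.normalizer (D : Set G) := x.2
    rw [Subgroup.mem_normalizer_iff] at h2
    exact (h2 d).mp hd
  rw [← heq] at hd'
  have h1 := (mem_smul_sylow_iff R _ _).mp hd'.1
  have e : (x : G)⁻¹ * ((x : G) * d * (x : G)⁻¹) * (x : G) = d := by group
  rw [e] at h1
  exact h1

end Cfsg.Agent.S1009
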