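import Cfsg.Statements.S1013
-- import your own Cfsg.Agent.* helpers here
import Mathlib
import Cfsg.Agent.Helper11.OrderP
import Cfsg.Agent.Helper11.SylowCount
import Cfsg.Agent.Helper11.PermSylow

set_option autoImplicit false
open Cfsg

namespace Cfsg.Agent.S1013

open Cfsg.Agent.Helper11

section
variable {H : Type*} [Group H] {α : Type*} [MulAction H α]

/-- A transitive group has order divisible by the degree. -/
theorem card_dvd_of_pretransitive [MulAction.IsPretransitive H α] [Nonempty α] :
    Nat.card α ∣ Nat.card H := by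
  obtain ⟨a⟩ := ‹Nonempty α›
  rw [← MulAction.index_stabilizer_of_transitive H a]
  exact Subgroup.index_dvd_card _

/-- A faithful group of permutations of `α` has order dividing `|α|!`. -/
theorem card_dvd_factorial_of_faithful [Finite α] [FaithfulSMul H α] :
    Nat.card H ∣ (Nat.card α).factorial := by
  classical
  have : Fintype α := Fintype.ofFinite α
  have h1 := Subgroup.card_dvd_of_injective (MulAction.toPermHom H α) MulAction.toPerm_injective
  rwa [Nat.card_eq_fintype_card (α := Equiv.Perm α), Fintype.card_perm,
    ← Nat.card_eq_fintype_card] at h1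

/-- A faithful group of prime degree `p` has order not divisible by `p²`. -/
theorem not_sq_dvd_card_of_faithful {p : ℕ} [Fact p.Prime] [Finite α] [FaithfulSMul H α]
    (hα : Nat.card α = p) : ¬ p ^ 2 ∣ Nat.card H := by
  have hp : p.Prime := Fact.out
  intro h
  have h1 : p ^ 2 ∣ p.factorial := by
    have := card_dvd_factorial_of_faithful (H := H) (α := α)
    rw [hα] at this
    exact h.trans this
  have h2 : p.factorial = p * (p - 1).factorial := (Nat.mul_factorial_pred hp.ne_zero).symm
  rw [h2, pow_two] at h1
  have h3 : p ∣ (p - 1).factorial := Nat.dvd_of_mul_dvd_mul_left hp.pos h1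
  exact prime_not_dvd_factorial_pred hp h3

/-- A nontrivial normal subgroup of a faithful transitive group of prime degree is transitive. -/
theorem pretransitive_of_normal {p : ℕ} [Fact p.Prime] [FaithfulSMul H α]
    [MulAction.IsPretransitive H α] (hα : Nat.card α = p) (K : Subgroup H) [K.Normal]
    (hK : K ≠ ⊥) : MulAction.IsPretransitive ↥K α := by
  have hp : p.Prime := Fact.out
  have hprim : MulAction.IsPreprimitive H α :=
    MulAction.IsPreprimitive.of_prime_card (by rw [hα]; exact hp)
  have hq : MulAction.IsQuasiPreprimitive H α := inferInstance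
  apply hq.isPretransitive_of_normal
  intro hfix
  apply hK
  rw [Subgroup.eq_bot_iff_forall]
  intro k hk
  apply FaithfulSMul.eq_of_smul_eq_smul (α := α)
  intro a
  have ha : a ∈ MulAction.fixedPoints ↥K α := by rw [hfix]; exact Set.mem_univ a
  have := ha ⟨k, hk⟩
  rw [one_smul]
  exact this

end

/-- Main theorem in abstract form. -/
theorem simple_of_prime_degree {H : Type*} [Group H] [Finite H] {α : Type*} [Finite α]
    [MulAction H α] [FaithfulSMul H α] [MulAction.IsPretransitive H α] {p : ℕ} [Fact p.Prime]
    (hα : Nat.card α = p) (P : Sylow p H) (hn : 1 < Nat.card (Sylow p H))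
    (ht : ((P : Subgroup H).relIndex (Subgroup.normalizer ((P : Subgroup H) : Set H))).Prime) :
    IsSimpleGroup H := by
  have hp : p.Prime := Fact.out
  have : Nonempty α := by
    have : Nat.card α ≠ 0 := by rw [hα]; exact hp.ne_zero
    exact (Nat.card_ne_zero.1 this).1
  have hpH : p ∣ Nat.card H := by
    have := card_dvd_of_pretransitive (H := H) (α := α)
    rwa [hα] at this
  have hp2 : ¬ p ^ 2 ∣ Nat.card H := not_sq_dvd_card_of_faithful hα
  obtain ⟨m, hm⟩ := hpH
  have hpm : ¬ p ∣ m := by
    intro h
    apply hp2
    rw [hm, pow_two]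
    exact Nat.mul_dvd_mul_left p h
  have hcardP : Nat.card ↥(P : Subgroup H) = p :=
    (sylow_card_of_card_eq m (by rw [hm, mul_comm]) hpm P).1
  have hnontriv : Nontrivial H := by
    by_contra hcon
    rw [not_nontrivial_iff_subsingleton] at hcon
    have : Nat.card (Sylow p H) ≤ 1 := by
      have : Subsingleton (Sylow p H) := by
        constructor
        intro A B
        apply Sylow.ext
        exact Subsingleton.elim _ _
      exact Finite.card_le_one_iff_subsingleton.2 this
    omega
  refine { toNontrivial := hnontriv, eq_bot_or_eq_top_of_normal := ?_ }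
  intro K hKn
  by_cases hKbot : K = ⊥
  · exact Or.inl hKbot
  right
  have hKt : MulAction.IsPretransitive ↥K α := pretransitive_of_normal hα K hKbot
  have hpK : p ∣ Nat.card ↥K := by
    have := card_dvd_of_pretransitive (H := ↥K) (α := α)
    rwa [hα] at this
  -- `P ≤ K`
  have hPK : (P : Subgroup H) ≤ K := by
    obtain ⟨x, hx⟩ := exists_prime_orderOf_dvd_card' p hpK
    have hx' : orderOf (x : H) = p := by rw [Subgroup.orderOf_coe]; exact hx
    have hpg : IsPGroup p ↥(Subgroup.zpowers (x : H)) := by
      apply IsPGroup.of_card (n := 1)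
      rw [Nat.card_zpowers, hx', pow_one]
    obtain ⟨g, hg⟩ := exists_conj_le_sylow p P _ hpg
    have hy : g * (x : H) * g⁻¹ ∈ (P : Subgroup H) := hg _ (Subgroup.mem_zpowers _)
    have hyK : g * (x : H) * g⁻¹ ∈ K := hKn.conj_mem _ x.2 g
    have hy1 : g * (x : H) * g⁻¹ ≠ 1 := by
      intro h
      have hx1 : (x : H) = 1 := by
        have : (x : H) = g⁻¹ * (g * (x : H) * g⁻¹) * g := by group
        rw [this, h]; group
      rw [hx1, orderOf_one] at hx'
      exact hp.one_lt.ne hx'
    rw [eq_zpowers_of_card_prime _ hcardP _ hy hy1, Subgroup.zpowers_le]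
    exact hyK
  -- Frattini
  have hfrat : Subgroup.normalizer ((P : Subgroup H) : Set H) ⊔ K = ⊤ :=
    Sylow.normalizer_sup_eq_top' P hPK
  set N : Subgroup H := Subgroup.normalizer ((P : Subgroup H) : Set H) with hN
  have hPN : (P : Subgroup H) ≤ N := Subgroup.le_normalizer
  have hsplit : (P : Subgroup H).relIndex (K ⊓ N) * (K ⊓ N).relIndex N = (P : Subgroup H).relIndex N :=
    Subgroup.relIndex_mul_relIndex _ _ _ (le_inf hPK hPN) inf_le_right
  rcases (Nat.prime_mul_iff.1 (hsplit ▸ ht)) with ⟨_, h1⟩ | ⟨_, h1⟩
  · -- `K ⊓ N = N`, so `N ≤ K`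
    rw [Subgroup.relIndex_eq_one] at h1
    have hNK : N ≤ K := h1.trans inf_le_left
    apply top_le_iff.1
    rw [← hfrat]
    exact sup_le hNK le_rfl
  · -- `K ⊓ N ≤ P`: Burnside gives a normal `p`-complement in `K`
    exfalso
    rw [Subgroup.relIndex_eq_one] at h1
    let P' : Sylow p ↥K := P.subtype hPK
    have hP'coe : (P' : Subgroup ↥K) = (P : Subgroup H).subgroupOf K := rfl
    have hcardP' : Nat.card ↥(P' : Subgroup ↥K) = p := by
      rw [hP'coe, Nat.card_congr (Subgroup.subgroupOfEquivOfLe hPK).toEquiv, hcardP]
    have hP'comm : ∀ a ∈ (P' : Subgroup ↥K), ∀ b ∈ (P' : Subgroup ↥K), a * b = b * a := by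
      have hcyc : IsCyclic ↥(P' : Subgroup ↥K) := isCyclic_of_prime_card hcardP'
      intro a ha b hb
      have := hcyc.isMulCommutative.is_comm.comm (⟨a, ha⟩ : ↥(P' : Subgroup ↥K)) ⟨b, hb⟩
      exact congrArg Subtype.val this
    have hNC : Subgroup.normalizer ((P' : Subgroup ↥K) : Set ↥K) ≤ Subgroup.centralizer ((P' : Subgroup ↥K) : Set ↥K) := by
      intro x hx
      have hxP : x ∈ (P' : Subgroup ↥K) := by
        rw [hP'coe, Subgroup.mem_subgroupOf]
        apply h1
        refine ⟨x.2, ?_⟩
        change (x : H) ∈ Subgroup.normalizer ((P : Subgroup H) : Set H)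
        rw [Subgroup.mem_normalizer_iff]
        intro h
        rw [Subgroup.mem_normalizer_iff] at hx
        constructor
        · intro hh
          have hhK : h ∈ K := hPK hh
          have := (hx ⟨h, hhK⟩).1 (by rw [hP'coe, Subgroup.mem_subgroupOf]; exact hh)
          rw [hP'coe, Subgroup.mem_subgroupOf] at this
          exact this
        · intro hh
          have hhK : h ∈ K := by
            have h2 : h = (x : H)⁻¹ * ((x : H) * h * (x : H)⁻¹) * (x : H) := by group
            rw [h2]
            exact K.mul_mem (K.mul_mem (K.inv_mem x.2) (hPK hh)) x.2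
          have := (hx ⟨h, hhK⟩).2 (by rw [hP'coe, Subgroup.mem_subgroupOf]; exact hh)
          rw [hP'coe, Subgroup.mem_subgroupOf] at this
          exact this
      rw [Subgroup.mem_centralizer_iff]
      intro y hy
      exact hP'comm y hy x hxP
    have hc := MonoidHom.ker_transferSylow_isComplement' P' hNC
    set M : Subgroup ↥K := (MonoidHom.transferSylow P' hNC).ker with hM
    have hMn : M.Normal := (MonoidHom.transferSylow P' hNC).normal_ker
    have hcard : Nat.card ↥M * Nat.card ↥(P' : Subgroup ↥K) = Nat.card ↥K := hc.card_mul_card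
    rw [hcardP'] at hcard
    have hKH : Nat.card ↥K ∣ Nat.card H := Subgroup.card_subgroup_dvd_card K
    have hpM : ¬ p ∣ Nat.card ↥M := by
      intro h
      apply hp2
      refine dvd_trans ?_ hKH
      rw [← hcard, pow_two]
      exact Nat.mul_dvd_mul_right h p
    have hMbot : M = ⊥ := by
      by_contra hne
      have hMt : MulAction.IsPretransitive ↥M α := pretransitive_of_normal hα M hne
      have := card_dvd_of_pretransitive (H := ↥M) (α := α)
      rw [hα] at this
      exact hpM this
    have hKcard : Nat.card ↥K = p := by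
      rw [← hcard, hMbot, Subgroup.card_bot, one_mul]
    have hKP : (P : Subgroup H) = K := by
      apply Subgroup.eq_of_le_of_card_ge hPK
      rw [hKcard, hcardP]
    have hPnormal : (P : Subgroup H).Normal := by rw [hKP]; exact hKn
    have hall : ∀ Q : Sylow p H, Q = P := by
      intro Q
      obtain ⟨g, hg⟩ := MulAction.exists_smul_eq H P Q
      rw [← hg, Sylow.smul_eq_of_normal]
    have : Subsingleton (Sylow p H) := ⟨fun A B => by rw [hall A, hall B]⟩
    have : Nat.card (Sylow p H) ≤ 1 := Finite.card_le_one_iff_subsingleton.2 this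
    omega

/-- Let G be a transitive permutation group of prime degree p having more than one Sylow p-subgroup, and suppose a Sylow p-subgroup P has prime index in its normalizer. Then G is simple. -/
theorem result {α : Type*} [Fintype α] [DecidableEq α] {p : ℕ} [Fact p.Prime] (hα : Fintype.card α = p) (G : Subgroup (Equiv.Perm α)) [MulAction.IsPretransitive ↥G α] (P : Sylow p ↥G) (hn : 1 < Nat.card (Sylow p ↥G)) (ht : (((P : Subgroup ↥G).subgroupOf (Subgroup.normalizer ((P : Subgroup ↥G) : Set ↥G))).index).Prime) : IsSimpleGroup ↥G := by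
  have hα' : Nat.card α = p := by rw [Nat.card_eq_fintype_card, hα]
  exact simple_of_prime_degree hα' P hn ht

end Cfsg.Agent.S1013
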