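import Cfsg.Statements.S1014
import Cfsg.Agent.Helper11.NoSimple

set_option autoImplicit false
open Cfsg

namespace Cfsg.Agent.S1014

open Cfsg.Agent.Helper11

theorem result {G : Type*} [Group G] [Finite G] [IsSimpleGroup G] : Nat.card G ≠ 1104 := by
  intro hcard
  have hG : ¬ IsMulCommutative G := simple_noncomm_of_card (by rw [hcard]; norm_num)
  haveI : Fact (Nat.Prime 23) := ⟨by norm_num⟩
  have hG' : Nat.card G = 48 * 23 ^ 1 := by rw [hcard]; norm_num
  have hm : ¬ 23 ∣ 48 := by norm_num
  have hn := card_sylow_mem_filter 48 1 hG' hm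
  have hfilter : (Nat.divisors 48).filter (fun d => d % 23 = 1) = {1, 24} := by decide
  rw [hfilter] at hn
  simp only [Finset.mem_insert, Finset.mem_singleton] at hn
  have hdvd : 23 ∣ Nat.card G := by rw [hcard]; norm_num
  rcases hn with h | h
  · exact simple_card_sylow_ne_one hG 23 hdvd h
  · obtain ⟨P⟩ : Nonempty (Sylow 23 G) := inferInstance
    obtain ⟨hPcard, -⟩ := sylow_card_of_card_eq_pow 48 1 hG' hm P
    rw [pow_one] at hPcard
    have hN := card_sylow_mul_card_normalizer P
    rw [h, hcard] at hN
    have hN' : Nat.card ↥(Subgroup.normalizer ((P : Subgroup G) : Set G)) = 46 := by omega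
    have hidx : (Subgroup.normalizer ((P : Subgroup G) : Set G)).index = 23 + 1 := by
      have := P.card_eq_index_normalizer
      rw [h] at this
      exact this.symm
    have h2 := simple_normalizer_dvd_of_index hG 23 (by norm_num) _ (Or.inr hidx) P hPcard
    rw [hN'] at h2
    norm_num at h2

end Cfsg.Agent.S1014
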