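import Cfsg.Statements.S1015
import Cfsg.Agent.Helper11.NoSimple
import Cfsg.Agent.Helper11.SylowInter2

set_option autoImplicit false
open Cfsg

namespace Cfsg.Agent.S1015

open Cfsg.Agent.Helper11

theorem result {G : Type*} [Group G] [Finite G] [IsSimpleGroup G] : Nat.card G ≠ 1200 := by
  intro hcard
  have hG : ¬ IsMulCommutative G := simple_noncomm_of_card (by rw [hcard]; norm_num)
  haveI : Fact (Nat.Prime 5) := ⟨by norm_num⟩
  have hG' : Nat.card G = 48 * 5 ^ 2 := by rw [hcard]; norm_num
  have hm : ¬ 5 ∣ 48 := by norm_num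
  have hn := card_sylow_mem_filter 48 2 hG' hm
  have hfilter : (Nat.divisors 48).filter (fun d => d % 5 = 1) = {1, 6, 16} := by decide
  rw [hfilter] at hn
  simp only [Finset.mem_insert, Finset.mem_singleton] at hn
  have hdvd : 5 ∣ Nat.card G := by rw [hcard]; norm_num
  rcases hn with h | h | h
  · exact simple_card_sylow_ne_one hG 5 hdvd h
  · have := simple_two_mul_card_dvd_factorial_card_sylow hG 5 hdvd
    rw [h, hcard] at this
    norm_num [Nat.factorial] at this
  · have hmod : ¬ Nat.card (Sylow 5 G) ≡ 1 [MOD 5 ^ 2] := by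
      rw [h]; decide
    obtain ⟨P, R, hPR, hD⟩ := exists_sylow_inter_index_p 5 hmod
    obtain ⟨hPcard, -⟩ := sylow_card_of_card_eq_pow 48 2 hG' hm P
    obtain ⟨-, -, hM⟩ := normalizer_sylow_inter 5 P R hPR hD
    rw [hPcard] at hD hM
    set D := (P : Subgroup G) ⊓ (R : Subgroup G) with hDdef
    set M := Subgroup.normalizer (D : Set G) with hMdef
    have hDcard : Nat.card ↥D = 5 := by omega
    have hMtop : M ≠ ⊤ := by
      intro htop
      have hnorm : D.Normal := Subgroup.normalizer_eq_top_iff.mp htop
      rcases hnorm.eq_bot_or_eq_top with h1 | h1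
      · rw [h1] at hDcard; simp at hDcard
      · rw [h1, Subgroup.card_top, hcard] at hDcard; omega
    have h2 := simple_two_mul_card_dvd_factorial hG M hMtop
    have h3 := M.index_mul_card
    rw [hcard] at h2 h3
    have hidx : M.index ≤ 8 := by
      by_contra hlt
      push Not at hlt
      have : 9 * 150 ≤ M.index * Nat.card ↥M := Nat.mul_le_mul hlt (by omega)
      omega
    have h4 : (M.index).factorial ∣ (8).factorial := Nat.factorial_dvd_factorial hidx
    have h5 := h2.trans h4
    norm_num [Nat.factorial] at h5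

end Cfsg.Agent.S1015
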