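import Cfsg.Statements.S1016
import Cfsg.Agent.Helper15.O1440d

set_option autoImplicit false
open Cfsg

namespace Cfsg.Agent.S1016

/-- No finite simple group has order 1440 = 2^5 * 3^2 * 5. -/
theorem result {G : Type*} [Group G] [Finite G] [IsSimpleGroup G] : Nat.card G ≠ 1440 := by
  intro hcard
  have hG : ¬ IsMulCommutative G := Cfsg.Agent.Helper15.O1440.noncomm hcard
  have : Fact (Nat.Prime 5) := ⟨by norm_num⟩
  have hG' : Nat.card G = 288 * 5 ^ 1 := by rw [hcard]; norm_num
  have hm : ¬ 5 ∣ 288 := by norm_num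
  have hn := Cfsg.Agent.Helper11.card_sylow_mem_filter 288 1 hG' hm
  have hfilter : (Nat.divisors 288).filter (fun d => d % 5 = 1) = {1, 6, 16, 36, 96} := by
    decide +kernel
  rw [hfilter] at hn
  simp only [Finset.mem_insert, Finset.mem_singleton] at hn
  have hdvd : 5 ∣ Nat.card G := by rw [hcard]; norm_num
  have hS : ∀ Q : Sylow 5 G, Nat.card ↥(Q : Subgroup G) = 5 := by
    intro Q
    have := (Cfsg.Agent.Helper11.sylow_card_of_card_eq_pow 288 1 hG' hm Q).1
    rwa [pow_one] at this
  obtain ⟨P⟩ : Nonempty (Sylow 5 G) := inferInstance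
  have hNP := Cfsg.Agent.Helper11.card_sylow_mul_card_normalizer P
  rw [hcard] at hNP
  rcases hn with h | h | h | h | h
  · exact Cfsg.Agent.Helper11.simple_card_sylow_ne_one hG 5 hdvd h
  · have := Cfsg.Agent.Helper11.simple_two_mul_card_dvd_factorial_card_sylow hG 5 hdvd
    rw [h, hcard] at this
    norm_num [Nat.factorial] at this
  · exact Cfsg.Agent.Helper15.O1440.no_sylow_sixteen hcard hS h
  · rw [h] at hNP
    exact Cfsg.Agent.Helper15.O1440.no_normalizer_forty hcard P (hS P) (by omega)
  · rw [h] at hNP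
    obtain ⟨hk1, hk4, hkC, h5C⟩ := Cfsg.Agent.Helper11.simple_automizer_data hG 5 P (hS P)
    have hN15 : Nat.card ↥(Subgroup.normalizer ((P : Subgroup G) : Set G)) = 15 := by omega
    rw [hN15] at hkC
    have hk : (Subgroup.centralizer ((P : Subgroup G) : Set G)).relIndex
      (Subgroup.normalizer ((P : Subgroup G) : Set G)) ≤ 4 := Nat.le_of_dvd (by norm_num) hk4
    generalize (Subgroup.centralizer ((P : Subgroup G) : Set G)).relIndex
      (Subgroup.normalizer ((P : Subgroup G) : Set G)) = k at hk hk1 hk4 hkC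
    generalize Nat.card ↥(Subgroup.centralizer ((P : Subgroup G) : Set G)) = c at hkC
    interval_cases k
    · omega
    · omega
    · omega
    · omega
    · omega

end Cfsg.Agent.S1016
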