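import Mathlib
import Cfsg.Statements.S1026
import Cfsg.Agent.Helper6.Chev.UProdMain

set_option autoImplicit false
open Cfsg

namespace Cfsg.Agent.S1026

open Cfsg.Lie Cfsg.Agent.Helper6

/-- Every element of `U` is uniquely a product of root elements `x_r(t_r)` over the positive roots in increasing order. -/
theorem result {F : Type*} [Field F] (D : Cfsg.Lie.ChevalleyDatum) (hD : D ∈ [Cfsg.Lie.chevG2, Cfsg.Lie.chevB2, Cfsg.Lie.chevD4, Cfsg.Lie.chevF4, Cfsg.Lie.chevE6, Cfsg.Lie.chevE7, Cfsg.Lie.chevE8]) :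
    (∀ g : GL D.Idx F, g ∈ D.posUnipotent F →
      ∃! t : ℕ → F, (∀ r, ¬ D.IsPosRoot r → t r = 0) ∧
        (g : Matrix D.Idx D.Idx F) = D.wordMat F (D.posRoots.map fun r => (r, t r))) ∧
    (∀ t : ℕ → F, ∃ g : GL D.Idx F, g ∈ D.posUnipotent F ∧
      (g : Matrix D.Idx D.Idx F) = D.wordMat F (D.posRoots.map fun r => (r, t r))) := by
  have hB := basicOK_of_tabulated hD
  have hO := ordOK_of_tabulated hD
  have hsign := sign_iff_of_tabulated hD
  obtain ⟨hex, huniq, hmem⟩ := uprod_of_tabulated (F := F) hD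
  rw [hO.pos]
  have hnot : ∀ r, ¬ D.IsPosRoot r → ¬ (D.nroots / 2 ≤ r ∧ r < D.nroots) := by
    rintro r hr ⟨h1, h2⟩
    exact hr (((hsign r h2).1).2 h1)
  have hcongr : ∀ (t t' : ℕ → F), (∀ r, D.nroots / 2 ≤ r → r < D.nroots → t r = t' r) →
      (List.range' (D.nroots / 2) (D.nroots / 2)).map (fun r => (r, t r)) =
        (List.range' (D.nroots / 2) (D.nroots / 2)).map (fun r => (r, t' r)) := by
    intro t t' h
    apply List.map_congr_left
    intro r hr
    rw [List.mem_range'_1] at hr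
    have := hO.even
    rw [h r hr.1 (by omega)]
  refine ⟨?_, ?_⟩
  · intro g hg
    obtain ⟨t, ht⟩ := hex g hg
    refine ⟨fun r => if D.nroots / 2 ≤ r ∧ r < D.nroots then t r else 0, ⟨?_, ?_⟩, ?_⟩
    · intro r hr
      simp only [if_neg (hnot r hr)]
    · rw [ht, wordU_val]
      congr 1
      apply hcongr
      intro r h1 h2
      simp only [if_pos (And.intro h1 h2)]
    · rintro t' ⟨ht'1, ht'2⟩
      funext r
      by_cases hr : D.nroots / 2 ≤ r ∧ r < D.nroots
      · simp only [if_pos hr]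
        symm
        apply huniq t t' _ r hr.1 hr.2
        apply Units.ext
        rw [wordU_val, wordU_val, ← ht'2, ht, wordU_val]
      · simp only [if_neg hr]
        apply ht'1
        intro hp
        exact hr ⟨((hsign r hp.1).1).1 hp, hp.1⟩
  · intro t
    exact ⟨_, hmem t, wordU_val hB _⟩

end Cfsg.Agent.S1026
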