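import Mathlib
import Cfsg.Statements.S1043
import Cfsg.Agent.Helper6.Chev.GLvl
import Cfsg.Agent.Helper6.Chev.TablesReach

set_option autoImplicit false
open Cfsg

namespace Cfsg.Agent.S1043

open Cfsg.Lie Cfsg.Agent.Helper6

set_option maxRecDepth 100000 in
theorem simple_pos {D : ChevalleyDatum} (hD : IsTabulated D) : ∀ i < D.rank, D.IsPosRoot (D.simple i) := by
  simp only [IsTabulated, List.mem_cons, List.not_mem_nil, or_false] at hD
  rcases hD with rfl | rfl | rfl | rfl | rfl | rfl | rfl <;> decide +kernel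

/-- `B ≤ G`, `N ≤ G` and `B ⊔ N = G` for the Chevalley group `G` generated by all root elements. -/
theorem result {F : Type*} [Field F] (D : Cfsg.Lie.ChevalleyDatum) (hD : D ∈ [Cfsg.Lie.chevG2, Cfsg.Lie.chevB2, Cfsg.Lie.chevD4, Cfsg.Lie.chevF4, Cfsg.Lie.chevE6, Cfsg.Lie.chevE7, Cfsg.Lie.chevE8]) :
    D.borelSubgroup F ≤ D.group F ∧ D.monomialSubgroup F ≤ D.group F ∧ D.borelSubgroup F ⊔ D.monomialSubgroup F = D.group F := by
  have hB := basicOK_of_tabulated hD
  refine ⟨borelSubgroup_le_group hB, monomialSubgroup_le_group hB, ?_⟩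
  apply le_antisymm (sup_le (borelSubgroup_le_group hB) (monomialSubgroup_le_group hB))
  -- every root element lies in `B ⊔ N`
  have key : ∀ r, Reach D r → ∀ t : F, xU hB r t ∈ D.borelSubgroup F ⊔ D.monomialSubgroup F := by
    intro r hr
    induction hr with
    | @simple i hi =>
      intro t
      apply Subgroup.mem_sup_left
      apply Subgroup.mem_sup_left
      apply Subgroup.subset_closure
      exact ⟨D.simple i, t, simple_pos hD i hi, rfl⟩
    | @step i s hi hs _ ih =>
      intro t
      have hA := simpleAll_of_tabulated hD hi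
      have hsq := etaR_sq (F := F) hB hA hs
      have := nU_conj_xU hB hA hs (((etaR D (D.simple i) s : ℤ) : F) * t)
      rw [← mul_assoc, hsq, one_mul] at this
      rw [← this]
      have hn : nU hB (D.simple i) (one_ne_zero (α := F)) ∈ D.borelSubgroup F ⊔ D.monomialSubgroup F :=
        Subgroup.mem_sup_right (nU_one_mem_monomial hB hA.hS.1)
      exact Subgroup.mul_mem _ (Subgroup.mul_mem _ hn (ih _)) (Subgroup.inv_mem _ hn)
  unfold ChevalleyDatum.group
  rw [Subgroup.closure_le]
  rintro g ⟨r, t, hg⟩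
  have : g = xU hB r.val t := Units.ext (by rw [hg, xU_val, x_of_lt r.isLt])
  rw [this]
  exact key r.val (reach_of_tabulated hD r.isLt) t

end Cfsg.Agent.S1043
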