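import Mathlib
import Cfsg.Statements.S1045
import Cfsg.Agent.Helper6.Chev.TablesRad
import Cfsg.Agent.Helper6.Chev.TablesComm
import Cfsg.Agent.Helper6.Chev.TablesOrd
import Cfsg.Agent.Helper6.Chev.TablesW0

set_option autoImplicit false
open Cfsg

namespace Cfsg.Agent.S1045

open Cfsg.Lie Cfsg.Agent.Helper6

/-- `⟨X_p, X_{-p}⟩` normalises `U_p = ⟨X_s : s > 0, s ≠ p⟩` and `U = U_p X_p`, for a fundamental root `p`. -/
theorem result {F : Type*} [Field F] (D : Cfsg.Lie.ChevalleyDatum) (hD : D ∈ [Cfsg.Lie.chevG2, Cfsg.Lie.chevB2, Cfsg.Lie.chevD4, Cfsg.Lie.chevF4, Cfsg.Lie.chevE6, Cfsg.Lie.chevE7, Cfsg.Lie.chevE8]) (i : ℕ) (hi : i < D.rank) :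
    D.rootSubgroup F (D.simple i) ⊔ D.rootSubgroup F (D.neg (D.simple i)) ≤
        Subgroup.normalizer (Subgroup.closure {g : GL D.Idx F | ∃ (s : ℕ) (t : F), D.IsPosRoot s ∧ s ≠ D.simple i ∧
          (g : Matrix D.Idx D.Idx F) = D.x F s t} : Set (GL D.Idx F)) ∧
      Subgroup.closure {g : GL D.Idx F | ∃ (s : ℕ) (t : F), D.IsPosRoot s ∧ s ≠ D.simple i ∧
          (g : Matrix D.Idx D.Idx F) = D.x F s t} ⊔ D.rootSubgroup F (D.simple i) = D.posUnipotent F := by
  have hB := basicOK_of_tabulated hD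
  have hF := fastOK_of_tabulated hD
  have hO := ordOK_of_tabulated hD
  have hA := simpleAll_of_tabulated hD hi
  have hsign : ∀ r < D.nroots, (D.IsPosRoot r ↔ D.nroots / 2 ≤ r) :=
    fun r hr => (sign_iff_of_tabulated hD r hr).1
  have hC : ∀ r < D.nroots, ∀ s < D.nroots, s ≠ r → s ≠ D.neg r → CommF D F r s :=
    fun r hr s hs e1 e2 => commF_of_tabulated hD hr hs e1 e2
  obtain ⟨hpN, hR⟩ := rad_of_tabulated hD hi
  have hp := hA.hS.1
  have hnp : D.neg (D.simple i) < D.nroots / 2 := by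
    have e : D.neg (D.simple i) = negF D (D.simple i) := by rw [negF_eq hF.chk]
    rw [e]
    unfold negF
    have : Nat.blt (D.simple i) D.nroots = true := by rw [Nat.blt_eq]; exact hp
    rw [this, cond_true]
    have := hO.even
    change D.nroots - 1 - D.simple i < D.nroots / 2
    omega
  exact ⟨rootSubgroup_sup_le_normalizer_Uexc hB hF hR hC hsign hp hpN hnp,
    Uexc_sup_rootSubgroup hsign hp hpN⟩

end Cfsg.Agent.S1045
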