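import Mathlib
import Cfsg.Statements.S1118
import Cfsg.Agent.Helper17.RankOne
-- import your own Cfsg.Agent.* helpers here

set_option autoImplicit false
open Cfsg

namespace Cfsg.Agent.S1118

/-- In the rank-one set-up (`G` finite and doubly transitive on `Ω`, `t` an involution moving `a`, `Q` normal in `G_a` with `G_a = Q D`, `Q ⊓ D = 1` for the two-point stabiliser `D = G_a ⊓ G_{t • a}`, `|Q|` even, `|D|` odd), the normaliser of a subset of `Q` containing a non-identity element lies in `G_a`; consequently `N_G(Q) = N_G(G_a) = G_a`. -/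
theorem result {G Ω : Type*} [Group G] [Finite G] [MulAction G Ω] {a : Ω} {t : G} {Q : Subgroup G}
    (hS : Cfsg.IsRankOneSetup G Ω a t Q) :
    (∀ X : Set G, X ⊆ (Q : Set G) → (∃ x ∈ X, x ≠ 1) → Subgroup.normalizer X ≤ MulAction.stabilizer G a) ∧
      Subgroup.normalizer (Q : Set G) = MulAction.stabilizer G a ∧
      Subgroup.normalizer (MulAction.stabilizer G a : Set G) = MulAction.stabilizer G a := by
  have key : ∀ X : Set G, X ⊆ (Q : Set G) → (∃ x ∈ X, x ≠ 1) →
      Subgroup.normalizer X ≤ MulAction.stabilizer G a := by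
    rintro X hXQ ⟨x, hxX, hx1⟩ g hg
    rw [Subgroup.mem_set_normalizer_iff] at hg
    have h1 : g * x * g⁻¹ ∈ X := (hg x).mp hxX
    have h2 : g * x * g⁻¹ ∈ Q := hXQ h1
    have h3 : g * x * g⁻¹ ≠ 1 := by
      intro h
      apply hx1
      have : x = g⁻¹ * (g * x * g⁻¹) * g := by group
      rw [this, h]; group
    have h4 : (g * x * g⁻¹) • g • a = g • a := by
      rw [mul_smul, mul_smul, inv_smul_smul, Cfsg.Agent.Helper17.ro_Q_fix hS (hXQ hxX)]
    exact MulAction.mem_stabilizer_iff.mpr (Cfsg.Agent.Helper17.ro_fix_eq hS h2 h3 h4)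
  have hQne : ∃ x ∈ (Q : Set G), x ≠ 1 := by
    by_contra h
    push Not at h
    have h0 : Q = ⊥ := (Subgroup.eq_bot_iff_forall _).mpr h
    have hc := hS.even_card
    rw [h0, Subgroup.card_bot] at hc
    exact absurd hc (by decide)
  refine ⟨key, ?_, ?_⟩
  · exact le_antisymm (key Q subset_rfl hQne) (Cfsg.Agent.Helper17.ro_D_le_normalizer hS)
  · refine le_antisymm ?_ Subgroup.le_normalizer
    intro g hg
    rw [Subgroup.mem_set_normalizer_iff] at hg
    obtain ⟨x, hxQ, hx1⟩ := hQne
    have h1 : g * x * g⁻¹ ∈ MulAction.stabilizer G a := (hg x).mp (hS.le hxQ)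
    have h2 : x • g⁻¹ • a = g⁻¹ • a := by
      have := MulAction.mem_stabilizer_iff.mp h1
      rw [mul_smul, mul_smul] at this
      rw [eq_inv_smul_iff]
      exact this
    have h3 := Cfsg.Agent.Helper17.ro_fix_eq hS hxQ hx1 h2
    rw [MulAction.mem_stabilizer_iff]
    rw [inv_smul_eq_iff] at h3
    exact h3.symm

end Cfsg.Agent.S1118
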