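import Mathlib
import Cfsg.Statements.S1120
import Cfsg.Agent.Helper17.RankOne
import Cfsg.Agent.Helper17.KleinFour
-- import your own Cfsg.Agent.* helpers here

set_option autoImplicit false
open Cfsg

namespace Cfsg.Agent.S1120

/-- In the rank-one set-up (`G` finite and doubly transitive on `Ω`, `t` an involution moving `a`, `Q` normal in `G_a` with `G_a = Q D`, `Q ⊓ D = 1` for the two-point stabiliser `D = G_a ⊓ G_{t • a}`, `|Q|` even, `|D|` odd), if `G` has 2-rank at least 2 then `O_{2'}(G)` equals the normal core of `G_a`. -/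
theorem result {G Ω : Type*} [Group G] [Finite G] [MulAction G Ω] {a : Ω} {t : G} {Q : Subgroup G}
    (hS : Cfsg.IsRankOneSetup G Ω a t Q)
    (h2 : ∃ x y : G, x ≠ 1 ∧ y ≠ 1 ∧ x ≠ y ∧ x * x = 1 ∧ y * y = 1 ∧ x * y = y * x) :
    Cfsg.pPrimeCore 2 G = (MulAction.stabilizer G a).normalCore := by
  obtain ⟨x, y, hx1, hy1, hxy, hx2, hy2, hcomm⟩ := h2
  apply le_antisymm
  · apply sSup_le
    rintro M ⟨hMn, hMc⟩
    have hodd : Odd (Nat.card M) := Nat.coprime_two_right.mp hMc
    rw [Subgroup.normal_le_normalCore]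
    obtain ⟨c, hc, -⟩ := Cfsg.Agent.Helper17.ro_invol_fix hS hx1 hx2
    have hyc : y • c = c := Cfsg.Agent.Helper17.ro_comm_fix hS hx1 hx2 hcomm hc
    have hxy1 : x * y ≠ 1 := by
      intro h
      apply hxy
      have : x = y⁻¹ := eq_inv_of_mul_eq_one_left h
      rw [this, Cfsg.Agent.Helper17.invol_inv hy2]
    have hxy2 : (x * y) * (x * y) = 1 := by
      have : (x * y) * (x * y) = x * (y * x) * y := by group
      rw [this, ← hcomm]
      have : x * (x * y) * y = (x * x) * (y * y) := by group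
      rw [this, hx2, hy2, one_mul]
    have hxyc : (x * y) • c = c := by rw [mul_smul, hyc, hc]
    have hMc' : ∀ m ∈ M, m • c = c := by
      intro m hm
      obtain ⟨c₀, hc₀, g, hg, rfl⟩ := Cfsg.Agent.Helper17.inverted_decomp_exists hx2 M hodd
        (fun m hm => hMn.conj_mem m hm x) hm
      obtain ⟨u, huM, g', hg'M, hyu, hxyg', rfl⟩ :=
        Cfsg.Agent.Helper17.klein_inverted_decomp hodd hx2 hy2 hcomm
          (fun m hm => hMn.conj_mem m hm y) hg.1 hg.2
      have h1 : c₀ • c = c := by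
        apply Cfsg.Agent.Helper17.ro_comm_fix hS hx1 hx2 _ hc
        exact (Subgroup.mem_centralizer_iff.mp hc₀.2) x rfl
      have h2 : u • c = c := Cfsg.Agent.Helper17.ro_comm_fix hS hy1 hy2 hyu hyc
      have h3 : g' • c = c := Cfsg.Agent.Helper17.ro_comm_fix hS hxy1 hxy2 hxyg' hxyc
      simp only [mul_smul]
      rw [h2, h3, h2, h1]
    have := Cfsg.Agent.Helper17.ro_pretrans hS
    obtain ⟨h, hh⟩ := MulAction.exists_smul_eq G a c
    intro m hm
    have h1 := hMc' _ (hMn.conj_mem m hm h)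
    rw [MulAction.mem_stabilizer_iff]
    rw [← hh] at h1
    simp only [mul_smul] at h1
    rw [inv_smul_smul] at h1
    exact smul_left_cancel h h1
  · apply le_sSup
    refine ⟨Subgroup.normalCore_normal _, ?_⟩
    rw [Nat.coprime_two_right]
    set N := (MulAction.stabilizer G a).normalCore with hN
    have hNle : N ≤ MulAction.stabilizer G a := Subgroup.normalCore_le _
    have hbot : Q ⊓ N = ⊥ := by
      rw [eq_bot_iff, ← hS.inf_eq_bot]
      intro z hz
      refine ⟨hz.1, ?_⟩
      have h1 : t⁻¹ * z * t⁻¹⁻¹ ∈ MulAction.stabilizer G a := hz.2 t⁻¹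
      rw [MulAction.mem_stabilizer_iff, inv_inv, mul_smul, mul_smul, inv_smul_eq_iff] at h1
      exact MulAction.mem_stabilizer_iff.mpr h1
    have hcard := Cfsg.Agent.Helper17.card_sup_mul_card_inf Q N
      (hNle.trans (Cfsg.Agent.Helper17.ro_D_le_normalizer hS))
    rw [hbot, Subgroup.card_bot, mul_one] at hcard
    have hdvd : Nat.card ↥(Q ⊔ N) ∣ Nat.card (MulAction.stabilizer G a) :=
      Subgroup.card_dvd_of_le (sup_le hS.le hNle)
    rw [hcard, Cfsg.Agent.Helper17.ro_card_stab hS] at hdvd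
    have hQpos : 0 < Nat.card Q := Nat.card_pos
    exact hS.odd_card.of_dvd_nat (Nat.dvd_of_mul_dvd_mul_left hQpos hdvd)

end Cfsg.Agent.S1120
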