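import Cfsg.Statements.S1137
import Mathlib
import Cfsg.Agent.Helper17.Suz2A

set_option autoImplicit false
open Cfsg

namespace Cfsg.Agent.S1137

/-- In a Suzuki 2-group `P` (a finite non-abelian 2-group with more than one involution admitting a cyclic group of automorphisms regular on its involutions) the involutions are exactly the non-identity central elements, and `Z(P)` is elementary abelian. -/
theorem result {P : Type*} [Group P] (hP : Cfsg.IsSuzukiTwoGroup P) :
    (∀ x : P, (x ≠ 1 ∧ x * x = 1) ↔ (x ∈ Subgroup.center P ∧ x ≠ 1)) ∧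
      ∀ z ∈ Subgroup.center P, z * z = 1 := by
  obtain ⟨hfin, h2, hna, ⟨x₀, -, -, hx1, hx2, -, -⟩, K, hcyc, hreg⟩ := hP
  have hcomm : ∀ a b : K, a * b = b * a := by
    intro a b
    obtain ⟨g, hg⟩ := hcyc.exists_generator
    obtain ⟨m, rfl⟩ := Subgroup.mem_zpowers_iff.mp (hg a)
    obtain ⟨n, rfl⟩ := Subgroup.mem_zpowers_iff.mp (hg b)
    rw [← zpow_add, ← zpow_add, add_comm]
  have hreg' : Cfsg.Agent.Helper17.Suz2.RegInv K P := by
    intro x y hx1 hx2 hy1 hy2
    exact hreg x y hx1 hx2 hy1 hy2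
  have hZ := Cfsg.Agent.Helper17.Suz2.center_sq_aux K hcomm (Nat.card P) P rfl h2 hreg' hna
  refine ⟨fun x => ⟨fun ⟨h1, h2'⟩ => ⟨Cfsg.Agent.Helper17.Suz2.invol_mem_center h2 hreg' h2', h1⟩,
    fun ⟨hc, h1⟩ => ⟨h1, hZ x hc⟩⟩, hZ⟩

end Cfsg.Agent.S1137
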