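import Cfsg.Statements.S1139
import Mathlib
import Cfsg.Agent.Helper17.Suz2G

set_option autoImplicit false
open Cfsg

namespace Cfsg.Agent.S1139

/-- A Suzuki 2-group `P` with `|P| = |Z(P)|²` is of type A: for some finite field `F` with `|F| = |Z(P)|` and some field automorphism `φ ≠ 1` of odd order, `P` is isomorphic to the group of lower unitriangular matrices with rows `(1,0,0)`, `(x,1,0)`, `(y, φ x, 1)`. -/
theorem result {P : Type*} [Group P] (hP : Cfsg.IsSuzukiTwoGroup P)
    (hcard : Nat.card P = Nat.card (Subgroup.center P) ^ 2) :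
    ∃ (F : Type) (_ : Field F) (_ : Fintype F) (φ : F ≃+* F), Fintype.card F = Nat.card (Subgroup.center P) ∧
      φ ≠ RingEquiv.refl F ∧ Odd (orderOf φ) ∧ Nonempty (P ≃* Cfsg.suzukiTypeA F (φ : F →+* F)) := by
  obtain ⟨hfin, h2, hna, ⟨x₀, -, -, hx1, hx2, -, -⟩, K, hcyc, hreg⟩ := hP
  have hcomm : ∀ a b : K, a * b = b * a := by
    intro a b
    obtain ⟨g, hg⟩ := hcyc.exists_generator
    obtain ⟨m, rfl⟩ := Subgroup.mem_zpowers_iff.mp (hg a)
    obtain ⟨n, rfl⟩ := Subgroup.mem_zpowers_iff.mp (hg b)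
    rw [← zpow_add, ← zpow_add, add_comm]
  have hreg' : Cfsg.Agent.Helper17.Suz2.RegInv K P := by
    intro x y hx1 hx2 hy1 hy2
    exact hreg x y hx1 hx2 hy1 hy2
  -- the order of the centre
  have hfact : Fact (Nat.Prime 2) := ⟨Nat.prime_two⟩
  obtain ⟨n, hn⟩ := (IsPGroup.iff_card (p := 2) (G := Subgroup.center P)).mp (h2.to_subgroup _)
  have hn0 : n ≠ 0 := by
    rintro rfl
    rw [pow_zero] at hn
    have hsub : Subsingleton (Subgroup.center P) := (Nat.card_eq_one_iff_unique.mp hn).1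
    have hx0c : x₀ ∈ Subgroup.center P := Cfsg.Agent.Helper17.Suz2.invol_mem_center h2 hreg' hx2
    have := Subsingleton.elim (⟨x₀, hx0c⟩ : Subgroup.center P) 1
    exact hx1 (congrArg Subtype.val this)
  let F := GaloisField 2 n
  let instFT : Fintype F := Fintype.ofFinite F
  have hF : Fintype.card F = Nat.card (Subgroup.center P) := by
    rw [← Nat.card_eq_fintype_card, GaloisField.card 2 n hn0, hn]
  obtain ⟨φ, h1, h2', h3⟩ := Cfsg.Agent.Helper17.Suz2.typeA_main hcomm h2 hreg' hna x₀ hx1 hx2 hcard F hF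
  exact ⟨F, inferInstance, instFT, φ, hF, h1, h2', h3⟩

end Cfsg.Agent.S1139
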