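import Cfsg.Statements.S1140
import Mathlib
import Cfsg.Agent.Helper17.FieldAut
-- import your own Cfsg.Agent.* helpers here

set_option autoImplicit false
open Cfsg


namespace Cfsg.Agent.S1140

/-- For a finite field `F` of characteristic 2, the automorphisms of `F`, viewed as additive maps `F → F`, are linearly independent over `F` (acting on values) every additive endomorphism of `F` is an `F`-linear combination of them, and every biadditive map `F → F → F` is an `F`-combination of the maps `(x, y) ↦ σ(x) τ(y)`. -/
theorem result {F : Type*} [Field F] [Fintype F] [CharP F 2] :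
    LinearIndependent F (fun σ : F ≃+* F => ((σ : F →+* F) : F → F)) ∧
      (∀ f : F →+ F, ∃ (s : Finset (F ≃+* F)) (c : (F ≃+* F) → F), ∀ x : F, f x = ∑ σ ∈ s, c σ * σ x) ∧
      ∀ B : F →+ F →+ F, ∃ (s : Finset ((F ≃+* F) × (F ≃+* F))) (c : (F ≃+* F) × (F ≃+* F) → F),
        ∀ x y : F, B x y = ∑ p ∈ s, c p * (p.1 x * p.2 y) := by
  classical
  let _ : Algebra (ZMod 2) F := ZMod.algebra F 2
  refine ⟨Helper17.aut_linearIndependent_fun, ?_, ?_⟩
  · intro f
    refine ⟨Finset.univ, fun σ => Helper17.autBasis.repr (f.toZModLinearMap 2) σ, fun x => ?_⟩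
    exact Helper17.autBasis_expand (f.toZModLinearMap 2) x
  · intro B
    -- coefficient of τ in B x, as an additive map of x
    let cτ : (F ≃+* F) → (F →+ F) := fun τ =>
      { toFun := fun x => Helper17.autBasis.repr ((B x).toZModLinearMap 2) τ
        map_zero' := by
          have : (B 0).toZModLinearMap 2 = 0 := by ext y; simp
          rw [this, map_zero]; rfl
        map_add' := fun x x' => by
          have : (B (x + x')).toZModLinearMap 2 =
              (B x).toZModLinearMap 2 + (B x').toZModLinearMap 2 := by
            ext y; simp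
          rw [this, map_add]; rfl }
    refine ⟨Finset.univ, fun p =>
      Helper17.autBasis.repr ((cτ p.2).toZModLinearMap 2) p.1, fun x y => ?_⟩
    rw [← Finset.univ_product_univ, Finset.sum_product_right]
    have h1 := Helper17.autBasis_expand ((B x).toZModLinearMap 2) y
    simp only [AddMonoidHom.coe_toZModLinearMap] at h1
    rw [h1]
    refine Finset.sum_congr rfl fun τ _ => ?_
    have h2 := Helper17.autBasis_expand ((cτ τ).toZModLinearMap 2) x
    simp only [AddMonoidHom.coe_toZModLinearMap] at h2
    have h3 : Helper17.autBasis.repr ((B x).toZModLinearMap 2) τ = cτ τ x := rfl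
    rw [h3, h2, Finset.sum_mul]
    refine Finset.sum_congr rfl fun σ _ => ?_
    ring

end Cfsg.Agent.S1140
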