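import Cfsg.Statements.S1160
import Mathlib
import Cfsg.Agent.Helper9.NormalElemAb
import Cfsg.Agent.Helper17.ConstStab

set_option autoImplicit false
open Cfsg

namespace Cfsg.Agent.S1160

/-- Let `p ≠ 2` be prime and `P` a finite `p`-group acting faithfully by additive automorphisms on a finite elementary abelian `q`-group `E` (`q` prime), such that `|P_a|` is the same for all `a ≠ 0`. Then `P` is cyclic and every non-identity element of `P` fixes only `0`. -/
theorem result {P E : Type*} [Group P] [Finite P]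
    [AddCommGroup E] [Finite E] [DistribMulAction P E] [FaithfulSMul P E]
    {p q : ℕ} [Fact p.Prime] (hp2 : p ≠ 2) (hP : IsPGroup p P) (hq : q.Prime) (hE : ∀ e : E, q • e = 0)
    (hconst : ∀ a b : E, a ≠ 0 → b ≠ 0 →
      Nat.card (MulAction.stabilizer P a) = Nat.card (MulAction.stabilizer P b)) :
    IsCyclic P ∧ ∀ g : P, g ≠ 1 → ∀ a : E, g • a = a → a = 0 := by
  classical
  have hp : p.Prime := Fact.out
  rcases subsingleton_or_nontrivial P with hs | hnt
  · exact ⟨inferInstance, fun g hg => absurd (Subsingleton.elim g 1) hg⟩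
  have hpq : p ≠ q := by
    intro hpq
    rw [← hpq] at hE
    rcases subsingleton_or_nontrivial E with hE1 | hE2
    · obtain ⟨g, hg⟩ := exists_ne (1 : P)
      exact hg (FaithfulSMul.eq_of_smul_eq_smul (α := E) (fun e => Subsingleton.elim _ _))
    · obtain ⟨e0, he0⟩ := exists_ne (0 : E)
      have hdvd : p ∣ Nat.card E := by
        have h1 : addOrderOf e0 ∣ p := addOrderOf_dvd_of_nsmul_eq_zero (hE e0)
        have h2 : addOrderOf e0 = p := by
          rcases (Nat.dvd_prime hp).mp h1 with h | h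
          · exact absurd (AddMonoid.addOrderOf_eq_one_iff.mp h) he0
          · exact h
        rw [← h2]; exact addOrderOf_dvd_natCard e0
      have h0 : (0 : E) ∈ MulAction.fixedPoints P E := fun g => smul_zero g
      obtain ⟨b, hb, hb0⟩ := hP.exists_fixed_point_of_prime_dvd_card_of_fixed_point E hdvd h0
      have hbtop : MulAction.stabilizer P b = ⊤ := by
        ext g
        simp only [MulAction.mem_stabilizer_iff, Subgroup.mem_top, iff_true]
        exact hb g
      have hall : ∀ e : E, e ≠ 0 → MulAction.stabilizer P e = ⊤ := by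
        intro e he
        apply Subgroup.eq_top_of_card_eq
        rw [hconst e b he (Ne.symm hb0), hbtop, Subgroup.card_top]
      obtain ⟨g, hg⟩ := exists_ne (1 : P)
      apply hg
      apply FaithfulSMul.eq_of_smul_eq_smul (α := E)
      intro e
      rw [one_smul]
      by_cases he : e = 0
      · rw [he, smul_zero]
      · have : g ∈ MulAction.stabilizer P e := by rw [hall e he]; trivial
        exact this
  have hpE : ∀ e : E, p • e = 0 → e = 0 := by
    intro e he
    have h1 : addOrderOf e ∣ p := addOrderOf_dvd_of_nsmul_eq_zero he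
    have h2 : addOrderOf e ∣ q := addOrderOf_dvd_of_nsmul_eq_zero (hE e)
    have h3 : addOrderOf e ∣ Nat.gcd p q := Nat.dvd_gcd h1 h2
    rw [(Nat.coprime_primes hp hq).mpr hpq, Nat.dvd_one] at h3
    exact AddMonoid.addOrderOf_eq_one_iff.mp h3
  have hcenfpf : ∀ z ∈ Subgroup.center P, z ^ p = 1 → z ≠ 1 → ∀ a : E, z • a = a → a = 0 :=
    fun z hz hzp hz1 => Cfsg.Agent.Helper17.central_fpf hpE hconst hz hzp hz1
  have hZfpf : ∀ z ∈ Subgroup.center P, orderOf z = p → ∀ w ∈ Subgroup.zpowers z, w ≠ 1 →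
      ∀ a : E, w • a = a → a = 0 := by
    intro z hz hzo w hw hw1
    refine hcenfpf w (Subgroup.zpowers_le.mpr hz hw) ?_ hw1
    obtain ⟨k, rfl⟩ := hw
    rw [← zpow_natCast, ← zpow_mul, mul_comm, zpow_mul, zpow_natCast, ← hzo, pow_orderOf_eq_one,
      one_zpow]
  have hcyc : IsCyclic P := by
    by_contra hnc
    obtain ⟨A, hAn, hAe, hAc⟩ := Cfsg.Agent.Helper9.exists_normal_elemAb_sq hp2 hP hnc
    haveI := hAn
    have hAne : A ≠ ⊥ := by
      intro h
      rw [h, Subgroup.card_bot] at hAc
      have := hp.one_lt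
      nlinarith
    obtain ⟨z, hzA, hzc, hz1⟩ := Cfsg.Agent.Helper23.exists_mem_inf_center_ne_one hP A hAne
    have hzp : z ^ p = 1 := hAe.2 z hzA
    have hzo : orderOf z = p := orderOf_eq_prime hzp hz1
    have hAle : ¬ A ≤ Subgroup.zpowers z := by
      intro hle
      have := Subgroup.card_le_of_le hle
      rw [hAc, Nat.card_zpowers, hzo] at this
      have := hp.one_lt
      nlinarith
    obtain ⟨x, hxA, hxZ, hcomm⟩ := Cfsg.Agent.Helper17.exists_second_center_elem hP hzc A hAle
    exact Cfsg.Agent.Helper17.noncyclic_contra hp2 hpE hconst hzc hzo (hZfpf z hzc hzo)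
      (hAe.2 x hxA) hxZ hcomm
  refine ⟨hcyc, fun g hg a hga => ?_⟩
  have hcommP : ∀ a b : P, a * b = b * a := by
    intro a b
    obtain ⟨g0, hg0⟩ := IsCyclic.exists_generator (α := P)
    obtain ⟨m, rfl⟩ := hg0 a
    obtain ⟨n, rfl⟩ := hg0 b
    exact (Commute.refl g0).zpow_zpow m n
  have hdvdP : p ∣ Nat.card P := by
    obtain ⟨n, hn0, hn⟩ := hP.nontrivial_iff_card.mp hnt
    rw [hn]; exact dvd_pow_self _ (ne_of_gt hn0)
  obtain ⟨z, hzo⟩ := exists_prime_orderOf_dvd_card' p hdvdP
  have hzc : z ∈ Subgroup.center P := Subgroup.mem_center_iff.mpr (fun g => hcommP g z)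
  have hz1 : z ≠ 1 := by
    rintro rfl
    rw [orderOf_one] at hzo
    exact hp.one_lt.ne hzo
  -- an element of order p in zpowers g
  have hog : p ∣ Nat.card (Subgroup.zpowers g) := by
    rw [Nat.card_zpowers]
    obtain ⟨k, hk⟩ := hP g
    obtain ⟨j, -, hj⟩ := (Nat.dvd_prime_pow hp).mp (orderOf_dvd_of_pow_eq_one hk)
    rw [hj]
    rcases j with _ | j
    · rw [pow_zero, orderOf_eq_one_iff] at hj
      exact absurd hj hg
    · exact dvd_pow_self _ (Nat.succ_ne_zero j)
  obtain ⟨w, hwo⟩ := exists_prime_orderOf_dvd_card' p hog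
  have hwo' : orderOf (w : P) = p := by rw [Subgroup.orderOf_coe]; exact hwo
  have hzw : z ∈ Subgroup.zpowers (w : P) :=
    Cfsg.Agent.Helper17.mem_zpowers_of_orderOf_eq_of_pow hp.pos (w : P) z hwo'
      (by rw [← hzo]; exact pow_orderOf_eq_one z)
  have hzg : z ∈ Subgroup.zpowers g := (Subgroup.zpowers_le.mpr w.2) hzw
  have hstab : Subgroup.zpowers g ≤ MulAction.stabilizer P a := Subgroup.zpowers_le.mpr hga
  exact hcenfpf z hzc (by rw [← hzo]; exact pow_orderOf_eq_one z) hz1 a (hstab hzg)

end Cfsg.Agent.S1160
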