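import Mathlib
import Cfsg.Statements.S1166
import Cfsg.Agent.Helper17.RankOne
-- import your own Cfsg.Agent.* helpers here

set_option autoImplicit false
set_option linter.unusedSimpArgs false
open Cfsg

namespace Cfsg.Agent.S1166

/-- In the rank-one set-up (`G` finite and doubly transitive on `Ω`, `t` an involution moving `a`, `Q` normal in `G_a` with `G_a = Q D`, `Q ⊓ D = 1` for the two-point stabiliser `D = G_a ⊓ G_{t • a}`, `|Q|` even, `|D|` odd), with `t x t = g_x h_x t f_x` and `t y t = g_y h_y t f_y` (`g, f ∈ Q`, `h ∈ D`) for `x, y ∈ Q ∖ 1` with `x y ≠ 1`: then `z = f_x g_y ≠ 1`, and if `t z t = g_z h_z t f_z` and `t (x y) t = g' h' t f'` then `f' = (t h_y t)⁻¹ f_z (t h_y t) f_y` and `h' = h_x h_z h_y` (H6). -/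
theorem result {G Ω : Type*} [Group G] [Finite G] [MulAction G Ω] {a : Ω} {t : G} {Q : Subgroup G}
    (hS : Cfsg.IsRankOneSetup G Ω a t Q)
    (x y gx hx fx gy hy fy : G) (hxQ : x ∈ Q) (hx1 : x ≠ 1) (hyQ : y ∈ Q) (hy1 : y ≠ 1) (hxy : x * y ≠ 1)
    (hgx : gx ∈ Q) (hhx : hx ∈ (MulAction.stabilizer G a ⊓ MulAction.stabilizer G (t • a))) (hfx : fx ∈ Q) (ex : t * x * t = gx * hx * t * fx)
    (hgy : gy ∈ Q) (hhy : hy ∈ (MulAction.stabilizer G a ⊓ MulAction.stabilizer G (t • a))) (hfy : fy ∈ Q) (ey : t * y * t = gy * hy * t * fy) :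
    fx * gy ≠ 1 ∧
      ∀ gz hz fz g' h' f' : G, gz ∈ Q → hz ∈ (MulAction.stabilizer G a ⊓ MulAction.stabilizer G (t • a)) → fz ∈ Q → t * (fx * gy) * t = gz * hz * t * fz →
        g' ∈ Q → h' ∈ (MulAction.stabilizer G a ⊓ MulAction.stabilizer G (t • a)) → f' ∈ Q → t * (x * y) * t = g' * h' * t * f' →
          f' = (t * hy * t)⁻¹ * fz * (t * hy * t) * fy ∧ h' = hx * hz * hy := by
  have ht : t⁻¹ = t := Cfsg.Agent.Helper17.ro_t_inv hS
  have htt : ∀ z : G, t * (t * z) = z := Cfsg.Agent.Helper17.ro_tt_mul hS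
  have htt1 : t * t = 1 := hS.mul_self
  have hxeq : x = t * (gx * hx * t * fx) * t := by
    rw [← ex]; simp only [mul_assoc, htt, htt1, mul_one]
  have hyeq : y = t * (gy * hy * t * fy) * t := by
    rw [← ey]; simp only [mul_assoc, htt, htt1, mul_one]
  subst hxeq
  subst hyeq
  have hthy := Cfsg.Agent.Helper17.ro_t_conj_D hS hhy
  constructor
  · intro h1
    have hgy : gy = fx⁻¹ := eq_inv_of_mul_eq_one_right h1
    subst hgy
    apply hxy
    have hmem : t * (t * (gx * hx * t * fx) * t * (t * (fx⁻¹ * hy * t * fy) * t)) * t ∈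
        MulAction.stabilizer G a := by
      have : t * (t * (gx * hx * t * fx) * t * (t * (fx⁻¹ * hy * t * fy) * t)) * t =
          gx * hx * (t * hy * t) * fy := by
        simp only [mul_assoc, mul_inv_rev, inv_inv, ht, htt, htt1, mul_one, inv_mul_cancel_left,
          mul_inv_cancel_left]
      rw [this]
      exact mul_mem (mul_mem (mul_mem (hS.le hgx) hhx.1) hthy.1) (hS.le hfy)
    have h2 : (t * (gx * hx * t * fx) * t * (t * (fx⁻¹ * hy * t * fy) * t)) • t • a = t • a := by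
      have h3 := MulAction.mem_stabilizer_iff.mp hmem
      rw [mul_smul, mul_smul] at h3
      have h4 : t • t • (t * (gx * hx * t * fx) * t * (t * (fx⁻¹ * hy * t * fy) * t)) • t • a
          = t • a := congrArg (fun z => t • z) h3
      rw [Cfsg.Agent.Helper17.ro_tt_smul hS] at h4
      exact h4
    exact Cfsg.Agent.Helper17.ro_semireg hS (Q.mul_mem hxQ hyQ) (Cfsg.Agent.Helper17.ro_ta_ne hS) h2
  · intro gz hz fz g' h' f' hgz hhz hfz ez hg' hh' hf' e
    have hfxeq : fx = t * (gz * hz * t * fz) * t * gy⁻¹ := by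
      rw [← ez]; simp only [mul_assoc, htt, htt1, mul_one, mul_inv_cancel, mul_inv_cancel_left]
    subst hfxeq
    have e' : g' * h' * t * f' = (gx * (hx * gz * hx⁻¹)) * (hx * hz * hy) * t *
        ((t * hy * t)⁻¹ * fz * (t * hy * t) * fy) := by
      rw [← e]
      simp only [mul_assoc, mul_inv_rev, inv_inv, ht, htt, htt1, mul_one, inv_mul_cancel_left,
        mul_inv_cancel_left]
    obtain ⟨-, h2, h3⟩ := Cfsg.Agent.Helper17.ro_canon_unique hS hg' hh' hf'
      (Q.mul_mem hgx (hS.conj_mem hx hhx.1 gz hgz))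
      (mul_mem (mul_mem hhx hhz) hhy)
      (Q.mul_mem (Cfsg.Agent.Helper17.ro_conj_mem' hS hthy.1 hfz) hfy) e'
    exact ⟨h3, h2⟩

end Cfsg.Agent.S1166
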