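import Mathlib
import Cfsg.Statements.S1167
import Cfsg.Agent.S0885
import Cfsg.Agent.Helper3.FeitCor
import Cfsg.Agent.Helper4.Zassenhaus3
import Cfsg.Agent.Helper4.Zassenhaus

set_option autoImplicit false
set_option linter.style.haveILetI false
open Cfsg

namespace Cfsg.Agent.S1167

/-- Let `G` be a finite simple Zassenhaus group on `Ω`, `U` a normal subgroup of `G_a` regular on `Ω` minus `a` which is an abelian 2-group, and `v` an involution with `v • a ≠ a`. Then there is a unique `u₀ ∈ U`, `u₀ ≠ 1`, with `v u₀ v = u₀ v u₀`. -/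
theorem result {G Ω : Type*} [Group G] [Finite G] [MulAction G Ω] [Finite Ω]
    (hZ : Cfsg.IsZassenhausGroup G Ω) [IsSimpleGroup G] {a : Ω}
    (U : Subgroup G) (hUle : U ≤ MulAction.stabilizer G a)
    (hUn : ∀ h ∈ MulAction.stabilizer G a, ∀ u ∈ U, h * u * h⁻¹ ∈ U)
    (hreg : ∀ c d : Ω, c ≠ a → d ≠ a → ∃! u : U, (u : G) • c = d)
    (hU2 : IsPGroup 2 U) (hUab : ∀ u ∈ U, ∀ u' ∈ U, u * u' = u' * u)
    (v : G) (hv1 : v ≠ 1) (hv2 : v * v = 1) (hva : v • a ≠ a) :
    ∃! u₀ : G, u₀ ∈ U ∧ u₀ ≠ 1 ∧ v * u₀ * v = u₀ * v * u₀ := by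
  classical
  letI : Fintype Ω := Fintype.ofFinite Ω
  have hn3 := Cfsg.Agent.Helper5.Zassenhaus.three_le_card hZ
  obtain ⟨b, hb⟩ : ∃ b : Ω, b = v • a := ⟨_, rfl⟩
  have hvab : v • a = b := hb.symm
  have hab : a ≠ b := by
    rw [hb]
    exact Ne.symm hva
  have hvb : v • b = a := by rw [hb, ← mul_smul, hv2, one_smul]
  have hvord : orderOf v = 2 := orderOf_eq_prime (by rw [pow_two]; exact hv2) hv1
  -- the kernel `U`
  obtain ⟨hUcard, hUfix⟩ := Cfsg.Agent.Helper3.Feit.kernel_facts hab U hUle hreg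
  have hUn' : (U.subgroupOf (MulAction.stabilizer G a)).Normal := by
    constructor
    intro n hn g
    rw [Subgroup.mem_subgroupOf] at hn ⊢
    exact hUn g g.2 n hn
  obtain ⟨k, hk⟩ := IsPGroup.exists_card_eq hU2
  have hk0 : k ≠ 0 := by
    rintro rfl
    rw [pow_zero] at hk
    omega
  have hnodd : Odd (Fintype.card Ω) := by
    rw [← hUcard, hk]
    exact Even.add_one ((Nat.even_pow' hk0).2 even_two)
  -- `d` is odd
  set d := Nat.card ↥(MulAction.stabilizer G a ⊓ MulAction.stabilizer G b) with hd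
  have hdodd : Odd d := by
    rw [← Nat.not_even_iff_odd]
    intro heven
    haveI : Fact (Nat.Prime 2) := ⟨Nat.prime_two⟩
    obtain ⟨z, hz⟩ := exists_prime_orderOf_dvd_card'
      (G := ↥(MulAction.stabilizer G a ⊓ MulAction.stabilizer G b)) 2 heven.two_dvd
    have hz' : orderOf (z : G) = 2 := by rw [Subgroup.orderOf_coe]; exact hz
    have hz1 : (z : G) ≠ 1 := by
      intro e; rw [e, orderOf_one] at hz'; omega
    have hza : (z : G) • a = a := z.2.1
    have hzb : (z : G) • b = b := z.2.2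
    have hle := Cfsg.Agent.Helper4.zassenhaus_card_fixedBy_le_two hZ (z : G) hz1
    have hmod := Cfsg.Agent.Helper4.card_modEq_card_fixedBy_of_orderOf_two (Ω := Ω) (z : G) hz'
    rw [Nat.card_eq_fintype_card] at hmod
    have hge : 2 ≤ Nat.card (MulAction.fixedBy Ω (z : G)) := by
      rw [Nat.card_coe_set_eq]
      have hsub : ({a, b} : Set Ω) ⊆ MulAction.fixedBy Ω (z : G) := by
        intro x hx
        rcases hx with rfl | rfl
        · exact hza
        · exact hzb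
      calc 2 = ({a, b} : Set Ω).ncard := (Set.ncard_pair hab).symm
        _ ≤ _ := Set.ncard_le_ncard hsub (Set.toFinite _)
    have h2 : Nat.card (MulAction.fixedBy Ω (z : G)) = 2 := le_antisymm hle hge
    rw [h2] at hmod
    have : Fintype.card Ω % 2 = 0 := hmod
    rw [Nat.odd_iff] at hnodd
    omega
  -- Feit's theorem
  have hfeit : Fintype.card Ω - 2 ≤ 2 * d := by
    rcases Cfsg.Agent.S0885.result hZ hab (Fintype.card Ω - 1) d (by omega) rfl hdodd
      U hUle hUcard hUfix with hle | ⟨-, ⟨u, u', huu⟩, -⟩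
    · omega
    · exact absurd (Subtype.ext (hUab u u.2 u' u'.2)) huu
  -- `U` is elementary abelian
  obtain ⟨-, p, f, hp, hexp, hΩ⟩ := Cfsg.Agent.Helper4.zassenhaus_kernel_elementary hZ hab hfeit
    U hUle hUn' hreg
  have hp2 : p = 2 := by
    have h1 : p ^ f = 2 ^ k := by omega
    have hf0 : f ≠ 0 := by
      rintro rfl
      rw [pow_zero] at hΩ
      omega
    have h2 : p ∣ 2 ^ k := by
      rw [← h1]
      exact dvd_pow_self p hf0
    exact (Nat.prime_dvd_prime_iff_eq hp Nat.prime_two).1 (hp.dvd_of_dvd_pow h2)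
  subst hp2
  -- the fixed point of `v`
  obtain ⟨-, hfixv, -⟩ := Cfsg.Agent.Helper4.zassenhaus_involutions hZ hab
  have hfix1 := (hfixv v hvord hvab hvb).1 hnodd
  rw [Nat.card_eq_one_iff_exists] at hfix1
  obtain ⟨⟨f₀, hf₀⟩, hf₀u⟩ := hfix1
  have hvf : v • f₀ = f₀ := hf₀
  have hf₀a : f₀ ≠ a := by
    rintro rfl
    exact hva hvf
  have hf₀b : f₀ ≠ b := by
    rintro rfl
    rw [hvb] at hvf
    exact hab hvf
  have hvfix : ∀ c : Ω, v • c = c → c = f₀ := by
    intro c hc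
    have := hf₀u ⟨c, hc⟩
    exact congrArg Subtype.val this
  obtain ⟨u₀, hu₀, hu₀u⟩ := hreg b f₀ (Ne.symm hab) hf₀a
  have hu₀b : (u₀ : G) • b = f₀ := hu₀
  have hu₀a : (u₀ : G) • a = a := hUle u₀.2
  have hu₀sq : (u₀ : G) * (u₀ : G) = 1 := by
    have := hexp u₀ u₀.2
    rwa [pow_two] at this
  have hu₀f : (u₀ : G) • f₀ = b := by
    rw [← hu₀b, ← mul_smul, hu₀sq, one_smul]
  have hu₀1 : (u₀ : G) ≠ 1 := by
    intro h
    rw [h, one_smul] at hu₀b
    exact hf₀b hu₀b.symm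
  refine ⟨u₀, ⟨u₀.2, hu₀1, ?_⟩, ?_⟩
  · have hLa : ((u₀ : G) * v * (u₀ : G)) • a = f₀ := by
      rw [mul_smul, mul_smul, hu₀a, hvab, hu₀b]
    have hRa : (v * (u₀ : G) * v) • a = f₀ := by
      rw [mul_smul, mul_smul, hvab, hu₀b, hvf]
    have hLb : ((u₀ : G) * v * (u₀ : G)) • b = b := by
      rw [mul_smul, mul_smul, hu₀b, hvf, hu₀f]
    have hRb : (v * (u₀ : G) * v) • b = b := by
      rw [mul_smul, mul_smul, hvb, hu₀a, hvab]
    have hLf : ((u₀ : G) * v * (u₀ : G)) • f₀ = a := by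
      rw [mul_smul, mul_smul, hu₀f, hvb, hu₀a]
    have hRf : (v * (u₀ : G) * v) • f₀ = a := by
      rw [mul_smul, mul_smul, hvf, hu₀f, hvb]
    have h1 : (v * (u₀ : G) * v)⁻¹ * ((u₀ : G) * v * (u₀ : G)) = 1 := by
      apply Cfsg.Agent.Helper5.Zassenhaus.eq_one_of_fix3 hZ hab (Ne.symm hf₀b) (Ne.symm hf₀a)
      · rw [mul_smul, inv_smul_eq_iff, hLa, hRa]
      · rw [mul_smul, inv_smul_eq_iff, hLb, hRb]
      · rw [mul_smul, inv_smul_eq_iff, hLf, hRf]
    exact inv_mul_eq_one.1 h1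
  · rintro u ⟨huU, hu1, hrel⟩
    have hua : u • a = a := hUle huU
    have h1 : v • (u • b) = u • b := by
      have := congrArg (fun g : G => g • a) hrel
      simp only [mul_smul, hua, hvab] at this
      exact this
    have h2 : u • b = f₀ := hvfix _ h1
    have := hu₀u ⟨u, huU⟩ h2
    exact congrArg Subtype.val this

end Cfsg.Agent.S1167
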