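import Mathlib
import Cfsg.Statements.S1176

set_option autoImplicit false
open Cfsg
open scoped commutatorElement

namespace Cfsg.Agent.S1176

variable {G : Type*} [Group G]

theorem inv_eq_self_of_sq {x : G} (hx : x * x = 1) : x⁻¹ = x :=
  inv_eq_of_mul_eq_one_left hx

theorem x_mul_pow {x y : G} (hx : x * x = 1) (hy : y * y = 1) (n : ℕ) :
    x * (x * y) ^ n = ((x * y)⁻¹) ^ n * x := by
  have hxi := inv_eq_self_of_sq hx
  have hyi := inv_eq_self_of_sq hy
  have h1 : x * (x * y) * x⁻¹ = (x * y)⁻¹ := by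
    rw [mul_inv_rev, hxi, hyi, ← mul_assoc, hx, one_mul]
  have h2 : x * (x * y) ^ n * x⁻¹ = ((x * y)⁻¹) ^ n := by
    rw [← conj_pow, h1]
  rw [← h2, hxi, mul_assoc (x * (x * y) ^ n), hx, mul_one]

theorem conj_even {x y : G} (hx : x * x = 1) (hy : y * y = 1) (j : ℕ) :
    IsConj x (x * (x * y) ^ (2 * j)) := by
  rw [isConj_iff]
  refine ⟨((x * y) ^ j)⁻¹, ?_⟩
  rw [inv_inv, two_mul, pow_add, ← mul_assoc, x_mul_pow hx hy, inv_pow]

theorem conj_odd {x y : G} (hx : x * x = 1) (hy : y * y = 1) (j : ℕ) :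
    IsConj y (x * (x * y) ^ (2 * j + 1)) := by
  rw [isConj_iff]
  refine ⟨((x * y) ^ j)⁻¹, ?_⟩
  have e : (x * y) ^ (2 * j + 1) = (x * y) ^ j * (x * y) * (x * y) ^ j := by
    rw [← pow_succ, ← pow_add]; congr 1; ring
  rw [inv_inv, e, ← mul_assoc, ← mul_assoc, x_mul_pow hx hy, inv_pow]
  congr 1
  rw [mul_assoc, ← mul_assoc x x y, hx, one_mul]

/-- Let x₀ be an involution of the finite group G and D its conjugacy class. Assume (a) for each x ∈ D the subgroup W(x) generated by the members of D commuting with x is a 2-group of nilpotency class at most 2, and (b) the product of two distinct commuting members of D again lies in D. Then for all x, y ∈ D, if xy has even order greater than 2, its order is 4. -/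
theorem result {G : Type*} [Group G] [Finite G] (x₀ : G) (hx₀ : orderOf x₀ = 2) (ha : ∀ x : G, IsConj x₀ x → IsPGroup 2 ↥(Subgroup.closure {y : G | IsConj x₀ y ∧ Commute y x}) ∧ ⁅⁅Subgroup.closure {y : G | IsConj x₀ y ∧ Commute y x}, Subgroup.closure {y : G | IsConj x₀ y ∧ Commute y x}⁆, Subgroup.closure {y : G | IsConj x₀ y ∧ Commute y x}⁆ = ⊥) (hb : ∀ x y : G, IsConj x₀ x → IsConj x₀ y → x ≠ y → Commute x y → IsConj x₀ (x * y)) (x y : G) (hx : IsConj x₀ x) (hy : IsConj x₀ y) (heven : Even (orderOf (x * y))) (hgt : 2 < orderOf (x * y)) : orderOf (x * y) = 4 := by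
  have hsq : ∀ z : G, IsConj x₀ z → z * z = 1 := by
    intro z hz
    obtain ⟨c, hc⟩ := isConj_iff.1 hz
    have h0 : x₀ * x₀ = 1 := by rw [← pow_two, ← hx₀, pow_orderOf_eq_one]
    rw [← hc]
    calc c * x₀ * c⁻¹ * (c * x₀ * c⁻¹) = c * (x₀ * x₀) * c⁻¹ := by group
      _ = 1 := by rw [h0]; group
  have hxx := hsq x hx
  have hyy := hsq y hy
  have hxi := inv_eq_self_of_sq hxx
  have hyi := inv_eq_self_of_sq hyy
  obtain ⟨k, hk⟩ := heven
  set r := x * y with hr
  set w := r ^ k with hw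
  have hk2 : 2 ≤ k := by omega
  have hw1 : w ≠ 1 := by
    intro h
    have := orderOf_dvd_of_pow_eq_one h
    have hpos : 0 < k := by omega
    have := Nat.le_of_dvd hpos this
    omega
  have hw2 : w * w = 1 := by
    rw [hw, ← pow_add, ← hk, pow_orderOf_eq_one]
  have hwi : w⁻¹ = w := inv_eq_self_of_sq hw2
  -- w commutes with x
  have hxw : x * w = w * x := by
    rw [hw, hr, x_mul_pow hxx hyy, inv_pow, ← hr, ← hw, hwi]
  have hyw : y * w = w * y := by
    -- y * r^k = (r⁻¹)^k * y, using symmetric version with (y, x): y * (y*x)^k = ((y*x)⁻¹)^k * y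
    have h1 := x_mul_pow hyy hxx k
    have h2 : (y * x) = r⁻¹ := by rw [hr, mul_inv_rev, hxi, hyi]
    rw [h2, inv_inv, inv_pow, ← hw, hwi] at h1
    -- h1 : y * w = w * y   (after w⁻¹ = w)
    exact h1
  -- x * w is conjugate to x₀
  have hxwD : IsConj x₀ (x * w) := by
    rcases Nat.even_or_odd' k with ⟨j, hj | hj⟩
    · rw [hw, hj]; exact hx.trans (conj_even hxx hyy j)
    · rw [hw, hj]; exact hy.trans (conj_odd hxx hyy j)
  have hne : x ≠ x * w := by
    intro h
    apply hw1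
    have : x * 1 = x * w := by rw [mul_one]; exact h
    exact (mul_left_cancel this).symm
  have hcomm : Commute x (x * w) := by
    show x * (x * w) = x * w * x
    rw [mul_assoc, hxw]
  have hwD : IsConj x₀ w := by
    have := hb x (x * w) hx hxwD hne hcomm
    rwa [← mul_assoc, hxx, one_mul] at this
  obtain ⟨_, hcl⟩ := ha w hwD
  set W := Subgroup.closure {y : G | IsConj x₀ y ∧ Commute y w} with hW
  have hxW : x ∈ W := Subgroup.subset_closure ⟨hx, hxw⟩
  have hyW : y ∈ W := Subgroup.subset_closure ⟨hy, hyw⟩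
  have h3 : ⁅⁅x, y⁆, x⁆ ∈ ⁅⁅W, W⁆, W⁆ :=
    Subgroup.commutator_mem_commutator (Subgroup.commutator_mem_commutator hxW hyW) hxW
  rw [hcl, Subgroup.mem_bot] at h3
  have h4 : r ^ 4 = 1 := by
    have e1 : ⁅x, y⁆ = r ^ 2 := by
      rw [commutatorElement_def, hxi, hyi, pow_two, hr]; group
    have e2 : x * (r ^ 2)⁻¹ * x⁻¹ = r ^ 2 := by
      have := x_mul_pow hxx hyy 2
      rw [← hr] at this
      rw [← inv_pow, hxi]
      have h5 : x * r⁻¹ ^ 2 * x = x * (r⁻¹ ^ 2 * x) := by group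
      rw [h5, ← this, ← mul_assoc, hxx, one_mul]
    rw [commutatorElement_def, e1, mul_assoc (r ^ 2), mul_assoc (r^2)] at h3
    rw [e2, ← pow_add] at h3
    exact h3
  have hd : orderOf r ∣ 4 := orderOf_dvd_of_pow_eq_one h4
  have hle : orderOf r ≤ 4 := Nat.le_of_dvd (by norm_num) hd
  interval_cases h : orderOf r
  · norm_num at hd
  · rfl

end Cfsg.Agent.S1176
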