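import Cfsg.Statements.S1177
import Cfsg.Agent.Helper18.TIWeaklyClosed

set_option autoImplicit false
open Cfsg

namespace Cfsg.Agent.S1177

/-- Let A be a nontrivial elementary abelian 2-subgroup of a finite group G which is a T.I. set (each conjugate of A meets A trivially or equals A) and which does not commute elementwise with any conjugate of A other than A itself. Then for every a ∈ A, a ≠ 1, every conjugate of A contained in C_G(a) is equal to A (A is weakly closed in C_G(a)). -/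
theorem result {G : Type*} [Group G] [Finite G] (A : Subgroup G) (hA : Cfsg.IsElementaryAbelian 2 A) (hA1 : A ≠ ⊥) (hTI : ∀ g : G, A.map (MulAut.conj g).toMonoidHom ⊓ A = ⊥ ∨ A.map (MulAut.conj g).toMonoidHom = A) (hb : ∀ g : G, (∀ a ∈ A, ∀ b ∈ A.map (MulAut.conj g).toMonoidHom, a * b = b * a) → A.map (MulAut.conj g).toMonoidHom = A) (a : G) (ha : a ∈ A) (ha1 : a ≠ 1) (g : G) (hg : A.map (MulAut.conj g).toMonoidHom ≤ Subgroup.centralizer ({a} : Set G)) : A.map (MulAut.conj g).toMonoidHom = A := by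
  have hcomm : ∀ x ∈ A, ∀ y ∈ A, x * y = y * x := by
    intro x hx y hy
    exact congrArg Subtype.val (hA.1.is_comm.comm (⟨x, hx⟩ : A) ⟨y, hy⟩)
  have hexp : ∀ x ∈ A, x * x = 1 := by
    intro x hx
    rw [← pow_two]; exact hA.2 x hx
  have hTI' : ∀ h : G, (∃ x, x ≠ 1 ∧ x ∈ A ∧ h⁻¹ * x * h ∈ A) → ∀ y, (h⁻¹ * y * h ∈ A ↔ y ∈ A) := by
    rintro h ⟨x, hx1, hxA, hxh⟩ y
    rcases hTI h with h0 | h0
    · exfalso
      apply hx1
      have : x ∈ A.map (MulAut.conj h).toMonoidHom ⊓ A :=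
        Subgroup.mem_inf.2 ⟨(Cfsg.Agent.Helper18.mem_map_conj_iff' A h x).2 hxh, hxA⟩
      rw [h0, Subgroup.mem_bot] at this
      exact this
    · rw [← Cfsg.Agent.Helper18.mem_map_conj_iff' A h y, h0]
  have hB' : ∀ h : G, (∀ a ∈ A, ∀ b, h⁻¹ * b * h ∈ A → a * b = b * a) →
      ∀ y, (h⁻¹ * y * h ∈ A ↔ y ∈ A) := by
    intro h hh y
    have h0 := hb h (fun a ha b hb' => hh a ha b ((Cfsg.Agent.Helper18.mem_map_conj_iff' A h b).1 hb'))
    rw [← Cfsg.Agent.Helper18.mem_map_conj_iff' A h y, h0]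
  have hg' : ∀ b, g⁻¹ * b * g ∈ A → b * a = a * b := by
    intro b hb'
    have h1 := hg ((Cfsg.Agent.Helper18.mem_map_conj_iff' A g b).2 hb')
    rw [Subgroup.mem_centralizer_singleton_iff] at h1
    exact h1
  ext y
  rw [Cfsg.Agent.Helper18.mem_map_conj_iff' A g y]
  exact Cfsg.Agent.Helper18.ti_weakly_closed_core A hcomm hexp hTI' hB' a ha ha1 g hg' y

end Cfsg.Agent.S1177
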