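import Mathlib
import Cfsg.Statements.S1178

set_option autoImplicit false
open Cfsg

namespace Cfsg.Agent.S1178

theorem map_conj_map_conj {G : Type*} [Group G] (A : Subgroup G) (g h : G) :
    (A.map (MulAut.conj g).toMonoidHom).map (MulAut.conj h).toMonoidHom
      = A.map (MulAut.conj (h * g)).toMonoidHom := by
  rw [Subgroup.map_map]
  congr 1
  ext x
  simp [mul_assoc]

/-- Let A be a subgroup of a Sylow 2-subgroup S of the finite group G which is weakly closed in S. If a conjugate g A g⁻¹ commutes elementwise with A, then g A g⁻¹ = A. -/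
theorem result {G : Type*} [Group G] [Finite G] (S : Sylow 2 G) (A : Subgroup G) (hW : Cfsg.IsWeaklyClosed A (S : Subgroup G)) (g : G) (hc : ∀ a ∈ A, ∀ b ∈ A.map (MulAut.conj g).toMonoidHom, a * b = b * a) : A.map (MulAut.conj g).toMonoidHom = A := by
  have : Fact (Nat.Prime 2) := ⟨Nat.prime_two⟩
  obtain ⟨hAS, hwc⟩ := hW
  set B := A.map (MulAut.conj g).toMonoidHom with hB
  have hA2 : IsPGroup 2 A := S.2.to_le hAS
  have hB2 : IsPGroup 2 B := hA2.map _
  have hBN : B ≤ Subgroup.normalizer (A : Set G) := by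
    intro b hb
    rw [Subgroup.mem_normalizer_iff]
    intro a
    constructor
    · intro ha
      have := hc a ha b hb
      have h2 : b * a * b⁻¹ = a := by rw [← this]; group
      rw [h2]; exact ha
    · intro ha
      have := hc _ ha b hb
      have h2 : a = b * a * b⁻¹ := by
        have h3 : b * a * b⁻¹ * b = b * (b * a * b⁻¹) := this
        have h4 : b * a = b * (b * a * b⁻¹) := by rw [← h3]; group
        exact mul_left_cancel h4
      rw [h2]; exact ha
  have hAB : IsPGroup 2 (B ⊔ A : Subgroup G) := IsPGroup.to_sup_of_normal_right' hB2 hA2 hBN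
  obtain ⟨Q, hQ⟩ := hAB.exists_le_sylow
  obtain ⟨h, hh⟩ := MulAction.exists_smul_eq G Q S
  -- h • Q = S
  have hQS : ∀ x ∈ Q, h * x * h⁻¹ ∈ S := by
    intro x hx
    rw [← hh]
    show h * x * h⁻¹ ∈ ((h • Q : Sylow 2 G) : Subgroup G)
    rw [Sylow.coe_subgroup_smul]
    exact Subgroup.smul_mem_pointwise_smul x (MulAut.conj h) _ hx
  have h1 : A.map (MulAut.conj h).toMonoidHom ≤ S := by
    rintro _ ⟨a, ha, rfl⟩
    exact hQS a (hQ (Subgroup.mem_sup_right ha))
  have h2 : B.map (MulAut.conj h).toMonoidHom ≤ S := by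
    rintro _ ⟨b, hb, rfl⟩
    exact hQS b (hQ (Subgroup.mem_sup_left hb))
  have e1 := hwc h h1
  rw [hB, map_conj_map_conj] at h2
  have e2 := hwc (h * g) h2
  have e3 : (A.map (MulAut.conj g).toMonoidHom).map (MulAut.conj h).toMonoidHom = A.map (MulAut.conj h).toMonoidHom := by
    rw [map_conj_map_conj, e2, e1]
  exact Subgroup.map_injective (MulAut.conj h).injective e3

end Cfsg.Agent.S1178
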