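import Cfsg.Statements.S1183
import Cfsg.Agent.Helper18.IsolatedTransfer

set_option autoImplicit false
open Cfsg

namespace Cfsg.Agent.S1183

/-- Let z be an isolated involution of the finite group G and C = C_G(z). Then the subgroup of G generated by its elements of odd order is all of G if and only if the subgroup of C generated by its elements of odd order is all of C. -/
theorem result {G : Type*} [Group G] [Finite G] (z : G) (hz : Cfsg.IsIsolatedInvolution z) : Cfsg.pResidual 2 G = ⊤ ↔ Cfsg.pResidual 2 ↥(Subgroup.centralizer ({z} : Set G)) = ⊤ := by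
  classical
  have hp2 : Fact (Nat.Prime 2) := ⟨Nat.prime_two⟩
  constructor
  · intro hG
    by_contra hC
    have hN : (Cfsg.pResidual 2 ↥(Subgroup.centralizer ({z} : Set G))).Normal :=
      Cfsg.Agent.Helper18.pResidual_normal 2
    have hQ : IsPGroup 2 (↥(Subgroup.centralizer ({z} : Set G)) ⧸
        Cfsg.pResidual 2 ↥(Subgroup.centralizer ({z} : Set G))) :=
      Cfsg.Agent.Helper18.isPGroup_quotient_pResidual 2
    have hQnt : Nontrivial (↥(Subgroup.centralizer ({z} : Set G)) ⧸
        Cfsg.pResidual 2 ↥(Subgroup.centralizer ({z} : Set G))) :=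
      QuotientGroup.nontrivial_iff.2 hC
    have hQnil : Group.IsNilpotent (↥(Subgroup.centralizer ({z} : Set G)) ⧸
        Cfsg.pResidual 2 ↥(Subgroup.centralizer ({z} : Set G))) := hQ.isNilpotent
    have hcomm := Group.IsSolvable.commutator_lt_top_of_nontrivial (↥(Subgroup.centralizer ({z} : Set G)) ⧸
        Cfsg.pResidual 2 ↥(Subgroup.centralizer ({z} : Set G)))
    have hAnt : Nontrivial (Abelianization (↥(Subgroup.centralizer ({z} : Set G)) ⧸
        Cfsg.pResidual 2 ↥(Subgroup.centralizer ({z} : Set G)))) :=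
      QuotientGroup.nontrivial_iff.2 hcomm.ne
    have hA : IsPGroup 2 (Abelianization (↥(Subgroup.centralizer ({z} : Set G)) ⧸
        Cfsg.pResidual 2 ↥(Subgroup.centralizer ({z} : Set G)))) :=
      hQ.to_quotient _
    -- the homomorphism
    obtain ⟨ϕ, hϕ⟩ : ∃ ϕ : ↥(Subgroup.centralizer ({z} : Set G)) →*
        Abelianization (↥(Subgroup.centralizer ({z} : Set G)) ⧸
        Cfsg.pResidual 2 ↥(Subgroup.centralizer ({z} : Set G))), Function.Surjective ϕ :=
      ⟨(Abelianization.of).comp (QuotientGroup.mk' _),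
        (QuotientGroup.mk_surjective).comp (QuotientGroup.mk'_surjective _)⟩
    -- the transfer kills everything
    have hV : ∀ g : G, MonoidHom.transfer ϕ g = 1 := by
      intro g
      have hg : g ∈ Cfsg.pResidual 2 G := by rw [hG]; trivial
      have hle : Cfsg.pResidual 2 G ≤ (MonoidHom.transfer ϕ).ker := by
        unfold Cfsg.pResidual
        rw [Subgroup.closure_le]
        intro x hx
        have hx' : Nat.Coprime (orderOf x) 2 := hx
        rw [SetLike.mem_coe, MonoidHom.mem_ker]
        obtain ⟨k, hk⟩ := (IsPGroup.iff_orderOf.1 hA) (MonoidHom.transfer ϕ x)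
        have hdvd : orderOf (MonoidHom.transfer ϕ x) ∣ orderOf x := orderOf_map_dvd _ x
        by_cases hk0 : k = 0
        · rw [hk0, pow_zero, orderOf_eq_one_iff] at hk
          exact hk
        · exfalso
          have h2 : 2 ∣ orderOf x := (dvd_pow_self 2 hk0).trans (hk ▸ hdvd)
          have := Nat.Coprime.eq_one_of_dvd hx'.symm h2
          omega
      exact MonoidHom.mem_ker.1 (hle hg)
    have hodd := Cfsg.Agent.Helper18.IsIsolated.odd_index_centralizer hz
    have hϕ1 : ∀ u, ϕ u = 1 := by
      intro u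
      have h1 := Cfsg.Agent.Helper18.IsIsolated.transfer_eq_pow hz ϕ u
      rw [hV] at h1
      obtain ⟨k, hk⟩ := (IsPGroup.iff_orderOf.1 hA) (ϕ u)
      have hdvd : orderOf (ϕ u) ∣ (Subgroup.centralizer ({z} : Set G)).index :=
        orderOf_dvd_of_pow_eq_one h1.symm
      by_cases hk0 : k = 0
      · rw [hk0, pow_zero, orderOf_eq_one_iff] at hk
        exact hk
      · exfalso
        have h2 : 2 ∣ (Subgroup.centralizer ({z} : Set G)).index :=
          (dvd_pow_self 2 hk0).trans (hk ▸ hdvd)
        exact (Nat.not_even_iff_odd.2 hodd) (even_iff_two_dvd.2 h2)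
    obtain ⟨a, b, hab⟩ := hAnt
    obtain ⟨u, rfl⟩ := hϕ a
    obtain ⟨v, rfl⟩ := hϕ b
    exact hab (by rw [hϕ1, hϕ1])
  · intro hC
    rw [eq_top_iff]
    intro g _
    obtain ⟨r, -, hconj, -, hodd⟩ := Cfsg.Agent.Helper18.IsIsolated.exists_conj hz g
    obtain ⟨w, hw⟩ : ∃ w, w = (g * z * g⁻¹ * z) ^ (r + 1) := ⟨_, rfl⟩
    rw [← hw] at hconj hodd
    have hwmem : w ∈ Cfsg.pResidual 2 G :=
      Subgroup.subset_closure (Nat.coprime_two_right.2 hodd)
    have hcen : w⁻¹ * g ∈ Subgroup.centralizer ({z} : Set G) := by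
      rw [Subgroup.mem_centralizer_singleton_iff]
      have h1 : g * z * g⁻¹ = w * z * w⁻¹ := hconj.symm
      have h2 : w⁻¹ * (g * z * g⁻¹) * w = z := by rw [h1]; group
      calc w⁻¹ * g * z = w⁻¹ * (g * z * g⁻¹) * w * (w⁻¹ * g) := by group
        _ = z * (w⁻¹ * g) := by rw [h2]
    have hle : (Cfsg.pResidual 2 ↥(Subgroup.centralizer ({z} : Set G))).map
        (Subgroup.centralizer ({z} : Set G)).subtype ≤ Cfsg.pResidual 2 G := by
      rw [Subgroup.map_le_iff_le_comap]
      unfold Cfsg.pResidual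
      rw [Subgroup.closure_le]
      intro c hc
      have hc' : Nat.Coprime (orderOf c) 2 := hc
      rw [SetLike.mem_coe, Subgroup.mem_comap]
      apply Subgroup.subset_closure
      show Nat.Coprime (orderOf ((Subgroup.centralizer ({z} : Set G)).subtype c)) 2
      rw [Subgroup.coe_subtype, Subgroup.orderOf_coe]
      exact hc'
    have hmem2 : w⁻¹ * g ∈ Cfsg.pResidual 2 G := by
      apply hle
      rw [hC]
      exact ⟨⟨w⁻¹ * g, hcen⟩, trivial, rfl⟩
    have : g = w * (w⁻¹ * g) := by group
    rw [this]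
    exact Subgroup.mul_mem _ hwmem hmem2

end Cfsg.Agent.S1183
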