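import Mathlib
import Cfsg.Statements.S1184
import Cfsg.Agent.Helper6.Isolated

set_option autoImplicit false
open Cfsg

namespace Cfsg.Agent.S1184

open Cfsg.Agent.Helper6

theorem aux {G : Type*} [Group G] (z s t : G) (hss : s * s = 1) (htt : t * t = 1)
    (hodd_u : Odd (orderOf (z * s))) (hodd_r : Odd (orderOf (s * t)))
    (hcomm : Commute (s * t) z) : s = t := by
  have hsi := inv_eq_self_of_mul_self hss
  have hti := inv_eq_self_of_mul_self htt
  obtain ⟨r, hr⟩ : ∃ r, r = s * t := ⟨_, rfl⟩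
  rw [← hr] at hcomm hodd_r
  have hri : r⁻¹ = t * s := by rw [hr, mul_inv_rev, hsi, hti]
  -- s inverts r
  have h1 : s * r * s⁻¹ = r⁻¹ := by
    rw [hri, hr, hsi, ← mul_assoc, hss, one_mul]
  obtain ⟨u, hu⟩ : ∃ u, u = z * s := ⟨_, rfl⟩
  rw [← hu] at hodd_u
  have h2 : u * r * u⁻¹ = r⁻¹ := by
    have : u * r * u⁻¹ = z * (s * r * s⁻¹) * z⁻¹ := by rw [hu]; group
    rw [this, h1]
    have hc : Commute z r := hcomm.symm
    have hc' : Commute z r⁻¹ := hc.inv_right
    rw [hc'.eq, mul_assoc, mul_inv_cancel, mul_one]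
  have h4 : u * r = r⁻¹ * u := by
    have := congrArg (· * u) h2
    simpa [mul_assoc] using this
  have h5 : u * r⁻¹ = r * u := by
    have e1 : u * r⁻¹ = r * (r⁻¹ * u) * r⁻¹ := by group
    rw [e1, ← h4]; group
  have h3 : Commute (u ^ 2) r := by
    show u ^ 2 * r = r * u ^ 2
    rw [pow_two, mul_assoc, h4, ← mul_assoc, h5, mul_assoc]
  obtain ⟨j, hj⟩ := hodd_u
  have h8 : u ^ (2 * j + 1) = 1 := by rw [← hj]; exact pow_orderOf_eq_one _
  have h9 : Commute (u ^ (2 * j)) r := by
    rw [pow_mul]; exact h3.pow_left j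
  have h10 : u⁻¹ = u ^ (2 * j) := by
    rw [pow_succ] at h8
    exact (eq_inv_of_mul_eq_one_left h8).symm
  have h11 : Commute u r := by
    have : Commute u⁻¹ r := h10 ▸ h9
    exact (Commute.inv_left_iff).1 this
  have h12 : r = r⁻¹ := by
    rw [← h2, h11.eq, mul_assoc, mul_inv_cancel, mul_one]
  have h13 : r ^ 2 = 1 := by
    rw [pow_two]
    nth_rewrite 1 [h12]
    exact inv_mul_cancel r
  have hd : orderOf r ∣ 2 := orderOf_dvd_of_pow_eq_one h13
  have h14 : orderOf r = 1 := by
    have hle : orderOf r ≤ 2 := Nat.le_of_dvd (by norm_num) hd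
    have hpos : orderOf r ≠ 0 := by
      intro h0; rw [h0] at hodd_r; exact absurd hodd_r (by decide)
    interval_cases h : orderOf r
    · exact absurd rfl hpos
    · rfl
    · exact absurd hodd_r (by decide)
  rw [orderOf_eq_one_iff, hr] at h14
  have : s = t⁻¹ := eq_inv_of_mul_eq_one_left h14
  rw [this, hti]

/-- Let z be an isolated involution of the finite group G. If s and t are distinct conjugates of z, then st does not commute with z. -/
theorem result {G : Type*} [Group G] [Finite G] (z : G) (hz : Cfsg.IsIsolatedInvolution z) (g h : G) (hne : g * z * g⁻¹ ≠ h * z * h⁻¹) : ¬ Commute (g * z * g⁻¹ * (h * z * h⁻¹)) z := by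
  intro hcomm
  have hzz := isolated_mul_self hz
  apply hne
  refine aux z _ _ (conj_mul_self hzz g) (conj_mul_self hzz h) (isolated_mul_conj_odd hz g) ?_ hcomm
  have hsiso := isolated_conj hz g
  have := isolated_mul_conj_odd hsiso (h * g⁻¹)
  have e : h * g⁻¹ * (g * z * g⁻¹) * (h * g⁻¹)⁻¹ = h * z * h⁻¹ := by group
  rwa [e] at this

end Cfsg.Agent.S1184
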