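import Mathlib
import Cfsg.Statements.S1202
import Cfsg.Agent.Helper16.WrCentric2
-- import your own Cfsg.Agent.* helpers here

set_option autoImplicit false
open Cfsg

namespace Cfsg.Agent.S1202

open Cfsg.Agent.Helper18.Wr Cfsg.Agent.Helper16.WrCentric

/-- Let S be a wreathed 2-group of order 2^(2n+1) and X a subgroup with C_S(X) ≤ X such that Aut(X) is not a 2-group. Then |N_S(X) : X| = 2, and either X is the commutative subgroup of order 2^(2n), or X = Q·Z(S) for some subgroup Q ≅ Q₈; in the latter case any two such subgroups are conjugate in S. -/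
theorem result {S : Type*} [Group S] [Finite S] (hS : Cfsg.IsWreathed S) (n : ℕ) (hn : Nat.card S = 2 ^ (2 * n + 1)) (X : Subgroup S) (hC : Subgroup.centralizer (X : Set S) ≤ X) (hA : ¬ IsPGroup 2 (MulAut X)) : X.relIndex (Subgroup.normalizer (X : Set S)) = 2 ∧ ((IsMulCommutative X ∧ Nat.card X = 2 ^ (2 * n)) ∨ ∃ Q : Subgroup S, Nonempty (Q ≃* QuaternionGroup 2) ∧ X = Q ⊔ Subgroup.center S) ∧ ∀ X' : Subgroup S, Subgroup.centralizer (X' : Set S) ≤ X' → ¬ IsPGroup 2 (MulAut X') → ¬ IsMulCommutative X → ¬ IsMulCommutative X' → ∃ s : S, X.map (MulAut.conj s).toMonoidHom = X' := by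
  obtain ⟨D⟩ := exists_wrData hS
  have hnD := D.n_eq hn
  subst hnD
  rcases eq_U_or_VS D X hC hA with hX | ⟨p, hX⟩
  · subst hX
    refine ⟨relIndex_normalizer_U D, Or.inl ⟨D.U_isMulCommutative, D.card_U⟩, ?_⟩
    intro X' _ _ hna
    exact absurd D.U_isMulCommutative hna
  · subst hX
    refine ⟨relIndex_normalizer_VS D p, Or.inr (VS_eq_sup D p), ?_⟩
    intro X' hC' hA' _ hna'
    rcases eq_U_or_VS D X' hC' hA' with hX' | ⟨p', hX'⟩
    · subst hX'
      exact absurd D.U_isMulCommutative hna'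
    · subst hX'
      refine ⟨D.u (p' - p) 0, ?_⟩
      rw [map_conj_VS]
      congr 1
      ring

end Cfsg.Agent.S1202
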