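import Mathlib
import Cfsg.Statements.S1213
import Cfsg.Agent.Helper16.QDCent
import Cfsg.Agent.Helper16.WrCent
-- import your own Cfsg.Agent.* helpers here

set_option autoImplicit false
open Cfsg

namespace Cfsg.Agent.S1213

open Cfsg.Agent.Helper16.CentSub Cfsg.Agent.Helper16.QDCent Cfsg.Agent.Helper16.WrCent
  Cfsg.Agent.Helper16.WrFusion

/-- Let G be a finite group with quasi-dihedral or wreathed Sylow 2-subgroups and no subgroup of index 2, and let x be an involution with centralizer C. Then C has a Sylow 2-subgroup R which is a Sylow 2-subgroup of G; C has a normal subgroup K of index a power of 2 which has no subgroup of index 2 and whose Sylow 2-subgroups are generalized quaternion; and every subgroup of the centre of R is weakly closed in R with respect to C. -/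
theorem result {G : Type*} [Group G] [Finite G] (S : Sylow 2 G) (hS : Cfsg.IsQuasiDihedral (S : Subgroup G) ∨ Cfsg.IsWreathed (S : Subgroup G)) (hG : ∀ H : Subgroup G, H.index ≠ 2) (x : G) (hx : orderOf x = 2) : ∃ R : Sylow 2 ↥(Subgroup.centralizer ({x} : Set G)), Nat.card R = Nat.card S ∧ (∃ K : Subgroup ↥(Subgroup.centralizer ({x} : Set G)), K.Normal ∧ (∃ a : ℕ, K.index = 2 ^ a) ∧ (∀ H : Subgroup ↥K, H.index ≠ 2) ∧ (∀ P : Sylow 2 ↥K, ∃ m : ℕ, 1 ≤ m ∧ Nonempty ((P : Subgroup ↥K) ≃* QuaternionGroup (2 ^ m)))) ∧ (∀ Z₀ : Subgroup ↥(Subgroup.centralizer ({x} : Set G)), Z₀ ≤ ((Subgroup.center (R : Subgroup ↥(Subgroup.centralizer ({x} : Set G)))).map (R : Subgroup ↥(Subgroup.centralizer ({x} : Set G))).subtype) → Cfsg.IsWeaklyClosed Z₀ (R : Subgroup ↥(Subgroup.centralizer ({x} : Set G)))) := by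
  have hC : ∀ g, g ∈ Subgroup.centralizer ({x} : Set G) ↔ g * x = x * g := by
    intro g
    rw [Subgroup.mem_centralizer_iff]
    constructor
    · intro h; exact (h x rfl).symm
    · intro h y hy; rw [Set.mem_singleton_iff.mp hy]; exact h.symm
  rcases hS with hS | hS
  · obtain ⟨T, Q, hT, hTS, hQS, ⟨eQ⟩, h₁, h₂⟩ := qd_indices S hS hG
    obtain ⟨-, hone, -⟩ := Cfsg.Agent.S1204.result S hS T hT hTS Q hQS eQ h₁ h₂
    obtain ⟨D⟩ := Cfsg.Agent.Helper18.QD.exists_qdData hS
    have hzo : orderOf ((D.z : (S : Subgroup G)) : G) = 2 := by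
      rw [Subgroup.orderOf_coe]; exact (D.invol_iff _).mpr (Or.inl rfl)
    have hconj := isConj_of_card_classes_eq_one hone _ x hzo hx
    obtain ⟨S', ⟨e⟩, hxS', hxc'⟩ := exists_sylow_central S _ x (D.z).2 (fun s hs => by
      have := congrArg Subtype.val (D.z_central ⟨s, hs⟩)
      exact this.symm) hconj
    have hS' : Cfsg.IsQuasiDihedral (S' : Subgroup G) := isQuasiDihedral_of_equiv e hS
    obtain ⟨T', Q', hT', hTS', hQS', ⟨eQ'⟩, -, h₂'⟩ := qd_indices S' hS' hG
    have hle : (S' : Subgroup G) ≤ Subgroup.centralizer ({x} : Set G) := by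
      intro s hs
      rw [hC]; exact hxc' s hs
    obtain ⟨hK, hZ⟩ := qd_central S' hS' T' hT' hTS' Q' hQS' eQ' h₂' x hx hxS' hxc' _ hC hle
      (S'.subtype hle) rfl
    refine ⟨S'.subtype hle, ?_, hK, hZ⟩
    rw [Nat.card_congr e.toEquiv]
    exact Nat.card_congr (Subgroup.subgroupOfEquivOfLe hle).toEquiv
  · obtain ⟨n, U, Q, hn, hUS, hUab, hUcard, hQS, ⟨eQ⟩, h₁, h₂⟩ := wr_indices S hS hG
    obtain ⟨-, hone⟩ := Cfsg.Agent.S1209.result S hS n hn U hUS hUab hUcard Q hQS eQ h₁ h₂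
    obtain ⟨D⟩ := Cfsg.Agent.Helper18.Wr.exists_wrData hS
    have hconj := isConj_of_card_classes_eq_one hone _ x (orderOf_zeta S D) hx
    obtain ⟨S', ⟨e⟩, hxS', hxc'⟩ := exists_sylow_central S _ x (uG_mem S D _ _)
      (fun s hs => (uG_diag_comm S D _ s hs).symm) hconj
    have hS' : Cfsg.IsWreathed (S' : Subgroup G) := isWreathed_of_equiv e hS
    obtain ⟨n', U', Q', hn', hUS', hUab', hUcard', hQS', ⟨eQ'⟩, -, h₂'⟩ := wr_indices S' hS' hG
    have hle : (S' : Subgroup G) ≤ Subgroup.centralizer ({x} : Set G) := by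
      intro s hs
      rw [hC]; exact hxc' s hs
    obtain ⟨hK, hZ⟩ := wr_central S' hS' n' hn' U' hUS' hUab' hUcard' Q' hQS' eQ' h₂' x hx hxS'
      hxc' _ hC hle (S'.subtype hle) rfl
    refine ⟨S'.subtype hle, ?_, hK, hZ⟩
    rw [Nat.card_congr e.toEquiv]
    exact Nat.card_congr (Subgroup.subgroupOfEquivOfLe hle).toEquiv

end Cfsg.Agent.S1213
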