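import Cfsg.Statements.S1214
import Mathlib
import Cfsg.Agent.Helper16.OddIndexSimple
import Cfsg.Agent.Helper19.Cores
-- import your own Cfsg.Agent.* helpers here

set_option autoImplicit false
open Cfsg

namespace Cfsg.Agent.S1214

/-- Let G be a finite group with quasi-dihedral or wreathed Sylow 2-subgroups and no subgroup of index 2. Then G/O(G), the quotient by the largest normal subgroup of odd order, has a normal subgroup of odd index which is a non-abelian simple group. -/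
theorem result {G : Type*} [Group G] [Finite G] (S : Sylow 2 G) (hS : Cfsg.IsQuasiDihedral (S : Subgroup G) ∨ Cfsg.IsWreathed (S : Subgroup G)) (hG : ∀ H : Subgroup G, H.index ≠ 2) : ∃ L : Subgroup (G ⧸ Cfsg.oddCore G), L.Normal ∧ Odd L.index ∧ IsSimpleGroup L ∧ ¬ IsMulCommutative L := by
  have hp : Fact (Nat.Prime 2) := ⟨Nat.prime_two⟩
  have hsurj := QuotientGroup.mk'_surjective (Cfsg.oddCore G)
  obtain ⟨P₀, hP₀⟩ : ∃ P₀ : Sylow 2 (G ⧸ Cfsg.oddCore G), P₀ = S.mapSurjective hsurj := ⟨_, rfl⟩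
  have hcoe : (P₀ : Subgroup (G ⧸ Cfsg.oddCore G)) =
      (S : Subgroup G).map (QuotientGroup.mk' (Cfsg.oddCore G)) := by rw [hP₀]; rfl
  obtain ⟨f, hf⟩ : ∃ f : ↥(S : Subgroup G) →* (G ⧸ Cfsg.oddCore G),
      f = (QuotientGroup.mk' (Cfsg.oddCore G)).comp (S : Subgroup G).subtype := ⟨_, rfl⟩
  have hinj : Function.Injective f := by
    rw [injective_iff_map_eq_one]
    intro s hs
    have h1 : (s : G) ∈ Cfsg.oddCore G := by
      have h0 : QuotientGroup.mk' (Cfsg.oddCore G) (s : G) = 1 := by rw [hf] at hs; exact hs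
      rwa [QuotientGroup.mk'_apply, QuotientGroup.eq_one_iff] at h0
    have h2 : (s : G) ∈ Cfsg.oddCore G ⊓ (S : Subgroup G) := ⟨h1, s.2⟩
    have hcop : (Nat.card (Cfsg.oddCore G)).Coprime (Nat.card (S : Subgroup G)) := by
      obtain ⟨k, hk⟩ := S.2.exists_card_eq
      rw [hk]; exact Nat.Coprime.pow_right _ (Cfsg.Agent.Helper19.pPrimeCore_coprime 2)
    rw [Subgroup.inf_eq_bot_of_coprime hcop, Subgroup.mem_bot] at h2
    exact Subtype.ext h2
  have hrange : f.range = (P₀ : Subgroup (G ⧸ Cfsg.oddCore G)) := by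
    rw [hcoe, hf, MonoidHom.range_comp, Subgroup.range_subtype]
  have e : ↥(S : Subgroup G) ≃* ↥(P₀ : Subgroup (G ⧸ Cfsg.oddCore G)) :=
    (MonoidHom.ofInjective hinj).trans (MulEquiv.subgroupCongr hrange)
  have hS' : Cfsg.IsQuasiDihedral (P₀ : Subgroup (G ⧸ Cfsg.oddCore G)) ∨
      Cfsg.IsWreathed (P₀ : Subgroup (G ⧸ Cfsg.oddCore G)) := by
    rcases hS with hS | hS
    · exact Or.inl (Cfsg.Agent.Helper16.CentSub.isQuasiDihedral_of_equiv e hS)
    · exact Or.inr (Cfsg.Agent.Helper16.CentSub.isWreathed_of_equiv e hS)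
  have hX : ∀ H : Subgroup (G ⧸ Cfsg.oddCore G), H.index ≠ 2 := by
    intro H hH
    apply hG (H.comap (QuotientGroup.mk' (Cfsg.oddCore G)))
    rw [Subgroup.index_comap_of_surjective _ hsurj]; exact hH
  exact Cfsg.Agent.Helper16.OddIndexSimple.main P₀ hS' hX
    (Cfsg.Agent.Helper7.pPrimeCore_quotient_eq_bot 2)

end Cfsg.Agent.S1214
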