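import Cfsg.Statements.S1226
import Cfsg.Agent.Helper18.CIT
import Cfsg.Agent.Helper18.TIWeaklyClosed

set_option autoImplicit false
open Cfsg

namespace Cfsg.Agent.S1226

/-- Let G be a finite group with a Sylow 2-subgroup T that is neither cyclic nor normal, such that the centralizer of every involution is an elementary abelian 2-group. Then N_G(T) is a strongly embedded subgroup of G. -/
theorem result {G : Type*} [Group G] [Finite G] (T : Sylow 2 G) (hnc : ¬ IsCyclic (T : Subgroup G)) (hnn : ¬ (T : Subgroup G).Normal) (hC : ∀ t : G, orderOf t = 2 → IsMulCommutative (Subgroup.centralizer ({t} : Set G)) ∧ ∀ c ∈ Subgroup.centralizer ({t} : Set G), c ^ 2 = 1) : Cfsg.IsStronglyEmbedded (Subgroup.normalizer ((T : Subgroup G) : Set G)) := by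
  have hC' : Cfsg.Agent.Helper18.CITHyp G := hC
  have hT : (T : Subgroup G) ≠ ⊥ := by
    intro h
    apply hnn
    rw [h]
    infer_instance
  refine ⟨?_, ?_, ?_⟩
  · intro h
    exact hnn (Subgroup.normalizer_eq_top_iff.1 h)
  · obtain ⟨s, hs, hs2⟩ := Cfsg.Agent.Helper18.exists_invol_mem_sylow T hT
    exact Cfsg.Agent.Helper18.even_card_of_invol_mem _ (Subgroup.le_normalizer hs) hs2
  · intro g hg
    apply Cfsg.Agent.Helper18.odd_card_of_no_invol
    intro s hs hs2
    obtain ⟨hs1, hsg⟩ := Subgroup.mem_inf.1 hs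
    have hsT := Cfsg.Agent.Helper18.invol_mem_sylow_of_mem_normalizer T hs2 hs1
    have h3 : g⁻¹ * s * g ∈ Subgroup.normalizer ((T : Subgroup G) : Set G) :=
      (Cfsg.Agent.Helper18.mem_map_conj_iff' _ g s).1 hsg
    have hs2' : orderOf (g⁻¹ * s * g) = 2 := by
      have : g⁻¹ * s * g = MulAut.conj g⁻¹ s := by simp
      rw [this, MulEquiv.orderOf_eq, hs2]
    have hgT := Cfsg.Agent.Helper18.invol_mem_sylow_of_mem_normalizer T hs2' h3
    exact hg (Cfsg.Agent.Helper18.cit_mem_normalizer_of_conj_mem T hC' hT hsT hs2 hgT)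

end Cfsg.Agent.S1226
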