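import Cfsg.Statements.S1229
import Cfsg.Agent.Helper18.CIT4

set_option autoImplicit false
open Cfsg

namespace Cfsg.Agent.S1229

/-- Let G be a finite group with a Sylow 2-subgroup T that is neither cyclic nor normal, such that the centralizer of every involution is an elementary abelian 2-group; put H = N_G(T) and X = G/H. Then G is triply transitive on X, an element fixing three distinct points of X is the identity, and T acts regularly on X minus the point H. -/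
theorem result {G : Type*} [Group G] [Finite G] (T : Sylow 2 G) (hnc : ¬ IsCyclic (T : Subgroup G)) (hnn : ¬ (T : Subgroup G).Normal) (hC : ∀ t : G, orderOf t = 2 → IsMulCommutative (Subgroup.centralizer ({t} : Set G)) ∧ ∀ c ∈ Subgroup.centralizer ({t} : Set G), c ^ 2 = 1) : (∀ x₁ x₂ x₃ y₁ y₂ y₃ : G ⧸ Subgroup.normalizer ((T : Subgroup G) : Set G), x₁ ≠ x₂ → x₁ ≠ x₃ → x₂ ≠ x₃ → y₁ ≠ y₂ → y₁ ≠ y₃ → y₂ ≠ y₃ → ∃ g : G, g • x₁ = y₁ ∧ g • x₂ = y₂ ∧ g • x₃ = y₃) ∧ (∀ g : G, ∀ x₁ x₂ x₃ : G ⧸ Subgroup.normalizer ((T : Subgroup G) : Set G), x₁ ≠ x₂ → x₁ ≠ x₃ → x₂ ≠ x₃ → g • x₁ = x₁ → g • x₂ = x₂ → g • x₃ = x₃ → g = 1) ∧ (∀ x y : G ⧸ Subgroup.normalizer ((T : Subgroup G) : Set G), x ≠ QuotientGroup.mk 1 → y ≠ QuotientGroup.mk 1 → ∃! t : G, t ∈ T ∧ t • x = y) := by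
  have hC' : Cfsg.Agent.Helper18.CITHyp G := hC
  have hSE := Cfsg.Agent.Helper18.cit_isStronglyEmbedded T hnn hC'
  obtain ⟨u, hu, huH⟩ := Cfsg.Agent.Helper18.se_exists_invol_not_mem hSE
  have hmem1 : ∀ h : G, h • (QuotientGroup.mk 1 : G ⧸ Subgroup.normalizer ((T : Subgroup G) : Set G)) =
      QuotientGroup.mk 1 ↔ h ∈ Subgroup.normalizer ((T : Subgroup G) : Set G) := by
    intro h
    rw [Cfsg.Agent.Helper18.smul_mk_eq_iff]
    simp
  have hmemu : ∀ h : G, h • (QuotientGroup.mk u : G ⧸ Subgroup.normalizer ((T : Subgroup G) : Set G)) =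
      QuotientGroup.mk u ↔
      h ∈ (Subgroup.normalizer ((T : Subgroup G) : Set G)).map (MulAut.conj u).toMonoidHom := by
    intro h
    rw [Cfsg.Agent.Helper18.smul_mk_eq_iff, Cfsg.Agent.Helper18.mem_map_conj_iff']
  have hune := Cfsg.Agent.Helper18.cit_mk_u_ne T huH
  refine ⟨?_, ?_, ?_⟩
  · intro x₁ x₂ x₃ y₁ y₂ y₃ hx12 hx13 hx23 hy12 hy13 hy23
    obtain ⟨gx, hgx1, hgx2⟩ := Cfsg.Agent.Helper18.cit_normalize_pair T hnc hnn hC' hu huH hx12
    obtain ⟨gy, hgy1, hgy2⟩ := Cfsg.Agent.Helper18.cit_normalize_pair T hnc hnn hC' hu huH hy12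
    have hx3a : gx • x₃ ≠ QuotientGroup.mk 1 := by
      rw [← hgx1]; exact fun h => hx13 (smul_left_cancel _ h).symm
    have hx3b : gx • x₃ ≠ QuotientGroup.mk u := by
      rw [← hgx2]; exact fun h => hx23 (smul_left_cancel _ h).symm
    have hy3a : gy • y₃ ≠ QuotientGroup.mk 1 := by
      rw [← hgy1]; exact fun h => hy13 (smul_left_cancel _ h).symm
    have hy3b : gy • y₃ ≠ QuotientGroup.mk u := by
      rw [← hgy2]; exact fun h => hy23 (smul_left_cancel _ h).symm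
    obtain ⟨d, hd, hdx⟩ := Cfsg.Agent.Helper18.cit_D_transitive T hnc hnn hC' hu huH hx3a hx3b hy3a hy3b
    have hd1 := (hmem1 d).2 (Subgroup.mem_inf.1 hd).1
    have hdu := (hmemu d).2 (Subgroup.mem_inf.1 hd).2
    refine ⟨gy⁻¹ * d * gx, ?_, ?_, ?_⟩
    · rw [mul_smul, mul_smul, hgx1, hd1, ← hgy1, ← mul_smul, inv_mul_cancel, one_smul]
    · rw [mul_smul, mul_smul, hgx2, hdu, ← hgy2, ← mul_smul, inv_mul_cancel, one_smul]
    · rw [mul_smul, mul_smul, hdx, ← mul_smul, inv_mul_cancel, one_smul]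
  · intro g x₁ x₂ x₃ hx12 hx13 hx23 hg1 hg2 hg3
    obtain ⟨gx, hgx1, hgx2⟩ := Cfsg.Agent.Helper18.cit_normalize_pair T hnc hnn hC' hu huH hx12
    have hx3a : gx • x₃ ≠ QuotientGroup.mk 1 := by
      rw [← hgx1]; exact fun h => hx13 (smul_left_cancel _ h).symm
    have hx3b : gx • x₃ ≠ QuotientGroup.mk u := by
      rw [← hgx2]; exact fun h => hx23 (smul_left_cancel _ h).symm
    have key : ∀ x : G ⧸ Subgroup.normalizer ((T : Subgroup G) : Set G), g • x = x →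
        (gx * g * gx⁻¹) • (gx • x) = gx • x := by
      intro x hx
      rw [← mul_smul, inv_mul_cancel_right, mul_smul, hx]
    have h1 := key x₁ hg1
    have h2 := key x₂ hg2
    have h3 := key x₃ hg3
    rw [hgx1] at h1
    rw [hgx2] at h2
    have hD : gx * g * gx⁻¹ ∈ Subgroup.normalizer ((T : Subgroup G) : Set G) ⊓
        (Subgroup.normalizer ((T : Subgroup G) : Set G)).map (MulAut.conj u).toMonoidHom :=
      Subgroup.mem_inf.2 ⟨(hmem1 _).1 h1, (hmemu _).1 h2⟩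
    have := Cfsg.Agent.Helper18.cit_D_semiregular T hnc hnn hC' hu huH hD hx3a hx3b h3
    have h4 : g = gx⁻¹ * (gx * g * gx⁻¹) * gx := by group
    rw [h4, this]; group
  · intro x y hx hy
    obtain ⟨t1, ht1, rfl⟩ := Cfsg.Agent.Helper18.cit_T_transitive T hnc hnn hC' hu huH hx
    obtain ⟨t2, ht2, rfl⟩ := Cfsg.Agent.Helper18.cit_T_transitive T hnc hnn hC' hu huH hy
    refine ⟨t2 * t1⁻¹, ⟨Subgroup.mul_mem _ ht2 (Subgroup.inv_mem _ ht1), ?_⟩, ?_⟩
    · rw [← mul_smul, inv_mul_cancel_right]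
    · rintro t' ⟨ht', hteq⟩
      have h1 : (t2 * t1⁻¹) • t1 • (QuotientGroup.mk u : G ⧸ Subgroup.normalizer ((T : Subgroup G) : Set G))
          = t2 • QuotientGroup.mk u := by
        rw [← mul_smul, inv_mul_cancel_right]
      have h2 : ((t2 * t1⁻¹)⁻¹ * t') • t1 •
          (QuotientGroup.mk u : G ⧸ Subgroup.normalizer ((T : Subgroup G) : Set G)) =
          t1 • QuotientGroup.mk u := by
        rw [mul_smul, hteq, ← h1, ← mul_smul, inv_mul_cancel, one_smul]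
      have h3 := Cfsg.Agent.Helper18.cit_T_semiregular T hnn hC'
        (Subgroup.mul_mem _ (Subgroup.inv_mem _ (Subgroup.mul_mem _ ht2 (Subgroup.inv_mem _ ht1))) ht')
        hx h2
      calc t' = (t2 * t1⁻¹) * ((t2 * t1⁻¹)⁻¹ * t') := by group
        _ = t2 * t1⁻¹ := by rw [h3, mul_one]

end Cfsg.Agent.S1229
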