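import Mathlib
import Cfsg.Statements.S1231

set_option autoImplicit false
open Cfsg

namespace Cfsg.Agent.S1231

variable {G : Type*} [Group G]

/-- `X` contains an elementary abelian `p`-subgroup of order `> p^j`. -/
def Big (p j : ℕ) (X : Subgroup G) : Prop :=
  ∃ A : Subgroup G, A ≤ X ∧ IsMulCommutative A ∧ (∀ a ∈ A, a ^ p = 1) ∧ p ^ j < Nat.card A

theorem not_pRankLE_iff (p j : ℕ) (X : Subgroup G) : ¬ Cfsg.PRankLE p j ↥X ↔ Big p j X := by
  unfold Cfsg.PRankLE Big
  push Not
  constructor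
  · rintro ⟨A, hA, hexp, hcard⟩
    refine ⟨A.map X.subtype, ?_, inferInstance, ?_, ?_⟩
    · rintro _ ⟨a, _, rfl⟩; exact a.2
    · rintro _ ⟨a, ha, rfl⟩
      have := hexp a ha
      simpa using congrArg Subtype.val this
    · rwa [Subgroup.card_subtype]
  · rintro ⟨A, hAX, hA, hexp, hcard⟩
    refine ⟨A.subgroupOf X, inferInstance, ?_, ?_⟩
    · intro a ha
      rw [Subgroup.mem_subgroupOf] at ha
      have := hexp _ ha
      ext
      simpa using this
    · rw [← Subgroup.card_subtype, Subgroup.map_subgroupOf_eq_of_le hAX]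
      exact hcard

theorem Big.mono {p j : ℕ} {X Y : Subgroup G} (h : X ≤ Y) (hX : Big p j X) : Big p j Y := by
  obtain ⟨A, h1, h2, h3, h4⟩ := hX
  exact ⟨A, h1.trans h, h2, h3, h4⟩

theorem Big.conj {p j : ℕ} {X : Subgroup G} (g : G) (hX : Big p j X) :
    Big p j (X.map (MulAut.conj g).toMonoidHom) := by
  obtain ⟨A, h1, h2, h3, h4⟩ := hX
  refine ⟨A.map (MulAut.conj g).toMonoidHom, Subgroup.map_mono h1, inferInstance, ?_, ?_⟩
  · rintro _ ⟨a, ha, rfl⟩
    rw [← map_pow, h3 a ha, map_one]
  · rwa [Subgroup.card_map_of_injective (MulAut.conj g).injective]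

theorem Big.isPGroup_witness {p j : ℕ} [Fact p.Prime] {X : Subgroup G} (hX : Big p j X) :
    ∃ A : Subgroup G, A ≤ X ∧ IsPGroup p A ∧ Big p j A := by
  obtain ⟨A, h1, h2, h3, h4⟩ := hX
  refine ⟨A, h1, ?_, A, le_rfl, h2, h3, h4⟩
  intro a
  refine ⟨1, ?_⟩
  ext
  simpa using h3 a a.2

theorem mem_of_conj_mem {H : Subgroup G} {h n : G} (hh : h ∈ H) (hn : h * n * h⁻¹ ∈ H) : n ∈ H := by
  have := H.mul_mem (H.mul_mem (H.inv_mem hh) hn) hh
  simpa [mul_assoc] using this

theorem claim [Finite G] {p j : ℕ} [Fact p.Prime] (H : Subgroup G)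
    (hyp : ∀ X : Subgroup G, X ≤ H → IsPGroup p X → Big p j X → Subgroup.normalizer (X : Set G) ≤ H)
    (R : Subgroup G) (hR : IsPGroup p R) (hbig : Big p j (R ⊓ H)) : R ≤ H := by
  set D := R ⊓ H with hD
  have hDR : D ≤ R := inf_le_left
  have hDH : D ≤ H := inf_le_right
  have hDp : IsPGroup p D := hR.to_le hDR
  have hN : Subgroup.normalizer (D : Set G) ≤ H := hyp D hDH hDp hbig
  by_cases htop : D.subgroupOf R = ⊤
  · rw [Subgroup.subgroupOf_eq_top] at htop
    exact htop.trans hDH
  · exfalso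
    have : Group.IsNilpotent R := hR.isNilpotent
    have hnc : NormalizerCondition R := Group.normalizerCondition_of_isNilpotent
    have hlt := hnc (D.subgroupOf R) (lt_top_iff_ne_top.2 htop)
    obtain ⟨x, hx1, hx2⟩ := SetLike.exists_of_lt hlt
    rw [← Subgroup.subgroupOf_normalizer_eq hDR, Subgroup.mem_subgroupOf] at hx1
    apply hx2
    rw [Subgroup.mem_subgroupOf]
    exact ⟨x.2, hN hx1⟩

/-- Let H be a subgroup of the finite group G, p a prime, k ≥ 1, and P a Sylow p-subgroup of H whose p-rank is at least k. Then N_G(X) ≤ H for every subgroup X of P of p-rank at least k if and only if H ∩ gHg⁻¹ has p-rank less than k for every g ∉ H. -/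
theorem result {G : Type*} [Group G] [Finite G] {p : ℕ} [Fact p.Prime] (k : ℕ) (hk : 1 ≤ k) (H : Subgroup G) (P : Sylow p ↥H) (hP : ¬ Cfsg.PRankLE p (k - 1) ↥(P : Subgroup ↥H)) : (∀ X : Subgroup G, X ≤ (P : Subgroup ↥H).map H.subtype → ¬ Cfsg.PRankLE p (k - 1) ↥X → Subgroup.normalizer (X : Set G) ≤ H) ↔ (∀ g : G, g ∉ H → Cfsg.PRankLE p (k - 1) ↥(H ⊓ H.map (MulAut.conj g).toMonoidHom)) := by
  simp only [not_pRankLE_iff]
  constructor
  · intro hyp0 g hg
    by_contra hcon
    rw [not_pRankLE_iff] at hcon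
    -- Hyp'
    have hyp : ∀ X : Subgroup G, X ≤ H → IsPGroup p X → Big p (k - 1) X →
        Subgroup.normalizer (X : Set G) ≤ H := by
      intro X hXH hXp hXbig
      have hXp' : IsPGroup p (X.subgroupOf H) := hXp.comap_subtype
      obtain ⟨Q, hQ⟩ := hXp'.exists_le_sylow
      obtain ⟨h, hh⟩ := MulAction.exists_smul_eq H Q P
      have hX1 : X.map (MulAut.conj (h : G)).toMonoidHom ≤ (P : Subgroup ↥H).map H.subtype := by
        rintro _ ⟨x, hx, rfl⟩
        have hxQ : (⟨x, hXH hx⟩ : H) ∈ Q := hQ (by rw [Subgroup.mem_subgroupOf]; exact hx)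
        have : h * ⟨x, hXH hx⟩ * h⁻¹ ∈ ((h • Q : Sylow p H) : Subgroup H) := by
          rw [Sylow.coe_subgroup_smul]
          exact Subgroup.smul_mem_pointwise_smul _ (MulAut.conj h) _ hxQ
        rw [hh] at this
        exact ⟨_, this, by simp⟩
      have hN := hyp0 _ hX1 (hXbig.conj (h : G))
      intro n hn
      have : (MulAut.conj (h : G)).toMonoidHom n ∈
          (Subgroup.normalizer (X : Set G)).map (MulAut.conj (h : G)).toMonoidHom :=
        Subgroup.mem_map_of_mem _ hn
      rw [Subgroup.map_equiv_normalizer_eq] at this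
      have h2 := hN this
      exact mem_of_conj_mem h.2 (by simpa using h2)
    obtain ⟨A, hA1, hAp, hAbig⟩ := hcon.isPGroup_witness
    obtain ⟨R, hR⟩ := hAp.exists_le_sylow
    have hRH : (R : Subgroup G) ≤ H :=
      claim H hyp R R.2 (hAbig.mono (le_inf hR (hA1.trans inf_le_left)))
    -- the conjugate g⁻¹ R g
    set R' : Sylow p G := g⁻¹ • R with hR'
    have hR'mem : ∀ x ∈ R, g⁻¹ * x * g ∈ (R' : Subgroup G) := by
      intro x hx
      rw [hR', Sylow.coe_subgroup_smul]
      have := Subgroup.smul_mem_pointwise_smul _ (MulAut.conj g⁻¹) _ hx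
      simpa using this
    have hA' : A.map (MulAut.conj g⁻¹).toMonoidHom ≤ (R' : Subgroup G) ⊓ H := by
      rintro _ ⟨a, ha, rfl⟩
      have e : (MulAut.conj g⁻¹).toMonoidHom a = g⁻¹ * a * g := by simp
      rw [e]
      refine ⟨hR'mem a (hR ha), ?_⟩
      obtain ⟨y, hy, hya⟩ := (hA1 ha).2
      have : a = g * y * g⁻¹ := by simpa using hya.symm
      rw [this]
      simpa [mul_assoc] using hy
    have hR'H : (R' : Subgroup G) ≤ H :=
      claim H hyp R' R'.2 ((hAbig.conj g⁻¹).mono hA')
    -- R and R' are Sylow in H, hence H-conjugate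
    obtain ⟨h, hh⟩ := MulAction.exists_smul_eq H (R.subtype hRH) (R'.subtype hR'H)
    -- then g * h normalizes R
    have hmem : ∀ x ∈ R, (h : G) * x * (h : G)⁻¹ ∈ (R' : Subgroup G) := by
      intro x hx
      have hx' : (⟨x, hRH hx⟩ : H) ∈ R.subtype hRH := by
        rw [← SetLike.mem_coe, ← Sylow.coe_coe]
        show _ ∈ ((R.subtype hRH : Sylow p H) : Subgroup H)
        rw [Sylow.coe_subtype, Subgroup.mem_subgroupOf]
        exact hx
      have : h * ⟨x, hRH hx⟩ * h⁻¹ ∈ ((h • R.subtype hRH : Sylow p H) : Subgroup H) := by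
        rw [Sylow.coe_subgroup_smul]
        exact Subgroup.smul_mem_pointwise_smul _ (MulAut.conj h) _ hx'
      rw [hh, Sylow.coe_subtype, Subgroup.mem_subgroupOf] at this
      simpa using this
    have hnorm : g * h ∈ Subgroup.normalizer ((R : Subgroup G) : Set G) := by
      have hle : (R : Subgroup G).map (MulAut.conj (g * h)).toMonoidHom ≤ R := by
        rintro _ ⟨x, hx, rfl⟩
        have h1 := hmem x hx
        rw [hR', Sylow.coe_subgroup_smul, Subgroup.mem_pointwise_smul_iff_inv_smul_mem] at h1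
        have h1' : g * (↑h * x * (↑h : G)⁻¹) * g⁻¹ ∈ (R : Subgroup G) := by
          have e2 : (MulAut.conj g⁻¹)⁻¹ • (↑h * x * (↑h : G)⁻¹) = g * (↑h * x * (↑h : G)⁻¹) * g⁻¹ := by
            simp [mul_assoc]
          rw [← e2]; exact h1
        have e : (MulAut.conj (g * h)).toMonoidHom x = g * (↑h * x * (↑h : G)⁻¹) * g⁻¹ := by
          simp [mul_assoc]
        rw [e]; exact h1'
      have heq : (R : Subgroup G).map (MulAut.conj (g * h)).toMonoidHom = R := by
        apply Subgroup.eq_of_le_of_card_ge hle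
        rw [Subgroup.card_map_of_injective (MulAut.conj (g * h)).injective]
      rw [Subgroup.mem_normalizer_iff]
      intro x
      constructor
      · intro hx
        have : (MulAut.conj (g * h)).toMonoidHom x ∈ (R : Subgroup G).map (MulAut.conj (g * h)).toMonoidHom :=
          Subgroup.mem_map_of_mem _ hx
        rw [heq] at this
        exact this
      · intro hx
        rw [← heq] at hx
        obtain ⟨y, hy, hyx⟩ := hx
        have : y = x := (MulAut.conj (g * h)).injective hyx
        rwa [← this]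
    have hgh : g * h ∈ H := by
      have hbigR : Big p (k - 1) (R : Subgroup G) := hAbig.mono hR
      exact hyp R hRH R.2 hbigR hnorm
    apply hg
    have := H.mul_mem hgh (H.inv_mem h.2)
    simpa using this
  · intro hyp X hXP hXbig n hn
    by_contra hnH
    have hXH : X ≤ H := by
      intro x hx
      obtain ⟨y, _, rfl⟩ := hXP hx
      exact y.2
    have := hyp n hnH
    rw [← not_not (a := Cfsg.PRankLE p (k - 1) _), not_pRankLE_iff] at this
    apply this
    refine hXbig.mono (le_inf hXH ?_)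
    intro x hx
    rw [Subgroup.mem_normalizer_iff] at hn
    refine ⟨n⁻¹ * x * n, ?_, by simp [mul_assoc]⟩
    apply hXH
    rw [hn]
    simpa [mul_assoc] using hx

end Cfsg.Agent.S1231
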