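import Mathlib
import Cfsg.Statements.S1236

set_option autoImplicit false
open Cfsg

namespace Cfsg.Agent.S1236

/-- Abstract key lemma: `X` behaves like a cyclic subgroup of index two in which
non-members centralize at most an involution of `X`. -/
theorem key_aux {Q : Type*} [Group Q] (X : Set Q)
    (H0 : ∀ a b : Q, a ∉ X → b ∉ X → a * b ∈ X)
    (H1 : ∀ a b : Q, a ∈ X → b ∈ X → a ^ 2 = 1 → b ^ 2 = 1 → a ≠ 1 → b ≠ 1 → a = b)
    (H2 : ∀ a g : Q, a ∈ X → g ∉ X → a * g = g * a → a ^ 2 = 1)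
    (g b d : Q) (hg : g ∉ X) (hg2 : g ^ 2 = 1) (hb2 : b ^ 2 = 1) (hb1 : b ≠ 1) (hbg : b ≠ g)
    (hgb : g * b = b * g) (hdg : d * g = g * d) :
    d = 1 ∨ d = g ∨ d = b ∨ d = b * g := by
  have hginv : g⁻¹ = g := by
    rw [inv_eq_iff_mul_eq_one, ← pow_two, hg2]
  -- the involution e' of B ∩ X
  obtain ⟨e, heX, he1, he2, hecases⟩ : ∃ e : Q, e ∈ X ∧ e ≠ 1 ∧ e ^ 2 = 1 ∧ (e = b ∨ e = b * g) := by
    by_cases hbX : b ∈ X
    · exact ⟨b, hbX, hb1, hb2, Or.inl rfl⟩
    · refine ⟨b * g, H0 b g hbX hg, ?_, ?_, Or.inr rfl⟩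
      · intro h
        apply hbg
        have : b = g⁻¹ := eq_inv_of_mul_eq_one_left h
        rw [this, hginv]
      · have : (b * g) ^ 2 = b ^ 2 * g ^ 2 := by
          rw [pow_two, pow_two, pow_two]
          calc b * g * (b * g) = b * (g * b) * g := by group
            _ = b * (b * g) * g := by rw [hgb]
            _ = b * b * (g * g) := by group
        rw [this, hb2, hg2, one_mul]
  by_cases hdX : d ∈ X
  · have hd2 : d ^ 2 = 1 := H2 d g hdX hg hdg
    by_cases hd1 : d = 1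
    · exact Or.inl hd1
    · have : d = e := H1 d e hdX heX hd2 he2 hd1 he1
      rcases hecases with h | h
      · exact Or.inr (Or.inr (Or.inl (this.trans h)))
      · exact Or.inr (Or.inr (Or.inr (this.trans h)))
  · have hdgX : d * g ∈ X := H0 d g hdX hg
    have hcomm : (d * g) * g = g * (d * g) := by
      rw [← mul_assoc, ← hdg]
    have hdg2 : (d * g) ^ 2 = 1 := H2 (d * g) g hdgX hg hcomm
    by_cases hdg1 : d * g = 1
    · right; left
      have : d = g⁻¹ := eq_inv_of_mul_eq_one_left hdg1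
      rw [this, hginv]
    · have hde : d * g = e := H1 (d * g) e hdgX heX hdg2 he2 hdg1 he1
      have hd : d = e * g := by
        have : d = d * g * g⁻¹ := by group
        rw [this, hde, hginv]
      rcases hecases with h | h
      · right; right; right
        rw [hd, h]
      · right; right; left
        rw [hd, h, mul_assoc, ← pow_two, hg2, mul_one]

theorem key {Q : Type*} [Group Q] (X : Set Q)
    (H0 : ∀ a b : Q, a ∉ X → b ∉ X → a * b ∈ X)
    (H1 : ∀ a b : Q, a ∈ X → b ∈ X → a ^ 2 = 1 → b ^ 2 = 1 → a ≠ 1 → b ≠ 1 → a = b)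
    (H2 : ∀ a g : Q, a ∈ X → g ∉ X → a * g = g * a → a ^ 2 = 1)
    (b1 b2 d : Q) (h12 : b1 ^ 2 = 1) (h22 : b2 ^ 2 = 1) (h11 : b1 ≠ 1) (h21 : b2 ≠ 1)
    (hne : b1 ≠ b2) (hcomm : b1 * b2 = b2 * b1) (hd1 : d * b1 = b1 * d) (hd2 : d * b2 = b2 * d) :
    d = 1 ∨ d = b1 ∨ d = b2 ∨ d = b1 * b2 := by
  by_cases hb1X : b1 ∈ X
  · by_cases hb2X : b2 ∈ X
    · exact absurd (H1 b1 b2 hb1X hb2X h12 h22 h11 h21) hne
    · have := key_aux X H0 H1 H2 b2 b1 d hb2X h22 h12 h11 hne hcomm.symm hd2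
      rcases this with h | h | h | h
      · exact Or.inl h
      · exact Or.inr (Or.inr (Or.inl h))
      · exact Or.inr (Or.inl h)
      · exact Or.inr (Or.inr (Or.inr h))
  · have := key_aux X H0 H1 H2 b1 b2 d hb1X h12 h22 h21 hne.symm hcomm hd1
    rcases this with h | h | h | h
    · exact Or.inl h
    · exact Or.inr (Or.inl h)
    · exact Or.inr (Or.inr (Or.inl h))
    · exact Or.inr (Or.inr (Or.inr (h.trans hcomm.symm)))

/-- The lifting argument. -/
theorem main {R Q : Type*} [Group R] [Group Q] (f : R →* Q) (t : R)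
    (hker : ∀ r : R, f r = 1 → r = 1 ∨ r = t)
    (X : Set Q)
    (H0 : ∀ a b : Q, a ∉ X → b ∉ X → a * b ∈ X)
    (H1 : ∀ a b : Q, a ∈ X → b ∈ X → a ^ 2 = 1 → b ^ 2 = 1 → a ≠ 1 → b ≠ 1 → a = b)
    (H2 : ∀ a g : Q, a ∈ X → g ∉ X → a * g = g * a → a ^ 2 = 1)
    (A : Subgroup R) (hA : Cfsg.IsElementaryAbelian 2 A) (hA8 : Nat.card A = 8) (htA : t ∈ A) :
    Subgroup.centralizer (A : Set R) = A := by
  obtain ⟨hAc, hA2⟩ := hA
  have hcommA : ∀ a ∈ A, ∀ b ∈ A, a * b = b * a := by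
    intro a ha b hb
    have := hAc.is_comm.comm (⟨a, ha⟩ : A) ⟨b, hb⟩
    exact congrArg Subtype.val this
  -- choose a1, a2
  have hfin : Finite A := Nat.finite_of_card_ne_zero (by rw [hA8]; norm_num)
  have hcard_le : ∀ s : Finset R, (∀ a ∈ A, a ∈ s) → 8 ≤ s.card := by
    intro s hs
    have h1 : (A : Set R) ⊆ (s : Set R) := fun a ha => hs a ha
    have h2 : Set.ncard (A : Set R) ≤ Set.ncard (s : Set R) :=
      Set.ncard_le_ncard h1 (Finset.finite_toSet s)
    rw [Set.ncard_coe_finset] at h2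
    have h3 : Set.ncard (A : Set R) = Nat.card A := by
      rw [← Nat.card_coe_set_eq]; rfl
    omega
  classical
  obtain ⟨a1, ha1A, ha1⟩ : ∃ a1 ∈ A, a1 ∉ ({1, t} : Finset R) := by
    by_contra hcon
    push Not at hcon
    have := hcard_le _ hcon
    have h2 : ({1, t} : Finset R).card ≤ 2 := Finset.card_le_two
    omega
  obtain ⟨a2, ha2A, ha2⟩ : ∃ a2 ∈ A, a2 ∉ ({1, t, a1, a1 * t} : Finset R) := by
    by_contra hcon
    push Not at hcon
    have := hcard_le _ hcon
    have h2 : ({1, t, a1, a1 * t} : Finset R).card ≤ 4 := Finset.card_le_four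
    omega
  simp only [Finset.mem_insert, Finset.mem_singleton, not_or] at ha1 ha2
  have hfa1 : f a1 ≠ 1 := by
    intro h
    rcases hker a1 h with h | h
    · exact ha1.1 h
    · exact ha1.2 h
  have hfa2 : f a2 ≠ 1 := by
    intro h
    rcases hker a2 h with h | h
    · exact ha2.1 h
    · exact ha2.2.1 h
  have hfne : f a1 ≠ f a2 := by
    intro h
    have h' : f (a1⁻¹ * a2) = 1 := by
      rw [map_mul, map_inv, h, inv_mul_cancel]
    rcases hker _ h' with h | h
    · apply ha2.2.2.1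
      have : a2 = a1 * (a1⁻¹ * a2) := by group
      rw [this, h, mul_one]
    · apply ha2.2.2.2
      have : a2 = a1 * (a1⁻¹ * a2) := by group
      rw [this, h]
  apply le_antisymm
  · intro c hc
    rw [Subgroup.mem_centralizer_iff] at hc
    have hc1 : f c * f a1 = f a1 * f c := by
      rw [← map_mul, ← map_mul, (hc a1 ha1A)]
    have hc2 : f c * f a2 = f a2 * f c := by
      rw [← map_mul, ← map_mul, (hc a2 ha2A)]
    have h12 : f a1 * f a2 = f a2 * f a1 := by
      rw [← map_mul, ← map_mul, hcommA a1 ha1A a2 ha2A]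
    have hsq1 : f a1 ^ 2 = 1 := by rw [← map_pow, hA2 a1 ha1A, map_one]
    have hsq2 : f a2 ^ 2 = 1 := by rw [← map_pow, hA2 a2 ha2A, map_one]
    have hk := key X H0 H1 H2 (f a1) (f a2) (f c) hsq1 hsq2 hfa1 hfa2 hfne h12 hc1 hc2
    -- f c = f a for some a ∈ A
    obtain ⟨a, haA, hfa⟩ : ∃ a ∈ A, f c = f a := by
      rcases hk with h | h | h | h
      · exact ⟨1, A.one_mem, by rw [h, map_one]⟩
      · exact ⟨a1, ha1A, h⟩
      · exact ⟨a2, ha2A, h⟩
      · exact ⟨a1 * a2, A.mul_mem ha1A ha2A, by rw [h, map_mul]⟩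
    have h' : f (a⁻¹ * c) = 1 := by
      rw [map_mul, map_inv, hfa, inv_mul_cancel]
    have hc' : c = a * (a⁻¹ * c) := by group
    rcases hker _ h' with h | h
    · rw [hc', h, mul_one]; exact haA
    · rw [hc', h]; exact A.mul_mem haA htA
  · intro a ha
    rw [Subgroup.mem_centralizer_iff]
    intro b hb
    exact hcommA b hb a ha


theorem dih_H0 (m : ℕ) (a b : DihedralGroup m) (ha : a ∉ Set.range (DihedralGroup.r (n := m)))
    (hb : b ∉ Set.range (DihedralGroup.r (n := m))) : a * b ∈ Set.range (DihedralGroup.r (n := m)) := by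
  cases a with
  | r i => exact absurd ⟨i, rfl⟩ ha
  | sr i =>
    cases b with
    | r j => exact absurd ⟨j, rfl⟩ hb
    | sr j => exact ⟨j - i, (DihedralGroup.sr_mul_sr i j).symm⟩

theorem zmod_two_mul_unique (m : ℕ) (hm : 2 ≤ m) (i j : ZMod m) (hi : i + i = 0) (hj : j + j = 0)
    (hi0 : i ≠ 0) (hj0 : j ≠ 0) : i = j := by
  have : NeZero m := ⟨by omega⟩
  have hval : ∀ k : ZMod m, k + k = 0 → k ≠ 0 → 2 * k.val = m := by
    intro k hk hk0
    have h1 : ((2 * k.val : ℕ) : ZMod m) = 0 := by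
      push_cast
      rw [ZMod.natCast_zmod_val, two_mul, hk]
    rw [ZMod.natCast_eq_zero_iff] at h1
    have h2 : k.val < m := ZMod.val_lt k
    have h3 : k.val ≠ 0 := by
      intro h
      exact hk0 ((ZMod.val_eq_zero k).mp h)
    obtain ⟨c, hc⟩ := h1
    have : c = 1 := by
      rcases c with _ | _ | c
      · omega
      · rfl
      · nlinarith
    rw [this, mul_one] at hc
    exact hc
  have h1 := hval i hi hi0
  have h2 := hval j hj hj0
  apply ZMod.val_injective m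
  omega

theorem dih_H1 (m : ℕ) (hm : 2 ≤ m) (a b : DihedralGroup m)
    (ha : a ∈ Set.range (DihedralGroup.r (n := m)))
    (hb : b ∈ Set.range (DihedralGroup.r (n := m))) (ha2 : a ^ 2 = 1) (hb2 : b ^ 2 = 1)
    (ha1 : a ≠ 1) (hb1 : b ≠ 1) : a = b := by
  obtain ⟨i, rfl⟩ := ha
  obtain ⟨j, rfl⟩ := hb
  rw [pow_two, DihedralGroup.r_mul_r, DihedralGroup.one_def] at ha2 hb2
  have hi : i + i = 0 := by injection ha2
  have hj : j + j = 0 := by injection hb2
  have hi0 : i ≠ 0 := by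
    rintro rfl
    exact ha1 (DihedralGroup.one_def).symm
  have hj0 : j ≠ 0 := by
    rintro rfl
    exact hb1 (DihedralGroup.one_def).symm
  rw [zmod_two_mul_unique m hm i j hi hj hi0 hj0]

theorem dih_H2 (m : ℕ) (a g : DihedralGroup m)
    (ha : a ∈ Set.range (DihedralGroup.r (n := m)))
    (hg : g ∉ Set.range (DihedralGroup.r (n := m))) (hcomm : a * g = g * a) : a ^ 2 = 1 := by
  obtain ⟨k, rfl⟩ := ha
  cases g with
  | r i => exact absurd ⟨i, rfl⟩ hg
  | sr i =>
    rw [DihedralGroup.r_mul_sr, DihedralGroup.sr_mul_r] at hcomm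
    have h : i - k = i + k := by injection hcomm
    have hk : k + k = 0 := by
      have : k + k = (i + k) - (i - k) := by ring
      rw [this, h, sub_self]
    rw [pow_two, DihedralGroup.r_mul_r, hk, DihedralGroup.one_def]

theorem ker_two {R : Type*} [Group R] [Finite R] (t : R) (ht : orderOf t = 2) (r : R)
    (hr : r ∈ Subgroup.zpowers t) : r = 1 ∨ r = t := by
  classical
  rw [mem_zpowers_iff_mem_range_orderOf, ht] at hr
  simp only [Finset.mem_image, Finset.mem_range] at hr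
  obtain ⟨k, hk, rfl⟩ := hr
  interval_cases k
  · left; simp
  · right; simp


theorem qd_facts {Q : Type*} [Group Q] [Finite Q] (n : ℕ) (hn : 3 ≤ n)
    (hcard : Nat.card Q = 2 ^ (n + 1)) (x y : Q) (hx : orderOf x = 2 ^ n) (hy : orderOf y = 2)
    (hxy : y * x * y⁻¹ = x ^ (2 ^ (n - 1) - 1)) :
    (∀ a b : Q, a ∉ (Subgroup.zpowers x : Set Q) → b ∉ (Subgroup.zpowers x : Set Q) →
      a * b ∈ (Subgroup.zpowers x : Set Q)) ∧
    (∀ a b : Q, a ∈ (Subgroup.zpowers x : Set Q) → b ∈ (Subgroup.zpowers x : Set Q) →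
      a ^ 2 = 1 → b ^ 2 = 1 → a ≠ 1 → b ≠ 1 → a = b) ∧
    (∀ a g : Q, a ∈ (Subgroup.zpowers x : Set Q) → g ∉ (Subgroup.zpowers x : Set Q) →
      a * g = g * a → a ^ 2 = 1) := by
  classical
  obtain ⟨k, rfl⟩ : ∃ k, n = k + 3 := ⟨n - 3, by omega⟩
  have he : 2 ^ (k + 3 - 1) - 1 = 1 + 2 * (2 ^ (k + 1) - 1) := by
    have h1 : k + 3 - 1 = (k + 1) + 1 := by omega
    rw [h1, pow_succ]
    have : 1 ≤ 2 ^ (k + 1) := Nat.one_le_two_pow
    omega
  rw [he] at hxy
  have hodd : Odd (2 ^ (k + 1) - 1) := by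
    have h1 : Even (2 ^ (k + 1)) := by
      rw [pow_succ]; exact even_two.mul_left _
    have h2 : 1 ≤ 2 ^ (k + 1) := Nat.one_le_two_pow
    exact Nat.Even.sub_odd h2 h1 odd_one
  have hidx : (Subgroup.zpowers x).index = 2 := by
    have h1 := Subgroup.card_mul_index (Subgroup.zpowers x)
    rw [Nat.card_zpowers, hx, hcard, pow_succ] at h1
    exact Nat.eq_of_mul_eq_mul_left (by positivity) h1
  have H0 : ∀ a b : Q, a ∉ (Subgroup.zpowers x : Set Q) → b ∉ (Subgroup.zpowers x : Set Q) →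
      a * b ∈ (Subgroup.zpowers x : Set Q) := by
    intro a b ha hb
    have := Subgroup.mul_mem_iff_of_index_two hidx (a := a) (b := b)
    exact this.mpr ⟨fun h => absurd h ha, fun h => absurd h hb⟩
  -- conjugation of powers
  have hconj : ∀ j : ℕ, y * x ^ j * y⁻¹ = (x ^ (1 + 2 * (2 ^ (k + 1) - 1))) ^ j := by
    intro j
    rw [← hxy, conj_pow]
  -- y is not a power of x
  have hy_notin : y ∉ Subgroup.zpowers x := by
    intro hyx
    obtain ⟨z, hz⟩ := Subgroup.mem_zpowers_iff.mp hyx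
    have hcomm : y * x = x * y := by
      rw [← hz]
      exact (Commute.zpow_self x z).symm.eq ▸ rfl
    have h1 : y * x * y⁻¹ = x := by rw [hcomm]; group
    rw [h1] at hxy
    have h2 : x ^ (2 * (2 ^ (k + 1) - 1)) = 1 := by
      have : x ^ (1 + 2 * (2 ^ (k + 1) - 1)) = x * x ^ (2 * (2 ^ (k + 1) - 1)) := by
        rw [pow_add, pow_one]
      rw [this] at hxy
      exact (mul_eq_left.mp hxy.symm)
    have h3 := orderOf_dvd_of_pow_eq_one h2
    rw [hx] at h3
    have h4 : 2 * (2 ^ (k + 1) - 1) < 2 ^ (k + 3) := by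
      have : 2 ^ (k + 3) = 4 * 2 ^ (k + 1) := by ring
      have h5 : 1 ≤ 2 ^ (k + 1) := Nat.one_le_two_pow
      omega
    have h5 : 0 < 2 * (2 ^ (k + 1) - 1) := by
      have : 2 ≤ 2 ^ (k + 1) := by
        calc 2 = 2 ^ 1 := by norm_num
          _ ≤ 2 ^ (k + 1) := Nat.pow_le_pow_right (by norm_num) (by omega)
      omega
    exact absurd (Nat.le_of_dvd h5 h3) (by omega)
  refine ⟨H0, ?_, ?_⟩
  · -- unique involution
    have huniq : ∀ a : Q, a ∈ (Subgroup.zpowers x : Set Q) → a ^ 2 = 1 → a ≠ 1 →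
        a = x ^ (2 ^ (k + 2)) := by
      intro a ha ha2 ha1
      have ha' : a ∈ Subgroup.zpowers x := ha
      rw [mem_zpowers_iff_mem_range_orderOf, hx] at ha'
      simp only [Finset.mem_image, Finset.mem_range] at ha'
      obtain ⟨j, hj, rfl⟩ := ha'
      rw [← pow_mul] at ha2
      have h3 := orderOf_dvd_of_pow_eq_one ha2
      rw [hx] at h3
      have h4 : 2 ^ (k + 2) ∣ j := by
        have : 2 ^ (k + 3) = 2 ^ (k + 2) * 2 := by ring
        rw [this] at h3
        exact Nat.dvd_of_mul_dvd_mul_right (by norm_num) h3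
      obtain ⟨c, rfl⟩ := h4
      have hc : c < 2 := by
        have : 2 ^ (k + 3) = 2 ^ (k + 2) * 2 := by ring
        rw [this] at hj
        exact Nat.lt_of_mul_lt_mul_left hj
      interval_cases c
      · simp at ha1
      · simp
    intro a b ha hb ha2 hb2 ha1 hb1
    rw [huniq a ha ha2 ha1, huniq b hb hb2 hb1]
  · intro a g ha hg hag
    have hgy : g * y ∈ Subgroup.zpowers x := H0 g y hg hy_notin
    have ha' : a ∈ Subgroup.zpowers x := ha
    -- a commutes with g*y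
    have hcomm1 : a * (g * y) = (g * y) * a := by
      obtain ⟨z1, hz1⟩ := Subgroup.mem_zpowers_iff.mp ha'
      obtain ⟨z2, hz2⟩ := Subgroup.mem_zpowers_iff.mp hgy
      rw [← hz1, ← hz2]
      exact ((Commute.refl x).zpow_zpow z1 z2).eq
    have hay : y * a * y⁻¹ = a := by
      have h1 : a * y = y * a := by
        have : y = g⁻¹ * (g * y) := by group
        calc a * y = a * (g⁻¹ * (g * y)) := by rw [← this]
          _ = g⁻¹ * (g * a) * g⁻¹ * (g * y) := by group
          _ = g⁻¹ * (a * g) * g⁻¹ * (g * y) := by rw [hag]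
          _ = g⁻¹ * (a * (g * y)) := by group
          _ = g⁻¹ * ((g * y) * a) := by rw [hcomm1]
          _ = y * a := by group
      rw [← h1]; group
    rw [mem_zpowers_iff_mem_range_orderOf, hx] at ha'
    simp only [Finset.mem_image, Finset.mem_range] at ha'
    obtain ⟨j, hj, rfl⟩ := ha'
    rw [hconj j, ← pow_mul] at hay
    have h2 : x ^ (2 * (2 ^ (k + 1) - 1) * j) = 1 := by
      have : x ^ ((1 + 2 * (2 ^ (k + 1) - 1)) * j) = x ^ j * x ^ (2 * (2 ^ (k + 1) - 1) * j) := by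
        rw [← pow_add]; congr 1; ring
      rw [this] at hay
      exact mul_eq_left.mp hay
    have h3 := orderOf_dvd_of_pow_eq_one h2
    rw [hx] at h3
    have h4 : 2 ^ (k + 2) ∣ (2 ^ (k + 1) - 1) * j := by
      have e1 : 2 ^ (k + 3) = 2 * 2 ^ (k + 2) := by ring
      have e2 : 2 * (2 ^ (k + 1) - 1) * j = 2 * ((2 ^ (k + 1) - 1) * j) := by ring
      rw [e1, e2] at h3
      exact Nat.dvd_of_mul_dvd_mul_left (by norm_num) h3
    have hcop : Nat.Coprime (2 ^ (k + 2)) (2 ^ (k + 1) - 1) := by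
      apply Nat.Coprime.pow_left
      rw [Nat.coprime_two_left]
      exact hodd
    have h5 : 2 ^ (k + 2) ∣ j := hcop.dvd_of_dvd_mul_left h4
    obtain ⟨c, rfl⟩ := h5
    rw [← pow_mul]
    have : 2 ^ (k + 2) * c * 2 = 2 ^ (k + 3) * c := by ring
    rw [this, pow_mul, ← hx, pow_orderOf_eq_one, one_pow]

theorem result {R : Type*} [Group R] [Finite R] (t : R) (ht : orderOf t = 2) (htz : t ∈ Subgroup.center R) [(Subgroup.zpowers t).Normal] (hq : (∃ m : ℕ, 2 ≤ m ∧ Nonempty (R ⧸ Subgroup.zpowers t ≃* DihedralGroup m)) ∨ Cfsg.IsQuasiDihedral (R ⧸ Subgroup.zpowers t)) (A : Subgroup R) (hA : Cfsg.IsElementaryAbelian 2 A) (hA8 : Nat.card A = 8) (htA : t ∈ A) : Subgroup.centralizer (A : Set R) = A := by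
  have hkerπ : ∀ r : R, (QuotientGroup.mk' (Subgroup.zpowers t)) r = 1 → r = 1 ∨ r = t := by
    intro r hr
    have : r ∈ Subgroup.zpowers t := by
      rw [← QuotientGroup.ker_mk' (Subgroup.zpowers t)]
      exact hr
    exact ker_two t ht r this
  rcases hq with ⟨m, hm, ⟨φ⟩⟩ | hqd
  · refine main (φ.toMonoidHom.comp (QuotientGroup.mk' (Subgroup.zpowers t))) t ?_
      (Set.range (DihedralGroup.r (n := m))) (dih_H0 m) (dih_H1 m hm) (dih_H2 m) A hA hA8 htA
    intro r hr
    apply hkerπ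
    have : φ ((QuotientGroup.mk' (Subgroup.zpowers t)) r) = 1 := hr
    rwa [MulEquiv.map_eq_one_iff] at this
  · obtain ⟨n, hn, hcard, x, y, hx, hy, hxy⟩ := hqd
    obtain ⟨H0, H1, H2⟩ := qd_facts n hn hcard x y hx hy hxy
    exact main (QuotientGroup.mk' (Subgroup.zpowers t)) t hkerπ
      (Subgroup.zpowers x : Set (R ⧸ Subgroup.zpowers t)) H0 H1 H2 A hA hA8 htA

end Cfsg.Agent.S1236
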