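import Mathlib
import Cfsg.Statements.S1241

set_option autoImplicit false
open Cfsg

namespace Cfsg.Agent.S1241

open MulAction Subgroup in
theorem transfer_eq_pow_of_ctrl {G : Type*} [Group G] {A : Type*} [CommGroup A] (H : Subgroup G) [H.FiniteIndex]
    (ϕ : H →* A) (g : G) (hgH : g ∈ H)
    (key : ∀ (k : ℕ) (g₀ : G) (hk : g₀⁻¹ * g ^ k * g₀ ∈ H), ϕ ⟨g₀⁻¹ * g ^ k * g₀, hk⟩ = ϕ ⟨g, hgH⟩ ^ k) :
    MonoidHom.transfer ϕ g = ϕ ⟨g, hgH⟩ ^ H.index := by
  classical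
  let := H.fintypeQuotientOfFiniteIndex
  rw [MonoidHom.transfer_eq_prod_quotient_orbitRel_zpowers_quot]
  have : ∀ q : Quotient (orbitRel (zpowers g) (G ⧸ H)),
      ϕ ⟨q.out.out⁻¹ * g ^ Function.minimalPeriod (g • ·) q.out * q.out.out,
            QuotientGroup.out_conj_pow_minimalPeriod_mem H g q.out⟩
        = ϕ ⟨g, hgH⟩ ^ Function.minimalPeriod (g • ·) q.out := fun q => key _ _ _
  simp_rw [this]
  rw [Finset.prod_pow_eq_pow_sum, ← index_eq_sum_minimalPeriod H g]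

/-- Let G be a finite group, p a prime, H a subgroup of index prime to p, K a subgroup of H normal in H with H/K commutative, and g ∈ H ∖ K an element of p-power order such that for all integers m and all a ∈ G with a g^m a⁻¹ ∈ H one has a g^m a⁻¹ ∈ g^m K. Then g ∉ G'. -/
theorem result {G : Type*} [Group G] [Finite G] {p : ℕ} [Fact p.Prime] (H K : Subgroup G) (hHK : K ≤ H) (hKn : (K.subgroupOf H).Normal) (hab : ∀ x ∈ H, ∀ y ∈ H, x * y * x⁻¹ * y⁻¹ ∈ K) (hidx : Nat.Coprime p H.index) (g : G) (hgH : g ∈ H) (hgK : g ∉ K) (hgp : ∃ k : ℕ, orderOf g = p ^ k) (hctrl : ∀ (m : ℤ) (a : G), a * g ^ m * a⁻¹ ∈ H → (a * g ^ m * a⁻¹) * (g ^ m)⁻¹ ∈ K) : g ∉ commutator G := by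
  classical
  let _ : CommGroup (H ⧸ K.subgroupOf H) :=
    { (inferInstance : Group (H ⧸ K.subgroupOf H)) with
      mul_comm := by
        intro a b
        induction a using QuotientGroup.induction_on with
        | H x =>
          induction b using QuotientGroup.induction_on with
          | H y =>
            rw [← QuotientGroup.mk_mul, ← QuotientGroup.mk_mul, QuotientGroup.eq]
            rw [Subgroup.mem_subgroupOf]
            have := hab (y⁻¹ : H) (y⁻¹ : H).2 (x⁻¹ : H) (x⁻¹ : H).2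
            simpa [mul_assoc] using this }
  let ϕ : H →* H ⧸ K.subgroupOf H := QuotientGroup.mk' (K.subgroupOf H)
  have hkey : ∀ (k : ℕ) (g₀ : G) (hk : g₀⁻¹ * g ^ k * g₀ ∈ H), ϕ ⟨g₀⁻¹ * g ^ k * g₀, hk⟩ = ϕ ⟨g, hgH⟩ ^ k := by
    intro k g₀ hk
    rw [← map_pow]
    show (QuotientGroup.mk _ : H ⧸ K.subgroupOf H) = QuotientGroup.mk _
    rw [eq_comm, QuotientGroup.eq, Subgroup.mem_subgroupOf]
    have h1 := hctrl (k : ℤ) g₀⁻¹ (by simpa using hk)
    have h2 : (g ^ k)⁻¹ * (g₀⁻¹ * g ^ k * g₀) ∈ K := by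
      simp only [zpow_natCast, inv_inv] at h1
      have hu : g ^ k ∈ H := H.pow_mem hgH k
      have hm : (⟨g₀⁻¹ * g ^ k * g₀ * (g ^ k)⁻¹, hHK h1⟩ : H) ∈ K.subgroupOf H := by
        rw [Subgroup.mem_subgroupOf]; exact h1
      have hc := hKn.conj_mem _ hm (⟨(g ^ k)⁻¹, H.inv_mem hu⟩ : H)
      rw [Subgroup.mem_subgroupOf] at hc
      have h6 : (g ^ k)⁻¹ * (g₀⁻¹ * g ^ k * g₀) = (g ^ k)⁻¹ * (g₀⁻¹ * g ^ k * g₀ * (g ^ k)⁻¹) * ((g ^ k)⁻¹)⁻¹ := by group
      rw [h6]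
      simpa using hc
    simpa using h2
  have htr := transfer_eq_pow_of_ctrl H ϕ g hgH hkey
  intro hgc
  have h1 : MonoidHom.transfer ϕ g = 1 := by
    have := Abelianization.commutator_subset_ker (MonoidHom.transfer ϕ) hgc
    exact this
  rw [htr] at h1
  -- order of ϕ g
  have hne : ϕ ⟨g, hgH⟩ ≠ 1 := by
    intro h
    have : (⟨g, hgH⟩ : H) ∈ K.subgroupOf H := by
      rw [← QuotientGroup.eq_one_iff]; exact h
    exact hgK (by simpa [Subgroup.mem_subgroupOf] using this)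
  obtain ⟨k, hk⟩ := hgp
  have hd1 : orderOf (ϕ ⟨g, hgH⟩) ∣ p ^ k := by
    rw [← hk]
    have : orderOf (⟨g, hgH⟩ : H) = orderOf g := Subgroup.orderOf_mk g hgH
    rw [← this]
    exact orderOf_map_dvd ϕ _
  have hd2 : orderOf (ϕ ⟨g, hgH⟩) ∣ H.index := orderOf_dvd_of_pow_eq_one h1
  obtain ⟨j, hj, hj2⟩ := (Nat.dvd_prime_pow (Fact.out : p.Prime)).1 hd1
  have : j ≠ 0 := by
    rintro rfl
    rw [pow_zero, orderOf_eq_one_iff] at hj2
    exact hne hj2
  have hp : p ∣ H.index := by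
    refine dvd_trans ?_ hd2
    rw [hj2]
    exact dvd_pow_self p this
  have := Nat.Coprime.eq_one_of_dvd hidx hp
  exact (Fact.out : p.Prime).one_lt.ne' this

end Cfsg.Agent.S1241
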