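import Cfsg.Statements.S1243
import Cfsg.Agent.Helper7.Basic

set_option autoImplicit false
open Cfsg

namespace Cfsg.Agent.S1243

open Cfsg.Agent.Helper7

/-- Let T be a Sylow p-subgroup of the finite group G and W ≤ T a subgroup weakly closed in T. If d and g d g⁻¹ both centralize W, then g d g⁻¹ = h d h⁻¹ for some h ∈ N_G(W). -/
theorem result {G : Type*} [Group G] [Finite G] {p : ℕ} [Fact p.Prime] (T : Sylow p G) (W : Subgroup G) (hW : Cfsg.IsWeaklyClosed W (T : Subgroup G)) (d g : G) (hd : d ∈ Subgroup.centralizer (W : Set G)) (hgd : g * d * g⁻¹ ∈ Subgroup.centralizer (W : Set G)) : ∃ h ∈ Subgroup.normalizer (W : Set G), h * d * h⁻¹ = g * d * g⁻¹ := by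
  obtain ⟨hWT, hwc⟩ := hW
  set e := g * d * g⁻¹ with he
  set C := Subgroup.centralizer ({e} : Set G) with hC
  have hWp : IsPGroup p W := T.2.to_le hWT
  -- W ≤ C
  have hWC : W ≤ C := by
    intro w hw
    rw [hC, Subgroup.mem_centralizer_iff]
    intro x hx
    rw [Set.mem_singleton_iff] at hx
    subst hx
    exact (hgd w hw).symm
  -- g W g⁻¹ ≤ C
  have hVC : W.map (MulAut.conj g).toMonoidHom ≤ C := by
    rintro _ ⟨w, hw, rfl⟩
    rw [hC, Subgroup.mem_centralizer_iff]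
    intro x hx
    rw [Set.mem_singleton_iff] at hx
    subst hx
    have := hd w hw
    simp only [MulEquiv.coe_toMonoidHom, MulAut.conj_apply, he]
    calc g * d * g⁻¹ * (g * w * g⁻¹) = g * (d * w) * g⁻¹ := by group
      _ = g * (w * d) * g⁻¹ := by rw [← this]
      _ = g * w * g⁻¹ * (g * d * g⁻¹) := by group
  have hWCp : IsPGroup p (W.subgroupOf C) :=
    hWp.comap_of_injective C.subtype (Subgroup.subtype_injective C)
  have hVCp : IsPGroup p ((W.map (MulAut.conj g).toMonoidHom).subgroupOf C) :=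
    (hWp.map _).comap_of_injective C.subtype (Subgroup.subtype_injective C)
  obtain ⟨P, hP⟩ := hWCp.exists_le_sylow
  obtain ⟨Q, hQ⟩ := hVCp.exists_le_sylow
  obtain ⟨c, hc⟩ := MulAction.exists_smul_eq C Q P
  obtain ⟨R, hR⟩ := (P.2.map C.subtype).exists_le_sylow
  obtain ⟨x, hx⟩ := MulAction.exists_smul_eq G T R
  -- W ≤ R
  have h1 : ∀ w ∈ W, w ∈ R := by
    intro w hw
    apply hR
    exact ⟨⟨w, hWC hw⟩, hP (by simpa [Subgroup.mem_subgroupOf] using hw), rfl⟩
  have h2 : ∀ w ∈ W, (c : G) * g * w * g⁻¹ * (c : G)⁻¹ ∈ R := by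
    intro w hw
    apply hR
    have hgw : g * w * g⁻¹ ∈ W.map (MulAut.conj g).toMonoidHom := conj_mem_map_conj hw
    have hq : (⟨g * w * g⁻¹, hVC hgw⟩ : C) ∈ Q := hQ (by simpa [Subgroup.mem_subgroupOf] using hgw)
    have hp : (⟨g * w * g⁻¹, hVC hgw⟩ : C) ∈ c⁻¹ • P := by
      rw [← hc, inv_smul_smul]; exact hq
    rw [mem_sylow_smul_iff] at hp
    refine ⟨_, hp, ?_⟩
    simp [mul_assoc]
  -- translate through x • T = R
  have h3 : W.map (MulAut.conj x⁻¹).toMonoidHom ≤ T := by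
    rintro _ ⟨w, hw, rfl⟩
    have := h1 w hw
    rw [← hx, mem_sylow_smul_iff] at this
    show _ ∈ T
    simpa [MulAut.conj_apply] using this
  have h4 : W.map (MulAut.conj (x⁻¹ * c * g)).toMonoidHom ≤ T := by
    rintro _ ⟨w, hw, rfl⟩
    have := h2 w hw
    rw [← hx, mem_sylow_smul_iff] at this
    show _ ∈ T
    simpa [MulAut.conj_apply, mul_assoc] using this
  have h5 := hwc _ h3
  have h6 := hwc _ h4
  rw [← mem_normalizer_iff_map_conj_eq'] at h5 h6
  refine ⟨c * g, ?_, ?_⟩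
  · have := Subgroup.mul_mem _ (Subgroup.inv_mem _ h5) h6
    simpa [mul_assoc] using this
  · have := (Subgroup.mem_centralizer_iff.mp c.2) e rfl
    calc (c : G) * g * d * ((c : G) * g)⁻¹ = c * (g * d * g⁻¹) * (c : G)⁻¹ := by group
      _ = c * e * (c : G)⁻¹ := by rw [he]
      _ = e * c * (c : G)⁻¹ := by rw [this]
      _ = e := by group

end Cfsg.Agent.S1243
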