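import Cfsg.Statements.S1244
import Cfsg.Agent.Helper18.TransferAbelian

set_option autoImplicit false
open Cfsg

namespace Cfsg.Agent.S1244

/-- Let G be a finite group with no subgroup of index 2 whose Sylow 2-subgroup S is commutative, and let R ≤ S be a subgroup whose 2-rank is exactly one less than the 2-rank r of S. Then every involution of S is conjugate, by an element of N_G(S), to an element of R. -/
theorem result {G : Type*} [Group G] [Finite G] (hG : ∀ H : Subgroup G, H.index ≠ 2) (S : Sylow 2 G) (hS : IsMulCommutative (S : Subgroup G)) (r : ℕ) (hr1 : 1 ≤ r) (hSr : Cfsg.PRankLE 2 r (S : Subgroup G) ∧ ¬ Cfsg.PRankLE 2 (r - 1) (S : Subgroup G)) (R : Subgroup G) (hRS : R ≤ S) (hRr : Cfsg.PRankLE 2 (r - 1) R ∧ (r = 1 ∨ ¬ Cfsg.PRankLE 2 (r - 2) R)) (t : G) (ht : orderOf t = 2) (htS : t ∈ S) : ∃ n ∈ Subgroup.normalizer ((S : Subgroup G) : Set G), n * t * n⁻¹ ∈ R := by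
  classical
  have htt : t ^ 2 = 1 := by rw [← ht]; exact pow_orderOf_eq_one t
  -- an elementary abelian subgroup of `R` (inside `S`) of order more than `2 ^ r / 4`
  obtain ⟨B₀, hB₀le, hB₀exp, hB₀card⟩ : ∃ B₀ : Subgroup ↥(S : Subgroup G),
      B₀ ≤ R.subgroupOf (S : Subgroup G) ∧ (∀ b ∈ B₀, b ^ 2 = 1) ∧ 2 ^ r < 4 * Nat.card B₀ := by
    rcases hRr.2 with h1 | h2
    · refine ⟨⊥, bot_le, ?_, ?_⟩
      · intro b hb
        rw [Subgroup.mem_bot] at hb
        rw [hb]; simp
      · rw [h1]; simp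
    · unfold Cfsg.PRankLE at h2
      push Not at h2
      obtain ⟨A, hAc, hAexp, hAcard⟩ := h2
      refine ⟨A.map (Subgroup.inclusion hRS), ?_, ?_, ?_⟩
      · rintro _ ⟨a, -, rfl⟩
        rw [Subgroup.mem_subgroupOf]
        exact a.2
      · rintro _ ⟨a, ha, rfl⟩
        rw [← map_pow, hAexp a ha, map_one]
      · rw [Subgroup.card_map_of_injective (Subgroup.inclusion_injective hRS)]
        have h4 : 2 ^ r ≤ 4 * 2 ^ (r - 2) := by
          rcases Nat.lt_or_ge r 2 with h | h
          · have : r = 1 := by omega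
            rw [this]; norm_num
          · obtain ⟨c, rfl⟩ : ∃ c, r = c + 2 := ⟨r - 2, by omega⟩
            rw [Nat.add_sub_cancel, pow_add]; omega
        omega
  have hfin : Finite ↥(S : Subgroup G) := inferInstance
  have hK : ∀ x ∈ (S : Subgroup G), x ^ 2 = 1 → x ∉ R → ∀ y ∈ (S : Subgroup G), y ^ 2 = 1 → y ∉ R →
      x * y⁻¹ ∈ R := by
    intro x hx hx2 hxR y hy hy2 hyR
    have := Cfsg.Agent.Helper18.mul_inv_mem_of_rank (P := ↥(S : Subgroup G)) (hc := hS) r hSr.1
      (R.subgroupOf (S : Subgroup G)) B₀ hB₀le hB₀exp hB₀card ⟨x, hx⟩ ⟨y, hy⟩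
      (Subtype.ext (by simpa using hx2)) (Subtype.ext (by simpa using hy2))
      (by rw [Subgroup.mem_subgroupOf]; exact hxR) (by rw [Subgroup.mem_subgroupOf]; exact hyR)
    rw [Subgroup.mem_subgroupOf] at this
    simpa using this
  exact Cfsg.Agent.Helper18.exists_normalizer_conj_mem hG S hS R hK t htt htS

end Cfsg.Agent.S1244
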