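import Cfsg.Statements.S1249
import Cfsg.Agent.Helper7.Basic

set_option autoImplicit false
open Cfsg

namespace Cfsg.Agent.S1249

open Cfsg.Agent.Helper7

/-- Let P and Q be Sylow p-subgroups of the finite group G both containing the subgroup A. If A is strongly closed in P, then A is strongly closed in Q. -/
theorem result {G : Type*} [Group G] [Finite G] {p : ℕ} [Fact p.Prime] (P Q : Sylow p G) (A : Subgroup G) (hAQ : A ≤ Q) (hA : Cfsg.IsStronglyClosed A (P : Subgroup G)) : Cfsg.IsStronglyClosed A (Q : Subgroup G) := by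
  obtain ⟨hAP, hsc⟩ := hA
  refine ⟨hAQ, ?_⟩
  obtain ⟨c, hc⟩ := MulAction.exists_smul_eq G P Q
  have hQ : ∀ y, y ∈ Q ↔ c⁻¹ * y * c ∈ P := by
    intro y; rw [← hc, mem_sylow_smul_iff]
  have h1 : ∀ a ∈ A, c⁻¹ * a * c ∈ A := by
    intro a ha
    have := (hQ a).1 (hAQ ha)
    have h2 := hsc a ha c⁻¹
    simp only [inv_inv] at h2
    exact h2 this
  have h2 := conj_mem_of_forall_inv_conj_mem h1
  intro x hx g hg
  have h3 : c⁻¹ * (g * x * g⁻¹) * c ∈ P := (hQ _).1 hg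
  have h4 := hsc x hx (c⁻¹ * g)
  have e : c⁻¹ * g * x * (c⁻¹ * g)⁻¹ = c⁻¹ * (g * x * g⁻¹) * c := by group
  rw [e] at h4
  have h5 := h2 _ (h4 h3)
  have e2 : c * (c⁻¹ * (g * x * g⁻¹) * c) * c⁻¹ = g * x * g⁻¹ := by group
  rwa [e2] at h5

end Cfsg.Agent.S1249
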