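import Cfsg.Statements.S1250
import Cfsg.Agent.Helper7.Basic

set_option autoImplicit false
open Cfsg

namespace Cfsg.Agent.S1250

open Cfsg.Agent.Helper7

/-- Let S be a Sylow p-subgroup of the finite group G, A ≤ S strongly closed in S, and N a normal subgroup. Then the image of A in G ⧸ N is strongly closed in the image of S (which is a Sylow p-subgroup of G ⧸ N). -/
theorem result {G : Type*} [Group G] [Finite G] {p : ℕ} [Fact p.Prime] (S : Sylow p G) (A : Subgroup G) (hA : Cfsg.IsStronglyClosed A (S : Subgroup G)) (N : Subgroup G) [N.Normal] : Cfsg.IsStronglyClosed (A.map (QuotientGroup.mk' N)) ((S : Subgroup G).map (QuotientGroup.mk' N)) := by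
  obtain ⟨hAS, hsc⟩ := hA
  refine ⟨Subgroup.map_mono hAS, ?_⟩
  rintro _ ⟨a, ha, rfl⟩ gbar hg
  obtain ⟨g, rfl⟩ := QuotientGroup.mk'_surjective N gbar
  obtain ⟨s, hs, hsg⟩ := hg
  -- y = g a g⁻¹ lies in S ⊔ N
  set y := g * a * g⁻¹ with hy
  have hsy : (QuotientGroup.mk' N) s = (QuotientGroup.mk' N) y := by
    rw [hsg, hy]; simp
  have hyH : y ∈ (S : Subgroup G) ⊔ N := by
    have h1 : s⁻¹ * y ∈ N := by
      rw [← QuotientGroup.eq]; exact hsy
    have : y = s * (s⁻¹ * y) := by group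
    rw [this]
    exact Subgroup.mul_mem_sup hs h1
  have hYp : IsPGroup p (Subgroup.zpowers y) := by
    have h1 : IsPGroup p (Subgroup.zpowers a) :=
      S.2.to_le ((Subgroup.zpowers_le.2 ha).trans hAS)
    have h2 := h1.map (MulAut.conj g).toMonoidHom
    rw [MonoidHom.map_zpowers] at h2
    exact h2
  obtain ⟨h, hh, hconj⟩ := exists_conj_mem_sylow_of_le S (H := (S : Subgroup G) ⊔ N)
    le_sup_left (Subgroup.zpowers_le.2 hyH) hYp
  obtain ⟨s', hs', n, hn, rfl⟩ := Subgroup.mem_sup_of_normal_right.1 hh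
  have h1 := hconj y (Subgroup.mem_zpowers y)
  -- n y n⁻¹ ∈ S
  have h2 : n * y * n⁻¹ ∈ S := by
    have : n * y * n⁻¹ = s'⁻¹ * (s' * n * y * (s' * n)⁻¹) * s' := by group
    rw [this]
    exact S.mul_mem (S.mul_mem (S.inv_mem hs') h1) hs'
  have h3 := hsc a ha (n * g)
  have e : n * g * a * (n * g)⁻¹ = n * y * n⁻¹ := by rw [hy]; group
  rw [e] at h3
  have h4 := h3 h2
  refine ⟨n * y * n⁻¹, h4, ?_⟩
  have hn' : (QuotientGroup.mk' N) n = 1 := by
    rw [QuotientGroup.mk'_apply, QuotientGroup.eq_one_iff]; exact hn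
  rw [map_mul, map_mul, map_inv, hn', hy]
  simp

end Cfsg.Agent.S1250
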