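import Mathlib
import Cfsg.Statements.S1256
import Cfsg.Agent.Helper3.DihKlein
import Cfsg.Agent.Helper16.DihFusion
import Cfsg.Agent.Helper18.DihFusion
import Cfsg.Agent.Helper10.SylowSub

set_option autoImplicit false
set_option linter.style.haveILetI false
set_option linter.unusedSectionVars false
open Cfsg

namespace Cfsg.Agent.S1256

section aux

open DihedralGroup
open Cfsg.Agent.Helper14 Cfsg.Agent.Helper16.DihFusion Cfsg.Agent.Helper18.DihFusion
open Cfsg.Agent.Helper18.QD (hh two_mul_hh hh_ne_zero even_or_odd two_mul_ne_odd)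

variable {X : Type*} [Group X] [Finite X]

/-- conjugating the four-group `{1, w, t, wt}` -/
theorem map_cj_kleinSub {w t w' t' c : X} (hw : w * w = 1) (ht : t * t = 1) (hwt : w * t = t * w)
    (hw' : w' * w' = 1) (ht' : t' * t' = 1) (hwt' : w' * t' = t' * w')
    (h1 : c * w * c⁻¹ = w') (h2 : c * t * c⁻¹ = t') :
    (kleinSub w t hw ht hwt).map (cj c) = kleinSub w' t' hw' ht' hwt' := by
  have h3 : c * (w * t) * c⁻¹ = w' * t' := by
    rw [← h1, ← h2]; group
  apply le_antisymm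
  · rintro _ ⟨u, hu, rfl⟩
    rw [cj_apply, mem_kleinSub]
    rcases hu with rfl | rfl | rfl | rfl
    · left; group
    · right; left; exact h1
    · right; right; left; exact h2
    · right; right; right; exact h3
  · intro x hx
    rcases hx with rfl | rfl | rfl | rfl
    · exact Subgroup.one_mem _
    · exact ⟨w, Or.inr (Or.inl rfl), h1⟩
    · exact ⟨t, Or.inr (Or.inr (Or.inl rfl)), h2⟩
    · exact ⟨w * t, Or.inr (Or.inr (Or.inr rfl)), h3⟩

variable (S : Sylow 2 X) {k : ℕ} (e : ↥(S : Subgroup X) ≃* DihedralGroup (2 ^ k))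

theorem zz (hk : 1 ≤ k) : iota S e (r (hh k)) * iota S e (r (hh k)) = 1 := by
  rw [← map_mul, (rot_sq_eq_one hk _).mpr (Or.inr rfl), map_one]

theorem tt (i : ZMod (2 ^ k)) : iota S e (sr i) * iota S e (sr i) = 1 := by
  rw [← map_mul, sr_mul_self, map_one]

theorem zt (hk : 1 ≤ k) (i : ZMod (2 ^ k)) :
    iota S e (r (hh k)) * iota S e (sr i) = iota S e (sr i) * iota S e (r (hh k)) := by
  rw [← map_mul, ← map_mul, r_mul_sr, sr_mul_r]
  congr 2
  have := two_mul_hh hk
  linear_combination (-1 : ZMod (2 ^ k)) * this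

/-- the four-group `⟨z, sr i⟩` of `S` -/
def Uof (hk : 1 ≤ k) (i : ZMod (2 ^ k)) : Subgroup X :=
  kleinSub (iota S e (r (hh k))) (iota S e (sr i)) (zz S e hk) (tt S e i) (zt S e hk i)

theorem Uof_klein (hk : 1 ≤ k) (i : ZMod (2 ^ k)) : IsKleinFour (Uof S e hk i) := by
  apply kleinSub_isKleinFour
  · apply iota_ne_one
    rw [one_def, Ne, r.injEq]
    exact hh_ne_zero hk
  · apply iota_ne_one
    intro h
    rw [one_def] at h
    cases h
  · intro h
    have := iota_inj S e h
    cases this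

theorem Uof_le (hk : 1 ≤ k) (i : ZMod (2 ^ k)) : Uof S e hk i ≤ (S : Subgroup X) := by
  intro x hx
  rcases hx with rfl | rfl | rfl | rfl
  · exact Subgroup.one_mem _
  · exact iota_mem S e _
  · exact iota_mem S e _
  · exact Subgroup.mul_mem _ (iota_mem S e _) (iota_mem S e _)

theorem Uof_conj (hk : 1 ≤ k) (i j : ZMod (2 ^ k)) :
    (Uof S e hk i).map (cj (iota S e (r j))) = Uof S e hk (i - 2 * j) := by
  apply map_cj_kleinSub
  · rw [← map_inv, ← map_mul, ← map_mul, inv_r, r_mul_r, r_mul_r]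
    congr 2
    ring
  · rw [← map_inv, ← map_mul, ← map_mul, r_conj_sr]

/-- every element of `Uof 0` comes from the even maximal subgroup `Md` -/
theorem Uof_zero_sub (hk : 2 ≤ k) (x : X) (hx : x ∈ Uof S e (by omega) 0) :
    ∃ d ∈ Md k, iota S e d = x := by
  have hz : r (hh k) ∈ Md k := by
    rw [r_mem_Md]
    refine ⟨2 ^ (k - 2), ?_⟩
    unfold hh
    rw [← pow_succ']
    congr 1
    omega
  have ht : (sr 0 : DihedralGroup (2 ^ k)) ∈ Md k := by
    rw [sr_mem_Md]
    exact ⟨0, by ring⟩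
  rcases hx with rfl | rfl | rfl | rfl
  · exact ⟨1, Subgroup.one_mem _, map_one _⟩
  · exact ⟨_, hz, rfl⟩
  · exact ⟨_, ht, rfl⟩
  · exact ⟨_, Subgroup.mul_mem _ hz ht, map_mul _ _ _⟩

theorem not_conj_in_S (hk : 2 ≤ k) (s : X) (hs : s ∈ (S : Subgroup X))
    (h : (Uof S e (by omega) 0).map (cj s) = Uof S e (by omega) 1) : False := by
  have hk1 : 1 ≤ k := by omega
  have h1 : iota S e (sr 1) ∈ (Uof S e hk1 0).map (cj s) := by
    rw [h]
    exact Or.inr (Or.inr (Or.inl rfl))
  obtain ⟨u, hu, hu2⟩ := h1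
  obtain ⟨d₀, hd₀, rfl⟩ := Uof_zero_sub S e hk u hu
  obtain ⟨d, rfl⟩ := iota_surj S e s hs
  rw [cj_apply, ← map_inv, ← map_mul, ← map_mul] at hu2
  have h2 := iota_inj S e hu2
  haveI : (Md k).Normal := Subgroup.normal_of_index_eq_two (Md_index hk1)
  have h3 : (sr 1 : DihedralGroup (2 ^ k)) ∈ Md k := by
    rw [← h2]
    exact ‹(Md k).Normal›.conj_mem d₀ hd₀ d
  rw [sr_mem_Md] at h3
  obtain ⟨j, hj⟩ := h3
  exact two_mul_ne_odd hk1 j 0 (by rw [← hj]; ring)

theorem eq_Uof (hk : 1 ≤ k) (V : Subgroup X) (hV : IsKleinFour V) (hVS : V ≤ (S : Subgroup X)) :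
    ∃ i, V = Uof S e hk i := by
  obtain ⟨i, hz, hi, hall⟩ := klein_struct S e hk V hV hVS
  refine ⟨i, ?_⟩
  apply le_antisymm
  · intro v hv
    exact hall v hv
  · intro v hv
    rcases hv with rfl | rfl | rfl | rfl
    · exact Subgroup.one_mem _
    · exact hz
    · exact hi
    · exact Subgroup.mul_mem _ hz hi

theorem exists_conj_le (V : Subgroup X) (hV : IsKleinFour V) :
    ∃ g : X, V.map (cj g) ≤ (S : Subgroup X) := by
  haveI : Fact (Nat.Prime 2) := ⟨Nat.prime_two⟩
  have hV2 : IsPGroup 2 V := IsPGroup.of_card (n := 2) (by rw [hV.card_four]; norm_num)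
  obtain ⟨Q, hQ⟩ := hV2.exists_le_sylow
  obtain ⟨g, hg⟩ := MulAction.exists_smul_eq X Q S
  refine ⟨g, ?_⟩
  rw [← hg, Cfsg.Agent.Helper10.sylow_smul_coe_eq_map]
  exact Subgroup.map_mono hQ

include e in
theorem main (hk : 1 ≤ k) :
    (Nat.card S = 4 → ∀ U V : Subgroup X, IsKleinFour U → IsKleinFour V →
      (∃ x : X, U.map (MulAut.conj x).toMonoidHom = V)) ∧
    (4 < Nat.card S → ∃ U₁ U₂ : Subgroup X, IsKleinFour U₁ ∧ IsKleinFour U₂ ∧
      ¬ (∃ x : X, U₁.map (MulAut.conj x).toMonoidHom = U₂) ∧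
      ∀ V : Subgroup X, IsKleinFour V → (∃ x : X, V.map (MulAut.conj x).toMonoidHom = U₁) ∨
        (∃ x : X, V.map (MulAut.conj x).toMonoidHom = U₂)) := by
  haveI : Fact (Nat.Prime 2) := ⟨Nat.prime_two⟩
  have hcard : Nat.card (S : Subgroup X) = 2 ^ (k + 1) := by
    rw [Nat.card_congr e.toEquiv, DihedralGroup.nat_card, pow_succ']
  constructor
  · intro hS4 U V hU hV
    have hU' : Nat.card U = 2 ^ (Nat.card X).factorization 2 := by
      rw [hU.card_four, ← hS4]; exact S.card_eq_multiplicity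
    have hV' : Nat.card V = 2 ^ (Nat.card X).factorization 2 := by
      rw [hV.card_four, ← hS4]; exact S.card_eq_multiplicity
    obtain ⟨g, hg⟩ := MulAction.exists_smul_eq X (Sylow.ofCard U hU') (Sylow.ofCard V hV')
    refine ⟨g, ?_⟩
    have h1 := Cfsg.Agent.Helper10.sylow_smul_coe_eq_map (Sylow.ofCard U hU') g
    rw [hg, Sylow.coe_ofCard, Sylow.coe_ofCard] at h1
    exact h1.symm
  · intro h4
    have hk2 : 2 ≤ k := by
      by_contra hcon
      have hk1 : k = 1 := by omega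
      have : Nat.card S = 4 := by
        have h5 : Nat.card (S : Subgroup X) = 2 ^ (k + 1) := hcard
        rw [hk1] at h5
        exact h5
      omega
    refine ⟨Uof S e hk 0, Uof S e hk 1, Uof_klein S e hk 0, Uof_klein S e hk 1, ?_, ?_⟩
    · rintro ⟨x, hx⟩
      obtain ⟨s, hs, h1⟩ := Cfsg.Agent.Helper3.DihKlein.klein_conj_in_sylow S (2 ^ k) (k + 1) e
        hcard _ _ (Uof_klein S e hk 0) (Uof_le S e hk 0) (Uof_le S e hk 1) x hx
      exact not_conj_in_S S e hk2 s hs h1
    · intro V hV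
      obtain ⟨g, hg⟩ := exists_conj_le S V hV
      obtain ⟨i, hi⟩ := eq_Uof S e hk _
        (Cfsg.Agent.Helper3.DihKlein.isKleinFour_map_cj V hV g) hg
      rcases even_or_odd i with ⟨j, rfl⟩ | ⟨j, rfl⟩
      · left
        refine ⟨iota S e (r j) * g, ?_⟩
        show V.map (cj (iota S e (r j) * g)) = _
        rw [← map_cj_mul, hi, Uof_conj]
        congr 1
        ring
      · right
        refine ⟨iota S e (r j) * g, ?_⟩
        show V.map (cj (iota S e (r j) * g)) = _
        rw [← map_cj_mul, hi, Uof_conj]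
        congr 1
        ring

end aux

/-- Let X be a finite group whose Sylow 2-subgroup S is dihedral of order 2m ≥ 4. If |S| = 4, any two Klein four-subgroups of X are conjugate; if |S| > 4, there are Klein four-subgroups U₁, U₂ of X that are not conjugate, and every Klein four-subgroup of X is conjugate to U₁ or to U₂. -/
theorem result {X : Type*} [Group X] [Finite X] (S : Sylow 2 X) (m : ℕ) (hm : 2 ≤ m) (eS : (S : Subgroup X) ≃* DihedralGroup m) : (Nat.card S = 4 → ∀ U V : Subgroup X, IsKleinFour U → IsKleinFour V → (∃ x : X, U.map (MulAut.conj x).toMonoidHom = V)) ∧ (4 < Nat.card S → ∃ U₁ U₂ : Subgroup X, IsKleinFour U₁ ∧ IsKleinFour U₂ ∧ ¬ (∃ x : X, U₁.map (MulAut.conj x).toMonoidHom = U₂) ∧ ∀ V : Subgroup X, IsKleinFour V → (∃ x : X, V.map (MulAut.conj x).toMonoidHom = U₁) ∨ (∃ x : X, V.map (MulAut.conj x).toMonoidHom = U₂)) := by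
  haveI : Fact (Nat.Prime 2) := ⟨Nat.prime_two⟩
  obtain ⟨a, ha⟩ := (S.isPGroup').exists_card_eq
  have hcard : Nat.card (S : Subgroup X) = 2 * m := by
    rw [Nat.card_congr eS.toEquiv, DihedralGroup.nat_card]
  rw [hcard] at ha
  obtain ⟨k, hk⟩ : ∃ k, m = 2 ^ k := by
    cases a with
    | zero => exfalso; rw [pow_zero] at ha; omega
    | succ b =>
      refine ⟨b, ?_⟩
      rw [pow_succ'] at ha
      omega
  subst hk
  have hk1 : 1 ≤ k := by
    by_contra hcon
    have : k = 0 := by omega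
    rw [this, pow_zero] at hm
    omega
  exact main S eS hk1

end Cfsg.Agent.S1256
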