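import Cfsg.Statements.S1286
import Mathlib

set_option autoImplicit false
open Cfsg

namespace Cfsg.Agent.S1286

abbrev X5 := Equiv.Perm (Fin 5)

def a : X5 := Equiv.swap 0 1
def b : X5 := Equiv.swap 2 3
def c₁ : X5 := Equiv.swap 2 3 * Equiv.swap 3 4
def c₂ : X5 := Equiv.swap 0 1 * Equiv.swap 1 4

def A : Subgroup X5 where
  carrier := {x | x = 1 ∨ x = a ∨ x = b ∨ x = a * b}
  mul_mem' := by
    rintro x y (rfl | rfl | rfl | rfl) (rfl | rfl | rfl | rfl) <;> decide
  one_mem' := Or.inl rfl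
  inv_mem' := by
    rintro x (rfl | rfl | rfl | rfl) <;> decide

def T₁ : Subgroup X5 where
  carrier := {x | x = 1 ∨ x = c₁ ∨ x = c₁⁻¹}
  mul_mem' := by
    rintro x y (rfl | rfl | rfl) (rfl | rfl | rfl) <;> decide
  one_mem' := Or.inl rfl
  inv_mem' := by
    rintro x (rfl | rfl | rfl) <;> decide

def T₂ : Subgroup X5 where
  carrier := {x | x = 1 ∨ x = c₂ ∨ x = c₂⁻¹}
  mul_mem' := by
    rintro x y (rfl | rfl | rfl) (rfl | rfl | rfl) <;> decide
  one_mem' := Or.inl rfl
  inv_mem' := by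
    rintro x (rfl | rfl | rfl) <;> decide

theorem mem_A {x : X5} : x ∈ A ↔ x = 1 ∨ x = a ∨ x = b ∨ x = a * b := Iff.rfl
theorem mem_T₁ {x : X5} : x ∈ T₁ ↔ x = 1 ∨ x = c₁ ∨ x = c₁⁻¹ := Iff.rfl
theorem mem_T₂ {x : X5} : x ∈ T₂ ↔ x = 1 ∨ x = c₂ ∨ x = c₂⁻¹ := Iff.rfl

noncomputable def θ : X5 → Subgroup X5 := fun g =>
  if g = a then T₁ else if g = b then T₂ else ⊥

theorem θ_a : θ a = T₁ := by simp [θ]
theorem θ_b : θ b = T₂ := by
  have : b ≠ a := by decide
  simp [θ, this]
theorem θ_ab : θ (a * b) = ⊥ := by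
  have h1 : a * b ≠ a := by decide
  have h2 : a * b ≠ b := by decide
  simp [θ, h1, h2]

theorem not_two_dvd_card_T₁ : ¬ 2 ∣ Nat.card T₁ := by
  intro h
  obtain ⟨⟨x, hx⟩, hx2⟩ := exists_prime_orderOf_dvd_card' (G := T₁) 2 h
  have h2 : x ^ 2 = 1 := by
    have := pow_orderOf_eq_one (⟨x, hx⟩ : T₁)
    rw [hx2] at this
    exact congrArg Subtype.val this
  have h1 : x ≠ 1 := by
    rintro rfl
    have : (⟨1, hx⟩ : T₁) = 1 := rfl
    rw [this, orderOf_one] at hx2
    norm_num at hx2
  rcases hx with rfl | rfl | rfl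
  · exact h1 rfl
  · revert h2; decide
  · revert h2; decide

theorem not_two_dvd_card_T₂ : ¬ 2 ∣ Nat.card T₂ := by
  intro h
  obtain ⟨⟨x, hx⟩, hx2⟩ := exists_prime_orderOf_dvd_card' (G := T₂) 2 h
  have h2 : x ^ 2 = 1 := by
    have := pow_orderOf_eq_one (⟨x, hx⟩ : T₂)
    rw [hx2] at this
    exact congrArg Subtype.val this
  have h1 : x ≠ 1 := by
    rintro rfl
    have : (⟨1, hx⟩ : T₂) = 1 := rfl
    rw [this, orderOf_one] at hx2
    norm_num at hx2
  rcases hx with rfl | rfl | rfl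
  · exact h1 rfl
  · revert h2; decide
  · revert h2; decide

theorem solvable_T₁ : Group.IsSolvable T₁ := by
  apply Group.isSolvable_of_comm
  rintro ⟨x, hx⟩ ⟨y, hy⟩
  apply Subtype.ext
  show x * y = y * x
  rcases hx with rfl | rfl | rfl <;> rcases hy with rfl | rfl | rfl <;> decide

theorem solvable_T₂ : Group.IsSolvable T₂ := by
  apply Group.isSolvable_of_comm
  rintro ⟨x, hx⟩ ⟨y, hy⟩
  apply Subtype.ext
  show x * y = y * x
  rcases hx with rfl | rfl | rfl <;> rcases hy with rfl | rfl | rfl <;> decide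

theorem mem_centralizer_singleton {g u : X5} :
    u ∈ Subgroup.centralizer ({g} : Set X5) ↔ g * u = u * g := by
  rw [Subgroup.mem_centralizer_iff]
  constructor
  · intro h; exact h g rfl
  · intro h x hx; rw [Set.mem_singleton_iff] at hx; subst hx; exact h

theorem sigFun : Cfsg.IsSignalizerFunctor 2 A θ := by
  refine ⟨?_, ?_, ?_, ?_⟩
  · rintro x (rfl | rfl | rfl | rfl) hx1
    · exact absurd rfl hx1
    · rw [θ_a]
      intro u hu
      rw [mem_centralizer_singleton]
      rcases hu with rfl | rfl | rfl <;> decide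
    · rw [θ_b]
      intro u hu
      rw [mem_centralizer_singleton]
      rcases hu with rfl | rfl | rfl <;> decide
    · rw [θ_ab]; exact bot_le
  · rintro x (rfl | rfl | rfl | rfl) hx1
    · exact absurd rfl hx1
    · rw [θ_a]; exact not_two_dvd_card_T₁
    · rw [θ_b]; exact not_two_dvd_card_T₂
    · rw [θ_ab, Subgroup.card_bot]; norm_num
  · rintro x (rfl | rfl | rfl | rfl) hx1 y hy u hu
    · exact absurd rfl hx1
    · rw [θ_a] at hu ⊢
      rw [mem_T₁] at hu ⊢
      rcases hy with rfl | rfl | rfl | rfl <;> rcases hu with rfl | rfl | rfl <;> decide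
    · rw [θ_b] at hu ⊢
      rw [mem_T₂] at hu ⊢
      rcases hy with rfl | rfl | rfl | rfl <;> rcases hu with rfl | rfl | rfl <;> decide
    · rw [θ_ab] at hu ⊢
      rw [Subgroup.mem_bot] at hu ⊢
      subst hu; simp
  · have key1 : ∀ y : X5, y = b ∨ y = a * b → ∀ u ∈ T₁, y * u = u * y → u = 1 := by
      rintro y (rfl | rfl) u (rfl | rfl | rfl) <;> decide
    have key2 : ∀ y : X5, y = a ∨ y = a * b → ∀ u ∈ T₂, y * u = u * y → u = 1 := by
      rintro y (rfl | rfl) u (rfl | rfl | rfl) <;> decide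
    rintro x (rfl | rfl | rfl | rfl) hx1 y (rfl | rfl | rfl | rfl) hy1
    · exact absurd rfl hx1
    · exact absurd rfl hx1
    · exact absurd rfl hx1
    · exact absurd rfl hx1
    · exact absurd rfl hy1
    · exact inf_le_left
    · rw [θ_a]
      intro u hu
      rw [Subgroup.mem_inf, mem_centralizer_singleton] at hu
      rw [key1 b (Or.inl rfl) u hu.1 hu.2]; exact Subgroup.one_mem _
    · rw [θ_a]
      intro u hu
      rw [Subgroup.mem_inf, mem_centralizer_singleton] at hu
      rw [key1 (a * b) (Or.inr rfl) u hu.1 hu.2]; exact Subgroup.one_mem _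
    · exact absurd rfl hy1
    · rw [θ_b]
      intro u hu
      rw [Subgroup.mem_inf, mem_centralizer_singleton] at hu
      rw [key2 a (Or.inl rfl) u hu.1 hu.2]; exact Subgroup.one_mem _
    · exact inf_le_left
    · rw [θ_b]
      intro u hu
      rw [Subgroup.mem_inf, mem_centralizer_singleton] at hu
      rw [key2 (a * b) (Or.inr rfl) u hu.1 hu.2]; exact Subgroup.one_mem _
    · exact absurd rfl hy1
    · rw [θ_ab]; exact le_trans inf_le_left bot_le
    · rw [θ_ab]; exact le_trans inf_le_left bot_le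
    · exact inf_le_left

theorem card_A : Nat.card A = 4 := by
  have h : (A : Set X5) = {1, a, b, a * b} := by
    ext x
    simp only [SetLike.mem_coe, mem_A, Set.mem_insert_iff, Set.mem_singleton_iff]
  have h0 : Nat.card A = Set.ncard (A : Set X5) := (Nat.card_coe_set_eq (A : Set X5))
  rw [h0, h]
  rw [Set.ncard_insert_of_notMem, Set.ncard_insert_of_notMem, Set.ncard_insert_of_notMem,
    Set.ncard_singleton]
  · simp only [Set.mem_singleton_iff]; decide
  · simp only [Set.mem_insert_iff, Set.mem_singleton_iff]; decide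
  · simp only [Set.mem_insert_iff, Set.mem_singleton_iff]; decide

/-- There exist a finite group X, an elementary abelian subgroup A of order 4 and a solvable A-signalizer functor θ on X for the prime 2 which is not complete. -/
theorem result : ∃ (X : Type) (_ : Group X) (_ : Finite X) (A : Subgroup X) (θ : X → Subgroup X), Cfsg.IsElementaryAbelian 2 A ∧ Nat.card ↥A = 4 ∧ Cfsg.IsSolvableSignalizerFunctor 2 A θ ∧ ¬ Cfsg.IsCompleteSignalizerFunctor 2 A θ := by
  refine ⟨X5, inferInstance, inferInstance, A, θ, ?_, card_A, ⟨sigFun, ?_⟩, ?_⟩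
  · refine ⟨⟨⟨?_⟩⟩, ?_⟩
    · rintro ⟨x, hx⟩ ⟨y, hy⟩
      apply Subtype.ext
      show x * y = y * x
      rcases hx with rfl | rfl | rfl | rfl <;> rcases hy with rfl | rfl | rfl | rfl <;> decide
    · rintro x (rfl | rfl | rfl | rfl) <;> decide
  · rintro x (rfl | rfl | rfl | rfl) hx1
    · exact absurd rfl hx1
    · rw [θ_a]; exact solvable_T₁
    · rw [θ_b]; exact solvable_T₂
    · rw [θ_ab]; infer_instance
  · rintro ⟨_, Xs, _, hodd, hX⟩
    have ha1 : a ≠ 1 := by decide
    have hb1 : b ≠ 1 := by decide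
    have h1 : c₁ ∈ Xs := by
      have := hX a (Or.inr (Or.inl rfl)) ha1
      rw [θ_a] at this
      have hc : c₁ ∈ T₁ := Or.inr (Or.inl rfl)
      rw [← this] at hc
      exact hc.1
    have h2 : c₂ ∈ Xs := by
      have := hX b (Or.inr (Or.inr (Or.inl rfl))) hb1
      rw [θ_b] at this
      have hc : c₂ ∈ T₂ := Or.inr (Or.inl rfl)
      rw [← this] at hc
      exact hc.1
    have hw : c₁ * c₂ * c₁ * c₂⁻¹ ∈ Xs :=
      Xs.mul_mem (Xs.mul_mem (Xs.mul_mem h1 h2) h1) (Xs.inv_mem h2)
    have ho : orderOf (⟨c₁ * c₂ * c₁ * c₂⁻¹, hw⟩ : Xs) = 2 := by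
      apply orderOf_eq_prime
      · apply Subtype.ext
        show (c₁ * c₂ * c₁ * c₂⁻¹) ^ 2 = 1
        decide
      · intro h
        have := congrArg Subtype.val h
        revert this
        show c₁ * c₂ * c₁ * c₂⁻¹ = 1 → False
        decide
    apply hodd
    rw [← ho]
    exact orderOf_dvd_natCard _

end Cfsg.Agent.S1286
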