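import Cfsg.Statements.S1300
import Mathlib

set_option autoImplicit false
open Cfsg

namespace Cfsg.Agent.S1300

theorem core_le_centralizer {G : Type*} [Group G] (p : ℕ) (x : G) :
    Cfsg.centralizerPPrimeCore p x ≤ Subgroup.centralizer ({x} : Set G) := by
  unfold Cfsg.centralizerPPrimeCore
  rintro _ ⟨y, _, rfl⟩
  exact y.2

/-- For a finite group G, balance in the sense of commuting involutions is the same as 1-balance for the prime 2. -/
theorem result {G : Type*} [Group G] [Finite G] : Cfsg.IsBalanced G ↔ Cfsg.IsKBalanced 2 1 G := by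
  constructor
  · intro hbal A hA hcard b hb hcomm
    -- pick x ≠ 1 in A
    have hcard' : Nat.card A = 2 := by simpa using hcard
    have hne : A ≠ ⊥ := by
      intro h
      rw [h] at hcard'
      simp at hcard'
    obtain ⟨x, hxA, hx1⟩ : ∃ x ∈ A, x ≠ 1 := by
      obtain ⟨a, ha⟩ := (Subgroup.ne_bot_iff_exists_ne_one).1 hne
      exact ⟨(a : G), a.2, fun h1 => ha (Subtype.ext h1)⟩
    have hx2 : orderOf x = 2 := by
      apply orderOf_eq_prime (hA.2 x hxA) hx1
    have hle : Cfsg.signalizerDelta 2 A ≤ Cfsg.centralizerPPrimeCore 2 x := by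
      unfold Cfsg.signalizerDelta
      exact iInf_le (fun a : {a : G // a ∈ A ∧ a ≠ 1} => Cfsg.centralizerPPrimeCore 2 (a : G)) ⟨x, hxA, hx1⟩
    have h1 := hbal x b hx2 hb (hcomm x hxA)
    calc Cfsg.signalizerDelta 2 A ⊓ Subgroup.centralizer {b}
        ≤ Cfsg.centralizerPPrimeCore 2 x ⊓ Subgroup.centralizer {b} := inf_le_inf_right _ hle
      _ = Cfsg.centralizerPPrimeCore 2 b ⊓ Subgroup.centralizer {x} := h1
      _ ≤ Cfsg.centralizerPPrimeCore 2 b := inf_le_left
  · intro hk
    have key : ∀ x y : G, orderOf x = 2 → orderOf y = 2 → x * y = y * x →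
        Cfsg.centralizerPPrimeCore 2 x ⊓ Subgroup.centralizer {y} ≤
          Cfsg.centralizerPPrimeCore 2 y ⊓ Subgroup.centralizer {x} := by
      intro x y hx hy hxy
      have hA : Cfsg.IsElementaryAbelian 2 (Subgroup.zpowers x) := by
        refine ⟨inferInstance, ?_⟩
        intro a ha
        obtain ⟨k, rfl⟩ := Subgroup.mem_zpowers_iff.1 ha
        rw [← zpow_natCast, ← zpow_mul, mul_comm, zpow_mul, zpow_natCast, ← hx, pow_orderOf_eq_one, one_zpow]
      have hcard : Nat.card (Subgroup.zpowers x) = 2 ^ 1 := by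
        rw [Nat.card_zpowers, hx, pow_one]
      have hcomm : ∀ a ∈ Subgroup.zpowers x, a * y = y * a := by
        intro a ha
        obtain ⟨k, rfl⟩ := Subgroup.mem_zpowers_iff.1 ha
        exact ((Commute.zpow_left (show Commute x y from hxy) k)).eq
      have h1 := hk (Subgroup.zpowers x) hA hcard y hy hcomm
      have hx1 : x ≠ 1 := by
        intro h; rw [h, orderOf_one] at hx; norm_num at hx
      have hle : Cfsg.centralizerPPrimeCore 2 x ≤ Cfsg.signalizerDelta 2 (Subgroup.zpowers x) := by
        unfold Cfsg.signalizerDelta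
        apply le_iInf
        rintro ⟨a, ha, ha1⟩
        obtain ⟨k, rfl⟩ := Subgroup.mem_zpowers_iff.1 ha
        -- x ^ k is x or 1
        have : x ^ k = x := by
          rcases Int.emod_two_eq_zero_or_one k with h | h
          · exfalso; apply ha1
            have : k = 2 * (k / 2) := by omega
            rw [this, zpow_mul, zpow_ofNat, ← hx, pow_orderOf_eq_one, one_zpow]
          · have : k = 2 * (k / 2) + 1 := by omega
            rw [this, zpow_add, zpow_mul, zpow_ofNat, ← hx, pow_orderOf_eq_one, one_zpow, one_mul, zpow_one]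
        simp only [this]
        exact le_rfl
      refine le_inf ?_ ?_
      · exact le_trans (inf_le_inf_right _ hle) h1
      · exact le_trans inf_le_left (core_le_centralizer 2 x)
    intro x y hx hy hxy
    exact le_antisymm (key x y hx hy hxy) (key y x hy hx hxy.symm)

end Cfsg.Agent.S1300
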