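import Cfsg.Statements.S1312
import Mathlib
import Cfsg.Agent.Helper1.Bender
import Cfsg.Agent.Helper10.CharP

set_option autoImplicit false
open Cfsg

namespace Cfsg.Agent.S1312

/-- Let G be a non-abelian finite simple group and M ≠ N maximal subgroups of G with F*(M) ≤ N and F*(N) ≤ M. Then there is a prime p such that F*(M) and F*(N) are both p-groups. -/
theorem result {G : Type*} [Group G] [Finite G] [IsSimpleGroup G] (hna : ¬ IsMulCommutative G) (M N : Subgroup G) (hM : IsCoatom M) (hN : IsCoatom N) (hMN : M ≠ N) (h1 : (Cfsg.generalizedFittingSubgroup ↥M).map M.subtype ≤ N) (h2 : (Cfsg.generalizedFittingSubgroup ↥N).map N.subtype ≤ M) : ∃ p : ℕ, p.Prime ∧ IsPGroup p ↥(Cfsg.generalizedFittingSubgroup ↥M) ∧ IsPGroup p ↥(Cfsg.generalizedFittingSubgroup ↥N) := by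
  have key : ∀ X : Subgroup G, IsCoatom X → ∀ A : Subgroup G, A ≠ ⊥ → A ≤ X →
      X ≤ Subgroup.normalizer (A : Set G) → Subgroup.normalizer (A : Set G) = X := by
    intro X hX A hA0 hAX hn
    rcases eq_or_lt_of_le hn with h | h
    · exact h.symm
    · exfalso
      have htop : Subgroup.normalizer (A : Set G) = ⊤ := hX.2 _ h
      have hAn : A.Normal := Subgroup.normalizer_eq_top_iff.1 htop
      rcases hAn.eq_bot_or_eq_top with h0 | h1
      · exact hA0 h0
      · apply hX.1
        rw [eq_top_iff, ← h1]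
        exact hAX
  have hP : Cfsg.Agent.Helper1.PrimPair.IsPrimitivePair M N := by
    intro A hA0 hA
    constructor
    · intro hn
      rw [key M hM A hA0 (hA.trans inf_le_left) hn, inf_comm]
    · intro hn
      rw [key N hN A hA0 (hA.trans inf_le_right) hn]
  obtain ⟨p, hp, hc1, hc2, _⟩ := Cfsg.Agent.Helper1.Bender.bender hMN hP h1 h2
  have : Fact p.Prime := ⟨hp⟩
  refine ⟨p, hp, ?_, ?_⟩
  · rw [Cfsg.Agent.Helper10.fstar_eq_pCore_of_centralizer_le hc1]
    exact Cfsg.Agent.Helper14.pCore_isPGroup p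
  · rw [Cfsg.Agent.Helper10.fstar_eq_pCore_of_centralizer_le hc2]
    exact Cfsg.Agent.Helper14.pCore_isPGroup p

end Cfsg.Agent.S1312
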