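import Cfsg.Statements.S1323
import Cfsg.Agent.Helper7.AltStandard2

set_option autoImplicit false
open Cfsg

namespace Cfsg.Agent.S1323

/-- For n ≥ 9, the subgroup of the alternating group on Fin n fixing each of the points 0, 1, 2, 3 is a standard subgroup. -/
theorem result (n : ℕ) (h4 : 4 ≤ n) (hn : 9 ≤ n) : Cfsg.IsStandardSubgroup (⨅ i : Fin 4, MulAction.stabilizer ↥(alternatingGroup (Fin n)) (Fin.castLE h4 i : Fin n)) := by
  have hL : (⨅ i : Fin 4, MulAction.stabilizer ↥(alternatingGroup (Fin n)) (Fin.castLE h4 i : Fin n))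
      = Cfsg.Agent.Helper7.fixA (Finset.univ.image (Fin.castLE h4)) := by
    ext g
    rw [Subgroup.mem_iInf, Cfsg.Agent.Helper7.mem_fixA]
    constructor
    · intro h x hx
      obtain ⟨i, _, rfl⟩ := Finset.mem_image.1 hx
      exact MulAction.mem_stabilizer_iff.1 (h i)
    · intro h i
      rw [MulAction.mem_stabilizer_iff]
      exact h _ (Finset.mem_image_of_mem _ (Finset.mem_univ i))
  rw [hL]
  apply Cfsg.Agent.Helper7.isStandardSubgroup_fixA
  · rw [Finset.card_image_of_injective _ (Fin.castLE_injective h4), Finset.card_univ,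
      Fintype.card_fin]
  · rw [Fintype.card_fin]; exact hn

end Cfsg.Agent.S1323
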