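import Cfsg.Statements.S1363
import Mathlib
import Cfsg.Agent.S1350
import Cfsg.Agent.S1353
import Cfsg.Agent.S1366
import Cfsg.Agent.S1420
import Cfsg.Agent.S1435
import Cfsg.Agent.Helper1.BG16C3

set_option autoImplicit false
open Cfsg

namespace Cfsg.Agent.S1363

/-- Let G be a minimal simple group of odd order and M a maximal subgroup with standard factorisation M = K U M_σ and K ≠ 1. Then U is abelian and the normalizer of U in G is not contained in M. -/
theorem result {G : Type*} [Group G] [Finite G] (hG : Cfsg.IsMinSimpleOddOrder G)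
    (M : Subgroup G) (hM : IsCoatom M) (K U : Subgroup G) (hKU : Cfsg.IsSigmaDecomposition M K U) (hK1 : K ≠ ⊥) :
    IsMulCommutative U ∧ ¬ Subgroup.normalizer (U : Set G) ≤ M := by
  exact Cfsg.Agent.Helper1.BG16C.s1363_of hG
    (fun M hM => Cfsg.Agent.S1350.result hG M hM) hM hKU hK1
    (Cfsg.Agent.S1353.result hG M hM K U hKU)
    (Cfsg.Agent.S1420.result hG M hM (U ⊔ K) (Cfsg.Agent.Helper18.BG16B.complIn_sup hKU)).1
    (Cfsg.Agent.S1366.result hG M hM K U hKU hK1).exists
    (fun Mstar hMs hKst hKstH hU1 r _ hr R H hH hNR =>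
      (Cfsg.Agent.S1435.result hG M hM K U hKU hK1 hU1 Mstar hMs hKst hKstH r hr R H hH hNR).2.2.2.1)

end Cfsg.Agent.S1363
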