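import Cfsg.Statements.S1370
import Mathlib
import Cfsg.Agent.S1354
import Cfsg.Agent.S1366
import Cfsg.Agent.S1367
import Cfsg.Agent.S1368
import Cfsg.Agent.S1434
import Cfsg.Agent.Helper1.BG16C4

set_option autoImplicit false
open Cfsg

namespace Cfsg.Agent.S1370

/-- Let G be a minimal simple group of odd order, M a maximal subgroup with standard factorisation M = K U M_σ, K ≠ 1, K* = M_σ ∩ C_G(K) and Z the subgroup generated by K and K*. Then the set of elements of Z lying in neither K nor K* is a TI-subset of G, and its set-normalizer in G is exactly Z. -/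
theorem result {G : Type*} [Group G] [Finite G] (hG : Cfsg.IsMinSimpleOddOrder G)
    (M : Subgroup G) (hM : IsCoatom M) (K U : Subgroup G) (hKU : Cfsg.IsSigmaDecomposition M K U) (hK1 : K ≠ ⊥) :
    Cfsg.IsTISubset ((↑(K ⊔ (Cfsg.sigmaCore M ⊓ Subgroup.centralizer (K : Set G))) : Set G) \ ((K : Set G) ∪ ↑(Cfsg.sigmaCore M ⊓ Subgroup.centralizer (K : Set G)))) ∧ Subgroup.normalizer ((↑(K ⊔ (Cfsg.sigmaCore M ⊓ Subgroup.centralizer (K : Set G))) : Set G) \ ((K : Set G) ∪ ↑(Cfsg.sigmaCore M ⊓ Subgroup.centralizer (K : Set G)))) = K ⊔ (Cfsg.sigmaCore M ⊓ Subgroup.centralizer (K : Set G)) := by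
  obtain ⟨Mstar, ⟨hMs, hKst, hKstH⟩, -⟩ := Cfsg.Agent.S1366.result hG M hM K U hKU hK1
  have h1367 := Cfsg.Agent.S1367.result hG M hM K U hKU hK1 Mstar hMs hKst hKstH
  exact Cfsg.Agent.Helper1.BG16C.s1370_of hG hM hKU hK1
    (Cfsg.Agent.S1354.result hG M hM K hKU.cyclic hKU.hall).1 hMs h1367.1 h1367.2
    (Cfsg.Agent.S1368.result hG M hM K U hKU hK1 Mstar hMs hKst hKstH)
    (fun x hx hx1 y hy hy1 =>
      ((Cfsg.Agent.S1434.result hG M hM K U hKU hK1 Mstar hMs hKst hKstH).2.2.1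
        x hx hx1 y hy hy1).2.2)

end Cfsg.Agent.S1370
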