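import Cfsg.Statements.S1383
import Cfsg.Agent.S1350
import Cfsg.Agent.S1354
import Cfsg.Agent.S1355
import Cfsg.Agent.S1356
import Cfsg.Agent.S1364
import Cfsg.Agent.S1365
import Cfsg.Agent.S1370
import Cfsg.Agent.Helper10.BG16E2
import Cfsg.Agent.Helper10.BG157E

set_option autoImplicit false
open Cfsg

namespace Cfsg.Agent.S1383

/-- Let G be a minimal simple group of odd order and M a maximal subgroup with standard factorisation M = K U M_σ. Then M is of Type V if and only if K ≠ 1, U = 1 and M_F = M_σ. -/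
theorem result {G : Type*} [Group G] [Finite G] (hG : Cfsg.IsMinSimpleOddOrder G)
    (M : Subgroup G) (hM : IsCoatom M) (K U : Subgroup G) (hKU : Cfsg.IsSigmaDecomposition M K U) :
    Cfsg.IsOfTypeV M ↔ (K ≠ ⊥ ∧ U = ⊥ ∧ Cfsg.fittingHallOf M = Cfsg.sigmaCore M) := by
  have hP : Cfsg.Agent.Helper10.BG16.PHyp M K U :=
    { h1354 := (Cfsg.Agent.S1354.result hG M hM K hKU.cyclic hKU.hall).2
      h1355 := Cfsg.Agent.S1355.result hG M hM
      h1356 := Cfsg.Agent.S1356.result hG M hM
      h1364 := fun hK1 => Cfsg.Agent.S1364.result hG M hM K U hKU hK1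
      h1365 := fun hK1 => Cfsg.Agent.S1365.result hG M hM K U hKU hK1
      h1370 := fun hK1 => Cfsg.Agent.S1370.result hG M hM K U hKU hK1 }
  exact Cfsg.Agent.Helper10.BG16.s1383_of_weak (fun M hM => Cfsg.Agent.S1350.result hG M hM) hM hKU hP
    (fun hK1 hU hF hnTI => Cfsg.Agent.Helper10.BG157.typeV_numerics hG hM hKU hK1 hU hF hnTI)

end Cfsg.Agent.S1383
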