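import Cfsg.Statements.S1386
import Mathlib
import Cfsg.Agent.Helper23.Cyclic

set_option autoImplicit false
open Cfsg

namespace Cfsg.Agent.S1386

/-- Let G be a finite group, W₁, W₂ subgroups forming a self-normalizing cyclic pair, S a subgroup with W₂ ≤ S and W₁ a complement to S' in S, and (W₁, U, W₂') type-P data for S. Then W₂' = W₂ (that is, C_{S'}(W₁) = W₂). -/
theorem result {G : Type*} [Group G] [Finite G] (W₁ W₂ S U W₂' : Subgroup G) (hW : Cfsg.IsSelfNormalizingCyclic W₁ W₂)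
    (hSW : Cfsg.IsComplIn ⁅S, S⁆ W₁ S) (hW₂S : W₂ ≤ S) (hP : Cfsg.IsTypePWith S W₁ U W₂') :
    W₂' = W₂ := by
  obtain ⟨hW₁ne, hW₂ne, hdisj, hcomm, hcyc, hnorm⟩ := hW
  obtain ⟨-, hW₂'ne, hdisj', hcomm', hcyc', hnorm'⟩ := hP.selfNormalizing
  obtain ⟨hS'S, hW₁S, -, hprod⟩ := hSW
  -- nontrivial elements
  obtain ⟨x₁, hx₁, hx₁1⟩ : ∃ x ∈ W₁, x ≠ 1 := by
    by_contra hcon
    push Not at hcon
    exact hW₁ne ((Subgroup.eq_bot_iff_forall W₁).mpr hcon)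
  obtain ⟨x₂, hx₂, hx₂1⟩ : ∃ x ∈ W₂, x ≠ 1 := by
    by_contra hcon
    push Not at hcon
    exact hW₂ne ((Subgroup.eq_bot_iff_forall W₂).mpr hcon)
  -- W₁ is commutative (subgroup of the cyclic W₁ ⊔ W₂)
  have hW₁comm : ∀ a ∈ W₁, ∀ b ∈ W₁, a * b = b * a := by
    intro a ha b hb
    have := hcyc.isMulCommutative
    have h := this.is_comm.comm (⟨a, Subgroup.mem_sup_left ha⟩ : (W₁ ⊔ W₂ : Subgroup G))
      ⟨b, Subgroup.mem_sup_left hb⟩
    exact congrArg Subtype.val h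
  -- W₂ ≤ W₁ ⊔ W₂'
  have hW₂le : W₂ ≤ W₁ ⊔ W₂' := by
    intro w hw
    obtain ⟨m, hm, b, hb, hwmb⟩ := hprod w (hW₂S hw)
    have hwx : x₁ * w = w * x₁ := hcomm x₁ hx₁ w hw
    have hbx : x₁ * b = b * x₁ := hW₁comm x₁ hx₁ b hb
    have hmx : x₁ * m = m * x₁ := by
      have hm' : m = w * b⁻¹ := by rw [hwmb]; group
      have hbinv : x₁ * b⁻¹ = b⁻¹ * x₁ := by
        have := congrArg (fun t => b⁻¹ * t * b⁻¹) hbx
        beta_reduce at this
        rw [show b⁻¹ * (x₁ * b) * b⁻¹ = b⁻¹ * x₁ by group,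
          show b⁻¹ * (b * x₁) * b⁻¹ = x₁ * b⁻¹ by group] at this
        exact this.symm
      rw [hm', ← mul_assoc, hwx, mul_assoc, hbinv, mul_assoc]
    have hmW₂' : m ∈ W₂' := by
      rw [← hP.W₂_centralizer x₁ hx₁ hx₁1]
      refine ⟨hm, ?_⟩
      show m ∈ Subgroup.centralizer ({x₁} : Set G)
      rw [Subgroup.mem_centralizer_iff]
      intro y hy
      rw [Set.mem_singleton_iff] at hy
      rw [hy]; exact hmx
    rw [hwmb]
    exact Subgroup.mul_mem _ (Subgroup.mem_sup_right hmW₂') (Subgroup.mem_sup_left hb)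
  have hle1 : W₁ ⊔ W₂ ≤ W₁ ⊔ W₂' := sup_le le_sup_left hW₂le
  -- x₁ x₂ lies in W₁W₂ outside W₁ ∪ W₂
  have hx12 : ({x₁ * x₂} : Set G) ⊆ (↑(W₁ ⊔ W₂) : Set G) \ (↑W₁ ∪ ↑W₂) := by
    intro y hy
    rw [Set.mem_singleton_iff] at hy
    subst hy
    refine ⟨Subgroup.mul_mem _ (Subgroup.mem_sup_left hx₁) (Subgroup.mem_sup_right hx₂), ?_⟩
    rintro (h | h)
    · have : x₂ ∈ W₁ := by
        have := W₁.mul_mem (W₁.inv_mem hx₁) h
        rwa [inv_mul_cancel_left] at this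
      have : x₂ ∈ W₁ ⊓ W₂ := ⟨this, hx₂⟩
      rw [hdisj] at this
      exact hx₂1 (Subgroup.mem_bot.mp this)
    · have : x₁ ∈ W₂ := by
        have := W₂.mul_mem h (W₂.inv_mem hx₂)
        rwa [mul_inv_cancel_right] at this
      have : x₁ ∈ W₁ ⊓ W₂ := ⟨hx₁, this⟩
      rw [hdisj] at this
      exact hx₁1 (Subgroup.mem_bot.mp this)
  have hN := hnorm {x₁ * x₂} hx12 (Set.singleton_nonempty _)
  -- W₁ ⊔ W₂' ≤ N({x₁x₂}) = W₁ ⊔ W₂
  have hle2 : W₁ ⊔ W₂' ≤ W₁ ⊔ W₂ := by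
    rw [← hN]
    intro w hw
    have hx12mem : x₁ * x₂ ∈ W₁ ⊔ W₂' :=
      Subgroup.mul_mem _ (Subgroup.mem_sup_left hx₁) (hW₂le hx₂)
    have hc := hcyc'.isMulCommutative
    have h := hc.is_comm.comm (⟨w, hw⟩ : (W₁ ⊔ W₂' : Subgroup G)) ⟨x₁ * x₂, hx12mem⟩
    have hwc : w * (x₁ * x₂) = (x₁ * x₂) * w := congrArg Subtype.val h
    rw [Subgroup.mem_set_normalizer_iff]
    intro y
    simp only [Set.mem_singleton_iff]
    constructor
    · intro hy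
      rw [hy, hwc]; group
    · intro hy
      have : y = w⁻¹ * (w * y * w⁻¹) * w := by group
      rw [this, hy, mul_assoc, ← hwc]; group
  have heq : W₁ ⊔ W₂ = W₁ ⊔ W₂' := le_antisymm hle1 hle2
  -- cardinalities
  have hc1 := Cfsg.Agent.Helper23.card_sup_of_commute_of_disjoint W₁ W₂ hcomm hdisj
  have hc2 := Cfsg.Agent.Helper23.card_sup_of_commute_of_disjoint W₁ W₂' hcomm' hdisj'
  rw [heq, hc2] at hc1
  have hW₁pos : 0 < Nat.card W₁ := Nat.card_pos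
  have hcard : Nat.card W₂' = Nat.card W₂ := Nat.eq_of_mul_eq_mul_left hW₁pos hc1
  exact Cfsg.Agent.Helper23.eq_of_card_eq_of_isCyclic (W₁ ⊔ W₂) hcyc W₂' W₂
    (by rw [heq]; exact le_sup_right) le_sup_right hcard

end Cfsg.Agent.S1386
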