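import Cfsg.Statements.S1441
import Mathlib

set_option autoImplicit false
open Cfsg

namespace Cfsg.Agent.S1441

theorem centralizes_chain {G : Type*} [Group G] [Finite G] (H A : Subgroup G)
    (n : ℕ) (c : Fin (n + 1) → Subgroup G) (hc0 : c 0 = H) (hcn : c (Fin.last n) = ⊥)
    (hanti : Antitone c) (htriv : ∀ i : Fin n, ⁅c i.castSucc, A⁆ ≤ c i.succ)
    (a : G) (ha : a ∈ A) (hcop : (orderOf a).Coprime (Nat.card H)) :
    ∀ i : Fin (n + 1), ∀ h ∈ c i, a * h = h * a := by
  intro i
  induction i using Fin.reverseInduction with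
  | last =>
    intro h hh
    rw [hcn] at hh
    rw [Subgroup.mem_bot.mp hh]; simp
  | cast i ih =>
    intro h hh
    have hz1 : h * a * h⁻¹ * a⁻¹ ∈ c i.succ := by
      have := htriv i (Subgroup.commutator_mem_commutator hh ha)
      rwa [commutatorElement_def] at this
    set z := h * a * h⁻¹ * a⁻¹ with hz
    have hza : a * z = z * a := ih z hz1
    have hzH : z ∈ H := by
      rw [← hc0]; exact hanti (Fin.zero_le _) hz1
    have hconj : h * a * h⁻¹ = z * a := by rw [hz]; group
    have hpow : (z * a) ^ orderOf a = z ^ orderOf a * a ^ orderOf a :=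
      Commute.mul_pow (show Commute z a from hza.symm) _
    have hzpow : z ^ orderOf a = 1 := by
      rw [← hconj, conj_pow, pow_orderOf_eq_one] at hpow
      simpa using hpow.symm
    have hzord : orderOf z ∣ orderOf a := orderOf_dvd_of_pow_eq_one hzpow
    have hzord2 : orderOf z ∣ Nat.card H := by
      have := orderOf_dvd_natCard (⟨z, hzH⟩ : H)
      rwa [Subgroup.orderOf_mk] at this
    have h1 : orderOf z = 1 := Nat.eq_one_of_dvd_coprimes hcop hzord hzord2
    have hz1' : z = 1 := orderOf_eq_one_iff.mp h1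
    have : h * a * h⁻¹ = a := by rw [hconj, hz1', one_mul]
    calc a * h = (h * a * h⁻¹) * h := by rw [this]
      _ = h * a := by group


/-- Let G be a finite group, H a solvable subgroup and A a subgroup normalizing H. Suppose there is a chain H = H₀ ≥ H₁ ≥ ⋯ ≥ H_n = 1 of subgroups normal in H and normalized by A such that A acts trivially on each factor H_{i-1}/H_i (that is, [H_{i-1}, A] ≤ H_i). Then every prime dividing the index of C_A(H) in A divides the order of H. -/
theorem result {G : Type*} [Group G] [Finite G] (H A : Subgroup G) (hH : Group.IsSolvable H) (hA : (A ≤ Subgroup.normalizer (H : Set G)))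
    (n : ℕ) (c : Fin (n + 1) → Subgroup G) (hc0 : c 0 = H) (hcn : c (Fin.last n) = ⊥) (hanti : Antitone c)
    (hcN : ∀ i, H ≤ Subgroup.normalizer ((c i : Subgroup G) : Set G)) (hcA : ∀ i, A ≤ Subgroup.normalizer ((c i : Subgroup G) : Set G))
    (htriv : ∀ i : Fin n, ⁅c i.castSucc, A⁆ ≤ c i.succ) :
    ∀ p : ℕ, p.Prime → p ∣ (A ⊓ Subgroup.centralizer (H : Set G)).relIndex A → p ∣ Nat.card H := by
  intro p hp hdvd
  by_contra hpH
  have : Fact p.Prime := ⟨hp⟩
  have hcopH : p.Coprime (Nat.card H) := (Nat.Prime.coprime_iff_not_dvd hp).mpr hpH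
  let S : Sylow p A := default
  have hS : (S : Subgroup A) ≤ (A ⊓ Subgroup.centralizer (H : Set G)).subgroupOf A := by
    intro s hs
    rw [Subgroup.mem_subgroupOf]
    refine ⟨s.2, ?_⟩
    obtain ⟨k, hk⟩ := (IsPGroup.iff_orderOf.mp S.isPGroup') ⟨s, hs⟩
    have hk' : orderOf (s : G) = p ^ k := by
      have h1 : orderOf (⟨s, hs⟩ : (S : Subgroup A)) = orderOf s := Subgroup.orderOf_mk _ _
      rw [Subgroup.orderOf_coe, ← h1, hk]
    have hcop : (orderOf (s : G)).Coprime (Nat.card H) := by
      rw [hk']; exact Nat.Coprime.pow_left k hcopH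
    have := centralizes_chain H A n c hc0 hcn hanti htriv (s : G) s.2 hcop 0
    rw [hc0] at this
    show (s : G) ∈ Subgroup.centralizer (H : Set G)
    rw [Subgroup.mem_centralizer_iff]
    intro h hh
    exact (this h hh).symm
  have h1 : ((A ⊓ Subgroup.centralizer (H : Set G)).subgroupOf A).index ∣ (S : Subgroup A).index :=
    Subgroup.index_dvd_of_le hS
  exact S.not_dvd_index (hdvd.trans h1)

end Cfsg.Agent.S1441
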