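import Cfsg.Statements.S1442
import Mathlib
import Cfsg.Agent.Helper23.Basic

set_option autoImplicit false
open Cfsg

namespace Cfsg.Agent.S1442

/-- Let G be a finite group, H a nilpotent subgroup and A a subgroup normalizing H with the orders of A and H coprime. Put C = H ∩ C_G(A). If H ∩ C_G(C) ≤ C then A centralizes H. -/
theorem result {G : Type*} [Group G] [Finite G] (H A : Subgroup G) (hH : Group.IsNilpotent H) (hA : (A ≤ Subgroup.normalizer (H : Set G))) (hcop : (Nat.card A).Coprime (Nat.card H))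
    (hC : H ⊓ Subgroup.centralizer (((H ⊓ Subgroup.centralizer (A : Set G)) : Subgroup G) : Set G) ≤ (H ⊓ Subgroup.centralizer (A : Set G))) :
    A ≤ Subgroup.centralizer (H : Set G) := by
  classical
  -- C = C_H(A)
  set C : Subgroup G := H ⊓ Subgroup.centralizer (A : Set G) with hCdef
  -- work inside ↥H
  have : Group.IsNilpotent H := hH
  have hNC : NormalizerCondition H := Group.normalizerCondition_of_isNilpotent
  have hK : C.subgroupOf H = ⊤ := by
    by_contra hne
    have hlt : C.subgroupOf H < ⊤ := lt_top_iff_ne_top.mpr hne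
    have hlt2 := hNC _ hlt
    obtain ⟨n, hnN, hnK⟩ := SetLike.exists_of_lt hlt2
    apply hnK
    -- n normalizes C (inside H)
    have hnorm : ∀ c ∈ C, (n : G) * c * (n : G)⁻¹ ∈ C := by
      intro c hc
      have hcH : c ∈ H := hc.1
      have := (Subgroup.mem_normalizer_iff.mp hnN ⟨c, hcH⟩).mp (by
        rw [Subgroup.mem_subgroupOf]; exact hc)
      rw [Subgroup.mem_subgroupOf] at this
      simpa using this
    have hnorm' : ∀ c ∈ C, (n : G)⁻¹ * c * (n : G) ∈ C := by
      intro c hc
      have hcH : c ∈ H := hc.1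
      have := (Subgroup.mem_normalizer_iff''.mp hnN ⟨c, hcH⟩).mp (by
        rw [Subgroup.mem_subgroupOf]; exact hc)
      rw [Subgroup.mem_subgroupOf] at this
      simpa using this
    -- show n ∈ C
    rw [Subgroup.mem_subgroupOf]
    refine ⟨n.2, ?_⟩
    show (n : G) ∈ Subgroup.centralizer (A : Set G)
    rw [Subgroup.mem_centralizer_iff]
    intro a ha
    -- z = n a n⁻¹ a⁻¹
    have hzH : (n : G) * a * (n : G)⁻¹ * a⁻¹ ∈ H := by
      have h1 : a * (n : G)⁻¹ * a⁻¹ ∈ H := by
        have := (Subgroup.mem_normalizer_iff.mp (hA ha) (n : G)⁻¹).mp (H.inv_mem n.2)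
        exact this
      have := H.mul_mem n.2 h1
      have e : (n : G) * (a * (n : G)⁻¹ * a⁻¹) = (n : G) * a * (n : G)⁻¹ * a⁻¹ := by group
      rwa [e] at this
    have hzcent : (n : G) * a * (n : G)⁻¹ * a⁻¹ ∈ Subgroup.centralizer (C : Set G) := by
      rw [Subgroup.mem_centralizer_iff]
      intro c hc
      have hca : a * c = c * a := by
        have := (Subgroup.mem_centralizer_iff.mp hc.2) a ha
        exact this
      have hc' := hnorm' c hc
      have hca' : a * ((n : G)⁻¹ * c * (n : G)) = ((n : G)⁻¹ * c * (n : G)) * a := by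
        have := (Subgroup.mem_centralizer_iff.mp hc'.2) a ha
        exact this
      have hca_inv : a⁻¹ * c = c * a⁻¹ := by
        have := congrArg (fun x => a⁻¹ * x * a⁻¹) hca
        beta_reduce at this
        rw [show a⁻¹ * (a * c) * a⁻¹ = c * a⁻¹ by group, show a⁻¹ * (c * a) * a⁻¹ = a⁻¹ * c by group] at this
        exact this.symm
      -- c * z = z * c
      calc c * ((n : G) * a * (n : G)⁻¹ * a⁻¹)
          = (n : G) * (((n : G)⁻¹ * c * (n : G)) * a) * (n : G)⁻¹ * a⁻¹ := by group
        _ = (n : G) * (a * ((n : G)⁻¹ * c * (n : G))) * (n : G)⁻¹ * a⁻¹ := by rw [hca']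
        _ = (n : G) * a * (n : G)⁻¹ * (c * a⁻¹) := by group
        _ = (n : G) * a * (n : G)⁻¹ * (a⁻¹ * c) := by rw [hca_inv]
        _ = (n : G) * a * (n : G)⁻¹ * a⁻¹ * c := by group
    have hzC : (n : G) * a * (n : G)⁻¹ * a⁻¹ ∈ C := hC ⟨hzH, hzcent⟩
    have hcomm : Commute ((n : G) * a * (n : G)⁻¹ * a⁻¹) a := by
      have := (Subgroup.mem_centralizer_iff.mp hzC.2) a ha
      exact this.symm
    have hz1 := Cfsg.Agent.Helper23.comm_eq_one_of_coprime_card H A hcop (n : G) a ha hzH hcomm
    exact (Cfsg.Agent.Helper23.commute_of_comm_eq_one _ _ hz1).symm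
  intro a ha
  rw [Subgroup.mem_centralizer_iff]
  intro h hh
  have : (⟨h, hh⟩ : H) ∈ C.subgroupOf H := by rw [hK]; exact Subgroup.mem_top _
  rw [Subgroup.mem_subgroupOf] at this
  exact ((Subgroup.mem_centralizer_iff.mp this.2) a ha).symm

end Cfsg.Agent.S1442
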