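import Cfsg.Statements.S1462
import Mathlib
import Cfsg.Agent.Helper23.PLengthOne
import Cfsg.Agent.Helper26.Thompson
import Cfsg.Agent.Lead.Coprime3
import Cfsg.Agent.S1443

set_option autoImplicit false
open Cfsg

namespace Cfsg.Agent.S1462

/-- Let G be a finite solvable group, p an odd prime with G = O_{p',p,p'}(G), E an elementary abelian p-subgroup contained in no larger elementary abelian p-subgroup of G, and L a subgroup of order coprime to p normalized by E. Then L ≤ O_{p'}(G). -/
theorem result {G : Type*} [Group G] [Finite G] [Group.IsSolvable G] (p : ℕ) [Fact p.Prime] (hp : p ≠ 2) (hpl : Cfsg.PLengthLE p 1 G) (E L : Subgroup G) (hE : Cfsg.IsElementaryAbelian p E)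
    (hEmax : ∀ B : Subgroup G, Cfsg.IsElementaryAbelian p B → E ≤ B → B = E) (hL : (Nat.card L).Coprime p) (hEL : E ≤ Subgroup.normalizer (L : Set G)) :
    L ≤ Cfsg.pPrimeCore p G := by
  classical
  set K := Cfsg.pPrimeCore p G with hK
  set π := QuotientGroup.mk' K with hπ
  have hKcop : (Nat.card K).Coprime p := Cfsg.Agent.Helper23.pPrimeCore_card_coprime p G
  set P := Cfsg.pCore p (G ⧸ K) with hP
  have hPidx : P.index.Coprime p := Cfsg.Agent.Helper23.pCore_quotient_index_coprime p G hpl
  have hPp : IsPGroup p P := Cfsg.Agent.Helper23.pCore_isPGroup p (G ⧸ K)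
  have hCP : Subgroup.centralizer (P : Set (G ⧸ K)) ≤ P :=
    Cfsg.Agent.Helper23.centralizer_pCore_quotient_le p G
  have hEp : IsPGroup p E := Cfsg.Agent.Helper26.isPGroup_of_isElementaryAbelian hE
  have hEb : Cfsg.IsElementaryAbelian p (E.map π) := Cfsg.Agent.Helper26.isElementaryAbelian_map π hE
  have hEbP : E.map π ≤ P :=
    Cfsg.Agent.Helper23.le_of_isPGroup_of_index_coprime P hPidx _ (hEp.map π)
  have hLbcop : (Nat.card (L.map π)).Coprime p :=
    Nat.Coprime.coprime_dvd_left (Subgroup.card_map_dvd L π) hL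
  have hLbP : L.map π ⊓ P = ⊥ := by
    apply (Subgroup.disjoint_of_coprime_natCard _).eq_bot
    obtain ⟨a, ha⟩ := (IsPGroup.iff_card).mp hPp
    rw [ha]; exact Nat.Coprime.pow_right a hLbcop
  have hEbLb : E.map π ≤ Subgroup.normalizer ((L.map π : Subgroup (G ⧸ K)) : Set (G ⧸ K)) :=
    (Subgroup.map_mono hEL).trans (Subgroup.le_normalizer_map π)
  -- the image of L centralizes the image of E
  have hcomm : ∀ l ∈ L.map π, ∀ e ∈ E.map π, e * l = l * e := by
    intro l hl e he
    have h1 : e * l * e⁻¹ * l⁻¹ ∈ L.map π :=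
      (L.map π).mul_mem ((Subgroup.mem_normalizer_iff.mp (hEbLb he) l).mp hl) ((L.map π).inv_mem hl)
    have h2 : e * l * e⁻¹ * l⁻¹ ∈ P := by
      have hPn : P.Normal := inferInstance
      have : e * (l * e⁻¹ * l⁻¹) ∈ P := P.mul_mem (hEbP he) (hPn.conj_mem _ (P.inv_mem (hEbP he)) l)
      have e1 : e * l * e⁻¹ * l⁻¹ = e * (l * e⁻¹ * l⁻¹) := by group
      rw [e1]; exact this
    have h3 : e * l * e⁻¹ * l⁻¹ ∈ L.map π ⊓ P := ⟨h1, h2⟩
    rw [hLbP, Subgroup.mem_bot] at h3
    have e2 : e * l = (e * l * e⁻¹ * l⁻¹) * (l * e) := by group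
    rw [e2, h3, one_mul]
  -- elements of order p of P centralizing the image of E lie in the image of E
  have hkey : ∀ y ∈ P ⊓ Subgroup.centralizer ((E.map π : Subgroup (G ⧸ K)) : Set (G ⧸ K)),
      orderOf y = p → y ∈ E.map π := by
    intro y hy hyo
    obtain ⟨x, rfl⟩ := QuotientGroup.mk'_surjective K y
    have hEK : E ≤ Subgroup.normalizer (K : Set G) := by
      rw [Subgroup.normalizer_eq_top]; exact le_top
    have hcopEK : (Nat.card E).Coprime (Nat.card K) := by
      obtain ⟨a, ha⟩ := (IsPGroup.iff_card).mp hEp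
      rw [ha]; exact (Nat.Coprime.pow_right a hKcop).symm
    have hyc : π x ∈ Subgroup.centralizer ((E.map π : Subgroup (G ⧸ K)) : Set (G ⧸ K)) := hy.2
    have hfix : ∀ a ∈ E, a * x * a⁻¹ * x⁻¹ ∈ K := by
      intro a ha
      have h1 : π a * π x = π x * π a :=
        (Subgroup.mem_centralizer_iff.mp hyc) (π a) (Subgroup.mem_map_of_mem π ha)
      have h2 : π (a * x * a⁻¹ * x⁻¹) = 1 := by
        rw [map_mul, map_mul, map_mul, map_inv, map_inv, h1]; group
      rw [hπ, QuotientGroup.mk'_apply, QuotientGroup.eq_one_iff] at h2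
      exact h2
    obtain ⟨c, hc, hcx⟩ := Cfsg.Agent.Lead.coprime_invariant_coset_fixed E K hEK hcopEK
      (Or.inr inferInstance) x hfix
    have hπc : π c = π x := by
      have h2 : π (c * x⁻¹) = 1 := by
        rw [hπ, QuotientGroup.mk'_apply, QuotientGroup.eq_one_iff]; exact hcx
      rw [map_mul, map_inv, mul_inv_eq_one] at h2
      exact h2
    have hco : orderOf ((QuotientGroup.mk' K) c) = p := by rw [← hπ, hπc]; exact hyo
    obtain ⟨c', hc', hπc', a, hc'a⟩ := Cfsg.Agent.Helper23.exists_pElement_lift_mem K p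
      (Subgroup.centralizer (E : Set G)) c hc hco
    -- c' ^ p = 1
    have hc'p : c' ^ p = 1 := by
      have h1 : c' ^ p ∈ K := by
        rw [← QuotientGroup.eq_one_iff, ← QuotientGroup.mk'_apply, map_pow, hπc']
        have hpo := pow_orderOf_eq_one ((QuotientGroup.mk' K) c)
        rwa [hco] at hpo
      have h2 : orderOf (c' ^ p) ∣ Nat.card K := by
        have := Subgroup.orderOf_dvd_natCard K h1
        exact this
      have h3 : orderOf (c' ^ p) ∣ p ^ a := by
        apply orderOf_dvd_of_pow_eq_one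
        rw [← pow_mul, mul_comm, pow_mul, hc'a, one_pow]
      have h4 : orderOf (c' ^ p) ∣ 1 := by
        have := Nat.dvd_gcd h2 h3
        rwa [Nat.Coprime.pow_right a hKcop] at this
      exact orderOf_eq_one_iff.mp (Nat.dvd_one.mp h4)
    have hEA : Cfsg.IsElementaryAbelian p (E ⊔ Subgroup.zpowers c') := by
      apply Cfsg.Agent.Helper26.isElementaryAbelian_sup hE
        (Cfsg.Agent.Helper26.isElementaryAbelian_zpowers_of_orderOf_eq hc'p)
      rintro e he _ ⟨i, rfl⟩
      have h1 : e * c' = c' * e := (Subgroup.mem_centralizer_iff.mp hc' e he)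
      exact ((Commute.zpow_right (show Commute e c' from h1) i) : Commute e (c' ^ i)).eq
    have hEeq := hEmax _ hEA le_sup_left
    have hc'E : c' ∈ E := by
      rw [← hEeq]; exact Subgroup.mem_sup_right (Subgroup.mem_zpowers c')
    have hfin : (QuotientGroup.mk' K) x = π c' := by
      rw [hπ, hπc', ← hπ, hπc]
    rw [hfin]
    exact Subgroup.mem_map_of_mem π hc'E
  -- Thompson P × Q applied in the quotient
  have hLN : L.map π ≤ Subgroup.normalizer (P : Set (G ⧸ K)) := by
    rw [Subgroup.normalizer_eq_top]; exact le_top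
  have hcent := Cfsg.Agent.S1443.result p hp P (E.map π) (L.map π) hPp hEbP hEb hLN hLbcop (by
    intro x hx hxo l hl
    rw [Subgroup.mem_centralizer_iff]
    intro z hz
    rw [Set.mem_singleton_iff] at hz
    subst hz
    exact hcomm l hl z (hkey z hx hxo))
  have hLbot : L.map π = ⊥ := by
    rw [eq_bot_iff, ← hLbP]
    exact le_inf le_rfl (hcent.trans hCP)
  intro l hl
  have h1 : π l ∈ L.map π := Subgroup.mem_map_of_mem π hl
  rw [hLbot, Subgroup.mem_bot, hπ, QuotientGroup.mk'_apply, QuotientGroup.eq_one_iff] at h1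
  exact h1

end Cfsg.Agent.S1462
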