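import Cfsg.Statements.S1463
import Cfsg.Agent.Helper26.SL2Odd
import Cfsg.Agent.Helper12.Unipotent

set_option autoImplicit false
open scoped MatrixGroups
open Cfsg

namespace Cfsg.Agent.S1463

theorem mem_span_of_det_eq_zero {F : Type*} [Field F] {w u : Fin 2 → F} (hw : w ≠ 0)
    (h : w 0 * u 1 - w 1 * u 0 = 0) : u ∈ Submodule.span F {w} := by
  rw [Submodule.mem_span_singleton]
  by_cases h0 : w 0 = 0
  · have h1 : w 1 ≠ 0 := by
      intro h1
      apply hw
      ext i
      fin_cases i
      · simpa using h0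
      · simpa using h1
    have hu0 : u 0 = 0 := by
      rw [h0] at h
      have : w 1 * u 0 = 0 := by linear_combination -h
      exact (mul_eq_zero.mp this).resolve_left h1
    have e0 : (u 1 / w 1) * w 0 = u 0 := by rw [h0, hu0, mul_zero]
    have e1 : (u 1 / w 1) * w 1 = u 1 := div_mul_cancel₀ _ h1
    refine ⟨u 1 / w 1, ?_⟩
    ext i
    fin_cases i
    · exact e0
    · exact e1
  · have e0 : (u 0 / w 0) * w 0 = u 0 := div_mul_cancel₀ _ h0
    have e1 : (u 0 / w 0) * w 1 = u 1 := by
      field_simp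
      linear_combination -h
    refine ⟨u 0 / w 0, ?_⟩
    ext i
    fin_cases i
    · exact e0
    · exact e1

theorem eq_zero_of_mulVec_eq_zero {F : Type*} [Field F] (N : Matrix (Fin 2) (Fin 2) F)
    {w u : Fin 2 → F} (hw : N.mulVec w = 0) (hu : N.mulVec u = 0)
    (hd : w 0 * u 1 - w 1 * u 0 ≠ 0) : N = 0 := by
  have e := fun i => congrFun hw i
  have f := fun i => congrFun hu i
  simp only [Matrix.mulVec, dotProduct, Fin.sum_univ_two, Pi.zero_apply] at e f
  ext i j
  fin_cases j
  · have : N i 0 * (w 0 * u 1 - w 1 * u 0) = 0 := by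
      linear_combination (u 1) * e i - (w 1) * f i
    simpa using (mul_eq_zero.mp this).resolve_right hd
  · have : N i 1 * (w 0 * u 1 - w 1 * u 0) = 0 := by
      linear_combination (w 0) * f i - (u 0) * e i
    simpa using (mul_eq_zero.mp this).resolve_right hd


/-- Let F be a field of odd characteristic p and H a finite subgroup of odd order of GL(2, F) that leaves no 1-dimensional subspace of F² invariant. Then p does not divide the order of H. -/
theorem result {F : Type*} [Field F] (p : ℕ) [Fact p.Prime] [CharP F p] (hp : p ≠ 2)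
    (H : Subgroup (GL (Fin 2) F)) [Finite H] (hodd : Odd (Nat.card H))
    (hirr : ∀ v : Fin 2 → F, v ≠ 0 → ∃ g ∈ H, (g : Matrix (Fin 2) (Fin 2) F).mulVec v ∉ Submodule.span F {v}) :
    ¬ p ∣ Nat.card H := by
  classical
  intro hdvd
  have hpp : p.Prime := Fact.out
  obtain ⟨P⟩ : Nonempty (Sylow p H) := inferInstance
  let ψ : H →* Matrix (Fin 2) (Fin 2) F := (Units.coeHom _).comp H.subtype
  have hψ : Function.Injective ψ := fun a b h => Subtype.ext (Units.ext h)
  have hPn : (P : Subgroup H).Normal :=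
    Cfsg.Agent.Helper26.sylow_normal_of_odd ψ hψ p hp hodd P
  have hPne : Nontrivial (P : Subgroup H) := by
    have hcard := P.card_eq_multiplicity
    have hfac : 0 < (Nat.card H).factorization p :=
      Nat.Prime.factorization_pos_of_dvd hpp Nat.card_pos.ne' hdvd
    have : 1 < Nat.card (P : Subgroup H) := by
      rw [hcard]; exact Nat.one_lt_pow hfac.ne' hpp.one_lt
    exact Finite.one_lt_card_iff_nontrivial.mp this
  have hZ : Nontrivial (Subgroup.center (P : Subgroup H)) :=
    IsPGroup.center_nontrivial P.isPGroup'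
  obtain ⟨⟨z, hzZ⟩, hz1⟩ := exists_ne (1 : Subgroup.center (P : Subgroup H))
  -- `x = z` as an element of `H`
  set x : H := (z : H) with hx
  have hxP : x ∈ (P : Subgroup H) := z.2
  have hx1 : x ≠ 1 := by
    intro h
    apply hz1
    apply Subtype.ext
    apply Subtype.ext
    exact h
  have hxc : ∀ y : H, y ∈ (P : Subgroup H) → y * x = x * y := by
    intro y hy
    have := (Subgroup.mem_center_iff.mp hzZ) ⟨y, hy⟩
    exact congrArg Subtype.val this
  -- unipotence
  have huni : ∀ y : H, y ∈ (P : Subgroup H) → IsNilpotent (ψ y - 1) ∧ (ψ y - 1) ^ 2 = 0 := by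
    intro y hy
    obtain ⟨k, hk⟩ := (IsPGroup.iff_orderOf.mp P.isPGroup') ⟨y, hy⟩
    have h0 : y ^ (p ^ k) = 1 := by
      have := pow_orderOf_eq_one (⟨y, hy⟩ : (P : Subgroup H))
      rw [hk] at this
      have := congrArg Subtype.val this
      simpa using this
    have h1 : (ψ y) ^ (p ^ k) = 1 := by rw [← map_pow, h0, map_one]
    have h2 := Cfsg.Agent.Helper12.sub_one_pow_eq_zero_of_pow_eq_one p _ k h1
    have h3 := Cfsg.Agent.Helper12.nilpotent_pow_card (ψ y - 1) ⟨_, h2⟩
    exact ⟨⟨_, h2⟩, by simpa using h3⟩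
  set N : Matrix (Fin 2) (Fin 2) F := ψ x - 1 with hN
  have hN2 : N ^ 2 = 0 := (huni x hxP).2
  have hN0 : N ≠ 0 := by
    intro h
    apply hx1
    apply hψ
    rw [map_one]
    exact sub_eq_zero.mp h
  obtain ⟨v, hv⟩ : ∃ v : Fin 2 → F, N.mulVec v ≠ 0 := by
    by_contra hcon
    push Not at hcon
    apply hN0
    ext i j
    have := congrFun (hcon (Pi.single j 1)) i
    rw [Matrix.mulVec_single_one] at this
    simpa using this
  set w : Fin 2 → F := N.mulVec v with hw
  obtain ⟨g, hgH, hgw⟩ := hirr w hv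
  set u : Fin 2 → F := (g : Matrix (Fin 2) (Fin 2) F).mulVec w with hu
  have hdet : w 0 * u 1 - w 1 * u 0 ≠ 0 := fun h => hgw (mem_span_of_det_eq_zero hv h)
  -- the conjugate `x' = g x g⁻¹`
  set g' : H := ⟨g, hgH⟩ with hg'
  set x' : H := g' * x * g'⁻¹ with hx'
  have hx'P : x' ∈ (P : Subgroup H) := hPn.conj_mem x hxP g'
  set N' : Matrix (Fin 2) (Fin 2) F := ψ x' - 1 with hN'
  have hcomm : Commute N N' := by
    have h1 : Commute (ψ x) (ψ x') := by
      show ψ x * ψ x' = ψ x' * ψ x
      rw [← map_mul, ← map_mul, hxc x' hx'P]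
    exact (h1.sub_right (Commute.one_right _)).sub_left (Commute.one_left _)
  have hNN' : N * N' = 0 := by
    have hnil : IsNilpotent (N + N') :=
      Commute.isNilpotent_add hcomm (huni x hxP).1 (huni x' hx'P).1
    have h3 := Cfsg.Agent.Helper12.nilpotent_pow_card (N + N') hnil
    have hN'2 : N' ^ 2 = 0 := (huni x' hx'P).2
    have h4 : (N + N') ^ 2 = (2 : F) • (N * N') := by
      rw [pow_two, add_mul, mul_add, mul_add, ← pow_two, ← pow_two, hN2, hN'2, hcomm.eq.symm]
      rw [two_smul]
      abel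
    have h5 : (2 : F) • (N * N') = 0 := by
      rw [← h4]; simpa using h3
    have h2F : (2 : F) ≠ 0 := by
      intro h
      have h' : ((2 : ℕ) : F) = 0 := by exact_mod_cast h
      have := (CharP.cast_eq_zero_iff F p 2).mp h'
      exact hp ((Nat.prime_dvd_prime_iff_eq hpp Nat.prime_two).mp this)
    exact (smul_eq_zero.mp h5).resolve_left h2F
  -- `N'` kills `w` and `u`
  have hN'w : N'.mulVec w = 0 := by
    rw [hw, Matrix.mulVec_mulVec, ← hcomm.eq, hNN', Matrix.zero_mulVec]
  have hψx' : ψ x' * (g : Matrix (Fin 2) (Fin 2) F) = (g : Matrix (Fin 2) (Fin 2) F) * ψ x := by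
    have h1 : x' * g' = g' * x := by rw [hx']; group
    have h2 := congrArg ψ h1
    rw [map_mul, map_mul] at h2
    exact h2
  have hNw : N.mulVec w = 0 := by
    rw [hw, Matrix.mulVec_mulVec, ← pow_two, hN2, Matrix.zero_mulVec]
  have hN'u : N'.mulVec u = 0 := by
    have h1 : N' * (g : Matrix (Fin 2) (Fin 2) F) = (g : Matrix (Fin 2) (Fin 2) F) * N := by
      rw [hN', hN, sub_mul, mul_sub, hψx', one_mul, mul_one]
    rw [hu, Matrix.mulVec_mulVec, h1, ← Matrix.mulVec_mulVec, hNw, Matrix.mulVec_zero]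
  have hN'0 : N' = 0 := eq_zero_of_mulVec_eq_zero N' hN'w hN'u hdet
  apply hx1
  have h1 : x' = 1 := by
    apply hψ
    rw [map_one]
    exact sub_eq_zero.mp hN'0
  have : x = g'⁻¹ * x' * g' := by rw [hx']; group
  rw [this, h1]
  group

end Cfsg.Agent.S1463
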