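import Cfsg.Statements.S1475
import Mathlib
import Cfsg.Agent.Helper23.FrobeniusAction
import Cfsg.Agent.Helper1.MinNormal
import Cfsg.Agent.S0003

set_option autoImplicit false
open Cfsg

namespace Cfsg.Agent.S1475

open Subgroup

theorem not_commute_of_coprime {G : Type*} [Group G] [Finite G]
    (h : ∀ g : G, IsPrimePow (orderOf g) ∨ g = 1) {x z : G} (hx : x ≠ 1) (hz : z ≠ 1)
    (hcop : (orderOf x).Coprime (orderOf z)) : ¬ (x * z = z * x) := by
  intro hc
  have ho : orderOf (x * z) = orderOf x * orderOf z :=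
    (show Commute x z from hc).orderOf_mul_eq_mul_orderOf_of_coprime hcop
  have hx1 : orderOf x ≠ 1 := fun h1 => hx (orderOf_eq_one_iff.mp h1)
  have hz1 : orderOf z ≠ 1 := fun h1 => hz (orderOf_eq_one_iff.mp h1)
  have hxpos := orderOf_pos x
  have hzpos := orderOf_pos z
  rcases h (x * z) with hpp | h1
  · rw [ho] at hpp
    rcases (hcop.isPrimePow_dvd_mul hpp).mp dvd_rfl with h2 | h2
    · have h3 : orderOf x * orderOf z ∣ orderOf x * 1 := by rw [mul_one]; exact h2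
      exact hz1 (Nat.dvd_one.mp (Nat.dvd_of_mul_dvd_mul_left hxpos h3))
    · have h3 : orderOf z * orderOf x ∣ orderOf z * 1 := by rw [mul_one, mul_comm]; exact h2
      exact hx1 (Nat.dvd_one.mp (Nat.dvd_of_mul_dvd_mul_left hzpos h3))
  · rw [h1, orderOf_one] at ho
    exact hx1 (Nat.dvd_one.mp ⟨orderOf z, ho⟩)


/-- Let G be a finite solvable group such that the order of every element is a prime power (1 included). Then at most two distinct primes divide the order of G. -/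
theorem result {G : Type*} [Group G] [Finite G] [Group.IsSolvable G] (h : ∀ g : G, IsPrimePow (orderOf g) ∨ g = 1) :
    (Nat.card G).primeFactors.card ≤ 2 := by
  by_contra hcon
  push Not at hcon
  obtain ⟨a, ha, b, hb, c, hc, hab, hac, hbc⟩ := Finset.two_lt_card.mp hcon
  have hG0 : Nat.card G ≠ 0 := Nat.card_pos.ne'
  rw [Nat.mem_primeFactors] at ha hb hc
  have hnt : Nontrivial G := by
    apply Finite.one_lt_card_iff_nontrivial.mp
    exact lt_of_lt_of_le ha.1.one_lt (Nat.le_of_dvd Nat.card_pos ha.2.1)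
  obtain ⟨p₀, V, hp₀, hVn, hVne, hVp, hVc, hVe⟩ :=
    Cfsg.Agent.Helper1.exists_normal_pgroup_of_solvable (G := G)
  have key : ∃ q r : ℕ, q.Prime ∧ r.Prime ∧ q ∣ Nat.card G ∧ r ∣ Nat.card G ∧ q ≠ r ∧ q ≠ p₀ ∧
      r ≠ p₀ := by
    by_cases h1 : a = p₀
    · exact ⟨b, c, hb.1, hc.1, hb.2.1, hc.2.1, hbc, fun h => hab (h1.trans h.symm),
        fun h => hac (h1.trans h.symm)⟩
    · by_cases h2 : b = p₀
      · exact ⟨a, c, ha.1, hc.1, ha.2.1, hc.2.1, hac, h1, fun h => hbc (h2.trans h.symm)⟩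
      · exact ⟨a, b, ha.1, hb.1, ha.2.1, hb.2.1, hab, h1, h2⟩
  obtain ⟨q, r, hq, hr, hqG, hrG, hqr, hqp, hrp⟩ := key
  have : Fact p₀.Prime := ⟨hp₀⟩
  obtain ⟨K, hK⟩ := Cfsg.Agent.S0003.result (G := G) (ordCompl[p₀] (Nat.card G))
    (ordProj[p₀] (Nat.card G))
    (by rw [mul_comm]; exact (Nat.ordProj_mul_ordCompl_eq_self _ _).symm)
    (Nat.Coprime.pow_right _ (Nat.coprime_ordCompl hp₀ hG0).symm)
  have hKcop : (Nat.card K).Coprime p₀ := by
    rw [hK]; exact (Nat.coprime_ordCompl hp₀ hG0).symm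
  have hdvdK : ∀ u : ℕ, u.Prime → u ∣ Nat.card G → u ≠ p₀ → u ∣ Nat.card K := by
    intro u hu huG hup
    rw [hK]
    have h1 : u ∣ ordProj[p₀] (Nat.card G) * ordCompl[p₀] (Nat.card G) := by
      rw [Nat.ordProj_mul_ordCompl_eq_self]; exact huG
    exact (Nat.Coprime.dvd_mul_left
      (Nat.Coprime.pow_right _ ((Nat.coprime_primes hu hp₀).mpr hup))).mp h1
  have hqK := hdvdK q hq hqG hqp
  have hrK := hdvdK r hr hrG hrp
  have hKnt : Nontrivial K := by
    apply Finite.one_lt_card_iff_nontrivial.mp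
    exact lt_of_lt_of_le hq.one_lt (Nat.le_of_dvd Nat.card_pos hqK)
  obtain ⟨s, N₁, hs, hN₁n, hN₁ne, hN₁p, hN₁c, hN₁e⟩ :=
    Cfsg.Agent.Helper1.exists_normal_pgroup_of_solvable (G := K)
  have : Fact s.Prime := ⟨hs⟩
  have hsN : s ∣ Nat.card N₁ := by
    rcases hN₁p.card_eq_or_dvd with h1 | h1
    · exact absurd (Subgroup.card_eq_one.mp h1) hN₁ne
    · exact h1
  have hsK : s ∣ Nat.card K := hsN.trans (Subgroup.card_subgroup_dvd_card N₁)
  have hsp : s ≠ p₀ := by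
    intro h1
    rw [h1] at hsK
    exact (Nat.Prime.coprime_iff_not_dvd hp₀).mp hKcop.symm hsK
  obtain ⟨t, ht, htK, hts, htp⟩ : ∃ t : ℕ, t.Prime ∧ t ∣ Nat.card K ∧ t ≠ s ∧ t ≠ p₀ := by
    by_cases h1 : q = s
    · exact ⟨r, hr, hrK, fun h2 => hqr (h1.trans h2.symm), hrp⟩
    · exact ⟨q, hq, hqK, h1, hqp⟩
  have : Fact t.Prime := ⟨ht⟩
  obtain ⟨y, hy⟩ := exists_prime_orderOf_dvd_card' t htK
  have hyo : orderOf (y : G) = t := by rw [Subgroup.orderOf_coe]; exact hy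
  have hy1 : (y : G) ≠ 1 := by
    intro h1
    rw [h1, orderOf_one] at hyo
    exact ht.one_lt.ne hyo
  -- orders
  have hVord : ∀ v ∈ V, ∃ j, orderOf v = p₀ ^ j := by
    intro v hv
    obtain ⟨j, hj⟩ := (IsPGroup.iff_orderOf.mp hVp) ⟨v, hv⟩
    exact ⟨j, by rw [← hj, Subgroup.orderOf_mk]⟩
  have hNord : ∀ n ∈ N₁.map K.subtype, ∃ j, orderOf n = s ^ j := by
    rintro _ ⟨n, hn, rfl⟩
    obtain ⟨j, hj⟩ := (IsPGroup.iff_orderOf.mp hN₁p) ⟨n, hn⟩
    refine ⟨j, ?_⟩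
    rw [Subgroup.orderOf_mk] at hj
    rw [← hj]
    exact Subgroup.orderOf_coe n
  have hKord : ∀ k ∈ K, (orderOf k).Coprime p₀ := by
    intro k hk
    have h1 : orderOf k ∣ Nat.card K := Subgroup.orderOf_dvd_natCard K hk
    exact Nat.Coprime.coprime_dvd_left h1 hKcop
  have hNK : N₁.map K.subtype ≤ K := map_subtype_le _
  have hYK : zpowers (y : G) ≤ K := zpowers_le.mpr y.2
  have hYN : ∀ a ∈ zpowers (y : G), ∀ n ∈ N₁.map K.subtype, a * n * a⁻¹ ∈ N₁.map K.subtype := by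
    rintro a ha _ ⟨n, hn, rfl⟩
    exact ⟨⟨a, hYK ha⟩ * n * ⟨a, hYK ha⟩⁻¹, hN₁n.conj_mem n hn _, rfl⟩
  have hfpf : ∀ a ∈ zpowers (y : G), a ≠ 1 → ∀ n ∈ N₁.map K.subtype, a * n = n * a → n = 1 := by
    intro a ha ha1 n hn hcomm
    by_contra hn1
    obtain ⟨j, hj⟩ := hNord n hn
    have h1 : orderOf a ∣ t := by rw [← hyo]; exact orderOf_dvd_of_mem_zpowers ha
    have hcop : (orderOf a).Coprime (orderOf n) := by
      rw [hj]
      exact Nat.Coprime.coprime_dvd_left h1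
        (Nat.Coprime.pow_right j ((Nat.coprime_primes ht hs).mpr hts))
    exact not_commute_of_coprime h ha1 hn1 hcop hcomm
  have hNne : ∃ n ∈ N₁.map K.subtype, n ≠ 1 := by
    obtain ⟨n, hn⟩ := (Subgroup.ne_bot_iff_exists_ne_one.mp hN₁ne)
    exact ⟨((n : K) : G), ⟨(n : K), n.2, rfl⟩, fun h1 => hn (Subtype.ext (Subtype.ext h1))⟩
  have hVN : ∀ v ∈ V, (∀ n ∈ N₁.map K.subtype, n * v = v * n) → v = 1 := by
    intro v hv hcomm
    by_contra hv1
    obtain ⟨n, hn, hn1⟩ := hNne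
    obtain ⟨j, hj⟩ := hVord v hv
    have hcop : (orderOf n).Coprime (orderOf v) := by
      rw [hj]; exact Nat.Coprime.pow_right j (hKord n (hNK hn))
    exact not_commute_of_coprime h hn1 hv1 hcop (hcomm n hn)
  have hVY : ∀ v ∈ V, (∀ a ∈ zpowers (y : G), a * v = v * a) → v = 1 := by
    intro v hv hcomm
    by_contra hv1
    obtain ⟨j, hj⟩ := hVord v hv
    have hcop : (orderOf (y : G)).Coprime (orderOf v) := by
      rw [hj]; exact Nat.Coprime.pow_right j (hKord _ y.2)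
    exact not_commute_of_coprime h hy1 hv1 hcop (hcomm _ (mem_zpowers _))
  have hcop : (Nat.card (N₁.map K.subtype)).Coprime (Nat.card V) := by
    obtain ⟨i, hi⟩ := IsPGroup.iff_card.mp hVp
    obtain ⟨j, hj⟩ := IsPGroup.iff_card.mp (hN₁p.map K.subtype)
    rw [hi, hj]
    exact Nat.Coprime.pow j i ((Nat.coprime_primes hs hp₀).mpr hsp)
  exact hVne (Cfsg.Agent.Helper23.frobenius_action V (N₁.map K.subtype) (zpowers (y : G))
    hYN hfpf hVN hVY hcop)

end Cfsg.Agent.S1475
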