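import Cfsg.Statements.S1481
import Cfsg.Agent.Lead.BL2

set_option autoImplicit false
open Cfsg

namespace Cfsg.Agent.S1481

/-- Let G be a finite group and H a local subgroup (the normalizer of a nontrivial subgroup of prime-power order) not properly contained in any local subgroup; let F = F(H), suppose at least two primes divide #F, put X = H ∩ C_G(F), let M ≤ F with F ∩ C_G(M) ≤ M, and let R be a solvable subgroup normalized by M and by X. Then for every prime q not dividing #F there is exactly one maximal M-invariant q-subgroup of R, and it is a Sylow q-subgroup of the largest normal subgroup of R of order coprime to #F. -/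
theorem result {G : Type*} [Group G] [Finite G] (H : Subgroup G) (hH : Cfsg.IsLocalSubgroup H) (hHmax : ∀ L : Subgroup G, Cfsg.IsLocalSubgroup L → H ≤ L → L = H)
    (hF2 : 2 ≤ (Nat.card (Cfsg.fittingOf H)).primeFactors.card)
    (M : Subgroup G) (hM : M ≤ Cfsg.fittingOf H) (hCM : Cfsg.fittingOf H ⊓ Subgroup.centralizer (M : Set G) ≤ M)
    (R : Subgroup G) (hR : Group.IsSolvable R) (hMR : M ≤ Subgroup.normalizer (R : Set G))
    (hXR : H ⊓ Subgroup.centralizer (Cfsg.fittingOf H : Set G) ≤ Subgroup.normalizer (R : Set G))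
    (q : ℕ) [Fact q.Prime] (hq : ¬ q ∣ Nat.card (Cfsg.fittingOf H)) :
    ∃! Q : Subgroup G, Q ∈ Cfsg.maxInvSubgroups R M {q} ∧
      (∀ Q' : Subgroup G, Q' ∈ Cfsg.maxInvSubgroups R M {q} →
        Q' ≤ Cfsg.piCoreOf (Cfsg.primesNotDvd (Nat.card (Cfsg.fittingOf H))) R ∧
        ¬ q ∣ Q'.relIndex (Cfsg.piCoreOf (Cfsg.primesNotDvd (Nat.card (Cfsg.fittingOf H))) R)) := by
  classical
  have hctx : Cfsg.Agent.Lead.BL.Ctx H M R := ⟨hH, hHmax, hF2, hM, hCM, hR, hMR, hXR⟩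
  set F := Cfsg.fittingOf H with hF
  set W := Cfsg.piCoreOf (Cfsg.primesNotDvd (Nat.card F)) R with hW
  have hqp : q.Prime := Fact.out
  have hWR : W ≤ R := Cfsg.Agent.Lead.TT.piCoreOf_le _ R
  have hMW : M ≤ Subgroup.normalizer (W : Set G) :=
    hMR.trans (Cfsg.Agent.Lead.TT.normalizer_le_normalizer_piCoreOf _ R)
  have hcopW : (Nat.card W).Coprime (Nat.card F) := Cfsg.Agent.Lead.TT.piCoreOf_coprime _ R
  have hMF : Nat.card M ∣ Nat.card F := Subgroup.card_dvd_of_le hM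
  have hcopMW : (Nat.card M).Coprime (Nat.card W) :=
    (Nat.Coprime.coprime_dvd_right hMF hcopW).symm
  have hMsolv : Group.IsSolvable M := hctx.isSolvable_M
  have hcopq : ∀ T : Subgroup G, IsPGroup q T → (Nat.card T).Coprime (Nat.card F) := by
    intro T hT
    obtain ⟨k, hk⟩ := IsPGroup.iff_card.mp hT
    rw [hk]
    exact Nat.Coprime.pow_left k ((Nat.Prime.coprime_iff_not_dvd hqp).mpr hq)
  have hA : ∀ T ∈ Cfsg.invSubgroups R M {q}, IsPGroup q T ∧ T ≤ W := by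
    rintro T ⟨hTR, hTq, hMT⟩
    have hTp : IsPGroup q T := (Cfsg.Agent.Lead.TT.isPGroup_iff_forall_prime_dvd T).mpr hTq
    exact ⟨hTp, hctx.inv_le_core hTR hMT (hcopq T hTp)⟩
  have hCW : W ⊓ Subgroup.centralizer (M : Set G) = ⊥ :=
    hctx.eq_bot_of_centralizes (inf_le_left.trans hWR) inf_le_right
      (Nat.Coprime.coprime_dvd_left (Subgroup.card_dvd_of_le inf_le_left) hcopW)
  obtain ⟨P₀, hP₀⟩ :=
    Cfsg.Agent.Lead.coprime_exists_invariant_sylow M W hMW hcopMW (Or.inl hMsolv) q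
  set Q₀ := (P₀ : Subgroup W).map W.subtype with hQ₀
  have hQ₀W : Q₀ ≤ W := Subgroup.map_subtype_le _
  have hQ₀q : IsPGroup q Q₀ := P₀.isPGroup'.map _
  have hQ₀inv : Q₀ ∈ Cfsg.invSubgroups R M {q} :=
    ⟨hQ₀W.trans hWR, (Cfsg.Agent.Lead.TT.isPGroup_iff_forall_prime_dvd Q₀).mp hQ₀q, hP₀⟩
  have huniq : ∀ P : Sylow q W,
      M ≤ Subgroup.normalizer ((P : Subgroup W).map W.subtype : Set G) → P = P₀ := by
    intro P hP
    obtain ⟨c, hc, hcP⟩ := Cfsg.Agent.Lead.coprime_invariant_sylow_conj M W hMW hcopMW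
      (Or.inl hMsolv) q P P₀ hP hP₀
    have hc1 : (c : G) ∈ W ⊓ Subgroup.centralizer (M : Set G) := Subgroup.mem_inf.mpr ⟨c.2, hc⟩
    rw [hCW, Subgroup.mem_bot] at hc1
    have hc' : c = 1 := Subtype.ext hc1
    rw [hc', map_one, one_smul] at hcP
    exact hcP
  have hle : ∀ T ∈ Cfsg.invSubgroups R M {q}, T ≤ Q₀ := by
    intro T hT
    obtain ⟨hTp, hTW⟩ := hA T hT
    obtain ⟨P, hTP, hP⟩ := Cfsg.Agent.Lead.coprime_invariant_pgroup_le_sylow M W hMW hcopMW
      (Or.inl hMsolv) q T hTW hTp hT.2.2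
    rw [huniq P hP] at hTP
    exact hTP
  have hQ₀max : Q₀ ∈ Cfsg.maxInvSubgroups R M {q} :=
    ⟨hQ₀inv, fun T hT hle' => le_antisymm (hle T hT) hle'⟩
  have hall : ∀ Q' ∈ Cfsg.maxInvSubgroups R M {q}, Q' = Q₀ := by
    intro Q' hQ'
    exact (hQ'.2 Q₀ hQ₀inv (hle Q' hQ'.1)).symm
  refine ⟨Q₀, ⟨hQ₀max, ?_⟩, fun Q₂ hQ₂ => hall Q₂ hQ₂.1⟩
  intro Q' hQ'
  rw [hall Q' hQ']
  refine ⟨hQ₀W, ?_⟩
  have hsub : Q₀.subgroupOf W = (P₀ : Subgroup W) := by
    rw [hQ₀]
    exact Subgroup.comap_map_eq_self_of_injective W.subtype_injective _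
  rw [Subgroup.relIndex, hsub]
  exact P₀.not_dvd_index

end Cfsg.Agent.S1481
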