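import Cfsg.Statements.S1485
import Mathlib

set_option autoImplicit false
open Cfsg

namespace Cfsg.Agent.S1485

open Finset

/-- conjugate of a function on a normal subgroup -/
noncomputable def cj {G : Type*} [Group G] (H : Subgroup G) [hN : H.Normal] (θ : H → ℂ) (g : G) : H → ℂ :=
  fun h : H => θ ⟨g * h * g⁻¹, hN.conj_mem h h.2 g⟩

theorem cj_eq_iff {G : Type*} [Group G] (H : Subgroup G) [hN : H.Normal] (θ : H → ℂ) (x g : G) :
    cj H θ x = cj H θ g ↔ cj H θ (x * g⁻¹) = θ := by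
  constructor
  · intro h
    funext k
    have := congrFun h ⟨g⁻¹ * k * g, by simpa using hN.conj_mem k k.2 g⁻¹⟩
    simp only [cj] at this ⊢
    have e1 : x * (g⁻¹ * (k : G) * g) * x⁻¹ = x * g⁻¹ * k * (x * g⁻¹)⁻¹ := by group
    have e2 : g * (g⁻¹ * (k : G) * g) * g⁻¹ = k := by group
    simp only [e1, e2] at this
    exact this
  · intro h
    funext k
    have := congrFun h ⟨g * k * g⁻¹, hN.conj_mem k k.2 g⟩
    simp only [cj] at this ⊢
    have e1 : x * g⁻¹ * (g * (k : G) * g⁻¹) * (x * g⁻¹)⁻¹ = x * k * x⁻¹ := by group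
    simp only [e1] at this
    exact this

theorem fiber_card {G : Type*} [Group G] [Fintype G] (H : Subgroup G) [hN : H.Normal] (θ : H → ℂ) (g : G) :
    Nat.card {x : G // cj H θ x = cj H θ g} = Nat.card {t : G // cj H θ t = θ} := by
  apply Nat.card_congr
  refine Equiv.subtypeEquiv (Equiv.mulRight g⁻¹) ?_
  intro a
  simp only [Equiv.coe_mulRight]
  exact cj_eq_iff H θ a g

theorem result {G : Type*} [Group G] [Fintype G] (H : Subgroup G) [hN : H.Normal] (θ : H → ℂ) (hθ : Cfsg.IsIrrCharacter H θ) : (fun h : H => Cfsg.indFun H θ h) = ((Nat.card {g : G // ∀ h : H, θ ⟨g * h * g⁻¹, hN.conj_mem h h.2 g⟩ = θ h} : ℂ) / (Nat.card H : ℂ)) • ∑ᶠ ψ ∈ {ψ : H → ℂ | ∃ g : G, ψ = fun h : H => θ ⟨g * h * g⁻¹, hN.conj_mem h h.2 g⟩}, ψ := by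
  classical
  have hT : Nat.card {g : G // ∀ h : H, θ ⟨g * h * g⁻¹, hN.conj_mem h h.2 g⟩ = θ h}
      = Nat.card {t : G // cj H θ t = θ} := by
    apply Nat.card_congr
    refine Equiv.subtypeEquiv (Equiv.refl G) ?_
    intro a
    simp only [Equiv.refl_apply]
    constructor
    · intro h; funext k; exact h k
    · intro h k; exact congrFun h k
  have hset : {ψ : H → ℂ | ∃ g : G, ψ = fun h : H => θ ⟨g * h * g⁻¹, hN.conj_mem h h.2 g⟩}
      = ↑(Finset.univ.image (cj H θ)) := by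
    ext ψ
    simp only [Set.mem_ofPred_eq, coe_image, coe_univ, Set.image_univ, Set.mem_range]
    constructor
    · rintro ⟨g, rfl⟩; exact ⟨g, rfl⟩
    · rintro ⟨g, rfl⟩; exact ⟨g, rfl⟩
  rw [hset, finsum_mem_coe_finset, hT]
  funext h
  -- compute the induced function at h
  have h1 : Cfsg.indFun H θ (h : G) = (Nat.card H : ℂ)⁻¹ * ∑ x : G, cj H θ x h := by
    unfold Cfsg.indFun
    congr 1
    rw [← Equiv.sum_comp (Equiv.inv G)]
    apply Finset.sum_congr rfl
    intro x _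
    simp only [Equiv.inv_apply, inv_inv, cj]
    unfold Cfsg.extendByZero
    exact Subtype.val_injective.extend_apply θ 0 (⟨x * h * x⁻¹, hN.conj_mem h h.2 x⟩ : H)
  have h2 : ∑ x : G, cj H θ x = ∑ ψ ∈ Finset.univ.image (cj H θ),
      (Nat.card {t : G // cj H θ t = θ}) • ψ := by
    rw [Finset.sum_comp (fun ψ : H → ℂ => ψ) (cj H θ)]
    apply Finset.sum_congr rfl
    intro ψ hψ
    rw [mem_image] at hψ
    obtain ⟨g, _, rfl⟩ := hψ
    congr 1
    rw [← fiber_card H θ g, Nat.card_eq_fintype_card, Fintype.card_subtype]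
  rw [h1]
  have h3 : ∑ x : G, cj H θ x h = (∑ x : G, cj H θ x) h := by
    rw [Finset.sum_apply]
  rw [h3, h2]
  simp only [Pi.smul_apply, Finset.sum_apply, smul_eq_mul, nsmul_eq_mul, Pi.mul_apply, Pi.natCast_apply]
  rw [← Finset.mul_sum]
  ring

end Cfsg.Agent.S1485
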