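import Cfsg.Statements.S1486
import Cfsg.Agent.Helper8.Ind
import Cfsg.Agent.Helper8.CharComp

set_option autoImplicit false
open Cfsg

namespace Cfsg.Agent.S1486

open scoped ComplexConjugate
open Cfsg.Agent.Helper8

/-- extension by zero of a conjugate, for a normal subgroup -/
theorem ebz_conj {G : Type*} [Group G] (H : Subgroup G) [hN : H.Normal] (θ : H → ℂ) (g y : G) :
    Cfsg.extendByZero H (fun h : H => θ ⟨g * h * g⁻¹, hN.conj_mem h h.2 g⟩) y
      = Cfsg.extendByZero H θ (g * y * g⁻¹) := by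
  by_cases hy : y ∈ H
  · rw [ebz_mem H _ hy, ebz_mem H θ (hN.conj_mem y hy g)]
  · have hy' : g * y * g⁻¹ ∉ H := by
      intro h
      apply hy
      have := hN.conj_mem _ h g⁻¹
      simpa [mul_assoc] using this
    rw [ebz_not_mem H _ hy, ebz_not_mem H _ hy']

theorem indFun_conj_eq {G : Type*} [Group G] [Fintype G] (H : Subgroup G) [hN : H.Normal]
    (θ : H → ℂ) (g : G) :
    Cfsg.indFun H (fun h : H => θ ⟨g * h * g⁻¹, hN.conj_mem h h.2 g⟩) = Cfsg.indFun H θ := by
  funext z
  rw [indFun_def, indFun_def]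
  congr 1
  rw [← Equiv.sum_comp (Equiv.mulRight g⁻¹) (fun x => Cfsg.extendByZero H θ (x⁻¹ * z * x))]
  apply Finset.sum_congr rfl
  intro x _
  rw [ebz_conj]
  simp only [Equiv.coe_mulRight]
  congr 1
  group

/-- Let H be a normal subgroup of the finite group G and θ, φ irreducible characters of H. If φ is a G-conjugate of θ then the functions induced from θ and φ coincide; if φ is not a G-conjugate of θ then the induced functions are orthogonal. -/
theorem result {G : Type*} [Group G] [Fintype G] (H : Subgroup G) [hN : H.Normal] (θ φ : H → ℂ) (hθ : Cfsg.IsIrrCharacter H θ) (hφ : Cfsg.IsIrrCharacter H φ) : ((∃ g : G, φ = fun h : H => θ ⟨g * h * g⁻¹, hN.conj_mem h h.2 g⟩) → Cfsg.indFun H φ = Cfsg.indFun H θ) ∧ ((¬ ∃ g : G, φ = fun h : H => θ ⟨g * h * g⁻¹, hN.conj_mem h h.2 g⟩) → Cfsg.classInner (Cfsg.indFun H φ) (Cfsg.indFun H θ) = 0) := by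
  constructor
  · rintro ⟨g, rfl⟩
    exact indFun_conj_eq H θ g
  · intro hne
    have : Fintype H := Fintype.ofFinite H
    rw [frobenius_reciprocity H φ _ (indFun_isClassFunction H θ)]
    have h1 : (fun h : H => Cfsg.indFun H θ (h : G))
        = (Nat.card H : ℂ)⁻¹ • ∑ x : G, (fun h : H => θ ⟨x * h * x⁻¹, hN.conj_mem h h.2 x⟩) := by
      funext h
      rw [indFun_normal_apply]
      simp [Finset.sum_apply]
    rw [h1, classInner_smul_right, classInner_sum_right]
    have h2 : ∀ x : G, Cfsg.classInner φ (fun h : H => θ ⟨x * h * x⁻¹, hN.conj_mem h h.2 x⟩) = 0 := by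
      intro x
      rw [Cfsg.Agent.Helper23.classInner_irrCharacter φ _ hφ (isIrrCharacter_conj H θ hθ x)]
      rw [if_neg]
      intro h
      exact hne ⟨x, h⟩
    rw [Finset.sum_eq_zero (fun x _ => h2 x), mul_zero]

end Cfsg.Agent.S1486
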