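import Cfsg.Statements.S1488
import Cfsg.Agent.Helper8.Ind

set_option autoImplicit false
open Cfsg

namespace Cfsg.Agent.S1488

open scoped ComplexConjugate
open Cfsg.Agent.Helper8

/-- the fibres of the quotient map all have `|A|` elements -/
theorem card_fiber_mk {G : Type*} [Group G] (A : Subgroup G) (q : G ⧸ A) :
    Nat.card {x : G // (QuotientGroup.mk x : G ⧸ A) = q} = Nat.card A := by
  obtain ⟨g, rfl⟩ := QuotientGroup.mk_surjective q
  exact Nat.card_congr ((Equiv.setCongr (QuotientGroup.eq_class_eq_leftCoset A g)).trans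
    (Subgroup.leftCosetEquivSubgroup g))

/-- summing a function of the coset over the group -/
theorem sum_comp_mk {G : Type*} [Group G] [Fintype G] (A : Subgroup G) [Fintype (G ⧸ A)]
    (F : G ⧸ A → ℂ) :
    ∑ x : G, F (QuotientGroup.mk x) = (Nat.card A : ℂ) * ∑ q : G ⧸ A, F q := by
  classical
  rw [← Fintype.sum_fiberwise (fun x : G => (QuotientGroup.mk x : G ⧸ A))
    (fun x => F (QuotientGroup.mk x))]
  rw [Finset.mul_sum]
  apply Finset.sum_congr rfl
  intro q _
  have : ∀ a : {x : G // (QuotientGroup.mk x : G ⧸ A) = q}, F (QuotientGroup.mk a.1) = F q :=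
    fun a => by rw [a.2]
  rw [Finset.sum_congr rfl (fun a _ => this a), Finset.sum_const, Finset.card_univ, nsmul_eq_mul]
  congr 1
  rw [← Nat.card_eq_fintype_card, card_fiber_mk]

theorem card_eq_mul_card_map {G : Type*} [Group G] [Finite G] (A H : Subgroup G) [A.Normal]
    (hAH : A ≤ H) :
    Nat.card H = Nat.card A * Nat.card ↥(H.map (QuotientGroup.mk' A)) := by
  have h1 := Subgroup.card_mul_index ((QuotientGroup.mk' A).domRestrict H).ker
  rw [Subgroup.index_ker, MonoidHom.domRestrict_range, MonoidHom.ker_domRestrict,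
    QuotientGroup.ker_mk'] at h1
  rw [← h1, Nat.card_congr (Subgroup.subgroupOfEquivOfLe hAH).toEquiv]

/-- Let A be a normal subgroup of the finite group G contained in the subgroup H, let θ be a function on H and θ₁ a function on the image of H in G ⧸ A whose composite with the projection is θ. Then the function induced from θ₁ to G ⧸ A, composed with the projection G → G ⧸ A, equals the function induced from θ to G. -/
theorem result {G : Type*} [Group G] [Fintype G] (A H : Subgroup G) [A.Normal] (hAH : A ≤ H) [Fintype (G ⧸ A)] [Fintype ↥(H.map (QuotientGroup.mk' A))] (θ : H → ℂ) (θ₁ : ↥(H.map (QuotientGroup.mk' A)) → ℂ) (hθ : ∀ x : H, θ₁ ⟨QuotientGroup.mk' A x, Subgroup.mem_map_of_mem _ x.2⟩ = θ x) (g : G) : Cfsg.indFun (H.map (QuotientGroup.mk' A)) θ₁ (QuotientGroup.mk' A g) = Cfsg.indFun H θ g := by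
  have key : ∀ y : G, Cfsg.extendByZero H θ y
      = Cfsg.extendByZero (H.map (QuotientGroup.mk' A)) θ₁ (QuotientGroup.mk' A y) := by
    intro y
    by_cases hy : y ∈ H
    · rw [ebz_mem H θ hy, ebz_mem _ θ₁ (Subgroup.mem_map_of_mem _ hy)]
      exact (hθ ⟨y, hy⟩).symm
    · have hy' : QuotientGroup.mk' A y ∉ H.map (QuotientGroup.mk' A) := by
        rintro ⟨h, hh, e⟩
        apply hy
        have e' : (QuotientGroup.mk h : G ⧸ A) = QuotientGroup.mk y := e
        rw [QuotientGroup.eq] at e'
        have := H.mul_mem hh (hAH e')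
        simpa using this
      rw [ebz_not_mem H θ hy, ebz_not_mem _ θ₁ hy']
  rw [indFun_def, indFun_def]
  have h1 : ∑ x : G, Cfsg.extendByZero H θ (x⁻¹ * g * x)
      = ∑ x : G, (fun q : G ⧸ A => Cfsg.extendByZero (H.map (QuotientGroup.mk' A)) θ₁
          (q⁻¹ * QuotientGroup.mk' A g * q)) (QuotientGroup.mk x) := by
    apply Finset.sum_congr rfl
    intro x _
    rw [key]
    rfl
  rw [h1, sum_comp_mk A (fun q : G ⧸ A => Cfsg.extendByZero (H.map (QuotientGroup.mk' A)) θ₁
          (q⁻¹ * QuotientGroup.mk' A g * q)), card_eq_mul_card_map A H hAH]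
  have hA : (Nat.card A : ℂ) ≠ 0 := Nat.cast_ne_zero.mpr Nat.card_pos.ne'
  have hM : (Nat.card ↥(H.map (QuotientGroup.mk' A)) : ℂ) ≠ 0 :=
    Nat.cast_ne_zero.mpr Nat.card_pos.ne'
  push_cast
  field_simp

end Cfsg.Agent.S1488
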