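import Cfsg.Statements.S1494
import Cfsg.Agent.Helper24.Generalized
import Cfsg.Agent.Helper24.Abelian
import Cfsg.Agent.Helper5.LinChar

set_option autoImplicit false
open Cfsg

namespace Cfsg.Agent.S1494

open scoped ComplexConjugate
open Cfsg.Agent.Helper24

/-- values of characters are algebraic integers -/
theorem isIntegral_of_isCharacter {A : Type*} [Group A] [Finite A] {ψ : A → ℂ}
    (h : Cfsg.IsCharacter A ψ) (a : A) : IsIntegral ℤ (ψ a) := by
  obtain ⟨n, ρ, rfl⟩ := h
  exact char_isIntegral ρ a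

/-- the statement for a linear character -/
theorem key {A : Type*} [Group A] [Finite A] {ψ : A → ℂ} (h : Cfsg.IsCharacter A ψ)
    (h1 : ψ 1 = 1) (p : ℕ) (hp : p.Prime) (x y : A) (hx : x ^ p = 1) :
    ∃ ω : ℂ, IsIntegral ℤ ω ∧
      ψ (x * y) - ψ y = (1 - Complex.exp (2 * Real.pi * Complex.I / p)) * ω := by
  set ε := Complex.exp (2 * Real.pi * Complex.I / p) with hεdef
  have hε : IsPrimitiveRoot ε p := Complex.isPrimitiveRoot_exp p hp.ne_zero
  have hεint : IsIntegral ℤ ε := hε.isIntegral hp.pos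
  have hpow : ψ x ^ p = 1 := by
    rw [← Cfsg.Agent.Helper5.linChar_pow h h1, hx, h1]
  have : NeZero p := ⟨hp.ne_zero⟩
  obtain ⟨k, _, hk⟩ := hε.eq_pow_of_pow_eq_one hpow
  refine ⟨-(ψ y * ∑ j ∈ Finset.range k, ε ^ j), ?_, ?_⟩
  · apply IsIntegral.neg
    apply IsIntegral.mul (isIntegral_of_isCharacter h y)
    apply IsIntegral.sum
    intro j _
    exact IsIntegral.pow hεint j
  · rw [Cfsg.Agent.Helper5.linChar_mul h h1, ← hk]
    have := geom_sum_mul ε k
    linear_combination (-(ψ y)) * this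

/-- Let χ be a generalized character of the finite group G, p a prime, x an element of order p and y an element commuting with x. Then χ(x * y) − χ(y) = (1 − ε) * ω for some algebraic integer ω, where ε = exp(2πi/p). -/
theorem result {G : Type*} [Group G] [Finite G] (χ : G → ℂ) (hχ : Cfsg.IsGeneralizedCharacter G χ) (p : ℕ) (hp : p.Prime) (x y : G) (hx : orderOf x = p) (hxy : x * y = y * x) : ∃ ω : ℂ, IsIntegral ℤ ω ∧ χ (x * y) - χ y = (1 - Complex.exp (2 * Real.pi * Complex.I / p)) * ω := by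
  classical
  set A := Subgroup.closure ({x, y} : Set G) with hA
  have hxA : x ∈ A := Subgroup.subset_closure (by simp)
  have hyA : y ∈ A := Subgroup.subset_closure (by simp)
  have hcommI : IsMulCommutative A := by
    apply Subgroup.isMulCommutative_closure
    intro a ha b hb
    simp only [Set.mem_insert_iff, Set.mem_singleton_iff] at ha hb
    rcases ha with rfl | rfl <;> rcases hb with rfl | rfl
    · rfl
    · exact hxy
    · exact hxy.symm
    · rfl
  have hcomm : ∀ a b : A, a * b = b * a := fun a b => mul_comm' a b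
  have : Fintype A := Fintype.ofFinite A
  have : Fintype (Cfsg.IrrCharacter A) := Fintype.ofFinite _
  have hres : Cfsg.IsGeneralizedCharacter A (fun a : A => χ a) :=
    IsGeneralizedCharacter.restrict hχ A
  obtain ⟨n, hn⟩ := IsGeneralizedCharacter.exists_int_coeff hres
  have hlin : ∀ ψ : Cfsg.IrrCharacter A, (ψ : A → ℂ) 1 = 1 := comm_iff_forall_irr_one.mp hcomm
  have hxp : (⟨x, hxA⟩ : A) ^ p = 1 := by
    apply Subtype.ext
    simp only [Subgroup.coe_pow, Subgroup.coe_one]
    rw [← hx]; exact pow_orderOf_eq_one x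
  have hkey : ∀ ψ : Cfsg.IrrCharacter A, ∃ ω : ℂ, IsIntegral ℤ ω ∧
      (ψ : A → ℂ) (⟨x, hxA⟩ * ⟨y, hyA⟩) - (ψ : A → ℂ) ⟨y, hyA⟩
        = (1 - Complex.exp (2 * Real.pi * Complex.I / p)) * ω := fun ψ =>
    key (IsIrrCharacter.isCharacter ψ.2) (hlin ψ) p hp _ _ hxp
  choose ω hω1 hω2 using hkey
  refine ⟨∑ ψ : Cfsg.IrrCharacter A, (n ψ : ℂ) * ω ψ, ?_, ?_⟩
  · apply IsIntegral.sum
    intro ψ _
    exact IsIntegral.mul isIntegral_algebraMap (hω1 ψ)
  · have h1 := congrFun hn (⟨x, hxA⟩ * ⟨y, hyA⟩)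
    have h2 := congrFun hn ⟨y, hyA⟩
    simp only [Finset.sum_apply, Pi.smul_apply, smul_eq_mul] at h1 h2
    have e1 : χ (x * y) = χ ((⟨x, hxA⟩ * ⟨y, hyA⟩ : A) : G) := rfl
    have e2 : χ y = χ ((⟨y, hyA⟩ : A) : G) := rfl
    rw [e1, e2, h1, h2, ← Finset.sum_sub_distrib, Finset.mul_sum]
    apply Finset.sum_congr rfl
    intro ψ _
    rw [← mul_sub, hω2 ψ]
    ring

end Cfsg.Agent.S1494
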