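import Cfsg.Statements.S1495
import Mathlib

set_option autoImplicit false
open Cfsg

namespace Cfsg.Agent.S1495

open Finset

/-- In a domain, for a primitive `p`-th root of unity `ζ` (`p` prime), `(1 - ζ)^(p-1) = p * T`
for some `T` in the ring. -/
theorem one_sub_pow_eq {A : Type*} [CommRing A] [IsDomain A] (p : ℕ) (hp : p.Prime) (ζ : A)
    (hζ : IsPrimitiveRoot ζ p) : ∃ T : A, (1 - ζ) ^ (p - 1) = (p : A) * T := by
  obtain ⟨m, rfl⟩ : ∃ m, p = m + 1 := ⟨p - 1, (Nat.succ_pred_eq_of_pos hp.pos).symm⟩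
  have hprod := hζ.prod_one_sub_pow_eq_order
  have hk : ∀ k ∈ range m, ∃ t : A, (1 - ζ) = (1 - ζ ^ (k + 1)) * t := by
    intro k hk
    rw [mem_range] at hk
    have hcop : (k + 1).Coprime (m + 1) := by
      apply Nat.Coprime.symm
      apply (Nat.Prime.coprime_iff_not_dvd hp).mpr
      intro hd
      have := Nat.le_of_dvd (Nat.succ_pos k) hd
      omega
    obtain ⟨u, hu⟩ := hζ.associated_sub_one_pow_sub_one_of_coprime hcop
    refine ⟨(u⁻¹ : Aˣ), ?_⟩
    have h2 : (1 - ζ ^ (k + 1)) = (1 - ζ) * u := by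
      have : (ζ ^ (k + 1) - 1) = (ζ - 1) * u := hu.symm
      calc (1 - ζ ^ (k + 1)) = -(ζ ^ (k + 1) - 1) := by ring
        _ = -((ζ - 1) * u) := by rw [this]
        _ = (1 - ζ) * u := by ring
    rw [h2, mul_assoc, Units.mul_inv, mul_one]
  choose! t ht using hk
  refine ⟨∏ k ∈ range m, t k, ?_⟩
  have : (1 - ζ) ^ (m + 1 - 1) = ∏ k ∈ range m, ((1 - ζ ^ (k + 1)) * t k) := by
    rw [Nat.add_sub_cancel]
    rw [← Finset.prod_congr rfl (fun k hk => ht k hk)]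
    simp
  rw [this, Finset.prod_mul_distrib, hprod]
  push_cast
  ring

theorem result (p : ℕ) (hp : p.Prime) (n : ℤ) (ω : ℂ) (hω : IsIntegral ℤ ω) (h : (n : ℂ) = (1 - Complex.exp (2 * Real.pi * Complex.I / p)) * ω) : (p : ℤ) ∣ n := by
  set ε : ℂ := Complex.exp (2 * Real.pi * Complex.I / p) with hε
  have hprim : IsPrimitiveRoot ε p := Complex.isPrimitiveRoot_exp p hp.ne_zero
  have hεint : IsIntegral ℤ ε := hprim.isIntegral hp.pos
  -- work in the integral closure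
  let A := integralClosure ℤ ℂ
  let ζ : A := ⟨ε, hεint⟩
  have hζ : IsPrimitiveRoot ζ p := by
    apply IsPrimitiveRoot.of_map_of_injective (f := (algebraMap A ℂ)) _
    · exact Subtype.val_injective
    · exact hprim
  obtain ⟨T, hT⟩ := one_sub_pow_eq p hp ζ hζ
  have hT' : (1 - ε) ^ (p - 1) = (p : ℂ) * (T : ℂ) := by
    have := congrArg (fun a : A => (a : ℂ)) hT
    simpa [ζ] using this
  -- n^(p-1) = p * (T * ω^(p-1))
  have hn : ((n : ℂ)) ^ (p - 1) = (p : ℂ) * ((T : ℂ) * ω ^ (p - 1)) := by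
    rw [h, mul_pow, hT']; ring
  have hint : IsIntegral ℤ ((T : ℂ) * ω ^ (p - 1)) := IsIntegral.mul T.2 (hω.pow _)
  have hp0 : (p : ℂ) ≠ 0 := Nat.cast_ne_zero.mpr hp.ne_zero
  set q : ℚ := (n : ℚ) ^ (p - 1) / p with hq
  have hqc : ((q : ℚ) : ℂ) = (T : ℂ) * ω ^ (p - 1) := by
    rw [hq]
    push_cast
    rw [hn]
    field_simp
  have hqint : IsIntegral ℤ q := by
    have : IsIntegral ℤ ((algebraMap ℚ ℂ) q) := by
      rw [show (algebraMap ℚ ℂ) q = ((q : ℚ) : ℂ) from rfl, hqc]; exact hint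
    exact (isIntegral_algebraMap_iff (algebraMap ℚ ℂ).injective).mp this
  obtain ⟨y, hy⟩ := IsIntegrallyClosed.isIntegral_iff.mp hqint
  have hy' : (n : ℚ) ^ (p - 1) = (p : ℚ) * (y : ℚ) := by
    have hp0' : (p : ℚ) ≠ 0 := Nat.cast_ne_zero.mpr hp.ne_zero
    have : (y : ℚ) = q := hy
    rw [this, hq]
    field_simp
  have hz : n ^ (p - 1) = (p : ℤ) * y := by
    exact_mod_cast hy'
  have hdvd : (p : ℤ) ∣ n ^ (p - 1) := ⟨y, hz⟩
  exact Int.Prime.dvd_pow' hp hdvd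

end Cfsg.Agent.S1495
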