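import Cfsg.Statements.S1496
import Cfsg.Agent.Lead.Coprime

set_option autoImplicit false
open Cfsg

namespace Cfsg.Agent.S1496

open Cfsg.Agent.Lead

/-- powers of `h * g` with `g` normalizing `H ∋ h`. -/
theorem pow_decomp {G : Type*} [Group G] (H : Subgroup G) (g : G)
    (hg : g ∈ Subgroup.normalizer (H : Set G)) (h : G) (hh : h ∈ H) (k : ℕ) :
    ∃ u ∈ H, (h * g) ^ k = u * g ^ k := by
  induction k with
  | zero => exact ⟨1, H.one_mem, by simp⟩
  | succ k ih =>
    obtain ⟨u, hu, huk⟩ := ih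
    have hgk : g ^ k ∈ Subgroup.normalizer (H : Set G) := Subgroup.pow_mem _ hg k
    have hc : g ^ k * h * (g ^ k)⁻¹ ∈ H := (Subgroup.mem_normalizer_iff.mp hgk h).mp hh
    refine ⟨u * (g ^ k * h * (g ^ k)⁻¹), H.mul_mem hu hc, ?_⟩
    rw [pow_succ, huk, pow_succ]
    group

theorem result {G : Type*} [Group G] [Finite G] (H : Subgroup G) (g : G) (hg : g ∈ Subgroup.normalizer (H : Set G)) (hcop : Nat.Coprime (orderOf g) (Nat.card H)) (h : G) (hh : h ∈ H) : ∃ x ∈ H, ∃ c ∈ H, c * g = g * c ∧ x * (h * g) * x⁻¹ = c * g := by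
  set A : Subgroup G := Subgroup.zpowers g with hA
  set n := orderOf g with hn
  set m := Nat.card H with hm
  have hn0 : 0 < n := orderOf_pos g
  have hAn : A ≤ Subgroup.normalizer (H : Set G) := by
    rw [hA, Subgroup.zpowers_le]; exact hg
  have hcardA : Nat.card A = n := Nat.card_zpowers g
  have hcopA : (Nat.card A).Coprime (Nat.card H) := by rw [hcardA]; exact hcop
  have hdisj : H ⊓ A = ⊥ := (Subgroup.disjoint_of_coprime_natCard hcopA.symm).eq_bot
  have hgpow : ∀ k : ℕ, g ^ k ∈ H → g ^ k = 1 := by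
    intro k hk
    have : g ^ k ∈ H ⊓ A := ⟨hk, Subgroup.pow_mem _ (Subgroup.mem_zpowers g) k⟩
    rwa [hdisj, Subgroup.mem_bot] at this
  -- m' with m * m' ≡ 1 mod n
  obtain ⟨m', hm'⟩ : ∃ m' : ℕ, m * m' ≡ 1 [MOD n] := by
    by_cases hn1 : n = 1
    · exact ⟨0, by rw [hn1]; exact Nat.modEq_one⟩
    · have hn2 : 1 < n := by omega
      obtain ⟨m', _, hm'⟩ := Nat.exists_mul_mod_eq_one_of_coprime hcop.symm hn2
      refine ⟨m', ?_⟩
      unfold Nat.ModEq
      rw [hm', Nat.mod_eq_of_lt hn2]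
  set e := m * m' with he
  set y := (h * g) ^ e with hy
  have hge : g ^ e = g := by
    have := (pow_eq_pow_iff_modEq (x := g) (n := e) (m := 1)).mpr hm'
    simpa using this
  obtain ⟨ue, hue, hye⟩ := pow_decomp H g hg h hh e
  rw [hge] at hye
  have hyg : y = ue * g := hye
  obtain ⟨un, hun, hyn⟩ := pow_decomp H g hg h hh n
  rw [pow_orderOf_eq_one, mul_one] at hyn
  have hnm : (h * g) ^ (n * m) = 1 := by
    rw [pow_mul, hyn]
    have := pow_card_eq_one' (G := H) (x := ⟨un, hun⟩)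
    exact congrArg Subtype.val this
  have hyn1 : y ^ n = 1 := by
    rw [hy, ← pow_mul, he]
    have : m * m' * n = (n * m) * m' := by ring
    rw [this, pow_mul, hnm, one_pow]
  have hyord : orderOf y = n := by
    apply Nat.dvd_antisymm (orderOf_dvd_of_pow_eq_one hyn1)
    have h1 : y ^ orderOf y = 1 := pow_orderOf_eq_one y
    obtain ⟨u', hu', hy'⟩ := pow_decomp H g hg ue hue (orderOf y)
    rw [← hyg, h1] at hy'
    have : g ^ orderOf y ∈ H := by
      have : g ^ orderOf y = u'⁻¹ := by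
        rw [eq_inv_iff_mul_eq_one, mul_eq_one_iff_eq_inv, ← mul_eq_one_iff_eq_inv']
        exact hy'.symm
      rw [this]; exact H.inv_mem hu'
    have := hgpow _ this
    exact orderOf_dvd_of_pow_eq_one this
  -- apply relative Schur–Zassenhaus conjugacy
  have hsolv : Group.IsSolvable A ∨ Group.IsSolvable H := by
    left
    apply Group.isSolvable_of_comm
    intro a b
    exact mul_comm' a b
  have hB : Subgroup.zpowers y ≤ H ⊔ A := by
    rw [Subgroup.zpowers_le, hyg]
    exact Subgroup.mul_mem _ (Subgroup.mem_sup_left hue) (Subgroup.mem_sup_right (Subgroup.mem_zpowers g))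
  have hBcard : Nat.card (Subgroup.zpowers y) = Nat.card A := by
    rw [Nat.card_zpowers, hcardA, hyord]
  obtain ⟨k, hk, hkA⟩ := sz_conj_rel hAn hcopA hsolv hB hBcard
  have hkg : k * g * k⁻¹ ∈ Subgroup.zpowers y := by
    rw [← hkA, mem_conj_smul_iff]
    have : k⁻¹ * (k * g * k⁻¹) * k = g := by group
    rw [this]; exact Subgroup.mem_zpowers g
  rw [← mem_powers_iff_mem_zpowers] at hkg
  obtain ⟨j, hj⟩ := hkg
  have hj : y ^ j = k * g * k⁻¹ := hj
  -- y ^ j = u_j g^j
  obtain ⟨uj, huj, hyj⟩ := pow_decomp H g hg ue hue j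
  rw [← hyg, hj] at hyj
  have hw : k * g * k⁻¹ * g⁻¹ ∈ H := by
    have : g * k⁻¹ * g⁻¹ ∈ H := (Subgroup.mem_normalizer_iff.mp hg k⁻¹).mp (H.inv_mem hk)
    have e1 : k * g * k⁻¹ * g⁻¹ = k * (g * k⁻¹ * g⁻¹) := by group
    rw [e1]; exact H.mul_mem hk this
  have hgj : g ^ j = g := by
    have h1 : g ^ (j + (n - 1)) ∈ H := by
      have e1 : g ^ (j + (n - 1)) = uj⁻¹ * (k * g * k⁻¹ * g⁻¹) := by
        have hgn : g ^ (n - 1) = g⁻¹ := by
          rw [eq_inv_iff_mul_eq_one, ← pow_succ, Nat.sub_add_cancel hn0]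
          exact pow_orderOf_eq_one g
        rw [pow_add, hgn, hyj]; group
      rw [e1]; exact H.mul_mem (H.inv_mem huj) hw
    have h2 := hgpow _ h1
    have h3 : g ^ (j + (n - 1)) * g = g ^ j := by
      rw [← pow_succ]
      have : j + (n - 1) + 1 = j + n := by omega
      rw [this, pow_add, pow_orderOf_eq_one, mul_one]
    rw [← h3, h2, one_mul]
  have hyjy : y ^ j = y := by
    have h1 : j ≡ 1 [MOD n] := by
      have := (pow_eq_pow_iff_modEq (x := g) (n := j) (m := 1)).mp (by simpa using hgj)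
      exact this
    have := (pow_eq_pow_iff_modEq (x := y) (n := j) (m := 1)).mpr (by rw [hyord]; exact h1)
    simpa using this
  have hky : k * g * k⁻¹ = y := by rw [← hj, hyjy]
  -- the commuting factor
  set c' := h * g * y⁻¹ with hc'
  have hc'H : c' ∈ H := by
    have : c' = h * ue⁻¹ := by rw [hc', hyg]; group
    rw [this]; exact H.mul_mem hh (H.inv_mem hue)
  have hcomm : Commute (h * g) y := (Commute.refl (h * g)).pow_right e
  have hc'y : c' * y = h * g := by rw [hc']; group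
  have hyc' : y * c' = h * g := by
    rw [hc', ← mul_assoc, ← hcomm.eq]; group
  refine ⟨k⁻¹, H.inv_mem hk, k⁻¹ * c' * k, H.mul_mem (H.mul_mem (H.inv_mem hk) hc'H) hk, ?_, ?_⟩
  · have hg' : g = k⁻¹ * y * k := by rw [← hky]; group
    calc k⁻¹ * c' * k * g = k⁻¹ * c' * k * (k⁻¹ * y * k) := by rw [← hg']
      _ = k⁻¹ * (c' * y) * k := by group
      _ = k⁻¹ * (y * c') * k := by rw [hc'y, hyc']
      _ = (k⁻¹ * y * k) * (k⁻¹ * c' * k) := by group
      _ = g * (k⁻¹ * c' * k) := by rw [← hg']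
  · have hg' : g = k⁻¹ * y * k := by rw [← hky]; group
    calc k⁻¹ * (h * g) * k⁻¹⁻¹ = k⁻¹ * (c' * y) * k := by rw [hc'y, inv_inv]
      _ = (k⁻¹ * c' * k) * (k⁻¹ * y * k) := by group
      _ = k⁻¹ * c' * k * g := by rw [← hg']

end Cfsg.Agent.S1496
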