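import Cfsg.Statements.S1497
import Mathlib

set_option autoImplicit false
open Cfsg

namespace Cfsg.Agent.S1497

theorem result {G : Type*} [Group G] [Finite G] (A : Set G) (hA : A.Nonempty) (h1 : (1 : G) ∉ A) (L : Subgroup G) : (Cfsg.IsTISubset A ∧ Subgroup.normalizer A = L) ↔ Cfsg.DadeHypothesis A L (fun _ => ⊥) := by
  constructor
  · rintro ⟨hTI, rfl⟩
    have hcent : ∀ a ∈ A, Subgroup.centralizer ({a} : Set G) ≤ Subgroup.normalizer A := by
      intro a ha c hc
      by_contra hcn
      have hca : c * a * c⁻¹ = a := by
        rw [Subgroup.mem_centralizer_singleton_iff] at hc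
        rw [hc, mul_inv_cancel_right]
      have := hTI c hcn a ha (by rw [hca]; exact ha)
      exact h1 (this ▸ ha)
    refine ⟨h1, ?_, ?_, ?_, ?_, ?_, ?_, ?_, ?_⟩
    · intro a ha
      apply hcent a ha
      rw [Subgroup.mem_centralizer_singleton_iff]
    · intro x hx a ha
      exact (Subgroup.mem_set_normalizer_iff.mp hx a).mp ha
    · intro a ha g hg
      by_cases hgn : g ∈ Subgroup.normalizer A
      · exact ⟨g, hgn, rfl⟩
      · exact absurd (hTI g hgn a ha hg ▸ ha) h1
    · intro a _; exact bot_le
    · intro a _ c _ u hu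
      rw [Subgroup.mem_bot] at hu ⊢
      rw [hu]; group
    · intro a _; exact bot_inf_eq _
    · intro a ha
      rw [bot_sup_eq]
      exact inf_eq_right.mpr (hcent a ha)
    · intro a _ b _
      simp
  · intro hD
    have hLN : L ≤ Subgroup.normalizer A := by
      intro x hx
      rw [Subgroup.mem_set_normalizer_iff]
      intro n
      constructor
      · intro hn; exact hD.conj_mem x hx n hn
      · intro hn
        have := hD.conj_mem x⁻¹ (L.inv_mem hx) _ hn
        simpa [mul_assoc] using this
    have hcent : ∀ a ∈ A, Subgroup.centralizer ({a} : Set G) ≤ L := by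
      intro a ha
      have := hD.sup_eq a ha
      simp only [bot_sup_eq] at this
      rw [← this]
      exact inf_le_left
    have key : ∀ g : G, ∀ a ∈ A, g * a * g⁻¹ ∈ A → g ∈ L := by
      intro g a ha hga
      obtain ⟨y, hy, hyg⟩ := hD.fusion a ha g hga
      have hc : y⁻¹ * g ∈ Subgroup.centralizer ({a} : Set G) := by
        rw [Subgroup.mem_centralizer_singleton_iff]
        have : y⁻¹ * (g * a * g⁻¹) * y = a := by
          rw [← hyg]; group
        symm
        calc a * (y⁻¹ * g) = (y⁻¹ * (g * a * g⁻¹) * y) * (y⁻¹ * g) := by rw [this]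
          _ = y⁻¹ * g * a := by group
      have := L.mul_mem hy (hcent a ha hc)
      simpa using this
    constructor
    · intro g hg x hx hgx
      exact absurd (hLN (key g x hx hgx)) hg
    · apply le_antisymm
      · intro g hg
        obtain ⟨a, ha⟩ := hA
        exact key g a ha ((Subgroup.mem_set_normalizer_iff.mp hg a).mp ha)
      · exact hLN

end Cfsg.Agent.S1497
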