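import Cfsg.Statements.S1498
import Cfsg.Agent.Helper8.Basic

set_option autoImplicit false
open Cfsg

namespace Cfsg.Agent.S1498

open Cfsg.Agent.Helper8

theorem centralizer_le_normalizer {G : Type*} [Group G] (A : Set G) (L : Subgroup G) (H : G → Subgroup G)
    (hD : Cfsg.DadeHypothesis A L H) (a : G) (ha : a ∈ A) :
    Subgroup.centralizer ({a} : Set G) ≤ Subgroup.normalizer (H a : Set G) := by
  intro c hc
  rw [Subgroup.mem_normalizer_iff]
  intro u
  constructor
  · intro hu; exact hD.conj_mem_H a ha c hc u hu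
  · intro hu
    have := hD.conj_mem_H a ha c⁻¹ (Subgroup.inv_mem _ hc) _ hu
    simpa [mul_assoc] using this

theorem half {G : Type*} [Group G] [Finite G] (A : Set G) (L : Subgroup G) (H : G → Subgroup G)
    (hD : Cfsg.DadeHypothesis A L H) (a : G) (ha : a ∈ A) (x : G) (hx : x ∈ L) :
    (H a).map (MulAut.conj x).toMonoidHom ≤ H (x * a * x⁻¹) := by
  have ha' : x * a * x⁻¹ ∈ A := hD.conj_mem x hx a ha
  apply le_of_coprime_relIndex (C := Subgroup.centralizer ({x * a * x⁻¹} : Set G))
  · rintro _ ⟨u, hu, rfl⟩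
    have huc := hD.le_centralizer a ha hu
    rw [Subgroup.mem_centralizer_singleton_iff] at huc ⊢
    simp only [MulEquiv.coe_toMonoidHom, MulAut.conj_apply]
    calc x * u * x⁻¹ * (x * a * x⁻¹) = x * (u * a) * x⁻¹ := by group
      _ = x * (a * u) * x⁻¹ := by rw [huc]
      _ = x * a * x⁻¹ * (x * u * x⁻¹) := by group
  · exact centralizer_le_normalizer A L H hD _ ha'
  · rw [relIndex_eq_card_of_compl (centralizer_le_normalizer A L H hD _ ha')
      (hD.inf_eq_bot _ ha') (hD.sup_eq _ ha')]
    have hc : Nat.card ((H a).map (MulAut.conj x).toMonoidHom) = Nat.card (H a) :=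
      Subgroup.card_map_of_injective (MulAut.conj x).injective
    rw [hc]
    exact hD.coprime a ha _ ha'

theorem result {G : Type*} [Group G] [Finite G] (A : Set G) (L : Subgroup G) (H : G → Subgroup G) (hD : Cfsg.DadeHypothesis A L H) (a : G) (ha : a ∈ A) (x : G) (hx : x ∈ L) : H (x * a * x⁻¹) = (H a).map (MulAut.conj x).toMonoidHom := by
  apply le_antisymm
  · have ha' : x * a * x⁻¹ ∈ A := hD.conj_mem x hx a ha
    have h := half A L H hD _ ha' x⁻¹ (L.inv_mem hx)
    have e : x⁻¹ * (x * a * x⁻¹) * x⁻¹⁻¹ = a := by group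
    rw [e] at h
    intro u hu
    refine ⟨x⁻¹ * u * x, ?_, ?_⟩
    · apply h
      exact ⟨u, hu, by simp⟩
    · simp [MulAut.conj_apply, mul_assoc]
  · exact half A L H hD a ha x hx

end Cfsg.Agent.S1498
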