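import Cfsg.Statements.S1499
import Mathlib

set_option autoImplicit false
open Cfsg

namespace Cfsg.Agent.S1499

/-- the exponent `j` which kills `H a`, `H b` parts and fixes `a`, `b`. -/
theorem exists_exponent {G : Type*} [Group G] [Finite G] (A : Set G) (L : Subgroup G) (H : G → Subgroup G)
    (hD : Cfsg.DadeHypothesis A L H) (a b : G) (ha : a ∈ A) (hb : b ∈ A) :
    ∃ j : ℕ, (∀ u ∈ H a, (a * u) ^ j = a) ∧ (∀ v ∈ H b, (b * v) ^ j = b) := by
  set Ca := Nat.card ↥(L ⊓ Subgroup.centralizer ({a} : Set G)) with hCa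
  set Cb := Nat.card ↥(L ⊓ Subgroup.centralizer ({b} : Set G)) with hCb
  set M₁ := Ca * Cb with hM₁
  set M₂ := Nat.card (H a) * Nat.card (H b) with hM₂
  have hcop : Nat.Coprime M₂ M₁ := by
    apply Nat.Coprime.mul_left <;> apply Nat.Coprime.mul_right
    · exact hD.coprime a ha a ha
    · exact hD.coprime a ha b hb
    · exact hD.coprime b hb a ha
    · exact hD.coprime b hb b hb
  have hM₁pos : 0 < M₁ := Nat.mul_pos Nat.card_pos Nat.card_pos
  obtain ⟨N', hN'⟩ : ∃ N' : ℕ, M₂ * N' ≡ 1 [MOD M₁] := by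
    by_cases h1 : M₁ = 1
    · exact ⟨0, by rw [h1]; exact Nat.modEq_one⟩
    · have h2 : 1 < M₁ := by omega
      obtain ⟨m', _, hm'⟩ := Nat.exists_mul_mod_eq_one_of_coprime hcop h2
      refine ⟨m', ?_⟩
      unfold Nat.ModEq
      rw [hm', Nat.mod_eq_of_lt h2]
  have haC : a ^ Ca = 1 := by
    have hmem : a ∈ L ⊓ Subgroup.centralizer ({a} : Set G) :=
      ⟨hD.subset ha, Subgroup.mem_centralizer_singleton_iff.mpr rfl⟩
    have := pow_card_eq_one' (G := ↥(L ⊓ Subgroup.centralizer ({a} : Set G))) (x := ⟨a, hmem⟩)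
    exact congrArg Subtype.val this
  have hbC : b ^ Cb = 1 := by
    have hmem : b ∈ L ⊓ Subgroup.centralizer ({b} : Set G) :=
      ⟨hD.subset hb, Subgroup.mem_centralizer_singleton_iff.mpr rfl⟩
    have := pow_card_eq_one' (G := ↥(L ⊓ Subgroup.centralizer ({b} : Set G))) (x := ⟨b, hmem⟩)
    exact congrArg Subtype.val this
  have haj : a ^ (M₂ * N') = a := by
    have hord : orderOf a ∣ M₁ := by
      apply orderOf_dvd_of_pow_eq_one
      rw [hM₁, pow_mul, haC, one_pow]
    have h1 : M₂ * N' ≡ 1 [MOD orderOf a] := hN'.of_dvd hord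
    have := (pow_eq_pow_iff_modEq (x := a) (n := M₂ * N') (m := 1)).mpr h1
    simpa using this
  have hbj : b ^ (M₂ * N') = b := by
    have hord : orderOf b ∣ M₁ := by
      apply orderOf_dvd_of_pow_eq_one
      rw [hM₁, mul_comm, pow_mul, hbC, one_pow]
    have h1 : M₂ * N' ≡ 1 [MOD orderOf b] := hN'.of_dvd hord
    have := (pow_eq_pow_iff_modEq (x := b) (n := M₂ * N') (m := 1)).mpr h1
    simpa using this
  refine ⟨M₂ * N', ?_, ?_⟩
  · intro u hu
    have hcomm : Commute a u := by
      have := hD.le_centralizer a ha hu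
      rw [Subgroup.mem_centralizer_singleton_iff] at this
      exact this.symm
    have huj : u ^ (M₂ * N') = 1 := by
      have h1 : u ^ Nat.card (H a) = 1 := by
        have := pow_card_eq_one' (G := H a) (x := ⟨u, hu⟩)
        exact congrArg Subtype.val this
      rw [hM₂, mul_assoc, pow_mul, h1, one_pow]
    rw [hcomm.mul_pow, haj, huj, mul_one]
  · intro v hv
    have hcomm : Commute b v := by
      have := hD.le_centralizer b hb hv
      rw [Subgroup.mem_centralizer_singleton_iff] at this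
      exact this.symm
    have hvj : v ^ (M₂ * N') = 1 := by
      have h1 : v ^ Nat.card (H b) = 1 := by
        have := pow_card_eq_one' (G := H b) (x := ⟨v, hv⟩)
        exact congrArg Subtype.val this
      rw [hM₂, mul_comm (Nat.card (H a)), mul_assoc, pow_mul, h1, one_pow]
    rw [hcomm.mul_pow, hbj, hvj, mul_one]

theorem result {G : Type*} [Group G] [Finite G] (A : Set G) (L : Subgroup G) (H : G → Subgroup G) (hD : Cfsg.DadeHypothesis A L H) (a b : G) (ha : a ∈ A) (hb : b ∈ A) : ((∃ u ∈ H a, ∃ v ∈ H b, ∃ g : G, g * (a * u) * g⁻¹ = b * v) → ∃ x ∈ L, x * a * x⁻¹ = b) ∧ Subgroup.normalizer ((fun u : G => a * u) '' (H a : Set G)) = Subgroup.centralizer ({a} : Set G) := by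
  constructor
  · rintro ⟨u, hu, v, hv, g, hg⟩
    obtain ⟨j, hj1, hj2⟩ := exists_exponent A L H hD a b ha hb
    have hgab : g * a * g⁻¹ = b := by
      have h1 : (g * (a * u) * g⁻¹) ^ j = g * (a * u) ^ j * g⁻¹ := conj_pow
      rw [hg, hj2 v hv, hj1 u hu] at h1
      exact h1.symm
    obtain ⟨x, hx, hxa⟩ := hD.fusion a ha g (by rw [hgab]; exact hb)
    exact ⟨x, hx, by rw [hxa, hgab]⟩
  · apply le_antisymm
    · intro g hg
      rw [Subgroup.mem_set_normalizer_iff] at hg
      have h1 : a ∈ (fun u : G => a * u) '' (H a : Set G) := ⟨1, (H a).one_mem, mul_one a⟩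
      obtain ⟨v, hv, hav⟩ := (hg a).mp h1
      obtain ⟨j, hj1, _⟩ := exists_exponent A L H hD a a ha ha
      have h2 : (g * a * g⁻¹) ^ j = g * a ^ j * g⁻¹ := conj_pow
      have h3 : a ^ j = a := by simpa using hj1 1 (H a).one_mem
      have hav' : a * v = g * a * g⁻¹ := hav
      rw [← hav', hj1 v hv, h3] at h2
      rw [Subgroup.mem_centralizer_singleton_iff]
      calc g * a = (g * a * g⁻¹) * g := by group
        _ = a * g := by rw [← h2]
    · intro c hc
      have key : ∀ c ∈ Subgroup.centralizer ({a} : Set G), ∀ n ∈ (fun u : G => a * u) '' (H a : Set G),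
          c * n * c⁻¹ ∈ (fun u : G => a * u) '' (H a : Set G) := by
        rintro c hc _ ⟨u, hu, rfl⟩
        refine ⟨c * u * c⁻¹, hD.conj_mem_H a ha c hc u hu, ?_⟩
        rw [Subgroup.mem_centralizer_singleton_iff] at hc
        simp only
        calc a * (c * u * c⁻¹) = (a * c) * u * c⁻¹ := by group
          _ = (c * a) * u * c⁻¹ := by rw [hc]
          _ = c * (a * u) * c⁻¹ := by group
      rw [Subgroup.mem_set_normalizer_iff]
      intro n
      constructor
      · exact key c hc n
      · intro hn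
        have := key c⁻¹ (Subgroup.inv_mem _ hc) _ hn
        simpa [mul_assoc] using this

end Cfsg.Agent.S1499
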