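import Cfsg.Statements.S1504
import Cfsg.Agent.Helper8.CyclicTI

set_option autoImplicit false
open Cfsg

namespace Cfsg.Agent.S1504

open scoped ComplexConjugate
open Cfsg.Agent.Helper8 Cfsg.Agent.Helper23

/-- a linear character as a complex function -/
noncomputable def lc {W : Type*} [Group W] (ω : W →* ℂˣ) : W → ℂ := fun w => ((ω w : ℂˣ) : ℂ)

theorem lc_orth {W : Type*} [Group W] [Fintype W] (ω ω' : W →* ℂˣ) (h : ω ≠ ω') :
    Cfsg.classInner (lc ω) (lc ω') = 0 := by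
  have := classInner_hom_units ω ω'
  rw [if_neg h] at this
  exact this

theorem lc_self {W : Type*} [Group W] [Fintype W] (ω : W →* ℂˣ) :
    Cfsg.classInner (lc ω) (lc ω) = 1 := by
  have := classInner_hom_units ω ω
  rw [if_pos rfl] at this
  exact this

theorem alpha_eq {W : Type*} [Group W] (φ ψ : W →* ℂˣ) :
    (fun w => 1 - ((φ w : ℂˣ) : ℂ) - ((ψ w : ℂˣ) : ℂ) + ((φ w : ℂˣ) : ℂ) * ((ψ w : ℂˣ) : ℂ))
      = lc 1 - lc φ - lc ψ + lc (φ * ψ) := by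
  funext w
  simp [lc]

/-- the inner product of `(1 - φ)(1 - ψ)` with the linear character `φ' ψ'` -/
theorem inner_alpha_lc {G : Type*} [Group G] (W₁ W₂ : Subgroup G) [Fintype ↥(W₁ ⊔ W₂)]
    (φ φ' ψ ψ' : ↥(W₁ ⊔ W₂) →* ℂˣ)
    (hφ' : φ' ≠ 1) (hψ' : ψ' ≠ 1)
    (hφ₂ : ∀ w : ↥(W₁ ⊔ W₂), (w : G) ∈ W₂ → φ w = 1 ∧ φ' w = 1)
    (hψ₁ : ∀ w : ↥(W₁ ⊔ W₂), (w : G) ∈ W₁ → ψ w = 1 ∧ ψ' w = 1) :
    Cfsg.classInner (lc 1 - lc φ - lc ψ + lc (φ * ψ)) (lc (φ' * ψ'))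
      = if (φ = φ' ∧ ψ = ψ') then 1 else 0 := by
  classical
  have triv : ∀ ω : ↥(W₁ ⊔ W₂) →* ℂˣ, (∀ w : ↥(W₁ ⊔ W₂), (w : G) ∈ W₁ → ω w = 1) →
      (∀ w : ↥(W₁ ⊔ W₂), (w : G) ∈ W₂ → ω w = 1) → ω = 1 :=
    fun ω h1 h2 => hom_eq_one_of_trivial W₁ W₂ ω h1 h2
  have e3 : (1 : ↥(W₁ ⊔ W₂) →* ℂˣ) ≠ φ' * ψ' := by
    intro h
    apply hφ'
    apply triv _ _ (fun w hw => (hφ₂ w hw).2)
    intro w hw
    have := DFunLike.congr_fun h w
    simp only [MonoidHom.one_apply, MonoidHom.mul_apply, (hψ₁ w hw).2, mul_one] at this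
    exact this.symm
  have e5 : φ ≠ φ' * ψ' := by
    intro h
    apply hψ'
    apply triv _ (fun w hw => (hψ₁ w hw).2)
    intro w hw
    have := DFunLike.congr_fun h w
    simp only [MonoidHom.mul_apply, (hφ₂ w hw).1, (hφ₂ w hw).2, one_mul] at this
    exact this.symm
  have e6 : ψ ≠ φ' * ψ' := by
    intro h
    apply hφ'
    apply triv _ _ (fun w hw => (hφ₂ w hw).2)
    intro w hw
    have := DFunLike.congr_fun h w
    simp only [MonoidHom.mul_apply, (hψ₁ w hw).1, (hψ₁ w hw).2, mul_one] at this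
    exact this.symm
  have e9 : φ * ψ = φ' * ψ' ↔ (φ = φ' ∧ ψ = ψ') := by
    constructor
    · intro h
      have h1 : φ * φ'⁻¹ = 1 := by
        apply triv _ _ (fun w hw => by
          simp only [MonoidHom.mul_apply, MonoidHom.inv_apply, (hφ₂ w hw).1, (hφ₂ w hw).2, inv_one,
            mul_one])
        intro w hw
        have := DFunLike.congr_fun h w
        simp only [MonoidHom.mul_apply, (hψ₁ w hw).1, (hψ₁ w hw).2, mul_one] at this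
        simp only [MonoidHom.mul_apply, MonoidHom.inv_apply, this, mul_inv_cancel]
      have h2 : φ = φ' := by
        apply MonoidHom.ext
        intro w
        have := DFunLike.congr_fun h1 w
        simp only [MonoidHom.mul_apply, MonoidHom.inv_apply, MonoidHom.one_apply] at this
        exact mul_inv_eq_one.mp this
      subst h2
      exact ⟨rfl, mul_left_cancel h⟩
    · rintro ⟨rfl, rfl⟩; rfl
  simp only [classInner_add_left, classInner_sub_left]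
  rw [lc_orth 1 _ e3, lc_orth φ _ e5, lc_orth ψ _ e6]
  have hif : Cfsg.classInner (lc (φ * ψ)) (lc (φ' * ψ'))
      = if φ * ψ = φ' * ψ' then 1 else 0 := by
    have := classInner_hom_units (φ * ψ) (φ' * ψ')
    unfold lc
    convert this
  rw [hif]
  by_cases h : φ = φ' ∧ ψ = ψ'
  · rw [if_pos h, if_pos (e9.mpr h)]; ring
  · rw [if_neg h, if_neg (fun h' => h (e9.mp h'))]; ring

/-- Let W₁, W₂ be subgroups of a finite group with W₁ ⊓ W₂ = ⊥ whose elements commute, and W = W₁ ⊔ W₂. For linear characters φ, ψ of W with φ trivial on W₂ and ψ trivial on W₁, the function (1 − φ)(1 − ψ) vanishes on W₁ ∪ W₂; and the family of these functions, indexed by pairs (φ, ψ) with φ ≠ 1 ≠ ψ, is linearly independent over ℂ. -/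
theorem result {G : Type*} [Group G] [Finite G] (W₁ W₂ : Subgroup G) (hdisj : W₁ ⊓ W₂ = ⊥) (hcomm : ∀ a ∈ W₁, ∀ b ∈ W₂, a * b = b * a) : (∀ φ ψ : ↥(W₁ ⊔ W₂) →* ℂˣ, (∀ w : ↥(W₁ ⊔ W₂), (w : G) ∈ W₂ → φ w = 1) → (∀ w : ↥(W₁ ⊔ W₂), (w : G) ∈ W₁ → ψ w = 1) → ∀ w : ↥(W₁ ⊔ W₂), ((w : G) ∈ W₁ ∨ (w : G) ∈ W₂) → (1 - (φ w : ℂ) - (ψ w : ℂ) + (φ w : ℂ) * (ψ w : ℂ)) = 0) ∧ LinearIndependent ℂ (fun p : {p : (↥(W₁ ⊔ W₂) →* ℂˣ) × (↥(W₁ ⊔ W₂) →* ℂˣ) // p.1 ≠ 1 ∧ p.2 ≠ 1 ∧ (∀ w : ↥(W₁ ⊔ W₂), (w : G) ∈ W₂ → p.1 w = 1) ∧ (∀ w : ↥(W₁ ⊔ W₂), (w : G) ∈ W₁ → p.2 w = 1)} => fun w : ↥(W₁ ⊔ W₂) => 1 - (p.1.1 w : ℂ) - (p.1.2 w : ℂ) + (p.1.1 w : ℂ) * (p.1.2 w : ℂ)) := by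
  classical
  constructor
  · intro φ ψ h2 h1 w hw
    rcases hw with hw | hw
    · simp only [h1 w hw, Units.val_one]; ring
    · simp only [h2 w hw, Units.val_one]; ring
  · have : Fintype ↥(W₁ ⊔ W₂) := Fintype.ofFinite _
    rw [linearIndependent_iff']
    intro s c hsum p' hp'
    have h1 := congrArg (fun f => Cfsg.classInner f (lc (p'.1.1 * p'.1.2))) hsum
    simp only [classInner_sum_left, classInner_smul_left, classInner_zero_left] at h1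
    have h2 : ∀ p ∈ s, c p * Cfsg.classInner (fun w : ↥(W₁ ⊔ W₂) => 1 - ((p.1.1 w : ℂˣ) : ℂ)
        - ((p.1.2 w : ℂˣ) : ℂ) + ((p.1.1 w : ℂˣ) : ℂ) * ((p.1.2 w : ℂˣ) : ℂ)) (lc (p'.1.1 * p'.1.2))
        = if p = p' then c p else 0 := by
      intro p _
      rw [alpha_eq, inner_alpha_lc W₁ W₂ p.1.1 p'.1.1 p.1.2 p'.1.2 p'.2.1 p'.2.2.1
        (fun w hw => ⟨p.2.2.2.1 w hw, p'.2.2.2.1 w hw⟩)
        (fun w hw => ⟨p.2.2.2.2 w hw, p'.2.2.2.2 w hw⟩)]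
      by_cases h : p = p'
      · subst h; simp
      · rw [if_neg h, if_neg, mul_zero]
        rintro ⟨h3, h4⟩
        exact h (Subtype.ext (Prod.ext h3 h4))
    rw [Finset.sum_congr rfl h2, Finset.sum_ite_eq' s p', if_pos hp'] at h1
    exact h1

end Cfsg.Agent.S1504
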