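import Cfsg.Statements.S1506
import Cfsg.Agent.Helper8.Ind

set_option autoImplicit false
open Cfsg

namespace Cfsg.Agent.S1506

open scoped ComplexConjugate
open Cfsg.Agent.Helper8

/-- A class function vanishing on `W ∖ (W₁ ∪ W₂)` is orthogonal to the function induced from a
function on `W` vanishing on `W₁ ∪ W₂`. -/
theorem classInner_indFun_eq_zero {G : Type*} [Group G] [Fintype G] (W₁ W₂ : Subgroup G)
    (θ : G → ℂ) (hθ : Cfsg.IsClassFunction G θ)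
    (hθV : ∀ w : ↥(W₁ ⊔ W₂), (w : G) ∉ W₁ → (w : G) ∉ W₂ → θ w = 0)
    (α : ↥(W₁ ⊔ W₂) → ℂ) (hα : ∀ w : ↥(W₁ ⊔ W₂), ((w : G) ∈ W₁ ∨ (w : G) ∈ W₂) → α w = 0) :
    Cfsg.classInner θ (Cfsg.indFun (W₁ ⊔ W₂) α) = 0 := by
  have : Fintype ↥(W₁ ⊔ W₂) := Fintype.ofFinite _
  rw [classInner_conj_symm, frobenius_reciprocity _ α θ hθ]
  unfold Cfsg.classInner
  rw [Finset.sum_eq_zero, mul_zero, map_zero]
  intro w _
  by_cases h : (w : G) ∈ W₁ ∨ (w : G) ∈ W₂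
  · rw [hα w h, zero_mul]
  · have h' : (w : G) ∉ W₁ ∧ (w : G) ∉ W₂ := ⟨fun h1 => h (Or.inl h1), fun h2 => h (Or.inr h2)⟩
    have : θ (w : G) = 0 := hθV w h'.1 h'.2
    simp only [this, map_zero, mul_zero]

/-- The additivity relation `a(φψ) = a(φ) + a(ψ) - a(1)`. -/
theorem key {G : Type*} [Group G] [Fintype G] (W₁ W₂ : Subgroup G)
    (χ : (↥(W₁ ⊔ W₂) →* ℂˣ) → (G → ℂ)) (hχ : Cfsg.IsCyclicTIFamily W₁ W₂ χ) (θ : G → ℂ)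
    (hθ : Cfsg.IsClassFunction G θ)
    (hθV : ∀ w : ↥(W₁ ⊔ W₂), (w : G) ∉ W₁ → (w : G) ∉ W₂ → θ w = 0)
    (φ ψ : ↥(W₁ ⊔ W₂) →* ℂˣ) (hφ₂ : ∀ w : ↥(W₁ ⊔ W₂), (w : G) ∈ W₂ → φ w = 1)
    (hψ₁ : ∀ w : ↥(W₁ ⊔ W₂), (w : G) ∈ W₁ → ψ w = 1) :
    Cfsg.classInner θ (χ (φ * ψ)) =
      Cfsg.classInner θ (χ φ) + Cfsg.classInner θ (χ ψ) - Cfsg.classInner θ (χ 1) := by
  by_cases h1 : φ = 1
  · subst h1
    have e : (1 : ↥(W₁ ⊔ W₂) →* ℂˣ) * ψ = ψ := one_mul ψ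
    rw [e]; ring
  by_cases h2 : ψ = 1
  · subst h2
    have e : φ * (1 : ↥(W₁ ⊔ W₂) →* ℂˣ) = φ := mul_one φ
    rw [e]; ring
  have h3 := hχ.induced_eq φ ψ h1 h2 hφ₂ hψ₁
  have h4 : (fun g => 1 - χ φ g - χ ψ g + χ (φ * ψ) g) = χ 1 - χ φ - χ ψ + χ (φ * ψ) := by
    funext g
    simp [hχ.map_one]
  rw [h4] at h3
  have h5 := classInner_indFun_eq_zero W₁ W₂ θ hθ hθV
    (fun w => 1 - (φ w : ℂ) - (ψ w : ℂ) + (φ w : ℂ) * (ψ w : ℂ)) (by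
      rintro w (hw | hw)
      · simp only [hψ₁ w hw, Units.val_one]; ring
      · simp only [hφ₂ w hw, Units.val_one]; ring)
  rw [h3, classInner_add_right, classInner_sub_right, classInner_sub_right] at h5
  linear_combination h5

/-- Let W₁, W₂ ≤ G form a self-normalising cyclic subgroup W = W₁ ⊔ W₂ and χ an orthonormal family of irreducible characters of G up to sign, indexed by the linear characters ω of W, with χ_1 = 1, χ_ω = ω on W outside W₁ ∪ W₂, and the induction identity for (1 − φ)(1 − ψ). Let θ be a class function of G vanishing at every element of W outside W₁ ∪ W₂. For linear characters φ, φ' of W trivial on W₂ and ψ, ψ' trivial on W₁, the inner products a(ω) = ⟨θ, χ ω⟩ satisfy a(φψ) + a(φ'ψ') = a(φψ') + a(φ'ψ). -/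
theorem result {G : Type*} [Group G] [Fintype G] (W₁ W₂ : Subgroup G) (hW : Cfsg.IsSelfNormalizingCyclic W₁ W₂) (χ : (↥(W₁ ⊔ W₂) →* ℂˣ) → (G → ℂ)) (hχ : Cfsg.IsCyclicTIFamily W₁ W₂ χ) (θ : G → ℂ) (hθ : Cfsg.IsClassFunction G θ) (hθV : ∀ w : ↥(W₁ ⊔ W₂), (w : G) ∉ W₁ → (w : G) ∉ W₂ → θ w = 0) (φ φ' ψ ψ' : ↥(W₁ ⊔ W₂) →* ℂˣ) (hφ₂ : ∀ w : ↥(W₁ ⊔ W₂), (w : G) ∈ W₂ → φ w = 1 ∧ φ' w = 1) (hψ₁ : ∀ w : ↥(W₁ ⊔ W₂), (w : G) ∈ W₁ → ψ w = 1 ∧ ψ' w = 1) : Cfsg.classInner θ (χ (φ * ψ)) + Cfsg.classInner θ (χ (φ' * ψ')) = Cfsg.classInner θ (χ (φ * ψ')) + Cfsg.classInner θ (χ (φ' * ψ)) := by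
  rw [key W₁ W₂ χ hχ θ hθ hθV φ ψ (fun w hw => (hφ₂ w hw).1) (fun w hw => (hψ₁ w hw).1),
    key W₁ W₂ χ hχ θ hθ hθV φ' ψ' (fun w hw => (hφ₂ w hw).2) (fun w hw => (hψ₁ w hw).2),
    key W₁ W₂ χ hχ θ hθ hθV φ ψ' (fun w hw => (hφ₂ w hw).1) (fun w hw => (hψ₁ w hw).2),
    key W₁ W₂ χ hχ θ hθ hθV φ' ψ (fun w hw => (hφ₂ w hw).2) (fun w hw => (hψ₁ w hw).1)]
  ring

end Cfsg.Agent.S1506
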