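import Cfsg.Statements.S1507
import Cfsg.Agent.S1506
import Cfsg.Agent.Helper8.ArrayLemma
import Cfsg.Agent.Helper8.DualSplit

set_option autoImplicit false
open Cfsg

namespace Cfsg.Agent.S1507

open Classical in
/-- Let W₁, W₂ ≤ G form a self-normalising cyclic subgroup W = W₁ ⊔ W₂ of odd order with Nat.card W₁ < Nat.card W₂, and χ an orthonormal family of irreducible characters of G up to sign, indexed by the linear characters ω of W, with χ_1 = 1, χ_ω = ω on W outside W₁ ∪ W₂, and the induction identity for (1 − φ)(1 − ψ). Let θ be a class function of G vanishing on W outside W₁ ∪ W₂, and suppose fewer than 2 · Nat.card W₁ linear characters ω of W have ⟨θ, χ ω⟩ ≠ 0. Then one of: all ⟨θ, χ ω⟩ vanish; or there are ψ₀ and a with ⟨θ, χ ω⟩ = a when ω ψ₀⁻¹ is trivial on W₂ and 0 otherwise; or there are φ₀ and a with ⟨θ, χ ω⟩ = a when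 ω φ₀⁻¹ is trivial on W₁ and 0 otherwise. -/
theorem result {G : Type*} [Group G] [Fintype G] (W₁ W₂ : Subgroup G) (hW : Cfsg.IsSelfNormalizingCyclic W₁ W₂) (hodd : Odd (Nat.card ↥(W₁ ⊔ W₂))) (χ : (↥(W₁ ⊔ W₂) →* ℂˣ) → (G → ℂ)) (hχ : Cfsg.IsCyclicTIFamily W₁ W₂ χ) (hlt : Nat.card W₁ < Nat.card W₂) (θ : G → ℂ) (hθ : Cfsg.IsClassFunction G θ) (hθV : ∀ w : ↥(W₁ ⊔ W₂), (w : G) ∉ W₁ → (w : G) ∉ W₂ → θ w = 0) (hfew : Nat.card {ω : ↥(W₁ ⊔ W₂) →* ℂˣ // Cfsg.classInner θ (χ ω) ≠ 0} < 2 * Nat.card W₁) : (∀ ω, Cfsg.classInner θ (χ ω) = 0) ∨ (∃ (ψ₀ : ↥(W₁ ⊔ W₂) →* ℂˣ) (a : ℂ), ∀ ω, Cfsg.classInner θ (χ ω) = if (∀ w : ↥(W₁ ⊔ W₂), (w : G) ∈ W₂ → (ω * ψ₀⁻¹) w = 1) then a else 0) ∨ (∃ (φ₀ : ↥(W₁ ⊔ W₂) →* ℂˣ) (a : ℂ), ∀ ω, Cfsg.classInner θ (χ ω) = if (∀ w : ↥(W₁ ⊔ W₂), (w : G) ∈ W₁ → (ω * φ₀⁻¹) w = 1) then a else 0) := by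
  classical
  have hfinW : Finite (↥(W₁ ⊔ W₂) →* ℂˣ) :=
    Cfsg.Agent.Helper8.finite_hom_units (Cfsg.Agent.Helper8.snc_comm hW)
  have hfI : Fintype {φ : ↥(W₁ ⊔ W₂) →* ℂˣ // ∀ w : ↥(W₁ ⊔ W₂), (w : G) ∈ W₂ → φ w = 1} :=
    Fintype.ofFinite _
  have hfJ : Fintype {ψ : ↥(W₁ ⊔ W₂) →* ℂˣ // ∀ w : ↥(W₁ ⊔ W₂), (w : G) ∈ W₁ → ψ w = 1} :=
    Fintype.ofFinite _
  have hbij := Cfsg.Agent.Helper8.snc_dual_mul_bijective hW
  have hcardI : Fintype.card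
      {φ : ↥(W₁ ⊔ W₂) →* ℂˣ // ∀ w : ↥(W₁ ⊔ W₂), (w : G) ∈ W₂ → φ w = 1} = Nat.card W₁ := by
    rw [← Nat.card_eq_fintype_card]
    exact Cfsg.Agent.Helper8.snc_card_annihilator₂ hW
  have hcardJ : Fintype.card
      {ψ : ↥(W₁ ⊔ W₂) →* ℂˣ // ∀ w : ↥(W₁ ⊔ W₂), (w : G) ∈ W₁ → ψ w = 1} = Nat.card W₂ := by
    rw [← Nat.card_eq_fintype_card]
    exact Cfsg.Agent.Helper8.snc_card_annihilator₁ hW
  have hkey : ∀ (φ : {φ : ↥(W₁ ⊔ W₂) →* ℂˣ // ∀ w : ↥(W₁ ⊔ W₂), (w : G) ∈ W₂ → φ w = 1})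
      (ψ : {ψ : ↥(W₁ ⊔ W₂) →* ℂˣ // ∀ w : ↥(W₁ ⊔ W₂), (w : G) ∈ W₁ → ψ w = 1}),
      Cfsg.classInner θ (χ (φ.1 * ψ.1)) =
        (Cfsg.classInner θ (χ φ.1) - Cfsg.classInner θ (χ 1)) + Cfsg.classInner θ (χ ψ.1) := by
    intro φ ψ
    have := Cfsg.Agent.S1506.result W₁ W₂ hW χ hχ θ hθ hθV φ.1 1 ψ.1 1
      (fun w hw => ⟨φ.2 w hw, rfl⟩) (fun w hw => ⟨ψ.2 w hw, rfl⟩)
    have e1 : (1 : ↥(W₁ ⊔ W₂) →* ℂˣ) * 1 = 1 := by ext w; simp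
    have e2 : φ.1 * (1 : ↥(W₁ ⊔ W₂) →* ℂˣ) = φ.1 := by ext w; simp
    have e3 : (1 : ↥(W₁ ⊔ W₂) →* ℂˣ) * ψ.1 = ψ.1 := by ext w; simp
    rw [e1, e2, e3] at this
    linear_combination this
  -- numerical hypotheses
  have hcardW := Cfsg.Agent.Helper8.snc_card hW
  have hw12 : Nat.card W₁ + 2 ≤ Nat.card W₂ := by
    rw [hcardW, Nat.odd_mul] at hodd
    obtain ⟨⟨k₁, hk₁⟩, ⟨k₂, hk₂⟩⟩ := hodd
    omega
  have hcount : (Finset.univ.filter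
      (fun p : {φ : ↥(W₁ ⊔ W₂) →* ℂˣ // ∀ w : ↥(W₁ ⊔ W₂), (w : G) ∈ W₂ → φ w = 1} ×
        {ψ : ↥(W₁ ⊔ W₂) →* ℂˣ // ∀ w : ↥(W₁ ⊔ W₂), (w : G) ∈ W₁ → ψ w = 1} =>
        (Cfsg.classInner θ (χ p.1.1) - Cfsg.classInner θ (χ 1))
          + Cfsg.classInner θ (χ p.2.1) ≠ 0)).card
      < 2 * Fintype.card
        {φ : ↥(W₁ ⊔ W₂) →* ℂˣ // ∀ w : ↥(W₁ ⊔ W₂), (w : G) ∈ W₂ → φ w = 1} := by
    rw [hcardI]
    refine lt_of_le_of_lt ?_ hfew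
    have hfS : Fintype {ω : ↥(W₁ ⊔ W₂) →* ℂˣ // Cfsg.classInner θ (χ ω) ≠ 0} :=
      Fintype.ofFinite _
    rw [Nat.card_eq_fintype_card, ← Fintype.card_subtype]
    apply Fintype.card_le_of_injective
      (fun p => (⟨p.1.1.1 * p.1.2.1, by rw [hkey]; exact p.2⟩ :
        {ω : ↥(W₁ ⊔ W₂) →* ℂˣ // Cfsg.classInner θ (χ ω) ≠ 0}))
    intro p q hpq
    apply Subtype.ext
    apply hbij.1
    exact congrArg Subtype.val hpq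
  have harr := Cfsg.Agent.Helper8.array_lemma
    (fun φ : {φ : ↥(W₁ ⊔ W₂) →* ℂˣ // ∀ w : ↥(W₁ ⊔ W₂), (w : G) ∈ W₂ → φ w = 1} =>
      Cfsg.classInner θ (χ φ.1) - Cfsg.classInner θ (χ 1))
    (fun ψ : {ψ : ↥(W₁ ⊔ W₂) →* ℂˣ // ∀ w : ↥(W₁ ⊔ W₂), (w : G) ∈ W₁ → ψ w = 1} =>
      Cfsg.classInner θ (χ ψ.1)) (by rw [hcardI, hcardJ]; exact hw12) hcount
  rcases harr with h0 | ⟨ψ₀, a, h⟩ | ⟨φ₀, a, h⟩
  · left
    intro ω
    obtain ⟨⟨φ, ψ⟩, hp⟩ := hbij.2 ω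
    simp only at hp
    rw [← hp, hkey]
    exact h0 φ ψ
  · right; left
    refine ⟨ψ₀.1, a, fun ω => ?_⟩
    obtain ⟨⟨φ, ψ⟩, hp⟩ := hbij.2 ω
    simp only at hp
    rw [← hp, hkey]
    have h' := h φ ψ
    rw [h']
    have hiff : ψ = ψ₀ ↔ (∀ w : ↥(W₁ ⊔ W₂), (w : G) ∈ W₂ → (φ.1 * ψ.1 * ψ₀.1⁻¹) w = 1) := by
      constructor
      · intro e w hw
        rw [e, MonoidHom.mul_apply, MonoidHom.mul_apply, MonoidHom.inv_apply, φ.2 w hw, one_mul,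
          mul_inv_cancel]
      · intro hcond
        have h1 : ψ.1 * ψ₀.1⁻¹ = 1 := by
          apply Cfsg.Agent.Helper8.hom_eq_one_of_trivial W₁ W₂
          · intro w hw
            rw [MonoidHom.mul_apply, MonoidHom.inv_apply, ψ.2 w hw, ψ₀.2 w hw, inv_one, mul_one]
          · intro w hw
            have := hcond w hw
            rw [MonoidHom.mul_apply, MonoidHom.mul_apply, MonoidHom.inv_apply, φ.2 w hw,
              one_mul] at this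
            rw [MonoidHom.mul_apply, MonoidHom.inv_apply, this]
        exact Subtype.ext (mul_inv_eq_one.mp h1)
    by_cases hc : ψ = ψ₀
    · rw [if_pos hc, if_pos (hiff.mp hc)]
    · rw [if_neg hc, if_neg (fun hcond => hc (hiff.mpr hcond))]
  · right; right
    refine ⟨φ₀.1, a, fun ω => ?_⟩
    obtain ⟨⟨φ, ψ⟩, hp⟩ := hbij.2 ω
    simp only at hp
    rw [← hp, hkey]
    have h' := h φ ψ
    rw [h']
    have hiff : φ = φ₀ ↔ (∀ w : ↥(W₁ ⊔ W₂), (w : G) ∈ W₁ → (φ.1 * ψ.1 * φ₀.1⁻¹) w = 1) := by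
      constructor
      · intro e w hw
        rw [e, MonoidHom.mul_apply, MonoidHom.mul_apply, MonoidHom.inv_apply, ψ.2 w hw, mul_one,
          mul_inv_cancel]
      · intro hcond
        have h1 : φ.1 * φ₀.1⁻¹ = 1 := by
          apply Cfsg.Agent.Helper8.hom_eq_one_of_trivial W₁ W₂
          · intro w hw
            have := hcond w hw
            rw [MonoidHom.mul_apply, MonoidHom.mul_apply, MonoidHom.inv_apply, ψ.2 w hw,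
              mul_one] at this
            rw [MonoidHom.mul_apply, MonoidHom.inv_apply, this]
          · intro w hw
            rw [MonoidHom.mul_apply, MonoidHom.inv_apply, φ.2 w hw, φ₀.2 w hw, inv_one, mul_one]
        exact Subtype.ext (mul_inv_eq_one.mp h1)
    by_cases hc : φ = φ₀
    · rw [if_pos hc, if_pos (hiff.mp hc)]
    · rw [if_neg hc, if_neg (fun hcond => hc (hiff.mpr hcond))]

end Cfsg.Agent.S1507
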