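import Cfsg.Statements.S1508
import Cfsg.Agent.Helper8.CyclicTIGalois
import Cfsg.Agent.Helper8.RationalValue

set_option autoImplicit false
open Cfsg

namespace Cfsg.Agent.S1508

/-- Let W₁, W₂ ≤ G form a self-normalising cyclic subgroup W = W₁ ⊔ W₂ of odd order and χ an orthonormal family of irreducible characters of G up to sign, indexed by the linear characters ω of W, with χ_1 = 1, χ_ω = ω on W outside W₁ ∪ W₂, and the induction identity for (1 − φ)(1 − ψ). Let ω be a linear character of W and g an element of G whose order is coprime to the order of ω. Then χ ω g is an integer. -/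
theorem result {G : Type*} [Group G] [Fintype G] (W₁ W₂ : Subgroup G) (hW : Cfsg.IsSelfNormalizingCyclic W₁ W₂) (hodd : Odd (Nat.card ↥(W₁ ⊔ W₂))) (χ : (↥(W₁ ⊔ W₂) →* ℂˣ) → (G → ℂ)) (hχ : Cfsg.IsCyclicTIFamily W₁ W₂ χ) (ω : ↥(W₁ ⊔ W₂) →* ℂˣ) (g : G) (hg : Nat.Coprime (orderOf g) (orderOf ω)) : ∃ n : ℤ, χ ω g = n := by
  classical
  have hpos : 0 < Nat.card G := Nat.card_pos
  have hordω : orderOf ω ∣ Nat.card G := by
    have h1 : orderOf ω ∣ Nat.card ↥(W₁ ⊔ W₂) := by
      apply orderOf_dvd_of_pow_eq_one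
      apply MonoidHom.ext
      intro w
      show (ω w) ^ (Nat.card ↥(W₁ ⊔ W₂)) = 1
      rw [← map_pow, pow_card_eq_one', map_one]
    exact h1.trans (Subgroup.card_subgroup_dvd_card _)
  have hinv : ∀ k : ℕ, k.Coprime (Nat.card G) → χ ω (g ^ k) = χ ω g := by
    intro k hk
    obtain ⟨s, hs, hsa, hsb⟩ := Cfsg.Agent.Helper8.exists_coprime_modEq hpos
      (orderOf_dvd_natCard g) hordω hg hk
    have h1 : g ^ k = g ^ s := pow_eq_pow_iff_modEq.mpr hsa.symm
    have h2 : ω ^ s = ω := by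
      ext w
      have hdvd : orderOf (ω w) ∣ orderOf ω := orderOf_map_dvd (MonoidHom.eval w) ω
      have h3 : (ω w) ^ s = (ω w) ^ 1 := pow_eq_pow_iff_modEq.mpr (hsb.of_dvd hdvd)
      rw [pow_one] at h3
      exact congrArg Units.val h3
    rw [h1, Cfsg.Agent.Helper8.cyclicTIFamily_galois hW hodd hχ hs, h2]
  rcases hχ.irr_or_neg ω with h1 | h1
  · exact Cfsg.Agent.Helper8.char_int_of_pow_invariant
      (Cfsg.Agent.Helper24.IsIrrCharacter.isCharacter h1) g hinv
  · obtain ⟨n, hn⟩ := Cfsg.Agent.Helper8.char_int_of_pow_invariant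
      (Cfsg.Agent.Helper24.IsIrrCharacter.isCharacter h1) g (fun k hk => by
        rw [Pi.neg_apply, Pi.neg_apply, hinv k hk])
    refine ⟨-n, ?_⟩
    rw [Pi.neg_apply] at hn
    rw [Int.cast_neg, ← hn, neg_neg]

end Cfsg.Agent.S1508
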