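import Cfsg.Statements.S1509
import Cfsg.Agent.Helper8.Inner

set_option autoImplicit false
open Cfsg

namespace Cfsg.Agent.S1509

open Cfsg.Agent.Helper8 Cfsg.Agent.Helper23

open scoped ComplexConjugate

/-- a function which is an irreducible character or minus one is `ε • χ`. -/
theorem signed {X : Type*} [Group X] (α : X → ℂ)
    (hα : Cfsg.IsIrrCharacter X α ∨ Cfsg.IsIrrCharacter X (-α)) :
    ∃ (ε : ℂ) (χ : X → ℂ), (ε = 1 ∨ ε = -1) ∧ Cfsg.IsIrrCharacter X χ ∧ α = ε • χ := by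
  rcases hα with h | h
  · exact ⟨1, α, Or.inl rfl, h, by simp⟩
  · exact ⟨-1, -α, Or.inr rfl, h, by simp⟩

theorem inner_signed {X : Type*} [Group X] [Fintype X] (a c : ℂ) (hc : c = 1 ∨ c = -1) (χ ψ : X → ℂ)
    (hχ : Cfsg.IsIrrCharacter X χ) (hψ : Cfsg.IsIrrCharacter X ψ) :
    Cfsg.classInner (a • χ) (c • ψ) = a * c * (if χ = ψ then 1 else 0) := by
  classical
  rw [classInner_smul_left, classInner_smul_right, classInner_irrCharacter χ ψ hχ hψ]
  have : conj c = c := by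
    rcases hc with rfl | rfl <;> simp
  rw [this]
  split_ifs <;> ring

theorem mix_expand {X : Type*} [Group X] [Fintype X] (α β γ δ : X → ℂ) (u v : ℝ) :
    Cfsg.classInner (α - β) ((u : ℂ) • γ - (v : ℂ) • δ) =
      u * Cfsg.classInner α γ - v * Cfsg.classInner α δ - u * Cfsg.classInner β γ
        + v * Cfsg.classInner β δ := by
  rw [classInner_sub_left, classInner_sub_right, classInner_sub_right,
    classInner_smul_right, classInner_smul_right, classInner_smul_right, classInner_smul_right,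
    Complex.conj_ofReal, Complex.conj_ofReal]
  ring

theorem result {X : Type*} [Group X] [Fintype X] (α β γ δ : X → ℂ) (hα : Cfsg.IsIrrCharacter X α ∨ Cfsg.IsIrrCharacter X (-α)) (hβ : Cfsg.IsIrrCharacter X β ∨ Cfsg.IsIrrCharacter X (-β)) (hγ : Cfsg.IsIrrCharacter X γ ∨ Cfsg.IsIrrCharacter X (-γ)) (hδ : Cfsg.IsIrrCharacter X δ ∨ Cfsg.IsIrrCharacter X (-δ)) (u v : ℝ) (hu : u ≠ 0) (hv : v ≠ 0) (hab : Cfsg.classInner α β = 0) (hcd : Cfsg.classInner γ δ = 0) (hmix : Cfsg.classInner (α - β) ((u : ℂ) • γ - (v : ℂ) • δ) = 0) (h1 : α 1 = β 1) (h2 : (u : ℂ) * γ 1 = (v : ℂ) * δ 1) : Cfsg.classInner α γ = 0 ∧ Cfsg.classInner α δ = 0 ∧ Cfsg.classInner β γ = 0 ∧ Cfsg.classInner β δ = 0 := by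
  classical
  obtain ⟨a, χ₁, ha, hχ₁, rfl⟩ := signed α hα
  obtain ⟨b, χ₂, hb, hχ₂, rfl⟩ := signed β hβ
  obtain ⟨c, χ₃, hc, hχ₃, rfl⟩ := signed γ hγ
  obtain ⟨d, χ₄, hd, hχ₄, rfl⟩ := signed δ hδ
  obtain ⟨n₁, hn₁, e₁⟩ := irr_degree_pos hχ₁
  obtain ⟨n₂, hn₂, e₂⟩ := irr_degree_pos hχ₂
  obtain ⟨n₃, hn₃, e₃⟩ := irr_degree_pos hχ₃
  obtain ⟨n₄, hn₄, e₄⟩ := irr_degree_pos hχ₄
  simp only [Pi.smul_apply, smul_eq_mul, e₁, e₂, e₃, e₄] at h1 h2
  -- expand hmix
  rw [mix_expand] at hmix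
  rw [inner_signed a c hc χ₁ χ₃ hχ₁ hχ₃, inner_signed a d hd χ₁ χ₄ hχ₁ hχ₄,
    inner_signed b c hc χ₂ χ₃ hχ₂ hχ₃, inner_signed b d hd χ₂ χ₄ hχ₂ hχ₄] at hmix
  rw [inner_signed a b hb χ₁ χ₂ hχ₁ hχ₂] at hab
  rw [inner_signed c d hd χ₃ χ₄ hχ₃ hχ₄] at hcd
  rw [inner_signed a c hc χ₁ χ₃ hχ₁ hχ₃, inner_signed a d hd χ₁ χ₄ hχ₁ hχ₄,
    inner_signed b c hc χ₂ χ₃ hχ₂ hχ₃, inner_signed b d hd χ₂ χ₄ hχ₂ hχ₄]
  have ha0 : a ≠ 0 := by rcases ha with rfl | rfl <;> norm_num
  have hb0 : b ≠ 0 := by rcases hb with rfl | rfl <;> norm_num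
  have hc0 : c ≠ 0 := by rcases hc with rfl | rfl <;> norm_num
  have hd0 : d ≠ 0 := by rcases hd with rfl | rfl <;> norm_num
  have hu0 : (u : ℂ) ≠ 0 := Complex.ofReal_ne_zero.mpr hu
  have hv0 : (v : ℂ) ≠ 0 := Complex.ofReal_ne_zero.mpr hv
  have h12 : χ₁ ≠ χ₂ := by
    intro h
    rw [if_pos h] at hab
    simp [ha0, hb0] at hab
  have h34 : χ₃ ≠ χ₄ := by
    intro h
    rw [if_pos h] at hcd
    simp [hc0, hd0] at hcd
  -- a = b
  have hab' : a = b := by
    rcases ha with rfl | rfl <;> rcases hb with rfl | rfl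
    · rfl
    · exfalso
      have : ((n₁ + n₂ : ℕ) : ℂ) = 0 := by push_cast; linear_combination h1
      have := Nat.cast_eq_zero.mp this
      omega
    · exfalso
      have : ((n₁ + n₂ : ℕ) : ℂ) = 0 := by push_cast; linear_combination -h1
      have := Nat.cast_eq_zero.mp this
      omega
    · rfl
  subst hab'
  -- key contradiction
  have key : (u : ℂ) * c + v * d = 0 → False := by
    intro h
    have h3 : (v : ℂ) * d * ((n₃ + n₄ : ℕ) : ℂ) = 0 := by
      push_cast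
      have : (u : ℂ) * c = - (v * d) := by linear_combination h
      have h2' : (u : ℂ) * c * n₃ = v * d * n₄ := by linear_combination h2
      rw [this] at h2'
      linear_combination -h2'
    have : ((n₃ + n₄ : ℕ) : ℂ) = 0 := by
      rcases mul_eq_zero.mp h3 with h | h
      · exact absurd h (mul_ne_zero hv0 hd0)
      · exact h
    have := Nat.cast_eq_zero.mp this
    omega
  by_cases h13 : χ₁ = χ₃
  · exfalso
    have h14 : χ₁ ≠ χ₄ := fun h => h34 (h13 ▸ h)
    have h23 : χ₂ ≠ χ₃ := fun h => h12 (h13.trans h.symm)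
    rw [if_pos h13, if_neg h14, if_neg h23] at hmix
    by_cases h24 : χ₂ = χ₄
    · rw [if_pos h24] at hmix
      apply key
      have : a * ((u : ℂ) * c + v * d) = 0 := by linear_combination hmix
      rcases mul_eq_zero.mp this with h | h
      · exact absurd h ha0
      · exact h
    · rw [if_neg h24] at hmix
      have : (u : ℂ) * (a * c) = 0 := by linear_combination hmix
      exact absurd this (mul_ne_zero hu0 (mul_ne_zero ha0 hc0))
  by_cases h14 : χ₁ = χ₄
  · exfalso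
    have h24 : χ₂ ≠ χ₄ := fun h => h12 (h14.trans h.symm)
    rw [if_neg h13, if_pos h14, if_neg h24] at hmix
    by_cases h23 : χ₂ = χ₃
    · rw [if_pos h23] at hmix
      apply key
      have : a * ((u : ℂ) * c + v * d) = 0 := by linear_combination -hmix
      rcases mul_eq_zero.mp this with h | h
      · exact absurd h ha0
      · exact h
    · rw [if_neg h23] at hmix
      have : (v : ℂ) * (a * d) = 0 := by linear_combination -hmix
      exact absurd this (mul_ne_zero hv0 (mul_ne_zero ha0 hd0))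
  by_cases h23 : χ₂ = χ₃
  · exfalso
    have h24 : χ₂ ≠ χ₄ := fun h => h34 (h23 ▸ h)
    rw [if_neg h13, if_neg h14, if_pos h23, if_neg h24] at hmix
    have : (u : ℂ) * (a * c) = 0 := by linear_combination -hmix
    exact absurd this (mul_ne_zero hu0 (mul_ne_zero ha0 hc0))
  by_cases h24 : χ₂ = χ₄
  · exfalso
    rw [if_neg h13, if_neg h14, if_neg h23, if_pos h24] at hmix
    have : (v : ℂ) * (a * d) = 0 := by linear_combination hmix
    exact absurd this (mul_ne_zero hv0 (mul_ne_zero ha0 hd0))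
  rw [if_neg h13, if_neg h14, if_neg h23, if_neg h24]
  simp

end Cfsg.Agent.S1509
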