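import Cfsg.Statements.S1510
import Cfsg.Agent.Helper8.Cyclic

set_option autoImplicit false
open Cfsg

namespace Cfsg.Agent.S1510

open Cfsg.Agent.Helper8

theorem result {L : Type*} [Group L] [Fintype L] (K W₁ W₂ : Subgroup L) [hK : K.Normal] (hKW₁ : K ⊓ W₁ = ⊥) (hKW₁' : K ⊔ W₁ = ⊤) (hW₁ : W₁ ≠ ⊥) (hW₁c : IsCyclic W₁) (hHall : Nat.Coprime (Nat.card W₁) W₁.index) (hW₂ : W₂ ≠ ⊥) (hW₂c : IsCyclic W₂) (hW₂K : W₂ ≤ K) (hC : ∀ x ∈ W₁, x ≠ 1 → K ⊓ Subgroup.centralizer ({x} : Set L) = W₂) (hodd : Odd (Nat.card ↥(W₁ ⊔ W₂))) : Cfsg.IsSelfNormalizingCyclic W₁ W₂ := by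
  -- W₁ is abelian
  have hab : ∀ a ∈ W₁, ∀ b ∈ W₁, a * b = b * a := by
    intro a ha b hb
    have hi : IsMulCommutative W₁ := IsCyclic.isMulCommutative
    have := mul_comm' (⟨a, ha⟩ : W₁) ⟨b, hb⟩
    exact congrArg Subtype.val this
  -- W₁ and W₂ commute
  have hcomm : ∀ a ∈ W₁, ∀ b ∈ W₂, a * b = b * a := by
    intro a ha b hb
    by_cases ha1 : a = 1
    · subst ha1; simp
    · have := hC a ha ha1
      rw [← this] at hb
      have hb2 : b ∈ Subgroup.centralizer ({a} : Set L) := hb.2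
      rw [Subgroup.mem_centralizer_singleton_iff] at hb2
      exact hb2.symm
  -- orders coprime
  have hcompl : Subgroup.IsComplement' K W₁ := by
    apply Subgroup.isComplement'_of_disjoint_and_mul_eq_univ
    · rw [disjoint_iff]; exact hKW₁
    · rw [← Subgroup.normal_mul, hKW₁']; rfl
  have hidx : W₁.index = Nat.card K := hcompl.index_eq_card
  have hcop : (Nat.card W₁).Coprime (Nat.card W₂) := by
    rw [hidx] at hHall
    exact Nat.Coprime.coprime_dvd_right (Subgroup.card_dvd_of_le hW₂K) hHall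
  have hdisj : W₁ ⊓ W₂ = ⊥ := by
    apply le_antisymm _ bot_le
    rw [← hKW₁]
    exact le_inf (inf_le_right.trans hW₂K) inf_le_left
  have hW₁norm : W₁ ≤ Subgroup.normalizer (W₂ : Set L) := by
    refine le_trans ?_ (Subgroup.centralizer_le_normalizer _)
    intro a ha
    rw [Subgroup.mem_centralizer_iff]
    intro b hb
    exact (hcomm a ha b hb).symm
  have hWmul : ∀ w ∈ W₁ ⊔ W₂, ∃ a ∈ W₁, ∃ b ∈ W₂, w = a * b := by
    intro w hw
    have : w ∈ ((W₁ ⊔ W₂ : Subgroup L) : Set L) := hw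
    rw [Subgroup.coe_mul_of_left_le_normalizer_right W₁ W₂ hW₁norm] at this
    obtain ⟨a, ha, b, hb, hab⟩ := this
    exact ⟨a, ha, b, hb, hab.symm⟩
  -- W is abelian
  have hWab : ∀ u ∈ W₁ ⊔ W₂, ∀ v ∈ W₁ ⊔ W₂, u * v = v * u := by
    intro u hu v hv
    obtain ⟨a, ha, b, hb, rfl⟩ := hWmul u hu
    obtain ⟨c, hc, d, hd, rfl⟩ := hWmul v hv
    have hbd : b * d = d * b := by
      have hi : IsMulCommutative W₂ := IsCyclic.isMulCommutative
      have := mul_comm' (⟨b, hb⟩ : W₂) ⟨d, hd⟩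
      exact congrArg Subtype.val this
    calc a * b * (c * d) = a * (b * c) * d := by group
      _ = a * (c * b) * d := by rw [hcomm c hc b hb]
      _ = (a * c) * (b * d) := by group
      _ = (c * a) * (d * b) := by rw [hab a ha c hc, hbd]
      _ = c * (a * d) * b := by group
      _ = c * (d * a) * b := by rw [hcomm a ha d hd]
      _ = c * d * (a * b) := by group
  refine ⟨hW₁, hW₂, hdisj, hcomm, isCyclic_sup_of_commute_coprime W₁ W₂ hW₁c hW₂c hcomm hcop, ?_⟩
  intro X hX hXne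
  apply le_antisymm
  · -- normalizer ≤ W
    intro g hg
    obtain ⟨w, hwX⟩ := hXne
    have hwW : w ∈ W₁ ⊔ W₂ := (hX hwX).1
    have hwn : w ∉ W₁ ∧ w ∉ W₂ := by
      have := (hX hwX).2
      simp only [Set.mem_union, SetLike.mem_coe, not_or] at this
      exact this
    obtain ⟨w₁, hw₁, w₂, hw₂, rfl⟩ := hWmul w hwW
    have hw₁1 : w₁ ≠ 1 := by
      rintro rfl
      apply hwn.2
      simpa using hw₂
    have hgw : g * (w₁ * w₂) * g⁻¹ ∈ X := (Subgroup.mem_set_normalizer_iff.mp hg _).mp hwX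
    obtain ⟨v₁, hv₁, v₂, hv₂, hv⟩ := hWmul _ (hX hgw).1
    set N := Nat.card W₂ with hN
    have hw₂N : w₂ ^ N = 1 := by
      have := pow_card_eq_one' (G := W₂) (x := ⟨w₂, hw₂⟩)
      exact congrArg Subtype.val this
    have hv₂N : v₂ ^ N = 1 := by
      have := pow_card_eq_one' (G := W₂) (x := ⟨v₂, hv₂⟩)
      exact congrArg Subtype.val this
    -- a := w₁ ^ N
    have hpow : g * (w₁ ^ N) * g⁻¹ = v₁ ^ N := by
      have h1 : (g * (w₁ * w₂) * g⁻¹) ^ N = g * (w₁ * w₂) ^ N * g⁻¹ := by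
        rw [conj_pow]
      have h2 : (w₁ * w₂) ^ N = w₁ ^ N := by
        rw [(show Commute w₁ w₂ from hcomm w₁ hw₁ w₂ hw₂).mul_pow, hw₂N, mul_one]
      have h3 : (v₁ * v₂) ^ N = v₁ ^ N := by
        rw [(show Commute v₁ v₂ from hcomm v₁ hv₁ v₂ hv₂).mul_pow, hv₂N, mul_one]
      rw [← h2, ← h1, hv, h3]
    set a := w₁ ^ N with ha
    have haW : a ∈ W₁ := Subgroup.pow_mem _ hw₁ _
    have ha1 : a ≠ 1 := by
      intro h
      have hdvd : orderOf w₁ ∣ N := orderOf_dvd_of_pow_eq_one h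
      have hdvd2 : orderOf w₁ ∣ Nat.card W₁ := by
        have := orderOf_dvd_natCard (⟨w₁, hw₁⟩ : W₁)
        rwa [Subgroup.orderOf_mk] at this
      have : orderOf w₁ = 1 := Nat.eq_one_of_dvd_coprimes hcop hdvd2 hdvd
      exact hw₁1 (orderOf_eq_one_iff.mp this)
    -- decompose g = k * v
    have hg' : g ∈ ((K ⊔ W₁ : Subgroup L) : Set L) := by rw [hKW₁']; trivial
    rw [Subgroup.normal_mul] at hg'
    obtain ⟨k, hk, v, hv', rfl⟩ := hg'
    have hka : k * a * k⁻¹ = v₁ ^ N := by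
      have : k * v * a * (k * v)⁻¹ = k * (v * a * v⁻¹) * k⁻¹ := by group
      rw [this] at hpow
      have hva : v * a * v⁻¹ = a := by
        rw [hab v hv' a haW]; group
      rw [hva] at hpow
      exact hpow
    have hmem : a⁻¹ * (k * a * k⁻¹) ∈ K ⊓ W₁ := by
      constructor
      · have : a⁻¹ * (k * a * k⁻¹) = (a⁻¹ * k * a⁻¹⁻¹) * k⁻¹ := by group
        rw [this]
        exact K.mul_mem (hK.conj_mem k hk a⁻¹) (K.inv_mem hk)
      · rw [hka]
        exact W₁.mul_mem (W₁.inv_mem haW) (Subgroup.pow_mem _ hv₁ _)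
    rw [hKW₁, Subgroup.mem_bot] at hmem
    have hkc : k ∈ K ⊓ Subgroup.centralizer ({a} : Set L) := by
      refine ⟨hk, ?_⟩
      show k ∈ Subgroup.centralizer ({a} : Set L)
      rw [Subgroup.mem_centralizer_singleton_iff]
      have : k * a * k⁻¹ = a := by
        have := congrArg (fun t => a * t) hmem
        simpa using this
      calc k * a = (k * a * k⁻¹) * k := by group
        _ = a * k := by rw [this]
    rw [hC a haW ha1] at hkc
    exact Subgroup.mul_mem _ (Subgroup.mem_sup_right hkc) (Subgroup.mem_sup_left hv')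
  · -- W ≤ normalizer
    intro u hu
    rw [Subgroup.mem_set_normalizer_iff]
    intro x
    constructor
    · intro hx
      have := hWab u hu x (hX hx).1
      rw [this, mul_inv_cancel_right]
      exact hx
    · intro hx
      have hxW : x ∈ W₁ ⊔ W₂ := by
        have h1 := (hX hx).1
        have : x = u⁻¹ * (u * x * u⁻¹) * u := by group
        rw [this]
        exact Subgroup.mul_mem _ (Subgroup.mul_mem _ (Subgroup.inv_mem _ hu) h1) hu
      have := hWab u hu x hxW
      rw [this, mul_inv_cancel_right] at hx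
      exact hx

end Cfsg.Agent.S1510
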