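import Cfsg.Statements.S1512
import Cfsg.Agent.S1496

set_option autoImplicit false
open Cfsg

namespace Cfsg.Agent.S1512

/-- Each class of `K` invariant under conjugation by `x` (coprime order) contains an element
centralized by `x`. -/
theorem exists_fixed_in_class {L : Type*} [Group L] [Finite L] (K : Subgroup L) [hK : K.Normal] (x : L)
    (hx : Nat.Coprime (orderOf x) (Nat.card K)) (k : K)
    (hinv : IsConj ((MulAut.conjNormal x : MulAut K) k) k) :
    ∃ k' : K, IsConj k k' ∧ x * (k' : L) = (k' : L) * x := by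
  rw [isConj_iff] at hinv
  obtain ⟨u, hu⟩ := hinv
  have hu' : (u : L) * (x * k * x⁻¹) * (u : L)⁻¹ = k := by
    have := congrArg Subtype.val hu
    simpa [MulAut.conjNormal_apply] using this
  have hxN : x ∈ Subgroup.normalizer (K : Set L) := by
    rw [Subgroup.normalizer_eq_top_iff.mpr hK]; trivial
  obtain ⟨t, ht, c, hc, hcx, htc⟩ := Cfsg.Agent.S1496.result K x hxN hx (u : L) u.2
  refine ⟨⟨t * k * t⁻¹, hK.conj_mem k k.2 t⟩, ?_, ?_⟩
  · rw [isConj_iff]
    exact ⟨⟨t, ht⟩, Subtype.ext (by simp)⟩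
  · simp only
    -- (c x) commutes with k' := t k t⁻¹
    have h1 : (c * x) * (t * k * t⁻¹) = (t * k * t⁻¹) * (c * x) := by
      rw [← htc]
      calc t * (↑u * x) * t⁻¹ * (t * ↑k * t⁻¹) = t * ((u : L) * (x * k * x⁻¹) * (u : L)⁻¹) * ((u : L) * x) * t⁻¹ := by group
        _ = t * k * ((u : L) * x) * t⁻¹ := by rw [hu']
        _ = t * ↑k * t⁻¹ * (t * (↑u * x) * t⁻¹) := by group
    -- x is a power of c * x
    set n := orderOf x with hn
    set N := Nat.card K with hN
    obtain ⟨N', hN'⟩ : ∃ N' : ℕ, N * N' ≡ 1 [MOD n] := by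
      by_cases hn1 : n = 1
      · exact ⟨0, by rw [hn1]; exact Nat.modEq_one⟩
      · have hn0 : 0 < n := orderOf_pos x
        have hn2 : 1 < n := by omega
        obtain ⟨m', _, hm'⟩ := Nat.exists_mul_mod_eq_one_of_coprime hx.symm hn2
        refine ⟨m', ?_⟩
        unfold Nat.ModEq
        rw [hm', Nat.mod_eq_of_lt hn2]
    have hcN : c ^ N = 1 := by
      have := pow_card_eq_one' (G := K) (x := ⟨c, hc⟩)
      exact congrArg Subtype.val this
    have hpow : (c * x) ^ (N * N') = x := by
      rw [(show Commute c x from hcx).mul_pow, pow_mul, hcN, one_pow, one_mul]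
      have := (pow_eq_pow_iff_modEq (x := x) (n := N * N') (m := 1)).mpr hN'
      simpa using this
    have hcomm : Commute (c * x) (t * k * t⁻¹) := h1
    have := hcomm.pow_left (N * N')
    rw [hpow] at this
    exact this.eq

theorem result {L : Type*} [Group L] [Finite L] (K W₂ : Subgroup L) [hK : K.Normal] (x : L) (hx1 : x ≠ 1) (hx : Nat.Coprime (orderOf x) (Nat.card K)) (hC : ∀ y ∈ Subgroup.zpowers x, y ≠ 1 → K ⊓ Subgroup.centralizer ({y} : Set L) = W₂) : Nat.card {C : ConjClasses K // ConjClasses.map (MulEquiv.toMonoidHom ((MulAut.conjNormal x : MulAut K))) C = C} ≤ Nat.card W₂ := by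
  classical
  have key : ∀ C : {C : ConjClasses K // ConjClasses.map (MulEquiv.toMonoidHom ((MulAut.conjNormal x : MulAut K))) C = C},
      ∃ w : W₂, ∃ k' : K, (k' : L) = w ∧ ConjClasses.mk k' = C.1 := by
    rintro ⟨C, hCinv⟩
    obtain ⟨k, rfl⟩ := ConjClasses.exists_rep C
    have h1 : IsConj ((MulAut.conjNormal x : MulAut K) k) k := by
      rw [← ConjClasses.mk_eq_mk_iff_isConj]
      exact hCinv
    obtain ⟨k', hk', hxk'⟩ := exists_fixed_in_class K x hx k h1
    have hW : (k' : L) ∈ W₂ := by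
      rw [← hC x (Subgroup.mem_zpowers x) hx1]
      refine ⟨k'.2, ?_⟩
      show (k' : L) ∈ Subgroup.centralizer ({x} : Set L)
      rw [Subgroup.mem_centralizer_singleton_iff]
      exact hxk'.symm
    refine ⟨⟨k', hW⟩, k', rfl, ?_⟩
    exact (ConjClasses.mk_eq_mk_iff_isConj.mpr hk').symm
  choose f g hfg hg using key
  apply Nat.card_le_card_of_injective f
  intro C D hCD
  apply Subtype.ext
  rw [← hg C, ← hg D]
  congr 1
  apply Subtype.ext
  rw [hfg C, hfg D, hCD]

end Cfsg.Agent.S1512
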