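import Cfsg.Statements.S1513
import Cfsg.Agent.Helper8.SemiCyclic

set_option autoImplicit false
open Cfsg

namespace Cfsg.Agent.S1513

open Cfsg.Agent.Helper8

/-- Let L be a finite group with K normal with complement W₁ ≠ 1 a cyclic Hall subgroup, and W₂ ≠ 1 a cyclic subgroup of K equal to C_K(x) for every non-identity x ∈ W₁, with W₁W₂ of odd order. For an irreducible character θ of K: if θ is not fixed under conjugation by some element of W₁, then the function induced from θ to L is an irreducible character of L; and the irreducible characters of K fixed by all of W₁ are exactly Nat.card W₂ in number, each inducing to the sum of Nat.card W₁ pairwise distinct irreducible characters of L. -/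
theorem result {L : Type*} [Group L] [Fintype L] (K W₁ W₂ : Subgroup L) [hK : K.Normal] (hKW₁ : K ⊓ W₁ = ⊥) (hKW₁' : K ⊔ W₁ = ⊤) (hW₁ : W₁ ≠ ⊥) (hW₁c : IsCyclic W₁) (hHall : Nat.Coprime (Nat.card W₁) W₁.index) (hW₂ : W₂ ≠ ⊥) (hW₂c : IsCyclic W₂) (hW₂K : W₂ ≤ K) (hC : ∀ x ∈ W₁, x ≠ 1 → K ⊓ Subgroup.centralizer ({x} : Set L) = W₂) (hodd : Odd (Nat.card ↥(W₁ ⊔ W₂))) : (∀ θ : K → ℂ, Cfsg.IsIrrCharacter K θ → (∃ x ∈ W₁, (fun k : K => θ ⟨x * k * x⁻¹, hK.conj_mem (k : L) k.2 x⟩) ≠ θ) → Cfsg.IsIrrCharacter L (Cfsg.indFun K θ)) ∧ Nat.card {θ : Cfsg.IrrCharacter K // ∀ x ∈ W₁, (fun k : K => (θ : K → ℂ) ⟨x * k * x⁻¹, hK.conj_mem (k : L) k.2 x⟩) = θ} = Nat.card W₂ ∧ (∀ θ : K → ℂ, Cfsg.IsIrrCharacter K θ → (∀ x ∈ W₁, (fun k : K => θ ⟨x * k * x⁻¹, hK.conj_mem (k : L) k.2 x⟩) = θ) → ∃ C : Finset (L → ℂ), C.card = Nat.card W₁ ∧ (∀ μ ∈ C, Cfsg.IsIrrCharacter L μ) ∧ Cfsg.indFun K θ = ∑ μ ∈ C, μ) := by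
  classical
  have hcompl : Subgroup.IsComplement' K W₁ := isComplement'_of_normal_inf_sup K W₁ hKW₁ hKW₁'
  have hidx : W₁.index = Nat.card K := hcompl.index_eq_card
  have hidxK : K.index = Nat.card W₁ := hcompl.symm.index_eq_card
  have hcop : (Nat.card W₁).Coprime (Nat.card K) := hidx ▸ hHall
  have hW₁comm : ∀ a ∈ W₁, ∀ b ∈ W₁, a * b = b * a := by
    intro a ha b hb
    obtain ⟨g, hg⟩ := IsCyclic.exists_generator (α := W₁)
    obtain ⟨m, hm⟩ := Subgroup.mem_zpowers_iff.mp (hg ⟨a, ha⟩)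
    obtain ⟨n, hn⟩ := Subgroup.mem_zpowers_iff.mp (hg ⟨b, hb⟩)
    have h := Commute.zpow_zpow_self g m n
    rw [hm, hn] at h
    exact congrArg Subtype.val h.eq
  have hW₂comm : ∀ a b : W₂, a * b = b * a := by
    intro a b
    obtain ⟨g, hg⟩ := IsCyclic.exists_generator (α := W₂)
    obtain ⟨m, rfl⟩ := Subgroup.mem_zpowers_iff.mp (hg a)
    obtain ⟨n, rfl⟩ := Subgroup.mem_zpowers_iff.mp (hg b)
    exact (Commute.zpow_zpow_self g m n).eq
  -- a generator of W₁
  obtain ⟨w, hw⟩ := IsCyclic.exists_generator (α := W₁)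
  have hwgen : ∀ z ∈ W₁, z ∈ Subgroup.zpowers (w : L) := by
    intro z hz
    obtain ⟨n, hn⟩ := Subgroup.mem_zpowers_iff.mp (hw ⟨z, hz⟩)
    rw [Subgroup.mem_zpowers_iff]
    refine ⟨n, ?_⟩
    have := congrArg Subtype.val hn
    simpa using this
  have hw1 : (w : L) ≠ 1 := by
    intro h
    apply hW₁
    rw [eq_bot_iff]
    intro z hz
    have := hwgen z hz
    rw [h, Subgroup.zpowers_one_eq_bot] at this
    exact this
  refine ⟨?_, ?_, ?_⟩
  · intro θ hθ hex
    obtain ⟨x₀, hx₀, hx₀θ⟩ := hex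
    have hθc : Cfsg.IsClassFunction K θ :=
      Cfsg.Agent.Helper24.IsCharacter.isClassFunction
        (Cfsg.Agent.Helper24.IsIrrCharacter.isCharacter hθ)
    have hx₀I : x₀ ∉ inertia K θ := by
      rw [mem_inertia_iff_fun]
      exact hx₀θ
    have hI : inertia K θ ⊓ W₁ = ⊥ := by
      rw [eq_bot_iff]
      intro y hy
      rw [Subgroup.mem_bot]
      by_contra hy1
      have := le_inertia_of_exists_fixed K W₁ W₂ hW₁c hcop hW₂comm hC θ hθ ⟨y, hy.2, hy1, hy.1⟩
      exact hx₀I (this hx₀)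
    exact isIrrCharacter_indFun_of_inertia_eq K θ hθ
      (inertia_eq_of_inf_eq_bot K W₁ hKW₁' θ hθc hI)
  · rw [← card_fixed_irr_of_centralizer K W₁ W₂ hcop hW₂comm hC (w : L) w.2 hw1]
    apply Nat.card_congr
    apply Equiv.subtypeEquivRight
    intro θ
    constructor
    · intro h
      rw [mem_inertia_iff_fun]
      exact h (w : L) w.2
    · intro h x hx
      rw [← mem_inertia_iff_fun]
      exact (Subgroup.zpowers_le.mpr h) (hwgen x hx)
  · intro θ hθ hfix
    have hθc : Cfsg.IsClassFunction K θ :=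
      Cfsg.Agent.Helper24.IsCharacter.isClassFunction
        (Cfsg.Agent.Helper24.IsIrrCharacter.isCharacter hθ)
    have hItop : inertia K θ = ⊤ := by
      rw [eq_top_iff, ← hKW₁']
      apply sup_le
      · exact le_inertia K θ hθc
      · intro x hx
        rw [mem_inertia_iff_fun]
        exact hfix x hx
    have hinv : ∀ (g : L) (h : K), θ ⟨g * h * g⁻¹, hK.conj_mem h h.2 g⟩ = θ h := by
      intro g
      have : g ∈ inertia K θ := by rw [hItop]; exact Subgroup.mem_top g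
      exact this
    have hab := commutator_mem_of_comm_supplement K W₁ hKW₁' hW₁comm
    obtain ⟨e, C, he, hCirr, -, -, hsum, hcard⟩ := clifford_abelian_quotient K θ hθ hinv hab
    have hcopK : (Nat.card K).Coprime K.index := by
      rw [hidxK]
      exact hcop.symm
    have he1 : e = 1 := ramification_eq_one_of_coprime K θ hθ e C hCirr hsum hcard hcopK
    subst he1
    refine ⟨C, ?_, hCirr, ?_⟩
    · have h1 := hcompl.card_mul_card
      have hpos : 0 < Nat.card K := Nat.card_pos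
      have h2 : C.card * Nat.card K = Nat.card W₁ * Nat.card K := by
        rw [mul_comm (Nat.card W₁), h1, ← hcard]; ring
      exact Nat.eq_of_mul_eq_mul_right hpos h2
    · rw [hsum]; simp

end Cfsg.Agent.S1513
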