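import Cfsg.Statements.S1515
import Cfsg.Agent.Helper24.Generalized

set_option autoImplicit false
open Cfsg

namespace Cfsg.Agent.S1515

open scoped ComplexConjugate
open Cfsg.Agent.Helper24

/-- Let (S, τ, R) be a coherence system from L to G, χ ∈ S, and ψ an integer combination of S with ⟨χ, ψ⟩ = ⟨conj χ, ψ⟩ = 0. Let τ₁ be a linear isometry on the integer combinations of χ − ψ and χ − conj χ, with virtual-character values, agreeing with τ on integer multiples of χ − conj χ. Then the sum over α ∈ R χ of the squared absolute values of ⟨τ₁(χ − ψ), α⟩ is at least ⟨χ, χ⟩; and if ⟨τ₁(χ − ψ), τ₁(χ − ψ)⟩ minus that sum is at least ⟨ψ, ψ⟩, then the sum equals ⟨χ, χ⟩ and every ⟨τ₁(χ − ψ), α⟩ with α ∈ R χ is 0 or 1. -/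
theorem result {L : Type*} [Group L] [Fintype L] {G : Type*} [Group G] [Fintype G] (S : Set (L → ℂ)) (τ : (L → ℂ) → (G → ℂ)) (R : (L → ℂ) → Finset (G → ℂ)) (hS : Cfsg.IsCoherenceSystem S τ R) (χ : L → ℂ) (hχ : χ ∈ S) (ψ : L → ℂ) (hψ : ψ ∈ Cfsg.zspan S) (h1 : Cfsg.classInner χ ψ = 0) (h2 : Cfsg.classInner (Cfsg.conjFun χ) ψ = 0) (τ₁ : (L → ℂ) → (G → ℂ)) (hτ₁ : Cfsg.IsLinearIsometryOn (Cfsg.zspan {χ - ψ, χ - Cfsg.conjFun χ}) τ₁) (hagree : ∀ n : ℤ, τ₁ (n • (χ - Cfsg.conjFun χ)) = τ (n • (χ - Cfsg.conjFun χ))) : (Cfsg.classInner χ χ).re ≤ ∑ α ∈ R χ, ‖Cfsg.classInner (τ₁ (χ - ψ)) α‖ ^ 2 ∧ ((Cfsg.classInner ψ ψ).re ≤ (Cfsg.classInner (τ₁ (χ - ψ)) (τ₁ (χ - ψ))).re - ∑ α ∈ R χ, ‖Cfsg.classInner (τ₁ (χ - ψ)) α‖ ^ 2 → (∑ α ∈ R χ, ‖Cfsg.classInner (τ₁ (χ - ψ)) α‖ ^ 2 = (Cfsg.classInner χ χ).re ∧ ∀ α ∈ R χ, Cfsg.classInner (τ₁ (χ - ψ)) α = 0 ∨ Cfsg.classInner (τ₁ (χ - ψ)) α = 1)) := by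
  classical
  have : Fintype (IrrCharacter G) := Fintype.ofFinite _
  have : Fintype (IrrCharacter L) := Fintype.ofFinite _
  obtain ⟨_, _, hinner, hgen⟩ := hτ₁
  have hm1 : (χ - ψ) ∈ Cfsg.zspan {χ - ψ, χ - Cfsg.conjFun χ} :=
    Submodule.subset_span (Set.mem_insert _ _)
  have hm2 : (χ - Cfsg.conjFun χ) ∈ Cfsg.zspan {χ - ψ, χ - Cfsg.conjFun χ} :=
    Submodule.subset_span (Set.mem_insert_of_mem _ (Set.mem_singleton _))
  set β := τ₁ (χ - ψ) with hβ
  have hβgen : Cfsg.IsGeneralizedCharacter G β := hgen _ hm1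
  -- the inner products are integers
  have hk : ∀ α ∈ R χ, ∃ k : ℤ, Cfsg.classInner β α = k := fun α hα =>
    IsGeneralizedCharacter.classInner_int hβgen (hS.virtual χ hχ α hα)
  choose! k hk using hk
  -- the norm of χ is a natural number
  obtain ⟨n, hn⟩ := IsCharacter.classInner_nat (hS.isCharacter χ hχ) (hS.isCharacter χ hχ)
  -- orthogonality facts
  have hcc : Cfsg.classInner χ (Cfsg.conjFun χ) = 0 :=
    hS.orthogonal χ hχ _ (hS.conj_mem χ hχ) (Ne.symm (hS.conj_ne χ hχ))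
  have hψχ : Cfsg.classInner ψ χ = 0 := by
    rw [← classInner_conj_symm, h1, map_zero]
  have hψc : Cfsg.classInner ψ (Cfsg.conjFun χ) = 0 := by
    rw [← classInner_conj_symm, h2, map_zero]
  -- the sum of the inner products
  have hagree1 : τ₁ (χ - Cfsg.conjFun χ) = τ (χ - Cfsg.conjFun χ) := by
    have := hagree 1
    rwa [one_smul] at this
  have hsum : ∑ α ∈ R χ, (k α : ℂ) = n := by
    have e1 : ∑ α ∈ R χ, (k α : ℂ) = Cfsg.classInner β (∑ α ∈ R χ, α) := by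
      rw [classInner_sum_right]
      exact Finset.sum_congr rfl (fun α hα => (hk α hα).symm)
    rw [e1, ← hS.sum_eq χ hχ, ← hagree1, hβ, hinner _ hm1 _ hm2, classInner_sub_left,
      classInner_sub_right, classInner_sub_right, hcc, hψχ, hψc, hn]
    ring
  have hsumZ : ∑ α ∈ R χ, k α = n := by exact_mod_cast hsum
  have hnorm : ∀ α ∈ R χ, ‖Cfsg.classInner β α‖ ^ 2 = ((k α : ℤ) : ℝ) ^ 2 := by
    intro α hα
    rw [hk α hα, Complex.norm_intCast, sq_abs]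
  have hsq : ∑ α ∈ R χ, ‖Cfsg.classInner β α‖ ^ 2 = ((∑ α ∈ R χ, k α ^ 2 : ℤ) : ℝ) := by
    rw [Finset.sum_congr rfl hnorm]
    push_cast
    rfl
  have hre : (Cfsg.classInner χ χ).re = ((n : ℤ) : ℝ) := by
    rw [hn]; simp
  have hge : (n : ℤ) ≤ ∑ α ∈ R χ, k α ^ 2 := by
    rw [← hsumZ]
    exact Finset.sum_le_sum (fun α _ => Int.le_self_sq (k α))
  refine ⟨?_, ?_⟩
  · rw [hsq, hre]
    exact_mod_cast hge
  · intro hle
    have hββ : Cfsg.classInner β β = n + Cfsg.classInner ψ ψ := by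
      rw [hβ, hinner _ hm1 _ hm1, classInner_sub_left, classInner_sub_right, classInner_sub_right,
        h1, hψχ, hn]
      ring
    rw [hββ, hsq] at hle
    simp only [Complex.add_re, Complex.natCast_re] at hle
    have hle' : ((∑ α ∈ R χ, k α ^ 2 : ℤ) : ℝ) ≤ ((n : ℤ) : ℝ) := by
      push_cast at hle ⊢
      linarith
    have hle'' : ∑ α ∈ R χ, k α ^ 2 ≤ (n : ℤ) := by exact_mod_cast hle'
    have heq : ∑ α ∈ R χ, k α ^ 2 = (n : ℤ) := le_antisymm hle'' hge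
    refine ⟨?_, ?_⟩
    · rw [hsq, hre, heq]
    · intro α hα
      have h3 : ∑ α ∈ R χ, (k α ^ 2 - k α) = 0 := by
        rw [Finset.sum_sub_distrib, heq, hsumZ, sub_self]
      have h4 := (Finset.sum_eq_zero_iff_of_nonneg
        (fun α _ => sub_nonneg.mpr (Int.le_self_sq (k α)))).mp h3 α hα
      have h5 : k α = 0 ∨ k α = 1 := by
        have : k α * (k α - 1) = 0 := by nlinarith
        rcases mul_eq_zero.mp this with h | h
        · left; exact h
        · right; omega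
      rw [hk α hα]
      rcases h5 with h | h
      · left; rw [h]; simp
      · right; rw [h]; simp

end Cfsg.Agent.S1515
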