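import Cfsg.Statements.S1525
import Cfsg.Agent.Helper8.Dade

set_option autoImplicit false
open Cfsg

namespace Cfsg.Agent.S1525

open scoped ComplexConjugate
open Cfsg.Agent.Helper8

theorem finsum_mem_eq_sum_ite' {X M : Type*} [Fintype X] [AddCommMonoid M] (S : Set X)
    [DecidablePred (· ∈ S)] (f : X → M) :
    ∑ᶠ u ∈ S, f u = ∑ u : X, if u ∈ S then f u else 0 := by
  rw [finsum_mem_eq_finite_toFinset_sum f (Set.toFinite S), ← Finset.sum_filter]
  apply Finset.sum_congr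
  · ext x; simp
  · intro x _; rfl

open Classical in
/-- real form of the Dade counting formula -/
theorem dade_sum_formula_real {G : Type*} [Group G] [Fintype G] {A : Set G} {L : Subgroup G}
    {H : G → Subgroup G} (hD : Cfsg.DadeHypothesis A L H) (F : G → ℝ)
    (hF : ∀ g h : G, F (h * g * h⁻¹) = F g) :
    (Nat.card L : ℝ) * ∑ g : G,
        (if (∃ a ∈ A, ∃ u ∈ H a, ∃ x : G, x * g * x⁻¹ = a * u) then F g else 0)
      = (Nat.card G : ℝ) * ∑ a : G,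
          if a ∈ A then (Nat.card (H a) : ℝ)⁻¹ * ∑ u : G, (if u ∈ H a then F (a * u) else 0)
          else 0 := by
  have := dade_sum_formula hD (fun g => (F g : ℂ)) (by
    intro g h
    simp only [hF g h])
  apply Complex.ofReal_injective
  simp only [Complex.ofReal_mul, Complex.ofReal_sum, apply_ite Complex.ofReal, Complex.ofReal_zero,
    Complex.ofReal_inv, Complex.ofReal_natCast]
  exact this

/-- the Cauchy–Schwarz step -/
theorem norm_avg_sq_le {ι : Type*} (s : Finset ι) (hs : s.Nonempty) (z : ι → ℂ) :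
    ‖(s.card : ℂ)⁻¹ * ∑ i ∈ s, z i‖ ^ 2 ≤ (s.card : ℝ)⁻¹ * ∑ i ∈ s, ‖z i‖ ^ 2 := by
  have hpos : (0 : ℝ) < s.card := by exact_mod_cast hs.card_pos
  rw [norm_mul, norm_inv, Complex.norm_natCast, mul_pow]
  have h1 : ‖∑ i ∈ s, z i‖ ^ 2 ≤ (s.card : ℝ) * ∑ i ∈ s, ‖z i‖ ^ 2 := by
    calc ‖∑ i ∈ s, z i‖ ^ 2 ≤ (∑ i ∈ s, ‖z i‖) ^ 2 := by
          apply pow_le_pow_left₀ (norm_nonneg _) (norm_sum_le _ _)
      _ ≤ (s.card : ℝ) * ∑ i ∈ s, ‖z i‖ ^ 2 := sq_sum_le_card_mul_sum_sq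
  calc ((s.card : ℝ)⁻¹) ^ 2 * ‖∑ i ∈ s, z i‖ ^ 2
      ≤ ((s.card : ℝ)⁻¹) ^ 2 * ((s.card : ℝ) * ∑ i ∈ s, ‖z i‖ ^ 2) :=
        mul_le_mul_of_nonneg_left h1 (sq_nonneg _)
    _ = (s.card : ℝ)⁻¹ * ∑ i ∈ s, ‖z i‖ ^ 2 := by
        field_simp

/-- Under the Dade hypothesis for (A, L, H), let χ be a class function of G and let ψ be a function on L whose value at each a ∈ A is the average of χ over the coset a·H(a). Then (1/|G|) Σ |χ g|² over the elements g of G conjugate into some coset a·H(a) with a ∈ A is at least (1/|L|) Σ_{a ∈ A ∩ L} |ψ a|². -/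
theorem result {G : Type*} [Group G] [Fintype G] (A : Set G) (L : Subgroup G) [Fintype L] (H : G → Subgroup G) (hD : Cfsg.DadeHypothesis A L H) (χ : G → ℂ) (hχ : Cfsg.IsClassFunction G χ) (ψ : L → ℂ) (hψ : ∀ a : L, (a : G) ∈ A → ψ a = (Nat.card (H a) : ℂ)⁻¹ * ∑ᶠ u ∈ (H a : Set G), χ (a * u)) : (Nat.card L : ℝ)⁻¹ * ∑ᶠ a ∈ {a : L | (a : G) ∈ A}, ‖ψ a‖ ^ 2 ≤ (Nat.card G : ℝ)⁻¹ * ∑ᶠ g ∈ {g : G | ∃ a ∈ A, ∃ u ∈ H a, ∃ x : G, x * g * x⁻¹ = a * u}, ‖χ g‖ ^ 2 := by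
  classical
  rw [finsum_mem_eq_sum_ite', finsum_mem_eq_sum_ite']
  simp only [Set.mem_ofPred_eq]
  have hform := dade_sum_formula_real hD (fun g => ‖χ g‖ ^ 2) (by
    intro g h
    simp only [hχ g h])
  have hG : (0 : ℝ) < Nat.card G := by exact_mod_cast Nat.card_pos
  have hL : (0 : ℝ) < Nat.card L := by exact_mod_cast Nat.card_pos
  -- rewrite the right hand side
  have hR : (Nat.card G : ℝ)⁻¹ * ∑ g : G,
      (if (∃ a ∈ A, ∃ u ∈ H a, ∃ x : G, x * g * x⁻¹ = a * u) then ‖χ g‖ ^ 2 else 0)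
      = (Nat.card L : ℝ)⁻¹ * ∑ a : G,
          if a ∈ A then (Nat.card (H a) : ℝ)⁻¹ * ∑ u : G, (if u ∈ H a then ‖χ (a * u)‖ ^ 2 else 0)
          else 0 := by
    have h1 : ∑ g : G,
        (if (∃ a ∈ A, ∃ u ∈ H a, ∃ x : G, x * g * x⁻¹ = a * u) then ‖χ g‖ ^ 2 else 0)
        = (Nat.card L : ℝ)⁻¹ * ((Nat.card G : ℝ) * ∑ a : G,
          if a ∈ A then (Nat.card (H a) : ℝ)⁻¹ * ∑ u : G, (if u ∈ H a then ‖χ (a * u)‖ ^ 2 else 0)
          else 0) := by
      rw [← hform, ← mul_assoc, inv_mul_cancel₀ hL.ne', one_mul]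
    rw [h1, ← mul_assoc, ← mul_assoc, mul_comm ((Nat.card G : ℝ)⁻¹),
      mul_assoc ((Nat.card L : ℝ)⁻¹), inv_mul_cancel₀ hG.ne', mul_one]
  rw [hR]
  apply mul_le_mul_of_nonneg_left _ (inv_nonneg.mpr hL.le)
  -- move the right hand sum to `L`
  have hsub : ∑ a : G,
      (if a ∈ A then (Nat.card (H a) : ℝ)⁻¹ * ∑ u : G, (if u ∈ H a then ‖χ (a * u)‖ ^ 2 else 0)
        else 0)
      = ∑ a : L, (if (a : G) ∈ A then (Nat.card (H a) : ℝ)⁻¹ *
          ∑ u : G, (if u ∈ H (a : G) then ‖χ ((a : G) * u)‖ ^ 2 else 0) else 0) := by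
    rw [← Finset.sum_subtype (Finset.univ.filter (fun a : G => a ∈ L)) (by simp)
      (fun a : G => if a ∈ A then (Nat.card (H a) : ℝ)⁻¹ *
          ∑ u : G, (if u ∈ H a then ‖χ (a * u)‖ ^ 2 else 0) else 0)]
    rw [Finset.sum_filter]
    apply Finset.sum_congr rfl
    intro a _
    by_cases haL : a ∈ L
    · rw [if_pos haL]
    · rw [if_neg haL, if_neg (fun ha => haL (hD.subset ha))]
  rw [hsub]
  apply Finset.sum_le_sum
  intro a _
  by_cases ha : (a : G) ∈ A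
  · rw [if_pos ha, if_pos ha, hψ a ha, finsum_mem_eq_sum_ite]
    have hne : (Finset.univ.filter (fun u : G => u ∈ H (a : G))).Nonempty :=
      ⟨1, by simp⟩
    have hcard : (Finset.univ.filter (fun u : G => u ∈ H (a : G))).card = Nat.card (H (a : G)) := by
      rw [Nat.card_eq_fintype_card, Fintype.card_subtype]
    have := norm_avg_sq_le (Finset.univ.filter (fun u : G => u ∈ H (a : G))) hne
      (fun u => χ ((a : G) * u))
    rw [hcard] at this
    have e1 : (∑ u : G, if u ∈ ((H (a : G) : Subgroup G) : Set G) then χ ((a : G) * u) else 0)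
        = ∑ u ∈ Finset.univ.filter (fun u : G => u ∈ H (a : G)), χ ((a : G) * u) := by
      rw [Finset.sum_filter]
      apply Finset.sum_congr rfl
      intro u _
      by_cases hu : u ∈ H (a : G)
      · rw [if_pos hu, if_pos (by exact hu)]
      · rw [if_neg hu, if_neg (by exact hu)]
    have e2 : (∑ u : G, if u ∈ H (a : G) then ‖χ ((a : G) * u)‖ ^ 2 else 0)
        = ∑ u ∈ Finset.univ.filter (fun u : G => u ∈ H (a : G)), ‖χ ((a : G) * u)‖ ^ 2 := by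
      rw [Finset.sum_filter]
    rw [e1, e2]
    exact this
  · rw [if_neg ha, if_neg ha]

end Cfsg.Agent.S1525
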