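import Cfsg.Statements.S1527
import Cfsg.Agent.Helper8.TI
import Cfsg.Agent.Helper8.Basic

set_option autoImplicit false
open Cfsg

namespace Cfsg.Agent.S1527

open Cfsg.Agent.Helper8

theorem card_ne_one {G : Type*} [Group G] [Finite G] (K : Subgroup G) :
    Nat.card {h : G // h ∈ (K : Set G) ∧ h ≠ 1} = Nat.card K - 1 := by
  classical
  have e : {h : G // h ∈ (K : Set G) ∧ h ≠ 1} ≃ {k : K // k ≠ 1} :=
    { toFun := fun h => ⟨⟨h.1, h.2.1⟩, fun hh => h.2.2 (congrArg Subtype.val hh)⟩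
      invFun := fun k => ⟨k.1.1, k.1.2, fun hh => k.2 (Subtype.ext hh)⟩
      left_inv := fun _ => rfl
      right_inv := fun _ => rfl }
  rw [Nat.card_congr e]
  have := Fintype.ofFinite K
  rw [Nat.card_eq_fintype_card, Fintype.card_subtype_compl, Fintype.card_subtype_eq, Nat.card_eq_fintype_card]

theorem result {G : Type*} [Group G] [Finite G] {ι : Type*} [Fintype ι] (H : ι → Subgroup G) (hcop : ∀ i j, i ≠ j → Nat.Coprime (Nat.card (H i)) (Nat.card (H j))) (hTI : ∀ i, Cfsg.IsTISubset (H i : Set G)) (hcover : ∀ g : G, g ≠ 1 → ∃ i, ∃ x : G, x * g * x⁻¹ ∈ H i) : Nat.card G - 1 = ∑ i, (Subgroup.normalizer (H i : Set G)).index * (Nat.card (H i) - 1) := by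
  classical
  -- cardinality of each piece
  have hU : ∀ i, Nat.card {g : G // g ≠ 1 ∧ ∃ x : G, x * g * x⁻¹ ∈ (H i : Set G)}
      = (Subgroup.normalizer (H i : Set G)).index * (Nat.card (H i) - 1) := by
    intro i
    have h1 := ti_card (H i : Set G) (hTI i)
    rw [card_ne_one] at h1
    have h2 := Subgroup.card_mul_index (Subgroup.normalizer (H i : Set G))
    have hpos : 0 < Nat.card (Subgroup.normalizer (H i : Set G)) := Nat.card_pos
    apply Nat.eq_of_mul_eq_mul_right hpos
    rw [h1, ← h2]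
    ring
  simp_rw [← hU]
  rw [← Nat.card_sigma]
  have hG : Nat.card {g : G // g ≠ 1} = Nat.card G - 1 := by
    have := Fintype.ofFinite G
    rw [Nat.card_eq_fintype_card, Fintype.card_subtype_compl, Fintype.card_subtype_eq, Nat.card_eq_fintype_card]
  rw [← hG]
  symm
  apply Nat.card_congr
  refine Equiv.ofBijective (fun p => ⟨p.2.1, p.2.2.1⟩) ⟨?_, ?_⟩
  · rintro ⟨i, ⟨g, hg1, x, hx⟩⟩ ⟨j, ⟨g', hg1', y, hy⟩⟩ h
    have hgg : g = g' := congrArg Subtype.val h
    subst hgg
    have hij : i = j := by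
      by_contra hne
      have hc := hcop i j hne
      have ho1 : orderOf g ∣ Nat.card (H i) := by
        have : orderOf (x * g * x⁻¹) = orderOf g := orderOf_conj_eq x g
        rw [← this]
        have := orderOf_dvd_natCard (⟨x * g * x⁻¹, hx⟩ : H i)
        rwa [Subgroup.orderOf_mk] at this
      have ho2 : orderOf g ∣ Nat.card (H j) := by
        have : orderOf (y * g * y⁻¹) = orderOf g := orderOf_conj_eq y g
        rw [← this]
        have := orderOf_dvd_natCard (⟨y * g * y⁻¹, hy⟩ : H j)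
        rwa [Subgroup.orderOf_mk] at this
      have : orderOf g = 1 := Nat.eq_one_of_dvd_coprimes hc ho1 ho2
      exact hg1 (orderOf_eq_one_iff.mp this)
    subst hij
    rfl
  · rintro ⟨g, hg⟩
    obtain ⟨i, x, hx⟩ := hcover g hg
    exact ⟨⟨i, ⟨g, hg, x, hx⟩⟩, rfl⟩

end Cfsg.Agent.S1527
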