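import Cfsg.Statements.S1528
import Cfsg.Agent.Helper8.Brauer
import Cfsg.Agent.Helper24.Induced

set_option autoImplicit false
open Cfsg

namespace Cfsg.Agent.S1528

open scoped ComplexConjugate
open Cfsg.Agent.Helper8

/-- Under the Frobenius-kernel type hypothesis, an element outside `N` fixes only the principal
irreducible character of `N`. -/
theorem fixed_eq_triv {G : Type*} [Group G] [Fintype G] (N : Subgroup G) [hN : N.Normal]
    (hC : ∀ n ∈ N, n ≠ 1 → Subgroup.centralizer ({n} : Set G) ≤ N) (x : G) (hx : x ∉ N)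
    (φ : Cfsg.IrrCharacter N) (hφ : conjChar N (φ : N → ℂ) x = (φ : N → ℂ)) :
    φ = Cfsg.Agent.Helper24.trivIrr N := by
  classical
  have : Fintype N := Fintype.ofFinite N
  have hcount := card_fixed_irr N x
  have hsum : ∑ n : N,
      (if IsConj (⟨x * n * x⁻¹, hN.conj_mem n n.2 x⟩ : N) n then
        (Nat.card (Subgroup.centralizer
          ({(⟨x * n * x⁻¹, hN.conj_mem n n.2 x⟩ : N)} : Set N)) : ℂ) else 0)
      = (Nat.card N : ℂ) := by
    rw [Finset.sum_eq_single (1 : N)]
    · have e : (⟨x * ((1 : N) : G) * x⁻¹, hN.conj_mem _ (1 : N).2 x⟩ : N) = 1 := by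
        apply Subtype.ext; simp
      rw [e, if_pos (IsConj.refl 1)]
      have : Subgroup.centralizer ({(1 : N)} : Set N) = ⊤ := by
        ext y
        simp [Subgroup.mem_centralizer_iff]
      rw [this, Subgroup.card_top]
    · intro n _ hn
      rw [if_neg]
      intro hconj
      rw [isConj_iff] at hconj
      obtain ⟨c, hc⟩ := hconj
      apply hx
      have hn1 : (n : G) ≠ 1 := fun h => hn (Subtype.ext h)
      have hcx : (c : G) * x ∈ Subgroup.centralizer ({(n : G)} : Set G) := by
        rw [Subgroup.mem_centralizer_singleton_iff]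
        have := congrArg Subtype.val hc
        simp only [Subgroup.coe_mul, Subgroup.coe_inv] at this
        calc (c : G) * x * n = (c * (x * n * x⁻¹) * (c : G)⁻¹) * (c * x) := by group
          _ = n * (c * x) := by rw [this]
      have := hC n n.2 hn1 hcx
      have h2 := N.mul_mem (N.inv_mem c.2) this
      simpa using h2
    · intro h; exact absurd (Finset.mem_univ _) h
  rw [hsum] at hcount
  have hN0 : (Nat.card N : ℂ) ≠ 0 := Nat.cast_ne_zero.mpr Nat.card_pos.ne'
  rw [inv_mul_cancel₀ hN0] at hcount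
  have hcard : Nat.card {φ : Cfsg.IrrCharacter N // conjChar N (φ : N → ℂ) x = (φ : N → ℂ)} = 1 := by
    exact_mod_cast hcount
  have hsub : Subsingleton {φ : Cfsg.IrrCharacter N // conjChar N (φ : N → ℂ) x = (φ : N → ℂ)} := by
    have hfin : Finite {φ : Cfsg.IrrCharacter N // conjChar N (φ : N → ℂ) x = (φ : N → ℂ)} :=
      Nat.finite_of_card_ne_zero (by rw [hcard]; exact one_ne_zero)
    exact (Nat.card_eq_one_iff_unique.mp hcard).1
  have htriv : conjChar N ((Cfsg.Agent.Helper24.trivIrr N : Cfsg.IrrCharacter N) : N → ℂ) x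
      = ((Cfsg.Agent.Helper24.trivIrr N : Cfsg.IrrCharacter N) : N → ℂ) := by
    funext n
    rfl
  have := hsub.elim ⟨φ, hφ⟩ ⟨Cfsg.Agent.Helper24.trivIrr N, htriv⟩
  exact congrArg Subtype.val this

/-- Let N be a normal subgroup of the finite group G such that every element of G commuting with a non-identity element of N lies in N. If χ is an irreducible character of G with χ n ≠ χ 1 for some n ∈ N, then χ is the function induced from some irreducible character of N. -/
theorem result {G : Type*} [Group G] [Fintype G] (N : Subgroup G) [N.Normal] (hC : ∀ n ∈ N, n ≠ 1 → Subgroup.centralizer ({n} : Set G) ≤ N) (χ : G → ℂ) (hχ : Cfsg.IsIrrCharacter G χ) (hker : ∃ n ∈ N, χ n ≠ χ 1) : ∃ φ : N → ℂ, Cfsg.IsIrrCharacter N φ ∧ χ = Cfsg.indFun N φ := by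
  classical
  have hN : N.Normal := inferInstance
  have : Fintype N := Fintype.ofFinite N
  have : Fintype (Cfsg.IrrCharacter N) := Fintype.ofFinite _
  have : Fintype (Cfsg.IrrCharacter G) := Fintype.ofFinite _
  have hχc : Cfsg.IsCharacter G χ := Cfsg.Agent.Helper24.IsIrrCharacter.isCharacter hχ
  have hres : Cfsg.IsCharacter N (fun n : N => χ n) := isCharacter_restrict N hχc
  -- a non-principal constituent of the restriction
  have hex : ∃ φ : Cfsg.IrrCharacter N, φ ≠ Cfsg.Agent.Helper24.trivIrr N ∧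
      Cfsg.classInner (fun n : N => χ n) (φ : N → ℂ) ≠ 0 := by
    by_contra hcon
    push Not at hcon
    have hexp := Cfsg.Agent.Helper24.IsCharacter.eq_sum_classInner hres
    rw [Finset.sum_eq_single (Cfsg.Agent.Helper24.trivIrr N)] at hexp
    · obtain ⟨n, hn, hne⟩ := hker
      apply hne
      have h1 := congrFun hexp ⟨n, hn⟩
      have h2 := congrFun hexp 1
      simp only [Pi.smul_apply, Cfsg.Agent.Helper24.trivIrr_apply, smul_eq_mul, mul_one] at h1 h2
      rw [h1]
      exact h2.symm
    · intro φ _ hφ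
      rw [hcon φ hφ, zero_smul]
    · intro h; exact absurd (Finset.mem_univ _) h
  obtain ⟨φ, hφ1, hφ2⟩ := hex
  -- the stabiliser of φ is N
  have hstab : ∀ g : G, (∀ h : N, (φ : N → ℂ) ⟨g * h * g⁻¹, hN.conj_mem h h.2 g⟩ = (φ : N → ℂ) h)
      ↔ g ∈ N := by
    intro g
    constructor
    · intro h
      by_contra hg
      exact hφ1 (fixed_eq_triv N hC g hg φ (funext h))
    · intro hg h
      have hcl := Cfsg.Agent.Helper24.IsCharacter.isClassFunction
        (Cfsg.Agent.Helper24.IsIrrCharacter.isCharacter φ.2)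
      have := hcl h ⟨g, hg⟩
      convert this using 2
      apply Subtype.ext
      simp
  have hnorm : Cfsg.classInner (Cfsg.indFun N (φ : N → ℂ)) (Cfsg.indFun N (φ : N → ℂ)) = 1 := by
    have h1 := card_mul_classInner_indFun_self N (φ : N → ℂ) φ.2
    have h2 : Nat.card {g : G // ∀ h : N,
        (φ : N → ℂ) ⟨g * h * g⁻¹, hN.conj_mem h h.2 g⟩ = (φ : N → ℂ) h} = Nat.card N :=
      Nat.card_congr (Equiv.subtypeEquivRight hstab)
    rw [h2] at h1
    have hN0 : (Nat.card N : ℂ) ≠ 0 := Nat.cast_ne_zero.mpr Nat.card_pos.ne'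
    exact mul_left_cancel₀ hN0 (by rw [h1, mul_one])
  have hirr : Cfsg.IsIrrCharacter G (Cfsg.indFun N (φ : N → ℂ)) :=
    Cfsg.Agent.Helper24.isIrrCharacter_iff_classInner_self.mpr
      ⟨Cfsg.Agent.Helper24.isCharacter_indFun N (Cfsg.Agent.Helper24.IsIrrCharacter.isCharacter φ.2),
        hnorm⟩
  refine ⟨φ, φ.2, ?_⟩
  by_contra hne
  have h1 := Cfsg.Agent.Helper23.classInner_irrCharacter _ _ hirr hχ
  rw [if_neg (fun h => hne h.symm),
    frobenius_reciprocity N _ χ (Cfsg.Agent.Helper24.IsCharacter.isClassFunction hχc)] at h1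
  apply hφ2
  rw [classInner_conj_symm, h1, map_zero]

end Cfsg.Agent.S1528
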