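import Cfsg.Statements.S1536
import Cfsg.Agent.Helper8.Inertia
import Cfsg.Agent.Helper24.Linear

set_option autoImplicit false
open Cfsg

namespace Cfsg.Agent.S1536

open Cfsg.Agent.Helper8

/-- Let H be a normal subgroup of the finite group M whose order is coprime to its index. For x ∈ M: some non-principal irreducible character of H is unchanged under h ↦ θ(x h x⁻¹) if and only if some non-identity element of H commutes with x. -/
theorem result {M : Type*} [Group M] [Finite M] (H : Subgroup M) [hN : H.Normal] (hHall : Nat.Coprime (Nat.card H) H.index) (x : M) : (∃ θ : H → ℂ, Cfsg.IsIrrCharacter H θ ∧ θ ≠ (fun _ => 1) ∧ (fun h : H => θ ⟨x * h * x⁻¹, hN.conj_mem h h.2 x⟩) = θ) ↔ ∃ h ∈ H, h ≠ 1 ∧ x * h = h * x := by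
  classical
  have fI : Finite (Cfsg.IrrCharacter H) := inferInstance
  have hαapp : ∀ k : H, (MulAut.conjNormal x : H ≃* H) k = ⟨x * k * x⁻¹, hN.conj_mem k k.2 x⟩ := by
    intro k
    apply Subtype.ext
    exact MulAut.conjNormal_apply x k
  constructor
  · rintro ⟨θ, hθ, hθ1, hθx⟩
    by_cases hxj : x ^ H.index = 1
    · -- the order of x is coprime to |H|
      have hcop : (orderOf x).Coprime (Nat.card H) :=
        Nat.Coprime.coprime_dvd_left (orderOf_dvd_of_pow_eq_one hxj) hHall.symm
      have hcard := card_fixed_irr_coprime H x hcop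
      have h2 : 1 < Nat.card {θ' : Cfsg.IrrCharacter H // x ∈ inertia H (θ' : H → ℂ)} := by
        rw [Finite.one_lt_card_iff_nontrivial]
        refine ⟨⟨⟨⟨θ, hθ⟩, ?_⟩, ⟨⟨fun _ => 1, Cfsg.Agent.Helper24.isIrrCharacter_const_one⟩, ?_⟩, ?_⟩⟩
        · rw [mem_inertia_iff_fun]; exact hθx
        · rw [mem_inertia_iff_fun]
        · intro h
          apply hθ1
          have := congrArg (fun t => (t.1 : H → ℂ)) h
          exact this
      rw [hcard] at h2
      by_contra hcon
      push Not at hcon
      have hsub : Subsingleton ↥(H ⊓ Subgroup.centralizer ({x} : Set M)) := by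
        constructor
        intro a b
        have ha : (a : M) = 1 := by
          by_contra ha1
          have hac : (a : M) ∈ Subgroup.centralizer ({x} : Set M) := a.2.2
          rw [Subgroup.mem_centralizer_iff] at hac
          exact ha1 (by
            by_contra h'
            exact (hcon a a.2.1 h') (hac x rfl))
        have hb : (b : M) = 1 := by
          by_contra hb1
          have hbc : (b : M) ∈ Subgroup.centralizer ({x} : Set M) := b.2.2
          rw [Subgroup.mem_centralizer_iff] at hbc
          exact hb1 (by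
            by_contra h'
            exact (hcon b b.2.1 h') (hbc x rfl))
        exact Subtype.ext (ha.trans hb.symm)
      have hsub2 : Subsingleton (ConjClasses ↥(H ⊓ Subgroup.centralizer ({x} : Set M))) := by
        constructor
        intro a b
        obtain ⟨a', rfl⟩ := ConjClasses.exists_rep a
        obtain ⟨b', rfl⟩ := ConjClasses.exists_rep b
        rw [Subsingleton.elim a' b']
      have := Finite.card_le_one_iff_subsingleton.mpr hsub2
      omega
    · refine ⟨x ^ H.index, ?_, hxj, ?_⟩
      · have h1 : ((x ^ H.index : M) : M ⧸ H) = 1 := by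
          rw [QuotientGroup.mk_pow, Subgroup.index_eq_card]
          exact pow_card_eq_one'
        exact (QuotientGroup.eq_one_iff _).mp h1
      · rw [← pow_succ', ← pow_succ]
  · rintro ⟨h, hh, hh1, hxh⟩
    have hB := Cfsg.Agent.Helper24.card_fixed_conjClasses_eq_card_fixed_irr
      (MulAut.conjNormal x : H ≃* H)
    have h2 : 1 < Nat.card {C : ConjClasses H //
        ConjClasses.map (MulAut.conjNormal x : H ≃* H).toMonoidHom C = C} := by
      rw [Finite.one_lt_card_iff_nontrivial]
      refine ⟨⟨⟨ConjClasses.mk 1, ?_⟩, ⟨ConjClasses.mk ⟨h, hh⟩, ?_⟩, ?_⟩⟩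
      · show ConjClasses.mk ((MulAut.conjNormal x : H ≃* H) 1) = ConjClasses.mk 1
        rw [map_one]
      · show ConjClasses.mk ((MulAut.conjNormal x : H ≃* H) ⟨h, hh⟩) = ConjClasses.mk ⟨h, hh⟩
        congr 1
        rw [hαapp]
        apply Subtype.ext
        show x * h * x⁻¹ = h
        rw [hxh, mul_inv_cancel_right]
      · intro hc
        have h3 := congrArg Subtype.val hc
        simp only at h3
        rw [ConjClasses.mk_eq_mk_iff_isConj, isConj_iff] at h3
        obtain ⟨c, hc'⟩ := h3
        apply hh1
        have : (⟨h, hh⟩ : H) = 1 := by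
          rw [← hc']; group
        exact congrArg Subtype.val this
    rw [hB, Finite.one_lt_card_iff_nontrivial] at h2
    obtain ⟨⟨a, ha⟩, ⟨b, hb⟩, hab⟩ := h2
    have key : ∀ c : Cfsg.IrrCharacter H, (c : H → ℂ) ∘ (MulAut.conjNormal x : H ≃* H) = (c : H → ℂ) →
        (c : H → ℂ) ≠ (fun _ => 1) →
        ∃ θ : H → ℂ, Cfsg.IsIrrCharacter H θ ∧ θ ≠ (fun _ => 1) ∧
          (fun h : H => θ ⟨x * h * x⁻¹, hN.conj_mem h h.2 x⟩) = θ := by
      intro c hc hc1
      refine ⟨c, c.2, hc1, ?_⟩
      rw [← hc]
      funext k
      simp only [Function.comp_apply]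
      rw [hαapp, hαapp]
      have := congrFun hc ⟨x * k * x⁻¹, hN.conj_mem k k.2 x⟩
      simp only [Function.comp_apply] at this
      rw [hαapp] at this
      exact this
    by_cases ha1 : (a : H → ℂ) = fun _ => 1
    · have hb1 : (b : H → ℂ) ≠ fun _ => 1 := by
        intro hb1
        apply hab
        apply Subtype.ext
        apply Subtype.ext
        show (a : H → ℂ) = (b : H → ℂ)
        rw [ha1, hb1]
      exact key b hb hb1
    · exact key a ha ha1

end Cfsg.Agent.S1536
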