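import Cfsg.Statements.S1538
import Cfsg.Agent.Helper25.TypeII
import Cfsg.Agent.S1350
import Cfsg.Agent.S1351
import Cfsg.Agent.S1352
import Cfsg.Agent.S1354
import Cfsg.Agent.S1355
import Cfsg.Agent.S1357
import Cfsg.Agent.S1362
import Cfsg.Agent.S1363
import Cfsg.Agent.S1364
import Cfsg.Agent.S1365
import Cfsg.Agent.S1371
import Cfsg.Agent.S1372

set_option autoImplicit false
open Cfsg

namespace Cfsg.Agent.S1538

/-- Let G be a minimal simple group of odd order and M a maximal subgroup of Type II. Then each of A₀(M), A(M), A₁(M) is a TI-subset of G whose set normaliser is M. -/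
theorem result {G : Type*} [Group G] [Finite G] (hG : Cfsg.IsMinSimpleOddOrder G) (M : Subgroup G) (hM : IsCoatom M) (hII : Cfsg.IsOfTypeII M) : (Cfsg.IsTISubset (Cfsg.typeA0 M) ∧ Subgroup.normalizer (Cfsg.typeA0 M) = M) ∧ (Cfsg.IsTISubset (Cfsg.typeA M) ∧ Subgroup.normalizer (Cfsg.typeA M) = M) ∧ (Cfsg.IsTISubset (Cfsg.typeA1 M) ∧ Subgroup.normalizer (Cfsg.typeA1 M) = M) := by
  have : IsSimpleGroup G := hG.2.1
  have h1350 : Cfsg.Agent.Helper20.BG16T.St1350 G := fun M hM => Cfsg.Agent.S1350.result hG M hM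
  have h1351 : Cfsg.Agent.Helper20.BG16T.St1351 G := fun M hM => Cfsg.Agent.S1351.result hG M hM
  have h1352 : Cfsg.Agent.Helper20.BG16T.St1352 G :=
    fun M hM K hKc hK => Cfsg.Agent.S1352.result hG M hM K hKc hK
  have h1355 : Cfsg.Agent.Helper20.BG16T.St1355 G := fun M hM => Cfsg.Agent.S1355.result hG M hM
  have h1357 : Cfsg.Agent.Helper20.BG16T.St1357 G :=
    fun M hM K U hKU hne => Cfsg.Agent.S1357.result hG M hM K U hKU hne
  have h1363 : Cfsg.Agent.Helper20.BG16T.St1363 G :=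
    fun M hM K U hKU hK1 => Cfsg.Agent.S1363.result hG M hM K U hKU hK1
  have h1364 : Cfsg.Agent.Helper20.BG16T.St1364 G :=
    fun M hM K U hKU hK1 => Cfsg.Agent.S1364.result hG M hM K U hKU hK1
  have h1365 : Cfsg.Agent.Helper20.BG16T.St1365 G :=
    fun M hM K U hKU hK1 => Cfsg.Agent.S1365.result hG M hM K U hKU hK1
  obtain ⟨K, U, hKU⟩ := Cfsg.Agent.Helper20.BG16T.exists_decomp h1351 h1352 hM
  obtain ⟨hK1, hU1⟩ := Cfsg.Agent.Helper20.BG16T.ne_bot_of_typeII h1350 h1355 h1365 hM hKU hII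
  have hFσ := Cfsg.Agent.Helper20.BG16T.fittingHallOf_eq_of_U_ne_bot h1357 hM hKU hU1
  have hnotI : ¬ Cfsg.IsOfTypeI M :=
    fun h => hK1 (Cfsg.Agent.Helper20.BG16T.typeF_K_eq_bot h1355 h1364 hM hKU h.1)
  have hnot34 : ¬ (Cfsg.IsOfTypeIII M ∨ Cfsg.IsOfTypeIV M) := fun h =>
    hU1 (Cfsg.Agent.Helper20.BG16T.eq_bot_of_typeIII_IV hG h1350 h1355 h1357 h1363 h1365 hM hKU h).2.1
  have hcore : Cfsg.typeCore M = Cfsg.sigmaCore M := by
    unfold Cfsg.typeCore
    rw [if_neg hnot34, hFσ]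
  obtain ⟨hF1, hFσle, hσM', -, -⟩ := h1355 M hM
  obtain ⟨hM'eq, -⟩ := h1365 M hM K U hKU hK1
  obtain ⟨-, hTIF, hσF⟩ := Cfsg.Agent.S1372.result hG M hM K U hKU hK1 hU1
  have c : Cfsg.Agent.Helper25.TypeII.Cfg M K U :=
    { hM := hM
      hKU := hKU
      hK1 := hK1
      h1350 := h1350
      hsolv := Cfsg.Agent.Helper20.BG16T.solvable_of_coatom hG hM
      hσM' := hσM'
      hM'eq := hM'eq
      hTIF := hTIF
      hσF := hσF
      hσ1 := by rw [← hFσ]; exact hF1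
      h1354 := (Cfsg.Agent.S1354.result hG M hM K hKU.cyclic hKU.hall).2 hK1
      h1362 := Cfsg.Agent.S1362.result hG M hM K U hKU
      h1371 := Cfsg.Agent.S1371.result hG M hM K U hKU hK1 }
  exact c.typeII_sets hnotI hcore

end Cfsg.Agent.S1538
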