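import Cfsg.Statements.S1546
import Mathlib

set_option autoImplicit false
open Cfsg

namespace Cfsg.Agent.S1546

open Finset

/-- geometric sum modulo `p - 1`-like congruence: if `p ≡ 1 [MOD m]` then `∑_{i<n} p^i ≡ n [MOD m]`. -/
theorem geom_modEq (p n m : ℕ) (h : p ≡ 1 [MOD m]) : (∑ i ∈ range n, p ^ i) ≡ n [MOD m] := by
  have h1 : ∀ i ∈ range n, p ^ i ≡ 1 [MOD m] := by
    intro i _
    have := Nat.ModEq.pow i h
    simpa using this
  have h2 : (∑ i ∈ range n, p ^ i) ≡ ∑ _i ∈ range n, 1 [MOD m] := by
    unfold Nat.ModEq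
    rw [Finset.sum_nat_mod]
    conv_rhs => rw [Finset.sum_nat_mod]
    congr 1
    apply Finset.sum_congr rfl
    intro i hi
    exact h1 i hi
  simpa using h2

theorem result (p q : ℕ) (hp : p.Prime) (hq : q.Prime) (hp2 : p ≠ 2) (hq2 : q ≠ 2) : Odd ((p ^ q - 1) / (p - 1)) ∧ (p % q = 1 → q ∣ (p ^ q - 1) / (p - 1)) ∧ (p % q ≠ 1 → Nat.Coprime ((p ^ q - 1) / (p - 1)) (p - 1) ∧ ∀ x : ℕ, x ∣ (p ^ q - 1) / (p - 1) → x % q = 1) := by
  have hN : (p ^ q - 1) / (p - 1) = ∑ i ∈ range q, p ^ i := (Nat.geomSum_eq hp.two_le q).symm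
  rw [hN]
  have hpodd : Odd p := hp.odd_of_ne_two hp2
  have hqodd : Odd q := hq.odd_of_ne_two hq2
  have hq1 : 1 < q := hq.one_lt
  refine ⟨?_, ?_, ?_⟩
  · -- oddness
    have h2 : p ≡ 1 [MOD 2] := by
      rcases hpodd with ⟨k, hk⟩
      unfold Nat.ModEq; omega
    have := geom_modEq p q 2 h2
    rw [Nat.odd_iff]
    unfold Nat.ModEq at this
    rw [this]
    exact Nat.odd_iff.mp hqodd
  · intro h
    have h2 : p ≡ 1 [MOD q] := by
      unfold Nat.ModEq
      rw [h, Nat.mod_eq_of_lt hq1]
    have := geom_modEq p q q h2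
    exact (Nat.modEq_zero_iff_dvd).mp (this.trans (by simp [Nat.ModEq]))
  · intro hne
    have hpq : ¬ q ∣ p - 1 := by
      intro hd
      apply hne
      have : p ≡ 1 [MOD q] := by
        have h1 : 1 ≤ p := hp.one_lt.le
        exact ((Nat.modEq_iff_dvd' h1).mpr hd).symm
      unfold Nat.ModEq at this
      rw [this, Nat.mod_eq_of_lt hq1]
    constructor
    · -- coprime
      have h1 : p ≡ 1 [MOD (p - 1)] := by
        have h1 : 1 ≤ p := hp.one_lt.le
        exact ((Nat.modEq_iff_dvd' h1).mpr dvd_rfl).symm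
      have h2 := geom_modEq p q (p - 1) h1
      have h3 : Nat.gcd (∑ i ∈ range q, p ^ i) (p - 1) = Nat.gcd q (p - 1) := h2.gcd_eq
      unfold Nat.Coprime
      rw [h3]
      exact (Nat.Prime.coprime_iff_not_dvd hq).mpr hpq
    · -- divisors
      have key : ∀ r : ℕ, r.Prime → r ∣ ∑ i ∈ range q, p ^ i → r % q = 1 := by
        intro r hr hrN
        haveI : Fact r.Prime := ⟨hr⟩
        have hpow : r ∣ p ^ q - 1 := by
          have : (p - 1) * ∑ i ∈ range q, p ^ i = p ^ q - 1 := by
            have := Nat.geomSum_eq hp.two_le q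
            rw [this]
            apply Nat.mul_div_cancel'
            exact Nat.sub_one_dvd_pow_sub_one p q
          rw [← this]
          exact Dvd.dvd.mul_left hrN _
        have hpq1 : ((p : ZMod r)) ^ q = 1 := by
          have h1 : 1 ≤ p ^ q := Nat.one_le_pow _ _ hp.pos
          have : ((p ^ q - 1 : ℕ) : ZMod r) = 0 := (ZMod.natCast_eq_zero_iff _ _).mpr hpow
          rw [Nat.cast_sub h1] at this
          push_cast at this
          exact sub_eq_zero.mp this
        have hord : orderOf (p : ZMod r) ∣ q := orderOf_dvd_of_pow_eq_one hpq1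
        rcases (Nat.dvd_prime hq).mp hord with h1 | h1
        · -- order 1: p = 1 in ZMod r
          exfalso
          have hp1 : (p : ZMod r) = 1 := orderOf_eq_one_iff.mp h1
          have hmod : p ≡ 1 [MOD r] := by
            have : ((p : ℕ) : ZMod r) = ((1 : ℕ) : ZMod r) := by simpa using hp1
            exact (ZMod.natCast_eq_natCast_iff _ _ _).mp this
          have h2 := geom_modEq p q r hmod
          have h3 : r ∣ q := by
            have : (∑ i ∈ range q, p ^ i) ≡ 0 [MOD r] := (Nat.modEq_zero_iff_dvd).mpr hrN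
            exact (Nat.modEq_zero_iff_dvd).mp (h2.symm.trans this)
          have h4 : r = q := (Nat.prime_dvd_prime_iff_eq hr hq).mp h3
          subst h4
          apply hne
          unfold Nat.ModEq at hmod
          rw [hmod, Nat.mod_eq_of_lt hq1]
        · -- order q
          have hpne : (p : ZMod r) ≠ 0 := by
            intro h0
            rw [h0, zero_pow hq.ne_zero] at hpq1
            exact zero_ne_one hpq1
          have hfer : (p : ZMod r) ^ (r - 1) = 1 := ZMod.pow_card_sub_one_eq_one hpne
          have hdvd : q ∣ r - 1 := by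
            rw [← h1]
            exact orderOf_dvd_of_pow_eq_one hfer
          have : r ≡ 1 [MOD q] := by
            have h1' : 1 ≤ r := hr.one_lt.le
            exact ((Nat.modEq_iff_dvd' h1').mpr hdvd).symm
          unfold Nat.ModEq at this
          rw [this, Nat.mod_eq_of_lt hq1]
      intro x hx
      have hx0 : x ≠ 0 := by
        rintro rfl
        have h0 : ∑ i ∈ range q, p ^ i = 0 := Nat.eq_zero_of_zero_dvd hx
        have hpos : 0 < ∑ i ∈ range q, p ^ i := by
          apply Finset.sum_pos
          · intro i _; exact Nat.pow_pos hp.pos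
          · exact ⟨0, by simp [hq.pos]⟩
        omega
      induction x using Nat.recOnMul with
      | zero => exact absurd rfl hx0
      | one => exact Nat.mod_eq_of_lt hq1
      | prime r hr => exact key r hr hx
      | mul a b iha ihb =>
        have ha0 : a ≠ 0 := by rintro rfl; simp at hx0
        have hb0 : b ≠ 0 := by rintro rfl; simp at hx0
        have ha := iha (Dvd.dvd.trans (Dvd.intro _ rfl) hx) ha0
        have hb := ihb (Dvd.dvd.trans (Dvd.intro_left _ rfl) hx) hb0
        rw [Nat.mul_mod, ha, hb]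
        simp [Nat.mod_eq_of_lt hq1]

end Cfsg.Agent.S1546
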