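import Cfsg.Statements.S1551
import Cfsg.Agent.Helper22.SextKer

set_option autoImplicit false
open scoped Pointwise
open Cfsg Cfsg.Agent.Helper27 Cfsg.Agent.Helper22.SextetCode Cfsg.Agent.Helper22.GolayComb
  Cfsg.Agent.Helper22.SextetRef Cfsg.Agent.Helper22.SextetStruct Cfsg.Agent.Helper22.SextKer

namespace Cfsg.Agent.S1551

/-- Structure of a sextet stabiliser: it induces every permutation of the six tetrads, the subgroup fixing each tetrad setwise has order 192, and there is a normal subgroup of order 64 consisting of elements squaring to the identity. -/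
theorem result (S : Finset (Finset Cfsg.GolayPt)) (hS : S ∈ Cfsg.sextets) : (∀ e : Equiv.Perm ↥S, ∃ g ∈ MulAction.stabilizer Cfsg.M24 S, ∀ t : ↥S, (g : Equiv.Perm Cfsg.GolayPt) • (t : Finset Cfsg.GolayPt) = ((e t : ↥S) : Finset Cfsg.GolayPt)) ∧ Nat.card {g : ↥(MulAction.stabilizer Cfsg.M24 S) // ∀ t ∈ S, ((g : Cfsg.M24) : Equiv.Perm Cfsg.GolayPt) • t = t} = 192 ∧ ∃ N : Subgroup ↥(MulAction.stabilizer Cfsg.M24 S), N.Normal ∧ Nat.card N = 64 ∧ ∀ x ∈ N, x * x = 1 := by
  obtain ⟨k, hk, hkS⟩ := exists_smul_eq_S0 hS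
  have hle : Nat.card ↥(tetHom S).ker ≤ 192 := by
    let f : ↥(tetHom S).ker → {g : Equiv.Perm GolayPt // g ∈ M24 ∧ ∀ t ∈ S0, g • t = t} := fun x =>
      ⟨k * ((x : ↥(MulAction.stabilizer ↥M24 S)) : ↥M24).1 * k⁻¹,
        M24.mul_mem (M24.mul_mem hk x.1.1.2) (M24.inv_mem hk), by
        intro t ht
        have h1 : k⁻¹ • t ∈ S := by
          rw [← hkS] at ht
          obtain ⟨u, hu, rfl⟩ := Finset.mem_smul_finset.mp ht
          rw [inv_smul_smul]; exact hu
        have h2 := (mem_ker_iff x.1).mp x.2 _ h1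
        rw [mul_smul, mul_smul, h2, smul_inv_smul]⟩
    have hf : Function.Injective f := by
      intro a b hab
      have h : k * ((a : ↥(MulAction.stabilizer ↥M24 S)) : ↥M24).1 * k⁻¹ =
          k * ((b : ↥(MulAction.stabilizer ↥M24 S)) : ↥M24).1 * k⁻¹ := congrArg Subtype.val hab
      have h' : ((a : ↥(MulAction.stabilizer ↥M24 S)) : ↥M24).1 = ((b : ↥(MulAction.stabilizer ↥M24 S)) : ↥M24).1 :=
        mul_left_cancel (mul_right_cancel h)
      exact Subtype.ext (Subtype.ext (Subtype.ext h'))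
    exact (Nat.card_le_card_of_injective f hf).trans card_fix_le
  obtain ⟨hk192, hsurj⟩ := ker_and_surj hS hle
  refine ⟨?_, ?_, ?_⟩
  · intro e
    obtain ⟨x, hx⟩ := hsurj e
    refine ⟨x.1, x.2, fun t => ?_⟩
    rw [← hx]
    rfl
  · rw [← hk192]
    exact Nat.card_congr (Equiv.subtypeEquivRight (fun x => (mem_ker_iff x).symm))
  · refine ⟨V4Sub hS, V4Sub_normal hS, card_V4Sub hS hk192 ?_, V4Sub_sq hS⟩
    have hsp : ∀ T : ↥(v4L.toFinset), ∃ g : Equiv.Perm GolayPt, g ∈ M24 ∧ Represents g T.1 ∧ V4On S0 g :=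
      fun T => v4L_spec T.1 (List.mem_toFinset.mp T.2)
    choose γ hγ using hsp
    have hv4 : ∀ T, V4On S (k⁻¹ * γ T * k) := fun T => V4On.conj (hγ T).2.2 hkS
    have hmem : ∀ T, k⁻¹ * γ T * k ∈ M24 := fun T => M24.mul_mem (M24.mul_mem (M24.inv_mem hk) (hγ T).1) hk
    have hst : ∀ T, (⟨k⁻¹ * γ T * k, hmem T⟩ : ↥M24) ∈ MulAction.stabilizer ↥M24 S := fun T =>
      smul_eq_of_fix (fun t ht => V4On.smul_tetrad hS.2.1 (hv4 T) ht)
    let f : ↥(v4L.toFinset) → ↥(V4Sub hS) := fun T => ⟨⟨⟨k⁻¹ * γ T * k, hmem T⟩, hst T⟩, hv4 T⟩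
    have hf : Function.Injective f := by
      intro a b hab
      have h : k⁻¹ * γ a * k = k⁻¹ * γ b * k :=
        congrArg (fun z : ↥(V4Sub hS) => ((z : ↥(MulAction.stabilizer ↥M24 S)) : ↥M24).1) hab
      have h' : γ a = γ b := mul_left_cancel (mul_right_cancel h)
      apply Subtype.ext
      have ha := (hγ a).2.1
      rw [h'] at ha
      exact represents_tbl_unique ha (hγ b).2.1
    have h1 := Nat.card_le_card_of_injective f hf
    rw [Nat.card_eq_fintype_card (α := ↥(v4L.toFinset)), Fintype.card_coe,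
      List.toFinset_card_of_nodup v4L_nodup, v4L_length] at h1
    exact h1

end Cfsg.Agent.S1551
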