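import Cfsg.Statements.S1552
import Cfsg.Agent.Helper22.SextetSelfCert
import Cfsg.Agent.Helper22.MaxStab

set_option autoImplicit false
open scoped Pointwise
open Cfsg Cfsg.Agent.Helper27 Cfsg.Agent.Helper22 Cfsg.Agent.Helper22.OctList Cfsg.Agent.Helper22.SextetCode Cfsg.Agent.Helper22.SextetSelfCert Cfsg.Agent.Helper22.SextetRef Cfsg.Agent.Helper22.StabOrbits Cfsg.Agent.Helper22.SextetStd

namespace Cfsg.Agent.S1552

theorem vals_ok : invL.all (fun v => [96, 48, 36, 32].contains v) = true := by decide +kernel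

theorem invM15 : invM 15 = 96 := by decide +kernel

/-- A sextet stabiliser has four orbits on the 1771 sextets, of sizes 1, 90, 240, 1440; and the stabiliser is a maximal proper subgroup. -/
theorem result (S : Finset (Finset Cfsg.GolayPt)) (hS : S ∈ Cfsg.sextets) : ∃ X₁ ∈ Cfsg.sextets, ∃ X₂ ∈ Cfsg.sextets, ∃ X₃ ∈ Cfsg.sextets, (MulAction.orbit ↥(MulAction.stabilizer Cfsg.M24 S) X₁).ncard = 90 ∧ (MulAction.orbit ↥(MulAction.stabilizer Cfsg.M24 S) X₂).ncard = 240 ∧ (MulAction.orbit ↥(MulAction.stabilizer Cfsg.M24 S) X₃).ncard = 1440 ∧ Cfsg.sextets = {S} ∪ MulAction.orbit ↥(MulAction.stabilizer Cfsg.M24 S) X₁ ∪ MulAction.orbit ↥(MulAction.stabilizer Cfsg.M24 S) X₂ ∪ MulAction.orbit ↥(MulAction.stabilizer Cfsg.M24 S) X₃ ∧ IsCoatom (MulAction.stabilizer Cfsg.M24 S) := by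
  classical
  obtain ⟨g0, hg0, hA⟩ := exists_smul_eq_S0 hS
  have hstd : ∀ X ∈ sextets, ∀ Y ∈ sextets, invS S0 X = invS S0 Y → ∃ k ∈ stabIn S0, k • X = Y := by
    intro X hX Y hY hXY
    have hv := std_vals invS S0 invM hq invL_ok vals_ok hX
    simp only [List.mem_cons, List.not_mem_nil, or_false] at hv
    rcases hv with h | h | h | h
    · exact std_orbit invS invS_smul S0 invM hq invL_ok certSoundSext desc96 hX hY h (hXY ▸ h)
    · exact std_orbit invS invS_smul S0 invM hq invL_ok certSoundSext desc48 hX hY h (hXY ▸ h)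
    · exact std_orbit invS invS_smul S0 invM hq invL_ok certSoundSext desc36 hX hY h (hXY ▸ h)
    · exact std_orbit invS invS_smul S0 invM hq invL_ok certSoundSext desc32 hX hY h (hXY ▸ h)
  have htrans := trans_general sextets sextets_invariant invS invS_smul hg0 hA hstd
  have hcount : ∀ v : ℕ, {X | X ∈ sextets ∧ invS S X = v}.ncard = invL.count v := by
    intro v
    rw [count_general sextets sextets_invariant invS invS_smul hg0 hA v, std_count invS S0 invM hq invL_ok v]
  have hvals : ∀ X ∈ sextets, invS S X = 96 ∨ invS S X = 48 ∨ invS S X = 36 ∨ invS S X = 32 := by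
    intro X hX
    have hv := std_vals invS S0 invM hq invL_ok vals_ok (smul_sextet_mem hg0 hX)
    rw [← hA, invS_smul] at hv
    simpa only [List.mem_cons, List.not_mem_nil, or_false] using hv
  have hSS : invS S S = 96 := by
    rw [← invS_smul g0 S S, hA]
    have := hq 15 mem15
    rw [invM15] at this
    exact this
  have hself : {X | X ∈ sextets ∧ invS S X = 96} = {S} := by
    have h1 : {X | X ∈ sextets ∧ invS S X = 96}.ncard = 1 := by rw [hcount, cnt96]
    obtain ⟨a, ha⟩ := Set.ncard_eq_one.mp h1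
    have : S ∈ {X | X ∈ sextets ∧ invS S X = 96} := ⟨hS, hSS⟩
    rw [ha, Set.mem_singleton_iff] at this
    rw [ha, this]
  obtain ⟨X₁, hX₁, ho₁, hn₁⟩ := exists_orbit sextets sextets_invariant invS invS_smul htrans 48 90
    (by rw [hcount, cnt48]) (by norm_num)
  obtain ⟨X₂, hX₂, ho₂, hn₂⟩ := exists_orbit sextets sextets_invariant invS invS_smul htrans 36 240
    (by rw [hcount, cnt36]) (by norm_num)
  obtain ⟨X₃, hX₃, ho₃, hn₃⟩ := exists_orbit sextets sextets_invariant invS invS_smul htrans 32 1440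
    (by rw [hcount, cnt32]) (by norm_num)
  refine ⟨X₁, hX₁, X₂, hX₂, X₃, hX₃, hn₁, hn₂, hn₃, ?_, ?_⟩
  · rw [ho₁, ho₂, ho₃, ← hself]
    ext X
    simp only [Set.mem_union, Set.mem_ofPred_eq]
    constructor
    · intro hX
      rcases hvals X hX with h | h | h | h
      · exact Or.inl (Or.inl (Or.inl ⟨hX, h⟩))
      · exact Or.inl (Or.inl (Or.inr ⟨hX, h⟩))
      · exact Or.inl (Or.inr ⟨hX, h⟩)
      · exact Or.inr ⟨hX, h⟩
    · rintro (((h | h) | h) | h) <;> exact h.1
  · have horb : ∀ x : Finset (Finset GolayPt), x ∈ MulAction.orbit (↥Cfsg.M24) S ↔ x ∈ sextets := by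
      intro x
      constructor
      · rintro ⟨g, rfl⟩
        exact smul_sextet_mem g.2 hS
      · intro hx
        obtain ⟨g1, hg1, hg1x⟩ := exists_smul_eq_S0 hx
        refine ⟨⟨g1⁻¹ * g0, M24.mul_mem (M24.inv_mem hg1) hg0⟩, ?_⟩
        show (g1⁻¹ * g0) • S = x
        rw [mul_smul, hA, ← hg1x, inv_smul_smul]
    refine MaxStab.isCoatom_stabilizer (G := ↥Cfsg.M24) S (invS S) {96, 48, 36, 32}
      (fun v => if v = 96 then 1 else if v = 48 then 90 else if v = 36 then 240 else 1440) ?_ ?_ ?_ ?_ ?_ ?_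
    · intro x hx
      have := hvals x ((horb x).mp hx)
      simp only [Finset.mem_insert, Finset.mem_singleton]
      exact this
    · intro j hj
      have hset : {x : Finset (Finset GolayPt) | x ∈ MulAction.orbit (↥Cfsg.M24) S ∧ invS S x = j} =
          {X | X ∈ sextets ∧ invS S X = j} := by
        ext x
        simp only [Set.mem_ofPred_eq, horb]
      rw [hset, hcount]
      simp only [Finset.mem_insert, Finset.mem_singleton] at hj
      rcases hj with rfl | rfl | rfl | rfl
      · exact cnt96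
      · exact cnt48
      · exact cnt36
      · exact cnt32
    · intro x hx y hy hxy
      obtain ⟨g, hg, hgx⟩ := htrans x ((horb x).mp hx) y ((horb y).mp hy) hxy
      obtain ⟨hgM, hgS⟩ := (mem_stabIn S g).mp hg
      exact ⟨⟨g, hgM⟩, hgS, hgx⟩
    · rw [hSS]; decide
    · decide
    · rw [hSS]; decide

end Cfsg.Agent.S1552
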