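import Cfsg.Statements.S1559
import Cfsg.Agent.Helper22.TrioSelfCert
import Cfsg.Agent.Helper22.TrioStd
import Cfsg.Agent.Helper22.InvTO
import Cfsg.Agent.Helper22.MaxStab

set_option autoImplicit false
open scoped Pointwise
open Cfsg Cfsg.Agent.Helper27 Cfsg.Agent.Helper22 Cfsg.Agent.Helper22.TrioList Cfsg.Agent.Helper22.TrioCode Cfsg.Agent.Helper22.TrioSelfCert Cfsg.Agent.Helper22.TrioRef Cfsg.Agent.Helper22.StabOrbits Cfsg.Agent.Helper22.TrioStd

namespace Cfsg.Agent.S1559

theorem hφ (m : ℕ) : invTO T0 (maskSet m) = phiM m := by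
  rw [invTO, sum_T0, phiM]
  simp only [Flag.card_inter_maskSet]

theorem hq : ∀ c ∈ trioL, invS T0 (dec c) = invM c := fun _ hc =>
  TrioCode.sum_dec hc (invTO T0) phiM hφ

theorem self192 : invS T0 T0 = 192 := by
  rw [invS_eq, sum_T0, hφ, hφ, hφ]
  decide +kernel

/-- A trio stabiliser has five orbits on the 3795 trios, of sizes 1, 42, 56, 1008, 2688; and the stabiliser is a maximal proper subgroup. -/
theorem result (T : Finset (Finset Cfsg.GolayPt)) (hT : T ∈ Cfsg.trios) : ∃ X₁ ∈ Cfsg.trios, ∃ X₂ ∈ Cfsg.trios, ∃ X₃ ∈ Cfsg.trios, ∃ X₄ ∈ Cfsg.trios, (MulAction.orbit ↥(MulAction.stabilizer Cfsg.M24 T) X₁).ncard = 42 ∧ (MulAction.orbit ↥(MulAction.stabilizer Cfsg.M24 T) X₂).ncard = 56 ∧ (MulAction.orbit ↥(MulAction.stabilizer Cfsg.M24 T) X₃).ncard = 1008 ∧ (MulAction.orbit ↥(MulAction.stabilizer Cfsg.M24 T) X₄).ncard = 2688 ∧ Cfsg.trios = {T} ∪ MulAction.orbit ↥(MulAction.stabilizer Cfsg.M24 T) X₁ ∪ MulAction.orbit ↥(MulAction.stabilizer Cfsg.M24 T) X₂ ∪ MulAction.orbit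 ↥(MulAction.stabilizer Cfsg.M24 T) X₃ ∪ MulAction.orbit ↥(MulAction.stabilizer Cfsg.M24 T) X₄ ∧ IsCoatom (MulAction.stabilizer Cfsg.M24 T) := by
  classical
  obtain ⟨g0, hg0, hA⟩ := exists_smul_eq_T0 hT
  have hstd : ∀ X ∈ trios, ∀ Y ∈ trios, invS T0 X = invS T0 Y → ∃ k ∈ stabIn T0, k • X = Y := by
    intro X hX Y hY hXY
    have hv := std_vals invS T0 invM hq invL_ok vals_ok hX
    simp only [List.mem_cons, List.not_mem_nil, or_false] at hv
    rcases hv with h | h | h | h | h
    · exact std_orbit invS invS_smul T0 invM hq invL_ok certSoundTrio desc192 hX hY h (hXY ▸ h)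
    · exact std_orbit invS invS_smul T0 invM hq invL_ok certSoundTrio desc128 hX hY h (hXY ▸ h)
    · exact std_orbit invS invS_smul T0 invM hq invL_ok certSoundTrio desc96 hX hY h (hXY ▸ h)
    · exact std_orbit invS invS_smul T0 invM hq invL_ok certSoundTrio desc80 hX hY h (hXY ▸ h)
    · exact std_orbit invS invS_smul T0 invM hq invL_ok certSoundTrio desc72 hX hY h (hXY ▸ h)
  have htrans := trans_general trios trios_invariant invS invS_smul hg0 hA hstd
  have hcount : ∀ v : ℕ, {X | X ∈ trios ∧ invS T X = v}.ncard = invL.count v := by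
    intro v
    rw [count_general trios trios_invariant invS invS_smul hg0 hA v, std_count invS T0 invM hq invL_ok v]
  have hvals : ∀ X ∈ trios, invS T X = 192 ∨ invS T X = 128 ∨ invS T X = 96 ∨ invS T X = 80 ∨ invS T X = 72 := by
    intro X hX
    have hv := std_vals invS T0 invM hq invL_ok vals_ok (smul_trio_mem hg0 hX)
    rw [← hA, invS_smul] at hv
    simpa only [List.mem_cons, List.not_mem_nil, or_false] using hv
  have hSS : invS T T = 192 := by
    rw [← invS_smul g0 T T, hA, self192]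
  have hself : {X | X ∈ trios ∧ invS T X = 192} = {T} := by
    have h1 : {X | X ∈ trios ∧ invS T X = 192}.ncard = 1 := by rw [hcount, cnt192]
    obtain ⟨a, ha⟩ := Set.ncard_eq_one.mp h1
    have : T ∈ {X | X ∈ trios ∧ invS T X = 192} := ⟨hT, hSS⟩
    rw [ha, Set.mem_singleton_iff] at this
    rw [ha, this]
  obtain ⟨X₁, hX₁, ho₁, hn₁⟩ := exists_orbit trios trios_invariant invS invS_smul htrans 128 42
    (by rw [hcount, cnt128]) (by norm_num)
  obtain ⟨X₂, hX₂, ho₂, hn₂⟩ := exists_orbit trios trios_invariant invS invS_smul htrans 96 56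
    (by rw [hcount, cnt96]) (by norm_num)
  obtain ⟨X₃, hX₃, ho₃, hn₃⟩ := exists_orbit trios trios_invariant invS invS_smul htrans 80 1008
    (by rw [hcount, cnt80]) (by norm_num)
  obtain ⟨X₄, hX₄, ho₄, hn₄⟩ := exists_orbit trios trios_invariant invS invS_smul htrans 72 2688
    (by rw [hcount, cnt72]) (by norm_num)
  refine ⟨X₁, hX₁, X₂, hX₂, X₃, hX₃, X₄, hX₄, hn₁, hn₂, hn₃, hn₄, ?_, ?_⟩
  · rw [ho₁, ho₂, ho₃, ho₄, ← hself]
    ext X
    simp only [Set.mem_union, Set.mem_ofPred_eq]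
    constructor
    · intro hX
      rcases hvals X hX with h | h | h | h | h
      · exact Or.inl (Or.inl (Or.inl (Or.inl ⟨hX, h⟩)))
      · exact Or.inl (Or.inl (Or.inl (Or.inr ⟨hX, h⟩)))
      · exact Or.inl (Or.inl (Or.inr ⟨hX, h⟩))
      · exact Or.inl (Or.inr ⟨hX, h⟩)
      · exact Or.inr ⟨hX, h⟩
    · rintro ((((h | h) | h) | h) | h) <;> exact h.1
  · have horb : ∀ x : Finset (Finset GolayPt), x ∈ MulAction.orbit (↥Cfsg.M24) T ↔ x ∈ trios := by
      intro x
      constructor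
      · rintro ⟨g, rfl⟩
        exact smul_trio_mem g.2 hT
      · intro hx
        obtain ⟨g1, hg1, hg1x⟩ := exists_smul_eq_T0 hx
        refine ⟨⟨g1⁻¹ * g0, M24.mul_mem (M24.inv_mem hg1) hg0⟩, ?_⟩
        show (g1⁻¹ * g0) • T = x
        rw [mul_smul, hA, ← hg1x, inv_smul_smul]
    refine MaxStab.isCoatom_stabilizer (G := ↥Cfsg.M24) T (invS T) {192, 128, 96, 80, 72}
      (fun v => if v = 192 then 1 else if v = 128 then 42 else if v = 96 then 56 else if v = 80 then 1008 else 2688)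
      ?_ ?_ ?_ ?_ ?_ ?_
    · intro x hx
      have := hvals x ((horb x).mp hx)
      simp only [Finset.mem_insert, Finset.mem_singleton]
      exact this
    · intro j hj
      have hset : {x : Finset (Finset GolayPt) | x ∈ MulAction.orbit (↥Cfsg.M24) T ∧ invS T x = j} =
          {X | X ∈ trios ∧ invS T X = j} := by
        ext x
        simp only [Set.mem_ofPred_eq, horb]
      rw [hset, hcount]
      simp only [Finset.mem_insert, Finset.mem_singleton] at hj
      rcases hj with rfl | rfl | rfl | rfl | rfl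
      · exact cnt192
      · exact cnt128
      · exact cnt96
      · exact cnt80
      · exact cnt72
    · intro x hx y hy hxy
      obtain ⟨g, hg, hgx⟩ := htrans x ((horb x).mp hx) y ((horb y).mp hy) hxy
      obtain ⟨hgM, hgS⟩ := (mem_stabIn T g).mp hg
      exact ⟨⟨g, hgM⟩, hgS, hgx⟩
    · rw [hSS]; decide
    · decide
    · rw [hSS]; decide

end Cfsg.Agent.S1559
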