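import Cfsg.Statements.S1560
import Cfsg.Agent.Helper22.GolayDodecad

set_option autoImplicit false
open scoped Pointwise
open Cfsg

namespace Cfsg.Agent.S1560

/-- Intersection numbers of dodecads: a dodecad meets every other dodecad in 0, 4, 6 or 8 points, meeting 495 of them in 4 points, 1584 in 6 points and 495 in 8 points. -/
theorem result (d : Finset Cfsg.GolayPt) (hd : d ∈ Cfsg.dodecads) : (∀ d' ∈ Cfsg.dodecads, d' ≠ d → (d ∩ d').card = 0 ∨ (d ∩ d').card = 4 ∨ (d ∩ d').card = 6 ∨ (d ∩ d').card = 8) ∧ {d' : Finset Cfsg.GolayPt | d' ∈ Cfsg.dodecads ∧ (d ∩ d').card = 4}.ncard = 495 ∧ {d' : Finset Cfsg.GolayPt | d' ∈ Cfsg.dodecads ∧ (d ∩ d').card = 6}.ncard = 1584 ∧ {d' : Finset Cfsg.GolayPt | d' ∈ Cfsg.dodecads ∧ (d ∩ d').card = 8}.ncard = 495 := by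
  open Cfsg.Agent.Helper22.GolayComb Cfsg.Agent.Helper22.Design in
  classical
  have hset : ∀ i : ℕ, {d' : Finset Cfsg.GolayPt | d' ∈ Cfsg.dodecads ∧ (d ∩ d').card = i}.ncard =
      (dodMeet d i).card := by
    intro i
    rw [ncard_eq_card_filter]
    rfl
  refine ⟨?_, ?_, ?_, ?_⟩
  · intro d' hd' hne
    have h := dodecad_inter_card hd hd'
    rcases h with h | h | h | h | h
    · exact Or.inl h
    · exact Or.inr (Or.inl h)
    · exact Or.inr (Or.inr (Or.inl h))
    · exact Or.inr (Or.inr (Or.inr h))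
    · exact absurd (eq_of_inter_card_twelve hd hd' h) hne
  · rw [hset, card_dodMeet_four hd]
  · rw [hset, card_dodMeet_six hd]
  · rw [hset, card_dodMeet_eight hd]

end Cfsg.Agent.S1560
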