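import Cfsg.Statements.S1563
import Cfsg.Agent.Helper22.MaxStab
import Cfsg.Agent.Helper22.KSets

set_option autoImplicit false
open scoped Pointwise
open Cfsg Cfsg.Agent.Helper27 Cfsg.Agent.Helper22 Cfsg.Agent.Helper22.KSets

namespace Cfsg.Agent.S1563

/-- The stabiliser of a pair of points (setwise) is a maximal proper subgroup of the group of the length-24 code. -/
theorem result (s : Finset Cfsg.GolayPt) (hs : s.card = 2) : IsCoatom (MulAction.stabilizer Cfsg.M24 s) := by
  classical
  have horb : ∀ x : Finset GolayPt, x ∈ MulAction.orbit (↥Cfsg.M24) s ↔ x.card = 2 := by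
    intro x
    constructor
    · rintro ⟨g, rfl⟩
      show (g.1 • s).card = 2
      rw [Finset.card_smul_finset, hs]
    · intro hx
      obtain ⟨g, hg, -, hgx⟩ := exists_M24_venn ∅ s x (hs.trans hx.symm) (by simp) (by simp [hs])
      exact ⟨⟨g, hg⟩, hgx⟩
  have hcard24 : Fintype.card GolayPt = 24 := by decide
  refine MaxStab.isCoatom_stabilizer (G := ↥Cfsg.M24) s (fun x => (s ∩ x).card) {2, 1, 0}
    (fun j => if j = 2 then 1 else if j = 1 then 44 else 231) ?_ ?_ ?_ ?_ ?_ ?_
  · intro x _
    have : (s ∩ x).card ≤ 2 := hs ▸ Finset.card_le_card Finset.inter_subset_left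
    simp only [Finset.mem_insert, Finset.mem_singleton]
    omega
  · intro j hj
    have hset : {x : Finset GolayPt | x ∈ MulAction.orbit (↥Cfsg.M24) s ∧ (s ∩ x).card = j} =
        {x : Finset GolayPt | x.card = 2 ∧ (s ∩ x).card = j} := by
      ext x
      simp only [Set.mem_ofPred_eq, horb]
    simp only [Finset.mem_insert, Finset.mem_singleton] at hj
    rw [hset, ncard_inter_card s 2 j (by omega), hs, hcard24]
    rcases hj with rfl | rfl | rfl <;> decide
  · intro x hx y hy hxy
    have hx2 := (horb x).mp hx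
    have hy2 := (horb y).mp hy
    obtain ⟨g, hg, hgs, hgx⟩ := exists_M24_venn s x y (hx2.trans hy2.symm) hxy (by
      have := Finset.card_union_le s x
      omega)
    exact ⟨⟨g, hg⟩, hgs, hgx⟩
  · rw [Finset.inter_self, hs]
    decide
  · decide
  · rw [Finset.inter_self, hs]
    decide

end Cfsg.Agent.S1563
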