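import Cfsg.Statements.S1564
import Cfsg.Agent.Helper22.MaxStab
import Cfsg.Agent.Helper22.Triad

set_option autoImplicit false
open scoped Pointwise
open Cfsg Cfsg.Agent.Helper27 Cfsg.Agent.Helper22 Cfsg.Agent.Helper22.KSets

namespace Cfsg.Agent.S1564

/-- The stabiliser of a set of three points (setwise) is a maximal proper subgroup of the group of the length-24 code. -/
theorem result (s : Finset Cfsg.GolayPt) (hs : s.card = 3) : IsCoatom (MulAction.stabilizer Cfsg.M24 s) := by
  classical
  have horb : ∀ x : Finset GolayPt, x ∈ MulAction.orbit (↥Cfsg.M24) s ↔ x.card = 3 := by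
    intro x
    constructor
    · rintro ⟨g, rfl⟩
      show (g.1 • s).card = 3
      rw [Finset.card_smul_finset, hs]
    · intro hx
      obtain ⟨g, hg, -, hgx⟩ := exists_M24_venn ∅ s x (hs.trans hx.symm) (by simp) (by simp [hs])
      exact ⟨⟨g, hg⟩, hgx⟩
  have hcard24 : Fintype.card GolayPt = 24 := by decide
  -- the union of two triads with a common point lies in an octad
  have hunion : ∀ x : Finset GolayPt, x.card = 3 → (s ∪ x).card + (s ∩ x).card = 6 := by
    intro x hx
    rw [Finset.card_union_add_card_inter, hs, hx]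
  have hoct : ∀ x : Finset GolayPt, x.card = 3 → 1 ≤ (s ∩ x).card → ∃ o ∈ Cfsg.octads, s ∪ x ⊆ o := by
    intro x hx h1
    apply exists_octad_superset
    have := hunion x hx
    omega
  have hdisj : ∀ x : Finset GolayPt, (s ∩ x).card = 0 ↔ Disjoint s x := by
    intro x
    rw [Finset.card_eq_zero, Finset.disjoint_iff_inter_eq_empty]
  refine MaxStab.isCoatom_stabilizer (G := ↥Cfsg.M24) s
    (fun x => ((s ∩ x).card, decide (∃ o ∈ Cfsg.octads, s ∪ x ⊆ o)))
    {(3, true), (2, true), (1, true), (0, true), (0, false)}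
    (fun j => if j = (3, true) then 1 else if j = (2, true) then 63 else if j = (1, true) then 630
      else if j = (0, true) then 210 else 1120) ?_ ?_ ?_ ?_ ?_ ?_
  · intro x hx
    have hx3 := (horb x).mp hx
    have hle : (s ∩ x).card ≤ 3 := hs ▸ Finset.card_le_card Finset.inter_subset_left
    simp only [Finset.mem_insert, Finset.mem_singleton, Prod.mk.injEq, decide_eq_true_eq, decide_eq_false_iff_not]
    by_cases h0 : (s ∩ x).card = 0
    · by_cases hP : ∃ o ∈ Cfsg.octads, s ∪ x ⊆ o
      · exact Or.inr (Or.inr (Or.inr (Or.inl ⟨h0, hP⟩)))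
      · exact Or.inr (Or.inr (Or.inr (Or.inr ⟨h0, hP⟩)))
    · have hP := hoct x hx3 (by omega)
      have : (s ∩ x).card = 3 ∨ (s ∩ x).card = 2 ∨ (s ∩ x).card = 1 := by omega
      rcases this with h | h | h
      · exact Or.inl ⟨h, hP⟩
      · exact Or.inr (Or.inl ⟨h, hP⟩)
      · exact Or.inr (Or.inr (Or.inl ⟨h, hP⟩))
  · intro j hj
    have hpos : ∀ i : ℕ, 1 ≤ i → i ≤ 3 →
        {x : Finset GolayPt | x ∈ MulAction.orbit (↥Cfsg.M24) s ∧
          ((s ∩ x).card, decide (∃ o ∈ Cfsg.octads, s ∪ x ⊆ o)) = (i, true)}.ncard =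
        (3 : ℕ).choose i * (24 - 3).choose (3 - i) := by
      intro i hi1 hi3
      have hcount := ncard_inter_card s 3 i hi3
      rw [hs, hcard24] at hcount
      rw [← hcount]
      congr 1
      ext x
      simp only [Set.mem_ofPred_eq, horb, Prod.mk.injEq, decide_eq_true_eq]
      constructor
      · rintro ⟨h1, h2, -⟩
        exact ⟨h1, h2⟩
      · rintro ⟨h1, h2⟩
        exact ⟨h1, h2, hoct x h1 (by omega)⟩
    simp only [Finset.mem_insert, Finset.mem_singleton] at hj
    rcases hj with rfl | rfl | rfl | rfl | rfl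
    · rw [hpos 3 (by norm_num) (by norm_num)]; rfl
    · rw [hpos 2 (by norm_num) (by norm_num)]; rfl
    · rw [hpos 1 (by norm_num) (by norm_num)]; rfl
    · rw [← Triad.ncard_in_octad hs]
      simp only [horb, Prod.mk.injEq, decide_eq_true_eq, hdisj]
      rfl
    · rw [← Triad.ncard_not_in_octad hs]
      simp only [horb, Prod.mk.injEq, decide_eq_false_iff_not, hdisj]
      rfl
  · intro x hx y hy hxy
    have hx3 := (horb x).mp hx
    have hy3 := (horb y).mp hy
    simp only [Prod.mk.injEq, decide_eq_decide] at hxy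
    obtain ⟨hc, hP⟩ := hxy
    by_cases h0 : (s ∩ x).card = 0
    · obtain ⟨g, hg, hgs, hgx⟩ := Triad.triad_orbit hs hx3 hy3 ((hdisj x).mp h0) ((hdisj y).mp (hc ▸ h0)) hP
      exact ⟨⟨g, hg⟩, hgs, hgx⟩
    · obtain ⟨g, hg, hgs, hgx⟩ := exists_M24_venn s x y (hx3.trans hy3.symm) hc (by
        have := hunion x hx3
        omega)
      exact ⟨⟨g, hg⟩, hgs, hgx⟩
  · have : ((s ∩ s).card, decide (∃ o ∈ Cfsg.octads, s ∪ s ⊆ o)) = (3, true) := by
      rw [Prod.mk.injEq, decide_eq_true_eq, Finset.inter_self, Finset.union_self]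
      exact ⟨hs, exists_octad_superset s (by omega)⟩
    rw [this]
    decide
  · decide
  · have : ((s ∩ s).card, decide (∃ o ∈ Cfsg.octads, s ∪ s ⊆ o)) = (3, true) := by
      rw [Prod.mk.injEq, decide_eq_true_eq, Finset.inter_self, Finset.union_self]
      exact ⟨hs, exists_octad_superset s (by omega)⟩
    rw [this]
    decide

end Cfsg.Agent.S1564
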