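import Cfsg.Statements.S1565
import Cfsg.Agent.Helper22.MaxStab
import Cfsg.Agent.Helper22.OrbitOct
import Cfsg.Agent.Helper22.Flag
import Cfsg.Agent.Helper27.M24Trans

set_option autoImplicit false
open scoped Pointwise
open Cfsg Cfsg.Agent.Helper27 Cfsg.Agent.Helper22 Cfsg.Agent.Helper22.Flag

namespace Cfsg.Agent.S1565

/-- The stabiliser of an octad is a maximal proper subgroup of the group of the length-24 code. -/
theorem result (o : Finset Cfsg.GolayPt) (ho : o ∈ Cfsg.octads) : IsCoatom (MulAction.stabilizer Cfsg.M24 o) := by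
  classical
  have horb : ∀ x : Finset GolayPt, x ∈ MulAction.orbit (↥Cfsg.M24) o ↔ x ∈ Cfsg.octads := by
    intro x
    constructor
    · rintro ⟨g, rfl⟩
      exact (octads_smul_iff g.2 o).mpr ho
    · intro hx
      obtain ⟨g, hg, hgo⟩ := M24_octad_transitive o x ho hx
      exact ⟨⟨g, hg⟩, hgo⟩
  obtain ⟨g0, hg0, hg0o⟩ := M24_octad_transitive o (maskSet oct5) ho maskSet_oct5_mem
  have hcount : ∀ j : ℕ, {x : Finset GolayPt | x ∈ MulAction.orbit (↥Cfsg.M24) o ∧ (o ∩ x).card = j}.ncard =
      countBelow (fun k => (popc 24 (cw k) == 8) && (popc 24 (oct5 &&& cw k) == j)) 4096 := by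
    intro j
    rw [← ncard_std 8 (fun b => (maskSet oct5 ∩ b).card = j) (fun n => popc 24 (oct5 &&& n) == j)
      (fun n => by rw [card_inter_maskSet, beq_iff_eq])]
    apply ncard_smul_set g0
    intro b
    simp only [Set.mem_ofPred_eq]
    rw [horb, ← hg0o, card_inter_smul]
    exact and_congr_left (fun _ => (octads_smul_iff hg0 b).symm)
  refine MaxStab.isCoatom_stabilizer (G := ↥Cfsg.M24) o (fun x => (o ∩ x).card) {8, 4, 2, 0}
    (fun j => if j = 8 then 1 else if j = 4 then 280 else if j = 2 then 448 else 30) ?_ ?_ ?_ ?_ ?_ ?_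
  · intro x hx
    have := octad_inter_cases ho ((horb x).mp hx)
    simp only [Finset.mem_insert, Finset.mem_singleton]
    omega
  · intro j hj
    rw [hcount]
    simp only [Finset.mem_insert, Finset.mem_singleton] at hj
    rcases hj with rfl | rfl | rfl | rfl <;> decide +kernel
  · intro x hx y hy hxy
    obtain ⟨g, hg, hgo, hgx⟩ := OrbitOct.octad_stab_orbit ho ((horb x).mp hx) ((horb y).mp hy) hxy
    exact ⟨⟨g, hg⟩, hgo, hgx⟩
  · rw [Finset.inter_self, ho.2]
    decide
  · decide
  · rw [Finset.inter_self, ho.2]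
    decide

end Cfsg.Agent.S1565
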