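import Cfsg.Statements.S1566
import Cfsg.Agent.Helper22.MaxStab
import Cfsg.Agent.Helper22.OrbitDod
import Cfsg.Agent.Helper22.GolayDodecad
import Cfsg.Agent.Helper22.Flag
import Cfsg.Agent.Helper27.M24Descent

set_option autoImplicit false
open scoped Pointwise
open Cfsg Cfsg.Agent.Helper27 Cfsg.Agent.Helper22 Cfsg.Agent.Helper22.Flag Cfsg.Agent.Helper22.GolayComb

namespace Cfsg.Agent.S1566

theorem smul_finset_compl' {G α : Type*} [Group G] [MulAction G α] [Fintype α] [DecidableEq α] (g : G)
    (s : Finset α) : g • sᶜ = (g • s)ᶜ := by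
  apply Finset.coe_injective
  rw [Finset.coe_smul_finset, Finset.coe_compl, Finset.coe_compl, Finset.coe_smul_finset, Set.smul_set_compl]

/-- The setwise stabiliser of a dodecad together with its complement is a maximal proper subgroup of the group of the length-24 code. -/
theorem result (d : Finset Cfsg.GolayPt) (hd : d ∈ Cfsg.dodecads) : IsCoatom (MulAction.stabilizer Cfsg.M24 ({d, dᶜ} : Finset (Finset Cfsg.GolayPt))) := by
  classical
  have hdc : dᶜ ∈ Cfsg.dodecads := compl_mem_dodecads hd
  have horb : ∀ x : Finset GolayPt, x ∈ MulAction.orbit (↥Cfsg.M24) d ↔ x ∈ Cfsg.dodecads := by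
    intro x
    constructor
    · rintro ⟨g, rfl⟩
      exact (dodecads_smul_iff g.2 d).mpr hd
    · intro hx
      obtain ⟨g, hg, hgo⟩ := M24_dodecad_transitive d x hd hx
      exact ⟨⟨g, hg⟩, hgo⟩
  have hpair : ∀ g : ↥Cfsg.M24, g • ({d, dᶜ} : Finset (Finset GolayPt)) = {g • d, (g • d)ᶜ} := by
    intro g
    rw [Finset.smul_finset_insert, Finset.smul_finset_singleton, smul_finset_compl']
  have hmemK : ∀ g : ↥Cfsg.M24, g ∈ MulAction.stabilizer (↥Cfsg.M24) ({d, dᶜ} : Finset (Finset GolayPt)) ↔
      (g • d = d ∨ g • d = dᶜ) := by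
    intro g
    rw [MulAction.mem_stabilizer_iff, hpair]
    constructor
    · intro h
      have : g • d ∈ ({g • d, (g • d)ᶜ} : Finset (Finset GolayPt)) := Finset.mem_insert_self _ _
      rw [h, Finset.mem_insert, Finset.mem_singleton] at this
      exact this
    · rintro (h | h)
      · rw [h]
      · rw [h, compl_compl, Finset.pair_comm]
  have hdd : (d ∩ d).card = 12 := by rw [Finset.inter_self, hd.2]
  have hddc : (d ∩ dᶜ).card = 0 := by rw [Finset.inter_compl, Finset.card_empty]
  obtain ⟨w, hw, hwd⟩ := M24_dodecad_transitive d dᶜ hd hdc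
  have hwdc : w⁻¹ • d = dᶜ := by
    rw [inv_smul_eq_iff, smul_finset_compl', hwd, compl_compl]
  refine MaxStab.isCoatom_of_stabilizer_le (G := ↥Cfsg.M24) d _ ?_
    (fun x => (d ∩ x).card * (12 - (d ∩ x).card)) {0, 32, 36}
    (fun j => if j = 0 then 2 else if j = 32 then 990 else 1584) ?_ ?_ ?_ ?_ ?_ ?_ ?_
  · intro g hg
    rw [MulAction.mem_stabilizer_iff] at hg
    rw [hmemK]
    exact Or.inl hg
  · intro k hk
    rw [hmemK] at hk
    rcases hk with h | h
    · rw [h]
    · rw [h, hdd, hddc]
  · intro x hx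
    have := dodecad_inter_card hd ((horb x).mp hx)
    simp only [Finset.mem_insert, Finset.mem_singleton]
    rcases this with h | h | h | h | h <;> rw [h] <;> decide
  · intro j hj
    simp only [Finset.mem_insert, Finset.mem_singleton] at hj
    have hset : ∀ (i i' : ℕ), i ≠ i' → (∀ m : ℕ, (m = 0 ∨ m = 4 ∨ m = 6 ∨ m = 8 ∨ m = 12) →
          (m * (12 - m) = j ↔ m = i ∨ m = i')) →
        {x : Finset GolayPt | x ∈ MulAction.orbit (↥Cfsg.M24) d ∧ (d ∩ x).card * (12 - (d ∩ x).card) = j}.ncard =
          (dodMeet d i).card + (dodMeet d i').card := by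
      intro i i' hii' hm
      rw [← Finset.card_union_of_disjoint, ← Set.ncard_coe_finset]
      · congr 1
        ext x
        simp only [Set.mem_ofPred_eq, horb, Finset.coe_union, Set.mem_union, Finset.mem_coe, mem_dodMeet]
        constructor
        · rintro ⟨hx, hfx⟩
          rcases (hm _ (dodecad_inter_card hd hx)).mp hfx with h | h
          · exact Or.inl ⟨hx, h⟩
          · exact Or.inr ⟨hx, h⟩
        · rintro (⟨hx, h⟩ | ⟨hx, h⟩)
          · exact ⟨hx, (hm _ (dodecad_inter_card hd hx)).mpr (Or.inl h)⟩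
          · exact ⟨hx, (hm _ (dodecad_inter_card hd hx)).mpr (Or.inr h)⟩
      · rw [Finset.disjoint_left]
        intro x h1 h2
        rw [mem_dodMeet] at h1 h2
        exact hii' (h1.2.symm.trans h2.2)
    have hset1 : ∀ (i : ℕ), (∀ m : ℕ, (m = 0 ∨ m = 4 ∨ m = 6 ∨ m = 8 ∨ m = 12) →
          (m * (12 - m) = j ↔ m = i)) →
        {x : Finset GolayPt | x ∈ MulAction.orbit (↥Cfsg.M24) d ∧ (d ∩ x).card * (12 - (d ∩ x).card) = j}.ncard =
          (dodMeet d i).card := by
      intro i hm
      rw [← Set.ncard_coe_finset]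
      congr 1
      ext x
      simp only [Set.mem_ofPred_eq, horb, Finset.mem_coe, mem_dodMeet]
      constructor
      · rintro ⟨hx, hfx⟩
        exact ⟨hx, (hm _ (dodecad_inter_card hd hx)).mp hfx⟩
      · rintro ⟨hx, h⟩
        exact ⟨hx, (hm _ (dodecad_inter_card hd hx)).mpr h⟩
    rcases hj with rfl | rfl | rfl
    · rw [hset 0 12 (by decide) (by rintro m (h | h | h | h | h) <;> subst h <;> decide),
        dodMeet_zero hd, dodMeet_twelve hd]
      rfl
    · rw [hset 4 8 (by decide) (by rintro m (h | h | h | h | h) <;> subst h <;> decide),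
        card_dodMeet_four hd, card_dodMeet_eight hd]
      rfl
    · rw [hset1 6 (by rintro m (h | h | h | h | h) <;> subst h <;> decide), card_dodMeet_six hd]
      rfl
  · intro x hx y hy hxy
    have hxd := (horb x).mp hx
    have hyd := (horb y).mp hy
    have hcx := dodecad_inter_card hd hxd
    have hcy := dodecad_inter_card hd hyd
    have hcases : (d ∩ x).card = (d ∩ y).card ∨ (d ∩ x).card + (d ∩ y).card = 12 := by
      rcases hcx with h | h | h | h | h <;> rcases hcy with h' | h' | h' | h' | h' <;>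
        rw [h, h'] at hxy ⊢ <;> first | (left; rfl) | (right; rfl) | (exact absurd hxy (by decide))
    rcases hcases with h | h
    · obtain ⟨g, hg, hgd, hgx⟩ := OrbitDod.dodecad_stab_orbit hd hxd hyd h
      refine ⟨⟨g, hg⟩, ?_, hgx⟩
      rw [hmemK]
      exact Or.inl hgd
    · have hwx : w • x ∈ Cfsg.dodecads := (dodecads_smul_iff hw x).mpr hxd
      have hcard : (d ∩ w • x).card = (d ∩ y).card := by
        have e1 : (d ∩ w • x).card = (w⁻¹ • d ∩ x).card := by
          rw [← card_inter_smul w (w⁻¹ • d) x, smul_inv_smul]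
        have e2 := compl_inter_card d x
        rw [e1, hwdc]
        rw [Finset.inter_comm d x] at h
        rw [hxd.2] at e2
        rw [Finset.inter_comm d x] at e2
        omega
      obtain ⟨g, hg, hgd, hgx⟩ := OrbitDod.dodecad_stab_orbit hd hwx hyd hcard
      refine ⟨⟨g, hg⟩ * ⟨w, hw⟩, ?_, ?_⟩
      · rw [hmemK]
        right
        show (g * w) • d = dᶜ
        rw [mul_smul, hwd, smul_finset_compl', hgd]
      · show (g * w) • x = y
        rw [mul_smul, hgx]
  · rw [hdd]
    decide
  · decide
  · rw [hdd]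
    decide

end Cfsg.Agent.S1566
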