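import Cfsg.Statements.S1572
import Cfsg.Agent.Helper22.S1572Level2

set_option autoImplicit false
open scoped Pointwise
open Cfsg

namespace Cfsg.Agent.S1572

open Cfsg.Agent.S1572P in
/-- The stabiliser of the standard cross is a maximal proper subgroup of the lattice's automorphism group. -/
theorem result (H : Subgroup ↥Cfsg.Co0) (hH : (H : Set ↥Cfsg.Co0) = {g : ↥Cfsg.Co0 | (∀ v : ↥Cfsg.leechLattice, (v : Cfsg.GolayPt → ℤ) ∈ Cfsg.stdCross → ((g • v : ↥Cfsg.leechLattice) : Cfsg.GolayPt → ℤ) ∈ Cfsg.stdCross)}) : IsCoatom H := by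
  have hHN : H = NN := SetLike.coe_injective hH
  subst hHN
  haveI := finite_Co0
  refine ⟨fun htop => ?_, fun K hK => ?_⟩
  · have h1 := card_NN
    rw [htop, Subgroup.card_top, Cfsg.Agent.Helper22.Co0Order.card_Co0] at h1
    revert h1
    norm_num
  · rcases LEVEL1.level1 K hK with h | h
    · exact h
    · exact (LEVEL2.level2 K (le_of_lt hK) h).elim

end Cfsg.Agent.S1572
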