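import Cfsg.Statements.S1579
import Cfsg.Agent.Helper22.Co2Trans2

set_option autoImplicit false
open Cfsg Cfsg.Agent.Helper22.Co0Mono Cfsg.Agent.Helper22.MinTrans Cfsg.Agent.Helper22.Co2Trans2

namespace Cfsg.Agent.S1579

/-- inner product of two vectors from the sums of squares -/
theorem dot_of_norms (a b : GolayPt → ℤ) : 2 * dotInt a b = sqNorm (a + b) - sqNorm a - sqNorm b := by
  rw [sqNorm_add]; ring

/-- The stabiliser of a vector of customary norm 6 is transitive on the 552 minimal vectors that complete it to a sum of two minimal vectors. -/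
theorem result (u v v' : ↥Cfsg.leechLattice) (hu : Cfsg.sqNorm (u : Cfsg.GolayPt → ℤ) = 48) (hv : Cfsg.sqNorm (v : Cfsg.GolayPt → ℤ) = 32 ∧ Cfsg.sqNorm ((u - v) : Cfsg.GolayPt → ℤ) = 32) (hv' : Cfsg.sqNorm (v' : Cfsg.GolayPt → ℤ) = 32 ∧ Cfsg.sqNorm ((u - v') : Cfsg.GolayPt → ℤ) = 32) : ∃ g : ↥Cfsg.Co0, g • u = u ∧ g • v = v' := by
  have key : ∀ x : ↥leechLattice, sqNorm (x : GolayPt → ℤ) = 32 → sqNorm ((u - x) : GolayPt → ℤ) = 32 →
      sqNorm ((u - x : ↥leechLattice) : GolayPt → ℤ) = 32 ∧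
      dotInt (x : GolayPt → ℤ) ((u - x : ↥leechLattice) : GolayPt → ℤ) = -8 := by
    intro x hx hux
    have e : ((u - x : ↥leechLattice) : GolayPt → ℤ) = (u : GolayPt → ℤ) - (x : GolayPt → ℤ) := rfl
    refine ⟨by rw [e]; exact hux, ?_⟩
    have h1 := dot_of_norms (x : GolayPt → ℤ) ((u - x : ↥leechLattice) : GolayPt → ℤ)
    rw [e, add_sub_cancel, hu, hx, hux] at h1
    rw [e]
    omega
  obtain ⟨hb, hab⟩ := key v hv.1 hv.2
  obtain ⟨hb', hab'⟩ := key v' hv'.1 hv'.2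
  obtain ⟨g1, hg1⟩ := min_transitive v v' hv.1 hv'.1
  obtain ⟨g2, hg2, hg2'⟩ := ip8_transitive v' (g1 • (u - v)) (u - v') hv'.1 (by rw [co0_norm, hb]) hb'
    (by rw [← hg1, co0_dot, hab]) hab'
  refine ⟨g2 * g1, ?_, by rw [mul_smul, hg1, hg2]⟩
  have hu1 : u = v + (u - v) := by abel
  have hu2 : u = v' + (u - v') := by abel
  rw [mul_smul]
  conv_lhs => rw [hu1]
  rw [co0_add, co0_add, hg1, hg2, hg2']
  exact hu2.symm

end Cfsg.Agent.S1579
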