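import Cfsg.Statements.S1585
import Cfsg.Agent.Helper22.Co2Trans3

set_option autoImplicit false
open Cfsg Cfsg.Agent.Helper22.Co0Mono Cfsg.Agent.Helper22.Co0Center Cfsg.Agent.Helper22.Co2Trans3

namespace Cfsg.Agent.S1585

theorem dot_neg_add (a b c : GolayPt → ℤ) : dotInt (-(a + b)) c = -(dotInt a c + dotInt b c) := by
  simp only [dotInt, Pi.neg_apply, Pi.add_apply, ← Finset.sum_add_distrib, ← Finset.sum_neg_distrib]
  apply Finset.sum_congr rfl
  intro i _
  ring

theorem dot_self (a : GolayPt → ℤ) : dotInt a a = sqNorm a := by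
  simp only [dotInt, sqNorm]
  apply Finset.sum_congr rfl
  intro i _
  ring

theorem dot_comm (a b : GolayPt → ℤ) : dotInt a b = dotInt b a := by
  simp only [dotInt]
  apply Finset.sum_congr rfl
  intro i _
  ring

theorem sqNorm_neg (a : GolayPt → ℤ) : sqNorm (-a) = sqNorm a := by
  simp [sqNorm]

/-- Two vectors of customary norm 6 with inner product −4 are exchanged by some automorphism of the lattice. -/
theorem result (v w : ↥Cfsg.leechLattice) (hv : Cfsg.sqNorm (v : Cfsg.GolayPt → ℤ) = 48) (hw : Cfsg.sqNorm (w : Cfsg.GolayPt → ℤ) = 48) (hvw : Cfsg.dotInt (v : Cfsg.GolayPt → ℤ) (w : Cfsg.GolayPt → ℤ) = -32) : ∃ g : ↥Cfsg.Co0, g • v = w ∧ g • w = v := by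
  have e : ((-(v + w) : ↥leechLattice) : GolayPt → ℤ) = -((v : GolayPt → ℤ) + (w : GolayPt → ℤ)) := rfl
  have hx : sqNorm ((-(v + w) : ↥leechLattice) : GolayPt → ℤ) = 32 := by
    rw [e, sqNorm_neg, sqNorm_add, hv, hw, hvw]
    norm_num
  have hd1 : dotInt ((-(v + w) : ↥leechLattice) : GolayPt → ℤ) (v : GolayPt → ℤ) = -16 := by
    rw [e, dot_neg_add, dot_self, hv, dot_comm, hvw]
    norm_num
  have hd2 : dotInt ((-(v + w) : ↥leechLattice) : GolayPt → ℤ) (w : GolayPt → ℤ) = -16 := by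
    rw [e, dot_neg_add, dot_self, hw, hvw]
    norm_num
  obtain ⟨g, hgx, hgv⟩ := ip16_transitive48 (-(v + w)) v w hx hv hw hd1 hd2
  refine ⟨g, hgv, ?_⟩
  rw [co0_neg, co0_add, hgv] at hgx
  have h1 : g • w = -(-(w + g • w)) - w := by abel
  rw [h1, hgx]
  abel

end Cfsg.Agent.S1585
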