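import Cfsg.Statements.S1587
import Mathlib

set_option autoImplicit false
open Matrix
open Cfsg

namespace Cfsg.Agent.S1587

variable {n : Type*} [Fintype n]

theorem bil_symm (B : Matrix n n ℤ) (hsymm : B.IsSymm) (a b : n → ℤ) :
    b ⬝ᵥ (B *ᵥ a) = a ⬝ᵥ (B *ᵥ b) := by
  rw [Matrix.dotProduct_mulVec a B b, ← Matrix.mulVec_transpose, hsymm.eq, dotProduct_comm]

theorem q_add (B : Matrix n n ℤ) (hsymm : B.IsSymm) (a b : n → ℤ) :
    (a + b) ⬝ᵥ (B *ᵥ (a + b)) = a ⬝ᵥ (B *ᵥ a) + b ⬝ᵥ (B *ᵥ b) + 2 * (a ⬝ᵥ (B *ᵥ b)) := by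
  rw [Matrix.mulVec_add, add_dotProduct, dotProduct_add, dotProduct_add, bil_symm B hsymm a b]
  ring

theorem q_sub (B : Matrix n n ℤ) (hsymm : B.IsSymm) (a b : n → ℤ) :
    (a - b) ⬝ᵥ (B *ᵥ (a - b)) = a ⬝ᵥ (B *ᵥ a) + b ⬝ᵥ (B *ᵥ b) - 2 * (a ⬝ᵥ (B *ᵥ b)) := by
  rw [Matrix.mulVec_sub, sub_dotProduct, dotProduct_sub, dotProduct_sub, bil_symm B hsymm a b]
  ring

theorem q_two_smul (B : Matrix n n ℤ) (z : n → ℤ) :
    ((2 : ℤ) • z) ⬝ᵥ (B *ᵥ ((2 : ℤ) • z)) = 4 * (z ⬝ᵥ (B *ᵥ z)) := by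
  rw [Matrix.mulVec_smul, smul_dotProduct, dotProduct_smul]
  simp only [smul_eq_mul]
  ring

/-- First step of the characterisation of the rank-24 lattice: in an even lattice without roots, norm-8 vectors congruent modulo 2 are equal, opposite or orthogonal. -/
theorem result (B : Matrix (Fin 24) (Fin 24) ℤ) (hsymm : B.IsSymm) (hpos : ∀ x : Fin 24 → ℤ, x ≠ 0 → 0 < x ⬝ᵥ (B *ᵥ x)) (heven : ∀ x : Fin 24 → ℤ, (2 : ℤ) ∣ x ⬝ᵥ (B *ᵥ x)) (h2 : ∀ x : Fin 24 → ℤ, x ⬝ᵥ (B *ᵥ x) ≠ 2) (x y : Fin 24 → ℤ) (hx : x ⬝ᵥ (B *ᵥ x) = 8) (hy : y ⬝ᵥ (B *ᵥ y) = 8) (hc : ∀ i, (2 : ℤ) ∣ (x - y) i) : y = x ∨ y = -x ∨ x ⬝ᵥ (B *ᵥ y) = 0 := by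
  -- x - y = 2 z
  choose z hz using hc
  have hz' : x - y = (2 : ℤ) • z := by
    funext i
    rw [hz i]
    simp
  -- x + y = 2 (z + y)
  have hw' : x + y = (2 : ℤ) • (z + y) := by
    have : x = (2 : ℤ) • z + y := by rw [← hz']; abel
    rw [this]
    simp only [smul_add, two_smul]
    abel
  have h1 := q_sub B hsymm x y
  rw [hz', q_two_smul, hx, hy] at h1
  have h3 := q_add B hsymm x y
  rw [hw', q_two_smul, hx, hy] at h3
  set t := x ⬝ᵥ (B *ᵥ y) with ht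
  set qz := z ⬝ᵥ (B *ᵥ z) with hqz
  set qw := (z + y) ⬝ᵥ (B *ᵥ (z + y)) with hqw
  have hqz_nonneg : 0 ≤ qz := by
    by_cases h0 : z = 0
    · rw [hqz, h0]; simp
    · exact (hpos z h0).le
  have hqw_nonneg : 0 ≤ qw := by
    by_cases h0 : z + y = 0
    · rw [hqw, h0]; simp
    · exact (hpos (z + y) h0).le
  obtain ⟨a, ha⟩ := heven z
  obtain ⟨b, hb⟩ := heven (z + y)
  have hz2 := h2 z
  have hw2 := h2 (z + y)
  rw [← hqz] at ha hz2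
  rw [← hqw] at hb hw2
  -- qz + qw = 8
  have hsum : qz + qw = 8 := by linarith
  by_cases hz0 : z = 0
  · left
    rw [hz0] at hz'
    simp only [smul_zero] at hz'
    exact (sub_eq_zero.1 hz').symm
  by_cases hw0 : z + y = 0
  · right; left
    rw [hw0] at hw'
    simp only [smul_zero] at hw'
    exact (eq_neg_of_add_eq_zero_right hw')
  right; right
  have hqz_pos : 0 < qz := hpos z hz0
  have hqw_pos : 0 < qw := hpos (z + y) hw0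
  -- a, b ≥ 1, a ≠ 1, b ≠ 1, a + b = 4 → a = b = 2
  have ha1 : a ≠ 1 := by rintro rfl; exact hz2 (by rw [ha]; norm_num)
  have hb1 : b ≠ 1 := by rintro rfl; exact hw2 (by rw [hb]; norm_num)
  have : a = 2 := by omega
  have : qz = 4 := by omega
  linarith

end Cfsg.Agent.S1587
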