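import Cfsg.Statements.S1589
import Cfsg.Agent.Lead.S1589PART1
import Cfsg.Agent.Helper22.S1589PART2
import Cfsg.Agent.Helper22.S1589P3T
import Cfsg.Agent.Helper25.S1589P3R
import Cfsg.Agent.Helper11.S1589PART4
import Cfsg.Agent.Helper9.S1589DUADCARD

set_option autoImplicit false
set_option linter.all false
open scoped Pointwise
open Cfsg

namespace Cfsg.Agent.S1589

open Cfsg.Agent.Helper27 Cfsg.Agent.S1589P

/-- the image of a subgroup of `M24` in the permutations -/
def img (H : Subgroup ↥Cfsg.M24) : Subgroup (Equiv.Perm GolayPt) := H.map (Cfsg.M24).subtype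

theorem img_le (H : Subgroup ↥Cfsg.M24) : img H ≤ M24 := by
  rintro _ ⟨g, -, rfl⟩
  exact g.2

theorem card_img (H : Subgroup ↥Cfsg.M24) : Nat.card (img H) = Nat.card H :=
  Subgroup.card_map_of_injective (Subgroup.subtype_injective _)

theorem card_of_index (H : Subgroup ↥Cfsg.M24) (n m : ℕ) (hn : H.index = n) (hm : m * n = 244823040)
    (hn0 : 0 < n) : Nat.card (img H) = m := by
  rw [card_img]
  have h1 := Subgroup.card_mul_index H
  rw [hn, card_M24, ← hm] at h1
  exact Nat.eq_of_mul_eq_mul_right hn0 h1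

theorem finite_M24 : Finite ↥Cfsg.M24 := Nat.finite_of_card_ne_zero (by rw [card_M24]; norm_num)

/-- a subgroup whose image stabilises `X` and which is as large as the stabiliser is the stabiliser -/
theorem eq_stab {β : Type*} [MulAction (Equiv.Perm GolayPt) β] (H : Subgroup ↥Cfsg.M24) (X : β)
    (hinv : ∀ k ∈ img H, k • X = X) (hcard : Nat.card (MulAction.stabilizer Cfsg.M24 X) ≤ Nat.card H) :
    H = MulAction.stabilizer Cfsg.M24 X := by
  haveI := finite_M24
  have hle : H ≤ MulAction.stabilizer Cfsg.M24 X := by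
    intro g hg
    rw [MulAction.mem_stabilizer_iff]
    exact hinv g.1 ⟨g, hg, rfl⟩
  exact Subgroup.eq_of_le_of_card_ge hle hcard

/-- Subgroups of the group of the length-24 code of index 759, 276 and 1771 are exactly the octad, duad and sextet stabilisers, and no subgroup has index 253. -/
theorem result : (∀ H : Subgroup ↥Cfsg.M24, H.index = 759 → ∃ o ∈ Cfsg.octads, H = MulAction.stabilizer Cfsg.M24 o) ∧ (∀ H : Subgroup ↥Cfsg.M24, H.index = 276 → ∃ s : Finset Cfsg.GolayPt, s.card = 2 ∧ H = MulAction.stabilizer Cfsg.M24 s) ∧ (∀ H : Subgroup ↥Cfsg.M24, H.index = 1771 → ∃ S ∈ Cfsg.sextets, H = MulAction.stabilizer Cfsg.M24 S) ∧ ∀ H : Subgroup ↥Cfsg.M24, H.index ≠ 253 := by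
  refine ⟨?_, ?_, ?_, ?_⟩
  · intro H hH
    have hc := card_of_index H 759 322560 hH (by norm_num) (by norm_num)
    obtain ⟨o, ho, hinv⟩ := part1 (img_le H) hc
    refine ⟨o, ho, eq_stab H o hinv ?_⟩
    rw [← card_img H, hc, ← card_stabP_eq, card_stabP_octad ho]
  · intro H hH
    have hc := card_of_index H 276 887040 hH (by norm_num) (by norm_num)
    obtain ⟨s, hs, hinv⟩ := part2 (img_le H) hc
    refine ⟨s, hs, eq_stab H s hinv ?_⟩
    rw [← card_img H, hc]
    exact card_stab_duad_le hs
  · intro H hH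
    have hc := card_of_index H 1771 138240 hH (by norm_num) (by norm_num)
    obtain ⟨hT, o, ho, hQ, hall⟩ := part3_tetrad (img_le H) hc
    have hone : o.Nonempty := by rw [← Finset.card_pos, ho.2]; norm_num
    obtain ⟨x, hxo⟩ := hone
    obtain ⟨R, hRo, hRc, hstab, htr⟩ := hall x hxo
    obtain ⟨S, hS, hinv⟩ := part3_sextet (img_le H) hT ho hQ hxo hRo hRc hstab htr
    refine ⟨S, hS, eq_stab H S hinv ?_⟩
    rw [← card_img H, hc, Cfsg.Agent.Helper22.SextetStruct.card_stab hS]
  · intro H hH
    have hc := card_of_index H 253 967680 hH (by norm_num) (by norm_num)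
    exact part4 (img_le H) hc

end Cfsg.Agent.S1589
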