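import Cfsg.Statements.S1590
import Cfsg.Agent.Helper22.Ternary
import Mathlib

set_option autoImplicit false
open Cfsg

namespace Cfsg.Agent.S1590

open Cfsg.Agent.Helper22.Tern

theorem weights_enc : ∀ c : E, c = 0 ∨ (ternarySupport (enc c)).card = 6 ∨
    (ternarySupport (enc c)).card = 9 ∨ (ternarySupport (enc c)).card = 12 := by
  decide +kernel

theorem count6 : (Finset.univ.filter (fun c : E => (ternarySupport (enc c)).card = 6)).card = 264 := by
  decide +kernel

theorem count9 : (Finset.univ.filter (fun c : E => (ternarySupport (enc c)).card = 9)).card = 440 := by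
  decide +kernel

theorem count12 : (Finset.univ.filter (fun c : E => (ternarySupport (enc c)).card = 12)).card = 24 := by
  decide +kernel

theorem set_eq (w : ℕ) : {x : ArrayPt → ZMod 3 | x ∈ ternaryGolayCode ∧ (ternarySupport x).card = w}
    = enc '' {c : E | (ternarySupport (enc c)).card = w} := by
  ext x
  constructor
  · rintro ⟨hx, hw⟩
    obtain ⟨c, rfl⟩ := (mem_code_iff x).1 hx
    exact ⟨c, hw, rfl⟩
  · rintro ⟨c, hc, rfl⟩
    exact ⟨enc_mem c, hc⟩

theorem ncard_eq (w : ℕ) : {x : ArrayPt → ZMod 3 | x ∈ ternaryGolayCode ∧ (ternarySupport x).card = w}.ncard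
    = (Finset.univ.filter (fun c : E => (ternarySupport (enc c)).card = w)).card := by
  rw [set_eq, Set.ncard_image_of_injective _ enc_injective, Set.ncard_eq_toFinset_card']
  congr 1
  ext c
  simp

/-- The length-12 ternary code has 729 words with weight distribution 0^1 6^264 9^440 12^24. -/
theorem result : Nat.card ↥Cfsg.ternaryGolayCode = 729 ∧ (∀ x ∈ Cfsg.ternaryGolayCode, x ≠ 0 → (Cfsg.ternarySupport x).card = 6 ∨ (Cfsg.ternarySupport x).card = 9 ∨ (Cfsg.ternarySupport x).card = 12) ∧ {x : Cfsg.ArrayPt → ZMod 3 | x ∈ Cfsg.ternaryGolayCode ∧ (Cfsg.ternarySupport x).card = 6}.ncard = 264 ∧ {x : Cfsg.ArrayPt → ZMod 3 | x ∈ Cfsg.ternaryGolayCode ∧ (Cfsg.ternarySupport x).card = 9}.ncard = 440 ∧ {x : Cfsg.ArrayPt → ZMod 3 | x ∈ Cfsg.ternaryGolayCode ∧ (Cfsg.ternarySupport x).card = 12}.ncard = 24 := by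
  refine ⟨card_code, ?_, ?_, ?_, ?_⟩
  · intro x hx hx0
    obtain ⟨c, rfl⟩ := (mem_code_iff x).1 hx
    rcases weights_enc c with rfl | h
    · exfalso
      apply hx0
      funext p
      simp [enc]
    · exact h
  · rw [ncard_eq, count6]
  · rw [ncard_eq, count9]
  · rw [ncard_eq, count12]

end Cfsg.Agent.S1590
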