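import Cfsg.Statements.S1595
import Cfsg.Agent.Helper22.Steiner

set_option autoImplicit false
open Cfsg

namespace Cfsg.Agent.S1595

/-- Leech triangle of S(5, 6, 12): blocks meet in 0, 2, 3 or 4 points, and a block is met exactly in a given 2-, 3- or 4-subset by 3, 2, 3 blocks respectively. -/
theorem result {α : Type*} [Fintype α] [DecidableEq α] (hα : Fintype.card α = 12) {B : Set (Finset α)} (hB : Cfsg.IsSteinerSystem 5 6 B) (b : Finset α) (hb : b ∈ B) : (∀ c ∈ B, c ≠ b → (b ∩ c).card = 0 ∨ (b ∩ c).card = 2 ∨ (b ∩ c).card = 3 ∨ (b ∩ c).card = 4) ∧ ∀ s ⊆ b, (s.card = 2 → {c : Finset α | c ∈ B ∧ b ∩ c = s}.ncard = 3) ∧ (s.card = 3 → {c : Finset α | c ∈ B ∧ b ∩ c = s}.ncard = 2) ∧ (s.card = 4 → {c : Finset α | c ∈ B ∧ b ∩ c = s}.ncard = 3) := by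
  open Cfsg.Agent.Helper22.Design in
  refine ⟨?_, ?_⟩
  · intro c hc hcb
    have hsub : b ∩ c ⊆ b := Finset.inter_subset_left
    have hv := meet_5612_values hα hB hb (b ∩ c) hsub
    have hpos : 0 < meet (toFin B) b (b ∩ c) := by
      unfold meet
      rw [Finset.card_pos]
      exact ⟨c, by simp [mem_toFin, hc, Finset.inter_comm]⟩
    have h6 : b.card = 6 := hB.1 b hb
    have hle : (b ∩ c).card ≤ 6 := h6 ▸ Finset.card_le_card hsub
    have hne6 : (b ∩ c).card ≠ 6 := by
      intro h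
      apply hcb
      have : 5 ≤ (c ∩ b).card := by rw [Finset.inter_comm]; omega
      exact block_eq_of_inter hB hc hb this
    rw [hv] at hpos
    interval_cases h : (b ∩ c).card <;> simp_all
  · intro s hs
    have hv := meet_5612_values hα hB hb s hs
    refine ⟨fun h => ?_, fun h => ?_, fun h => ?_⟩ <;>
    · rw [ncard_meet, hv, h]; rfl

end Cfsg.Agent.S1595
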