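import Cfsg.Statements.S1599
import Cfsg.Agent.Helper22.QuartOrb

set_option autoImplicit false
open scoped Pointwise
open Cfsg Cfsg.Agent.Helper27 Cfsg.Agent.Helper22 Cfsg.Agent.Helper22.QuartOrb Cfsg.Agent.Helper22.QuartCert Cfsg.Agent.Helper22.Quartet

namespace Cfsg.Agent.S1599

/-- A quartet stabiliser has five orbits on the quartets of its dodecad, of sizes 1, 12, 27, 72, 108. -/
theorem result (d : Finset Cfsg.GolayPt) (hd : d ∈ Cfsg.dodecads) (Q : Finset (Finset Cfsg.GolayPt)) (hQ : Q ∈ Cfsg.quartets d) : ∃ X₁ ∈ Cfsg.quartets d, ∃ X₂ ∈ Cfsg.quartets d, ∃ X₃ ∈ Cfsg.quartets d, ∃ X₄ ∈ Cfsg.quartets d, (MulAction.orbit ↥(MulAction.stabilizer Cfsg.M24 d ⊓ MulAction.stabilizer Cfsg.M24 Q) X₁).ncard = 12 ∧ (MulAction.orbit ↥(MulAction.stabilizer Cfsg.M24 d ⊓ MulAction.stabilizer Cfsg.M24 Q) X₂).ncard = 27 ∧ (MulAction.orbit ↥(MulAction.stabilizer Cfsg.M24 d ⊓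 MulAction.stabilizer Cfsg.M24 Q) X₃).ncard = 72 ∧ (MulAction.orbit ↥(MulAction.stabilizer Cfsg.M24 d ⊓ MulAction.stabilizer Cfsg.M24 Q) X₄).ncard = 108 ∧ Cfsg.quartets d = {Q} ∪ MulAction.orbit ↥(MulAction.stabilizer Cfsg.M24 d ⊓ MulAction.stabilizer Cfsg.M24 Q) X₁ ∪ MulAction.orbit ↥(MulAction.stabilizer Cfsg.M24 d ⊓ MulAction.stabilizer Cfsg.M24 Q) X₂ ∪ MulAction.orbit ↥(MulAction.stabilizer Cfsg.M24 d ⊓ MulAction.stabilizer Cfsg.M24 Q) X₃ ∪ MulAction.orbit ↥(MulAction.stabilizer Cfsg.M24 d ⊓ MulAction.stabilizer Cfsg.M24 Q) X₄ := by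
  classical
  have htrans := gen_trans hd hQ
  have hcount := gen_count hd hQ
  have hself : {X | X ∈ quartets d ∧ inv4 Q X = 324} = {Q} := by
    have h1 : {X | X ∈ quartets d ∧ inv4 Q X = 324}.ncard = 1 := by rw [hcount, cnt324]
    obtain ⟨a, ha⟩ := Set.ncard_eq_one.mp h1
    have : Q ∈ {X | X ∈ quartets d ∧ inv4 Q X = 324} := ⟨hQ, gen_self hd hQ⟩
    rw [ha, Set.mem_singleton_iff] at this
    rw [ha, this]
  have hF : ∀ g : ↥(MulAction.stabilizer Cfsg.M24 d ⊓ MulAction.stabilizer Cfsg.M24 Q), ∀ X ∈ quartets d,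
      g • X ∈ quartets d := by
    intro g X hX
    have hgd : ((g : ↥M24) : Equiv.Perm GolayPt) • d = d := MulAction.mem_stabilizer_iff.mp g.2.1
    exact smul_quartet_mem ((mem_stabP d _).mpr ⟨g.1.2, hgd⟩) hX
  have hinv : ∀ g : ↥(MulAction.stabilizer Cfsg.M24 d ⊓ MulAction.stabilizer Cfsg.M24 Q), ∀ X ∈ quartets d,
      inv4 Q (g • X) = inv4 Q X := by
    intro g X _
    have hgQ : ((g : ↥M24) : Equiv.Perm GolayPt) • Q = Q := MulAction.mem_stabilizer_iff.mp g.2.2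
    have := inv4_smul ((g : ↥M24) : Equiv.Perm GolayPt) Q X
    rw [hgQ] at this
    exact this
  have htr : ∀ X ∈ quartets d, ∀ Y ∈ quartets d, inv4 Q X = inv4 Q Y →
      ∃ g : ↥(MulAction.stabilizer Cfsg.M24 d ⊓ MulAction.stabilizer Cfsg.M24 Q), g • X = Y := by
    intro X hX Y hY hXY
    obtain ⟨g, hg, hgX⟩ := htrans X hX Y hY hXY
    obtain ⟨hgM, hgd, hgQ⟩ := (mem_stab2 d Q g).mp hg
    exact ⟨⟨⟨g, hgM⟩, ⟨MulAction.mem_stabilizer_iff.mpr hgd, MulAction.mem_stabilizer_iff.mpr hgQ⟩⟩, hgX⟩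
  obtain ⟨X₁, hX₁, ho₁, hn₁⟩ := OrbitClasses.exists_orbit_eq_class
    (G := ↥(MulAction.stabilizer Cfsg.M24 d ⊓ MulAction.stabilizer Cfsg.M24 Q)) (quartets d) (inv4 Q) hF hinv htr
    90 12 (by rw [hcount, cnt90]) (by norm_num)
  obtain ⟨X₂, hX₂, ho₂, hn₂⟩ := OrbitClasses.exists_orbit_eq_class
    (G := ↥(MulAction.stabilizer Cfsg.M24 d ⊓ MulAction.stabilizer Cfsg.M24 Q)) (quartets d) (inv4 Q) hF hinv htr
    68 27 (by rw [hcount, cnt68]) (by norm_num)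
  obtain ⟨X₃, hX₃, ho₃, hn₃⟩ := OrbitClasses.exists_orbit_eq_class
    (G := ↥(MulAction.stabilizer Cfsg.M24 d ⊓ MulAction.stabilizer Cfsg.M24 Q)) (quartets d) (inv4 Q) hF hinv htr
    54 72 (by rw [hcount, cnt54]) (by norm_num)
  obtain ⟨X₄, hX₄, ho₄, hn₄⟩ := OrbitClasses.exists_orbit_eq_class
    (G := ↥(MulAction.stabilizer Cfsg.M24 d ⊓ MulAction.stabilizer Cfsg.M24 Q)) (quartets d) (inv4 Q) hF hinv htr
    26 108 (by rw [hcount, cnt26]) (by norm_num)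
  refine ⟨X₁, hX₁, X₂, hX₂, X₃, hX₃, X₄, hX₄, hn₁, hn₂, hn₃, hn₄, ?_⟩
  rw [ho₁, ho₂, ho₃, ho₄, ← hself]
  ext X
  simp only [Set.mem_union, Set.mem_ofPred_eq]
  constructor
  · intro hX
    rcases gen_vals hd hQ hX with h | h | h | h | h
    · exact Or.inl (Or.inl (Or.inl (Or.inl ⟨hX, h⟩)))
    · exact Or.inl (Or.inl (Or.inl (Or.inr ⟨hX, h⟩)))
    · exact Or.inl (Or.inl (Or.inr ⟨hX, h⟩))
    · exact Or.inl (Or.inr ⟨hX, h⟩)
    · exact Or.inr ⟨hX, h⟩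
  · rintro ((((h | h) | h) | h) | h) <;> exact h.1

end Cfsg.Agent.S1599
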