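import Cfsg.Statements.S1606
import Cfsg.Agent.Helper27.M22Big
import Cfsg.Agent.Helper27.M24Trans

set_option autoImplicit false
open scoped Pointwise
open Cfsg

namespace Cfsg.Agent.S1606

open Cfsg.Agent.Helper27

/-- a subgroup of a two-point stabiliser whose order is divisible by 11 and greater than 660 is the whole
stabiliser -/
theorem card_eq_of_card (p q : Cfsg.GolayPt) (hpq : p ≠ q)
    (H : Subgroup ↥(MulAction.stabilizer Cfsg.M24 p ⊓ MulAction.stabilizer Cfsg.M24 q))
    (h11 : 11 ∣ Nat.card H) (hbig : 660 < Nat.card H) : Nat.card H = 443520 := by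
  -- the subgroup as a group of permutations
  have hcard : Nat.card ((H.map (Subgroup.subtype _)).map M24.subtype) = Nat.card H := by
    rw [Subgroup.card_map_of_injective (Subgroup.subtype_injective _),
      Subgroup.card_map_of_injective (Subgroup.subtype_injective _)]
  have hmem : ∀ k ∈ (H.map (Subgroup.subtype _)).map M24.subtype, k ∈ M24 ∧ k p = p ∧ k q = q := by
    intro k hk
    obtain ⟨a, ha, rfl⟩ := hk
    obtain ⟨b, -, rfl⟩ := ha
    have hb := b.2
    rw [Subgroup.mem_inf, MulAction.mem_stabilizer_iff, MulAction.mem_stabilizer_iff] at hb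
    exact ⟨b.1.2, hb.1, hb.2⟩
  generalize (H.map (Subgroup.subtype _)).map M24.subtype = K' at hcard hmem
  -- move the two points to the first two points
  have h2 : MulAction.IsMultiplyPretransitive M24 GolayPt 2 := M24_isMultiplyPretransitive_of_le (by norm_num)
  obtain ⟨g, hgp, hgq⟩ := MulAction.is_two_pretransitive_iff.mp h2 hpq pt_zero_ne_one
  have hgp' : g.1 p = pt 0 := hgp
  have hgq' : g.1 q = pt 1 := hgq
  have hK : conjH g.1 K' ≤ G2 := by
    intro k hk
    rw [mem_conjH] at hk
    obtain ⟨hM, hp, hq⟩ := hmem _ hk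
    rw [mem_G2]
    have e : k = g.1 * (g.1⁻¹ * k * g.1) * g.1⁻¹ := by group
    refine ⟨?_, ?_, ?_⟩
    · rw [e]
      exact M24.mul_mem (M24.mul_mem g.2 hM) (M24.inv_mem g.2)
    · have h3 : (g.1⁻¹ * k * g.1) p = p := hp
      rw [Equiv.Perm.mul_apply, Equiv.Perm.mul_apply, hgp', Equiv.Perm.inv_eq_iff_eq] at h3
      rw [h3, hgp']
    · have h3 : (g.1⁻¹ * k * g.1) q = q := hq
      rw [Equiv.Perm.mul_apply, Equiv.Perm.mul_apply, hgq', Equiv.Perm.inv_eq_iff_eq] at h3
      rw [h3, hgq']
  have hc : Nat.card (conjH g.1 K') = Nat.card H := by rw [card_conjH, hcard]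
  have := eq_G2_of_card _ hK (by rw [hc]; exact h11) (by rw [hc]; exact hbig)
  rw [← hc, this, card_G2]

/-- The stabiliser of two points in the group of the length-24 code has no subgroups of index 56 or 210. -/
theorem result (p q : Cfsg.GolayPt) (hpq : p ≠ q) (H : Subgroup ↥(MulAction.stabilizer Cfsg.M24 p ⊓ MulAction.stabilizer Cfsg.M24 q)) : H.index ≠ 56 ∧ H.index ≠ 210 := by
  have h1 := Subgroup.card_mul_index H
  rw [card_stabilizer2_M24 p q hpq] at h1
  constructor
  · intro h
    rw [h] at h1
    have h2 : Nat.card H = 7920 := by omega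
    have := card_eq_of_card p q hpq H (by rw [h2]; norm_num) (by rw [h2]; norm_num)
    omega
  · intro h
    rw [h] at h1
    have h2 : Nat.card H = 2112 := by omega
    have := card_eq_of_card p q hpq H (by rw [h2]; norm_num) (by rw [h2]; norm_num)
    omega

end Cfsg.Agent.S1606
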