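import Cfsg.Statements.S1610
import Cfsg.Agent.Helper22.Hexacode
import Mathlib

set_option autoImplicit false
open Cfsg

namespace Cfsg.Agent.S1610

open Cfsg.Agent.Helper22.F4
open Cfsg.Agent.Helper22.Hexa

theorem weights_M : ∀ c : P, c = (0, 0, 0) ∨ (Finset.univ.filter fun i => encM c i ≠ 0).card = 4 ∨
    (Finset.univ.filter fun i => encM c i ≠ 0).card = 6 := by
  decide +kernel

theorem count4 : (Finset.univ.filter (fun c : P => (Finset.univ.filter fun i => encM c i ≠ 0).card = 4)).card = 45 := by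
  decide +kernel

theorem count6 : (Finset.univ.filter (fun c : P => (Finset.univ.filter fun i => encM c i ≠ 0).card = 6)).card = 18 := by
  decide +kernel

section
variable {F : Type*} [Field F] [Fintype F] [DecidableEq F] {ω : F}

theorem set_eq (hF : Fintype.card F = 4) (hω : ω ^ 2 + ω + 1 = 0) (w : ℕ) :
    {x : Fin 6 → F | x ∈ hexacode F ω ∧ (Finset.univ.filter fun i => x i ≠ 0).card = w}
    = enc ω '' {c : P | (Finset.univ.filter fun i => encM c i ≠ 0).card = w} := by
  ext x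
  constructor
  · rintro ⟨hx, hw⟩
    obtain ⟨c, rfl⟩ := (mem_hexacode_iff hF hω x).1 hx
    rw [weight_enc hF hω] at hw
    exact ⟨c, hw, rfl⟩
  · rintro ⟨c, hc, rfl⟩
    refine ⟨(mem_hexacode_iff hF hω _).2 ⟨c, rfl⟩, ?_⟩
    rw [weight_enc hF hω]
    exact hc

theorem ncard_eq (hF : Fintype.card F = 4) (hω : ω ^ 2 + ω + 1 = 0) (w : ℕ) :
    {x : Fin 6 → F | x ∈ hexacode F ω ∧ (Finset.univ.filter fun i => x i ≠ 0).card = w}.ncard
    = (Finset.univ.filter (fun c : P => (Finset.univ.filter fun i => encM c i ≠ 0).card = w)).card := by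
  rw [set_eq hF hω, Set.ncard_image_of_injective _ (enc_injective hF hω), Set.ncard_eq_toFinset_card']
  congr 1
  ext c
  simp

/-- The hexacode is in bijection with the parameter space. -/
noncomputable def codeEquiv (hF : Fintype.card F = 4) (hω : ω ^ 2 + ω + 1 = 0) : P ≃ hexacode F ω :=
  Equiv.ofBijective (fun c => ⟨enc ω c, (mem_hexacode_iff hF hω _).2 ⟨c, rfl⟩⟩)
    ⟨fun c d h => enc_injective hF hω (congrArg Subtype.val h),
     fun x => by
      obtain ⟨c, hc⟩ := (mem_hexacode_iff hF hω x.1).1 x.2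
      exact ⟨c, Subtype.ext hc⟩⟩

end

/-- The hexacode has 64 words, minimum weight 4, and weight distribution 0^1 4^45 6^18. -/
theorem result (F : Type*) [Field F] [Fintype F] [DecidableEq F] (hF : Fintype.card F = 4) (ω : F) (hω : ω ^ 2 + ω + 1 = 0) : Nat.card ↥(Cfsg.hexacode F ω) = 64 ∧ (∀ x ∈ Cfsg.hexacode F ω, x ≠ 0 → (Finset.univ.filter fun i => x i ≠ 0).card = 4 ∨ (Finset.univ.filter fun i => x i ≠ 0).card = 6) ∧ {x : Fin 6 → F | x ∈ Cfsg.hexacode F ω ∧ (Finset.univ.filter fun i => x i ≠ 0).card = 4}.ncard = 45 ∧ {x : Fin 6 → F | x ∈ Cfsg.hexacode F ω ∧ (Finset.univ.filter fun i => x i ≠ 0).card = 6}.ncard = 18 := by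
  refine ⟨?_, ?_, ?_, ?_⟩
  · rw [← Nat.card_congr (codeEquiv hF hω)]
    simp [P, Nat.card_eq_fintype_card]
  · intro x hx hx0
    obtain ⟨c, rfl⟩ := (mem_hexacode_iff hF hω x).1 hx
    rw [weight_enc hF hω]
    rcases weights_M c with rfl | h
    · exact absurd enc_zero hx0
    · exact h
  · rw [ncard_eq hF hω, count4]
  · rw [ncard_eq hF hω, count6]

end Cfsg.Agent.S1610
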