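import Cfsg.Statements.S1615
-- import your own Cfsg.Agent.* helpers here
import Mathlib
import Cfsg.Agent.Helper22.S1615Defs
import Cfsg.Agent.Helper22.S1615LAM0
import Cfsg.Agent.Helper22.S1615TWIN
import Cfsg.Agent.Helper22.S1615MU1
import Cfsg.Agent.Helper16.F3Glue
import Cfsg.Agent.Helper17.S1615SEP
import Cfsg.Agent.Helper4.S1615K3POW
import Cfsg.Agent.Helper18.S1615K3
import Cfsg.Agent.Helper20.S1615S3ISO
import Cfsg.Agent.Helper20.S1615O3CARD
import Cfsg.Agent.S5365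
import Cfsg.Agent.Helper24.Burnside

set_option autoImplicit false
open Cfsg

namespace Cfsg.Agent.S1615

open Cfsg.Agent.S1615P

/-- If O(⟨D_x⟩) is not central in ⟨D_x⟩ for some transposition x, the 3-transposition group is the symmetric group of degree 5. -/
theorem result {G : Type*} [Group G] [Finite G] (hsol : ∀ N : Subgroup G, N.Normal → Group.IsSolvable ↥N → N = ⊥) (hperf : ⁅commutator G, commutator G⁆ = commutator G) {D : Set G} (hD : Cfsg.IsThreeTranspositionClass D) (x : G) (hx : x ∈ D) (h : ¬ Cfsg.oddCore ↥(Subgroup.closure {y : G | y ∈ D ∧ y ≠ x ∧ Commute x y}) ≤ Subgroup.center ↥(Subgroup.closure {y : G | y ∈ D ∧ y ≠ x ∧ Commute x y})) : Nonempty (G ≃* Equiv.Perm (Fin 5)) := by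
  classical
  obtain ⟨hs, hn⟩ := Cfsg.Agent.Helper16.F3.simple_of_fischer hsol hperf hD
  have hP := Cfsg.Agent.Helper16.F3.prim_of_simple hD hs hn
  have hTT := hP.tt
  obtain ⟨e, f, htw⟩ := exists_tw hTT hx h
  have F1 := tw_all hP ⟨x, hx, e, f, htw⟩
  have F2 : ∀ p ∈ D, ∀ q ∈ D, ¬ Commute p q → ∃ x ∈ D, x ≠ p ∧ Commute x p ∧ ¬ Commute x q :=
    fun p hp q hq hpq => exists_sep hP hp hq hpq
  have hL0 := lam0 hTT F1 F2
  -- every D_d has at least two members, so the exponent is positive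
  have hk : ∀ d ∈ D, ∃ a : ℕ, 1 ≤ a ∧ {y : G | y ∈ D ∧ y ≠ d ∧ Commute d y}.ncard = 3 ^ a := by
    intro d hd
    obtain ⟨a, ha⟩ := card_Dd_pow hP hL0 hd
    refine ⟨a, ?_, ha⟩
    by_contra hcon
    have ha0 : a = 0 := by omega
    rw [ha0, pow_zero] at ha
    obtain ⟨e', he', hne', hce'⟩ := Cfsg.Agent.Helper16.F3.exists_comm hP hd
    obtain ⟨f', ht'⟩ := F1 d hd e' he' hne' hce'.symm
    obtain ⟨he1, hf1, hed1, hfd1, hce1, hcf1, hnc1, -⟩ := ht'
    have hfin : {y : G | y ∈ D ∧ y ≠ d ∧ Commute d y}.Finite := Set.toFinite _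
    have h1 : e' ∈ {y : G | y ∈ D ∧ y ≠ d ∧ Commute d y} := ⟨he1, hed1, hce1⟩
    have h2 : f' ∈ {y : G | y ∈ D ∧ y ≠ d ∧ Commute d y} := ⟨hf1, hfd1, hcf1⟩
    rw [Set.ncard_eq_one] at ha
    obtain ⟨z, hz⟩ := ha
    rw [hz] at h1 h2
    rw [Set.mem_singleton_iff] at h1 h2
    exact hnc1 (by rw [h1, h2])
  have hmu : ∀ d ∈ D, ∀ a ∈ D, ¬ Commute d a → ∃! e, e ∈ D ∧ Commute d e ∧ Commute a e :=
    fun d hd a ha hna => mu_one hP hL0 hk hd ha hna
  have hk3 := card_Dd_three hP hL0 hk hmu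
  have hZ : Subgroup.center G = ⊥ := by
    apply hsol _ inferInstance
    apply Group.isSolvable_of_comm
    intro a b
    ext
    have := b.2
    rw [Subgroup.mem_center_iff] at this
    exact this a.1
  have hconj : ∀ g : G, ∀ d ∈ D, g * d * g⁻¹ ∈ D := hTT.2.1
  have hne : D.Nonempty := ⟨x, hx⟩
  have hloc : ∀ d ∈ D, Nonempty (↥(Subgroup.closure {y : G | y ∈ D ∧ y ≠ d ∧ Commute d y}) ≃*
      Equiv.Perm (Fin 3)) ∧ Nat.card (Cfsg.pCore 3 ↥(Subgroup.centralizer ({d} : Set G))) = 3 := by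
    intro d hd
    refine ⟨closure_Dd_equiv hTT hL0 hd (hk3 d hd), ?_⟩
    apply card_pCore_three hTT hZ hL0 hk3 _ hd
    intro d hd a ha hna
    exact (hmu d hd a ha hna).exists
  have htop : Subgroup.closure D = ⊤ := hTT.2.2
  rcases Cfsg.Agent.S5365.result hD.1 hconj hne hloc with h5 | h33
  · rw [htop] at h5
    obtain ⟨φ⟩ := h5
    exact ⟨Subgroup.topEquiv.symm.trans φ⟩
  · exfalso
    rw [htop] at h33
    obtain ⟨φ⟩ := h33
    have ψ : G ≃* Equiv.Perm (Fin 3) × Equiv.Perm (Fin 3) := Subgroup.topEquiv.symm.trans φ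
    have hcard : Nat.card G = 2 ^ 2 * 3 ^ 2 := by
      rw [Nat.card_congr ψ.toEquiv, Nat.card_prod, Nat.card_eq_fintype_card, Fintype.card_perm,
        Fintype.card_fin]
      rfl
    have hsolG : Group.IsSolvable G :=
      Cfsg.Agent.Helper24.isSolvable_of_card_eq_prime_pow_mul 2 3 2 2 Nat.prime_two
        Nat.prime_three hcard
    have htb : (⊤ : Subgroup G) = ⊥ := hsol ⊤ inferInstance inferInstance
    have hx1 : x = 1 := by
      have : x ∈ (⊤ : Subgroup G) := Subgroup.mem_top x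
      rw [htb] at this
      exact Subgroup.mem_bot.mp this
    exact Cfsg.Agent.Helper16.F3.ne_one hTT hx hx1

end Cfsg.Agent.S1615
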