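import Cfsg.Statements.S1618
import Mathlib
import Cfsg.Agent.S5560
import Cfsg.Agent.Helper14.PCore

set_option autoImplicit false
open Cfsg
open scoped commutatorElement

namespace Cfsg.Agent.S1618

/-- A group generated by a class of involutions whose pairwise products (of distinct members) have p-power order for a fixed odd prime p has nilpotent derived subgroup. -/
theorem result {G : Type*} [Group G] [Finite G] (p : ℕ) (hp : p.Prime) (hodd : p ≠ 2) {D : Set G} (hinv : ∀ d ∈ D, orderOf d = 2) (hconj : ∃ d ∈ D, D = conjugatesOf d) (hgen : Subgroup.closure D = ⊤) (hprod : ∀ x ∈ D, ∀ y ∈ D, x ≠ y → ∃ k : ℕ, orderOf (x * y) = p ^ k) : Group.IsNilpotent ↥(commutator G) := by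
  classical
  obtain ⟨d, hdD, rfl⟩ := hconj
  have : Fact p.Prime := ⟨hp⟩
  have hd := hinv d hdD
  have hdd : d * d = 1 := by rw [← sq, ← hd, pow_orderOf_eq_one]
  have hprod' : ∀ a ∈ conjugatesOf d, ∀ b ∈ conjugatesOf d, ∃ k : ℕ, orderOf (a * b) = p ^ k := by
    intro a ha b hb
    by_cases hab : a = b
    · subst hab
      refine ⟨0, ?_⟩
      have : a * a = 1 := by rw [← sq, ← hinv a ha, pow_orderOf_eq_one]
      rw [this]; simp
    · exact hprod a ha b hb hab
  have key := Cfsg.Agent.S5560.result hp hodd d hd hprod'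
  set Q : Subgroup G := Cfsg.pCore p G with hQ
  have : Q.Normal := Cfsg.Agent.Helper14.pCore_normal p
  have hmap : ∀ g : G, (QuotientGroup.mk' Q) g ∈ Subgroup.zpowers ((QuotientGroup.mk' Q) d) := by
    intro g
    have hg : g ∈ Subgroup.closure (conjugatesOf d) := by rw [hgen]; trivial
    induction hg using Subgroup.closure_induction with
    | mem x hx =>
      have h1 : x * d ∈ Q := key x hx d mem_conjugatesOf_self
      have h2 : (QuotientGroup.mk' Q) x * (QuotientGroup.mk' Q) d = 1 := by
        rw [← map_mul]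
        exact (QuotientGroup.eq_one_iff _).mpr h1
      have h3 : (QuotientGroup.mk' Q) x = ((QuotientGroup.mk' Q) d)⁻¹ := eq_inv_of_mul_eq_one_left h2
      rw [h3]
      exact Subgroup.inv_mem _ (Subgroup.mem_zpowers _)
    | one => rw [map_one]; exact Subgroup.one_mem _
    | mul x y _ _ hx hy => rw [map_mul]; exact Subgroup.mul_mem _ hx hy
    | inv x _ hx => rw [map_inv]; exact Subgroup.inv_mem _ hx
  have hle : commutator G ≤ Q := by
    rw [commutator_def, Subgroup.commutator_le]
    intro g₁ _ g₂ _
    obtain ⟨m, hm⟩ := hmap g₁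
    obtain ⟨n, hn⟩ := hmap g₂
    have h1 : (QuotientGroup.mk' Q) ⁅g₁, g₂⁆ = 1 := by
      rw [map_commutatorElement, ← hm, ← hn, commutatorElement_eq_one_iff_commute]
      exact (Commute.refl _).zpow_zpow m n
    exact (QuotientGroup.eq_one_iff _).mp h1
  have hP : IsPGroup p ↥(commutator G) := (Cfsg.Agent.Helper14.pCore_isPGroup p).to_le hle
  exact hP.isNilpotent

end Cfsg.Agent.S1618
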