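import Cfsg.Statements.S1629
import Cfsg.Agent.Helper28.ThreeTrans
import Cfsg.Agent.Helper28.Spin6

set_option autoImplicit false
open Cfsg

namespace Cfsg.Agent.S1629

/-- The orthogonal transvections of the plus-type orthogonal group in dimension 2m ≥ 6 over the field with two elements form a generating conjugacy class of 3-transpositions. -/
theorem result (m : ℕ) (hm : 3 ≤ m) : Cfsg.IsThreeTranspositionClass {g : ↥(Cfsg.isometryGroup (ZMod 2) (Cfsg.quadFormPlus m (ZMod 2))) | (((g : GL (Fin m ⊕ Fin m) (ZMod 2)) : Matrix (Fin m ⊕ Fin m) (Fin m ⊕ Fin m) (ZMod 2)) - 1).rank = 1} := by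
  have h2 : (2 : ZMod 2) = 0 := by decide
  have hq : Fintype.card (ZMod 2) = 2 := ZMod.card 2
  have hι : Fintype.card (Fin m ⊕ Fin m) ≠ 4 := by
    simp
    omega
  exact Cfsg.Agent.Helper28.CD2.isThreeTranspositionClass_Trv
    (Cfsg.Agent.Helper28.Spin.QfPlus m (ZMod 2)) h2 hq
    (Cfsg.Agent.Helper28.Spin.QfPlus_nondeg m) hι ⟨Sum.inl ⟨0, by omega⟩⟩

end Cfsg.Agent.S1629
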