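import Cfsg.Statements.S1635
import Cfsg.Agent.Helper22.GolayCoset
import Cfsg.Agent.Helper22.GolayComb

set_option autoImplicit false
open Cfsg

namespace Cfsg.Agent.S1635

/-- Coset leaders of the length-24 code: a coset contains a unique word of weight ≤ 3, or else exactly six words of weight 4 and none lighter. -/
theorem result (w : Cfsg.GolayPt → ZMod 2) : ({v : Cfsg.GolayPt → ZMod 2 | hammingNorm v ≤ 4 ∧ w - v ∈ Cfsg.golayCode}.ncard = 1 ∧ ∃ v : Cfsg.GolayPt → ZMod 2, hammingNorm v ≤ 3 ∧ w - v ∈ Cfsg.golayCode) ∨ ({v : Cfsg.GolayPt → ZMod 2 | hammingNorm v ≤ 4 ∧ w - v ∈ Cfsg.golayCode}.ncard = 6 ∧ ∀ v : Cfsg.GolayPt → ZMod 2, w - v ∈ Cfsg.golayCode → hammingNorm v ≤ 4 → hammingNorm v = 4) := by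
  open Cfsg.Agent.Helper27 Cfsg.Agent.Helper22.GolayCoset Cfsg.Agent.Helper22.GolayComb in
  classical
  have hdn : ∀ x y : GolayPt → ZMod 2, hammingDist x y = hammingNorm (x - y) := by
    intro x y
    rw [hammingDist_eq_hammingNorm]
    congr 1
    funext i
    have hz : ∀ a b : ZMod 2, -a + b = a - b := by decide
    exact hz _ _
  have hsubadd : ∀ x y : GolayPt → ZMod 2, x - y = x + y := by
    intro x y
    funext i
    have hz : ∀ a b : ZMod 2, a - b = a + b := by decide
    exact hz _ _
  have hdiff : ∀ v v' : GolayPt → ZMod 2, w - v ∈ golayCode → w - v' ∈ golayCode → v - v' ∈ golayCode := by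
    intro v v' h h'
    have := golayCode.sub_mem h' h
    have e : (w - v') - (w - v) = v - v' := by abel
    rwa [e] at this
  have hnorm_sub : ∀ v v' : GolayPt → ZMod 2, hammingNorm (v - v') ≤ hammingNorm v + hammingNorm v' := by
    intro v v'
    rw [← hdn]
    calc hammingDist v v' ≤ hammingDist v 0 + hammingDist 0 v' := hammingDist_triangle _ _ _
      _ = _ := by rw [hammingDist_zero_right, hammingDist_zero_left]
  by_cases hA : ∃ v : GolayPt → ZMod 2, hammingNorm v ≤ 3 ∧ w - v ∈ golayCode
  · left
    refine ⟨?_, hA⟩
    obtain ⟨v0, hv0, hv0c⟩ := hA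
    have : {v : GolayPt → ZMod 2 | hammingNorm v ≤ 4 ∧ w - v ∈ golayCode} = {v0} := by
      ext v
      simp only [Set.mem_ofPred_eq, Set.mem_singleton_iff]
      constructor
      · rintro ⟨hv, hvc⟩
        have h1 := hdiff v v0 hvc hv0c
        have h2 := hnorm_sub v v0
        have h3 := golay_eq_zero_of_weight_lt h1 (by omega)
        exact sub_eq_zero.mp h3
      · rintro rfl
        exact ⟨by omega, hv0c⟩
    rw [this, Set.ncard_singleton]
  · right
    have hB : ∀ v : GolayPt → ZMod 2, w - v ∈ golayCode → hammingNorm v ≤ 4 → hammingNorm v = 4 := by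
      intro v hvc hv
      by_contra h
      exact hA ⟨v, by omega, hvc⟩
    refine ⟨?_, hB⟩
    obtain ⟨n, hn, rfl⟩ := decW_surj w
    obtain ⟨e, he, hpop, hmem⟩ := exists_leader hn
    have hv0c : decW n - decW e ∈ golayCode := by
      rw [hsubadd, ← decW_xor]
      exact hmem
    have hv0n : hammingNorm (decW e) = 4 := hB _ hv0c (by rw [hammingNorm_decW]; exact hpop)
    have ht0 : (support₂ (decW e)).card = 4 := hv0n
    have himg : support₂ '' {v : GolayPt → ZMod 2 | hammingNorm v ≤ 4 ∧ decW n - v ∈ golayCode} =
        ↑(sextetOf (support₂ (decW e))) := by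
      ext u
      simp only [Set.mem_image, Set.mem_ofPred_eq, Finset.mem_coe]
      constructor
      · rintro ⟨v, ⟨hv, hvc⟩, rfl⟩
        by_cases hvv : v = decW e
        · rw [hvv]; exact mem_sextetOf_self _
        · have hv4 : hammingNorm v = 4 := hB v hvc hv
          have h1 := hdiff v (decW e) hvc hv0c
          have h2 := hnorm_sub v (decW e)
          have h3 : 8 ≤ hammingNorm (v - decW e) := by
            by_contra hlt
            exact hvv (sub_eq_zero.mp (golay_eq_zero_of_weight_lt h1 (by omega)))
          have h8 : hammingNorm (v - decW e) = 8 := by omega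
          rw [hsubadd] at h1 h8
          have hs := support₂_add v (decW e)
          have hc := card_symmDiff_add (support₂ v) (support₂ (decW e))
          have hcard : (symmDiff (support₂ v) (support₂ (decW e))).card = 8 := by rw [← hs]; exact h8
          have hv4' : (support₂ v).card = 4 := hv4
          have hi : (support₂ v ∩ support₂ (decW e)).card = 0 := by omega
          have hdisj : Disjoint (support₂ v) (support₂ (decW e)) := by
            rw [Finset.disjoint_iff_inter_eq_empty]; exact Finset.card_eq_zero.mp hi
          have hoct : support₂ (v + decW e) ∈ octads := ⟨⟨v + decW e, h1, rfl⟩, h8⟩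
          rw [sextetOf, Finset.mem_insert, Finset.mem_image]
          right
          refine ⟨support₂ (v + decW e), (mem_octThrough _ _).mpr ⟨hoct, ?_⟩, ?_⟩
          · rw [hs, Disjoint.symmDiff_eq_sup hdisj]; exact Finset.subset_union_right
          · rw [hs, Disjoint.symmDiff_eq_sup hdisj]; exact Finset.union_sdiff_cancel_right hdisj
      · intro hu
        rw [sextetOf, Finset.mem_insert, Finset.mem_image] at hu
        rcases hu with rfl | ⟨b, hb, rfl⟩
        · exact ⟨decW e, ⟨by omega, hv0c⟩, rfl⟩
        · obtain ⟨hbo, htb⟩ := (mem_octThrough _ b).mp hb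
          obtain ⟨x, hx, rfl⟩ := octad_exists_word hbo
          have hsd : symmDiff (support₂ x) (support₂ (decW e)) = support₂ x \ support₂ (decW e) := by
            show support₂ x \ support₂ (decW e) ∪ support₂ (decW e) \ support₂ x = _
            rw [Finset.sdiff_eq_empty_iff_subset.mpr htb, Finset.union_empty]
          refine ⟨x + decW e, ⟨?_, ?_⟩, ?_⟩
          · have hs := support₂_add x (decW e)
            have hc : (support₂ x \ support₂ (decW e)).card = 8 - 4 := by
              rw [Finset.card_sdiff_of_subset htb, hbo.2, ht0]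
            have : hammingNorm (x + decW e) = (symmDiff (support₂ x) (support₂ (decW e))).card := by
              rw [← hs]; rfl
            rw [this, hsd, hc]
          · have : decW n - (x + decW e) = (decW n - decW e) - x := by abel
            rw [this]; exact golayCode.sub_mem hv0c hx
          · rw [support₂_add, hsd]
    rw [← Set.ncard_image_of_injective _ support₂_injective, himg, Set.ncard_coe_finset, card_sextetOf ht0]

end Cfsg.Agent.S1635
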