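import Cfsg.Statements.S1637
import Cfsg.Agent.Helper22.GolayCoset

set_option autoImplicit false
open Cfsg

namespace Cfsg.Agent.S1637

/-- The punctured length-23 code is a perfect 3-error-correcting code: each word of length 23 is within distance 3 of exactly one codeword. -/
theorem result (u : ZMod 23 → ZMod 2) : ∃! c : ZMod 23 → ZMod 2, c ∈ {u : ZMod 23 → ZMod 2 | ∃ w ∈ Cfsg.golayCode, ∀ x : ZMod 23, u x = w (some x)} ∧ hammingDist u c ≤ 3 := by
  open Cfsg.Agent.Helper27 Cfsg.Agent.Helper22.G23 Cfsg.Agent.Helper22.GolayCoset in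
  have hsubP : ∀ c c' : ZMod 23 → ZMod 2, c ∈ P23 → c' ∈ P23 → c - c' ∈ P23 := by
    rintro c c' ⟨w, hw, h⟩ ⟨w', hw', h'⟩
    exact ⟨w - w', Cfsg.golayCode.sub_mem hw hw', fun x => by simp [h x, h' x]⟩
  have hdn : ∀ x y : ZMod 23 → ZMod 2, hammingDist x y = hammingNorm (x - y) := by
    intro x y
    rw [hammingDist_eq_hammingNorm]
    congr 1
    funext i
    have hz : ∀ a b : ZMod 2, -a + b = a - b := by decide
    exact hz _ _
  obtain ⟨n, hn, rfl⟩ := punct_decW_surj u
  obtain ⟨e, he, hpop, hmem⟩ := exists_leader23 hn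
  have hdist : hammingDist (punct (decW n)) (punct (decW (n ^^^ e))) ≤ 3 := by
    rw [hdn]
    have : punct (decW n) - punct (decW (n ^^^ e)) = punct (decW e) := by
      rw [punct_decW_xor]
      funext x
      simp only [Pi.sub_apply, Pi.add_apply]
      have hz : ∀ a b : ZMod 2, a - (a + b) = b := by decide
      exact hz _ _
    rw [this, hammingNorm_punct_decW]
    exact hpop
  refine ⟨punct (decW (n ^^^ e)), ⟨hmem, hdist⟩, ?_⟩
  rintro c ⟨hc, hd⟩
  by_contra hne
  have hsub : c - punct (decW (n ^^^ e)) ∈ P23 := hsubP _ _ hc hmem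
  have h7 := P23_min_weight hsub (sub_ne_zero.mpr hne)
  rw [← hdn] at h7
  have h1 := hammingDist_triangle c (punct (decW n)) (punct (decW (n ^^^ e)))
  have h2 := hammingDist_comm c (punct (decW n))
  omega

end Cfsg.Agent.S1637
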