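import Cfsg.Statements.S1638
import Cfsg.Agent.Helper22.Hexad6

set_option autoImplicit false
open scoped Pointwise
open Cfsg Cfsg.Agent.Helper27 Cfsg.Agent.Helper22 Cfsg.Agent.Helper22.KSets Cfsg.Agent.Helper22.Design

namespace Cfsg.Agent.S1638

/-- Fix two points p ≠ q and a pair s of two further points. Among the pairs avoiding p, q and disjoint from s, exactly 30 lie in an octad together with p, q and s and exactly 160 do not; and any two pairs other than s that meet s in equally many points and agree on that octad property are carried to one another by an element of the group of the length-24 code fixing p, q and s. -/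
theorem result (p q : Cfsg.GolayPt) (hpq : p ≠ q) (s : Finset Cfsg.GolayPt) (hs : (s.card = 2 ∧ p ∉ s ∧ q ∉ s)) : {t : Finset Cfsg.GolayPt | (t.card = 2 ∧ p ∉ t ∧ q ∉ t) ∧ Disjoint s t ∧ (∃ o ∈ Cfsg.octads, p ∈ o ∧ q ∈ o ∧ s ∪ t ⊆ o)}.ncard = 30 ∧ {t : Finset Cfsg.GolayPt | (t.card = 2 ∧ p ∉ t ∧ q ∉ t) ∧ Disjoint s t ∧ ¬ (∃ o ∈ Cfsg.octads, p ∈ o ∧ q ∈ o ∧ s ∪ t ⊆ o)}.ncard = 160 ∧ ∀ t t' : Finset Cfsg.GolayPt, (t.card = 2 ∧ p ∉ t ∧ q ∉ t) → (t'.card = 2 ∧ p ∉ t' ∧ q ∉ t') → t ≠ s → t' ≠ s → (s ∩ t).card = (s ∩ t').card → ((∃ o ∈ Cfsg.octads, p ∈ o ∧ q ∈ o ∧ s ∪ t ⊆ o) ↔ (∃ o ∈ Cfsg.octads, p ∈ o ∧ q ∈ o ∧ s ∪ t' ⊆ o)) → ∃ g : Equiv.Perm Cfsg.GolayPt, g ∈ Cfsg.M24 ∧ g p = p ∧ g q = q ∧ g • s = s ∧ g • t = t' := by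
  classical
  obtain ⟨hs2, hps, hqs⟩ := hs
  obtain ⟨a, b, hab, rfl⟩ := Finset.card_eq_two.mp hs2
  have hpa : p ≠ a := fun h => hps (by rw [h]; simp)
  have hpb : p ≠ b := fun h => hps (by rw [h]; simp)
  have hqa : q ≠ a := fun h => hqs (by rw [h]; simp)
  have hqb : q ≠ b := fun h => hqs (by rw [h]; simp)
  obtain ⟨Q, hQdef⟩ : ∃ Q : Finset GolayPt, Q = {p, q, a, b} := ⟨_, rfl⟩
  have hQ : Q.card = 4 := by
    rw [hQdef, Finset.card_insert_of_notMem, Finset.card_insert_of_notMem, Finset.card_pair hab]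
    · simp [hqa, hqb]
    · simp [hpq, hpa, hpb]
  have hQsub : ∀ o : Finset GolayPt, Q ⊆ o ↔ p ∈ o ∧ q ∈ o ∧ a ∈ o ∧ b ∈ o := by
    intro o
    rw [hQdef]
    simp only [Finset.insert_subset_iff, Finset.singleton_subset_iff]
  have hQdisj : ∀ t : Finset GolayPt, Disjoint t Q ↔ p ∉ t ∧ q ∉ t ∧ a ∉ t ∧ b ∉ t := by
    intro t
    rw [hQdef]
    simp only [Finset.disjoint_insert_right, Finset.disjoint_singleton_right]
  have hsdisj : ∀ t : Finset GolayPt, Disjoint ({a, b} : Finset GolayPt) t ↔ a ∉ t ∧ b ∉ t := by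
    intro t
    simp only [Finset.disjoint_insert_left, Finset.disjoint_singleton_left]
  have hsub : ∀ t o : Finset GolayPt, ({a, b} : Finset GolayPt) ∪ t ⊆ o ↔ a ∈ o ∧ b ∈ o ∧ t ⊆ o := by
    intro t o
    simp only [Finset.union_subset_iff, Finset.insert_subset_iff, Finset.singleton_subset_iff, and_assoc]
  have hF : ((toFin octads).filter (fun o => Q ⊆ o)).card = 5 := lam4_5824 Triad.card24 octads_steiner Q hQ
  have hcount1 : {t : Finset Cfsg.GolayPt | (t.card = 2 ∧ p ∉ t ∧ q ∉ t) ∧ Disjoint ({a, b} : Finset GolayPt) t ∧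
      (∃ o ∈ Cfsg.octads, p ∈ o ∧ q ∈ o ∧ {a, b} ∪ t ⊆ o)}.ncard = 30 := by
    have hset : {t : Finset Cfsg.GolayPt | (t.card = 2 ∧ p ∉ t ∧ q ∉ t) ∧ Disjoint ({a, b} : Finset GolayPt) t ∧
        (∃ o ∈ Cfsg.octads, p ∈ o ∧ q ∈ o ∧ {a, b} ∪ t ⊆ o)} =
        ↑(((toFin octads).filter (fun o => Q ⊆ o)).biUnion (fun o => Finset.powersetCard 2 (o \ Q))) := by
      ext t
      simp only [Set.mem_ofPred_eq, Finset.coe_biUnion, Finset.mem_coe, Finset.mem_filter, mem_toFin,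
        Set.mem_iUnion, Finset.mem_powersetCard, Finset.subset_sdiff, exists_prop, hQsub, hQdisj, hsdisj, hsub]
      constructor
      · rintro ⟨⟨h2, hp, hq⟩, ⟨ha, hb⟩, o, ho, hpo, hqo, hao, hbo, hto⟩
        exact ⟨o, ⟨ho, hpo, hqo, hao, hbo⟩, ⟨hto, hp, hq, ha, hb⟩, h2⟩
      · rintro ⟨o, ⟨ho, hpo, hqo, hao, hbo⟩, ⟨hto, hp, hq, ha, hb⟩, h2⟩
        exact ⟨⟨h2, hp, hq⟩, ⟨ha, hb⟩, o, ho, hpo, hqo, hao, hbo, hto⟩
    rw [hset, Set.ncard_coe_finset, Finset.card_biUnion]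
    · rw [Finset.sum_const_nat (m := 6), hF]
      intro o ho
      rw [Finset.mem_filter, mem_toFin] at ho
      rw [Finset.card_powersetCard, Finset.card_sdiff_of_subset ho.2, ho.1.2, hQ]
      rfl
    · intro o ho o' ho' hne
      rw [Function.onFun, Finset.disjoint_left]
      intro U hU hU'
      rw [Finset.mem_powersetCard, Finset.subset_sdiff] at hU hU'
      rw [Finset.mem_coe, Finset.mem_filter, mem_toFin] at ho ho'
      apply hne
      apply octad_eq_of_inter ho.1 ho'.1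
      have hsub' : Q ∪ U ⊆ o ∩ o' := by
        intro x hx
        rw [Finset.mem_inter]
        rcases Finset.mem_union.mp hx with h | h
        · exact ⟨ho.2 h, ho'.2 h⟩
        · exact ⟨hU.1.1 h, hU'.1.1 h⟩
      refine le_trans ?_ (Finset.card_le_card hsub')
      rw [Finset.card_union_of_disjoint hU.1.2.symm, hQ, hU.2]
      norm_num
  have hcount0 : {t : Finset Cfsg.GolayPt | (t.card = 2 ∧ p ∉ t ∧ q ∉ t) ∧ Disjoint ({a, b} : Finset GolayPt) t}.ncard
      = 190 := by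
    have h := ncard_inter_card Q 2 0 (by norm_num)
    rw [hQ, Triad.card24] at h
    rw [show (190 : ℕ) = (4 : ℕ).choose 0 * (24 - 4).choose (2 - 0) from by decide, ← h]
    congr 1
    ext t
    simp only [Set.mem_ofPred_eq, Finset.card_eq_zero, ← Finset.disjoint_iff_inter_eq_empty, hsdisj]
    rw [disjoint_comm, hQdisj]
    tauto
  refine ⟨hcount1, ?_, ?_⟩
  · have hunion : {t : Finset Cfsg.GolayPt | (t.card = 2 ∧ p ∉ t ∧ q ∉ t) ∧ Disjoint ({a, b} : Finset GolayPt) t} =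
        {t : Finset Cfsg.GolayPt | (t.card = 2 ∧ p ∉ t ∧ q ∉ t) ∧ Disjoint ({a, b} : Finset GolayPt) t ∧
          (∃ o ∈ Cfsg.octads, p ∈ o ∧ q ∈ o ∧ {a, b} ∪ t ⊆ o)} ∪
        {t : Finset Cfsg.GolayPt | (t.card = 2 ∧ p ∉ t ∧ q ∉ t) ∧ Disjoint ({a, b} : Finset GolayPt) t ∧
          ¬ (∃ o ∈ Cfsg.octads, p ∈ o ∧ q ∈ o ∧ {a, b} ∪ t ⊆ o)} := by
      ext t
      simp only [Set.mem_ofPred_eq, Set.mem_union]
      by_cases hP : ∃ o ∈ Cfsg.octads, p ∈ o ∧ q ∈ o ∧ {a, b} ∪ t ⊆ o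
      · constructor
        · rintro ⟨h1, h2⟩; exact Or.inl ⟨h1, h2, hP⟩
        · rintro (⟨h1, h2, _⟩ | ⟨h1, h2, _⟩) <;> exact ⟨h1, h2⟩
      · constructor
        · rintro ⟨h1, h2⟩; exact Or.inr ⟨h1, h2, hP⟩
        · rintro (⟨h1, h2, _⟩ | ⟨h1, h2, _⟩) <;> exact ⟨h1, h2⟩
    rw [hunion, Set.ncard_union_eq ?_ (Set.toFinite _) (Set.toFinite _), hcount1] at hcount0
    · omega
    · rw [Set.disjoint_left]
      rintro U ⟨_, _, h⟩ ⟨_, _, h'⟩
      exact h' h
  · rintro t t' ⟨ht2, hpt, hqt⟩ ⟨ht2', hpt', hqt'⟩ hts hts' hcard hP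
    have hle : (({a, b} : Finset GolayPt) ∩ t).card ≤ 2 := hs2 ▸ Finset.card_le_card Finset.inter_subset_left
    have hne2 : ∀ u : Finset GolayPt, u.card = 2 → u ≠ {a, b} → (({a, b} : Finset GolayPt) ∩ u).card ≠ 2 := by
      intro u hu hne h
      apply hne
      have h1 : ({a, b} : Finset GolayPt) ∩ u = {a, b} :=
        Finset.eq_of_subset_of_card_le Finset.inter_subset_left (by rw [h, hs2])
      have h2 : ({a, b} : Finset GolayPt) ⊆ u := Finset.inter_eq_left.mp h1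
      exact (Finset.eq_of_subset_of_card_le h2 (by rw [hu, hs2])).symm
    have hne2t := hne2 t ht2 hts
    by_cases h0 : (({a, b} : Finset GolayPt) ∩ t).card = 0
    · -- disjoint case
      have h0' : (({a, b} : Finset GolayPt) ∩ t').card = 0 := hcard ▸ h0
      rw [Finset.card_eq_zero, ← Finset.disjoint_iff_inter_eq_empty, hsdisj] at h0 h0'
      obtain ⟨c, d, hcd, rfl⟩ := Finset.card_eq_two.mp ht2
      obtain ⟨c', d', hcd', rfl⟩ := Finset.card_eq_two.mp ht2'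
      simp only [Finset.mem_insert, Finset.mem_singleton, not_or] at hpt hqt hpt' hqt' h0 h0'
      have hx : [p, q, a, b, c, d].Nodup := by
        simp only [List.nodup_cons, List.mem_cons, List.not_mem_nil, or_false, not_or, List.nodup_nil, and_true,
          not_false_eq_true]
        exact ⟨⟨hpq, hpa, hpb, hpt.1, hpt.2⟩, ⟨hqa, hqb, hqt.1, hqt.2⟩, ⟨hab, h0.1.1, h0.1.2⟩, ⟨h0.2.1, h0.2.2⟩, hcd⟩
      have hy : [p, q, a, b, c', d'].Nodup := by
        simp only [List.nodup_cons, List.mem_cons, List.not_mem_nil, or_false, not_or, List.nodup_nil, and_true,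
          not_false_eq_true]
        exact ⟨⟨hpq, hpa, hpb, hpt'.1, hpt'.2⟩, ⟨hqa, hqb, hqt'.1, hqt'.2⟩, ⟨hab, h0'.1.1, h0'.1.2⟩,
          ⟨h0'.2.1, h0'.2.2⟩, hcd'⟩
      have hconv : ∀ c d : GolayPt, (∃ o ∈ Cfsg.octads, p ∈ o ∧ q ∈ o ∧ ({a, b} : Finset GolayPt) ∪ {c, d} ⊆ o) ↔
          (∃ o ∈ Cfsg.octads, ({p, q, a, b, c, d} : Finset GolayPt) ⊆ o) := by
        intro c d
        simp only [Finset.union_subset_iff, Finset.insert_subset_iff, Finset.singleton_subset_iff, and_assoc]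
      obtain ⟨g, hg, g1, g2, g3, g4, g5, g6⟩ := Hexad6.exists_map6 hx hy (by rw [← hconv, ← hconv]; exact hP)
      refine ⟨g, hg, g1, g2, ?_, ?_⟩
      · rw [smul_eq_image, Finset.image_insert, Finset.image_singleton, g3, g4]
      · rw [smul_eq_image, Finset.image_insert, Finset.image_singleton, g5, g6]
    · obtain ⟨g, hg, hfix, hgs, hgt⟩ := Hexad6.exists_M24_venn_fix [p, q] (by simp [hpq]) {a, b} t t'
        (by
          intro f hf
          simp only [List.mem_cons, List.not_mem_nil, or_false] at hf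
          rcases hf with rfl | rfl
          · exact ⟨hps, hpt, hpt'⟩
          · exact ⟨hqs, hqt, hqt'⟩)
        (ht2.trans ht2'.symm) hcard (by
          have := Finset.card_union_add_card_inter ({a, b} : Finset GolayPt) t
          rw [hs2, ht2] at this
          simp only [List.length_cons, List.length_nil]
          omega)
      exact ⟨g, hg, hfix p (by simp), hfix q (by simp), hgs, hgt⟩

end Cfsg.Agent.S1638
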