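import Cfsg.Statements.S1643
import Cfsg.Agent.Helper27.L23Max

set_option autoImplicit false
open Cfsg

namespace Cfsg.Agent.S1643

open Cfsg.Agent.Helper27
open scoped Pointwise

theorem max_transfer {G : Type*} [Group G] {M A H : Subgroup G} (hAM : A ≤ M)
    (hmax : ∀ K : Subgroup G, A ≤ K → K ≤ H → K = A ∨ K = H) :
    ∀ K' : Subgroup ↥M, A.subgroupOf M ≤ K' → K' ≤ H.subgroupOf M →
      K' = A.subgroupOf M ∨ K' = H.subgroupOf M := by
  intro K' h1 h2
  have hK : (K'.map M.subtype).subgroupOf M = K' := by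
    ext g
    rw [Subgroup.mem_subgroupOf]
    constructor
    · rintro ⟨z, hz, hzg⟩
      have : z = g := Subtype.ext hzg
      rwa [← this]
    · intro hg
      exact ⟨g, hg, rfl⟩
  have hA : A ≤ K'.map M.subtype := by
    intro a ha
    exact ⟨⟨a, hAM ha⟩, h1 (Subgroup.mem_subgroupOf.mpr ha), rfl⟩
  have hH : K'.map M.subtype ≤ H := by
    rintro _ ⟨z, hz, rfl⟩
    exact Subgroup.mem_subgroupOf.mp (h2 hz)
  rcases hmax _ hA hH with h | h
  · left; rw [← hK, h]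
  · right; rw [← hK, h]

/-- PSL(2, 23) = ⟨t ↦ t+1, t ↦ u t (u square), t ↦ −1/t⟩ is maximal of order 6072 in the group of the length-24 code, and its point stabiliser 23:11 (order 253) is maximal in the Mathieu group of degree 23. -/
theorem result : (Subgroup.closure ({Equiv.optionCongr (Equiv.addRight (1 : ZMod 23)), Cfsg.projInv} ∪ {g : Equiv.Perm Cfsg.GolayPt | ∃ u : (ZMod 23)ˣ, IsSquare u ∧ g = Equiv.optionCongr (Units.mulLeft u)}) ≤ Cfsg.M24 ∧ Nat.card ↥(Subgroup.closure ({Equiv.optionCongr (Equiv.addRight (1 : ZMod 23)), Cfsg.projInv} ∪ {g : Equiv.Perm Cfsg.GolayPt | ∃ u : (ZMod 23)ˣ, IsSquare u ∧ g = Equiv.optionCongr (Units.mulLeft u)})) = 6072 ∧ IsCoatom ((Subgroup.closure ({Equiv.optionCongr (Equiv.addRight (1 : ZMod 23)), Cfsg.projInv} ∪ {g : Equiv.Perm Cfsg.GolayPt | ∃ u : (ZMod 23)ˣ, IsSquare u ∧ g = Equiv.optionCongr (Units.mulLeft u)})).subgroupOf Cfsg.M24)) ∧ (Subgroup.closure ({Equiv.optionCongr (Equiv.addRight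 (1 : ZMod 23))} ∪ {g : Equiv.Perm Cfsg.GolayPt | ∃ u : (ZMod 23)ˣ, IsSquare u ∧ g = Equiv.optionCongr (Units.mulLeft u)}) ≤ Cfsg.M24 ⊓ MulAction.stabilizer (Equiv.Perm Cfsg.GolayPt) (none : Cfsg.GolayPt) ∧ Nat.card ↥(Subgroup.closure ({Equiv.optionCongr (Equiv.addRight (1 : ZMod 23))} ∪ {g : Equiv.Perm Cfsg.GolayPt | ∃ u : (ZMod 23)ˣ, IsSquare u ∧ g = Equiv.optionCongr (Units.mulLeft u)})) = 253 ∧ IsCoatom (((Subgroup.closure ({Equiv.optionCongr (Equiv.addRight (1 : ZMod 23))} ∪ {g : Equiv.Perm Cfsg.GolayPt | ∃ u : (ZMod 23)ˣ, IsSquare u ∧ g = Equiv.optionCongr (Units.mulLeft u)})).subgroupOf Cfsg.M24).subgroupOf (MulAction.stabilizer Cfsg.M24 (none : Cfsg.GolayPt)))) := by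
  refine ⟨⟨grpA_le_M24, card_grpA, isCoatom_subgroupOf grpA_le_M24 grpA_ne_M24 grpA_max⟩,
    grpB_le_sporM23, card_grpB, ?_⟩
  have hBM : grpB ≤ M24 := le_trans grpB_le_grpA grpA_le_M24
  have hH : MulAction.stabilizer Cfsg.M24 (none : Cfsg.GolayPt) = Spor.M23.subgroupOf M24 := by
    ext g
    rw [Subgroup.mem_subgroupOf, MulAction.mem_stabilizer_iff, sporM23_eq, Subgroup.mem_inf,
      MulAction.mem_stabilizer_iff]
    constructor
    · intro h
      exact ⟨g.2, h⟩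
    · intro h
      exact h.2
  show IsCoatom ((grpB.subgroupOf M24).subgroupOf (MulAction.stabilizer Cfsg.M24 (none : Cfsg.GolayPt)))
  rw [hH]
  apply isCoatom_subgroupOf
  · intro g hg
    exact Subgroup.mem_subgroupOf.mpr (grpB_le_sporM23 (Subgroup.mem_subgroupOf.mp hg))
  · intro h
    apply grpB_ne_sporM23
    have h1 := congrArg (Subgroup.map M24.subtype) h
    rwa [Subgroup.map_subgroupOf_eq_of_le hBM,
      Subgroup.map_subgroupOf_eq_of_le (by rw [sporM23_eq]; exact inf_le_left)] at h1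
  · exact max_transfer hBM grpB_max

end Cfsg.Agent.S1643
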