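import Cfsg.Statements.S1666
import Cfsg.Agent.S0430
import Cfsg.Agent.Helper22.S1666Glue
import Cfsg.Agent.Helper8.S1666RANK3
import Cfsg.Agent.Helper28.S1666PARAM

set_option autoImplicit false
open Cfsg

namespace Cfsg.Agent.S1666

/-- Recognition of the Higman–Sims group as a rank 3 permutation group: a transitive permutation group on 100 points in which the stabiliser of a point is isomorphic to the Mathieu group M₂₂ and has two further orbits, of sizes 22 and 77, is isomorphic to the Higman–Sims group. -/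
theorem result {Ω : Type*} [Fintype Ω] [DecidableEq Ω] (hΩ : Fintype.card Ω = 100) (G : Subgroup (Equiv.Perm Ω)) [MulAction.IsPretransitive G Ω] (a : Ω)  (e : MulAction.stabilizer G a ≃* Cfsg.Spor.M22) (b c : Ω) (hb : (MulAction.orbit (MulAction.stabilizer G a) b).ncard = 22) (hc : (MulAction.orbit (MulAction.stabilizer G a) c).ncard = 77) : Cfsg.Spor.IsoHS G := by
  obtain ⟨Γ, inst, ℓ, μ, hsrg, hinv⟩ := Cfsg.Agent.S1666P.rank3_srg G a b c 22 77 (by norm_num) (by norm_num)
    (by norm_num) (by rw [hΩ]) hb hc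
  have hsrg' : Γ.IsSRGWith 100 22 ℓ μ := hsrg
  obtain ⟨h1, h2⟩ := Cfsg.Agent.S1666P.srg_100_22_params Γ ℓ μ hsrg'
  subst h1 h2
  apply Cfsg.Agent.Helper22.S1666Glue.isoHS_of_srg Γ (fun h => Cfsg.Agent.S0430.result hsrg' h) G hinv
  rw [Cfsg.Agent.Helper22.S1666Glue.card_of_transitive G a, Nat.card_congr e.toEquiv,
    Cfsg.Agent.Helper22.S1666Glue.card_M22, hΩ]

end Cfsg.Agent.S1666
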