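import Cfsg.Statements.S1698
import Cfsg.Agent.S1691
import Cfsg.Agent.Helper19.Fi24Ord.Perm
import Cfsg.Agent.Helper17.Fi24Sp.Cover

set_option autoImplicit false
open Cfsg

namespace Cfsg.Agent.S1698

open Cfsg.Agent.Helper17.Fi24Sp in
theorem hidx : H24.index = 306936 := Cfsg.Agent.Helper19.Fi24Ord.index_Hs

open Cfsg.Agent.Helper17.Fi24Sp in
theorem hcomm : D24.index = 2 := Cfsg.Agent.S1691.result

/-- The commutator subgroup of the presented Fi₂₄ (our definition of Fi₂₄′) is simple of the expected order (that is, it is a simple group of the order of the Fischer group Fi₂₄′). -/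
theorem result : Cfsg.IsFi24' Cfsg.Spor.Fi24' :=
  ⟨Cfsg.Agent.Helper17.Fi24Sp.simple_D24 hidx hcomm Cfsg.Agent.Helper17.Fi24Sp.rank3_24,
    Cfsg.Agent.Helper17.Fi24Sp.card_D24 hidx hcomm⟩

end Cfsg.Agent.S1698
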