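import Cfsg.Statements.S1717
import Mathlib
import Cfsg.Agent.Helper9.TransvCent

set_option autoImplicit false
open Cfsg

namespace Cfsg.Agent.S1717

/-- Let G be a finite group with an involution z whose centraliser C is isomorphic to the centraliser of a transvection of SL(5, 2). Then a Sylow 2-subgroup of C, viewed in G, is a Sylow 2-subgroup of G (its index in G is odd). -/
theorem result {G : Type*} [Group G] [Finite G] (s : Matrix.SpecialLinearGroup (Fin 5) (ZMod 2)) (hs : (s : Matrix (Fin 5) (Fin 5) (ZMod 2)) = Matrix.transvection 0 1 1) (z : G) (hz : orderOf z = 2) (e : (Subgroup.centralizer ({z} : Set G)) ≃* Subgroup.centralizer ({s} : Set (Matrix.SpecialLinearGroup (Fin 5) (ZMod 2)))) (T : Sylow 2 (Subgroup.centralizer ({z} : Set G))) : ¬ 2 ∣ ((T : Subgroup (Subgroup.centralizer ({z} : Set G))).map (Subgroup.subtype (Subgroup.centralizer ({z} : Set G)))).index := by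
  open Cfsg.Agent.Helper9.TransvCent in
  have hz1 : z ≠ 1 := by
    intro h; rw [h, orderOf_one] at hz; omega
  have hzC : z ∈ Subgroup.centralizer ({z} : Set G) := by
    rw [Subgroup.mem_centralizer_iff]
    intro h hh
    rw [Set.mem_singleton_iff] at hh
    rw [hh]
  -- the normal 2-subgroup
  let K := (blockHom s hs).ker
  let Q : Subgroup (Subgroup.centralizer ({z} : Set G)) := K.comap e.toMonoidHom
  have hQn : Q.Normal := Subgroup.Normal.comap inferInstance _
  have hQp : IsPGroup 2 Q := by
    intro q
    refine ⟨2, ?_⟩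
    have hq : e (q : Subgroup.centralizer ({z} : Set G)) ∈ K := q.2
    have h4 := ker_pow_four s hs _ hq
    apply Subtype.ext
    rw [Subgroup.coe_pow, Subgroup.coe_one]
    apply e.injective
    rw [map_pow, map_one]
    exact h4
  -- centralizer of Q
  have hcenK : ∀ w : Subgroup.centralizer ({z} : Set G), (∀ q ∈ Q, w * q = q * w) →
      e w = 1 ∨ ((e w : Subgroup.centralizer ({s} : Set _)) : Matrix.SpecialLinearGroup (Fin 5) (ZMod 2)) = s := by
    intro w hw
    apply cent_ker s hs (e w)
    intro k hk
    have hk' : e.symm k ∈ Q := by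
      show e (e.symm k) ∈ K
      rw [e.apply_symm_apply]; exact hk
    have := hw _ hk'
    have h2 := congrArg e this
    rw [map_mul, map_mul, e.apply_symm_apply] at h2
    exact h2
  -- the image of z
  have hzcen : ∀ q ∈ Q, (⟨z, hzC⟩ : Subgroup.centralizer ({z} : Set G)) * q = q * ⟨z, hzC⟩ := by
    intro q _
    apply Subtype.ext
    have := q.2
    rw [Subgroup.mem_centralizer_iff] at this
    exact this z (Set.mem_singleton z)
  have hez : ((e ⟨z, hzC⟩ : Subgroup.centralizer ({s} : Set _)) : Matrix.SpecialLinearGroup (Fin 5) (ZMod 2)) = s := by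
    rcases hcenK ⟨z, hzC⟩ hzcen with h | h
    · exfalso
      apply hz1
      have h2 : (⟨z, hzC⟩ : Subgroup.centralizer ({z} : Set G)) = 1 := by
        apply e.injective; rw [h, map_one]
      exact congrArg Subtype.val h2
    · exact h
  have hzQ : (⟨z, hzC⟩ : Subgroup.centralizer ({z} : Set G)) ∈ Q := by
    show e ⟨z, hzC⟩ ∈ K
    have hs' := s_mem_ker s hs
    have hsC : s ∈ Subgroup.centralizer ({s} : Set (Matrix.SpecialLinearGroup (Fin 5) (ZMod 2))) := by
      rw [Subgroup.mem_centralizer_iff]
      intro h hh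
      rw [Set.mem_singleton_iff] at hh
      rw [hh]
    have : e ⟨z, hzC⟩ = ⟨s, hsC⟩ := Subtype.ext hez
    rw [this]
    exact hs'
  have hcen : ∀ w : Subgroup.centralizer ({z} : Set G), (∀ q ∈ Q, w * q = q * w) →
      w = 1 ∨ (w : G) = z := by
    intro w hw
    rcases hcenK w hw with h | h
    · left
      apply e.injective; rw [h, map_one]
    · right
      have h2 : e w = e ⟨z, hzC⟩ := Subtype.ext (h.trans hez.symm)
      have h3 := e.injective h2
      rw [h3]
  exact sylow_of_small_center z hz1 Q hQp hzC hzQ hcen T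

end Cfsg.Agent.S1717
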