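import Cfsg.Statements.S1753
-- import your own Cfsg.Agent.* helpers here

set_option autoImplicit false
universe u
open Cfsg

namespace Cfsg.Agent.S1753

/-- Let K be any property of groups. (1) If G is a minimal counterexample relative to K — a finite non-abelian simple group not satisfying K such that every finite non-abelian simple group of smaller order satisfies K — then every proper subgroup of G is a K-group (all its non-abelian simple sections satisfy K), since such sections have smaller order than G. (2) Consequently (induction on the order), if every finite non-abelian simple group all of whose proper subgroups are K-groups satisfies K, then every finite non-abelian simple group satisfies K. -/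
theorem result (K : ∀ (X : Type u) [Group X], Prop) :
    (∀ (G : Type u) [Group G], Cfsg.IsMinCounterexampleWith K G → Cfsg.IsKProperWith K G) ∧
      ((∀ (X : Type u) [Group X] [Finite X], IsSimpleGroup X → ¬ IsMulCommutative X → Cfsg.IsKProperWith K X → K X) →
        ∀ (G : Type u) [Group G] [Finite G], IsSimpleGroup G → ¬ IsMulCommutative G → K G) := by
  have key : ∀ (G : Type u) [Group G] [Finite G],
      (∀ (X : Type u) [Group X] [Finite X],
        IsSimpleGroup X → ¬ IsMulCommutative X → Nat.card X < Nat.card G → K X) →
      Cfsg.IsKProperWith K G := by
    intro G _ _ hsmall H hH H' N _ hsimple hnc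
    have hfin : Finite (↥H' ⧸ N) := inferInstance
    apply hsmall (↥H' ⧸ N) hsimple hnc
    have h1 : Nat.card (↥H' ⧸ N) ≤ Nat.card ↥H' := by
      have := Subgroup.card_eq_card_quotient_mul_card_subgroup N
      have hN : 0 < Nat.card N := Nat.card_pos
      nlinarith
    have h2 : Nat.card ↥H' ≤ Nat.card ↥H := Subgroup.card_le_card_group H'
    have h3 : Nat.card ↥H < Nat.card G := by
      by_contra hcon
      rw [not_lt] at hcon
      have hle := Subgroup.card_le_card_group H
      exact hH ((Subgroup.card_eq_iff_eq_top H).mp (le_antisymm hle hcon))
    omega
  refine ⟨?_, ?_⟩
  · intro G _ hmin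
    obtain ⟨hfin, _, _, _, hsmall⟩ := hmin
    exact key G (fun X _ _ => hsmall X)
  · intro hstep
    have ind : ∀ n : ℕ, ∀ (G : Type u) [Group G] [Finite G], Nat.card G = n →
        IsSimpleGroup G → ¬ IsMulCommutative G → K G := by
      intro n
      induction n using Nat.strong_induction_on with
      | _ n ih =>
        intro G _ _ hn hs hnc
        apply hstep G hs hnc
        apply key G
        intro X _ _ hXs hXnc hlt
        exact ih (Nat.card X) (hn ▸ hlt) X rfl hXs hXnc
    intro G _ _ hs hnc
    exact ind (Nat.card G) G rfl hs hnc

end Cfsg.Agent.S1753
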