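import Cfsg.Statements.S1755
import Mathlib
import Cfsg.Agent.Helper7.FStar
import Cfsg.Agent.Helper23.Cyclic
import Cfsg.Agent.Lead.CoprimeFrattini

set_option autoImplicit false
open Cfsg

namespace Cfsg.Agent.S1755
open scoped Pointwise commutatorElement

/-- A cyclic subgroup has at most one involution. -/
theorem involution_unique {G : Type*} [Group G] [Finite G] (K : Subgroup G) (hK : IsCyclic K)
    {x y : G} (hx : x ∈ K) (hy : y ∈ K) (hx2 : orderOf x = 2) (hy2 : orderOf y = 2) : x = y := by
  have h := Cfsg.Agent.Helper23.eq_of_card_eq_of_isCyclic K hK (Subgroup.zpowers x)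
    (Subgroup.zpowers y) (by rw [Subgroup.zpowers_le]; exact hx)
    (by rw [Subgroup.zpowers_le]; exact hy) (by rw [Nat.card_zpowers, Nat.card_zpowers, hx2, hy2])
  have hyx : y ∈ Subgroup.zpowers x := by rw [h]; exact Subgroup.mem_zpowers y
  obtain ⟨k, hk⟩ := Subgroup.mem_zpowers_iff.mp hyx
  have hx2' : x ^ (2 : ℤ) = 1 := by
    have := pow_orderOf_eq_one x
    rw [hx2] at this
    exact_mod_cast this
  have hy1 : y ≠ 1 := by
    intro h1
    rw [h1, orderOf_one] at hy2
    omega
  rcases Int.emod_two_eq_zero_or_one k with h0 | h1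
  · exfalso
    apply hy1
    have : k = 2 * (k / 2) := by omega
    rw [← hk, this, zpow_mul, hx2', one_zpow]
  · have : k = 2 * (k / 2) + 1 := by omega
    rw [← hk, this, zpow_add, zpow_mul, hx2', one_zpow, one_mul, zpow_one]

/-- Let G be a finite group and let z be an involution of G such that Q, the generalized Fitting subgroup of the centralizer C of z, is a 2-group of symplectic type (every characteristic abelian subgroup of Q is cyclic). Let B be a characteristic abelian subgroup of Q, viewed as a subgroup of G. Then for every g in G, the conjugate of B by g either equals B or meets B trivially. -/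
theorem result {G : Type*} [Group G] [Finite G] (z : G) (hz : orderOf z = 2) (hQ : Cfsg.IsOfSymplecticType ↥(Cfsg.generalizedFittingSubgroup ↥(Subgroup.centralizer ({z} : Set G))))
    (B : Subgroup ↥(Cfsg.generalizedFittingSubgroup ↥(Subgroup.centralizer ({z} : Set G)))) (hBc : B.Characteristic) (hBa : IsMulCommutative ↥B) (g : G) :
    ((B.map (Cfsg.generalizedFittingSubgroup ↥(Subgroup.centralizer ({z} : Set G))).subtype).map (Subgroup.centralizer ({z} : Set G)).subtype).map (MulAut.conj g).toMonoidHom =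
        (B.map (Cfsg.generalizedFittingSubgroup ↥(Subgroup.centralizer ({z} : Set G))).subtype).map (Subgroup.centralizer ({z} : Set G)).subtype ∨
      ((B.map (Cfsg.generalizedFittingSubgroup ↥(Subgroup.centralizer ({z} : Set G))).subtype).map (Subgroup.centralizer ({z} : Set G)).subtype).map (MulAut.conj g).toMonoidHom ⊓
        (B.map (Cfsg.generalizedFittingSubgroup ↥(Subgroup.centralizer ({z} : Set G))).subtype).map (Subgroup.centralizer ({z} : Set G)).subtype = ⊥ := by
  classical
  have : Fact (Nat.Prime 2) := ⟨Nat.prime_two⟩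
  obtain ⟨hQ2, hQsymp⟩ := hQ
  have hBcyc : IsCyclic B := hQsymp B hBc hBa
  have hZcyc : IsCyclic (Subgroup.center
      ↥(Cfsg.generalizedFittingSubgroup ↥(Subgroup.centralizer ({z} : Set G)))) :=
    hQsymp _ inferInstance inferInstance
  generalize hCdef : Subgroup.centralizer ({z} : Set G) = C at *
  have hzC : z ∈ C := by
    rw [← hCdef, Subgroup.mem_centralizer_iff]
    intro h hh
    rw [Set.mem_singleton_iff] at hh
    rw [hh]
  have hCz : ∀ c ∈ C, z * c = c * z := by
    intro c hc
    rw [← hCdef, Subgroup.mem_centralizer_iff] at hc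
    exact hc z rfl
  have hCmem : ∀ c : G, z * c = c * z → c ∈ C := by
    intro c hc
    rw [← hCdef, Subgroup.mem_centralizer_iff]
    intro h hh
    rw [Set.mem_singleton_iff] at hh
    rw [hh]; exact hc
  have hQ'n : (Cfsg.generalizedFittingSubgroup ↥C).Normal :=
    Cfsg.Agent.Helper7.generalizedFittingSubgroup_normal ↥C
  have hBender : Subgroup.centralizer ((Cfsg.generalizedFittingSubgroup ↥C : Subgroup ↥C) : Set ↥C) ≤
      Cfsg.generalizedFittingSubgroup ↥C := Cfsg.Agent.Helper7.centralizer_generalizedFitting_le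
  generalize Cfsg.generalizedFittingSubgroup ↥C = Q' at *
  -- `B` viewed in `C` is normal in `C`
  have hB₁norm : ∀ c : C, ∀ b ∈ B.map Q'.subtype, c * b * c⁻¹ ∈ B.map Q'.subtype := by
    intro c b hb
    have h1 := Cfsg.Agent.Lead.normalizer_le_normalizer_map_of_characteristic Q' B
    have h2 : c ∈ Subgroup.normalizer (Q' : Set C) := by
      rw [Subgroup.normalizer_eq_top]; exact Subgroup.mem_top c
    exact (Subgroup.mem_normalizer_iff.mp (h1 h2) b).mp hb
  -- cyclicity in `G`
  have hinj : Function.Injective (C.subtype.comp Q'.subtype) :=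
    C.subtype_injective.comp Q'.subtype_injective
  have hBGeq : (B.map Q'.subtype).map C.subtype = B.map (C.subtype.comp Q'.subtype) :=
    Subgroup.map_map _ _ _
  have hBGcyc : IsCyclic ((B.map Q'.subtype).map C.subtype) := by
    rw [hBGeq]
    exact (Subgroup.equivMapOfInjective B _ hinj).isCyclic.mp hBcyc
  have hZGcyc : IsCyclic ((Subgroup.center ↥Q').map (C.subtype.comp Q'.subtype)) :=
    (Subgroup.equivMapOfInjective _ _ hinj).isCyclic.mp hZcyc
  -- `z` lies in the image of `Z(Q')`
  have hzZ : z ∈ (Subgroup.center ↥Q').map (C.subtype.comp Q'.subtype) := by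
    have h1 : (⟨z, hzC⟩ : C) ∈ Subgroup.centralizer (Q' : Set C) := by
      intro q _
      apply Subtype.ext
      exact (hCz q.1 q.2).symm
    refine ⟨⟨⟨z, hzC⟩, hBender h1⟩, ?_, rfl⟩
    refine Subgroup.mem_center_iff.mpr ?_
    intro q
    apply Subtype.ext
    apply Subtype.ext
    exact (hCz q.1.1 q.1.2).symm
  -- every involution of `B` is `z`
  have hinvol : ∀ t ∈ (B.map Q'.subtype).map C.subtype, orderOf t = 2 → t = z := by
    intro t ht ht2
    have htcent : ∀ c ∈ C, c * t * c⁻¹ = t := by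
      intro c hc
      apply involution_unique _ hBGcyc _ ht _ ht2
      · obtain ⟨b, hb, rfl⟩ := ht
        exact ⟨⟨c, hc⟩ * b * ⟨c, hc⟩⁻¹, hB₁norm ⟨c, hc⟩ b hb, rfl⟩
      · have : c * t * c⁻¹ = MulAut.conj c t := rfl
        rw [this, MulEquiv.orderOf_eq]
        exact ht2
    apply involution_unique _ hZGcyc _ hzZ ht2 hz
    obtain ⟨b₁, hb₁, rfl⟩ := ht
    obtain ⟨b, hb, rfl⟩ := hb₁
    refine ⟨b, ?_, rfl⟩
    refine Subgroup.mem_center_iff.mpr ?_
    intro q
    apply Subtype.ext
    apply Subtype.ext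
    have := htcent q.1.1 q.1.2
    change (q.1.1 : G) * (b.1.1 : G) = (b.1.1 : G) * (q.1.1 : G)
    have h' : (q.1.1 : G) * (b.1.1 : G) * (q.1.1 : G)⁻¹ = (b.1.1 : G) := this
    exact mul_inv_eq_iff_eq_mul.mp h'
  by_cases hD : ((B.map Q'.subtype).map C.subtype).map (MulAut.conj g).toMonoidHom ⊓
      (B.map Q'.subtype).map C.subtype = ⊥
  · exact Or.inr hD
  · left
    -- an involution in the intersection
    have hDp : IsPGroup 2 (((B.map Q'.subtype).map C.subtype).map (MulAut.conj g).toMonoidHom ⊓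
        (B.map Q'.subtype).map C.subtype : Subgroup G) := by
      apply IsPGroup.to_le _ inf_le_right
      exact ((hQ2.to_subgroup B).map Q'.subtype).map C.subtype
    have hcard : 2 ∣ Nat.card (((B.map Q'.subtype).map C.subtype).map (MulAut.conj g).toMonoidHom ⊓
        (B.map Q'.subtype).map C.subtype : Subgroup G) := by
      obtain ⟨k, hk⟩ := IsPGroup.iff_card.mp hDp
      rw [hk]
      rcases k with _ | k
      · exfalso
        rw [pow_zero] at hk
        exact hD (Subgroup.card_eq_one.mp hk)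
      · exact dvd_pow_self 2 (by omega)
    obtain ⟨t, ht2⟩ := exists_prime_orderOf_dvd_card' 2 hcard
    have ht2' : orderOf (t : G) = 2 := by rw [Subgroup.orderOf_coe]; exact ht2
    obtain ⟨htg, htB⟩ := Subgroup.mem_inf.mp t.2
    have h1 : (t : G) = z := hinvol _ htB ht2'
    obtain ⟨s, hs, hst⟩ := htg
    have hs2 : orderOf s = 2 := by
      have : (MulAut.conj g) s = (t : G) := hst
      rw [← ht2', ← this, MulEquiv.orderOf_eq]
    have h2 : s = z := hinvol s hs hs2
    have hgz : g * z * g⁻¹ = z := by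
      have : (MulAut.conj g) s = (t : G) := hst
      rw [h2, h1] at this
      exact this
    have hgC : g ∈ C := hCmem g (mul_inv_eq_iff_eq_mul.mp hgz).symm
    have hgC' : g⁻¹ ∈ C := C.inv_mem hgC
    apply le_antisymm
    · rintro _ ⟨_, ⟨b, hb, rfl⟩, rfl⟩
      exact ⟨⟨g, hgC⟩ * b * ⟨g, hgC⟩⁻¹, hB₁norm ⟨g, hgC⟩ b hb, rfl⟩
    · rintro _ ⟨b, hb, rfl⟩
      refine ⟨(⟨g, hgC⟩⁻¹ * b * (⟨g, hgC⟩⁻¹)⁻¹ : C), ⟨_, hB₁norm ⟨g, hgC⟩⁻¹ b hb, rfl⟩, ?_⟩
      change g * (g⁻¹ * (b : G) * g⁻¹⁻¹) * g⁻¹ = (b : G)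
      group

end Cfsg.Agent.S1755
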