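import Cfsg.Statements.S1756
import Mathlib
import Cfsg.Agent.Helper9.Extraspecial

set_option autoImplicit false
open Cfsg

namespace Cfsg.Agent.S1756
open scoped Pointwise commutatorElement
open Cfsg.Agent.Helper9

/-- Let Q be an extraspecial 2-subgroup of the finite group G (special with centre of order 2) and t an involution of G normalizing Q such that the centralizer of t in Q has index at most 2 in Q. Then t lies in the product of Q with the centralizer of Q. -/
theorem result {G : Type*} [Group G] [Finite G] (Q : Subgroup G)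
    (hQ : Cfsg.IsExtraspecial 2 ↥Q) (t : G) (ht : orderOf t = 2) (htN : t ∈ Subgroup.normalizer (Q : Set G))
    (hi : (Subgroup.centralizer ({t} : Set G) ⊓ Q).relIndex Q ≤ 2) :
    t ∈ Q ⊔ Subgroup.centralizer (Q : Set G) := by
  have hZcard : Nat.card (Subgroup.centralizer (Q : Set G) ⊓ Q : Subgroup G) = 2 := by
    rw [← card_center_subtype]; exact hQ.2
  have hQQ := commutator_mem_center_of_isExtraspecial Q hQ
  have hQP : IsPGroup 2 Q := hQ.1.1
  have ht2 : t * t = 1 := by rw [← pow_two, ← ht, pow_orderOf_eq_one]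
  -- `t` centralizes `Z(Q)`
  have htZ : t ∈ Subgroup.centralizer
      ((Subgroup.centralizer (Q : Set G) ⊓ Q : Subgroup G) : Set G) := by
    intro z hz
    by_cases hz1 : z = 1
    · rw [hz1]; simp
    · have hzQ : z ∈ Q := hz.2
      have hzC : z ∈ Subgroup.centralizer (Q : Set G) := hz.1
      have h1 : t * z * t⁻¹ ∈ (Subgroup.centralizer (Q : Set G) ⊓ Q : Subgroup G) := by
        refine ⟨?_, (Subgroup.mem_normalizer_iff.mp htN z).mp hzQ⟩
        intro q hq
        have hq' : t⁻¹ * q * t⁻¹⁻¹ ∈ Q := (Subgroup.mem_normalizer_iff.mp (inv_mem htN) q).mp hq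
        have := hzC _ hq'
        have e : q * (t * z * t⁻¹) = t * ((t⁻¹ * q * t⁻¹⁻¹) * z) * t⁻¹ := by group
        rw [e, this]; group
      have h2 : t * z * t⁻¹ ≠ 1 := by
        intro h
        apply hz1
        have : z = t⁻¹ * (t * z * t⁻¹) * t := by group
        rw [this, h]; group
      have := eq_of_card_eq_two hZcard h1 hz h2 hz1
      calc z * t = (t * z * t⁻¹) * t := by rw [this]
        _ = t * z := by group
  -- `[t, Q] ≤ Z(Q)`
  have hcomm_t : ∀ q ∈ Q, ⁅t, q⁆ ∈ (Subgroup.centralizer (Q : Set G) ⊓ Q : Subgroup G) := by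
    by_cases hQC : Q ≤ Subgroup.centralizer ({t} : Set G)
    · intro q hq
      have : ⁅t, q⁆ = 1 := by
        have := Subgroup.mem_centralizer_singleton_iff.mp (hQC hq)
        rw [commutatorElement_eq_one_iff_commute]; exact this.symm
      rw [this]; exact one_mem _
    · obtain ⟨q₀, hq₀Q, hq₀⟩ : ∃ q₀ ∈ Q, q₀ ∉ Subgroup.centralizer ({t} : Set G) := by
        by_contra h
        push Not at h
        exact hQC h
      have hidx : ((Subgroup.centralizer ({t} : Set G) ⊓ Q).subgroupOf Q).index = 2 := by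
        have h0 : ((Subgroup.centralizer ({t} : Set G) ⊓ Q).subgroupOf Q).index ≠ 0 :=
          Subgroup.index_ne_zero_of_finite
        have h1 : ((Subgroup.centralizer ({t} : Set G) ⊓ Q).subgroupOf Q).index ≠ 1 := by
          intro h
          have : (Subgroup.centralizer ({t} : Set G) ⊓ Q).relIndex Q = 1 := h
          rw [Subgroup.relIndex_eq_one] at this
          exact hQC (this.trans inf_le_left)
        have h2 : ((Subgroup.centralizer ({t} : Set G) ⊓ Q).subgroupOf Q).index ≤ 2 := hi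
        omega
      have factA : ∀ a ∈ Q, ∀ b ∈ Q, (a * b ∈ Subgroup.centralizer ({t} : Set G) ↔
          (a ∈ Subgroup.centralizer ({t} : Set G) ↔ b ∈ Subgroup.centralizer ({t} : Set G))) := by
        intro a ha b hb
        have := Subgroup.mul_mem_iff_of_index_two hidx (a := ⟨a, ha⟩) (b := ⟨b, hb⟩)
        simp only [Subgroup.mem_subgroupOf, Subgroup.coe_mul, Subgroup.mem_inf] at this
        have hab : a * b ∈ Q := mul_mem ha hb
        simp only [ha, hb, hab, and_true] at this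
        exact this
      have factB1 : ∀ q ∈ Q, q ∈ Subgroup.centralizer ({t} : Set G) → ⁅t, q⁆ = 1 := by
        intro q _ hqc
        have := Subgroup.mem_centralizer_singleton_iff.mp hqc
        rw [commutatorElement_eq_one_iff_commute]; exact this.symm
      have hcoset : ∀ q ∈ Q, q ∉ Subgroup.centralizer ({t} : Set G) →
          q₀⁻¹ * q ∈ Subgroup.centralizer ({t} : Set G) := by
        intro q hq hqc
        refine (factA _ (inv_mem hq₀Q) _ hq).mpr ⟨fun h => ?_, fun h => ?_⟩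
        · exact absurd (inv_mem_iff.mp h) hq₀
        · exact absurd h hqc
      have factB2 : ∀ q ∈ Q, q ∉ Subgroup.centralizer ({t} : Set G) → ⁅t, q⁆ = ⁅t, q₀⁆ := by
        intro q hq hqc
        have hc := hcoset q hq hqc
        obtain ⟨c, hct, rfl⟩ : ∃ c, c * t = t * c ∧ q = q₀ * c :=
          ⟨q₀⁻¹ * q, Subgroup.mem_centralizer_singleton_iff.mp hc, by group⟩
        have hct' : c * t⁻¹ = t⁻¹ * c := (show Commute c t from hct).inv_right.eq
        calc ⁅t, q₀ * c⁆ = t * q₀ * (c * t⁻¹) * c⁻¹ * q₀⁻¹ := by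
              simp only [commutatorElement_def]; group
          _ = t * q₀ * (t⁻¹ * c) * c⁻¹ * q₀⁻¹ := by rw [hct']
          _ = ⁅t, q₀⁆ := by simp only [commutatorElement_def]; group
      have hwQ : ⁅t, q₀⁆ ∈ Q := by
        rw [commutatorElement_def]
        exact mul_mem ((Subgroup.mem_normalizer_iff.mp htN q₀).mp hq₀Q) (inv_mem hq₀Q)
      have hw_inv : t * ⁅t, q₀⁆ * t⁻¹ = (⁅t, q₀⁆)⁻¹ := by
        apply eq_inv_of_mul_eq_one_left
        have : t * ⁅t, q₀⁆ * t⁻¹ * ⁅t, q₀⁆ = (t * t) * q₀ * (t * t)⁻¹ * q₀⁻¹ := by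
          simp only [commutatorElement_def]; group
        rw [this, ht2]; group
      have hw_c : ⁅t, q₀⁆ ∈ Subgroup.centralizer ({t} : Set G) := by
        by_contra h
        have h1 := factB2 _ hwQ h
        have h3 : (⁅t, q₀⁆) ^ 3 = 1 := by
          have h2 : t * ⁅t, q₀⁆ * t⁻¹ * (⁅t, q₀⁆)⁻¹ = ⁅t, q₀⁆ := by
            rw [← commutatorElement_def]; exact h1
          rw [hw_inv] at h2
          calc (⁅t, q₀⁆) ^ 3 = ⁅t, q₀⁆ * ⁅t, q₀⁆ * ⁅t, q₀⁆ := by rw [pow_succ, pow_two]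
            _ = ⁅t, q₀⁆ * ⁅t, q₀⁆ * ((⁅t, q₀⁆)⁻¹ * (⁅t, q₀⁆)⁻¹) := by rw [h2]
            _ = 1 := by group
        obtain ⟨k, hk⟩ := hQP ⟨⁅t, q₀⁆, hwQ⟩
        have hk' : (⁅t, q₀⁆) ^ 2 ^ k = 1 := by
          have := congrArg Subtype.val hk
          simpa using this
        have hd1 : orderOf ⁅t, q₀⁆ ∣ 3 := orderOf_dvd_of_pow_eq_one h3
        have hd2 : orderOf ⁅t, q₀⁆ ∣ 2 ^ k := orderOf_dvd_of_pow_eq_one hk'
        have hd : orderOf ⁅t, q₀⁆ ∣ Nat.gcd 3 (2 ^ k) := Nat.dvd_gcd hd1 hd2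
        have hcop : Nat.Coprime 3 (2 ^ k) := Nat.Coprime.pow_right _ (by norm_num)
        rw [hcop] at hd
        have hw1 : ⁅t, q₀⁆ = 1 := orderOf_eq_one_iff.mp (Nat.dvd_one.mp hd)
        apply h
        rw [hw1]; exact one_mem _
      have hw_comm : ⁅t, q₀⁆ * t = t * ⁅t, q₀⁆ := Subgroup.mem_centralizer_singleton_iff.mp hw_c
      have hw_sq : (⁅t, q₀⁆)⁻¹ = ⁅t, q₀⁆ := by
        have : t * ⁅t, q₀⁆ * t⁻¹ = ⁅t, q₀⁆ := by rw [← hw_comm]; group
        rw [this] at hw_inv
        exact hw_inv.symm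
      have hiii : ∀ c ∈ Q, c ∈ Subgroup.centralizer ({t} : Set G) →
          c * ⁅t, q₀⁆ * c⁻¹ = ⁅t, q₀⁆ := by
        intro c hcQ hc
        have hct := Subgroup.mem_centralizer_singleton_iff.mp hc
        have hcq : c * q₀ ∉ Subgroup.centralizer ({t} : Set G) :=
          fun h => hq₀ (((factA c hcQ q₀ hq₀Q).mp h).mp hc)
        have h1 := factB2 (c * q₀) (mul_mem hcQ hq₀Q) hcq
        have e : ⁅t, c * q₀⁆ = c * ⁅t, q₀⁆ * c⁻¹ := by
          calc ⁅t, c * q₀⁆ = (t * c) * q₀ * t⁻¹ * q₀⁻¹ * c⁻¹ := by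
                simp only [commutatorElement_def]; group
            _ = (c * t) * q₀ * t⁻¹ * q₀⁻¹ * c⁻¹ := by rw [hct]
            _ = c * ⁅t, q₀⁆ * c⁻¹ := by simp only [commutatorElement_def]; group
        rw [← e, h1]
      have hiv : q₀ * ⁅t, q₀⁆ * q₀⁻¹ = ⁅t, q₀⁆ := by
        have hq2 : q₀ * q₀ ∈ Subgroup.centralizer ({t} : Set G) :=
          (factA q₀ hq₀Q q₀ hq₀Q).mpr Iff.rfl
        have h1 := factB1 (q₀ * q₀) (mul_mem hq₀Q hq₀Q) hq2
        have e : ⁅t, q₀ * q₀⁆ = ⁅t, q₀⁆ * (q₀ * ⁅t, q₀⁆ * q₀⁻¹) := by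
          simp only [commutatorElement_def]; group
        rw [e] at h1
        have h5 : q₀ * ⁅t, q₀⁆ * q₀⁻¹ = (⁅t, q₀⁆)⁻¹ := eq_inv_of_mul_eq_one_right h1
        rw [h5, hw_sq]
      have hwcen : ⁅t, q₀⁆ ∈ Subgroup.centralizer (Q : Set G) := by
        intro q hq
        by_cases hqc : q ∈ Subgroup.centralizer ({t} : Set G)
        · have h1 := hiii q hq hqc
          calc q * ⁅t, q₀⁆ = (q * ⁅t, q₀⁆ * q⁻¹) * q := by group
            _ = ⁅t, q₀⁆ * q := by rw [h1]
        · have hc := hcoset q hq hqc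
          have h6 := hiii (q₀⁻¹ * q) (mul_mem (inv_mem hq₀Q) hq) hc
          calc q * ⁅t, q₀⁆ = q₀ * ((q₀⁻¹ * q) * ⁅t, q₀⁆ * (q₀⁻¹ * q)⁻¹) * q₀⁻¹ * q := by group
            _ = q₀ * ⁅t, q₀⁆ * q₀⁻¹ * q := by rw [h6]
            _ = ⁅t, q₀⁆ * q := by rw [hiv]
      intro q hq
      by_cases hqc : q ∈ Subgroup.centralizer ({t} : Set G)
      · rw [factB1 q hq hqc]; exact one_mem _
      · rw [factB2 q hq hqc]; exact ⟨hwcen, hwQ⟩
  exact mem_sup_centralizer_of_commutator_mem Q hZcard hQQ t htZ hcomm_t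

end Cfsg.Agent.S1756
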