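import Cfsg.Statements.S1757
import Cfsg.Agent.Helper9.PGroup

set_option autoImplicit false
open Cfsg

namespace Cfsg.Agent.S1757

open scoped Pointwise commutatorElement

/-- Let p be a prime and A, B p-subgroups of the finite group G, each of which meets every conjugate of itself other than itself trivially. Suppose the order of A is at most that of B, A and B intersect trivially, and B normalizes A. Then A and B commute elementwise. -/
theorem result {G : Type*} [Group G] [Finite G] (p : ℕ) [Fact p.Prime] (A B : Subgroup G)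
    (hA : IsPGroup p ↥A) (hB : IsPGroup p ↥B)
    (hAti : ∀ g : G, A.map (MulAut.conj g).toMonoidHom = A ∨ A.map (MulAut.conj g).toMonoidHom ⊓ A = ⊥)
    (hBti : ∀ g : G, B.map (MulAut.conj g).toMonoidHom = B ∨ B.map (MulAut.conj g).toMonoidHom ⊓ B = ⊥)
    (hle : Nat.card ↥A ≤ Nat.card ↥B) (hAB : A ⊓ B = ⊥) (hN : B ≤ Subgroup.normalizer (A : Set G)) : ⁅A, B⁆ = ⊥ := by
  classical
  by_cases hAN : A ≤ Subgroup.normalizer (B : Set G)
  · -- then `[A, B] ≤ A ⊓ B = ⊥`
    rw [eq_bot_iff, Subgroup.commutator_le]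
    intro a ha b hb
    rw [← hAB]
    refine ⟨?_, ?_⟩
    · -- ⁅a, b⁆ = a * (b * a⁻¹ * b⁻¹)
      have h1 : b * a⁻¹ * b⁻¹ ∈ A := ((Subgroup.mem_normalizer_iff.mp (hN hb)) a⁻¹).mp (A.inv_mem ha)
      have : ⁅a, b⁆ = a * (b * a⁻¹ * b⁻¹) := by rw [commutatorElement_def]; group
      rw [this]
      exact A.mul_mem ha h1
    · have h1 : a * b * a⁻¹ ∈ B := ((Subgroup.mem_normalizer_iff.mp (hAN ha)) b).mp hb
      rw [commutatorElement_def]
      exact B.mul_mem h1 (B.inv_mem hb)
  · exfalso
    -- P = A ⊔ B is a p-group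
    have hP : IsPGroup p ↥(A ⊔ B) := by
      rw [sup_comm]
      exact IsPGroup.to_sup_of_normal_right' hB hA hN
    set N : Subgroup G := Subgroup.normalizer (B : Set G) ⊓ (A ⊔ B) with hNdef
    have hBN : B ≤ N := le_inf Subgroup.le_normalizer le_sup_right
    have hNP : N < A ⊔ B := by
      refine lt_of_le_of_ne inf_le_right ?_
      intro h
      apply hAN
      have : A ≤ N := h ▸ le_sup_left
      exact this.trans inf_le_left
    obtain ⟨x, hxP, hxN, hxn⟩ := Cfsg.Agent.Helper9.exists_normalizing_not_mem p (A ⊔ B) N hP hNP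
    have hxB : B.map (MulAut.conj x).toMonoidHom ≠ B := by
      intro h
      apply hxN
      exact ⟨(Cfsg.Agent.Helper9.map_conj_eq_iff_mem_normalizer B x).mp h, hxP⟩
    have hti := (hBti x).resolve_left hxB
    have hBxN : B.map (MulAut.conj x).toMonoidHom ≤ N := by
      rw [← hxn]
      exact Subgroup.map_mono hBN
    have h1 := Cfsg.Agent.Helper9.card_mul_le_of_disjoint _ _ N hBxN hBN hti
    rw [Cfsg.Agent.Helper9.card_map_conj] at h1
    -- every element of N is a product of an element of N ⊓ A and an element of B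
    have h2 : Nat.card N ≤ Nat.card ↥(N ⊓ A) * Nat.card B := by
      apply Cfsg.Agent.Helper9.card_le_mul_of_forall_exists
      intro n hn
      have hnP : n ∈ A ⊔ B := hn.2
      have hset : ((A ⊔ B : Subgroup G) : Set G) = (A : Set G) * (B : Set G) :=
        Subgroup.coe_mul_of_right_le_normalizer_left A B hN
      have : n ∈ (A : Set G) * (B : Set G) := hset ▸ hnP
      obtain ⟨a, ha, b, hb, rfl⟩ := Set.mem_mul.mp this
      refine ⟨a, ⟨?_, ha⟩, b, hb, rfl⟩
      have : a = a * b * b⁻¹ := by group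
      rw [this]
      exact N.mul_mem hn (N.inv_mem (hBN hb))
    have hBpos : 0 < Nat.card B := Nat.card_pos
    have h3 : Nat.card B ≤ Nat.card ↥(N ⊓ A) := by
      have : Nat.card B * Nat.card B ≤ Nat.card ↥(N ⊓ A) * Nat.card B := h1.trans h2
      exact Nat.le_of_mul_le_mul_right this hBpos
    have h4 : Nat.card ↥(N ⊓ A) ≤ Nat.card A := Subgroup.card_le_of_le inf_le_right
    have h5 : N ⊓ A = A :=
      Subgroup.eq_of_le_of_card_ge inf_le_right (by omega)
    apply hAN
    have : A ≤ N := h5 ▸ inf_le_left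
    exact this.trans inf_le_left

end Cfsg.Agent.S1757
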