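import Mathlib
import Cfsg.Statements.S1774
import Cfsg.Agent.Helper19.SympTypeE
import Cfsg.Agent.Helper19.SympPairB
import Cfsg.Agent.Helper7.FStar

set_option autoImplicit false
open Cfsg

namespace Cfsg.Agent.S1774

open Subgroup
open scoped commutatorElement
open Cfsg.Agent.Helper19.SympType Cfsg.Agent.Helper19.SympPair

/-- the symplectic-type axioms for `Q = F*(C_G(z))` in `G` -/
theorem sy4_of_fstar {G : Type*} [Group G] [Finite G] (z : G) (hz : orderOf z = 2)
    (hQ : Cfsg.IsOfSymplecticType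
      ↥(Cfsg.generalizedFittingSubgroup ↥(Subgroup.centralizer ({z} : Set G))))
    (h4 : ∀ q ∈ (Cfsg.generalizedFittingSubgroup ↥(Subgroup.centralizer ({z} : Set G))).map
      (Subgroup.centralizer ({z} : Set G)).subtype, q ^ 4 = 1) :
    SY4 ((Cfsg.generalizedFittingSubgroup ↥(Subgroup.centralizer ({z} : Set G))).map
      (Subgroup.centralizer ({z} : Set G)).subtype) z ∧
    (∀ x : G, (∀ q ∈ (Cfsg.generalizedFittingSubgroup ↥(Subgroup.centralizer ({z} : Set G))).map
      (Subgroup.centralizer ({z} : Set G)).subtype, x * q = q * x) →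
      x ∈ (Cfsg.generalizedFittingSubgroup ↥(Subgroup.centralizer ({z} : Set G))).map
      (Subgroup.centralizer ({z} : Set G)).subtype) ∧
    (∀ x : G, x * z = z * x →
      ∀ q ∈ (Cfsg.generalizedFittingSubgroup ↥(Subgroup.centralizer ({z} : Set G))).map
      (Subgroup.centralizer ({z} : Set G)).subtype, x * q * x⁻¹ ∈
      (Cfsg.generalizedFittingSubgroup ↥(Subgroup.centralizer ({z} : Set G))).map
      (Subgroup.centralizer ({z} : Set G)).subtype) := by
  haveI : Fact (Nat.Prime 2) := ⟨Nat.prime_two⟩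
  have hcF := Cfsg.Agent.Helper7.centralizer_generalizedFitting_le
    (G := ↥(Subgroup.centralizer ({z} : Set G)))
  have hFn : (Cfsg.generalizedFittingSubgroup ↥(Subgroup.centralizer ({z} : Set G))).Normal :=
    Cfsg.Agent.Helper7.generalizedFittingSubgroup_normal _
  obtain ⟨F, hF⟩ : ∃ F : Subgroup ↥(Subgroup.centralizer ({z} : Set G)),
    F = Cfsg.generalizedFittingSubgroup ↥(Subgroup.centralizer ({z} : Set G)) := ⟨_, rfl⟩
  rw [← hF] at hQ h4 hcF hFn ⊢
  obtain ⟨Q, hQdef⟩ : ∃ Q : Subgroup G,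
    Q = F.map (Subgroup.centralizer ({z} : Set G)).subtype := ⟨_, rfl⟩
  rw [← hQdef] at h4 ⊢
  have hz1 : z ≠ 1 := by
    intro h1
    rw [h1, orderOf_one] at hz
    exact absurd hz (by norm_num)
  have hzz : z * z = 1 := by
    have := pow_orderOf_eq_one z
    rwa [hz, pow_two] at this
  have hmemQ : ∀ x, x ∈ Q ↔ ∃ f : ↥(Subgroup.centralizer ({z} : Set G)), f ∈ F ∧ (f : G) = x := by
    intro x
    rw [hQdef]
    simp [Subgroup.mem_map]
  have hQC : ∀ q ∈ Q, q * z = z * q := by
    intro q hq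
    obtain ⟨f, -, rfl⟩ := (hmemQ q).mp hq
    exact Subgroup.mem_centralizer_singleton_iff.mp f.2
  -- membership in Q from centralizing Q
  have key : ∀ x : G, x * z = z * x → (∀ q ∈ Q, x * q = q * x) → x ∈ Q := by
    intro x hxz hxQ
    have hxH : x ∈ Subgroup.centralizer ({z} : Set G) :=
      Subgroup.mem_centralizer_singleton_iff.mpr hxz
    have h1 : (⟨x, hxH⟩ : ↥(Subgroup.centralizer ({z} : Set G))) ∈
        Subgroup.centralizer (F : Set _) := by
      rw [Subgroup.mem_centralizer_iff]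
      intro f hf
      apply Subtype.ext
      have hfQ : (f : G) ∈ Q := (hmemQ _).mpr ⟨f, hf, rfl⟩
      exact (hxQ _ hfQ).symm
    have h2 := hcF h1
    exact (hmemQ x).mpr ⟨_, h2, rfl⟩
  have hzQ : z ∈ Q := key z rfl (fun q hq => (hQC q hq).symm)
  have hCQ : ∀ x : G, (∀ q ∈ Q, x * q = q * x) → x ∈ Q :=
    fun x hx => key x (hx z hzQ) hx
  have hNQ : ∀ x : G, x * z = z * x → ∀ q ∈ Q, x * q * x⁻¹ ∈ Q := by
    intro x hxz q hq
    have hxH : x ∈ Subgroup.centralizer ({z} : Set G) :=
      Subgroup.mem_centralizer_singleton_iff.mpr hxz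
    obtain ⟨f, hf, rfl⟩ := (hmemQ q).mp hq
    exact (hmemQ _).mpr ⟨⟨x, hxH⟩ * f * ⟨x, hxH⟩⁻¹, hFn.conj_mem f hf ⟨x, hxH⟩, rfl⟩
  refine ⟨?_, hCQ, hNQ⟩
  -- the group `T = ↥F`
  have hT2 : IsPGroup 2 ↥F := hQ.1
  have hsymp := hQ.2
  have h4T : ∀ t : ↥F, t ^ 4 = 1 := by
    intro t
    have h5 := h4 ((t : ↥(Subgroup.centralizer ({z} : Set G))) : G)
      ((hmemQ _).mpr ⟨t.1, t.2, rfl⟩)
    apply Subtype.ext
    apply Subtype.ext
    simpa using h5
  obtain ⟨fz, hfz, hfzz⟩ := (hmemQ z).mp hzQ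
  obtain ⟨zT, hzT⟩ : ∃ zT : ↥F, ((zT : ↥(Subgroup.centralizer ({z} : Set G))) : G) = z :=
    ⟨⟨fz, hfz⟩, hfzz⟩
  have hzT1 : zT ≠ 1 := by
    intro h1
    apply hz1
    rw [← hzT, h1]
    rfl
  haveI : Nontrivial ↥F := ⟨⟨zT, 1, hzT1⟩⟩
  obtain ⟨hL, hcard⟩ := symL_eq_top_of_pow_four hT2 hsymp h4T
  -- coercion of equations
  have hco : ∀ s t : ↥F, ((s : ↥(Subgroup.centralizer ({z} : Set G))) : G) =
      ((t : ↥(Subgroup.centralizer ({z} : Set G))) : G) → s = t :=
    fun s t hst => Subtype.ext (Subtype.ext hst)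
  have hzTc : zT ∈ omegaCenter 2 ↥F := by
    constructor
    · rw [Subgroup.mem_center_iff]
      intro t
      apply hco
      show ((t : ↥(Subgroup.centralizer ({z} : Set G))) : G) *
        ((zT : ↥(Subgroup.centralizer ({z} : Set G))) : G) =
        ((zT : ↥(Subgroup.centralizer ({z} : Set G))) : G) *
        ((t : ↥(Subgroup.centralizer ({z} : Set G))) : G)
      rw [hzT]
      exact Subgroup.mem_centralizer_singleton_iff.mp t.1.2
    · apply hco
      show ((zT : ↥(Subgroup.centralizer ({z} : Set G))) : G) ^ 2 = 1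
      rw [hzT, pow_two, hzz]
  have hom : ∀ w ∈ omegaCenter 2 ↥F, w = 1 ∨ w = zT := by
    intro w hw
    by_cases hw1 : w = 1
    · exact Or.inl hw1
    · right
      obtain ⟨y, -, hy⟩ := (Nat.card_eq_two_iff' (1 : ↥(omegaCenter 2 ↥F))).mp hcard
      have h5 := hy ⟨w, hw⟩ (fun h => hw1 (congrArg Subtype.val h))
      have h6 := hy ⟨zT, hzTc⟩ (fun h => hzT1 (congrArg Subtype.val h))
      have h7 : (⟨w, hw⟩ : ↥(omegaCenter 2 ↥F)) = ⟨zT, hzTc⟩ := h5.trans h6.symm
      exact congrArg Subtype.val h7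
  have hLmem : ∀ t : ↥F, t ∈ symL 2 ↥F := fun t => hL ▸ Subgroup.mem_top t
  -- lifting elements of `Q`
  have hlift : ∀ q ∈ Q, ∃ t : ↥F, ((t : ↥(Subgroup.centralizer ({z} : Set G))) : G) = q := by
    intro q hq
    obtain ⟨f, hf, hfq⟩ := (hmemQ q).mp hq
    exact ⟨⟨f, hf⟩, hfq⟩
  refine ⟨hz1, hzz, hzQ, hQC, ?_, ?_, ?_⟩
  · -- commutators
    intro q hq r hr
    obtain ⟨tq, rfl⟩ := hlift q hq
    obtain ⟨tr, rfl⟩ := hlift r hr
    rcases hom _ ((hLmem tr).2 tq) with h5 | h5
    · left
      rw [commutatorElement_eq_one_iff_mul_comm] at h5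
      have := congrArg (fun t : ↥F => ((t : ↥(Subgroup.centralizer ({z} : Set G))) : G)) h5
      exact this
    · right
      have h6 : tq * tr = zT * (tr * tq) := by
        rw [← h5, commutatorElement_def]; group
      have h7 := congrArg (fun t : ↥F => ((t : ↥(Subgroup.centralizer ({z} : Set G))) : G)) h6
      have h8 : ((tq : ↥(Subgroup.centralizer ({z} : Set G))) : G) *
          ((tr : ↥(Subgroup.centralizer ({z} : Set G))) : G) =
          ((zT : ↥(Subgroup.centralizer ({z} : Set G))) : G) *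
          (((tr : ↥(Subgroup.centralizer ({z} : Set G))) : G) *
          ((tq : ↥(Subgroup.centralizer ({z} : Set G))) : G)) := h7
      rw [hzT] at h8
      rw [h8]
      exact (hQC _ (Q.mul_mem hr hq)).symm
  · -- squares
    intro q hq
    obtain ⟨tq, rfl⟩ := hlift q hq
    rcases hom _ (hLmem tq).1 with h5 | h5
    · left
      rw [pow_two] at h5
      have := congrArg (fun t : ↥F => ((t : ↥(Subgroup.centralizer ({z} : Set G))) : G)) h5
      exact this
    · right
      rw [pow_two] at h5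
      have h7 := congrArg (fun t : ↥F => ((t : ↥(Subgroup.centralizer ({z} : Set G))) : G)) h5
      have h8 : ((tq : ↥(Subgroup.centralizer ({z} : Set G))) : G) *
          ((tq : ↥(Subgroup.centralizer ({z} : Set G))) : G) =
          ((zT : ↥(Subgroup.centralizer ({z} : Set G))) : G) := h7
      rw [h8, hzT]
  · -- central involutions
    intro x hx hxc hxx
    obtain ⟨tx, rfl⟩ := hlift x hx
    have h5 : tx ∈ omegaCenter 2 ↥F := by
      constructor
      · rw [Subgroup.mem_center_iff]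
        intro t
        apply hco
        have hq : ((t : ↥(Subgroup.centralizer ({z} : Set G))) : G) ∈ Q :=
          (hmemQ _).mpr ⟨t.1, t.2, rfl⟩
        exact (hxc _ hq).symm
      · apply hco
        show ((tx : ↥(Subgroup.centralizer ({z} : Set G))) : G) ^ 2 = 1
        rw [pow_two, hxx]
    rcases hom _ h5 with h6 | h6
    · left
      rw [h6]; rfl
    · right
      rw [h6, hzT]

/-- Let G be a finite group and let z be an involution of G such that Q, the generalized Fitting subgroup of the centralizer C of z, is a 2-group of symplectic type (every characteristic abelian subgroup of Q is cyclic); suppose every element of Q has order dividing 4. Let g ∈ G with z' = g z g⁻¹ ≠ z and z' ∈ Q. Then z lies in the conjugate g Q g⁻¹, and the subgroup X generated by Q and g Q g⁻¹ induces every automorphism of the four-group generated by z and z': for any two distinct non-identity elements u, v of that four-group there is x ∈ X with x z x⁻¹ = u and x z' x⁻¹ = v. -/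
theorem result {G : Type*} [Group G] [Finite G] (z : G) (hz : orderOf z = 2) (hQ : Cfsg.IsOfSymplecticType ↥(Cfsg.generalizedFittingSubgroup ↥(Subgroup.centralizer ({z} : Set G))))
    (h4 : ∀ q ∈ (Cfsg.generalizedFittingSubgroup ↥(Subgroup.centralizer ({z} : Set G))).map (Subgroup.centralizer ({z} : Set G)).subtype, q ^ 4 = 1) (g : G) (hne : g * z * g⁻¹ ≠ z) (hin : g * z * g⁻¹ ∈ (Cfsg.generalizedFittingSubgroup ↥(Subgroup.centralizer ({z} : Set G))).map (Subgroup.centralizer ({z} : Set G)).subtype) :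
    z ∈ ((Cfsg.generalizedFittingSubgroup ↥(Subgroup.centralizer ({z} : Set G))).map (Subgroup.centralizer ({z} : Set G)).subtype).map (MulAut.conj g).toMonoidHom ∧
      ∀ u ∈ Subgroup.closure ({z, g * z * g⁻¹} : Set G), ∀ v ∈ Subgroup.closure ({z, g * z * g⁻¹} : Set G),
        u ≠ 1 → v ≠ 1 → u ≠ v →
          ∃ x ∈ (Cfsg.generalizedFittingSubgroup ↥(Subgroup.centralizer ({z} : Set G))).map (Subgroup.centralizer ({z} : Set G)).subtype ⊔ ((Cfsg.generalizedFittingSubgroup ↥(Subgroup.centralizer ({z} : Set G))).map (Subgroup.centralizer ({z} : Set G)).subtype).map (MulAut.conj g).toMonoidHom, x * z * x⁻¹ = u ∧ x * (g * z * g⁻¹) * x⁻¹ = v := by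
  obtain ⟨hSY, hC, hN⟩ := sy4_of_fstar z hz hQ h4
  exact four_group_action hSY hC hN g hne hin

end Cfsg.Agent.S1774
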