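import Cfsg.Statements.S1775
import Mathlib
import Cfsg.Agent.Helper9.LBalK

set_option autoImplicit false
open Cfsg

namespace Cfsg.Agent.S1775

/-- Let G be a finite group whose generalized Fitting subgroup is a non-abelian simple group and in which every proper section (every quotient H/N of a proper subgroup H, or of G by a nontrivial normal subgroup) has the B-property. Let x, y be commuting involutions, let D be the intersection of the 2-layer of C_G(x) with C_G(y), and let J be a 2-component of D. Write Q for the quotient of C_G(y) by its largest normal odd-order subgroup. Then (i) the image of J in Q is a component of the centralizer in Q of the image of x; and (ii) for every J-invariant subgroup E of odd order of C_G(x) ∩ C_G(y), the commutator subgroup [J, E] lies in the largest normal odd-order subgroup of C_G(y). -/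
theorem result {G : Type*} [Group G] [Finite G]
    (hF : IsSimpleGroup ↥(Cfsg.generalizedFittingSubgroup G)) (hF' : ¬ IsMulCommutative ↥(Cfsg.generalizedFittingSubgroup G))
    (hsec : ∀ (H : Subgroup G) (N : Subgroup ↥H) [N.Normal], (H ≠ ⊤ ∨ N ≠ ⊥) → Cfsg.HasBProperty (↥H ⧸ N))
    (x y : G) (hx : orderOf x = 2) (hy : orderOf y = 2) (hxy : x * y = y * x)
    (J : Subgroup ↥((Cfsg.pLayer 2 ↥(Subgroup.centralizer ({x} : Set G))).map (Subgroup.centralizer ({x} : Set G)).subtype ⊓ Subgroup.centralizer ({y} : Set G)))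
    (hJ : Cfsg.IsPComponent 2 J) :
    Cfsg.IsComponent
        ((((J.map (Subgroup.subtype _)).subgroupOf (Subgroup.centralizer ({y} : Set G))).map (QuotientGroup.mk' (Cfsg.oddCore ↥(Subgroup.centralizer ({y} : Set G))))).subgroupOf
          (Subgroup.centralizer ({(QuotientGroup.mk' (Cfsg.oddCore ↥(Subgroup.centralizer ({y} : Set G))) ⟨x, Subgroup.mem_centralizer_singleton_iff.mpr hxy⟩ : ↥(Subgroup.centralizer ({y} : Set G)) ⧸ Cfsg.oddCore ↥(Subgroup.centralizer ({y} : Set G)))} : Set _))) ∧
      ∀ E : Subgroup G, E ≤ Subgroup.centralizer ({x} : Set G) ⊓ Subgroup.centralizer ({y} : Set G) → Odd (Nat.card ↥E) →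
        (∀ j ∈ J.map (Subgroup.subtype _), ∀ e ∈ E, j * e * j⁻¹ ∈ E) →
          ⁅J.map (Subgroup.subtype _), E⁆ ≤ (Cfsg.oddCore ↥(Subgroup.centralizer ({y} : Set G))).map (Subgroup.centralizer ({y} : Set G)).subtype := by
  classical
  haveI : Fact (Nat.Prime 2) := ⟨Nat.prime_two⟩
  have hxY : x ∈ Subgroup.centralizer ({y} : Set G) := Subgroup.mem_centralizer_singleton_iff.mpr hxy
  -- `C(y)` is proper
  have hYne : Subgroup.centralizer ({y} : Set G) ≠ ⊤ := by
    intro h
    have hyc : y ∈ Subgroup.center G := by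
      rw [Subgroup.mem_center_iff]
      intro g
      have : g ∈ Subgroup.centralizer ({y} : Set G) := by rw [h]; exact Subgroup.mem_top g
      exact Subgroup.mem_centralizer_singleton_iff.1 this
    have hyF : y ∈ Cfsg.generalizedFittingSubgroup G :=
      Cfsg.Agent.Helper7.centralizer_generalizedFitting_le
        (Subgroup.center_le_centralizer _ hyc)
    have hyZ : (⟨y, hyF⟩ : ↥(Cfsg.generalizedFittingSubgroup G)) ∈
        Subgroup.center ↥(Cfsg.generalizedFittingSubgroup G) := by
      rw [Subgroup.mem_center_iff]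
      intro g
      apply Subtype.ext
      exact Subgroup.mem_center_iff.1 hyc g
    rcases (inferInstance : (Subgroup.center ↥(Cfsg.generalizedFittingSubgroup G)).Normal).eq_bot_or_eq_top
      with h1 | h1
    · rw [h1, Subgroup.mem_bot] at hyZ
      have : y = 1 := congrArg Subtype.val hyZ
      exact Cfsg.Agent.Helper9.LBal.ne_one_of_orderOf_two hy this
    · exact hF' (Subgroup.center_eq_top_iff.1 h1)
  have hB := hsec (Subgroup.centralizer ({y} : Set G))
    (Cfsg.pPrimeCore 2 ↥(Subgroup.centralizer ({y} : Set G))) (Or.inl hYne)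
  -- `J` as a `2`-component of `C(x) ∩ C(y)`
  have hJ₀ : Cfsg.IsPComponentOf 2 (J.map (Subgroup.subtype _))
      ((Cfsg.pLayer 2 ↥(Subgroup.centralizer ({x} : Set G))).map
        (Subgroup.centralizer ({x} : Set G)).subtype ⊓ Subgroup.centralizer ({y} : Set G)) := by
    refine ⟨Cfsg.Agent.Helper14.map_subtype_le _, ?_⟩
    rw [Cfsg.Agent.Helper14.subgroupOf_map_subtype']
    exact hJ
  have hs : Cfsg.Agent.Helper1.SubnIn
      ((Cfsg.pLayer 2 ↥(Subgroup.centralizer ({x} : Set G))).map
        (Subgroup.centralizer ({x} : Set G)).subtype ⊓ Subgroup.centralizer ({y} : Set G))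
      (Subgroup.centralizer ({x} : Set G) ⊓ Subgroup.centralizer ({y} : Set G)) := by
    apply Cfsg.Agent.Helper1.SubnIn.of_normal
    · exact inf_le_inf_right _ (Cfsg.Agent.Helper14.map_subtype_le _)
    · intro g hg
      haveI : (Cfsg.pLayer 2 ↥(Subgroup.centralizer ({x} : Set G))).Normal :=
        Cfsg.Agent.Helper7.pLayer_normal 2 _
      exact Cfsg.Agent.Helper9.Glaub.mem_normalizer_inf
        (Cfsg.Agent.Helper9.Glaub.le_normalizer_map_subtype _ _ hg.1) (Subgroup.le_normalizer hg.2)
  have hJ₁ := Cfsg.Agent.Helper9.LBal.IsPComponentOf.of_subnIn hJ₀ hs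
  exact Cfsg.Agent.Helper9.LBal.component_mod_core hx hxY hB hJ₁

end Cfsg.Agent.S1775
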