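import Cfsg.Statements.S1781
import Cfsg.Agent.Helper9.PGroup
import Cfsg.Agent.Helper9.TwoAut

set_option autoImplicit false
open Cfsg

namespace Cfsg.Agent.S1781

/-- Let A be an abelian 2-subgroup of the finite group G such that every conjugate of A equals A or meets A trivially, and let g ∈ G with g A g⁻¹ ≠ A. Then either the subgroup of those elements of A that normalize g A g⁻¹ is an elementary abelian 2-group, or A and g A g⁻¹ commute elementwise. -/
theorem result {G : Type*} [Group G] [Finite G] (A : Subgroup G)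
    (hA2 : IsPGroup 2 ↥A) (hAa : IsMulCommutative ↥A)
    (hti : ∀ h : G, A.map (MulAut.conj h).toMonoidHom = A ∨ A.map (MulAut.conj h).toMonoidHom ⊓ A = ⊥)
    (g : G) (hg : A.map (MulAut.conj g).toMonoidHom ≠ A) :
    Cfsg.IsElementaryAbelian 2 (A ⊓ Subgroup.normalizer ((A.map (MulAut.conj g).toMonoidHom : Subgroup G) : Set G)) ∨
      ⁅A, A.map (MulAut.conj g).toMonoidHom⁆ = ⊥ := by
  classical
  set M : Subgroup G := A.map (MulAut.conj g).toMonoidHom with hMdef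
  have hAcomm : ∀ a ∈ A, ∀ b ∈ A, a * b = b * a := by
    intro a ha b hb
    have := hAa.is_comm.comm (⟨a, ha⟩ : A) ⟨b, hb⟩
    exact congrArg Subtype.val this
  by_cases hsq : ∀ a ∈ A ⊓ Subgroup.normalizer ((M : Subgroup G) : Set G), a ^ 2 = 1
  · left
    refine ⟨⟨⟨?_⟩⟩, hsq⟩
    rintro ⟨a, ha⟩ ⟨b, hb⟩
    apply Subtype.ext
    exact hAcomm a ha.1 b hb.1
  right
  rw [not_forall] at hsq
  obtain ⟨d, hd⟩ := hsq
  rw [Classical.not_imp] at hd
  obtain ⟨⟨hdA, hdN⟩, hd2⟩ := hd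
  have hd1 : d ≠ 1 := by
    rintro rfl
    exact hd2 (one_pow 2)
  have hMA : M ⊓ A = ⊥ := (hti g).resolve_left hg
  have hAM : A ⊓ M = ⊥ := by rw [inf_comm]; exact hMA
  -- M is an abelian 2-group
  have hMcomm : ∀ a ∈ M, ∀ b ∈ M, a * b = b * a := by
    rintro _ ⟨a, ha, rfl⟩ _ ⟨b, hb, rfl⟩
    simp only [MulEquiv.coe_toMonoidHom, ← map_mul, hAcomm a ha b hb]
  have hM2 : IsPGroup 2 M :=
    hA2.of_equiv (A.equivMapOfInjective (MulAut.conj g).toMonoidHom (MulAut.conj g).injective)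
  -- orders
  have hord : ∀ (H : Subgroup G), IsPGroup 2 H → ∀ x ∈ H, ∃ k : ℕ, orderOf x = 2 ^ k := by
    intro H hH x hx
    obtain ⟨k, hk⟩ := hH ⟨x, hx⟩
    have hk' : x ^ (2 ^ k) = 1 := by
      have := congrArg Subtype.val hk
      simpa using this
    obtain ⟨j, _, hj⟩ := (Nat.dvd_prime_pow Nat.prime_two).mp (orderOf_dvd_of_pow_eq_one hk')
    exact ⟨j, hj⟩
  -- step 4: d centralizes M
  have hd2A : d ^ 2 ∈ A := A.pow_mem hdA 2
  have step4 : ∀ m ∈ M, d * m = m * d := by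
    apply Cfsg.Agent.Helper9.centralizes_of_fix_sq M hM2 hMcomm d (hord A hA2 d hdA) hdN
    intro m hm hcomm
    have hmN : m ∈ Subgroup.normalizer (A : Set G) :=
      Cfsg.Agent.Helper9.mem_normalizer_of_commute_of_ti A hti hd2A hd2 hcomm.symm
    exact Cfsg.Agent.Helper9.commute_of_mem_normalizer A M hAM hdA hdN hm hmN
  have hMN : M ≤ Subgroup.normalizer (A : Set G) := by
    intro m hm
    exact Cfsg.Agent.Helper9.mem_normalizer_of_commute_of_ti A hti hdA hd1 (step4 m hm).symm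
  -- step 5
  set m₀ : G := g * d * g⁻¹ with hm₀
  have hm₀M : m₀ ∈ M := ⟨d, hdA, by simp [hm₀]⟩
  have hm₀sq : m₀ ^ 2 = g * d ^ 2 * g⁻¹ := by
    rw [hm₀, pow_two, pow_two]; group
  have hm₀2 : m₀ ^ 2 ≠ 1 := by
    intro h
    rw [hm₀sq] at h
    apply hd2
    have : d ^ 2 = g⁻¹ * (g * d ^ 2 * g⁻¹) * g := by group
    rw [this, h]; group
  have hm₀1 : m₀ ≠ 1 := by
    intro h
    rw [h] at hm₀2
    exact hm₀2 (one_pow 2)
  have hm₀2M : m₀ ^ 2 ∈ M := M.pow_mem hm₀M 2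
  have step5 : ∀ a ∈ A, m₀ * a = a * m₀ := by
    apply Cfsg.Agent.Helper9.centralizes_of_fix_sq A hA2 hAcomm m₀ (hord M hM2 m₀ hm₀M) (hMN hm₀M)
    intro a ha hcomm
    have haN : a ∈ Subgroup.normalizer ((M : Subgroup G) : Set G) :=
      Cfsg.Agent.Helper9.mem_normalizer_map_conj_of_commute_of_ti A hti g hm₀2M hm₀2 hcomm.symm
    exact (Cfsg.Agent.Helper9.commute_of_mem_normalizer A M hAM ha haN hm₀M (hMN hm₀M)).symm
  have hAN : A ≤ Subgroup.normalizer ((M : Subgroup G) : Set G) := by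
    intro a ha
    exact Cfsg.Agent.Helper9.mem_normalizer_map_conj_of_commute_of_ti A hti g hm₀M hm₀1 (step5 a ha).symm
  exact Cfsg.Agent.Helper9.commutator_eq_bot_of_normalize A M hAM hAN hMN

end Cfsg.Agent.S1781
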