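import Cfsg.Statements.S1782
import Mathlib
import Cfsg.Agent.Helper9.TIFamily

set_option autoImplicit false
open Cfsg

namespace Cfsg.Agent.S1782
open scoped Pointwise commutatorElement

/-- Let S be a finite 2-group and Δ a set of subgroups of S closed under conjugation by S, all of the same order, each with nontrivial Frattini subgroup, and such that two distinct members of Δ meet trivially. Then any two distinct members of Δ commute elementwise. -/
theorem result {S : Type*} [Group S] [Finite S] (hS : IsPGroup 2 S)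
    (Δ : Set (Subgroup S)) (hinv : ∀ s : S, ∀ R ∈ Δ, R.map (MulAut.conj s).toMonoidHom ∈ Δ)
    (hΦ : ∀ R ∈ Δ, frattini ↥R ≠ ⊥) (hord : ∀ R ∈ Δ, ∀ T ∈ Δ, Nat.card ↥R = Nat.card ↥T)
    (hti : ∀ R ∈ Δ, ∀ T ∈ Δ, R = T ∨ R ⊓ T = ⊥) :
    ∀ R ∈ Δ, ∀ T ∈ Δ, R ≠ T → ⁅R, T⁆ = ⊥ := by
  classical
  have hsq : ∀ R ∈ Δ, ∃ a ∈ R, a ^ 2 ≠ 1 := by
    intro R hR
    by_contra hcon
    push Not at hcon
    apply hΦ R hR
    have hexp : ∀ a : R, a ^ 2 = 1 := fun a => Subtype.ext (by simpa using hcon a.1 a.2)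
    have hcomm : ∀ a b : R, a * b = b * a := by
      intro a b
      have h1 := hexp (a * b)
      have ha : a⁻¹ = a := by rw [inv_eq_iff_mul_eq_one, ← sq]; exact hexp a
      have hb : b⁻¹ = b := by rw [inv_eq_iff_mul_eq_one, ← sq]; exact hexp b
      have h2 : a * b = (a * b)⁻¹ := by rw [eq_inv_iff_mul_eq_one, ← sq]; exact h1
      rw [h2, mul_inv_rev, ha, hb]
    exact Cfsg.Agent.Helper1.frattini_eq_bot_of_elementary Nat.prime_two hcomm hexp
  intro R hR T hT hRT
  rw [Subgroup.commutator_eq_bot_iff_le_centralizer]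
  intro r hr t ht
  exact (Cfsg.Agent.Helper9.ti_family_commute hS Δ hinv hsq hord hti _ ⊤ rfl R hR T hT hRT
    le_top le_top r hr t ht).symm

end Cfsg.Agent.S1782
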