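import Cfsg.Statements.S1783
import Mathlib
import Cfsg.Agent.Helper9.TIFamilyRel
import Cfsg.Agent.Helper7.FStar
import Cfsg.Agent.Helper14.PCore
import Cfsg.Agent.Lead.FrattiniFaithful
import Cfsg.Agent.Helper1.PGroup

set_option autoImplicit false
open Cfsg

namespace Cfsg.Agent.S1783
open scoped Pointwise commutatorElement
open Cfsg.Agent.Helper9

/-- The subgroup generated by the squares of the elements of `D`. -/
def sqs {X : Type*} [Group X] (D : Subgroup X) : Subgroup X :=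
  Subgroup.closure ((fun a : X => a ^ 2) '' (D : Set X))

theorem sqs_le {X : Type*} [Group X] (D : Subgroup X) : sqs D ≤ D := by
  unfold sqs
  rw [Subgroup.closure_le]
  rintro _ ⟨a, ha, rfl⟩
  exact D.pow_mem ha 2

theorem cj_sqs {X : Type*} [Group X] (x : X) (D : Subgroup X) : cj x (sqs D) = sqs (cj x D) := by
  unfold sqs cj
  rw [MonoidHom.map_closure]
  congr 1
  ext g
  constructor
  · rintro ⟨_, ⟨a, ha, rfl⟩, rfl⟩
    exact ⟨(MulAut.conj x) a, ⟨a, ha, rfl⟩, by simp [map_pow]⟩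
  · rintro ⟨_, ⟨a, ha, rfl⟩, rfl⟩
    exact ⟨a ^ 2, ⟨a, ha, rfl⟩, by simp [map_pow]⟩

theorem cj_mul {X : Type*} [Group X] (x y : X) (D : Subgroup X) : cj (x * y) D = cj x (cj y D) := by
  unfold cj
  rw [Subgroup.map_map]
  congr 1
  ext g
  simp [mul_assoc]

theorem card_cj {X : Type*} [Group X] (x : X) (D : Subgroup X) : Nat.card (cj x D) = Nat.card D :=
  Subgroup.card_map_of_injective (MulAut.conj x).injective

theorem cj_inf {X : Type*} [Group X] (x : X) (D₁ D₂ : Subgroup X) :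
    cj x (D₁ ⊓ D₂) = cj x D₁ ⊓ cj x D₂ :=
  Subgroup.map_inf _ _ _ (MulAut.conj x).injective

theorem cj_one {X : Type*} [Group X] (D : Subgroup X) : cj 1 D = D := by
  unfold cj
  ext g
  simp

/-- Let X be a finite group whose generalized Fitting subgroup equals its largest normal 2-subgroup Q, and let A be an abelian 2-subgroup of X such that every conjugate of A equals A or meets A trivially. Let B be the subgroup generated by the squares of the elements of A. Then B lies in Q, and if B is not an elementary abelian 2-group then the normal closure of B in X is commutative. -/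
theorem result {X : Type*} [Group X] [Finite X]
    (hX : Cfsg.generalizedFittingSubgroup X = Cfsg.pCore 2 X) (A : Subgroup X) (hA2 : IsPGroup 2 ↥A) (hAa : IsMulCommutative ↥A)
    (hti : ∀ h : X, A.map (MulAut.conj h).toMonoidHom = A ∨ A.map (MulAut.conj h).toMonoidHom ⊓ A = ⊥) :
    Subgroup.closure ((fun a : X => a ^ 2) '' (A : Set X)) ≤ Cfsg.pCore 2 X ∧
      (¬ Cfsg.IsElementaryAbelian 2 (Subgroup.closure ((fun a : X => a ^ 2) '' (A : Set X))) →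
        IsMulCommutative ↥(Subgroup.normalClosure ((fun a : X => a ^ 2) '' (A : Set X)))) := by
  classical
  have : Fact (Nat.Prime 2) := ⟨Nat.prime_two⟩
  have hQn : (Cfsg.pCore 2 X).Normal := Cfsg.pCore_normal 2 X
  have hQ2 : IsPGroup 2 (Cfsg.pCore 2 X) := Cfsg.Agent.Helper14.pCore_isPGroup 2
  have hcent : Subgroup.centralizer ((Cfsg.pCore 2 X : Subgroup X) : Set X) ≤ Cfsg.pCore 2 X := by
    rw [← hX]
    exact Cfsg.Agent.Helper7.centralizer_generalizedFitting_le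
  have hmax : ∀ C : Subgroup X, C.Normal → IsPGroup 2 C → C ≤ Cfsg.pCore 2 X :=
    fun C hC hC2 => Cfsg.Agent.Helper14.le_pCore 2 hC hC2
  generalize Cfsg.pCore 2 X = Q at hQn hQ2 hcent hmax ⊢
  have hAcomm : ∀ x ∈ A, ∀ y ∈ A, x * y = y * x := fun x hx y hy =>
    congrArg Subtype.val (hAa.is_comm.comm ⟨x, hx⟩ ⟨y, hy⟩)
  -- TI property for all pairs of conjugates
  have hTI : ∀ x y : X, cj x A = cj y A ∨ cj x A ⊓ cj y A = ⊥ := by
    intro x y
    have hy : cj y A = cj x (cj (x⁻¹ * y) A) := by rw [← cj_mul, mul_inv_cancel_left]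
    rcases hti (x⁻¹ * y) with h | h
    · left
      rw [hy]
      change cj x A = cj x (cj (x⁻¹ * y) A)
      have h' : cj (x⁻¹ * y) A = A := h
      rw [h']
    · right
      have h' : cj (x⁻¹ * y) A ⊓ A = ⊥ := h
      rw [hy, ← cj_inf, inf_comm, h']
      exact Subgroup.map_bot _
  change sqs A ≤ Q ∧ (¬ Cfsg.IsElementaryAbelian 2 (sqs A) →
    IsMulCommutative ↥(Subgroup.normalClosure ((fun a : X => a ^ 2) '' (A : Set X))))
  -- part 1
  have part1 : sqs A ≤ Q := by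
    by_cases hex : ∃ a₀ ∈ A, a₀ ^ 2 ≠ 1
    swap
    · push Not at hex
      unfold sqs
      rw [Subgroup.closure_le]
      rintro _ ⟨a, ha, rfl⟩
      change a ^ 2 ∈ Q
      rw [hex a ha]
      exact Q.one_mem
    obtain ⟨a₀, ha₀A, ha₀⟩ := hex
    -- the family of conjugates of `A`
    have hΔinv : ∀ s : X, ∀ R ∈ {D : Subgroup X | ∃ x, D = cj x A}, cj s R ∈
        {D : Subgroup X | ∃ x, D = cj x A} := by
      rintro s _ ⟨x, rfl⟩
      exact ⟨s * x, (cj_mul s x A).symm⟩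
    have hΔsq : ∀ R ∈ {D : Subgroup X | ∃ x, D = cj x A}, ∃ a ∈ R, a ^ 2 ≠ 1 := by
      rintro _ ⟨x, rfl⟩
      refine ⟨x * a₀ * x⁻¹, conj_mem_cj x A ha₀A, ?_⟩
      rw [conj_pow]
      intro h
      apply ha₀
      have : a₀ ^ 2 = x⁻¹ * (x * a₀ ^ 2 * x⁻¹) * x := by group
      rw [this, h]; group
    have hΔord : ∀ R ∈ {D : Subgroup X | ∃ x, D = cj x A}, ∀ T ∈ {D : Subgroup X | ∃ x, D = cj x A},
        Nat.card R = Nat.card T := by
      rintro _ ⟨x, rfl⟩ _ ⟨y, rfl⟩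
      rw [card_cj, card_cj]
    have hΔti : ∀ R ∈ {D : Subgroup X | ∃ x, D = cj x A}, ∀ T ∈ {D : Subgroup X | ∃ x, D = cj x A},
        R = T ∨ R ⊓ T = ⊥ := by
      rintro _ ⟨x, rfl⟩ _ ⟨y, rfl⟩
      exact hTI x y
    have key := ti_family_commute_rel {D : Subgroup X | ∃ x, D = cj x A} hΔinv hΔsq hΔord hΔti
    have hH2 : IsPGroup 2 (A ⊔ Q : Subgroup X) := IsPGroup.to_sup_of_normal_right hA2 hQ2
    unfold sqs
    rw [Subgroup.closure_le]
    rintro _ ⟨a, haA, rfl⟩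
    change a ^ 2 ∈ Q
    rw [← Cfsg.Agent.Lead.mem_iff_trivial_on_frattini_quotient Q hQ2 hmax hcent (a ^ 2)]
    intro y hy
    -- `c = [a, y]` commutes with `a`
    have hc : a * (a * y * a⁻¹ * y⁻¹) = (a * y * a⁻¹ * y⁻¹) * a := by
      have h1 : a * (y * a⁻¹ * y⁻¹) = (y * a⁻¹ * y⁻¹) * a := by
        by_cases hcj : cj y A = A
        · have : y * a⁻¹ * y⁻¹ ∈ A := by
            have := conj_mem_cj y A (A.inv_mem haA)
            rwa [hcj] at this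
          exact hAcomm a haA _ this
        · have hle : cj y A ≤ A ⊔ Q := by
            rintro _ ⟨a', ha', rfl⟩
            change y * a' * y⁻¹ ∈ A ⊔ Q
            have hyH : y ∈ A ⊔ Q := (le_sup_right : Q ≤ A ⊔ Q) hy
            exact mul_mem (mul_mem hyH ((le_sup_left : A ≤ A ⊔ Q) ha')) (inv_mem hyH)
          exact key _ (A ⊔ Q) hH2 rfl A ⟨1, (cj_one A).symm⟩ (cj y A) ⟨y, rfl⟩ (Ne.symm hcj)
            le_sup_left hle a haA _ (conj_mem_cj y A (A.inv_mem haA))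
      calc a * (a * y * a⁻¹ * y⁻¹) = a * (a * (y * a⁻¹ * y⁻¹)) := by group
        _ = a * ((y * a⁻¹ * y⁻¹) * a) := by rw [h1]
        _ = (a * y * a⁻¹ * y⁻¹) * a := by group
    have hcQ : a * y * a⁻¹ * y⁻¹ ∈ Q := Q.mul_mem (hQn.conj_mem y hy a) (Q.inv_mem hy)
    have e : a ^ 2 * y * (a ^ 2)⁻¹ * y⁻¹ = (a * y * a⁻¹ * y⁻¹) * (a * y * a⁻¹ * y⁻¹) := by
      calc a ^ 2 * y * (a ^ 2)⁻¹ * y⁻¹ = (a * (a * y * a⁻¹ * y⁻¹)) * (y * a⁻¹ * y⁻¹) := by
            rw [sq]; group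
        _ = ((a * y * a⁻¹ * y⁻¹) * a) * (y * a⁻¹ * y⁻¹) := by rw [hc]
        _ = (a * y * a⁻¹ * y⁻¹) * (a * y * a⁻¹ * y⁻¹) := by group
    rw [e]
    refine ⟨(⟨a * y * a⁻¹ * y⁻¹, hcQ⟩ : Q) ^ 2, Cfsg.Agent.Helper1.IsPGroup.pow_mem_frattini hQ2 _, ?_⟩
    simp [sq]
  refine ⟨part1, ?_⟩
  intro hnotEA
  -- an element of `sqs A` with nontrivial square
  have hBcomm : ∀ x ∈ sqs A, ∀ y ∈ sqs A, x * y = y * x := fun x hx y hy =>
    hAcomm x (sqs_le A hx) y (sqs_le A hy)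
  obtain ⟨b₀, hb₀B, hb₀⟩ : ∃ b₀ ∈ sqs A, b₀ ^ 2 ≠ 1 := by
    by_contra hcon
    push Not at hcon
    exact hnotEA ⟨⟨⟨fun a b => Subtype.ext (hBcomm a a.2 b b.2)⟩⟩, hcon⟩
  have hΔinv : ∀ s : X, ∀ R ∈ {D : Subgroup X | ∃ x, D = sqs (cj x A)}, cj s R ∈
      {D : Subgroup X | ∃ x, D = sqs (cj x A)} := by
    rintro s _ ⟨x, rfl⟩
    exact ⟨s * x, by rw [cj_sqs, cj_mul]⟩
  have hΔsq : ∀ R ∈ {D : Subgroup X | ∃ x, D = sqs (cj x A)}, ∃ a ∈ R, a ^ 2 ≠ 1 := by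
    rintro _ ⟨x, rfl⟩
    refine ⟨x * b₀ * x⁻¹, ?_, ?_⟩
    · rw [← cj_sqs]
      exact conj_mem_cj x _ hb₀B
    · rw [conj_pow]
      intro h
      apply hb₀
      have : b₀ ^ 2 = x⁻¹ * (x * b₀ ^ 2 * x⁻¹) * x := by group
      rw [this, h]; group
  have hΔord : ∀ R ∈ {D : Subgroup X | ∃ x, D = sqs (cj x A)},
      ∀ T ∈ {D : Subgroup X | ∃ x, D = sqs (cj x A)}, Nat.card R = Nat.card T := by
    rintro _ ⟨x, rfl⟩ _ ⟨y, rfl⟩
    rw [← cj_sqs, ← cj_sqs, card_cj, card_cj]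
  have hΔti : ∀ R ∈ {D : Subgroup X | ∃ x, D = sqs (cj x A)},
      ∀ T ∈ {D : Subgroup X | ∃ x, D = sqs (cj x A)}, R = T ∨ R ⊓ T = ⊥ := by
    rintro _ ⟨x, rfl⟩ _ ⟨y, rfl⟩
    rcases hTI x y with h | h
    · left; rw [h]
    · right
      rw [eq_bot_iff, ← h]
      exact inf_le_inf (sqs_le _) (sqs_le _)
  have key := ti_family_commute_rel {D : Subgroup X | ∃ x, D = sqs (cj x A)} hΔinv hΔsq hΔord hΔti
    _ Q hQ2 rfl
  have hleQ : ∀ x : X, sqs (cj x A) ≤ Q := by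
    intro x
    rw [← cj_sqs]
    rintro _ ⟨b, hb, rfl⟩
    exact hQn.conj_mem b (part1 hb) x
  unfold Subgroup.normalClosure
  apply Subgroup.isMulCommutative_closure
  intro g hg g' hg'
  rw [Group.mem_conjugatesOfSet_iff] at hg hg'
  obtain ⟨_, ⟨a, haA, rfl⟩, hconj⟩ := hg
  obtain ⟨_, ⟨a', ha'A, rfl⟩, hconj'⟩ := hg'
  rw [isConj_iff] at hconj hconj'
  obtain ⟨c, rfl⟩ := hconj
  obtain ⟨c', rfl⟩ := hconj'
  have hmem : c * a ^ 2 * c⁻¹ ∈ sqs (cj c A) := by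
    rw [← cj_sqs]
    exact conj_mem_cj c _ (Subgroup.subset_closure ⟨a, haA, rfl⟩)
  have hmem' : c' * a' ^ 2 * c'⁻¹ ∈ sqs (cj c' A) := by
    rw [← cj_sqs]
    exact conj_mem_cj c' _ (Subgroup.subset_closure ⟨a', ha'A, rfl⟩)
  by_cases heq : sqs (cj c A) = sqs (cj c' A)
  · rw [← heq] at hmem'
    obtain ⟨u, hu, hu'⟩ := sqs_le _ hmem
    obtain ⟨v, hv, hv'⟩ := sqs_le _ hmem'
    rw [← hu', ← hv']
    change c * u * c⁻¹ * (c * v * c⁻¹) = c * v * c⁻¹ * (c * u * c⁻¹)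
    have := hAcomm u hu v hv
    calc c * u * c⁻¹ * (c * v * c⁻¹) = c * (u * v) * c⁻¹ := by group
      _ = c * (v * u) * c⁻¹ := by rw [this]
      _ = c * v * c⁻¹ * (c * u * c⁻¹) := by group
  · exact key _ ⟨c, rfl⟩ _ ⟨c', rfl⟩ heq (hleQ c) (hleQ c') _ hmem _ hmem'

end Cfsg.Agent.S1783
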