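import Cfsg.Statements.S1784
import Mathlib
import Cfsg.Agent.Helper9.ExtraspecialInvolution
import Cfsg.Agent.Helper7.FStar
import Cfsg.Agent.Helper1.PGroup

set_option autoImplicit false
open Cfsg

namespace Cfsg.Agent.S1784
open scoped Pointwise commutatorElement

/-- Let G be a finite group and let z be an involution of G such that Q, the generalized Fitting subgroup of the centralizer C of z, is a 2-group of symplectic type (every characteristic abelian subgroup of Q is cyclic); suppose Q is extraspecial, and view Q inside G. Let α be an involution of C that is not in Q, and let Q₀ be the subgroup of those q ∈ Q whose commutator with α lies in the subgroup generated by z. Then (a) the subgroup generated by the commutators α q α⁻¹ q⁻¹, q ∈ Q, equals the centre of Q₀; and (b) if Q₀ is not contained in the product of the centralizer of α in Q with the subgroup generated by z, then some element of Q conjugates α to α z. -/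
theorem result {G : Type*} [Group G] [Finite G] (z : G) (hz : orderOf z = 2) (hQ : Cfsg.IsOfSymplecticType ↥(Cfsg.generalizedFittingSubgroup ↥(Subgroup.centralizer ({z} : Set G)))) (hE : Cfsg.IsExtraspecial 2 ↥(Cfsg.generalizedFittingSubgroup ↥(Subgroup.centralizer ({z} : Set G))))
    (α : G) (hα : orderOf α = 2) (hαC : α ∈ Subgroup.centralizer ({z} : Set G)) (hαQ : α ∉ (Cfsg.generalizedFittingSubgroup ↥(Subgroup.centralizer ({z} : Set G))).map (Subgroup.centralizer ({z} : Set G)).subtype)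
    (Q₀ : Subgroup G) (hQ₀ : ∀ q : G, q ∈ Q₀ ↔ (q ∈ (Cfsg.generalizedFittingSubgroup ↥(Subgroup.centralizer ({z} : Set G))).map (Subgroup.centralizer ({z} : Set G)).subtype ∧ α * q * α⁻¹ * q⁻¹ ∈ Subgroup.zpowers z)) :
    Subgroup.closure ((fun q : G => α * q * α⁻¹ * q⁻¹) '' ((Cfsg.generalizedFittingSubgroup ↥(Subgroup.centralizer ({z} : Set G))).map (Subgroup.centralizer ({z} : Set G)).subtype : Set G)) = (Subgroup.center ↥Q₀).map Q₀.subtype ∧
      (¬ Q₀ ≤ ((Cfsg.generalizedFittingSubgroup ↥(Subgroup.centralizer ({z} : Set G))).map (Subgroup.centralizer ({z} : Set G)).subtype ⊓ Subgroup.centralizer ({α} : Set G)) ⊔ Subgroup.zpowers z →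
        ∃ q ∈ (Cfsg.generalizedFittingSubgroup ↥(Subgroup.centralizer ({z} : Set G))).map (Subgroup.centralizer ({z} : Set G)).subtype, q * α * q⁻¹ = α * z) := by
  classical
  have : Fact (Nat.Prime 2) := ⟨Nat.prime_two⟩
  obtain ⟨⟨hE2, hEfrat, hEcomm⟩, hEZ⟩ := id hE
  generalize hCdef : Subgroup.centralizer ({z} : Set G) = C at *
  have hzC : z ∈ C := by
    rw [← hCdef, Subgroup.mem_centralizer_iff]
    intro h hh
    rw [Set.mem_singleton_iff] at hh
    rw [hh]
  have hCz : ∀ c ∈ C, z * c = c * z := by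
    intro c hc
    rw [← hCdef, Subgroup.mem_centralizer_iff] at hc
    exact hc z rfl
  have hQ'n : (Cfsg.generalizedFittingSubgroup ↥C).Normal :=
    Cfsg.Agent.Helper7.generalizedFittingSubgroup_normal ↥C
  have hBender : Subgroup.centralizer ((Cfsg.generalizedFittingSubgroup ↥C : Subgroup ↥C) : Set ↥C) ≤
      Cfsg.generalizedFittingSubgroup ↥C := Cfsg.Agent.Helper7.centralizer_generalizedFitting_le
  have hcommE := Cfsg.Agent.Helper9.commutator_mem_center_of_isExtraspecial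
    (Cfsg.generalizedFittingSubgroup ↥C) hE
  have hcardZ' := Cfsg.Agent.Helper9.card_center_subtype (Cfsg.generalizedFittingSubgroup ↥C)
  have hcenter := Cfsg.Agent.Helper9.center_subtype_eq (Cfsg.generalizedFittingSubgroup ↥C)
  generalize Cfsg.generalizedFittingSubgroup ↥C = Q' at *
  rw [hEZ] at hcardZ'
  -- `z` lies in `Z(Q')`
  have hz'Z' : (⟨z, hzC⟩ : C) ∈ (Subgroup.centralizer (Q' : Set C) ⊓ Q' : Subgroup C) := by
    have h1 : (⟨z, hzC⟩ : C) ∈ Subgroup.centralizer (Q' : Set C) := by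
      intro q _
      apply Subtype.ext
      exact (hCz q.1 q.2).symm
    exact Subgroup.mem_inf.mpr ⟨h1, hBender h1⟩
  have hz1 : z ≠ 1 := by
    intro h
    rw [h, orderOf_one] at hz
    omega
  have hz2 : z * z = 1 := by
    have := pow_orderOf_eq_one z
    rwa [hz, sq] at this
  have hα2 : α * α = 1 := by
    have := pow_orderOf_eq_one α
    rwa [hα, sq] at this
  have hαz : α * z = z * α := (hCz α hαC).symm
  -- the centre in `G`
  have hZcard : Nat.card ((Subgroup.centralizer (Q' : Set C) ⊓ Q' : Subgroup C).map C.subtype) = 2 := by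
    rw [Subgroup.card_map_of_injective C.subtype_injective, ← hcardZ']
  have hzZ : z ∈ (Subgroup.centralizer (Q' : Set C) ⊓ Q' : Subgroup C).map C.subtype :=
    ⟨⟨z, hzC⟩, hz'Z', rfl⟩
  have hZeq : (Subgroup.centralizer (Q' : Set C) ⊓ Q' : Subgroup C).map C.subtype =
      Subgroup.zpowers z := by
    symm
    apply Subgroup.eq_of_le_of_card_ge
    · rw [Subgroup.zpowers_le]; exact hzZ
    · rw [hZcard, Nat.card_zpowers, hz]
  have hZQ : (Subgroup.centralizer (Q' : Set C) ⊓ Q' : Subgroup C).map C.subtype ≤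
      Q'.map C.subtype := Subgroup.map_mono inf_le_right
  have hZc : ∀ t ∈ (Subgroup.centralizer (Q' : Set C) ⊓ Q' : Subgroup C).map C.subtype,
      ∀ q ∈ Q'.map C.subtype, t * q = q * t := by
    rintro _ ⟨t, ht, rfl⟩ _ ⟨q, hq, rfl⟩
    have := (Subgroup.mem_inf.mp ht).1 q hq
    exact (congrArg Subtype.val this).symm
  have hZmax : ∀ x ∈ Q'.map C.subtype, (∀ q ∈ Q'.map C.subtype, q * x = x * q) →
      x ∈ (Subgroup.centralizer (Q' : Set C) ⊓ Q' : Subgroup C).map C.subtype := by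
    rintro _ ⟨x, hx, rfl⟩ hcom
    refine ⟨x, Subgroup.mem_inf.mpr ⟨?_, hx⟩, rfl⟩
    intro q hq
    apply Subtype.ext
    exact hcom q ⟨q, hq, rfl⟩
  have hcomm : ∀ a ∈ Q'.map C.subtype, ∀ b ∈ Q'.map C.subtype, a * b * a⁻¹ * b⁻¹ ∈
      (Subgroup.centralizer (Q' : Set C) ⊓ Q' : Subgroup C).map C.subtype := by
    rintro _ ⟨a, ha, rfl⟩ _ ⟨b, hb, rfl⟩
    refine ⟨⁅a, b⁆, hcommE a ha b hb, ?_⟩
    simp [commutatorElement_def]
  have hsq : ∀ a ∈ Q'.map C.subtype, a * a ∈
      (Subgroup.centralizer (Q' : Set C) ⊓ Q' : Subgroup C).map C.subtype := by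
    rintro _ ⟨a, ha, rfl⟩
    have h1 : (⟨a, ha⟩ : Q') ^ 2 ∈ frattini ↥Q' :=
      Cfsg.Agent.Helper1.IsPGroup.pow_mem_frattini hE2 _
    rw [hEfrat, hcenter, Subgroup.mem_subgroupOf] at h1
    refine ⟨a * a, Subgroup.mem_inf.mpr ⟨?_, Q'.mul_mem ha ha⟩, rfl⟩
    have : ((⟨a, ha⟩ : Q') ^ 2 : Q').1 = a * a := by simp [sq]
    rwa [this] at h1
  have hαQn : ∀ q ∈ Q'.map C.subtype, α * q * α⁻¹ ∈ Q'.map C.subtype := by
    rintro _ ⟨q, hq, rfl⟩
    exact ⟨⟨α, hαC⟩ * q * ⟨α, hαC⟩⁻¹, hQ'n.conj_mem q hq ⟨α, hαC⟩, rfl⟩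
  have hαnc : ∃ q ∈ Q'.map C.subtype, α * q ≠ q * α := by
    by_contra hcon
    push Not at hcon
    apply hαQ
    have h1 : (⟨α, hαC⟩ : C) ∈ Subgroup.centralizer (Q' : Set C) := by
      intro q hq
      apply Subtype.ext
      exact (hcon q ⟨q, hq, rfl⟩).symm
    exact ⟨⟨α, hαC⟩, hBender h1, rfl⟩
  have hQ₀' : ∀ q : G, q ∈ Q₀ ↔ (q ∈ Q'.map C.subtype ∧ α * q * α⁻¹ * q⁻¹ ∈
      (Subgroup.centralizer (Q' : Set C) ⊓ Q' : Subgroup C).map C.subtype) := by
    intro q
    rw [hZeq]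
    exact hQ₀ q
  have core := Cfsg.Agent.Helper9.closure_commutators_eq_center (Q'.map C.subtype)
    ((Subgroup.centralizer (Q' : Set C) ⊓ Q' : Subgroup C).map C.subtype) z α hZcard hzZ hz1 hZQ
    hZc hZmax hcomm hsq hα2 hαz hαQn hαnc Q₀ hQ₀'
  constructor
  · rw [core, Cfsg.Agent.Helper9.center_subtype_eq Q₀, Subgroup.subgroupOf_map_subtype, inf_comm]
  · intro hnot
    obtain ⟨q, hqQ₀, hqn⟩ := SetLike.not_le_iff_exists.mp hnot
    obtain ⟨hqQ, hcq⟩ := (hQ₀ q).mp hqQ₀
    refine ⟨q, hqQ, ?_⟩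
    have hcases : α * q * α⁻¹ * q⁻¹ = 1 ∨ α * q * α⁻¹ * q⁻¹ = z := by
      rw [← hZeq] at hcq
      by_cases h : α * q * α⁻¹ * q⁻¹ = 1
      · exact Or.inl h
      · exact Or.inr (Cfsg.Agent.Helper9.eq_of_card_eq_two hZcard hcq hzZ h hz1)
    rcases hcases with h | h
    · exfalso
      apply hqn
      apply (le_sup_left : _ ≤ (Q'.map C.subtype ⊓ Subgroup.centralizer ({α} : Set G)) ⊔
        Subgroup.zpowers z)
      refine Subgroup.mem_inf.mpr ⟨hqQ, ?_⟩
      rw [Subgroup.mem_centralizer_iff]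
      intro y hy
      rw [Set.mem_singleton_iff] at hy
      subst hy
      have : y * q = (y * q * y⁻¹ * q⁻¹) * (q * y) := by group
      rw [this, h, one_mul]
    · have hzinv : z⁻¹ = z := by rw [inv_eq_iff_mul_eq_one]; exact hz2
      have h1 : q * α * q⁻¹ * α⁻¹ = z := by
        have : q * α * q⁻¹ * α⁻¹ = (α * q * α⁻¹ * q⁻¹)⁻¹ := by group
        rw [this, h, hzinv]
      have : q * α * q⁻¹ = (q * α * q⁻¹ * α⁻¹) * α := by group
      rw [this, h1, hαz]

end Cfsg.Agent.S1784
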