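import Cfsg.Statements.S1785
import Mathlib
import Cfsg.Agent.Helper9.ElemAbChain

set_option autoImplicit false
open Cfsg

namespace Cfsg.Agent.S1785
open scoped Pointwise commutatorElement
open Cfsg.Agent.Helper9

theorem step {X : Type*} [Group X] [Finite X] (E : Subgroup X) [E.Normal] (hE : EA2 E)
    (hE32 : 32 ≤ Nat.card E) (A : Subgroup X) (hA : EA2 A) (hA8 : Nat.card A = 8)
    (hAE : ¬ A ≤ E) :
    ∃ A' : Subgroup X, EA2 A' ∧ Nat.card A' = 8 ∧ (∀ a ∈ A, ∀ b ∈ A', a * b = b * a) ∧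
      Nat.card (A ⊓ E : Subgroup X) < Nat.card (A' ⊓ E : Subgroup X) := by
  have : Fact (Nat.Prime 2) := ⟨Nat.prime_two⟩
  have hrd := Cfsg.Agent.Helper17.relIndex_mul_card_inf (A ⊓ E) A
  have hinf : (A ⊓ E ⊓ A : Subgroup X) = A ⊓ E := by rw [inf_comm, ← inf_assoc, inf_idem]
  rw [hinf, hA8] at hrd
  have hbound := card_le_card_centralizer_pow E hE A hA
  have hd8 : Nat.card (A ⊓ E : Subgroup X) ≠ 8 := by
    intro h
    apply hAE
    have : A ⊓ E = A := Subgroup.eq_of_le_of_card_ge inf_le_left (by rw [h, hA8])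
    rw [← this]; exact inf_le_right
  have hd : Nat.card (A ⊓ E : Subgroup X) ∣ 8 := Dvd.intro_left _ hrd
  have hdle : Nat.card (A ⊓ E : Subgroup X) ≤ 8 := Nat.le_of_dvd (by norm_num) hd
  have hW : ¬ (E ⊓ Subgroup.centralizer (A : Set X) ≤ A) := by
    intro hWA
    have hWd : Nat.card (E ⊓ Subgroup.centralizer (A : Set X) : Subgroup X) ≤
        Nat.card (A ⊓ E : Subgroup X) :=
      Subgroup.card_le_of_le (le_inf hWA inf_le_left)
    have h32 : 32 ≤ Nat.card (A ⊓ E : Subgroup X) ^ ((A ⊓ E).relIndex A) :=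
      hE32.trans (hbound.trans (Nat.pow_le_pow_left hWd _))
    generalize (A ⊓ E).relIndex A = r at hrd h32
    generalize Nat.card (A ⊓ E : Subgroup X) = d at hrd h32 hd8 hdle
    interval_cases d
    · omega
    · simp at h32
    · have : r = 4 := by omega
      subst this; norm_num at h32
    · omega
    · have : r = 2 := by omega
      subst this; norm_num at h32
    · omega
    · omega
    · omega
    · exact hd8 rfl
  obtain ⟨w, hwW, hwA⟩ := SetLike.not_le_iff_exists.mp hW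
  obtain ⟨hwE, hwC⟩ := Subgroup.mem_inf.mp hwW
  have hw2 : w ^ 2 = 1 := hE.2 w hwE
  have hwc : ∀ a ∈ A, a * w = w * a := fun a ha => hwC a ha
  have hÂ : EA2 (A ⊔ Subgroup.zpowers w) := hA.sup (EA2_zpowers hw2) (by
    rintro a ha _ ⟨i, rfl⟩
    exact (Commute.zpow_right (hwc a ha) i).eq)
  have hÂcard : Nat.card (A ⊔ Subgroup.zpowers w : Subgroup X) = 16 := by
    rw [card_sup_zpowers A hwA hw2 hwc, hA8]
  have hwAE : w ∉ A ⊓ E := fun h => hwA (Subgroup.mem_inf.mp h).1
  have hBcard := card_sup_zpowers (A ⊓ E) hwAE hw2 (fun a ha => hwc a (Subgroup.mem_inf.mp ha).1)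
  have hBle : (A ⊓ E) ⊔ Subgroup.zpowers w ≤ A ⊔ Subgroup.zpowers w :=
    sup_le_sup_right inf_le_left _
  have hBE : (A ⊓ E) ⊔ Subgroup.zpowers w ≤ E :=
    sup_le inf_le_right (by rw [Subgroup.zpowers_le]; exact hwE)
  obtain ⟨n, hn3, hn⟩ : ∃ n, n ≤ 3 ∧
      Nat.card ((A ⊓ E) ⊔ Subgroup.zpowers w : Subgroup X) = 2 ^ n := by
    rw [hBcard]
    generalize Nat.card (A ⊓ E : Subgroup X) = d at hd hd8 hdle
    interval_cases d
    · simp at hd
    · exact ⟨1, by norm_num, by norm_num⟩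
    · exact ⟨2, by norm_num, by norm_num⟩
    · norm_num at hd
    · exact ⟨3, by norm_num, by norm_num⟩
    · norm_num at hd
    · norm_num at hd
    · norm_num at hd
    · exact absurd rfl hd8
  obtain ⟨A', hBA', hA'Â, hA'card⟩ := exists_between_card (p := 2) _ _ hBle hn hn3
    (by rw [hÂcard]; norm_num)
  refine ⟨A', hÂ.mono hA'Â, by rw [hA'card]; norm_num, ?_, ?_⟩
  · intro a ha b hb
    exact hÂ.1 a ((le_sup_left : A ≤ A ⊔ Subgroup.zpowers w) ha) b (hA'Â hb)
  · have hpos : 0 < Nat.card (A ⊓ E : Subgroup X) := Nat.card_pos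
    calc Nat.card (A ⊓ E : Subgroup X) < Nat.card (A ⊓ E : Subgroup X) * 2 := by omega
      _ = Nat.card ((A ⊓ E) ⊔ Subgroup.zpowers w : Subgroup X) := hBcard.symm
      _ ≤ Nat.card (A' ⊓ E : Subgroup X) := Subgroup.card_le_of_le (le_inf hBA' hBE)

/-- The adjacency relation of the statement. -/
abbrev Adj (X : Type*) [Group X] : Subgroup X → Subgroup X → Prop :=
  fun C D : Subgroup X => Cfsg.IsElementaryAbelian 2 C ∧ Nat.card ↥C = 8 ∧
    Cfsg.IsElementaryAbelian 2 D ∧ Nat.card ↥D = 8 ∧ ⁅C, D⁆ = ⊥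

theorem adj_of {X : Type*} [Group X] {C D : Subgroup X} (hC : EA2 C) (hC8 : Nat.card C = 8)
    (hD : EA2 D) (hD8 : Nat.card D = 8) (h : ∀ c ∈ C, ∀ d ∈ D, c * d = d * c) : Adj X C D := by
  refine ⟨(isElementaryAbelian_iff_EA2 C).mpr hC, hC8, (isElementaryAbelian_iff_EA2 D).mpr hD,
    hD8, ?_⟩
  rw [Subgroup.commutator_eq_bot_iff_le_centralizer]
  intro c hc d hd
  exact (h c hc d hd).symm

theorem reach {X : Type*} [Group X] [Finite X] (E : Subgroup X) [E.Normal] (hE : EA2 E)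
    (hE32 : 32 ≤ Nat.card E) :
    ∀ (k : ℕ) (A : Subgroup X), EA2 A → Nat.card A = 8 → 8 - Nat.card (A ⊓ E : Subgroup X) = k →
      ∃ A' : Subgroup X, EA2 A' ∧ Nat.card A' = 8 ∧ A' ≤ E ∧
        Relation.ReflTransGen (Adj X) A A' := by
  intro k
  induction k using Nat.strong_induction_on with
  | _ k ih =>
  intro A hA hA8 hk
  by_cases hAE : A ≤ E
  · exact ⟨A, hA, hA8, hAE, Relation.ReflTransGen.refl⟩
  · obtain ⟨A₂, hA₂, hA₂8, hcomm, hlt⟩ := step E hE hE32 A hA hA8 hAE
    have hle : Nat.card (A₂ ⊓ E : Subgroup X) ≤ 8 := by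
      rw [← hA₂8]; exact Subgroup.card_le_of_le inf_le_left
    obtain ⟨A', hA', hA'8, hA'E, hchain⟩ := ih (8 - Nat.card (A₂ ⊓ E : Subgroup X)) (by omega)
      A₂ hA₂ hA₂8 rfl
    exact ⟨A', hA', hA'8, hA'E,
      Relation.ReflTransGen.head (adj_of hA hA8 hA₂ hA₂8 hcomm) hchain⟩

/-- Let X be a finite 2-group having a normal elementary abelian subgroup of order at least 32. Then (a) for any two elementary abelian subgroups A, B of X of order 8 there is a chain A = A₁, A₂, …, Aₙ = B of elementary abelian subgroups of order 8 in which consecutive members commute elementwise; and (b) every elementary abelian subgroup of X of order 4 is contained in an elementary abelian subgroup of order 8. -/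
theorem result {X : Type*} [Group X] [Finite X]
    (hX : IsPGroup 2 X) (E : Subgroup X) [E.Normal] (hE : Cfsg.IsElementaryAbelian 2 E) (hE32 : 32 ≤ Nat.card ↥E) :
    (∀ A B : Subgroup X, Cfsg.IsElementaryAbelian 2 A → Nat.card ↥A = 8 → Cfsg.IsElementaryAbelian 2 B → Nat.card ↥B = 8 →
        Relation.ReflTransGen
          (fun C D : Subgroup X => Cfsg.IsElementaryAbelian 2 C ∧ Nat.card ↥C = 8 ∧ Cfsg.IsElementaryAbelian 2 D ∧ Nat.card ↥D = 8 ∧ ⁅C, D⁆ = ⊥)
          A B) ∧
      (∀ V : Subgroup X, Cfsg.IsElementaryAbelian 2 V → Nat.card ↥V = 4 →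
        ∃ A : Subgroup X, V ≤ A ∧ Cfsg.IsElementaryAbelian 2 A ∧ Nat.card ↥A = 8) := by
  classical
  have hE' : EA2 E := (isElementaryAbelian_iff_EA2 E).mp hE
  constructor
  · intro A B hA hA8 hB hB8
    obtain ⟨A', hA', hA'8, hA'E, hchainA⟩ := reach E hE' hE32 _ A
      ((isElementaryAbelian_iff_EA2 A).mp hA) hA8 rfl
    obtain ⟨B', hB', hB'8, hB'E, hchainB⟩ := reach E hE' hE32 _ B
      ((isElementaryAbelian_iff_EA2 B).mp hB) hB8 rfl
    have hsymm : ∀ C D : Subgroup X, Adj X C D → Adj X D C := by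
      rintro C D ⟨h1, h2, h3, h4, h5⟩
      refine ⟨h3, h4, h1, h2, ?_⟩
      rw [Subgroup.commutator_comm]; exact h5
    have hmid : Adj X A' B' := adj_of hA' hA'8 hB' hB'8
      (fun c hc d hd => hE'.1 c (hA'E hc) d (hB'E hd))
    have hrev : Relation.ReflTransGen (Adj X) B' B := by
      clear hmid hB' hB'8 hB'E
      induction hchainB with
      | refl => exact Relation.ReflTransGen.refl
      | tail _ hcd ih => exact Relation.ReflTransGen.head (hsymm _ _ hcd) ih
    exact (hchainA.tail hmid).trans hrev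
  · intro V hV hV4
    have hV' : EA2 V := (isElementaryAbelian_iff_EA2 V).mp hV
    have hrd := Cfsg.Agent.Helper17.relIndex_mul_card_inf (V ⊓ E) V
    have hinf : (V ⊓ E ⊓ V : Subgroup X) = V ⊓ E := by rw [inf_comm, ← inf_assoc, inf_idem]
    rw [hinf, hV4] at hrd
    have hbound := card_le_card_centralizer_pow E hE' V hV'
    have hd : Nat.card (V ⊓ E : Subgroup X) ∣ 4 := Dvd.intro_left _ hrd
    have hdle : Nat.card (V ⊓ E : Subgroup X) ≤ 4 := Nat.le_of_dvd (by norm_num) hd
    have hW : ¬ (E ⊓ Subgroup.centralizer (V : Set X) ≤ V) := by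
      intro hWV
      have hWd : Nat.card (E ⊓ Subgroup.centralizer (V : Set X) : Subgroup X) ≤
          Nat.card (V ⊓ E : Subgroup X) :=
        Subgroup.card_le_of_le (le_inf hWV inf_le_left)
      have h32 : 32 ≤ Nat.card (V ⊓ E : Subgroup X) ^ ((V ⊓ E).relIndex V) :=
        hE32.trans (hbound.trans (Nat.pow_le_pow_left hWd _))
      generalize (V ⊓ E).relIndex V = r at hrd h32
      generalize Nat.card (V ⊓ E : Subgroup X) = d at hrd h32 hdle
      interval_cases d
      · omega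
      · simp at h32
      · have : r = 2 := by omega
        subst this; norm_num at h32
      · omega
      · have : r = 1 := by omega
        subst this; norm_num at h32
    obtain ⟨w, hwW, hwV⟩ := SetLike.not_le_iff_exists.mp hW
    obtain ⟨hwE, hwC⟩ := Subgroup.mem_inf.mp hwW
    have hw2 : w ^ 2 = 1 := hE'.2 w hwE
    have hwc : ∀ a ∈ V, a * w = w * a := fun a ha => hwC a ha
    refine ⟨V ⊔ Subgroup.zpowers w, le_sup_left, ?_, ?_⟩
    · rw [isElementaryAbelian_iff_EA2]
      exact hV'.sup (EA2_zpowers hw2) (by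
        rintro a ha _ ⟨i, rfl⟩
        exact (Commute.zpow_right (hwc a ha) i).eq)
    · rw [card_sup_zpowers V hwV hw2 hwc, hV4]

end Cfsg.Agent.S1785
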