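import Cfsg.Statements.S1786
import Cfsg.Agent.Helper10.S1786SETUP
import Cfsg.Agent.Helper12.S1786PARTA
import Cfsg.Agent.Helper12.S1786CARDPD
import Cfsg.Agent.Helper11.S1786SL2core
import Cfsg.Agent.Helper18.S1786ZQcore
import Cfsg.Agent.Helper10.S1786PARTCcore

set_option autoImplicit false
open Cfsg

namespace Cfsg.Agent.S1786

open Cfsg.Agent.S1786P

/-- Let G be a finite group, V an elementary abelian 2-subgroup of G and M the normalizer of V; write Q for the largest normal 2-subgroup of M. Suppose (1) the generalized Fitting subgroup of M equals Q; (2) V is a maximal abelian normal subgroup of M; (3) every conjugate of V equals V or meets V trivially, and for some g ∈ G the conjugate V' = g V g⁻¹ is different from V and contained in Q. Let P be the centralizer of V in Q, W the subgroup generated by V and V', and H the subgroup generated by P and g P g⁻¹. Then: (a) V is contained in g Q g⁻¹; (b) every non-identity element of W lies in exactly one conjugate of V contained in W, H normalizes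 W, and H modulo the centralizer of W in H is isomorphic to the special linear group of dimension 2 over the field with |V| elements; (c) P = Q, and V equals the Frattini subgroup, the centre and the commutator subgroup of Q. -/
theorem result {G : Type*} [Group G] [Finite G] (V : Subgroup G)
    (hV : Cfsg.IsElementaryAbelian 2 V)
    (h1 : (Cfsg.generalizedFittingSubgroup ↥(Subgroup.normalizer (V : Set G))).map (Subgroup.normalizer (V : Set G)).subtype =
      (Cfsg.pCore 2 ↥(Subgroup.normalizer (V : Set G))).map (Subgroup.normalizer (V : Set G)).subtype)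
    (h2 : ∀ A : Subgroup G, V ≤ A → A ≤ Subgroup.normalizer (V : Set G) → IsMulCommutative ↥A →
      (∀ m ∈ Subgroup.normalizer (V : Set G), ∀ a ∈ A, m * a * m⁻¹ ∈ A) → A = V)
    (hti : ∀ x : G, V.map (MulAut.conj x).toMonoidHom = V ∨ V.map (MulAut.conj x).toMonoidHom ⊓ V = ⊥)
    (g : G) (hg : V.map (MulAut.conj g).toMonoidHom ≠ V)
    (hgQ : V.map (MulAut.conj g).toMonoidHom ≤ (Cfsg.pCore 2 ↥(Subgroup.normalizer (V : Set G))).map (Subgroup.normalizer (V : Set G)).subtype) :
    let Q : Subgroup G := (Cfsg.pCore 2 ↥(Subgroup.normalizer (V : Set G))).map (Subgroup.normalizer (V : Set G)).subtype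
    let P : Subgroup G := Q ⊓ Subgroup.centralizer (V : Set G)
    let W : Subgroup G := V ⊔ V.map (MulAut.conj g).toMonoidHom
    let H : Subgroup G := P ⊔ P.map (MulAut.conj g).toMonoidHom
    V ≤ Q.map (MulAut.conj g).toMonoidHom ∧
      (∀ w ∈ W, w ≠ 1 → ∃! U : Subgroup G, (∃ x : G, U = V.map (MulAut.conj x).toMonoidHom) ∧ U ≤ W ∧ w ∈ U) ∧
      H ≤ Subgroup.normalizer (W : Set G) ∧
      (∀ hN : ((Subgroup.centralizer (W : Set G)).subgroupOf H).Normal, ∃ (F : Type) (_ : Field F) (_ : Fintype F), Fintype.card F = Nat.card ↥V ∧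
        Nonempty (↥H ⧸ (Subgroup.centralizer (W : Set G)).subgroupOf H ≃* Matrix.SpecialLinearGroup (Fin 2) F)) ∧
      P = Q ∧ (frattini ↥Q).map Q.subtype = V ∧ (Subgroup.center ↥Q).map Q.subtype = V ∧ (commutator ↥Q).map Q.subtype = V := by
  intro Q P W H
  have S : Setup V Q := SETUP V hV h1 h2 hti
  have hB : Lam V Q (cj g V) := ⟨⟨g, rfl⟩, hgQ, hg⟩
  have hA : V ≤ cj g Q := PARTA S g hB
  have hM : Lam V Q (cj g⁻¹ V) := MIRROR_core S g hB hA
  -- the pair (g⁻¹, B₋) is again in the situation of the theorem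
  have hB' : Lam V Q (cj g⁻¹⁻¹ V) := by rw [inv_inv]; exact hB
  have hZQ1' : ∀ b ∈ cj g⁻¹ (ZQ Q), ∀ x ∈ PP V Q, x * b * x⁻¹ * b⁻¹ ∈ ZQ Q :=
    ZQ1_core S g⁻¹ (ZP S) (LAM1 S hM).1 (LAM2 S hM) (by rw [inv_inv]; exact SURJP S hB)
  have hZQV : ZQ Q = V := ZQV_core S g hg (ZP S) (SURJP S hM) hZQ1'
  exact ⟨hA, PARTuniq S hB, HNORM S g hB,
    SL2_core S g hB hM (HNORM S g hB) (LAM2 S hB) (LAM2 S hM) (CARDPD S hB) (CARDPD S hM),
    PARTC_core S g hB hZQV (PHI S) (SURJP S hB)⟩

end Cfsg.Agent.S1786
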