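import Cfsg.Statements.S1850
import Mathlib
import Cfsg.Agent.Helper9.CharPChain

set_option autoImplicit false
open Cfsg

namespace Cfsg.Agent.S1850

/-- Let G be a non-abelian finite simple QTKE-group and T a Sylow 2-subgroup of G. If U is a nontrivial 2-subgroup of G with U ∩ Z(T) ≠ 1, then F*(N_G(U)) = O₂(N_G(U)). -/
theorem result {G : Type*} [Group G] [Finite G] [IsSimpleGroup G]
    (hG : ¬ IsMulCommutative G) (hQ : Cfsg.IsQTKE G) (T : Sylow 2 G) (U : Subgroup G)
    (hU : IsPGroup 2 ↥U) (hZ : U ⊓ ((T : Subgroup G) ⊓ Subgroup.centralizer ((T : Subgroup G) : Set G)) ≠ ⊥) :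
    Subgroup.normalizer (U : Set G) ∈ Cfsg.calHe G := by
  have hne := hZ
  rw [Ne, Subgroup.eq_bot_iff_forall] at hne
  push Not at hne
  obtain ⟨z, ⟨hzU, hzT, hzC⟩, hz1⟩ := hne
  have hZ₀T : Subgroup.zpowers z ≤ (T : Subgroup G) := (Subgroup.zpowers_le).mpr hzT
  have hZ₀p : IsPGroup 2 ↥(Subgroup.zpowers z) := T.2.to_le hZ₀T
  have hZ₀ne : Subgroup.zpowers z ≠ ⊥ := by
    rw [Ne, Subgroup.zpowers_eq_bot]
    exact hz1
  have hTM : (T : Subgroup G) ≤ Subgroup.normalizer ((Subgroup.zpowers z : Subgroup G) : Set G) := by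
    intro t ht
    have hc : Commute t z := Subgroup.mem_centralizer_iff.mp hzC t ht
    have : t ∈ Subgroup.centralizer ((Subgroup.zpowers z : Subgroup G) : Set G) := by
      rw [Subgroup.mem_centralizer_iff]
      intro g hg
      obtain ⟨k, rfl⟩ := Subgroup.mem_zpowers_iff.mp hg
      exact (hc.zpow_right k).eq.symm
    exact Subgroup.centralizer_le_normalizer _ this
  have hMchar : Cfsg.IsOfCharacteristicTwo
      ↥(Subgroup.normalizer ((Subgroup.zpowers z : Subgroup G) : Set G)) :=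
    hQ.2.2 _ ⟨Subgroup.zpowers z, hZ₀p, hZ₀ne, rfl⟩ ⟨T, hTM⟩
  have hMF := Cfsg.Agent.Helper10.fstar_eq_pCore_of_centralizer_le (p := 2) hMchar
  exact Cfsg.Agent.Helper9.charP_normalizer_of_normalizer hU
    ((Subgroup.zpowers_le).mpr hzU) hMF

end Cfsg.Agent.S1850
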