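import Cfsg.Statements.S1851
import Mathlib
import Cfsg.Agent.Helper9.S1851.Defs
import Cfsg.Agent.Helper19.S1851ODDGEN
import Cfsg.Agent.Helper23.S1851PERF
import Cfsg.Agent.Helper23.S1851MONO
import Cfsg.Agent.Helper26.S1851EVENCH
import Cfsg.Agent.Helper26.S1851HE
import Cfsg.Agent.Helper9.S1851MODV

set_option autoImplicit false
open Cfsg

namespace Cfsg.Agent.S1851

open Cfsg.Agent.S1851P Subgroup

theorem key {G : Type*} [Group G] [Finite G] (hE : IsOfEvenCharacteristic G) (T : Sylow 2 G)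
    (L K : Subgroup G) (hL : L ∈ Cfsg.calLf (T : Subgroup G)) (hK : K ∈ Cfsg.calL (T : Subgroup G))
    (hLK : L ≤ K) : K ∈ Cfsg.calLf (T : Subgroup G) := by
  obtain ⟨⟨hLC, hLS, hLO⟩, ⟨hLX, hLV⟩⟩ := hL
  obtain ⟨hKC, hKS, hKO⟩ := hK
  have hKH : K ≤ K ⊔ (T : Subgroup G) := le_sup_left
  have hLH : L ≤ L ⊔ (T : Subgroup G) := le_sup_left
  obtain ⟨hK0, hKp, hKsn⟩ := PERF.of_mem_calC _ K hKH hKC
  obtain ⟨hL0, hLp, hLsn⟩ := PERF.of_mem_calC _ L hLH hLC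
  have hcK : IsOfCharacteristicTwo ↥(K ⊔ (T : Subgroup G)) :=
    EVENCH.charTwo_of_sylow_le hE T _ le_sup_right hKO
  refine ⟨⟨hKC, hKS, hKO⟩, ⟨hK0, ODDGEN.oddGenerated_eq_of_perfect K hKp,
    HE.mem_calHe_of_subnormal _ K hKH hcK hKsn⟩, ?_⟩
  intro hV
  apply hLV
  rw [moduleV_eq, commutator_comm, commutator_eq_bot_iff_le_centralizer] at hV ⊢
  have h1 : K ≤ centralizer (ZO (K ⊔ (T : Subgroup G)) : Set G) :=
    (MODV.modV_iff _ K hKH hKsn hKp).2 hV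
  have h2 : ZO (L ⊔ (T : Subgroup G)) ≤ ZO (K ⊔ (T : Subgroup G)) :=
    MONO.ZO_mono _ _ (T : Subgroup G) (sup_le_sup_right hLK _) le_sup_right hKS hcK
  have h3 : L ≤ centralizer (ZO (L ⊔ (T : Subgroup G)) : Set G) :=
    (hLK.trans h1).trans (centralizer_le h2)
  exact (MODV.modV_iff _ L hLH hLsn hLp).1 h3

theorem result {G : Type*} [Group G] [Finite G] [IsSimpleGroup G]
    (hG : ¬ IsMulCommutative G) (hQ : Cfsg.IsQTKE G) (T : Sylow 2 G) (L : Subgroup G)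
    (hL : L ∈ Cfsg.calLf (T : Subgroup G)) :
    (∀ K ∈ Cfsg.calL (T : Subgroup G), L ≤ K → K ∈ Cfsg.calLf (T : Subgroup G)) ∧
    ((∀ K ∈ Cfsg.calLf (T : Subgroup G), L ≤ K → K = L) → L ∈ Cfsg.calLfMax (T : Subgroup G)) := by
  have h1 : ∀ K ∈ Cfsg.calL (T : Subgroup G), L ≤ K → K ∈ Cfsg.calLf (T : Subgroup G) :=
    fun K hK hLK => key hQ.2.2 T L K hL hK hLK
  refine ⟨h1, fun hmax => ⟨⟨hL.1, fun K hK hLK => hmax K (h1 K hK hLK) hLK⟩, hL.2⟩⟩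

end Cfsg.Agent.S1851
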