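import Mathlib
import Cfsg.Statements.S3743
import Cfsg.Agent.Helper19.Cores
import Cfsg.Agent.Helper19.Subnormal

set_option autoImplicit false
open Cfsg

namespace Cfsg.Agent.S3743

open Cfsg.Agent.Helper19

universe u

/-- A subnormal `π`-subgroup lies in `O_π(G)`. -/
theorem subnormal_le_piCore : ∀ (n : ℕ) (G : Type u) [Group G] [Finite G], Nat.card G = n →
    ∀ (π : Set ℕ) (A : Subgroup G), A.IsSubnormal → IsPiNum π (Nat.card A) →
      A ≤ Cfsg.piCore π G := by
  intro n
  induction n using Nat.strong_induction_on with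
  | _ n ih =>
  intro G _ _ hn π A hA hπ
  by_cases hAtop : A = ⊤
  · subst hAtop
    exact le_piCore (Subgroup.normal_of_characteristic ⊤) hπ
  obtain ⟨K, hKn, hAK, hKlt⟩ := hA.exists_normal_and_le_and_lt_top_of_ne hAtop
  have hcard : Nat.card K < n := by
    rw [← hn, ← Subgroup.card_top (G := G)]
    exact card_lt_card_of_lt hKlt
  have hπ' : IsPiNum π (Nat.card (A.subgroupOf K)) := by
    rw [Nat.card_congr (Subgroup.subgroupOfEquivOfLe hAK).toEquiv]; exact hπ
  have key := ih _ hcard K rfl π (A.subgroupOf K) hA.subgroupOf hπ'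
  have := piCore_characteristic (G := K) π
  have hCn : ((Cfsg.piCore π K).map K.subtype).Normal := inferInstance
  have hCπ : IsPiNum π (Nat.card ((Cfsg.piCore π K).map K.subtype)) := by
    rw [← Nat.card_congr ((Cfsg.piCore π K).equivMapOfInjective K.subtype
      K.subtype_injective).toEquiv]
    exact piCore_isPiNum π
  refine le_trans ?_ (le_piCore hCn hCπ)
  intro x hx
  exact ⟨⟨x, hAK hx⟩, key (Subgroup.mem_subgroupOf.mpr hx), rfl⟩

/-- A finite group is generated by its Sylow subgroups. -/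
lemma iSup_sylow_eq_top (A : Type u) [Group A] [Finite A] :
    (⨆ (p : Nat.Primes), ⨆ (P : Sylow p A), (P : Subgroup A)) = ⊤ := by
  set J : Subgroup A := ⨆ (p : Nat.Primes), ⨆ (P : Sylow p A), (P : Subgroup A) with hJ
  rw [← Subgroup.index_eq_one, Nat.eq_one_iff_not_exists_prime_dvd]
  intro p hp hdvd
  have : Fact p.Prime := ⟨hp⟩
  obtain ⟨P⟩ : Nonempty (Sylow p A) := inferInstance
  have hle : (P : Subgroup A) ≤ J :=
    le_iSup_of_le (⟨p, hp⟩ : Nat.Primes) (le_iSup (fun P : Sylow p A => (P : Subgroup A)) P)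
  exact P.not_dvd_index (hdvd.trans (Subgroup.index_dvd_of_le hle))

theorem result {G : Type*} [Group G] [Finite G] (A : Subgroup G) (hA : A.IsSubnormal) : (Group.IsNilpotent A → A ≤ Cfsg.fittingSubgroup G) ∧ ∀ π : Set ℕ, (∀ p : ℕ, p.Prime → p ∣ Nat.card A → p ∈ π) → A ≤ Cfsg.piCore π G := by
  refine ⟨?_, fun π hπ => subnormal_le_piCore _ G rfl π A hA hπ⟩
  intro hnil
  -- each Sylow subgroup of `A` lies in the Fitting subgroup
  have key : ∀ (p : Nat.Primes) (P : Sylow p A),
      (P : Subgroup A).map A.subtype ≤ Cfsg.fittingSubgroup G := by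
    intro p P
    have : Fact (p : ℕ).Prime := ⟨p.2⟩
    have hPn : (P : Subgroup A).Normal := by
      have := ((Group.isNilpotent_of_finite_tfae (G := A)).out 0 3).mp hnil
      exact this (p : ℕ) ⟨p.2⟩ P
    have hsub : ((P : Subgroup A).map A.subtype).IsSubnormal := hPn.isSubnormal.trans' hA
    have hPg : IsPGroup p ((P : Subgroup A).map A.subtype) := P.2.map _
    have hπ : IsPiNum {(p : ℕ)} (Nat.card ((P : Subgroup A).map A.subtype)) := by
      intro q hq hqd
      obtain ⟨k, hk⟩ := IsPGroup.iff_card.mp hPg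
      rw [hk] at hqd
      exact (Nat.prime_dvd_prime_iff_eq hq p.2).mp (hq.dvd_of_dvd_pow hqd)
    refine (subnormal_le_piCore _ G rfl {(p : ℕ)} _ hsub hπ).trans ?_
    apply le_sSup
    refine ⟨inferInstance, ?_⟩
    have hpg : IsPGroup p (Cfsg.piCore {(p : ℕ)} G) := by
      rw [IsPGroup.iff_card]
      have h1 := piCore_isPiNum (G := G) {(p : ℕ)}
      have hpos : Nat.card (Cfsg.piCore {(p : ℕ)} G) ≠ 0 := Nat.card_pos.ne'
      exact ⟨_, Nat.eq_prime_pow_of_unique_prime_dvd hpos (fun {q} hq hqd => h1 q hq hqd)⟩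
    exact hpg.isNilpotent
  intro a ha
  have h1 : (⟨a, ha⟩ : A) ∈ (⨆ (p : Nat.Primes), ⨆ (P : Sylow p A), (P : Subgroup A)) := by
    rw [iSup_sylow_eq_top]; trivial
  have h2 : (⨆ (p : Nat.Primes), ⨆ (P : Sylow p A), (P : Subgroup A)).map A.subtype ≤
      Cfsg.fittingSubgroup G := by
    rw [Subgroup.map_iSup]
    apply iSup_le
    intro p
    rw [Subgroup.map_iSup]
    exact iSup_le (key p)
  exact h2 ⟨⟨a, ha⟩, h1, rfl⟩

end Cfsg.Agent.S3743
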