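import Cfsg.Statements.S1892
import Mathlib
import Cfsg.Agent.Helper23.HallHigman
import Cfsg.Agent.Lead.Coprime3
import Cfsg.Agent.Helper14.PCore

set_option autoImplicit false
open Cfsg

namespace Cfsg.Agent.S1892

/-- Let S be a finite p-solvable group with no nontrivial normal subgroup of order prime to p, A a p-subgroup of S, and Q a nontrivial A-invariant subgroup of order prime to p with [A, Q] = Q. Then the commutator [O_p(S), A, Q] is nontrivial. -/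
theorem result {S : Type*} [Group S] [Finite S] {p : ℕ} [Fact p.Prime]
    (hS : Cfsg.IsPSolvable p S) (hred : Cfsg.pPrimeCore p S = ⊥)
    (A Q : Subgroup S) (hA : IsPGroup p A) (hQ : ¬ p ∣ Nat.card Q) (hQ1 : Q ≠ ⊥)
    (hinv : ∀ a ∈ A, ∀ x ∈ Q, a * x * a⁻¹ ∈ Q) (hAQ : ⁅A, Q⁆ = Q) :
    ⁅⁅Cfsg.pCore p S, A⁆, Q⁆ ≠ ⊥ := by
  intro hbot
  obtain ⟨P, hPdef⟩ : ∃ P : Subgroup S, P = Cfsg.pCore p S := ⟨_, rfl⟩
  rw [← hPdef] at hbot
  have hPn : P.Normal := by rw [hPdef]; infer_instance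
  have hPp : IsPGroup p ↥P := by rw [hPdef]; exact Cfsg.Agent.Helper14.pCore_isPGroup p
  have hAQ' : A ≤ Subgroup.normalizer (Q : Set S) := by
    intro a ha
    exact Subgroup.mem_normalizer_fintype (fun x hx => hinv a ha x hx)
  obtain ⟨C, hCdef⟩ : ∃ C : Subgroup S, C = P ⊓ Subgroup.centralizer (Q : Set S) := ⟨_, rfl⟩
  have hPA : ⁅P, A⁆ ≤ C := by
    rw [hCdef]
    refine le_inf ?_ ?_
    · exact Subgroup.commutator_le_left P A
    · exact Subgroup.commutator_eq_bot_iff_le_centralizer.mp hbot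
  -- `C` is `A`-invariant
  have hCA : ∀ a ∈ A, ∀ c ∈ C, a * c * a⁻¹ ∈ C := by
    intro a ha c hc
    rw [hCdef] at hc ⊢
    refine Subgroup.mem_inf.mpr ⟨hPn.conj_mem c hc.1 a, ?_⟩
    rw [Subgroup.mem_centralizer_iff]
    intro x hx
    have hx' : a⁻¹ * x * a ∈ Q := by
      have := (Subgroup.mem_normalizer_iff.mp (hAQ' (A.inv_mem ha)) x).mp hx
      simpa using this
    have h1 := (Subgroup.mem_centralizer_iff.mp hc.2) _ hx'
    calc x * (a * c * a⁻¹) = a * ((a⁻¹ * x * a) * c) * a⁻¹ := by group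
      _ = a * (c * (a⁻¹ * x * a)) * a⁻¹ := by rw [h1]
      _ = a * c * a⁻¹ * x := by group
  have hCQ : ∀ c ∈ C, ∀ x ∈ Q, x * c = c * x := by
    intro c hc x hx
    rw [hCdef] at hc
    exact (Subgroup.mem_centralizer_iff.mp hc.2) x hx
  have hCP : C ≤ P := by rw [hCdef]; exact inf_le_left
  -- conjugating by elements of `A`
  have hconj : ∀ b : S, (b ∈ A) → ∀ v ∈ P, v⁻¹ * (b⁻¹ * v * b) ∈ C := by
    intro b hb v hv
    apply hPA
    have := Subgroup.commutator_mem_commutator (Subgroup.inv_mem P hv) (Subgroup.inv_mem A hb)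
    rw [commutatorElement_def] at this
    simpa [mul_assoc] using this
  -- the subgroup of `Q` acting trivially on `P` modulo `C`
  let T : Subgroup S :=
    { carrier := {q | q ∈ Q ∧ ∀ u ∈ P, u⁻¹ * (q⁻¹ * u * q) ∈ C}
      one_mem' := ⟨Q.one_mem, fun u _ => by simp⟩
      mul_mem' := by
        rintro q q' ⟨hq, hq2⟩ ⟨hq', hq2'⟩
        refine ⟨Q.mul_mem hq hq', ?_⟩
        intro u hu
        have h1 := hq2 u hu
        have h2 := hq2' u hu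
        have h3 : q'⁻¹ * (u⁻¹ * (q⁻¹ * u * q)) * q' = u⁻¹ * (q⁻¹ * u * q) := by
          have := hCQ _ h1 q' hq'
          calc q'⁻¹ * (u⁻¹ * (q⁻¹ * u * q)) * q' = q'⁻¹ * ((u⁻¹ * (q⁻¹ * u * q)) * q') := by group
            _ = q'⁻¹ * (q' * (u⁻¹ * (q⁻¹ * u * q))) := by rw [this]
            _ = u⁻¹ * (q⁻¹ * u * q) := by group
        have h4 : u⁻¹ * ((q * q')⁻¹ * u * (q * q')) =
            (u⁻¹ * (q'⁻¹ * u * q')) * (q'⁻¹ * (u⁻¹ * (q⁻¹ * u * q)) * q') := by group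
        rw [h4, h3]
        exact C.mul_mem h2 h1
      inv_mem' := by
        rintro q ⟨hq, hq2⟩
        refine ⟨Q.inv_mem hq, ?_⟩
        intro u hu
        have hv : q * u * q⁻¹ ∈ P := hPn.conj_mem u hu q
        have h1 := hq2 _ hv
        have h2 : (q * u * q⁻¹)⁻¹ * (q⁻¹ * (q * u * q⁻¹) * q) = (u⁻¹ * (q⁻¹⁻¹ * u * q⁻¹))⁻¹ := by group
        rw [h2] at h1
        exact (Subgroup.inv_mem_iff C).mp h1 }
  have hQT : Q ≤ T := by
    rw [← hAQ, Subgroup.commutator_le]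
    intro a ha x hx
    rw [commutatorElement_def]
    have hy : a * x * a⁻¹ ∈ Q := hinv a ha x hx
    refine ⟨Q.mul_mem hy (Q.inv_mem hx), ?_⟩
    intro u hu
    -- a⁻¹ u a = u c₁
    have hc1 := hconj a ha u hu
    have hw : x⁻¹ * u * x ∈ P := by
      have := hPn.conj_mem u hu x⁻¹
      simpa using this
    have hc2 := hconj a⁻¹ (A.inv_mem ha) _ hw
    have hc1' := hCA a ha _ hc1
    have hx1 : x * (u⁻¹ * (a⁻¹ * u * a)) = (u⁻¹ * (a⁻¹ * u * a)) * x := hCQ _ hc1 x hx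
    have key : u⁻¹ * ((a * x * a⁻¹ * x⁻¹)⁻¹ * u * (a * x * a⁻¹ * x⁻¹)) =
        (x * ((x⁻¹ * u * x)⁻¹ * (a⁻¹⁻¹ * (x⁻¹ * u * x) * a⁻¹)) * x⁻¹) *
          (x * (a * (u⁻¹ * (a⁻¹ * u * a)) * a⁻¹) * x⁻¹) := by
      have e1 : a⁻¹ * u * a = u * (u⁻¹ * (a⁻¹ * u * a)) := by group
      have e2 : x⁻¹ * (u * (u⁻¹ * (a⁻¹ * u * a))) * x = (x⁻¹ * u * x) * (u⁻¹ * (a⁻¹ * u * a)) := by
        calc x⁻¹ * (u * (u⁻¹ * (a⁻¹ * u * a))) * x = x⁻¹ * u * ((u⁻¹ * (a⁻¹ * u * a)) * x) := by group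
          _ = x⁻¹ * u * (x * (u⁻¹ * (a⁻¹ * u * a))) := by rw [hx1]
          _ = (x⁻¹ * u * x) * (u⁻¹ * (a⁻¹ * u * a)) := by group
      calc u⁻¹ * ((a * x * a⁻¹ * x⁻¹)⁻¹ * u * (a * x * a⁻¹ * x⁻¹))
          = u⁻¹ * (x * (a * (x⁻¹ * (a⁻¹ * u * a) * x) * a⁻¹) * x⁻¹) := by group
        _ = u⁻¹ * (x * (a * (x⁻¹ * (u * (u⁻¹ * (a⁻¹ * u * a))) * x) * a⁻¹) * x⁻¹) := by rw [← e1]
        _ = u⁻¹ * (x * (a * ((x⁻¹ * u * x) * (u⁻¹ * (a⁻¹ * u * a))) * a⁻¹) * x⁻¹) := by rw [e2]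
        _ = _ := by group
    rw [key]
    have m1 : x * ((x⁻¹ * u * x)⁻¹ * (a⁻¹⁻¹ * (x⁻¹ * u * x) * a⁻¹)) * x⁻¹ ∈ C := by
      have := hCQ _ hc2 x hx
      have e : x * ((x⁻¹ * u * x)⁻¹ * (a⁻¹⁻¹ * (x⁻¹ * u * x) * a⁻¹)) * x⁻¹ =
          (x⁻¹ * u * x)⁻¹ * (a⁻¹⁻¹ * (x⁻¹ * u * x) * a⁻¹) := by
        rw [this]; group
      rw [e]; exact hc2
    have m2 : x * (a * (u⁻¹ * (a⁻¹ * u * a)) * a⁻¹) * x⁻¹ ∈ C := by
      have := hCQ _ hc1' x hx
      have e : x * (a * (u⁻¹ * (a⁻¹ * u * a)) * a⁻¹) * x⁻¹ = a * (u⁻¹ * (a⁻¹ * u * a)) * a⁻¹ := by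
        rw [this]; group
      rw [e]; exact hc1'
    exact C.mul_mem m1 m2
  -- hence `[P, Q] ≤ C`
  have hPQC : ⁅P, Q⁆ ≤ C := by
    rw [Subgroup.commutator_le]
    intro u hu q hq
    rw [commutatorElement_def]
    have h1 := (hQT (Q.inv_mem hq)).2 u⁻¹ (P.inv_mem hu)
    have h2 : u * q * u⁻¹ * q⁻¹ = u⁻¹⁻¹ * (q⁻¹⁻¹ * u⁻¹ * q⁻¹) := by group
    rw [h2]
    exact h1
  have hPQQ : ⁅⁅P, Q⁆, Q⁆ = ⊥ := by
    rw [Subgroup.commutator_eq_bot_iff_le_centralizer]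
    refine hPQC.trans ?_
    rw [hCdef]
    exact inf_le_right
  have hQP : Q ≤ Subgroup.normalizer (P : Set S) := by
    rw [Subgroup.normalizer_eq_top]; exact le_top
  obtain ⟨k, hk⟩ := IsPGroup.iff_card.mp hPp
  have hp : p.Prime := Fact.out
  have hcop : (Nat.card ↥Q).Coprime (Nat.card ↥P) := by
    rw [hk]
    exact Nat.Coprime.pow_right k ((Nat.Prime.coprime_iff_not_dvd hp).mpr hQ).symm
  have hsolv : Group.IsSolvable ↥P := by
    have : Group.IsNilpotent ↥P := hPp.isNilpotent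
    infer_instance
  have h3 := Cfsg.Agent.Lead.coprime_commutator_commutator Q P hQP hcop (Or.inr hsolv)
  rw [hPQQ] at h3
  have h4 : ⁅Q, P⁆ = ⊥ := by rw [Subgroup.commutator_comm]; exact h3.symm
  rw [Subgroup.commutator_eq_bot_iff_le_centralizer] at h4
  have hHH := Cfsg.Agent.Helper23.centralizer_pCore_le_of_isPSolvable hS hred
  rw [← hPdef] at hHH
  have hQle : Q ≤ P := h4.trans hHH
  have hQp : IsPGroup p ↥Q := hPp.to_le hQle
  obtain ⟨j, hj⟩ := IsPGroup.iff_card.mp hQp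
  apply hQ1
  rw [← Subgroup.card_eq_one, hj]
  cases j with
  | zero => rfl
  | succ m =>
    exfalso
    apply hQ
    rw [hj, pow_succ]
    exact Dvd.intro_left _ rfl
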