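import Cfsg.Statements.S1893
import Mathlib
import Cfsg.Agent.Lead.SCNHall2

set_option autoImplicit false
open Cfsg

namespace Cfsg.Agent.S1893

/-- Let S be a finite solvable group, π a set of primes containing neither 2 nor 3, H a Hall π-subgroup of S, and A a self-centralizing normal subgroup of the Fitting subgroup F(H). Then C_S(A) = A × D for a normal subgroup D of C_S(A) whose order has no prime divisor in π. -/
theorem result {S : Type*} [Group S] [Finite S] [Group.IsSolvable S]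
    (π : Set ℕ) (h2 : 2 ∉ π) (h3 : 3 ∉ π) (H : Subgroup S) (hH : Cfsg.IsPiHall π H)
    (A : Subgroup S) (hA : Cfsg.IsSCN ((Cfsg.fittingSubgroup H).map H.subtype) A) :
    ∃ D : Subgroup S, D ≤ Subgroup.centralizer (A : Set S) ∧
      (∀ c ∈ Subgroup.centralizer (A : Set S), ∀ d ∈ D, c * d * c⁻¹ ∈ D) ∧
      A ⊓ D = ⊥ ∧ A ⊔ D = Subgroup.centralizer (A : Set S) ∧
      ∀ q : ℕ, q.Prime → q ∣ Nat.card D → q ∉ π := by
  classical
  set C : Subgroup S := Subgroup.centralizer (A : Set S) with hC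
  have hAC : A ≤ C := by
    have := hA.2.2
    intro x hx
    rw [← this] at hx
    exact hx.2
  have hAH : A ≤ H := hA.1.trans (Subgroup.map_subtype_le _)
  set N : Subgroup ↥C := A.subgroupOf C with hN
  have hNcentral : ∀ n ∈ N, ∀ c : ↥C, c * n = n * c := by
    intro n hn c
    apply Subtype.ext
    simp only [Subgroup.coe_mul]
    exact (Subgroup.mem_centralizer_iff.mp c.2 _ hn).symm
  have hNn : N.Normal := by
    refine ⟨fun n hn c => ?_⟩
    have : c * n * c⁻¹ = n := by rw [hNcentral n hn c, mul_inv_cancel_right]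
    rw [this]; exact hn
  -- `π`-primes do not divide the index
  have hidx : ∀ q : ℕ, q.Prime → q ∈ π → ¬ q ∣ N.index := by
    intro q hq hqπ hd
    haveI : Fact q.Prime := ⟨hq⟩
    obtain ⟨Q⟩ : Nonempty (Sylow q ↥C) := inferInstance
    have hQN : (Q : Subgroup ↥C) ≤ N := by
      intro x hx
      obtain ⟨m, hm⟩ := Q.2 ⟨x, hx⟩
      have h1 : x ^ q ^ m = 1 := congrArg Subtype.val hm
      have hx2 : (x : S) ^ q ^ m = 1 := by
        have := congrArg Subtype.val h1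
        simpa using this
      rw [hN, Subgroup.mem_subgroupOf]
      exact Cfsg.Agent.Lead.SCNHall.mem_of_mem_centralizer_scn h2 h3 hH hA hq hqπ x.2 ⟨m, hx2⟩
    have h3' : N.index ∣ (Q : Subgroup ↥C).index := by
      rw [← Subgroup.relIndex_mul_index hQN]
      exact dvd_mul_left _ _
    exact Q.not_dvd_index (hd.trans h3')
  have hcardN : Nat.card N = Nat.card A :=
    Nat.card_congr (Subgroup.subgroupOfEquivOfLe hAC).toEquiv
  have hcop : (Nat.card N).Coprime N.index := by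
    apply Nat.coprime_of_dvd
    intro q hq hqN
    apply hidx q hq
    apply hH.1 q hq
    rw [hcardN] at hqN
    exact hqN.trans (Subgroup.card_dvd_of_le hAH)
  obtain ⟨D₀, hD₀⟩ := Subgroup.exists_right_complement'_of_coprime hcop
  refine ⟨D₀.map C.subtype, Subgroup.map_subtype_le _, ?_, ?_, ?_, ?_⟩
  · -- normality
    rintro c hc d ⟨d₀, hd₀, rfl⟩
    obtain ⟨⟨⟨n, hn⟩, ⟨d₁, hd₁⟩⟩, hnd⟩ := hD₀.2 ⟨c, hc⟩
    have hnd' : n * d₁ = ⟨c, hc⟩ := hnd
    have h1 : (⟨c, hc⟩ : ↥C) * d₀ * (⟨c, hc⟩ : ↥C)⁻¹ = d₁ * d₀ * d₁⁻¹ := by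
      rw [← hnd']
      have hcm := hNcentral n hn (d₁ * d₀ * d₁⁻¹)
      calc n * d₁ * d₀ * (n * d₁)⁻¹ = n * (d₁ * d₀ * d₁⁻¹) * n⁻¹ := by group
        _ = (d₁ * d₀ * d₁⁻¹) * n * n⁻¹ := by rw [hcm]
        _ = d₁ * d₀ * d₁⁻¹ := by group
    have h2 : d₁ * d₀ * d₁⁻¹ ∈ D₀ := D₀.mul_mem (D₀.mul_mem hd₁ hd₀) (D₀.inv_mem hd₁)
    refine ⟨(⟨c, hc⟩ : ↥C) * d₀ * (⟨c, hc⟩ : ↥C)⁻¹, ?_, ?_⟩
    · rw [h1]; exact h2
    · simp
  · -- trivial intersection
    rw [eq_bot_iff]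
    rintro x ⟨hxA, d₀, hd₀, rfl⟩
    have h1 : d₀ ∈ N ⊓ D₀ := ⟨Subgroup.mem_subgroupOf.mpr hxA, hd₀⟩
    rw [hD₀.disjoint.eq_bot, Subgroup.mem_bot] at h1
    rw [h1]; simp
  · -- join
    have h1 : A = N.map C.subtype := (Subgroup.map_subgroupOf_eq_of_le hAC).symm
    rw [h1, ← Subgroup.map_sup, hD₀.sup_eq_top, ← MonoidHom.range_eq_map, Subgroup.range_subtype]
  · -- order of D
    intro q hq hqD hqπ
    apply hidx q hq hqπ
    rw [Subgroup.card_map_of_injective (Subgroup.subtype_injective C)] at hqD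
    rw [hD₀.symm.index_eq_card]
    exact hqD

end Cfsg.Agent.S1893
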