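import Mathlib
import Cfsg.Statements.S1897
import Cfsg.Agent.Helper13.L27SU
import Cfsg.Agent.Helper2.L27

set_option autoImplicit false

namespace Cfsg.Agent.S1897

open Cfsg
open Cfsg.Agent.Helper13.SU33Spec Cfsg.Agent.Helper13.L27SU

section emb

variable {F : Type*} [Field F] [Fintype F]

/-- the embedding `SL₃(2) → SU₃(3)`. -/
noncomputable def emb (hF : Fintype.card F = 3 ^ 2) (φ : F9 →+* F) : S2 →* Cfsg.SU 3 F 3 where
  toFun A := mkSU hF φ (rho A.1) (rho_det A) (rho_U A)
  map_one' := by
    apply Subtype.ext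
    apply Subtype.ext
    change φ.mapMatrix (rho (1 : S2).1) = 1
    rw [Matrix.SpecialLinearGroup.coe_one, rho_one, map_one]
  map_mul' A B := by
    apply Subtype.ext
    apply Subtype.ext
    change φ.mapMatrix (rho (A * B).1) = φ.mapMatrix (rho A.1) * φ.mapMatrix (rho B.1)
    rw [Matrix.SpecialLinearGroup.coe_mul, rho_mul, map_mul]

theorem emb_injective (hF : Fintype.card F = 3 ^ 2) (φ : F9 →+* F) (hφ : Function.Injective φ) :
    Function.Injective (emb hF φ) := by
  rw [injective_iff_map_eq_one]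
  intro A hA
  apply rho_inj
  have h1 : (((emb hF φ A : Cfsg.SU 3 F 3) : Matrix.SpecialLinearGroup (Fin 3) F) :
      Matrix (Fin 3) (Fin 3) F) = 1 := by
    rw [hA]
    rfl
  change (φ.mapMatrix : M9 →+* Matrix (Fin 3) (Fin 3) F) (rho A.1) = 1 at h1
  rw [← map_one (φ.mapMatrix : M9 →+* Matrix (Fin 3) (Fin 3) F)] at h1
  have hinj : Function.Injective (φ.mapMatrix : M9 →+* Matrix (Fin 3) (Fin 3) F) := by
    intro A B hAB
    apply Matrix.ext
    intro i j
    have := congrFun (congrFun hAB i) j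
    simp only [RingHom.mapMatrix_apply, Matrix.map_apply] at this
    exact hφ this
  exact hinj h1

end emb

/-- The projective special unitary group PSU₃(3) (realised over the field with 9 elements) has a subgroup isomorphic to PSL₂(7). -/
theorem result {F : Type*} [Field F] [Fintype F] (hF : Fintype.card F = 9)
    {K : Type*} [Field K] [Fintype K] (hK : Fintype.card K = 7) :
    ∃ H : Subgroup (Cfsg.PSU 3 F 3), Nonempty (H ≃* Matrix.ProjectiveSpecialLinearGroup (Fin 2) K) := by
  have hF' : Fintype.card F = 3 ^ 2 := by rw [hF]; norm_num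
  obtain ⟨φ, hφ⟩ := exists_phi hF
  let f : S2 →* Cfsg.PSU 3 F 3 := (eSU hF).toMonoidHom.comp (emb hF' φ)
  have hf : Function.Injective f :=
    (eSU hF).injective.comp (emb_injective hF' φ hφ.injective)
  refine ⟨f.range, ⟨?_⟩⟩
  let e1 : S2 ≃* f.range := MonoidHom.ofInjective hf
  let eK : ZMod 7 ≃+* K := ZMod.ringEquivOfPrime K (by norm_num) hK
  let e2 : Matrix.ProjectiveSpecialLinearGroup (Fin 2) K ≃* S2 :=
    (Cfsg.Agent.Helper2.L27.pslCongr eK).symm.trans
      (Cfsg.Agent.Helper2.L27.psiEquiv.trans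
        (MulEquiv.ofBijective _ Cfsg.Agent.Helper2.L27.toGL_bijective).symm)
  exact e1.symm.trans e2.symm

end Cfsg.Agent.S1897
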