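import Cfsg.Statements.S1898
import Cfsg.Agent.Helper10.Pow4

set_option autoImplicit false
open Cfsg

namespace Cfsg.Agent.S1898

/-- Let X be a finite 2-group whose derived subgroup is elementary abelian and central. Then the subgroup generated by the elements of order dividing 4 has exponent dividing 4, and every automorphism of X fixing each element of order dividing 4 has 2-power order. -/
theorem result {X : Type*} [Group X] [Finite X] (hX : IsPGroup 2 X)
    (hel : Cfsg.IsElementaryAbelian 2 (commutator X)) (hcen : commutator X ≤ Subgroup.center X) :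
    (∀ x ∈ Subgroup.closure {g : X | g ^ 4 = 1}, x ^ 4 = 1) ∧
      ∀ φ : MulAut X, (∀ g : X, g ^ 4 = 1 → φ g = g) → ∃ k : ℕ, φ ^ (2 ^ k) = 1 := by
  have hel2 : ∀ a ∈ commutator X, a ^ 2 = 1 := hel.2
  refine ⟨Cfsg.Agent.Helper10.closure_pow_four hel2 hcen, ?_⟩
  intro φ hφ
  exact Cfsg.Agent.Helper10.aut_two_power_aux (Nat.card X) X rfl hX hel2 hcen φ hφ

end Cfsg.Agent.S1898
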