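import Cfsg.Statements.S1899
import Mathlib

set_option autoImplicit false
open Cfsg

namespace Cfsg.Agent.S1899

theorem swap_aux {A : Type*} [CommGroup A] (x y a b : A) (h : x * y⁻¹ = a * b⁻¹) : b * y⁻¹ = a * x⁻¹ := by
  rw [← div_eq_mul_inv, ← div_eq_mul_inv, div_eq_div_iff_mul_eq_mul] at h ⊢
  rw [mul_comm b x]; exact h

/-- Let a dihedral group of order 2n, n odd and n > 1, act on a finite abelian 2-group A through automorphisms d and t with d^n = 1, t² = 1 and t d t⁻¹ = d⁻¹, and suppose that d fixes only the identity. Then A is the internal direct product of C_A(t) and its image under d. -/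
theorem result {A : Type*} [CommGroup A] [Finite A] (hA : IsPGroup 2 A)
    {n : ℕ} (hn : Odd n) (hn1 : 1 < n) (d t : MulAut A) (hd : d ^ n = 1) (ht : t ^ 2 = 1) (hdt : t * d * t⁻¹ = d⁻¹)
    (hfix : ∀ a : A, d a = a → a = 1) :
    (MulEquiv.toMonoidHom t).eqLocus (MonoidHom.id A) ⊓ ((MulEquiv.toMonoidHom t).eqLocus (MonoidHom.id A)).map d.toMonoidHom = ⊥ ∧
      (MulEquiv.toMonoidHom t).eqLocus (MonoidHom.id A) ⊔ ((MulEquiv.toMonoidHom t).eqLocus (MonoidHom.id A)).map d.toMonoidHom = ⊤ := by
  -- basic relations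
  have htt : ∀ a : A, t (t a) = a := by
    intro a
    have := congrArg (fun f : MulAut A => f a) ht
    simpa [pow_two, MulAut.mul_apply] using this
  have htd : ∀ a : A, t (d a) = d⁻¹ (t a) := by
    intro a
    have h1 : t * d = d⁻¹ * t := by
      calc t * d = (t * d * t⁻¹) * t := by group
        _ = d⁻¹ * t := by rw [hdt]
    have := congrArg (fun f : MulAut A => f a) h1
    simpa [MulAut.mul_apply] using this
  have htd' : ∀ a : A, t (d⁻¹ a) = d (t a) := by
    intro a
    have h1 : t * d⁻¹ = d * t := by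
      calc t * d⁻¹ = (t * d * t⁻¹)⁻¹ * t := by group
        _ = d * t := by rw [hdt, inv_inv]
    have := congrArg (fun f : MulAut A => f a) h1
    simpa [MulAut.mul_apply] using this
  have hdd' : ∀ a : A, d (d⁻¹ a) = a := fun a => by
    have := congrArg (fun f : MulAut A => f a) (mul_inv_cancel d)
    simpa [MulAut.mul_apply] using this
  have hd'd : ∀ a : A, d⁻¹ (d a) = a := fun a => by
    have := congrArg (fun f : MulAut A => f a) (inv_mul_cancel d)
    simpa [MulAut.mul_apply] using this
  -- d² fixed point ⇒ trivial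
  have hfix2 : ∀ a : A, d (d a) = a → a = 1 := by
    intro a ha
    apply hfix
    obtain ⟨m, hm⟩ := hn
    -- d = (d^2)^(m+1)
    have hD : (d ^ 2) a = a := by rw [pow_two, MulAut.mul_apply, ha]
    have h1 : ∀ j : ℕ, ((d ^ 2) ^ j) a = a := by
      intro j
      induction j with
      | zero => simp
      | succ j ih =>
        rw [pow_succ, MulAut.mul_apply, hD, ih]
    have h2 : d = (d ^ 2) ^ (m + 1) := by
      rw [← pow_mul]
      have : 2 * (m + 1) = n + 1 := by omega
      rw [this, pow_succ, hd, one_mul]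
    rw [h2]; exact h1 (m + 1)
  -- the endomorphism E = d - d⁻¹
  let E : A →* A :=
    { toFun := fun a => d a * (d⁻¹ a)⁻¹
      map_one' := by simp
      map_mul' := fun a b => by
        simp only [map_mul, mul_inv]
        rw [mul_mul_mul_comm] }
  have hE_apply : ∀ a, E a = d a * (d⁻¹ a)⁻¹ := fun a => rfl
  have hEinj : Function.Injective E := by
    rw [injective_iff_map_eq_one]
    intro a ha
    rw [hE_apply, mul_inv_eq_one] at ha
    apply hfix2
    rw [ha, hdd']
  have hEsurj : Function.Surjective E := Finite.injective_iff_surjective.1 hEinj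
  have hmemC : ∀ a : A, a ∈ (MulEquiv.toMonoidHom t).eqLocus (MonoidHom.id A) ↔ t a = a := by
    intro a; rfl
  constructor
  · rw [eq_bot_iff]
    rintro a ⟨haC, c, hcC, hca⟩
    rw [Subgroup.mem_bot]
    have hta : t a = a := (hmemC a).1 haC
    have htc : t c = c := (hmemC c).1 hcC
    have hca' : d c = a := hca
    -- a = d⁻¹ c
    have h1 : a = d⁻¹ c := by
      rw [← hta, ← hca', htd, htc]
    have h2 : c = 1 := by
      apply hfix2
      rw [hca', h1, hdd']
    rw [← hca', h2, map_one]
  · rw [eq_top_iff]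
    intro a _
    obtain ⟨c₂, hc₂⟩ := hEsurj (a * (t a)⁻¹)
    have htc₂ : t c₂ = c₂ := by
      apply hEinj
      have e1 : E (t c₂) = t (d⁻¹ c₂) * (t (d c₂))⁻¹ := by
        rw [hE_apply, ← htd' c₂, ← htd c₂]
      have e2 : t (d⁻¹ c₂) * (t (d c₂))⁻¹ = t ((E c₂)⁻¹) := by
        rw [hE_apply, mul_inv, inv_inv, map_mul, map_inv, mul_comm]
      have e3 : t ((E c₂)⁻¹) = E c₂ := by
        rw [hc₂, mul_inv, inv_inv, map_mul, map_inv, htt, mul_comm]
      rw [e1, e2, e3]
    have hc₁ : t (a * (d c₂)⁻¹) = a * (d c₂)⁻¹ := by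
      rw [map_mul, map_inv, htd, htc₂]
      exact swap_aux (d c₂) (d⁻¹ c₂) a (t a) hc₂
    have : a = (a * (d c₂)⁻¹) * d c₂ := by group
    rw [this]
    apply Subgroup.mul_mem
    · exact Subgroup.mem_sup_left ((hmemC _).2 hc₁)
    · exact Subgroup.mem_sup_right ⟨c₂, (hmemC _).2 htc₂, rfl⟩

end Cfsg.Agent.S1899
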