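import Cfsg.Statements.S1900
import Mathlib
import Cfsg.Agent.Helper10.NormLemmas
import Cfsg.Agent.Helper19.CoprimeQuot
import Cfsg.Agent.Helper21.ThreeSubgroups
import Cfsg.Agent.Lead.GenCent
import Cfsg.Agent.Lead.ThompsonPQ
import Cfsg.Agent.Lead.Coprime3
import Cfsg.Agent.Helper7.Signalizer
import Cfsg.Agent.Helper7.Hyperplane

set_option autoImplicit false
open Cfsg

namespace Cfsg.Agent.S1900

open Subgroup

section
variable {S : Type*} [Group S] [Finite S] {p q : ℕ} [hp : Fact p.Prime] [hq : Fact q.Prime]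
variable {P Q X₁ X₂ : Subgroup S}

/-- an element of a group of prime order generates it -/
theorem zpowers_eq_of_card_prime {X : Subgroup S} (hX : Nat.card X = q) {a : S} (ha : a ∈ X)
    (ha1 : a ≠ 1) : zpowers a = X := by
  have hle : zpowers a ≤ X := (zpowers_le).2 ha
  apply Subgroup.eq_of_le_of_card_ge hle
  rw [hX, Nat.card_zpowers]
  have h1 : orderOf a ∣ q := by
    rw [← hX]
    exact (Subgroup.orderOf_dvd_natCard X ha)
  rcases (Nat.dvd_prime hq.out).mp h1 with h | h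
  · exact absurd (orderOf_eq_one_iff.mp h) ha1
  · exact h.ge

theorem card_zpowers_of_mem (hQ : Cfsg.IsElementaryAbelian q Q) {a : S} (ha : a ∈ Q) (ha1 : a ≠ 1) :
    Nat.card (zpowers a) = q := by
  rw [Nat.card_zpowers]
  exact orderOf_eq_prime (hQ.2 a ha) ha1

theorem le_centralizer_of_le (hQ : Cfsg.IsElementaryAbelian q Q) {X : Subgroup S} (hX : X ≤ Q) :
    Q ≤ centralizer (X : Set S) := by
  intro a ha
  rw [mem_centralizer_iff]
  intro x hx
  have h1 := (isMulCommutative_iff.mp hQ.1) (⟨x, hX hx⟩ : Q) ⟨a, ha⟩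
  exact congrArg Subtype.val h1

theorem le_normalizer_of_le (hQ : Cfsg.IsElementaryAbelian q Q) {X : Subgroup S} (hX : X ≤ Q) :
    Q ≤ normalizer (X : Set S) := by
  refine (le_centralizer_of_le hQ hX).trans (centralizer_le_normalizer _)

theorem le_normalizer_cent (hQ : Cfsg.IsElementaryAbelian q Q) [P.Normal] {X : Subgroup S}
    (hX : X ≤ Q) : Q ≤ normalizer ((P ⊓ centralizer (X : Set S) : Subgroup S) : Set S) := by
  apply Cfsg.Agent.Helper10.le_normalizer_inf_of_le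
  · rw [normalizer_eq_top]; exact le_top
  · exact Cfsg.Agent.Helper10.le_normalizer_centralizer_of_le (le_normalizer_of_le hQ hX)

theorem coprime_of_le (hpq : p ≠ q) (hP : IsPGroup p P) {A U : Subgroup S} (hA : Nat.card A ∣ q ^ 2)
    (hU : U ≤ P) : (Nat.card A).Coprime (Nat.card U) := by
  obtain ⟨k, hk⟩ := IsPGroup.iff_card.mp (hP.to_le hU)
  rw [hk]
  apply Nat.Coprime.coprime_dvd_left hA
  apply Nat.Coprime.pow
  exact (Nat.coprime_primes hq.out hp.out).mpr (Ne.symm hpq)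

theorem sup_eq_of_ne (hQc : Nat.card Q = q ^ 2) (h₁ : X₁ ≤ Q) (h₂ : X₂ ≤ Q) (h₁₂ : X₁ ≠ X₂)
    (hc₁ : Nat.card X₁ = q) (hc₂ : Nat.card X₂ = q) : X₁ ⊔ X₂ = Q := by
  have hle : X₁ ⊔ X₂ ≤ Q := sup_le h₁ h₂
  apply Subgroup.eq_of_le_of_card_ge hle
  have h1 : Nat.card ↥(X₁ ⊔ X₂) ∣ q ^ 2 := hQc ▸ Subgroup.card_dvd_of_le hle
  obtain ⟨j, hj, hj2⟩ := (Nat.dvd_prime_pow hq.out).mp h1
  have hq1 : 1 < q := hq.out.one_lt
  have h2 : q ∣ Nat.card ↥(X₁ ⊔ X₂) := hc₁ ▸ Subgroup.card_dvd_of_le (le_sup_left : X₁ ≤ X₁ ⊔ X₂)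
  rw [hQc, hj2]
  interval_cases j
  · rw [hj2, pow_zero] at h2
    exact absurd (Nat.le_of_dvd one_pos h2) (by omega)
  · exfalso
    apply h₁₂
    have e1 : X₁ = X₁ ⊔ X₂ := Subgroup.eq_of_le_of_card_ge le_sup_left (by rw [hj2, hc₁, pow_one])
    have e2 : X₂ = X₁ ⊔ X₂ := Subgroup.eq_of_le_of_card_ge le_sup_right (by rw [hj2, hc₂, pow_one])
    rw [e1]; exact e2.symm
  · exact le_rfl

end

section
variable {S : Type*} [Group S] [Finite S] {p q : ℕ} [hp : Fact p.Prime] [hq : Fact q.Prime]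
variable {P Q X₁ X₂ : Subgroup S}

/-- key step: `C_{B ⊔ N}(X₁) ≤ N` -/
theorem step_half (hpq : p ≠ q) [hPn : P.Normal] (hP : IsPGroup p P)
    (hQ : Cfsg.IsElementaryAbelian q Q)
    (hS : P ⊔ Q = ⊤) (h₁ : X₁ ≤ Q) (h₂ : X₂ ≤ Q) (hc₁ : Nat.card X₁ = q)
    (hinf : (P ⊓ centralizer (X₁ : Set S)) ⊓ (P ⊓ centralizer (X₂ : Set S)) = ⊥)
    (U : Subgroup S) [hUn : U.Normal] (hUP : U ≤ P)
    (hBU : ⁅P ⊓ centralizer (X₁ : Set S), P ⊓ centralizer (X₂ : Set S)⁆ ≤ U) :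
    (⁅P ⊓ centralizer (X₁ : Set S), P ⊓ centralizer (X₂ : Set S)⁆ ⊔ ⁅U, P⁆) ⊓
      centralizer (X₁ : Set S) ≤ ⁅U, P⁆ := by
  obtain ⟨C₁, hC₁⟩ : ∃ C₁ : Subgroup S, C₁ = P ⊓ centralizer (X₁ : Set S) := ⟨_, rfl⟩
  obtain ⟨C₂, hC₂⟩ : ∃ C₂ : Subgroup S, C₂ = P ⊓ centralizer (X₂ : Set S) := ⟨_, rfl⟩
  rw [← hC₁, ← hC₂] at hinf hBU ⊢
  obtain ⟨B, hB⟩ : ∃ B : Subgroup S, B = ⁅C₁, C₂⁆ := ⟨_, rfl⟩
  obtain ⟨N, hN⟩ : ∃ N : Subgroup S, N = ⁅U, P⁆ := ⟨_, rfl⟩
  rw [← hB] at hBU ⊢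
  rw [← hN]
  have hNn : N.Normal := by rw [hN]; infer_instance
  have hNtop : ∀ H : Subgroup S, H ≤ normalizer (N : Set S) := fun H => by
    rw [normalizer_eq_top]; exact le_top
  have hQC₁ : Q ≤ normalizer (C₁ : Set S) := by rw [hC₁]; exact le_normalizer_cent hQ h₁
  have hQC₂ : Q ≤ normalizer (C₂ : Set S) := by rw [hC₂]; exact le_normalizer_cent hQ h₂
  have hQB : Q ≤ normalizer (B : Set S) := by
    rw [hB]; exact Cfsg.Agent.Helper10.le_normalizer_commutator_of_le hQC₁ hQC₂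
  have hC₁P : C₁ ≤ P := by rw [hC₁]; exact inf_le_left
  have hC₂P : C₂ ≤ P := by rw [hC₂]; exact inf_le_left
  have hBP : B ≤ P := by
    rw [hB]
    exact (commutator_mono hC₁P hC₂P).trans (commutator_le_left P P)
  have hBPN : ⁅B, P⁆ ≤ N := by rw [hN]; exact commutator_mono hBU le_rfl
  have hNU : N ≤ U := by rw [hN]; exact commutator_le_left U P
  have hNP : N ≤ P := hNU.trans hUP
  obtain ⟨A, hA⟩ : ∃ A : Subgroup S, A = ⁅B, X₁⁆ := ⟨_, rfl⟩
  have hAB : A ≤ B := by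
    rw [hA]; exact Cfsg.Agent.Lead.commutator_le_of_le_normalizer (h₁.trans hQB)
  -- N' = A ⊔ N is normal
  have hN'n : (A ⊔ N).Normal := by
    apply Cfsg.Agent.Helper10.normal_of_sup_le_normalizer hS
    · intro u hu
      apply Subgroup.mem_normalizer_fintype
      intro y hy
      obtain ⟨a, ha, n, hn, rfl⟩ := Subgroup.mem_sup_of_normal_right.mp hy
      have h1 : u * a * u⁻¹ * a⁻¹ ∈ N := by
        apply hBPN
        rw [commutator_comm]
        have := commutator_mem_commutator hu (hAB ha)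
        rwa [commutatorElement_def] at this
      have h2 : u * (a * n) * u⁻¹ = (u * a * u⁻¹ * a⁻¹) * a * (u * n * u⁻¹) := by group
      rw [SetLike.mem_coe, h2]
      refine (A ⊔ N).mul_mem ((A ⊔ N).mul_mem ?_ ?_) ?_
      · exact (le_sup_right : N ≤ A ⊔ N) h1
      · exact (le_sup_left : A ≤ A ⊔ N) ha
      · exact (le_sup_right : N ≤ A ⊔ N) (hNn.conj_mem n hn u)
    · apply Cfsg.Agent.Helper10.le_normalizer_sup_of_le
      · rw [hA]
        exact Cfsg.Agent.Helper10.le_normalizer_commutator_of_le hQB (le_normalizer_of_le hQ h₁)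
      · exact hNtop Q
  -- coprimality
  have hX₁card : Nat.card X₁ ∣ q ^ 2 := by rw [hc₁]; exact dvd_pow_self q (by norm_num)
  -- `[X₁, C₂] = C₂`
  have hX₁C₂ : X₁ ≤ normalizer (C₂ : Set S) := h₁.trans hQC₂
  have hsolvX : Group.IsSolvable ↥X₁ := by
    have : IsMulCommutative ↥X₁ := by
      rw [isMulCommutative_iff]
      intro a b
      have := (isMulCommutative_iff.mp hQ.1) ⟨a.1, h₁ a.2⟩ ⟨b.1, h₁ b.2⟩
      apply Subtype.ext
      have h' := congrArg Subtype.val this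
      exact h'
    exact Cfsg.Agent.Lead.isSolvable_of_isMulCommutative X₁
  have hcomm₂ : ⁅C₂, X₁⁆ = C₂ := by
    have h1 := Cfsg.Agent.Lead.coprime_commutator_sup_centralizer X₁ C₂ hX₁C₂
      (coprime_of_le hpq hP hX₁card hC₂P) (Or.inl hsolvX)
    have h2 : C₂ ⊓ centralizer (X₁ : Set S) = ⊥ := by
      rw [eq_bot_iff, ← hinf]
      intro x hx
      refine mem_inf.mpr ⟨?_, hx.1⟩
      rw [hC₁]
      exact mem_inf.mpr ⟨hC₂P hx.1, hx.2⟩
    rw [h2, sup_bot_eq] at h1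
    exact h1
  -- three subgroups
  have h3 : ⁅⁅X₁, C₂⁆, C₁⁆ ≤ A ⊔ N := by
    apply Cfsg.Agent.Helper21.three_subgroups_mod (A ⊔ N) X₁ C₂ C₁
    · rw [commutator_comm C₂ C₁, ← hB, ← hA]
      exact le_sup_left
    · have : ⁅C₁, X₁⁆ = ⊥ := by
        rw [commutator_eq_bot_iff_le_centralizer, hC₁]
        exact inf_le_right
      rw [this, commutator_bot_left]
      exact bot_le
  rw [commutator_comm X₁ C₂, hcomm₂, commutator_comm C₂ C₁, ← hB] at h3
  -- apply the abelian section lemma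
  have hBNP : B ⊔ N ≤ P := sup_le hBP hNP
  have hBNU : B ⊔ N ≤ U := sup_le hBU hNU
  apply Cfsg.Agent.Helper19.le_of_commutator_le_of_abelian_section X₁ (B ⊔ N) N
    ((B ⊔ N) ⊓ centralizer (X₁ : Set S)) (hNtop _) (hNtop _)
  · exact Cfsg.Agent.Helper10.le_normalizer_sup_of_le (h₁.trans hQB) (hNtop _)
  · intro x hx y hy
    rw [hN]
    exact commutator_mem_commutator (hBNU hx) (hBNP hy)
  · exact coprime_of_le hpq hP hX₁card hBNP
  · refine sup_le ?_ le_sup_right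
    refine h3.trans (sup_le ?_ le_sup_right)
    rw [hA]
    exact (commutator_mono (le_sup_left : B ≤ B ⊔ N) le_rfl).trans le_sup_left
  · exact inf_le_left
  · have : ⁅(B ⊔ N) ⊓ centralizer (X₁ : Set S), X₁⁆ = ⊥ := by
      rw [commutator_eq_bot_iff_le_centralizer]
      exact inf_le_right
    rw [this]
    exact bot_le

end

section
variable {S : Type*} [Group S] [Finite S] {p q : ℕ} [hp : Fact p.Prime] [hq : Fact q.Prime]
variable {P Q X₁ X₂ : Subgroup S}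

theorem exists_ne_one_of_card {X : Subgroup S} (hX : Nat.card X = q) : ∃ x ∈ X, x ≠ 1 := by
  have h1 : 1 < Nat.card ↥X := by rw [hX]; exact hq.out.one_lt
  rw [Subgroup.one_lt_card_iff_ne_bot] at h1
  obtain ⟨x, hx⟩ := (Subgroup.ne_bot_iff_exists_ne_one).mp h1
  exact ⟨x.1, x.2, fun h => hx (Subtype.ext h)⟩

/-- a `Q`-invariant subgroup of `P` is generated by its centralizers of `X₁`, `X₂` -/
theorem le_of_centralizers (hpq : p ≠ q) [hPn : P.Normal] (hP : IsPGroup p P)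
    (hQ : Cfsg.IsElementaryAbelian q Q) (hQc : Nat.card Q = q ^ 2)
    (honly : ∀ X : Subgroup S, X ≤ Q → Nat.card X = q → X ≠ X₁ → X ≠ X₂ →
      P ⊓ centralizer (X : Set S) = ⊥)
    (V T : Subgroup S) (hVP : V ≤ P) (hQV : Q ≤ normalizer (V : Set S))
    (hV₁ : V ⊓ centralizer (X₁ : Set S) ≤ T) (hV₂ : V ⊓ centralizer (X₂ : Set S) ≤ T) : V ≤ T := by
  have hQi : IsMulCommutative ↥Q := hQ.1
  have hncyc : ¬ IsCyclic ↥Q := by
    apply Cfsg.Agent.Helper7.IsElementaryAbelian.not_isCyclic hQ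
    rw [hQc]
    have := hq.out.one_lt
    nlinarith
  have hcop : (Nat.card ↥Q).Coprime (Nat.card ↥V) :=
    coprime_of_le hpq hP (by rw [hQc]) hVP
  have hgen := Cfsg.Agent.Lead.generated_by_centralizers Q V hncyc hQV hcop
  rw [← hgen]
  apply iSup₂_le
  intro a ha
  obtain ⟨haQ, ha1⟩ := ha
  have hXQ : zpowers a ≤ Q := (zpowers_le).2 haQ
  have hXc : Nat.card (zpowers a) = q := card_zpowers_of_mem hQ haQ ha1
  rw [← Cfsg.Agent.Helper7.centralizer_zpowers_eq]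
  by_cases e1 : zpowers a = X₁
  · rw [e1]; exact hV₁
  by_cases e2 : zpowers a = X₂
  · rw [e2]; exact hV₂
  have := honly (zpowers a) hXQ hXc e1 e2
  intro x hx
  have hx' : x ∈ P ⊓ centralizer ((zpowers a : Subgroup S) : Set S) := mem_inf.mpr ⟨hVP hx.1, hx.2⟩
  rw [this, mem_bot] at hx'
  rw [hx']
  exact T.one_mem

theorem main (hpq : p ≠ q) [hPn : P.Normal] (hP : IsPGroup p P)
    (hQ : Cfsg.IsElementaryAbelian q Q) (hQc : Nat.card Q = q ^ 2) (hS : P ⊔ Q = ⊤)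
    (h₁ : X₁ ≤ Q) (h₂ : X₂ ≤ Q) (h₁₂ : X₁ ≠ X₂) (hc₁ : Nat.card X₁ = q) (hc₂ : Nat.card X₂ = q)
    (honly : ∀ X : Subgroup S, X ≤ Q → Nat.card X = q → X ≠ X₁ → X ≠ X₂ →
      P ⊓ centralizer (X : Set S) = ⊥) :
    ⁅P ⊓ centralizer (X₁ : Set S), P ⊓ centralizer (X₂ : Set S)⁆ = ⊥ ∧
      (P ⊓ centralizer (X₁ : Set S)) ⊓ (P ⊓ centralizer (X₂ : Set S)) = ⊥ ∧
      (P ⊓ centralizer (X₁ : Set S)) ⊔ (P ⊓ centralizer (X₂ : Set S)) = P := by
  -- trivial intersection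
  have hinf : (P ⊓ centralizer (X₁ : Set S)) ⊓ (P ⊓ centralizer (X₂ : Set S)) = ⊥ := by
    obtain ⟨x₁, hx₁, hx₁1⟩ := exists_ne_one_of_card hc₁
    obtain ⟨x₂, hx₂, hx₂1⟩ := exists_ne_one_of_card hc₂
    have hz₁ : zpowers x₁ = X₁ := zpowers_eq_of_card_prime hc₁ hx₁ hx₁1
    have hz₂ : zpowers x₂ = X₂ := zpowers_eq_of_card_prime hc₂ hx₂ hx₂1
    have hx₂X₁ : x₂ ∉ X₁ := by
      intro h
      apply h₁₂
      rw [← zpowers_eq_of_card_prime hc₁ h hx₂1, hz₂]
    have hx₁X₂ : x₁ ∉ X₂ := by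
      intro h
      apply h₁₂
      rw [← zpowers_eq_of_card_prime hc₂ h hx₁1, hz₁]
    have haQ : x₁ * x₂ ∈ Q := Q.mul_mem (h₁ hx₁) (h₂ hx₂)
    have ha1 : x₁ * x₂ ≠ 1 := by
      intro h
      apply hx₂X₁
      rw [eq_inv_of_mul_eq_one_right h]
      exact X₁.inv_mem hx₁
    have hX₃Q : zpowers (x₁ * x₂) ≤ Q := (zpowers_le).2 haQ
    have hX₃c : Nat.card (zpowers (x₁ * x₂)) = q := card_zpowers_of_mem hQ haQ ha1
    have e1 : zpowers (x₁ * x₂) ≠ X₁ := by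
      intro h
      apply hx₂X₁
      have h3 : x₁ * x₂ ∈ X₁ := h ▸ mem_zpowers (x₁ * x₂)
      have h4 : x₂ = x₁⁻¹ * (x₁ * x₂) := by group
      rw [h4]
      exact X₁.mul_mem (X₁.inv_mem hx₁) h3
    have e2 : zpowers (x₁ * x₂) ≠ X₂ := by
      intro h
      apply hx₁X₂
      have h3 : x₁ * x₂ ∈ X₂ := h ▸ mem_zpowers (x₁ * x₂)
      have h4 : x₁ = (x₁ * x₂) * x₂⁻¹ := by group
      rw [h4]
      exact X₂.mul_mem h3 (X₂.inv_mem hx₂)
    have h5 := honly _ hX₃Q hX₃c e1 e2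
    rw [eq_bot_iff, ← h5]
    intro c hc
    refine mem_inf.mpr ⟨hc.1.1, ?_⟩
    rw [Cfsg.Agent.Helper7.centralizer_zpowers_eq, mem_centralizer_iff]
    intro h hh
    rw [Set.mem_singleton_iff] at hh
    subst hh
    have c1 := (mem_centralizer_iff.mp hc.1.2) x₁ hx₁
    have c2 := (mem_centralizer_iff.mp hc.2.2) x₂ hx₂
    calc x₁ * x₂ * c = x₁ * (x₂ * c) := by group
      _ = x₁ * (c * x₂) := by rw [c2]
      _ = (x₁ * c) * x₂ := by group
      _ = (c * x₁) * x₂ := by rw [c1]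
      _ = c * (x₁ * x₂) := by group
  have hQn : Q ≤ normalizer (P : Set S) := by rw [normalizer_eq_top]; exact le_top
  refine ⟨?_, hinf, ?_⟩
  · -- commuting
    obtain ⟨B, hB⟩ : ∃ B : Subgroup S,
        B = ⁅P ⊓ centralizer (X₁ : Set S), P ⊓ centralizer (X₂ : Set S)⁆ := ⟨_, rfl⟩
    rw [← hB]
    have hBP : B ≤ P := by
      rw [hB]
      exact (commutator_mono inf_le_left inf_le_left).trans (commutator_le_left P P)
    have hQB : Q ≤ normalizer (B : Set S) := by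
      rw [hB]
      exact Cfsg.Agent.Helper10.le_normalizer_commutator_of_le (le_normalizer_cent hQ h₁)
        (le_normalizer_cent hQ h₂)
    have key : ∀ (n : ℕ) (U : Subgroup S), U.Normal → U ≤ P → Nat.card U = n → B ≤ U → B = ⊥ := by
      intro n
      induction n using Nat.strong_induction_on with
      | _ n ih =>
      intro U hUn hUP hUc hBU
      by_cases hU1 : U = ⊥
      · rw [hU1] at hBU
        exact le_bot_iff.mp hBU
      have hlt := Cfsg.Agent.Lead.commutator_lt_of_isPGroup (hP.to_le hUP) hP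
        (by rw [normalizer_eq_top]; exact le_top) hU1
      have hNn : (⁅U, P⁆ : Subgroup S).Normal := inferInstance
      have hNP : ⁅U, P⁆ ≤ P := hlt.le.trans hUP
      have hcardlt : Nat.card ↥(⁅U, P⁆ : Subgroup S) < n := by
        rw [← hUc]
        refine lt_of_le_of_ne (Subgroup.card_le_of_le hlt.le) ?_
        intro h
        exact hlt.ne (Subgroup.eq_of_le_of_card_ge hlt.le h.ge)
      apply ih _ hcardlt (⁅U, P⁆ : Subgroup S) hNn hNP rfl
      -- B ≤ N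
      have hVP : B ⊔ ⁅U, P⁆ ≤ P := sup_le hBP hNP
      have hQV : Q ≤ normalizer ((B ⊔ ⁅U, P⁆ : Subgroup S) : Set S) :=
        Cfsg.Agent.Helper10.le_normalizer_sup_of_le hQB (by rw [normalizer_eq_top]; exact le_top)
      refine le_sup_left.trans (le_of_centralizers hpq hP hQ hQc honly (B ⊔ ⁅U, P⁆) ⁅U, P⁆ hVP hQV ?_ ?_)
      · rw [hB]
        exact step_half hpq hP hQ hS h₁ h₂ hc₁ hinf U hUP (hB ▸ hBU)
      · rw [hB, commutator_comm]
        refine step_half hpq hP hQ hS h₂ h₁ hc₂ (by rw [inf_comm]; exact hinf) U hUP ?_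
        rw [commutator_comm, ← hB]
        exact hBU
    exact key _ P hPn le_rfl rfl hBP
  · -- generation
    apply le_antisymm (sup_le inf_le_left inf_le_left)
    apply le_of_centralizers hpq hP hQ hQc honly P _ le_rfl hQn
    · exact le_sup_left
    · exact le_sup_right

end

/-- Let S = PQ be a finite group with P a normal Sylow p-subgroup and Q elementary abelian of order q², q a prime different from p. If exactly two subgroups X₁, X₂ of order q in Q have a nontrivial centralizer in P, then P is the internal direct product of C_P(X₁) and C_P(X₂): they commute elementwise, meet trivially and generate P. -/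
theorem result {S : Type*} [Group S] [Finite S] {p q : ℕ} [Fact p.Prime] [Fact q.Prime] (hpq : p ≠ q)
    (P : Sylow p S) [(P : Subgroup S).Normal] (Q : Subgroup S) (hQ : Cfsg.IsElementaryAbelian q Q) (hQc : Nat.card Q = q ^ 2)
    (hS : (P : Subgroup S) ⊔ Q = ⊤)
    (X₁ X₂ : Subgroup S) (h₁ : X₁ ≤ Q) (h₂ : X₂ ≤ Q) (h₁₂ : X₁ ≠ X₂) (hc₁ : Nat.card X₁ = q) (hc₂ : Nat.card X₂ = q)
    (hf₁ : (P : Subgroup S) ⊓ Subgroup.centralizer (X₁ : Set S) ≠ ⊥)
    (hf₂ : (P : Subgroup S) ⊓ Subgroup.centralizer (X₂ : Set S) ≠ ⊥)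
    (honly : ∀ X : Subgroup S, X ≤ Q → Nat.card X = q →
      (P : Subgroup S) ⊓ Subgroup.centralizer (X : Set S) ≠ ⊥ → X = X₁ ∨ X = X₂) :
    ⁅(P : Subgroup S) ⊓ Subgroup.centralizer (X₁ : Set S), (P : Subgroup S) ⊓ Subgroup.centralizer (X₂ : Set S)⁆ = ⊥ ∧
      ((P : Subgroup S) ⊓ Subgroup.centralizer (X₁ : Set S)) ⊓ ((P : Subgroup S) ⊓ Subgroup.centralizer (X₂ : Set S)) = ⊥ ∧
      ((P : Subgroup S) ⊓ Subgroup.centralizer (X₁ : Set S)) ⊔ ((P : Subgroup S) ⊓ Subgroup.centralizer (X₂ : Set S)) = P := by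
  refine main hpq P.2 hQ hQc hS h₁ h₂ h₁₂ hc₁ hc₂ ?_
  intro X hX hXc e1 e2
  by_contra hne
  rcases honly X hX hXc hne with h | h
  · exact e1 h
  · exact e2 h


end Cfsg.Agent.S1900
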