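import Cfsg.Statements.S1901
import Mathlib
import Cfsg.Agent.Lead.PSolvHall
import Cfsg.Agent.Lead.Coprime3
import Cfsg.Agent.Helper7.Basic

set_option autoImplicit false
open Cfsg

namespace Cfsg.Agent.S1901

/-- In a `p`-solvable group, a `p`-element normalizing a `p'`-subgroup `Q` which normalizes a Sylow
`p`-subgroup centralizes `Q`. -/
theorem aux.{u} {p : ℕ} [hp : Fact p.Prime] :
    ∀ n : ℕ, ∀ (G : Type u) [Group G] [Finite G], Nat.card G = n → Cfsg.IsPSolvable p G →
      ∀ (P : Sylow p G) (Q : Subgroup G), ¬ p ∣ Nat.card Q →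
        Q ≤ Subgroup.normalizer ((P : Subgroup G) : Set G) →
        ∀ x ∈ Subgroup.normalizer (Q : Set G), (∃ k : ℕ, orderOf x = p ^ k) →
          x ∈ Subgroup.centralizer (Q : Set G) := by
  intro n
  induction n using Nat.strong_induction_on with
  | _ n ih =>
  intro G _ _ hcard hG P Q hQ hQP x hxQ hxp
  obtain ⟨k, hk⟩ := hxp
  have hpp : p.Prime := hp.out
  -- the cyclic group generated by x
  have hXN : Subgroup.zpowers x ≤ Subgroup.normalizer (Q : Set G) := by
    rw [Subgroup.zpowers_le]; exact hxQ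
  have hXcard : Nat.card ↥(Subgroup.zpowers x) = p ^ k := by rw [Nat.card_zpowers, hk]
  have hcopQ : ∀ Q' : Subgroup G, Q' ≤ Q → (Nat.card ↥(Subgroup.zpowers x)).Coprime (Nat.card ↥Q') := by
    intro Q' hQ'
    rw [hXcard]
    apply Nat.Coprime.pow_left
    rw [Nat.Prime.coprime_iff_not_dvd hpp]
    intro hdvd
    exact hQ (hdvd.trans (Subgroup.card_dvd_of_le hQ'))
  have hsolvX : Group.IsSolvable ↥(Subgroup.zpowers x) := inferInstance
  obtain ⟨Q₁, hQ₁def⟩ : ∃ Q₁ : Subgroup G, Q₁ = ⁅Q, Subgroup.zpowers x⁆ := ⟨_, rfl⟩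
  have hQ₁Q : Q₁ ≤ Q := by
    rw [hQ₁def]; exact Cfsg.Agent.Lead.commutator_le_of_le_normalizer hXN
  have hQ₁comm : ⁅Q₁, Subgroup.zpowers x⁆ = Q₁ := by
    rw [hQ₁def]
    exact Cfsg.Agent.Lead.coprime_commutator_commutator (Subgroup.zpowers x) Q hXN (hcopQ Q le_rfl)
      (Or.inl hsolvX)
  -- it suffices to show Q₁ = ⊥
  suffices hbot : Q₁ = ⊥ by
    rw [hQ₁def, Subgroup.commutator_eq_bot_iff_le_centralizer] at hbot
    rw [Subgroup.mem_centralizer_iff]
    intro q hq
    have h1 := hbot hq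
    rw [Subgroup.mem_centralizer_iff] at h1
    exact (h1 x (Subgroup.mem_zpowers x)).symm
  by_contra hne
  have hnt : Nontrivial G := by
    by_contra hnt
    rw [not_nontrivial_iff_subsingleton] at hnt
    exact hne (Subsingleton.elim _ _)
  obtain ⟨M, hMn, hM1, hM⟩ := Cfsg.Agent.Lead.exists_normal_of_isPSolvable hG
  -- the quotient
  have hlt : Nat.card (G ⧸ M) < n := by
    rw [← hcard, ← Subgroup.index_eq_card, ← Subgroup.card_mul_index M]
    have h1 : 1 < Nat.card ↥M := by
      rw [Subgroup.one_lt_card_iff_ne_bot]; exact hM1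
    have h2 : 0 < M.index := Nat.pos_of_ne_zero Subgroup.index_ne_zero_of_finite
    nlinarith
  have hsurj : Function.Surjective (QuotientGroup.mk' M) := QuotientGroup.mk'_surjective M
  have hQ₁P : Q₁ ≤ Subgroup.normalizer ((P : Subgroup G) : Set G) := hQ₁Q.trans hQP
  have hquot := ih _ hlt (G ⧸ M) rfl (Cfsg.Agent.Lead.isPSolvable_quotient hG M)
    (P.mapSurjective hsurj) (Q₁.map (QuotientGroup.mk' M))
    (by
      intro hdvd
      apply hQ
      have h1 : Nat.card ↥(Q₁.map (QuotientGroup.mk' M)) ∣ Nat.card ↥Q₁ := Subgroup.card_map_dvd _ _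
      exact hdvd.trans (h1.trans (Subgroup.card_dvd_of_le hQ₁Q)))
    (by
      rw [Sylow.coe_mapSurjective]
      exact (Subgroup.map_mono hQ₁P).trans (Subgroup.le_normalizer_map _))
    (QuotientGroup.mk' M x)
    (by
      have hxQ₁ : x ∈ Subgroup.normalizer (Q₁ : Set G) := by
        rw [hQ₁def]
        exact Cfsg.Agent.Lead.le_normalizer_commutator_right Q (Subgroup.zpowers x) (Subgroup.mem_zpowers x)
      exact Subgroup.le_normalizer_map _ (Subgroup.mem_map_of_mem _ hxQ₁))
    (by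
      have h1 : orderOf (QuotientGroup.mk' M x) ∣ p ^ k := by
        rw [← hk]; exact orderOf_map_dvd _ x
      obtain ⟨j, -, hj⟩ := (Nat.dvd_prime_pow hpp).mp h1
      exact ⟨j, hj⟩)
  -- hence Q₁ ≤ M
  have hQ₁M : Q₁ ≤ M := by
    rw [← hQ₁comm, Subgroup.commutator_le]
    intro q hq y hy
    rw [← QuotientGroup.ker_mk' M, MonoidHom.mem_ker, commutatorElement_def]
    have h1 : QuotientGroup.mk' M q ∈ Q₁.map (QuotientGroup.mk' M) := Subgroup.mem_map_of_mem _ hq
    have h2 := (Subgroup.mem_centralizer_iff.mp hquot) _ h1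
    -- y is a power of x
    obtain ⟨i, rfl⟩ := Subgroup.mem_zpowers_iff.mp hy
    have h3 : QuotientGroup.mk' M q * (QuotientGroup.mk' M x) ^ i =
        (QuotientGroup.mk' M x) ^ i * QuotientGroup.mk' M q :=
      ((Commute.zpow_right (show Commute (QuotientGroup.mk' M q) (QuotientGroup.mk' M x) from h2) i)).eq
    rw [map_mul, map_mul, map_mul, map_inv, map_inv, map_zpow, h3]
    group
  rcases hM with ⟨m, hm⟩ | hMcop
  · -- M a p-group
    apply hne
    have h1 : Nat.card ↥Q₁ ∣ p ^ m := hm ▸ Subgroup.card_dvd_of_le hQ₁M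
    obtain ⟨j, -, hj⟩ := (Nat.dvd_prime_pow hpp).mp h1
    rw [← Subgroup.card_eq_one, hj]
    cases j with
    | zero => rfl
    | succ i =>
      exfalso
      apply hQ
      have : p ∣ Nat.card ↥Q₁ := by rw [hj, pow_succ]; exact Dvd.intro_left _ rfl
      exact this.trans (Subgroup.card_dvd_of_le hQ₁Q)
  · -- M a p'-group: then P centralizes Q₁
    have hPQ₁ : ⁅Q₁, (P : Subgroup G)⁆ = ⊥ := by
      have h1 : ⁅Q₁, (P : Subgroup G)⁆ ≤ (P : Subgroup G) := by
        rw [Subgroup.commutator_comm]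
        exact Cfsg.Agent.Lead.commutator_le_of_le_normalizer hQ₁P
      have h2 : ⁅Q₁, (P : Subgroup G)⁆ ≤ M :=
        (Subgroup.commutator_mono hQ₁M le_top).trans (Subgroup.commutator_le_left M ⊤)
      have h3 : (Nat.card ↥(⁅Q₁, (P : Subgroup G)⁆)) ∣ Nat.card ↥M := Subgroup.card_dvd_of_le h2
      have h4 : IsPGroup p ↥(⁅Q₁, (P : Subgroup G)⁆) := P.2.to_le h1
      obtain ⟨j, hj⟩ := IsPGroup.iff_card.mp h4
      rw [← Subgroup.card_eq_one, hj]
      cases j with
      | zero => rfl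
      | succ i =>
        exfalso
        have h5 : p ∣ Nat.card ↥M := by
          refine Dvd.dvd.trans ?_ h3
          rw [hj, pow_succ]; exact Dvd.intro_left _ rfl
        exact (Nat.Prime.coprime_iff_not_dvd hpp).mp hMcop.symm h5
    have hPC : (P : Subgroup G) ≤ Subgroup.centralizer (Q₁ : Set G) := by
      rw [Subgroup.commutator_comm, Subgroup.commutator_eq_bot_iff_le_centralizer] at hPQ₁
      exact hPQ₁
    -- x is conjugate in N(Q₁) into P
    have hxQ₁ : x ∈ Subgroup.normalizer (Q₁ : Set G) := by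
      rw [hQ₁def]
      exact Cfsg.Agent.Lead.le_normalizer_commutator_right Q (Subgroup.zpowers x) (Subgroup.mem_zpowers x)
    have hXN₁ : Subgroup.zpowers x ≤ Subgroup.normalizer (Q₁ : Set G) := by
      rw [Subgroup.zpowers_le]; exact hxQ₁
    have hPN₁ : (P : Subgroup G) ≤ Subgroup.normalizer (Q₁ : Set G) :=
      hPC.trans (Subgroup.centralizer_le_normalizer _)
    have hXp : IsPGroup p ↥(Subgroup.zpowers x) := IsPGroup.of_card hXcard
    obtain ⟨g, hg, hgx⟩ := Cfsg.Agent.Helper7.exists_conj_mem_sylow_of_le P hPN₁ hXN₁ hXp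
    -- g x g⁻¹ ∈ P ≤ C(Q₁)
    have h6 := hPC (hgx x (Subgroup.mem_zpowers x))
    -- so x ∈ C(Q₁)
    have hxC : x ∈ Subgroup.centralizer (Q₁ : Set G) := by
      rw [Subgroup.mem_centralizer_iff] at h6 ⊢
      intro q hq
      have hq' : g * q * g⁻¹ ∈ Q₁ := (Subgroup.mem_normalizer_iff.mp hg q).mp hq
      have h7 := h6 _ hq'
      have h8 : q * x = g⁻¹ * ((g * q * g⁻¹) * (g * x * g⁻¹)) * g := by group
      rw [h8, h7]; group
    apply hne
    rw [← hQ₁comm, Subgroup.commutator_eq_bot_iff_le_centralizer]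
    intro q hq
    rw [Subgroup.mem_centralizer_iff]
    intro y hy
    obtain ⟨i, rfl⟩ := Subgroup.mem_zpowers_iff.mp hy
    have h9 : Commute q x := ((Subgroup.mem_centralizer_iff.mp hxC) q hq)
    exact ((Commute.zpow_right h9 i).eq).symm


/-- Let G be a finite p-solvable group and Q a subgroup of order prime to p such that p divides the index of C_G(Q) in N_G(Q). Then Q normalizes no Sylow p-subgroup of G. -/
theorem result {G : Type*} [Group G] [Finite G] {p : ℕ} [Fact p.Prime]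
    (hG : Cfsg.IsPSolvable p G) (Q : Subgroup G) (hQ : ¬ p ∣ Nat.card Q)
    (hA : p ∣ (Subgroup.centralizer (Q : Set G)).relIndex (Subgroup.normalizer (Q : Set G)))
    (P : Sylow p G) : ¬ Q ≤ Subgroup.normalizer ((P : Subgroup G) : Set G) := by
  intro hQP
  apply (Sylow.nonempty (p := p) (G := ↥(Subgroup.normalizer (Q : Set G)))).elim
  intro S
  have hle : (S : Subgroup ↥(Subgroup.normalizer (Q : Set G))) ≤
      (Subgroup.centralizer (Q : Set G)).subgroupOf (Subgroup.normalizer (Q : Set G)) := by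
    intro s hs
    rw [Subgroup.mem_subgroupOf]
    apply aux _ G rfl hG P Q hQ hQP (s : G) s.2
    obtain ⟨k, hk⟩ := (IsPGroup.iff_orderOf.mp S.2) ⟨s, hs⟩
    refine ⟨k, ?_⟩
    rw [← hk, Subgroup.orderOf_mk, Subgroup.orderOf_coe]
  have h1 : ((Subgroup.centralizer (Q : Set G)).subgroupOf (Subgroup.normalizer (Q : Set G))).index ∣
      (S : Subgroup ↥(Subgroup.normalizer (Q : Set G))).index := Subgroup.index_dvd_of_le hle
  exact S.not_dvd_index (hA.trans h1)


end Cfsg.Agent.S1901
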