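import Cfsg.Statements.S1902
import Mathlib
import Cfsg.Agent.S0629
import Cfsg.Agent.Lead.TT3
import Cfsg.Agent.Helper21.PSolv
import Cfsg.Agent.Helper26.Thompson

set_option autoImplicit false
open Cfsg
open scoped Pointwise

namespace Cfsg.Agent.S1902

/-- Let p be an odd prime, G a finite p-solvable group, and B an elementary abelian subgroup of order p² such that B is the subgroup generated by the elements of order p of some Sylow p-subgroup of C_G(b₀), for some nontrivial b₀ ∈ B. Then every B-invariant subgroup of G of order prime to p lies in O_{p'}(G). -/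
theorem result {G : Type*} [Group G] [Finite G] {p : ℕ} [Fact p.Prime] (hp : p ≠ 2)
    (hG : Cfsg.IsPSolvable p G) (B : Subgroup G) (hB : Cfsg.IsElementaryAbelian p B) (hBc : Nat.card B = p ^ 2)
    (b₀ : G) (hb₀ : b₀ ∈ B) (hb₁ : b₀ ≠ 1) (P : Sylow p ↥(Subgroup.centralizer ({b₀} : Set G)))
    (hBP : B = Subgroup.closure {x : G | x ∈ ((P : Subgroup ↥(Subgroup.centralizer ({b₀} : Set G))).map
      (Subgroup.centralizer ({b₀} : Set G)).subtype : Subgroup G) ∧ orderOf x = p})
    (Q : Subgroup G) (hQ : ¬ p ∣ Nat.card Q) (hinv : ∀ b ∈ B, ∀ x ∈ Q, b * x * b⁻¹ ∈ Q) :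
    Q ≤ Cfsg.pPrimeCore p G := by
  classical
  have hpp : p.Prime := Fact.out
  -- `G` is `p`-constrained
  have hcon : Cfsg.IsPConstrained p G := by
    have P0 : Sylow p ↥(Cfsg.pPrimePCore p G) := Classical.arbitrary _
    exact Cfsg.Agent.S0629.result P0 (Cfsg.Agent.Helper21.PSolv.isPSolvable_subgroup hpp hG _)
  have hBcomm := (Cfsg.Agent.Helper26.isElementaryAbelian_iff.mp hB).1
  have hBp : IsPGroup p B := Cfsg.Agent.Helper26.isPGroup_of_isElementaryAbelian hB
  have hBC : B ≤ (Subgroup.centralizer ({b₀} : Set G)) := by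
    intro b hb
    rw [Subgroup.mem_centralizer_iff]
    intro y hy
    rw [Set.mem_singleton_iff] at hy
    subst hy
    exact hBcomm y hb₀ b hb
  -- elements of order `p` of `P` lie in `B`
  have hPB : ∀ y : (Subgroup.centralizer ({b₀} : Set G)), y ∈ (P : Subgroup (Subgroup.centralizer ({b₀} : Set G))) → orderOf (y : G) = p → (y : G) ∈ B := by
    intro y hy hyo
    rw [hBP]
    apply Subgroup.subset_closure
    exact ⟨⟨y, hy, rfl⟩, hyo⟩
  -- the key property of `B`
  have hΩ : ∀ x ∈ Subgroup.centralizer (B : Set G), orderOf x = p → x ∈ B := by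
    intro x hx hxo
    have hxp : x ^ p = 1 := by rw [← hxo]; exact pow_orderOf_eq_one x
    have hx1 : x ≠ 1 := by
      rintro rfl
      rw [orderOf_one] at hxo
      exact hpp.one_lt.ne hxo
    have hxC : x ∈ (Subgroup.centralizer ({b₀} : Set G)) := by
      rw [Subgroup.mem_centralizer_iff]
      intro y hy
      rw [Set.mem_singleton_iff] at hy
      subst hy
      exact (Subgroup.mem_centralizer_iff.mp hx) y hb₀
    set D : Subgroup G := B ⊔ Subgroup.zpowers x with hD
    have hDEA : Cfsg.IsElementaryAbelian p D := by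
      apply Cfsg.Agent.Helper26.isElementaryAbelian_sup hB
        (Cfsg.Agent.Helper26.isElementaryAbelian_zpowers_of_orderOf_eq hxp)
      intro a ha b hb
      obtain ⟨j, rfl⟩ := Subgroup.mem_zpowers_iff.mp hb
      have h1 : Commute a x := (Subgroup.mem_centralizer_iff.mp hx) a ha
      exact h1.zpow_right j
    have hDC : D ≤ (Subgroup.centralizer ({b₀} : Set G)) := sup_le hBC (Subgroup.zpowers_le.mpr hxC)
    have hDp : IsPGroup p (D.subgroupOf (Subgroup.centralizer ({b₀} : Set G))) :=
      (Cfsg.Agent.Helper26.isPGroup_of_isElementaryAbelian hDEA).comap_of_injective (Subgroup.centralizer ({b₀} : Set G)).subtype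
        (Subgroup.centralizer ({b₀} : Set G)).subtype_injective
    obtain ⟨P', hP'⟩ := hDp.exists_le_sylow
    obtain ⟨g, hg⟩ := MulAction.exists_smul_eq (Subgroup.centralizer ({b₀} : Set G)) P' P
    -- conjugating by `g` moves non-identity elements of `D` into `B`
    have hmove : ∀ y ∈ D, (g : G) * y * (g : G)⁻¹ ∈ B := by
      intro y hy
      by_cases hy1 : y = 1
      · rw [hy1]; simp
      have hyC : y ∈ (Subgroup.centralizer ({b₀} : Set G)) := hDC hy
      have hyP' : (⟨y, hyC⟩ : (Subgroup.centralizer ({b₀} : Set G))) ∈ (P' : Subgroup (Subgroup.centralizer ({b₀} : Set G))) := hP' (Subgroup.mem_subgroupOf.mpr hy)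
      have hgy : g * ⟨y, hyC⟩ * g⁻¹ ∈ (P : Subgroup (Subgroup.centralizer ({b₀} : Set G))) := by
        have h1 := Subgroup.smul_mem_pointwise_smul _ (MulAut.conj g) (P' : Subgroup (Subgroup.centralizer ({b₀} : Set G))) hyP'
        have h2 : ((g • P' : Sylow p (Subgroup.centralizer ({b₀} : Set G))) : Subgroup (Subgroup.centralizer ({b₀} : Set G))) = MulAut.conj g • (P' : Subgroup (Subgroup.centralizer ({b₀} : Set G))) := rfl
        rw [hg] at h2
        rw [h2]
        simpa [MulAut.smul_def] using h1
      have hyp : y ^ p = 1 := hDEA.2 y hy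
      have ho : orderOf ((g * ⟨y, hyC⟩ * g⁻¹ : (Subgroup.centralizer ({b₀} : Set G))) : G) = p := by
        apply orderOf_eq_prime
        · simp only [Subgroup.coe_mul, Subgroup.coe_inv]
          rw [conj_pow, hyp]; group
        · simp only [Subgroup.coe_mul, Subgroup.coe_inv]
          intro h
          apply hy1
          have : y = (g : G)⁻¹ * ((g : G) * y * (g : G)⁻¹) * (g : G) := by group
          rw [this, h]; group
      have := hPB _ hgy ho
      simpa using this
    have hmapB : B.map (MulAut.conj (g : G)).toMonoidHom = B := by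
      apply Subgroup.eq_of_le_of_card_ge
      · rintro _ ⟨b, hb, rfl⟩
        simp only [MulEquiv.coe_toMonoidHom, MulAut.conj_apply]
        exact hmove b (le_sup_left (b := Subgroup.zpowers x) hb)
      · rw [Subgroup.card_map_of_injective (MulAut.conj (g : G)).injective]
    have hxB : (g : G) * x * (g : G)⁻¹ ∈ B :=
      hmove x (le_sup_right (a := B) (Subgroup.mem_zpowers x))
    rw [← hmapB] at hxB
    obtain ⟨b, hb, hbe⟩ := hxB
    simp only [MulEquiv.coe_toMonoidHom, MulAut.conj_apply] at hbe
    have : b = x := by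
      have h := congrArg (fun z => (g : G)⁻¹ * z * (g : G)) hbe
      simpa [mul_assoc] using h
    rw [← this]; exact hb
  have hQc : (Nat.card Q).Coprime p := ((Nat.Prime.coprime_iff_not_dvd hpp).mpr hQ).symm
  have hBQ : B ≤ Subgroup.normalizer (Q : Set G) := by
    intro b hb
    rw [Subgroup.mem_normalizer_iff]
    intro x
    constructor
    · exact fun hx => hinv b hb x hx
    · intro hx
      have := hinv b⁻¹ (B.inv_mem hb) _ hx
      have e : b⁻¹ * (b * x * b⁻¹) * b⁻¹⁻¹ = x := by group
      rwa [e] at this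
  exact Cfsg.Agent.Lead.TT.le_pPrimeCore_of_omega hp hcon B Q hBp hΩ hQc hBQ

end Cfsg.Agent.S1902
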