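import Cfsg.Statements.S1903
import Cfsg.Agent.Helper14.G320E
import Cfsg.Agent.Helper14.G320G
import Cfsg.Agent.Helper14.G320H

set_option autoImplicit false
open Cfsg

namespace Cfsg.Agent.S1903

open Cfsg.Agent.Helper14 Cfsg.Agent.Helper14.G320

/-- the centraliser of an element and of its image under an isomorphism -/
theorem centralizer_equiv {A B : Type*} [Group A] [Group B] (E : A ≃* B) (a : A) :
    Nonempty (↥(Subgroup.centralizer ({a} : Set A)) ≃* ↥(Subgroup.centralizer ({E a} : Set B))) := by
  have h : (Subgroup.centralizer ({a} : Set A)).map E.toMonoidHom =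
      Subgroup.centralizer ({E a} : Set B) := by
    ext y
    constructor
    · rintro ⟨x, hx, rfl⟩
      rw [Subgroup.mem_centralizer_iff]
      intro z hz
      rw [Set.mem_singleton_iff] at hz
      subst hz
      have := Subgroup.mem_centralizer_iff.mp hx a (Set.mem_singleton a)
      show E a * E x = E x * E a
      rw [← map_mul, ← map_mul, this]
    · intro hy
      refine ⟨E.symm y, ?_, by simp⟩
      rw [SetLike.mem_coe, Subgroup.mem_centralizer_iff]
      intro z hz
      rw [Set.mem_singleton_iff] at hz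
      subst hz
      have := Subgroup.mem_centralizer_iff.mp hy (E z) (Set.mem_singleton _)
      apply E.injective
      rw [map_mul, map_mul, E.apply_symm_apply]
      exact this
  exact ⟨(E.subgroupMap _).trans (MulEquiv.subgroupCongr h)⟩

/-- A finite group of order 320 whose derived subgroup has order 64 and has centre a Klein four-group is isomorphic to the centralizer of an involution in PSU₃(4). -/
theorem result {G : Type*} [Group G] [Finite G] (hG : Nat.card G = 320) (hD : Nat.card (commutator G) = 64)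
    (hZ : IsKleinFour (Subgroup.center (commutator G)))
    {F : Type*} [Field F] [Fintype F] (hF : Fintype.card F = 16) :
    ∃ t : Cfsg.PSU 3 F 4, orderOf t = 2 ∧ Nonempty (G ≃* Subgroup.centralizer ({t} : Set (Cfsg.PSU 3 F 4))) := by
  obtain ⟨Z, q, S⟩ := exists_setup hG hD hZ
  obtain ⟨b1, b2, a0, a1, a2, a3, hrel, hgen⟩ := exists_rel_of_setup S
  let x : Fin 7 → G := ![b1, b2, a0, a1, a2, a3, q]
  have hx : Rel (x 0) (x 1) (x 2) (x 3) (x 4) (x 5) (x 6) := hrel
  have hgx : Subgroup.closure ({x 6, x 5, x 4, x 3, x 2, x 1, x 0} : Set G) = ⊤ := hgen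
  have hb := bijective_toGrp hG x hx hgx
  have e1 : PG ≃* G := MulEquiv.ofBijective _ hb
  obtain ⟨e2⟩ := model_iso
  have hF' : Fintype.card F = 4 ^ 2 := by rw [hF]; norm_num
  obtain ⟨φ, hφ⟩ := SU316.exists_phi hF
  let E : Γ16 ≃* Cfsg.PSU 3 F 4 :=
    (bcEquiv card16 hF' (RingEquiv.ofBijective φ hφ)).trans (SU316.eSU hF)
  obtain ⟨e3⟩ := centralizer_equiv E eB1
  refine ⟨E eB1, ?_, ⟨e1.symm.trans (e2.trans e3)⟩⟩
  rw [MulEquiv.orderOf_eq, orderOf_eB1]

end Cfsg.Agent.S1903
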