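import Cfsg.Statements.S1904
import Cfsg.Agent.Helper17.S1904H2
import Cfsg.Agent.Helper22.S1904KEY
import Cfsg.Agent.Helper22.S1904BMAX
import Cfsg.Agent.Helper13.S1904A1ii
import Cfsg.Agent.Helper21.S1904A2
import Cfsg.Agent.Helper15.S1904WCARD
import Cfsg.Agent.Helper2.S1904E2
import Cfsg.Agent.Helper2.S1904E3
import Cfsg.Agent.Helper4.S1904E4a
import Cfsg.Agent.Helper16.S1904E4b
import Cfsg.Agent.Helper8.S1904S1
import Cfsg.Agent.Helper6.S1904S2w
import Cfsg.Agent.Helper18.S1904S3
import Cfsg.Agent.Helper6.S1904PN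
import Cfsg.Agent.Helper21.S1904A1i
import Cfsg.Agent.Helper8.S1904B6
import Cfsg.Agent.Helper8.S1904B7a
import Cfsg.Agent.Helper8.S1904B7b
import Cfsg.Agent.Helper8.S1904B7c

set_option autoImplicit false
open Cfsg

namespace Cfsg.Agent.S1904

open Cfsg.Agent.S1904P

/-- Let X be a finite nonabelian 2-group with no normal abelian subgroup that is self-centralizing and contains an elementary abelian subgroup of order 8. Suppose a group A of automorphisms of X of odd order satisfies [X, A] = X. Then X is the quaternion group of order 8, or X is special of order 64 with exactly three involutions, all central, or X is extraspecial of order 32 with exactly eleven involutions (the central product of a quaternion group and a dihedral group of order 8). -/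
theorem result {X : Type*} [Group X] [Finite X] (hX : IsPGroup 2 X) (hna : ¬ IsMulCommutative X)
    (hscn : ¬ ∃ A : Subgroup X, A.Normal ∧ Subgroup.centralizer (A : Set X) = A ∧
      ∃ E : Subgroup X, E ≤ A ∧ Cfsg.IsElementaryAbelian 2 E ∧ Nat.card E = 8)
    (A : Subgroup (MulAut X)) (hA : Odd (Nat.card A))
    (hXA : Subgroup.closure {g : X | ∃ φ ∈ A, ∃ x : X, g = x⁻¹ * φ x} = ⊤) :
    Nonempty (X ≃* QuaternionGroup 2) ∨
      (Cfsg.IsSpecial 2 X ∧ Nat.card X = 64 ∧ Nat.card {x : X // orderOf x = 2} = 3 ∧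
        ∀ x : X, orderOf x = 2 → x ∈ Subgroup.center X) ∨
      (Cfsg.IsExtraspecial 2 X ∧ Nat.card X = 32 ∧ Nat.card {x : X // orderOf x = 2} = 11) := by
  have H : Hyp A := H2 hX hna hscn A hA hXA
  by_cases hα : ∀ n ∈ NN X, (∀ m ∈ NN X, n * m = m * n) → n ∈ Subgroup.center X
  · -- case α
    obtain ⟨hc, hs⟩ := KEY H hα
    have hZ : ∀ z ∈ Subgroup.center X, z * z = 1 := by
      by_cases hW : ∀ φ ∈ A, ∀ w ∈ WW X, φ w = w
      · exact A1i H hc hW
      · exact A1ii H hc hs hW
    obtain ⟨hD, hF⟩ := A2 H hc hs hZ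
    have hsp : Cfsg.IsSpecial 2 X := ⟨hX, hF, hD⟩
    have hWZ : WW X = Subgroup.center X := le_antisymm WW_le_center (fun z hz => ⟨hz, hZ z hz⟩)
    rcases WCARD H with h2 | h4
    · -- extraspecial
      rw [hWZ] at h2
      have hes : Cfsg.IsExtraspecial 2 X := ⟨hsp, h2⟩
      have hle := E2 H hes
      obtain ⟨hge, hne⟩ := E3 hes
      obtain ⟨k, hk⟩ := (IsPGroup.iff_card.1 hX)
      have hk3 : k = 3 ∨ k = 5 := by
        have h1 : 2 ^ 3 ≤ 2 ^ k := by rw [← hk]; exact hge
        have h2' : 2 ^ k ≤ 2 ^ 5 := by rw [← hk]; exact hle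
        have h3 : 3 ≤ k := (Nat.pow_le_pow_iff_right (by norm_num)).1 h1
        have h4 : k ≤ 5 := (Nat.pow_le_pow_iff_right (by norm_num)).1 h2'
        have h5 : k ≠ 4 := by
          rintro rfl
          exact hne (by rw [hk]; norm_num)
        omega
      rcases hk3 with rfl | rfl
      · left
        exact E4a H hes (by rw [hk]; norm_num)
      · right; right
        have h32 : Nat.card X = 32 := by rw [hk]; norm_num
        exact ⟨hes, h32, E4b H hes h32⟩
    · -- special of order 64
      right; left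
      have h4' : Nat.card (Subgroup.center X) = 4 := by rw [← hWZ]; exact h4
      have hinv : ∀ t : X, t * t = 1 → t ∈ Subgroup.center X := by
        intro t ht
        exact WW_le_center (INV H h4 t ht (fun x => hc t x))
      have h64 : Nat.card X = 64 := le_antisymm (S1 hsp hZ h4' hinv) (S2 H hsp hZ h4' hinv)
      obtain ⟨h3, hcen⟩ := S3 hZ h4' hinv
      exact ⟨hsp, h64, h3, hcen⟩
  · -- case β
    obtain ⟨B, hB⟩ := BMAX H hα
    by_cases h4 : ∀ b ∈ B, b ^ 4 = 1
    · right; left
      obtain ⟨hsp, h64, h4', hZ, hinv⟩ := B6 H hB h4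
      obtain ⟨h3, hcen⟩ := S3 hZ h4' hinv
      exact ⟨hsp, h64, h3, hcen⟩
    · exfalso
      push Not at h4
      have hNF := B7a H hB
      have hTU := B7c H hB h4 hNF
      have hT := B7b H hB hNF hTU
      -- `B < ⊤` since `X` is nonabelian
      have hlt : B < ⊤ := by
        rw [lt_top_iff_ne_top]
        intro htop
        apply hna
        refine ⟨⟨fun a b => hB.comm a (by rw [htop]; trivial) b (by rw [htop]; trivial)⟩⟩
      obtain ⟨n, -, hnB, hn2, hn⟩ := PN hX B ⊤ hB.normal inferInstance hlt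
      exact hnB (hT n ⟨hn2, hn⟩)

end Cfsg.Agent.S1904
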