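import Cfsg.Statements.S1906
import Cfsg.Agent.Helper8.S1906CM
import Cfsg.Agent.Helper8.S1906CONJ
import Cfsg.Agent.Helper8.S1906NORMCOMM
import Cfsg.Agent.Helper12.S1906EXTR
import Cfsg.Agent.Helper21.S1906BURN
import Cfsg.Agent.Helper21.S1906COMMINV
import Cfsg.Agent.Helper12.S1906D1
import Cfsg.Agent.Helper19.S1906D2

set_option autoImplicit false
open Cfsg

namespace Cfsg.Agent.S1906

open Cfsg.Agent.S1906P

/-- Let G be a finite group with no subgroup of index 2 whose Sylow 2-subgroup X embeds in GL₃(F) for a finite field F of odd order. If X contains an elementary abelian subgroup of order 8, then X is abelian. -/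
theorem result {G : Type*} [Group G] [Finite G] (hG : ∀ H : Subgroup G, H.index ≠ 2) (X : Sylow 2 G)
    {F : Type*} [Field F] [Fintype F] (hF : Odd (Fintype.card F))
    (f : ↥(X : Subgroup G) →* GL (Fin 3) F) (hf : Function.Injective f)
    (E : Subgroup G) (hE : E ≤ (X : Subgroup G)) (hEa : Cfsg.IsElementaryAbelian 2 E) (hE8 : Nat.card E = 8) :
    IsMulCommutative (X : Subgroup G) := by
  have h2 : (2 : F) ≠ 0 := CHAR2 hF
  by_contra hna
  have hna' : ∃ x y : ↥(X : Subgroup G), x * y ≠ y * x := by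
    by_contra hcon
    push Not at hcon
    exact hna ⟨⟨hcon⟩⟩
  obtain ⟨hEc, hEsq⟩ := hEa
  -- `E` inside `X`
  set E' : Subgroup ↥(X : Subgroup G) := E.subgroupOf (X : Subgroup G) with hE'
  have hc' : ∀ a ∈ E', ∀ b ∈ E', a * b = b * a := by
    intro a ha b hb
    apply Subtype.ext
    have := hEc.is_comm.comm (⟨a.1, ha⟩ : ↥E) ⟨b.1, hb⟩
    exact congrArg (fun z : ↥E => (z : G)) this
  have hsq' : ∀ a ∈ E', a * a = 1 := by
    intro a ha
    apply Subtype.ext
    have := hEsq a.1 ha
    simpa [pow_two] using this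
  have h8' : Nat.card E' = 8 := by
    rw [hE', ← hE8]
    exact Nat.card_congr (Subgroup.subgroupOfEquivOfLe hE).toEquiv
  obtain ⟨e, heE, hfe⟩ := D1 h2 f hf E' hc' hsq' h8'
  have he2 : e * e = 1 := hsq' e heE
  have hec : e ∈ Subgroup.center ↥(X : Subgroup G) := by
    rw [Subgroup.mem_center_iff]
    intro x
    apply hf
    rw [map_mul, map_mul]
    apply Units.ext
    rw [Units.val_mul, Units.val_mul, hfe]
    simp
  have hde : Matrix.GeneralLinearGroup.det (f e) ≠ 1 := by
    intro h
    have h' := congrArg Units.val h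
    rw [Matrix.GeneralLinearGroup.val_det_apply, hfe] at h'
    simp [Matrix.det_neg] at h'
    -- `-1 = 1` in `F` contradicts `2 ≠ 0`
    apply h2
    have : (1 : F) + 1 = 0 := by
      have h4 : (-1 : F) ^ 3 = -1 := by ring
      have h3 : (-1 : F) = 1 := by rw [← h4]; exact h'
      calc (1 : F) + 1 = 1 + -1 * -1 := by ring
        _ = 1 + -1 * 1 := by rw [h3]
        _ = 0 := by ring
    linear_combination this
  have he1 : e ≠ 1 := by
    rintro rfl
    exact hde (by rw [map_one, map_one])
  obtain ⟨g, y, hyg, hyc, hdy⟩ := EXTR hG X f e hec he1 he2 hde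
  obtain ⟨n, hn, hyn⟩ := BURN X e y hec hyc g hyg
  have hP : IsPGroup 2 ↥(X : Subgroup G) := X.isPGroup'
  obtain ⟨t, htc, htz, ht1, ht2⟩ := COMMINV hP hna'
  have hdt : Matrix.GeneralLinearGroup.det (f t) = 1 := by
    have hle : commutator ↥(X : Subgroup G) ≤ (Matrix.GeneralLinearGroup.det.comp f).ker :=
      Abelianization.commutator_subset_ker _
    exact hle htc
  have hy1 : y ≠ 1 := by
    rintro rfl
    apply he1
    have h1 : g * (e : G) * g⁻¹ = 1 := by rw [← hyg]; rfl
    apply Subtype.ext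
    have : (e : G) = g⁻¹ * (g * (e : G) * g⁻¹) * g := by group
    rw [this, h1]; simp
  have hy2 : y * y = 1 := by
    apply Subtype.ext
    have he2' : (e : G) * (e : G) = 1 := congrArg Subtype.val he2
    show (y : G) * (y : G) = 1
    rw [hyg]
    calc g * (e : G) * g⁻¹ * (g * (e : G) * g⁻¹) = g * ((e : G) * (e : G)) * g⁻¹ := by group
      _ = 1 := by rw [he2']; group
  by_cases hyt : y = t
  · have hyc' : y ∈ commutator ↥(X : Subgroup G) := hyt ▸ htc
    have hec' := NORMCOMM (X : Subgroup G) n hn e y hyn hyc'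
    have hle : commutator ↥(X : Subgroup G) ≤ (Matrix.GeneralLinearGroup.det.comp f).ker :=
      Abelianization.commutator_subset_ker _
    exact hde (hle hec')
  · obtain ⟨x₁, x₂, hx⟩ := hna'
    exact hx (D2 h2 f hf y t hyc htz hy2 ht2 hy1 ht1 hyt hdy hdt x₁ x₂)

end Cfsg.Agent.S1906
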