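import Cfsg.Statements.S1907
import Cfsg.Agent.Helper10.PConstrained
import Cfsg.Agent.Lead.Coprime

set_option autoImplicit false
open Cfsg

namespace Cfsg.Agent.S1907

/-- Let P be a Sylow p-subgroup of a finite group G, H = P ∩ O_{p',p}(G), N = N_G(H) and D = O_{p'}(G). (a) If y is an element of p-power order of N and d ∈ D with d⁻¹ y d ∈ N, then d = d₁ d₂ with d₁ ∈ C_D(y) and d₂ ∈ C_D(H). (b) Two elements of P that are conjugate in G are conjugate in N. -/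
theorem result {G : Type*} [Group G] [Finite G] {p : ℕ} [Fact p.Prime] (P : Sylow p G) :
    (∀ y ∈ Subgroup.normalizer (((P : Subgroup G) ⊓ Cfsg.pPrimePCore p G : Subgroup G) : Set G), (∃ k : ℕ, orderOf y = p ^ k) →
      ∀ d ∈ Cfsg.pPrimeCore p G, d⁻¹ * y * d ∈ Subgroup.normalizer (((P : Subgroup G) ⊓ Cfsg.pPrimePCore p G : Subgroup G) : Set G) →
        ∃ d₁ ∈ Cfsg.pPrimeCore p G ⊓ Subgroup.centralizer ({y} : Set G),
          ∃ d₂ ∈ Cfsg.pPrimeCore p G ⊓ Subgroup.centralizer (((P : Subgroup G) ⊓ Cfsg.pPrimePCore p G : Subgroup G) : Set G), d = d₁ * d₂) ∧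
    ∀ x y : G, x ∈ (P : Subgroup G) → y ∈ (P : Subgroup G) → IsConj x y →
      ∃ n ∈ Subgroup.normalizer (((P : Subgroup G) ⊓ Cfsg.pPrimePCore p G : Subgroup G) : Set G), n * x * n⁻¹ = y := by
  classical
  obtain ⟨H, hH⟩ : ∃ H : Subgroup G, H = (P : Subgroup G) ⊓ Cfsg.pPrimePCore p G := ⟨_, rfl⟩
  rw [← hH]
  have hDn : (Cfsg.pPrimeCore p G).Normal := inferInstance
  have hLn : (Cfsg.pPrimePCore p G).Normal := inferInstance
  have hDcop : (Nat.card ↥(Cfsg.pPrimeCore p G)).Coprime p := Cfsg.Agent.Helper19.pPrimeCore_coprime (G := G) p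
  have hHp : IsPGroup p ↥H := by rw [hH]; exact P.2.to_le inf_le_left
  -- p-groups meet D trivially
  have hpD : ∀ B : Subgroup G, IsPGroup p ↥B → ∀ b ∈ B, b ∈ Cfsg.pPrimeCore p G → b = 1 := by
    intro B hB b hb hbD
    have hdisj : B ⊓ Cfsg.pPrimeCore p G = ⊥ := by
      apply (Subgroup.disjoint_of_coprime_natCard _).eq_bot
      obtain ⟨k, hk⟩ := IsPGroup.iff_card.mp hB
      rw [hk]
      exact (Nat.Coprime.pow_right k hDcop).symm
    have : b ∈ B ⊓ Cfsg.pPrimeCore p G := ⟨hb, hbD⟩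
    rw [hdisj] at this
    exact this
  -- part (a), for a general p-subgroup H
  have partA : ∀ y ∈ Subgroup.normalizer (H : Set G), (∃ k : ℕ, orderOf y = p ^ k) →
      ∀ d ∈ Cfsg.pPrimeCore p G, d⁻¹ * y * d ∈ Subgroup.normalizer (H : Set G) →
        ∃ d₁ ∈ Cfsg.pPrimeCore p G ⊓ Subgroup.centralizer ({y} : Set G),
          ∃ d₂ ∈ Cfsg.pPrimeCore p G ⊓ Subgroup.centralizer (H : Set G), d = d₁ * d₂ := by
    intro y hyN hyord d hdD hy'N
    have hzp : ∀ w : G, (∃ k : ℕ, orderOf w = p ^ k) → IsPGroup p ↥(Subgroup.zpowers w) := by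
      intro w ⟨k, hk⟩
      rw [IsPGroup.iff_card]
      exact ⟨k, by rw [Nat.card_zpowers, hk]⟩
    have hy'ord : ∃ k : ℕ, orderOf (d⁻¹ * y * d) = p ^ k := by
      obtain ⟨k, hk⟩ := hyord
      refine ⟨k, ?_⟩
      have : d⁻¹ * y * d = (MulAut.conj d⁻¹) y := by simp
      rw [this, MulEquiv.orderOf_eq, hk]
    have hAp : IsPGroup p ↥(H ⊔ Subgroup.zpowers y : Subgroup G) :=
      hHp.to_sup_of_normal_left' (hzp y hyord) ((Subgroup.zpowers_le).mpr hyN)
    have hBp : IsPGroup p ↥(H ⊔ Subgroup.zpowers (d⁻¹ * y * d) : Subgroup G) :=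
      hHp.to_sup_of_normal_left' (hzp _ hy'ord) ((Subgroup.zpowers_le).mpr hy'N)
    have hyA : y ∈ H ⊔ Subgroup.zpowers y := Subgroup.mem_sup_right (Subgroup.mem_zpowers y)
    have hy'B : d⁻¹ * y * d ∈ H ⊔ Subgroup.zpowers (d⁻¹ * y * d) :=
      Subgroup.mem_sup_right (Subgroup.mem_zpowers _)
    have hBle : H ⊔ Subgroup.zpowers (d⁻¹ * y * d) ≤ Cfsg.pPrimeCore p G ⊔ (H ⊔ Subgroup.zpowers y) := by
      apply sup_le (le_sup_left.trans le_sup_right)
      rw [Subgroup.zpowers_le]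
      exact mul_mem (mul_mem (Subgroup.mem_sup_left (inv_mem hdD)) (Subgroup.mem_sup_right hyA))
        (Subgroup.mem_sup_left hdD)
    have hAle : H ⊔ Subgroup.zpowers y ≤ Cfsg.pPrimeCore p G ⊔ (H ⊔ Subgroup.zpowers (d⁻¹ * y * d)) := by
      apply sup_le (le_sup_left.trans le_sup_right)
      rw [Subgroup.zpowers_le]
      have hmem : d * (d⁻¹ * y * d) * d⁻¹ ∈ Cfsg.pPrimeCore p G ⊔ (H ⊔ Subgroup.zpowers (d⁻¹ * y * d)) :=
        mul_mem (mul_mem (Subgroup.mem_sup_left hdD) (Subgroup.mem_sup_right hy'B))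
          (Subgroup.mem_sup_left (inv_mem hdD))
      have e : d * (d⁻¹ * y * d) * d⁻¹ = y := by group
      rw [e] at hmem
      exact hmem
    -- cardinalities
    have hcard_le : ∀ A B : Subgroup G, IsPGroup p ↥A → IsPGroup p ↥B →
        B ≤ Cfsg.pPrimeCore p G ⊔ A → Nat.card ↥B ∣ Nat.card ↥A := by
      intro A B hA hB hle
      have h1 : Nat.card ↥B ∣ Nat.card ↥(A ⊔ Cfsg.pPrimeCore p G : Subgroup G) := by
        rw [sup_comm]; exact Subgroup.card_dvd_of_le hle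
      have h2 := h1.trans (Cfsg.Agent.Helper19.card_sup_dvd_mul A (Cfsg.pPrimeCore p G))
      obtain ⟨k, hk⟩ := IsPGroup.iff_card.mp hB
      rw [hk] at h2 ⊢
      exact (Nat.Coprime.dvd_mul_right (Nat.Coprime.pow_left k hDcop.symm)).mp h2
    have hcardeq : Nat.card ↥(H ⊔ Subgroup.zpowers (d⁻¹ * y * d) : Subgroup G) =
        Nat.card ↥(H ⊔ Subgroup.zpowers y : Subgroup G) :=
      Nat.dvd_antisymm (hcard_le _ _ hAp hBp hBle) (hcard_le _ _ hBp hAp hAle)
    have hAN : H ⊔ Subgroup.zpowers y ≤ Subgroup.normalizer ((Cfsg.pPrimeCore p G : Subgroup G) : Set G) := by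
      rw [Subgroup.normalizer_eq_top_iff.mpr hDn]; exact le_top
    have hcop : (Nat.card ↥(H ⊔ Subgroup.zpowers y : Subgroup G)).Coprime (Nat.card ↥(Cfsg.pPrimeCore p G)) := by
      obtain ⟨k, hk⟩ := IsPGroup.iff_card.mp hAp
      rw [hk]
      exact (Nat.Coprime.pow_left k hDcop.symm)
    have hsolv : Group.IsSolvable ↥(H ⊔ Subgroup.zpowers y : Subgroup G) := by
      have := hAp.isNilpotent
      infer_instance
    obtain ⟨c, hcD, hc⟩ := Cfsg.Agent.Lead.sz_conj_rel hAN hcop (Or.inl hsolv) hBle hcardeq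
    have hcmem : ∀ a ∈ H ⊔ Subgroup.zpowers y, c * a * c⁻¹ ∈ H ⊔ Subgroup.zpowers (d⁻¹ * y * d) := by
      intro a ha
      rw [← hc]
      have := Subgroup.smul_mem_pointwise_smul a (MulAut.conj c) _ ha
      simpa [MulAut.smul_def, MulAut.conj_apply] using this
    -- c centralizes H
    have hcH : c ∈ Subgroup.centralizer (H : Set G) := by
      rw [Subgroup.mem_centralizer_iff]
      intro h hh
      have h1 := hcmem h (Subgroup.mem_sup_left hh)
      have h2 : c * h * c⁻¹ * h⁻¹ ∈ H ⊔ Subgroup.zpowers (d⁻¹ * y * d) :=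
        mul_mem h1 (inv_mem (Subgroup.mem_sup_left hh))
      have h3 : c * h * c⁻¹ * h⁻¹ ∈ Cfsg.pPrimeCore p G := by
        have : c * h * c⁻¹ * h⁻¹ = c * (h * c⁻¹ * h⁻¹) := by group
        rw [this]
        exact mul_mem hcD (hDn.conj_mem _ (inv_mem hcD) h)
      have h4 := hpD _ hBp _ h2 h3
      have : c * h = h * c := by
        have h5 : c * h * c⁻¹ = h := by
          have := congrArg (· * h) h4
          simpa using this
        calc c * h = (c * h * c⁻¹) * c := by group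
          _ = h * c := by rw [h5]
      exact this.symm
    -- c y c⁻¹ = d⁻¹ y d
    have hcy : c * y * c⁻¹ = d⁻¹ * y * d := by
      have h1 := hcmem y hyA
      have h2 : c * y * c⁻¹ * (d⁻¹ * y * d)⁻¹ ∈ H ⊔ Subgroup.zpowers (d⁻¹ * y * d) :=
        mul_mem h1 (inv_mem hy'B)
      have h3 : c * y * c⁻¹ * (d⁻¹ * y * d)⁻¹ ∈ Cfsg.pPrimeCore p G := by
        have : c * y * c⁻¹ * (d⁻¹ * y * d)⁻¹ = c * (y * (c⁻¹ * d⁻¹) * y⁻¹) * d := by group
        rw [this]
        exact mul_mem (mul_mem hcD (hDn.conj_mem _ (mul_mem (inv_mem hcD) (inv_mem hdD)) y)) hdD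
      have h4 := hpD _ hBp _ h2 h3
      exact mul_inv_eq_one.mp h4
    refine ⟨d * c, Subgroup.mem_inf.mpr ⟨mul_mem hdD hcD, ?_⟩, c⁻¹,
      Subgroup.mem_inf.mpr ⟨inv_mem hcD, inv_mem hcH⟩, by group⟩
    rw [Subgroup.mem_centralizer_iff]
    intro w hw
    rw [Set.mem_singleton_iff] at hw
    subst hw
    have : d * (c * w * c⁻¹) * d⁻¹ = w := by rw [hcy]; group
    calc w * (d * c) = (d * (c * w * c⁻¹) * d⁻¹) * (d * c) := by rw [this]
      _ = d * c * w := by group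
  refine ⟨partA, ?_⟩
  -- part (b)
  intro x y hx hy hxy
  obtain ⟨g, hg⟩ := isConj_iff.mp hxy
  -- P ≤ N
  have hPN : (P : Subgroup G) ≤ Subgroup.normalizer (H : Set G) := by
    intro s hs
    rw [Subgroup.mem_normalizer_iff]
    intro h
    rw [hH]
    constructor
    · intro hh
      exact Subgroup.mem_inf.mpr ⟨mul_mem (mul_mem hs hh.1) (inv_mem hs), hLn.conj_mem h hh.2 s⟩
    · intro hh
      have h1 : s⁻¹ * (s * h * s⁻¹) * s ∈ (P : Subgroup G) := mul_mem (mul_mem (inv_mem hs) hh.1) hs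
      have h2 : s⁻¹ * (s * h * s⁻¹) * s⁻¹⁻¹ ∈ Cfsg.pPrimePCore p G := hLn.conj_mem _ hh.2 s⁻¹
      have e : s⁻¹ * (s * h * s⁻¹) * s = h := by group
      have e2 : s⁻¹ * (s * h * s⁻¹) * s⁻¹⁻¹ = h := by group
      rw [e] at h1; rw [e2] at h2
      exact Subgroup.mem_inf.mpr ⟨h1, h2⟩
  -- L = H D
  have hLHD : Cfsg.pPrimePCore p G ≤ Cfsg.pPrimeCore p G ⊔ H := by
    intro l hl
    obtain ⟨s, hs, k, hk, rfl⟩ := Cfsg.Agent.Helper10.exists_mul_of_mem_pPrimePCore P hl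
    have hsL : s ∈ Cfsg.pPrimePCore p G := by
      have := mul_mem hl (inv_mem (Cfsg.Agent.Helper10.pPrimeCore_le_pPrimePCore (G := G) p hk))
      simpa using this
    exact mul_mem (Subgroup.mem_sup_right (hH ▸ ⟨hs, hsL⟩)) (Subgroup.mem_sup_left hk)
  -- Frattini via Schur–Zassenhaus: g = c * n
  have hHN : H ≤ Subgroup.normalizer ((Cfsg.pPrimeCore p G : Subgroup G) : Set G) := by
    rw [Subgroup.normalizer_eq_top_iff.mpr hDn]; exact le_top
  have hcop : (Nat.card ↥H).Coprime (Nat.card ↥(Cfsg.pPrimeCore p G)) := by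
    obtain ⟨k, hk⟩ := IsPGroup.iff_card.mp hHp
    rw [hk]
    exact (Nat.Coprime.pow_left k hDcop.symm)
  have hsolv : Group.IsSolvable ↥H := by
    have := hHp.isNilpotent
    infer_instance
  have hB : H.map (MulAut.conj g).toMonoidHom ≤ Cfsg.pPrimeCore p G ⊔ H := by
    refine le_trans ?_ hLHD
    rintro _ ⟨h, hh, rfl⟩
    rw [hH] at hh
    exact hLn.conj_mem h hh.2 g
  have hBcard : Nat.card ↥(H.map (MulAut.conj g).toMonoidHom) = Nat.card ↥H :=
    (Nat.card_congr (H.equivMapOfInjective _ (MulAut.conj g).injective).toEquiv).symm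
  obtain ⟨c, hcD, hc⟩ := Cfsg.Agent.Lead.sz_conj_rel hHN hcop (Or.inl hsolv) hB hBcard
  have hnN : c⁻¹ * g ∈ Subgroup.normalizer (H : Set G) := by
    have h1 : g⁻¹ * c ∈ Subgroup.normalizer (H : Set G) := by
      apply Subgroup.mem_normalizer_fintype
      intro h hh
      have h2 : c * h * c⁻¹ ∈ H.map (MulAut.conj g).toMonoidHom := by
        rw [← hc]
        have := Subgroup.smul_mem_pointwise_smul h (MulAut.conj c) _ hh
        simpa [MulAut.smul_def, MulAut.conj_apply] using this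
      obtain ⟨h', hh', he⟩ := h2
      have he' : g * h' * g⁻¹ = c * h * c⁻¹ := he
      have : g⁻¹ * c * h * (g⁻¹ * c)⁻¹ = h' := by
        have : g⁻¹ * c * h * (g⁻¹ * c)⁻¹ = g⁻¹ * (c * h * c⁻¹) * g := by group
        rw [this, ← he']; group
      rw [SetLike.mem_coe, this]
      exact hh'
    have := inv_mem h1
    simpa using this
  -- x' = n x n⁻¹
  set n := c⁻¹ * g with hn
  have hx'N : n * x * n⁻¹ ∈ Subgroup.normalizer (H : Set G) :=
    mul_mem (mul_mem hnN (hPN hx)) (inv_mem hnN)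
  have hx'ord : ∃ k : ℕ, orderOf (n * x * n⁻¹) = p ^ k := by
    obtain ⟨k, hk⟩ := (IsPGroup.iff_orderOf.mp P.2) ⟨x, hx⟩
    rw [Subgroup.orderOf_mk] at hk
    refine ⟨k, ?_⟩
    have : n * x * n⁻¹ = (MulAut.conj n) x := by simp
    rw [this, MulEquiv.orderOf_eq, hk]
  have hyeq : c⁻¹⁻¹ * (n * x * n⁻¹) * c⁻¹ = y := by
    rw [← hg, hn]; group
  have hy'N : c⁻¹⁻¹ * (n * x * n⁻¹) * c⁻¹ ∈ Subgroup.normalizer (H : Set G) := by
    rw [hyeq]; exact hPN hy
  obtain ⟨d₁, hd₁, d₂, hd₂, hdd⟩ := partA _ hx'N hx'ord c⁻¹ (inv_mem hcD) hy'N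
  have hd₂N : d₂ ∈ Subgroup.normalizer (H : Set G) := Subgroup.centralizer_le_normalizer _ hd₂.2
  refine ⟨d₂⁻¹ * n, mul_mem (inv_mem hd₂N) hnN, ?_⟩
  have hd₁c : d₁ ∈ Subgroup.centralizer ({n * x * n⁻¹} : Set G) := hd₁.2
  rw [Subgroup.mem_centralizer_iff] at hd₁c
  have h1 := hd₁c (n * x * n⁻¹) rfl
  rw [← hyeq, hdd]
  have : (d₁ * d₂)⁻¹ * (n * x * n⁻¹) * (d₁ * d₂) = d₂⁻¹ * (d₁⁻¹ * ((n * x * n⁻¹) * d₁)) * d₂ := by group
  rw [this, h1]
  group

end Cfsg.Agent.S1907
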