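import Mathlib
import Cfsg.Statements.S1922

set_option autoImplicit false
set_option linter.unusedSectionVars false
open Cfsg

namespace Cfsg.Agent.S1922

/-! ### A parity lemma for involutions of a finite set with one fixed point -/

theorem odd_card_of_involution {α : Type*} [DecidableEq α] (s : Finset α) (f : α → α) (a : α)
    (ha : a ∈ s) (hfa : f a = a) (hf : ∀ x ∈ s, f x ∈ s) (hff : ∀ x ∈ s, f (f x) = x)
    (hfix : ∀ x ∈ s, f x = x → x = a) : Odd s.card := by
  have h0 : ∑ x ∈ s.erase a, (1 : ZMod 2) = 0 := by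
    refine Finset.sum_involution (fun x _ => f x) ?_ ?_ ?_ ?_
    · intro x _; decide
    · intro x hx _ hfx
      exact (Finset.mem_erase.mp hx).1 (hfix x (Finset.mem_of_mem_erase hx) hfx)
    · intro x hx
      have hxs := Finset.mem_of_mem_erase hx
      refine Finset.mem_erase.mpr ⟨?_, hf x hxs⟩
      intro h
      have h2 : f (f x) = f a := by rw [h]
      rw [hff x hxs, hfa] at h2
      exact (Finset.mem_erase.mp hx).1 h2
    · intro x hx
      exact hff x (Finset.mem_of_mem_erase hx)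
  have h1 : ((s.erase a).card : ZMod 2) = 0 := by
    rw [← h0]; simp
  have h2 : Even (s.erase a).card := by
    rw [← ZMod.natCast_eq_zero_iff_even]; exact h1
  rw [Finset.card_erase_of_mem ha] at h2
  have hpos : 0 < s.card := Finset.card_pos.mpr ⟨a, ha⟩
  obtain ⟨k, hk⟩ := h2
  exact ⟨k, by omega⟩


/-! ### Dihedral computations -/

section dihedral
variable {G : Type*} [Group G]

theorem inv_eq_self_of_sq {a : G} (ha : a * a = 1) : a⁻¹ = a := inv_eq_of_mul_eq_one_left ha

/-- `a ρⁿ a = ρ⁻ⁿ` if `a ρ a = ρ⁻¹`, `a² = 1`. -/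
theorem conj_rot_pow {a ρ : G} (ha : a * a = 1) (h : a * ρ * a = ρ⁻¹) (n : ℕ) :
    a * ρ ^ n * a = (ρ ^ n)⁻¹ := by
  have ha' : a⁻¹ = a := inv_eq_self_of_sq ha
  calc a * ρ ^ n * a = a * ρ ^ n * a⁻¹ := by rw [ha']
    _ = (a * ρ * a⁻¹) ^ n := (conj_pow).symm
    _ = (ρ⁻¹) ^ n := by rw [ha', h]
    _ = (ρ ^ n)⁻¹ := inv_pow _ _

theorem rot_conj_refl {a ρ : G} (ha : a * a = 1) (h : a * ρ * a = ρ⁻¹) (i : ℕ) :
    ρ ^ i * a * (ρ ^ i)⁻¹ = ρ ^ (2 * i) * a := by
  rw [← conj_rot_pow ha h i]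
  calc ρ ^ i * a * (a * ρ ^ i * a) = ρ ^ i * (a * a) * ρ ^ i * a := by group
    _ = ρ ^ (2 * i) * a := by rw [ha, mul_one, ← pow_add, two_mul]

theorem rot_conj_refl' {a ρ : G} (ha : a * a = 1) (h : a * ρ * a = ρ⁻¹) (i : ℕ) :
    ρ ^ i * (ρ * a) * (ρ ^ i)⁻¹ = ρ ^ (2 * i + 1) * a := by
  calc ρ ^ i * (ρ * a) * (ρ ^ i)⁻¹ = ρ * (ρ ^ i * a * (ρ ^ i)⁻¹) := by
        rw [← mul_assoc (ρ ^ i) ρ a, pow_mul_comm']; group
    _ = ρ ^ (2 * i + 1) * a := by
        rw [rot_conj_refl ha h i, ← mul_assoc, ← pow_succ']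

/-- Every `ρˡ a` is conjugate to `a` or to `ρ a`. -/
theorem refl_isConj {a ρ : G} (ha : a * a = 1) (h : a * ρ * a = ρ⁻¹) (l : ℕ) :
    IsConj a (ρ ^ l * a) ∨ IsConj (ρ * a) (ρ ^ l * a) := by
  rcases Nat.even_or_odd' l with ⟨i, rfl | rfl⟩
  · left; exact isConj_iff.mpr ⟨ρ ^ i, rot_conj_refl ha h i⟩
  · right; exact isConj_iff.mpr ⟨ρ ^ i, rot_conj_refl' ha h i⟩

end dihedral


/-! ### Elements with a unique fixed point -/

section action
variable {G : Type*} [Group G] {X : Type*} [MulAction G X]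

/-- `x` is the unique fixed point of `d`. -/
def FP (d : G) (x : X) : Prop := ∀ y : X, d • y = y ↔ y = x

theorem FP.conj {d : G} {x : X} (h : FP d x) (g : G) : FP (g * d * g⁻¹) (g • x) := by
  intro y
  rw [mul_smul, mul_smul, smul_eq_iff_eq_inv_smul, h (g⁻¹ • y), inv_smul_eq_iff]

theorem FP.unique {d : G} {x x' : X} (h : FP d x) (h' : FP d x') : x = x' :=
  (h' x).mp ((h x).mpr rfl)

theorem FP.fixed {d : G} {x : X} (h : FP d x) : d • x = x := (h x).mpr rfl

theorem FP.of_commute {d : G} {x : X} (h : FP d x) (e : G) (he : e * d = d * e) : e • x = x := by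
  apply (h _).mp
  rw [← mul_smul, ← he, mul_smul, h.fixed]

variable [Finite G] (z : G) (x₀ : X)

/-- The standing hypotheses. -/
structure Hyp : Prop where
  hzz : z * z = 1
  hz : FP z x₀
  h1 : ∀ t, IsConj z t → t ≠ z → t * z = z * t → FP (z * t) x₀

variable {z x₀}

theorem Hyp.exists_fp (H : Hyp z x₀) {d : G} (hd : IsConj z d) : ∃ x : X, FP d x := by
  obtain ⟨g, rfl⟩ := isConj_iff.mp hd
  exact ⟨g • x₀, H.hz.conj g⟩

theorem Hyp.sq (H : Hyp z x₀) {d : G} (hd : IsConj z d) : d * d = 1 := by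
  obtain ⟨g, rfl⟩ := isConj_iff.mp hd
  calc g * z * g⁻¹ * (g * z * g⁻¹) = g * (z * z) * g⁻¹ := by group
    _ = 1 := by rw [H.hzz]; group

theorem Hyp.h1' (H : Hyp z x₀) {d t : G} {x : X} (hd : IsConj z d) (ht : IsConj z t)
    (hne : t ≠ d) (hc : t * d = d * t) (hx : FP d x) : FP (d * t) x := by
  obtain ⟨g, rfl⟩ := isConj_iff.mp hd
  have hx' : x = g • x₀ := hx.unique (H.hz.conj g)
  have h1 : IsConj z (g⁻¹ * t * g) := by
    refine ht.trans (isConj_iff.mpr ⟨g⁻¹, by group⟩)
  have h2 : g⁻¹ * t * g ≠ z := by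
    intro h
    apply hne
    rw [← h]; group
  have h3 : g⁻¹ * t * g * z = z * (g⁻¹ * t * g) := by
    have : g⁻¹ * (t * (g * z * g⁻¹)) * g = g⁻¹ * ((g * z * g⁻¹) * t) * g := by rw [hc]
    calc g⁻¹ * t * g * z = g⁻¹ * (t * (g * z * g⁻¹)) * g := by group
      _ = g⁻¹ * ((g * z * g⁻¹) * t) * g := this
      _ = z * (g⁻¹ * t * g) := by group
  have h4 := (H.h1 _ h1 h2 h3).conj g
  have h5 : g * (z * (g⁻¹ * t * g)) * g⁻¹ = g * z * g⁻¹ * t := by group
  rw [h5] at h4
  rw [hx']; exact h4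

/-- Two conjugates of `z` with different fixed points are swapped by a conjugate of `z`. -/
theorem Hyp.exists_swap (H : Hyp z x₀) {a c : G} {β γ : X} (ha : IsConj z a) (hc : IsConj z c)
    (hβ : FP a β) (hγ : FP c γ) (hne : β ≠ γ) : ∃ r, IsConj z r ∧ r * a * r⁻¹ = c := by
  have haa := H.sq ha
  have hcc := H.sq hc
  have ha' : a⁻¹ = a := inv_eq_self_of_sq haa
  have hc' : c⁻¹ = c := inv_eq_self_of_sq hcc
  obtain ⟨ρ, hρ⟩ : ∃ ρ, ρ = c * a := ⟨_, rfl⟩
  have hρa : ρ * a = c := by rw [hρ, mul_assoc, haa, mul_one]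
  have hinv : a * ρ * a = ρ⁻¹ := by
    rw [hρ, mul_inv_rev, ha', hc']
    calc a * (c * a) * a = a * c * (a * a) := by group
      _ = a * c := by rw [haa, mul_one]
  have hconj : ∀ l : ℕ, IsConj z (ρ ^ l * a) := by
    intro l
    rcases refl_isConj haa hinv l with h | h
    · exact ha.trans h
    · rw [hρa] at h; exact hc.trans h
  have hk : 0 < orderOf ρ := orderOf_pos ρ
  rcases Nat.even_or_odd' (orderOf ρ) with ⟨l, hl | hl⟩
  · -- even order: contradiction
    exfalso
    have hl0 : l ≠ 0 := by omega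
    obtain ⟨e, he⟩ : ∃ e, e = ρ ^ l := ⟨_, rfl⟩
    have he1 : e ≠ 1 := by
      rw [he]; exact pow_ne_one_of_lt_orderOf hl0 (by omega)
    have hee : e * e = 1 := by
      rw [he, ← pow_add, ← two_mul, ← hl, pow_orderOf_eq_one]
    have he' : e⁻¹ = e := inv_eq_self_of_sq hee
    have hae : a * e = e * a := by
      have := conj_rot_pow haa hinv l
      rw [← he, he'] at this
      calc a * e = a * e * (a * a) := by rw [haa, mul_one]
        _ = a * e * a * a := by group
        _ = e * a := by rw [this]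
    have hρe : ρ * e = e * ρ := by rw [he, ← pow_succ', ← pow_succ]
    have hce : c * e = e * c := by
      rw [← hρa, mul_assoc, hae, ← mul_assoc, hρe, mul_assoc]
    -- `e` fixes `β` and `γ`
    have heβ : e • β = β := hβ.of_commute e hae.symm
    have heγ : e • γ = γ := hγ.of_commute e hce.symm
    -- `e a` is a conjugate of `z` commuting with `a`
    have h1 : IsConj z (e * a) := by rw [he]; exact hconj l
    have h2 : e * a ≠ a := by
      intro h; apply he1
      calc e = e * a * a⁻¹ := by group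
        _ = 1 := by rw [h]; group
    have h3 : e * a * a = a * (e * a) := by rw [← mul_assoc, hae]
    have h4 := H.h1' ha h1 h2 h3 hβ
    have h5 : a * (e * a) = e := by rw [← mul_assoc, hae, mul_assoc, haa, mul_one]
    rw [h5] at h4
    exact hne ((h4 γ).mp heγ).symm
  · -- odd order
    refine ⟨ρ ^ (l + 1) * a, hconj _, ?_⟩
    have h1 : (ρ ^ (l + 1) * a)⁻¹ = a * (ρ ^ (l + 1))⁻¹ := by rw [mul_inv_rev, ha']
    rw [h1]
    calc ρ ^ (l + 1) * a * a * (a * (ρ ^ (l + 1))⁻¹)
        = ρ ^ (l + 1) * (a * a) * a * (ρ ^ (l + 1))⁻¹ := by group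
      _ = ρ ^ (l + 1) * a * (ρ ^ (l + 1))⁻¹ := by rw [haa, mul_one]
      _ = ρ ^ (2 * (l + 1)) * a := rot_conj_refl haa hinv _
      _ = c := by
        have : 2 * (l + 1) = orderOf ρ + 1 := by omega
        rw [this, pow_succ, pow_orderOf_eq_one, one_mul, hρa]


/-- Under the standing hypotheses (and transitivity), the class of `z` has odd size. -/
theorem Hyp.odd_card (H : Hyp z x₀) [Fintype X] [DecidableEq X]
    (htr : ∀ x : X, ∃ g : G, g • x₀ = x) (hne : ∃ x : X, x ≠ x₀) :
    Odd (Nat.card {d : G // IsConj z d}) := by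
  classical
  have : Fintype G := Fintype.ofFinite G
  -- fixed point function
  have hfp : ∀ d : G, ∃ x : X, IsConj z d → FP d x := by
    intro d
    by_cases hd : IsConj z d
    · obtain ⟨x, hx⟩ := H.exists_fp hd; exact ⟨x, fun _ => hx⟩
    · exact ⟨x₀, fun h => absurd h hd⟩
  choose fp hfp using hfp
  let I : Finset G := Finset.univ.filter (fun d => IsConj z d)
  let M : X → X → Finset G := fun β γ => I.filter (fun d => d • β = γ)
  let J : X → Finset G := fun γ => I.filter (fun d => fp d = γ)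
  have hM : ∀ β γ d, d ∈ M β γ ↔ IsConj z d ∧ d • β = γ := by intro β γ d; simp [M, I]
  have hJ : ∀ γ d, d ∈ J γ ↔ IsConj z d ∧ FP d γ := by
    intro γ d
    simp only [J, I, Finset.mem_filter, Finset.mem_univ, true_and]
    constructor
    · rintro ⟨hd, rfl⟩; exact ⟨hd, hfp d hd⟩
    · rintro ⟨hd, h⟩; exact ⟨hd, (hfp d hd).unique h⟩
  have hJM : ∀ γ, J γ = M γ γ := by
    intro γ; ext d; rw [hJ, hM]
    constructor
    · rintro ⟨hd, h⟩; exact ⟨hd, h.fixed⟩
    · rintro ⟨hd, h⟩; refine ⟨hd, ?_⟩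
      have := hfp d hd
      have e : γ = fp d := (this γ).mp h
      rw [e]; exact this
  -- count 1
  have c1 : ∀ β, ∑ γ, (M β γ).card = I.card := by
    intro β
    exact (Finset.card_eq_sum_card_fiberwise (f := fun d => d • β) (s := I) (t := Finset.univ)
      (fun _ _ => Finset.mem_coe.mpr (Finset.mem_univ _))).symm
  have c2 : ∑ γ, (J γ).card = I.card :=
    (Finset.card_eq_sum_card_fiberwise (f := fp) (s := I) (t := Finset.univ)
      (fun _ _ => Finset.mem_coe.mpr (Finset.mem_univ _))).symm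
  -- every point has a conjugate fixing it
  have hJne : ∀ β, ∃ a, a ∈ J β := by
    intro β
    obtain ⟨g, rfl⟩ := htr β
    exact ⟨g * z * g⁻¹, (hJ _ _).mpr ⟨isConj_iff.mpr ⟨g, rfl⟩, H.hz.conj g⟩⟩
  -- inequality
  have hle : ∀ β γ, (J γ).card ≤ (M β γ).card := by
    intro β γ
    by_cases hβγ : β = γ
    · subst hβγ; rw [hJM]
    obtain ⟨a₀, ha₀⟩ := hJne β
    obtain ⟨ha₀c, ha₀β⟩ := (hJ _ _).mp ha₀
    have hex : ∀ c : G, ∃ r : G, c ∈ J γ → (IsConj z r ∧ r * a₀ * r⁻¹ = c) := by
      intro c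
      by_cases hc : c ∈ J γ
      · obtain ⟨hcc, hcγ⟩ := (hJ _ _).mp hc
        obtain ⟨r, hr⟩ := H.exists_swap ha₀c hcc ha₀β hcγ hβγ
        exact ⟨r, fun _ => hr⟩
      · exact ⟨1, fun h => absurd h hc⟩
    choose r hr using hex
    apply Finset.card_le_card_of_injOn r
    · intro c hc
      obtain ⟨h1, h2⟩ := hr c hc
      show r c ∈ M β γ
      rw [hM]
      refine ⟨h1, ?_⟩
      have h3 : FP (r c * a₀ * (r c)⁻¹) (r c • β) := ha₀β.conj (r c)
      rw [h2] at h3
      exact h3.unique ((hJ _ _).mp hc).2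
    · intro c hc c' hc' h
      rw [← (hr c hc).2, ← (hr c' hc').2, h]
  -- equality
  have heq : ∀ β γ, (M β γ).card = (J γ).card := by
    intro β γ
    have := (Finset.sum_eq_sum_iff_of_le (s := Finset.univ) (f := fun γ => (J γ).card)
      (g := fun γ => (M β γ).card) (fun γ _ => hle β γ)).mp (by rw [c2, c1])
    exact (this γ (Finset.mem_univ _)).symm
  -- parity
  have hodd : ∀ γ, Odd (J γ).card := by
    intro γ
    obtain ⟨δ, hδ⟩ : ∃ δ : X, δ ≠ γ := by
      obtain ⟨x, hx⟩ := hne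
      by_cases h : γ = x₀
      · exact ⟨x, by rw [h]; exact hx⟩
      · exact ⟨x₀, fun h' => h h'.symm⟩
    obtain ⟨d, hd⟩ := hJne δ
    obtain ⟨hdc, hdδ⟩ := (hJ _ _).mp hd
    have hdd := H.sq hdc
    have hd' : d⁻¹ = d := inv_eq_self_of_sq hdd
    rw [← heq (d • γ) γ]
    have hdγ : d • (d • γ) = γ := by rw [← mul_smul, hdd, one_smul]
    have hβδ : d • γ ≠ δ := by
      intro h
      apply hδ
      have : γ = d • δ := by rw [← h, hdγ]
      rw [this, hdδ.fixed]
    apply odd_card_of_involution (M (d • γ) γ) (fun r => d * r * d⁻¹) d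
    · rw [hM]; exact ⟨hdc, hdγ⟩
    · group
    · intro r hr
      obtain ⟨hrc, hrγ⟩ := (hM _ _ _).mp hr
      rw [hM]
      refine ⟨hrc.trans (isConj_iff.mpr ⟨d, rfl⟩), ?_⟩
      have hrr := H.sq hrc
      have h1 : r • γ = d • γ := by
        have : r • (r • (d • γ)) = r • γ := by rw [hrγ]
        rw [← mul_smul, hrr, one_smul] at this
        exact this.symm
      rw [hd', mul_smul, mul_smul, hdγ, h1, hdγ]
    · intro r _
      show d * (d * r * d⁻¹) * d⁻¹ = r
      calc d * (d * r * d⁻¹) * d⁻¹ = (d * d) * r * (d * d)⁻¹ := by group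
        _ = r := by rw [hdd]; group
    · intro r hr hfix
      obtain ⟨hrc, hrγ⟩ := (hM _ _ _).mp hr
      by_contra hrd
      have hcomm : r * d = d * r := by
        calc r * d = (d * r * d⁻¹) * d := by rw [hfix]
          _ = d * r := by group
      have h1 := H.h1' hdc hrc hrd hcomm hdδ
      have h2 : (d * r) • (d • γ) = d • γ := by rw [mul_smul, hrγ]
      exact hβδ ((h1 _).mp h2)
  -- `|X|` is odd
  have hX : Odd (Finset.univ : Finset X).card := by
    apply odd_card_of_involution Finset.univ (fun x => z • x) x₀ (Finset.mem_univ _) H.hz.fixed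
    · intro x _; exact Finset.mem_univ _
    · intro x _; rw [← mul_smul, H.hzz, one_smul]
    · intro x _ h; exact (H.hz x).mp h
  -- conclusion
  have hIodd : Odd I.card := by
    rw [← c2, ← ZMod.natCast_eq_one_iff_odd]
    push_cast
    have : ∀ γ ∈ (Finset.univ : Finset X), ((J γ).card : ZMod 2) = 1 :=
      fun γ _ => (ZMod.natCast_eq_one_iff_odd).mpr (hodd γ)
    rw [Finset.sum_congr rfl this, Finset.sum_const, nsmul_eq_mul, mul_one]
    exact (ZMod.natCast_eq_one_iff_odd).mpr hX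
  have : Nat.card {d : G // IsConj z d} = I.card := by
    rw [Nat.card_eq_fintype_card, Fintype.card_subtype]
  rw [this]; exact hIodd

end action


/-! ### From an odd class to a `2`-central element -/

section sylow
variable {G : Type*} [Group G] [Finite G]

/-- if `p` does not divide the index of `H` then `H` contains a Sylow `p`-subgroup of `G` -/
theorem exists_sylow_le_of_not_dvd_index {p : ℕ} [Fact p.Prime] (H : Subgroup G)
    (hH : ¬ p ∣ H.index) : ∃ S : Sylow p G, (S : Subgroup G) ≤ H := by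
  obtain ⟨S'⟩ : Nonempty (Sylow p H) := inferInstance
  have hcard : Nat.card ((S' : Subgroup H).map H.subtype) = p ^ (Nat.card G).factorization p := by
    rw [Subgroup.card_subtype, S'.card_eq_multiplicity]
    congr 1
    have h1 : Nat.card G = Nat.card H * H.index := (Subgroup.card_mul_index H).symm
    have hidx : H.index ≠ 0 := Subgroup.index_ne_zero_of_finite
    rw [h1, Nat.factorization_mul Nat.card_pos.ne' hidx]
    have h2 : (H.index).factorization p = 0 := Nat.factorization_eq_zero_of_not_dvd hH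
    simp [h2]
  refine ⟨Sylow.ofCard _ hcard, ?_⟩
  rw [Sylow.coe_ofCard]
  rintro _ ⟨x, _, rfl⟩
  exact x.2

theorem index_centralizer_eq (z : G) :
    (Subgroup.centralizer ({z} : Set G)).index = Nat.card {d : G // IsConj z d} := by
  have hc := Subgroup.nat_card_centralizer_nat_card_stabilizer z
  have e1 := Subgroup.card_mul_index (Subgroup.centralizer ({z} : Set G))
  have e2 := Subgroup.card_mul_index (MulAction.stabilizer (ConjAct G) z)
  have e3 : Nat.card (ConjAct G) = Nat.card G := Nat.card_congr ConjAct.ofConjAct.toEquiv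
  have hpos : 0 < Nat.card (Subgroup.centralizer ({z} : Set G)) := Nat.card_pos
  have h1 : (Subgroup.centralizer ({z} : Set G)).index =
      (MulAction.stabilizer (ConjAct G) z).index := by
    apply Nat.eq_of_mul_eq_mul_left hpos
    rw [e1, hc, e2, e3]
  rw [h1, MulAction.index_stabilizer, ← Nat.card_coe_set_eq]
  apply Nat.card_congr
  apply Equiv.subtypeEquivRight
  intro d
  rw [ConjAct.mem_orbit_conjAct, isConj_comm]

theorem two_central_of_odd_class (z : G) (hz : orderOf z = 2)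
    (hodd : Odd (Nat.card {d : G // IsConj z d})) :
    ∃ P : Sylow 2 G, z ∈ (Subgroup.center ↥(P : Subgroup G)).map (P : Subgroup G).subtype := by
  have : Fact (Nat.Prime 2) := ⟨Nat.prime_two⟩
  rw [← index_centralizer_eq] at hodd
  have h2 : ¬ 2 ∣ (Subgroup.centralizer ({z} : Set G)).index := by
    rw [← even_iff_two_dvd, Nat.not_even_iff_odd]; exact hodd
  obtain ⟨P, hP⟩ := exists_sylow_le_of_not_dvd_index _ h2
  have hcomm : ∀ y ∈ (P : Subgroup G), y * z = z * y := fun y hy =>
    Subgroup.mem_centralizer_singleton_iff.mp (hP hy)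
  have hzP : z ∈ (P : Subgroup G) := by
    have hzp : IsPGroup 2 (Subgroup.zpowers z) := by
      apply IsPGroup.of_card (n := 1)
      rw [Nat.card_zpowers, hz, pow_one]
    have hnorm : Subgroup.zpowers z ≤ Subgroup.normalizer ((P : Subgroup G) : Set G) := by
      rw [Subgroup.zpowers_le]
      rw [Subgroup.mem_normalizer_iff]
      intro y
      constructor
      · intro hy
        have : z * y * z⁻¹ = y := by rw [← hcomm y hy]; group
        rw [this]; exact hy
      · intro hy
        have h1 := hcomm _ hy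
        have : y = z * y * z⁻¹ := by
          have h3 : z * y * z⁻¹ * z = z * (z * y * z⁻¹) := h1
          have : z * y = z * (z * y * z⁻¹) := by rw [← h3]; group
          exact mul_left_cancel this
        rw [this]; exact hy
    have hsup : IsPGroup 2 ↥((P : Subgroup G) ⊔ Subgroup.zpowers z) :=
      IsPGroup.to_sup_of_normal_left' P.isPGroup' hzp hnorm
    have := P.is_maximal' hsup le_sup_left
    rw [← this]
    exact Subgroup.mem_sup_right (Subgroup.mem_zpowers z)
  refine ⟨P, ⟨⟨z, hzP⟩, ?_, rfl⟩⟩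
  rw [SetLike.mem_coe, Subgroup.mem_center_iff]
  rintro ⟨y, hy⟩
  apply Subtype.ext
  exact hcomm y hy

end sylow


/-! ### Sylow conjugation inside a subgroup -/

section sylowconj
open Subgroup
open scoped Pointwise

variable {G : Type*} [Group G] [Finite G] {p : ℕ} [hpf : Fact p.Prime]

theorem mem_smul_sylow_iff (P : Sylow p G) (g y : G) :
    y ∈ ((g • P : Sylow p G) : Subgroup G) ↔ g⁻¹ * y * g ∈ (P : Subgroup G) := by
  rw [Sylow.coe_subgroup_smul, Subgroup.mem_pointwise_smul_iff_inv_smul_mem]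
  simp [MulAut.smul_def]

/-- If `P ≤ C` and `z ∈ C` is a `p`-element then some `C`-conjugate of `z` lies in `P`. -/
theorem exists_conj_mem_sylow (P : Sylow p G) (C : Subgroup G)
    (hle : (P : Subgroup G) ≤ C) (z : G) (hz : z ∈ C)
    (hzp : IsPGroup p (zpowers z)) :
    ∃ c ∈ C, c⁻¹ * z * c ∈ (P : Subgroup G) := by
  obtain ⟨Q0, hQ0⟩ : ∃ Q0 : Sylow p C, Q0 = P.subtype hle := ⟨_, rfl⟩
  have hR : IsPGroup p ((zpowers z).subgroupOf C) := by
    have hinj : Function.Injective C.subtype := C.subtype_injective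
    exact hzp.comap_of_injective C.subtype hinj
  obtain ⟨Q1, hQ1⟩ := hR.exists_le_sylow
  obtain ⟨c, hc⟩ := MulAction.exists_smul_eq C Q0 Q1
  refine ⟨c, c.2, ?_⟩
  have hzQ1 : (⟨z, hz⟩ : C) ∈ (Q1 : Subgroup C) := by
    apply hQ1
    rw [Subgroup.mem_subgroupOf]
    exact Subgroup.mem_zpowers z
  rw [← hc] at hzQ1
  rw [mem_smul_sylow_iff] at hzQ1
  rw [hQ0, Sylow.coe_subtype, Subgroup.mem_subgroupOf] at hzQ1
  simpa using hzQ1

end sylowconj

/-! ### The coset action -/

section final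
variable {G : Type*} [Group G]

theorem mem_map_conj_iff (H : Subgroup G) (g d : G) :
    d ∈ H.map (MulAut.conj g).toMonoidHom ↔ g⁻¹ * d * g ∈ H := by
  constructor
  · rintro ⟨h, hh, rfl⟩
    simp only [MulEquiv.coe_toMonoidHom, MulAut.conj_apply]
    have : g⁻¹ * (g * h * g⁻¹) * g = h := by group
    rw [this]; exact hh
  · intro h
    refine ⟨g⁻¹ * d * g, h, ?_⟩
    simp only [MulEquiv.coe_toMonoidHom, MulAut.conj_apply]
    group

theorem smul_coset_eq_iff (H : Subgroup G) (g d : G) :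
    d • (g • ((1 : G) : G ⧸ H)) = g • ((1 : G) : G ⧸ H) ↔ g⁻¹ * d * g ∈ H := by
  rw [← mul_smul, MulAction.Quotient.smul_coe, MulAction.Quotient.smul_coe, QuotientGroup.eq,
    ← inv_mem_iff (x := g⁻¹ * d * g)]
  have : (g⁻¹ * d * g)⁻¹ = ((d * g) • (1 : G))⁻¹ * (g • (1 : G)) := by
    simp only [smul_eq_mul, mul_one]; group
  rw [this]

/-- Let z be an involution of a finite group G and H a proper subgroup such that z lies in gHg⁻¹ exactly when g ∈ H. Then the following are equivalent: (1) for every conjugate t ≠ z of z commuting with z, the product zt lies in gHg⁻¹ exactly when g ∈ H; (2) z lies in the centre of some Sylow 2-subgroup of G, and for every conjugate t ≠ z of z commuting with z, the centralizer of zt is contained in H. -/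
theorem result {G : Type*} [Group G] [Finite G] (z : G) (hz : orderOf z = 2) (H : Subgroup G) (hH : H ≠ ⊤)
    (h0 : ∀ g : G, z ∈ H.map (MulAut.conj g).toMonoidHom ↔ g ∈ H) :
    (∀ t : G, IsConj z t → t ≠ z → t * z = z * t → ∀ g : G, z * t ∈ H.map (MulAut.conj g).toMonoidHom ↔ g ∈ H) ↔
      ((∃ P : Sylow 2 G, z ∈ (Subgroup.center ↥(P : Subgroup G)).map (P : Subgroup G).subtype) ∧
        ∀ t : G, IsConj z t → t ≠ z → t * z = z * t → Subgroup.centralizer ({z * t} : Set G) ≤ H) := by
  classical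
  have hzz : z * z = 1 := by rw [← pow_two, ← hz, pow_orderOf_eq_one]
  obtain ⟨x₀, hx₀⟩ : ∃ x₀ : G ⧸ H, x₀ = ((1 : G) : G ⧸ H) := ⟨_, rfl⟩
  have hsurj : ∀ x : G ⧸ H, ∃ g : G, g • x₀ = x := by
    intro x
    obtain ⟨g, rfl⟩ := QuotientGroup.mk_surjective x
    exact ⟨g, by rw [hx₀, MulAction.Quotient.smul_coe, smul_eq_mul, mul_one]⟩
  have hstab : ∀ g : G, g • x₀ = x₀ ↔ g ∈ H := by
    intro g
    have := smul_coset_eq_iff H 1 g
    rw [one_smul, ← hx₀] at this
    rw [this]; simp
  have hFP : ∀ d : G, FP d x₀ ↔ ∀ g : G, d ∈ H.map (MulAut.conj g).toMonoidHom ↔ g ∈ H := by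
    intro d
    constructor
    · intro h g
      rw [mem_map_conj_iff, ← smul_coset_eq_iff, ← hx₀, h (g • x₀), hstab]
    · intro h y
      obtain ⟨g, rfl⟩ := hsurj y
      rw [hx₀, smul_coset_eq_iff, ← mem_map_conj_iff, h g, ← hstab, hx₀]
  have hzFP : FP z x₀ := (hFP z).mpr h0
  constructor
  · -- (1) ⇒ (2)
    intro h1
    have H' : Hyp z x₀ := ⟨hzz, hzFP, fun t ht hne hc => (hFP _).mpr (h1 t ht hne hc)⟩
    refine ⟨?_, ?_⟩
    · apply two_central_of_odd_class z hz
      have : Fintype (G ⧸ H) := Fintype.ofFinite _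
      apply H'.odd_card hsurj
      by_contra hcon
      push Not at hcon
      apply hH
      rw [eq_top_iff]; intro g _
      exact (hstab g).mp (hcon _)
    · intro t ht hne hc g hg
      rw [Subgroup.mem_centralizer_singleton_iff] at hg
      have hFPzt := H'.h1 t ht hne hc
      exact (hstab g).mp (hFPzt.of_commute g hg)
  · -- (2) ⇒ (1)
    rintro ⟨⟨P, hP⟩, h2⟩ t ht hne hc
    rw [← hFP]
    have : Fact (Nat.Prime 2) := ⟨Nat.prime_two⟩
    obtain ⟨⟨z', hz'P⟩, hz'c, hz'z⟩ := hP
    simp only [Subgroup.coe_subtype] at hz'z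
    subst hz'z
    rw [SetLike.mem_coe, Subgroup.mem_center_iff] at hz'c
    have hcommP : ∀ y ∈ (P : Subgroup G), y * z' = z' * y := by
      intro y hy
      have := hz'c ⟨y, hy⟩
      exact congrArg Subtype.val this
    have hPH : (P : Subgroup G) ≤ H := fun y hy => (hstab y).mp (hzFP.of_commute y (hcommP y hy))
    have htt : t * t = 1 := by
      obtain ⟨g, rfl⟩ := isConj_iff.mp ht
      calc g * z' * g⁻¹ * (g * z' * g⁻¹) = g * (z' * z') * g⁻¹ := by group
        _ = 1 := by rw [hzz]; group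
    have huu : (z' * t) * (z' * t) = 1 := by
      calc (z' * t) * (z' * t) = z' * (t * z') * t := by group
        _ = z' * (z' * t) * t := by rw [hc]
        _ = (z' * z') * (t * t) := by group
        _ = 1 := by rw [hzz, htt, mul_one]
    have htx : t • x₀ = x₀ := hzFP.of_commute t hc
    intro y
    constructor
    · intro hy
      obtain ⟨g, rfl⟩ := hsurj y
      rw [hx₀, smul_coset_eq_iff] at hy
      -- `h = g⁻¹ u g ∈ H` is a `2`-element
      have hh2 : IsPGroup 2 (Subgroup.zpowers (g⁻¹ * (z' * t) * g)) := by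
        have hsq : (g⁻¹ * (z' * t) * g) ^ 2 = 1 := by
          rw [pow_two]
          calc g⁻¹ * (z' * t) * g * (g⁻¹ * (z' * t) * g) = g⁻¹ * ((z' * t) * (z' * t)) * g := by
                group
            _ = 1 := by rw [huu]; group
        intro w
        refine ⟨1, ?_⟩
        obtain ⟨w, k, rfl⟩ := w
        apply Subtype.ext
        simp only [pow_one, Subgroup.coe_pow, Subgroup.coe_one]
        rw [← zpow_natCast, ← zpow_mul, mul_comm, zpow_mul, zpow_natCast, hsq, one_zpow]
      obtain ⟨c, hcH, hcP⟩ := exists_conj_mem_sylow P H hPH _ hy hh2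
      have h3 := hcommP _ hcP
      -- `z'' = (g c) z' (g c)⁻¹` commutes with `u`
      have h4 : (g * c) * z' * (g * c)⁻¹ ∈ Subgroup.centralizer ({z' * t} : Set G) := by
        rw [Subgroup.mem_centralizer_singleton_iff]
        have e1 : z' * t = (g * c) * (c⁻¹ * (g⁻¹ * (z' * t) * g) * c) * (g * c)⁻¹ := by group
        rw [e1]
        calc g * c * z' * (g * c)⁻¹ * (g * c * (c⁻¹ * (g⁻¹ * (z' * t) * g) * c) * (g * c)⁻¹)
            = g * c * (z' * (c⁻¹ * (g⁻¹ * (z' * t) * g) * c)) * (g * c)⁻¹ := by group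
          _ = g * c * ((c⁻¹ * (g⁻¹ * (z' * t) * g) * c) * z') * (g * c)⁻¹ := by rw [h3]
          _ = _ := by group
      have h5 := h2 t ht hne hc h4
      have h6 : FP ((g * c) * z' * (g * c)⁻¹) ((g * c) • x₀) := hzFP.conj (g * c)
      have h7 : x₀ = (g * c) • x₀ := (h6 x₀).mp ((hstab _).mpr h5)
      rw [mul_smul, (hstab c).mpr hcH] at h7
      exact h7.symm
    · rintro rfl
      rw [mul_smul, htx, hzFP.fixed]

end final

end Cfsg.Agent.S1922
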