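import Cfsg.Statements.S1939
import Cfsg.Agent.Helper10.SylowSub

set_option autoImplicit false
open Cfsg

namespace Cfsg.Agent.S1939

/-- Let S be a Sylow p-subgroup of the finite group G and a an element of S that is the only G-conjugate of a lying in S. Then every power of a has the same property: for every n, the only G-conjugate of a^n lying in S is a^n. -/
theorem result {G : Type*} [Group G] [Finite G] {p : ℕ} [Fact p.Prime] (S : Sylow p G) (a : G)
    (haS : a ∈ (S : Subgroup G)) (hwc : ∀ g : G, g * a * g⁻¹ ∈ (S : Subgroup G) → g * a * g⁻¹ = a) (n : ℕ) :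
    ∀ g : G, g * a ^ n * g⁻¹ ∈ (S : Subgroup G) → g * a ^ n * g⁻¹ = a ^ n := by
  intro g hgS
  set d := g * a ^ n * g⁻¹ with hd
  -- a is central in S
  have hacen : ∀ s ∈ (S : Subgroup G), s * a = a * s := by
    intro s hs
    have h1 : s * a * s⁻¹ ∈ (S : Subgroup G) :=
      (S : Subgroup G).mul_mem ((S : Subgroup G).mul_mem hs haS) ((S : Subgroup G).inv_mem hs)
    have := hwc s h1
    calc s * a = s * a * s⁻¹ * s := by group
      _ = a * s := by rw [this]
  let C := Subgroup.centralizer ({d} : Set G)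
  have hQC : ((g • S : Sylow p G) : Subgroup G) ≤ C := by
    rw [Cfsg.Agent.Helper10.sylow_smul_coe_eq_map]
    rintro _ ⟨y, hy, rfl⟩
    rw [Subgroup.mem_centralizer_iff]
    intro z hz
    rw [Set.mem_singleton_iff] at hz
    subst hz
    have h1 : y * a ^ n = a ^ n * y := by
      have : Commute y a := hacen y hy
      exact (this.pow_right n).eq
    simp only [MulEquiv.coe_toMonoidHom, MulAut.conj_apply]
    calc g * a ^ n * g⁻¹ * (g * y * g⁻¹) = g * (a ^ n * y) * g⁻¹ := by group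
      _ = g * (y * a ^ n) * g⁻¹ := by rw [h1]
      _ = g * y * g⁻¹ * (g * a ^ n * g⁻¹) := by group
  have hRC : Subgroup.zpowers a ≤ C := by
    rw [Subgroup.zpowers_le, Subgroup.mem_centralizer_iff]
    intro z hz
    rw [Set.mem_singleton_iff] at hz
    subst hz
    exact hacen _ hgS
  have hRp : IsPGroup p ↥(Subgroup.zpowers a) := S.2.to_le ((Subgroup.zpowers_le).2 haS)
  obtain ⟨c, hcC, hc⟩ := Cfsg.Agent.Helper10.exists_conj_le_sylow_of_le (g • S) C (Subgroup.zpowers a) hQC hRp hRC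
  have h1 := hc a (Subgroup.mem_zpowers a)
  rw [Cfsg.Agent.Helper10.sylow_smul_coe_eq_map] at h1
  obtain ⟨s, hs, hs'⟩ := h1
  simp only [MulEquiv.coe_toMonoidHom, MulAut.conj_apply] at hs'
  -- (g⁻¹ c) a (g⁻¹ c)⁻¹ = s ∈ S
  have h2 : (g⁻¹ * c) * a * (g⁻¹ * c)⁻¹ = s := by
    calc (g⁻¹ * c) * a * (g⁻¹ * c)⁻¹ = g⁻¹ * (c * a * c⁻¹) * g := by group
      _ = g⁻¹ * (g * s * g⁻¹) * g := by rw [hs']
      _ = s := by group
  have h3 : (g⁻¹ * c) * a * (g⁻¹ * c)⁻¹ = a := hwc _ (by rw [h2]; exact hs)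
  have h4 : c * a * c⁻¹ = g * a * g⁻¹ := by
    calc c * a * c⁻¹ = g * ((g⁻¹ * c) * a * (g⁻¹ * c)⁻¹) * g⁻¹ := by group
      _ = g * a * g⁻¹ := by rw [h3]
  have h5 : c * a ^ n * c⁻¹ = d := by
    rw [hd, ← conj_pow, ← conj_pow, h4]
  have h6 : d * c = c * d := (Subgroup.mem_centralizer_iff.1 hcC) d rfl
  calc d = c⁻¹ * (c * d) := by group
    _ = c⁻¹ * (d * c) := by rw [h6]
    _ = c⁻¹ * (c * a ^ n * c⁻¹) * c := by rw [h5]; group
    _ = a ^ n := by group

end Cfsg.Agent.S1939
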