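import Cfsg.Statements.S1940
import Mathlib

set_option autoImplicit false
open Cfsg

namespace Cfsg.Agent.S1940

/-- Let the finite group L act by automorphisms on the finite abelian group M, and let N be an L-invariant subgroup of M such that M/N is a p-group on which L acts trivially (every l • m lies in the coset mN). If every element of M is a product of an element of N and an element fixed by a Sylow p-subgroup T of L, then every element of M is a product of an element of N and an element fixed by all of L. -/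
theorem result {L : Type*} [Group L] [Finite L] {M : Type*} [CommGroup M] [Finite M] [MulDistribMulAction L M]
    {p : ℕ} [Fact p.Prime] (N : Subgroup M) (hN : ∀ (l : L) (m : M), m ∈ N → l • m ∈ N)
    (hquot : IsPGroup p (M ⧸ N)) (htriv : ∀ (l : L) (m : M), (l • m) * m⁻¹ ∈ N) (T : Sylow p L)
    (hT : ∀ m : M, ∃ n ∈ N, ∃ c : M, (∀ t ∈ (T : Subgroup L), t • c = c) ∧ m = n * c) :
    ∀ m : M, ∃ n ∈ N, ∃ c : M, (∀ l : L, l • c = c) ∧ m = n * c := by
  classical
  let _ : Fintype (L ⧸ (T : Subgroup L)) := Fintype.ofFinite _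
  intro m
  obtain ⟨n, hn, c, hc, rfl⟩ := hT m
  set r := Fintype.card (L ⧸ (T : Subgroup L)) with hr
  let tr : M := ∏ q : L ⧸ (T : Subgroup L), (Quotient.out q) • c
  have htr_fix : ∀ l : L, l • tr = tr := by
    intro l
    show l • (∏ q : L ⧸ (T : Subgroup L), (Quotient.out q) • c) = _
    rw [Finset.smul_prod']
    have h1 : ∀ q : L ⧸ (T : Subgroup L), l • (Quotient.out q) • c = (Quotient.out (l • q)) • c := by
      intro q
      have h2 : ((Quotient.out (l • q) : L) : L ⧸ (T : Subgroup L)) = ((l * Quotient.out q : L) : L ⧸ (T : Subgroup L)) := by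
        rw [QuotientGroup.out_eq']
        conv_lhs => rw [← QuotientGroup.out_eq' q]
        rfl
      have h3 := QuotientGroup.eq.1 h2
      have h4 := hc _ h3
      rw [← mul_smul]
      calc (l * Quotient.out q) • c = (Quotient.out (l • q) * ((Quotient.out (l • q))⁻¹ * (l * Quotient.out q))) • c := by
            congr 1; group
        _ = Quotient.out (l • q) • c := by rw [mul_smul, h4]
    simp_rw [h1]
    exact Equiv.prod_comp (MulAction.toPerm l : Equiv.Perm (L ⧸ (T : Subgroup L))) (fun q => (Quotient.out q) • c)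
  have htr_N : tr * (c ^ r)⁻¹ ∈ N := by
    have e : tr * (c ^ r)⁻¹ = ∏ q : L ⧸ (T : Subgroup L), ((Quotient.out q) • c) * c⁻¹ := by
      rw [Finset.prod_mul_distrib, Finset.prod_const, Finset.card_univ, inv_pow]
    rw [e]
    exact Subgroup.prod_mem N (fun q _ => htriv _ _)
  obtain ⟨k, hk⟩ := (IsPGroup.iff_card).1 hquot
  have hpow : ∀ x : M, x ^ (p ^ k) ∈ N := by
    intro x
    have h1 : ((x : M ⧸ N)) ^ (p ^ k) = 1 := by
      rw [← hk]; exact pow_card_eq_one'
    rw [← QuotientGroup.mk_pow, QuotientGroup.eq_one_iff] at h1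
    exact h1
  have hcop : Nat.Coprime r (p ^ k) := by
    apply Nat.Coprime.pow_right
    have hp : p.Prime := Fact.out
    apply ((Nat.Prime.coprime_iff_not_dvd hp).2 ?_).symm
    have := T.not_dvd_index
    rwa [Subgroup.index_eq_card, Nat.card_eq_fintype_card] at this
  have hbez := Int.gcd_eq_gcd_ab (r : ℤ) ((p ^ k : ℕ) : ℤ)
  rw [Int.gcd_natCast_natCast, hcop.gcd_eq_one] at hbez
  set A := Int.gcdA (r : ℤ) ((p ^ k : ℕ) : ℤ)
  set B := Int.gcdB (r : ℤ) ((p ^ k : ℕ) : ℤ)
  set n₁ := tr * (c ^ r)⁻¹ with hn₁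
  have hcr : c ^ r = n₁⁻¹ * tr := by rw [hn₁]; simp [mul_comm]
  have hc1 : c = (n₁⁻¹ ^ A * (c ^ (p ^ k)) ^ B) * tr ^ A := by
    have : c = c ^ (1 : ℤ) := (zpow_one c).symm
    conv_lhs => rw [this]
    have h1 : ((1 : ℕ) : ℤ) = 1 := rfl
    rw [← h1, hbez, zpow_add, zpow_mul, zpow_mul, zpow_natCast, zpow_natCast, hcr, mul_zpow]
    simp only [mul_comm, mul_left_comm]
  refine ⟨n * (n₁⁻¹ ^ A * (c ^ (p ^ k)) ^ B), ?_, tr ^ A, ?_, ?_⟩
  · apply N.mul_mem hn
    apply N.mul_mem
    · exact N.zpow_mem (N.inv_mem htr_N) A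
    · exact N.zpow_mem (hpow c) B
  · intro l
    have := map_zpow (MulDistribMulAction.toMonoidHom M l) tr A
    simp only [MulDistribMulAction.toMonoidHom_apply] at this
    rw [this, htr_fix l]
  · exact (congrArg (n * ·) hc1).trans (mul_assoc _ _ _).symm

end Cfsg.Agent.S1940
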