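import Cfsg.Statements.S1947
import Mathlib
import Cfsg.Agent.Helper10.OmegaTwo
import Cfsg.Agent.S0071

set_option autoImplicit false
open Cfsg

namespace Cfsg.Agent.S1947

/-- Let G be a finite group and p a prime. If every element of G of order dividing p (dividing 4 when p = 2) lies in some fixed term Z_n(G) of the upper central series, then G has a normal p-complement. -/
theorem result {G : Type*} [Group G] [Finite G] {p : ℕ} [Fact p.Prime] (n : ℕ)
    (h : ∀ a : G, (a ^ p = 1 ∨ (p = 2 ∧ a ^ 4 = 1)) → a ∈ Subgroup.upperCentralSeries G n) : Cfsg.HasNormalPComplement p G := by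
  obtain ⟨P⟩ : Nonempty (Sylow p G) := inferInstance
  refine ⟨P, ?_⟩
  rw [Cfsg.Agent.S0071.result P]
  intro Q hQ g hg hcop
  have hQp : IsPGroup p ↥Q := P.2.to_le hQ
  apply Cfsg.Agent.Helper10.mem_centralizer_of_centralizes_omega Q hQp g hg hcop
  intro x hxQ hx
  exact Cfsg.Agent.Helper10.conj_eq_of_mem_upperCentralSeries Q hQp g hg hcop n x hxQ (h x hx)

end Cfsg.Agent.S1947
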