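import Cfsg.Statements.S1948
import Cfsg.Agent.Helper10.PConstrained
import Cfsg.Agent.Helper10.SylowSub

set_option autoImplicit false
open Cfsg

namespace Cfsg.Agent.S1948

/-- Let S be a Sylow p-subgroup of the finite group G. Then G = N_G(S)·O_{p'}(G) if and only if G is p-constrained and N_G(S) controls fusion in S, in the sense that whenever a subgroup Q of S has a conjugate g Q g⁻¹ inside S, the element g is a product n c with n normalizing S and c centralizing Q. -/
theorem result {G : Type*} [Group G] [Finite G] {p : ℕ} [Fact p.Prime] (S : Sylow p G) :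
    Subgroup.normalizer ((S : Subgroup G) : Set G) ⊔ Cfsg.pPrimeCore p G = ⊤ ↔
      (Cfsg.IsPConstrained p G ∧
        ∀ Q : Subgroup G, Q ≤ (S : Subgroup G) → ∀ g : G, Q.map (MulAut.conj g).toMonoidHom ≤ (S : Subgroup G) →
          ∃ n ∈ Subgroup.normalizer ((S : Subgroup G) : Set G), ∃ c ∈ Subgroup.centralizer (Q : Set G), g = n * c) := by
  classical
  have hKn : (Cfsg.pPrimeCore p G).Normal := inferInstance
  have hLn : (Cfsg.pPrimePCore p G).Normal := inferInstance
  have hKL := Cfsg.Agent.Helper10.pPrimeCore_le_pPrimePCore (G := G) p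
  have hSN : (S : Subgroup G) ≤ Subgroup.normalizer ((S : Subgroup G) : Set G) := Subgroup.le_normalizer
  -- L ≤ N ⊔ K
  have hLle : Cfsg.pPrimePCore p G ≤ Subgroup.normalizer ((S : Subgroup G) : Set G) ⊔ Cfsg.pPrimeCore p G := by
    intro x hx
    obtain ⟨s, hs, k, hk, rfl⟩ := Cfsg.Agent.Helper10.exists_mul_of_mem_pPrimePCore S hx
    exact mul_mem (Subgroup.mem_sup_left (hSN hs)) (Subgroup.mem_sup_right hk)
  constructor
  · intro h
    -- S ⊔ K is normal
    have hSKn : ((S : Subgroup G) ⊔ Cfsg.pPrimeCore p G).Normal := by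
      rw [← Subgroup.normalizer_eq_top_iff, eq_top_iff, ← h]
      apply sup_le
      · intro n hn
        apply Cfsg.Agent.Helper10.mem_normalizer_sup hn
        rw [Subgroup.normalizer_eq_top_iff.mpr hKn]; trivial
      · exact le_sup_right.trans Subgroup.le_normalizer
    have hSKL := Cfsg.Agent.Helper10.sylow_sup_le_pPrimePCore S hSKn
    have hSL : (S : Subgroup G) ≤ Cfsg.pPrimePCore p G := le_sup_left.trans hSKL
    -- C_G(S) ≤ L
    have hCS : Subgroup.centralizer ((S : Subgroup G) : Set G) ≤ Cfsg.pPrimePCore p G := by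
      obtain ⟨D, hDcop, hDn, hDdec⟩ := Cfsg.Agent.Helper10.exists_centralizer_sylow_decomp S
      have hDKn : (D ⊔ Cfsg.pPrimeCore p G).Normal := by
        rw [← Subgroup.normalizer_eq_top_iff, eq_top_iff, ← h]
        apply sup_le
        · intro n hn
          apply Cfsg.Agent.Helper10.mem_normalizer_sup (hDn n hn)
          rw [Subgroup.normalizer_eq_top_iff.mpr hKn]; trivial
        · exact le_sup_right.trans Subgroup.le_normalizer
      have hDKcop : (Nat.card ↥(D ⊔ Cfsg.pPrimeCore p G)).Coprime p := by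
        have h1 := Cfsg.Agent.Helper19.card_sup_dvd_mul D (Cfsg.pPrimeCore p G)
        exact Nat.Coprime.coprime_dvd_left h1
          (Nat.Coprime.mul_left hDcop (Cfsg.Agent.Helper19.pPrimeCore_coprime (G := G) p))
      have hDK : D ≤ Cfsg.pPrimeCore p G :=
        le_sup_left.trans (Cfsg.Agent.Helper10.le_pPrimeCore hDKn hDKcop)
      intro x hx
      obtain ⟨z, hz, d, hd, rfl⟩ := hDdec x hx
      exact mul_mem (hKL (hDK hd)) (hSL hz)
    refine ⟨?_, ?_⟩
    · intro P
      let SL : Sylow p ↥(Cfsg.pPrimePCore p G) := S.subtype hSL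
      obtain ⟨l, hl⟩ := MulAction.exists_smul_eq ↥(Cfsg.pPrimePCore p G) SL P
      have h1 := Cfsg.Agent.Helper14.sylow_smul_map (Cfsg.pPrimePCore p G) SL l
      rw [hl] at h1
      have h2 : (SL : Subgroup ↥(Cfsg.pPrimePCore p G)).map (Cfsg.pPrimePCore p G).subtype = (S : Subgroup G) := by
        rw [Sylow.coe_subtype, Subgroup.subgroupOf_map_subtype, inf_of_le_left hSL]
      rw [h2] at h1
      rw [h1, ← Cfsg.Agent.Helper14.map_cj_centralizer]
      intro x hx
      obtain ⟨y, hy, rfl⟩ := hx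
      exact hLn.conj_mem y (hCS hy) l
    · intro Q hQS g hQg
      have hg : g ∈ Subgroup.normalizer ((S : Subgroup G) : Set G) ⊔ Cfsg.pPrimeCore p G := by
        rw [h]; trivial
      obtain ⟨n, hn, k, hk, rfl⟩ := Subgroup.mem_sup_of_normal_right.mp hg
      refine ⟨n, hn, k, ?_, rfl⟩
      rw [Subgroup.mem_centralizer_iff]
      intro x hx
      have hx1 : (n * k) * x * (n * k)⁻¹ ∈ (S : Subgroup G) := hQg ⟨x, hx, rfl⟩
      have hx2 : k * x * k⁻¹ ∈ (S : Subgroup G) := by
        rw [Subgroup.mem_normalizer_iff.mp hn (k * x * k⁻¹)]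
        have : n * (k * x * k⁻¹) * n⁻¹ = (n * k) * x * (n * k)⁻¹ := by group
        rw [this]; exact hx1
      have hx3 : k * x * k⁻¹ * x⁻¹ ∈ (S : Subgroup G) ⊓ Cfsg.pPrimeCore p G := by
        refine ⟨(S : Subgroup G).mul_mem hx2 ((S : Subgroup G).inv_mem (hQS hx)), ?_⟩
        have : k * x * k⁻¹ * x⁻¹ = k * (x * k⁻¹ * x⁻¹) := by group
        rw [this]
        exact mul_mem hk (hKn.conj_mem _ (inv_mem hk) x)
      rw [Cfsg.Agent.Helper10.sylow_inf_pPrimeCore S, Subgroup.mem_bot] at hx3
      have : k * x = x * k := by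
        have h5 : k * x * k⁻¹ = x := by
          have := congrArg (· * x) hx3
          simpa using this
        calc k * x = (k * x * k⁻¹) * k := by group
          _ = x * k := by rw [h5]
      exact this.symm
  · rintro ⟨hpc, hfus⟩
    obtain ⟨P⟩ : Nonempty (Sylow p ↥(Cfsg.pPrimePCore p G)) := inferInstance
    have hfr := Sylow.normalizer_sup_eq_top P
    have hpg : IsPGroup p ↥((P : Subgroup ↥(Cfsg.pPrimePCore p G)).map (Cfsg.pPrimePCore p G).subtype) := P.2.map _
    obtain ⟨h, -, hh⟩ := Cfsg.Agent.Helper10.exists_conj_le_sylow_of_le S ⊤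
      ((P : Subgroup ↥(Cfsg.pPrimePCore p G)).map (Cfsg.pPrimePCore p G).subtype) le_top hpg le_top
    have hcent := hpc P
    set P' := (P : Subgroup ↥(Cfsg.pPrimePCore p G)).map (Cfsg.pPrimePCore p G).subtype with hP'
    -- key: conjugates of N_G(P') by h lie in T
    have key : ∀ m ∈ Subgroup.normalizer (P' : Set G), h * m * h⁻¹ ∈
        Subgroup.normalizer ((S : Subgroup G) : Set G) ⊔ Cfsg.pPrimeCore p G := by
      intro m hm
      have hQS : P'.map (Cfsg.Agent.Helper14.cj h) ≤ (S : Subgroup G) := by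
        rintro _ ⟨y, hy, rfl⟩
        exact hh y hy
      have hQm : (P'.map (Cfsg.Agent.Helper14.cj h)).map (MulAut.conj (h * m * h⁻¹)).toMonoidHom ≤ (S : Subgroup G) := by
        have e1 : (P'.map (Cfsg.Agent.Helper14.cj h)).map (Cfsg.Agent.Helper14.cj (h * m * h⁻¹)) =
            P'.map (Cfsg.Agent.Helper14.cj h) := by
          rw [Cfsg.Agent.Helper14.map_cj_mul]
          have : h * m * h⁻¹ * h = h * m := by group
          rw [this, ← Cfsg.Agent.Helper14.map_cj_mul, Cfsg.Agent.Helper14.mem_normalizer_iff_map_cj.mp hm]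
        exact e1.le.trans hQS
      obtain ⟨n, hn, c, hc, hnc⟩ := hfus _ hQS _ hQm
      rw [hnc]
      refine mul_mem (Subgroup.mem_sup_left hn) (hLle ?_)
      have : c ∈ (Subgroup.centralizer (P' : Set G)).map (Cfsg.Agent.Helper14.cj h) := by
        rw [Cfsg.Agent.Helper14.map_cj_centralizer]; exact hc
      obtain ⟨y, hy, rfl⟩ := this
      exact hLn.conj_mem y (hcent hy) h
    rw [eq_top_iff]
    intro g _
    have hg : h⁻¹ * g * h ∈ Subgroup.normalizer (P' : Set G) ⊔ Cfsg.pPrimePCore p G := by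
      rw [hfr]; trivial
    obtain ⟨m, hm, l, hl, hml⟩ := Subgroup.mem_sup_of_normal_right.mp hg
    have : g = (h * m * h⁻¹) * (h * l * h⁻¹) := by
      have : g = h * (h⁻¹ * g * h) * h⁻¹ := by group
      rw [this, ← hml]; group
    rw [this]
    exact mul_mem (key m hm) (hLle (hLn.conj_mem l hl h))

end Cfsg.Agent.S1948
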