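import Cfsg.Statements.S1956
import Cfsg.Agent.Helper10.SylowSub

set_option autoImplicit false
open Cfsg

namespace Cfsg.Agent.S1956

/-- Let P be a Sylow p-subgroup of the finite group G such that every element of P of order dividing p (dividing 4 when p = 2) is central in P. Then the fusion of these elements is controlled by N_G(P): if such an element a of P has g a g⁻¹ in P, then g = n c with n normalizing P and c commuting with a. -/
theorem result {G : Type*} [Group G] [Finite G] {p : ℕ} [Fact p.Prime] (P : Sylow p G)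
    (hcen : ∀ a ∈ (P : Subgroup G), (a ^ p = 1 ∨ (p = 2 ∧ a ^ 4 = 1)) → ∀ y ∈ (P : Subgroup G), a * y = y * a) :
    ∀ a ∈ (P : Subgroup G), (a ^ p = 1 ∨ (p = 2 ∧ a ^ 4 = 1)) → ∀ g : G, g * a * g⁻¹ ∈ (P : Subgroup G) →
      ∃ n ∈ Subgroup.normalizer ((P : Subgroup G) : Set G), ∃ c : G, c * a = a * c ∧ g = n * c := by
  intro a haP ha g hgP
  set b := g * a * g⁻¹ with hb
  -- b satisfies the same order condition
  have hbord : b ^ p = 1 ∨ (p = 2 ∧ b ^ 4 = 1) := by
    rcases ha with h | ⟨h2, h4⟩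
    · left; rw [hb, conj_pow, h]; group
    · right; refine ⟨h2, ?_⟩; rw [hb, conj_pow, h4]; group
  let C := Subgroup.centralizer ({b} : Set G)
  have hPC : (P : Subgroup G) ≤ C := by
    intro y hy
    rw [Subgroup.mem_centralizer_iff]
    intro z hz
    rw [Set.mem_singleton_iff] at hz
    subst hz
    exact hcen b hgP hbord y hy
  have hQC : ((g • P : Sylow p G) : Subgroup G) ≤ C := by
    rw [Cfsg.Agent.Helper10.sylow_smul_coe_eq_map]
    rintro _ ⟨y, hy, rfl⟩
    rw [Subgroup.mem_centralizer_iff]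
    intro z hz
    rw [Set.mem_singleton_iff] at hz
    subst hz
    have h1 := hcen a haP ha y hy
    simp only [MulEquiv.coe_toMonoidHom, MulAut.conj_apply]
    calc g * a * g⁻¹ * (g * y * g⁻¹) = g * (a * y) * g⁻¹ := by group
      _ = g * (y * a) * g⁻¹ := by rw [h1]
      _ = g * y * g⁻¹ * (g * a * g⁻¹) := by group
  obtain ⟨c₀, hc₀C, hc₀⟩ := Cfsg.Agent.Helper10.exists_conj_eq_sylow_of_le P (g • P) C hPC hQC
  rw [Cfsg.Agent.Helper10.sylow_smul_coe_eq_map, Subgroup.map_map] at hc₀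
  have hn : c₀ * g ∈ Subgroup.normalizer ((P : Subgroup G) : Set G) := by
    apply Cfsg.Agent.Helper10.mem_normalizer_of_map_conj_eq
    rw [← hc₀]
    congr 1
    ext x
    simp [MulAut.conj_apply, mul_assoc]
  have hc₀b : b * c₀ = c₀ * b := (Subgroup.mem_centralizer_iff.1 hc₀C) b rfl
  refine ⟨c₀ * g, hn, (c₀ * g)⁻¹ * c₀⁻¹ * (c₀ * g), ?_, by group⟩
  have e1 : c₀⁻¹ * b * c₀ = b := by rw [mul_assoc, hc₀b]; group
  calc (c₀ * g)⁻¹ * c₀⁻¹ * (c₀ * g) * a = g⁻¹ * c₀⁻¹ * (g * a * g⁻¹) * g := by group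
    _ = g⁻¹ * (c₀⁻¹ * b * c₀) * c₀⁻¹ * g := by rw [← hb]; group
    _ = g⁻¹ * b * c₀⁻¹ * g := by rw [e1]
    _ = a * ((c₀ * g)⁻¹ * c₀⁻¹ * (c₀ * g)) := by rw [hb]; group

end Cfsg.Agent.S1956
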