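import Cfsg.Statements.S1965
import Cfsg.Agent.Helper10.ConjFamily

set_option autoImplicit false
open Cfsg

namespace Cfsg.Agent.S1965

/-- Let p be a prime, G a finite group with Sylow p-subgroup S and 𝓕 a set of subgroups of S. Suppose that every subgroup T of S is G-conjugate to some member U of 𝓕 for which N_S(U) is a Sylow p-subgroup of N_G(U). Then 𝓕 is a conjugation family for S in G. -/
theorem result {G : Type*} [Group G] [Finite G] {p : ℕ} [Fact p.Prime] (S : Sylow p G) (𝓕 : Set (Subgroup G)) (h𝓕 : ∀ U ∈ 𝓕, U ≤ (S : Subgroup G)) (h : ∀ T : Subgroup G, T ≤ (S : Subgroup G) → ∃ U ∈ 𝓕, (∃ g : G, T.map (MulAut.conj g).toMonoidHom = U) ∧ ¬ p ∣ ((S : Subgroup G) ⊓ Subgroup.normalizer ((U : Subgroup G) : Set G)).relIndex (Subgroup.normalizer ((U : Subgroup G) : Set G))) : Cfsg.IsConjugationFamily 𝓕 (S : Subgroup G) := by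
  classical
  refine ⟨h𝓕, ?_⟩
  intro A g _ hAS hAg
  have hT : Subgroup.closure A ≤ (S : Subgroup G) := (Subgroup.closure_le _).mpr hAS
  have hTg : (Subgroup.closure A).map (Cfsg.Agent.Helper14.cj g⁻¹) ≤ (S : Subgroup G) := by
    rw [MonoidHom.map_closure, Subgroup.closure_le]
    rintro _ ⟨a, ha, rfl⟩
    apply hAg
    exact ⟨a, ha, by simp⟩
  obtain ⟨l, hl, hlp⟩ := Cfsg.Agent.Helper10.exists_dec_of_extremal S 𝓕 h𝓕 h _ _ hT rfl g hTg
  have hl' : Cfsg.Agent.Helper10.Dec 𝓕 A l := hl.mono Subgroup.subset_closure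
  obtain ⟨n, T, x, h1, h2, h3, h4, h5⟩ := hl'.to_family
  exact ⟨n, T, x, h1.trans hlp, h2, h3, h4, h5⟩

end Cfsg.Agent.S1965
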