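import Cfsg.Statements.S1966
import Cfsg.Agent.Helper10.CoreBasic

set_option autoImplicit false
open Cfsg

namespace Cfsg.Agent.S1966

/-- Let p be a prime, G a finite group with Sylow p-subgroup S and 𝓕 a conjugation family for S in G. Then the members of 𝓕 containing O_p(G) still form a conjugation family for S in G. -/
theorem result {G : Type*} [Group G] [Finite G] {p : ℕ} [Fact p.Prime] (S : Sylow p G) (𝓕 : Set (Subgroup G)) (h : Cfsg.IsConjugationFamily 𝓕 (S : Subgroup G)) : Cfsg.IsConjugationFamily {T : Subgroup G | T ∈ 𝓕 ∧ Cfsg.pCore p G ≤ T} (S : Subgroup G) := by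
  classical
  obtain ⟨h1, h2⟩ := h
  refine ⟨fun T hT => h1 T hT.1, ?_⟩
  intro A g hAne hAS hAg
  have hcoreS : Cfsg.pCore p G ≤ (S : Subgroup G) := Cfsg.Agent.Helper10.pCore_le_sylow p S
  have hnorm : (Cfsg.pCore p G).Normal := inferInstance
  obtain ⟨n, T, x, hprod, hT, hx, h0, hstep⟩ := h2 (A ∪ (Cfsg.pCore p G : Set G)) g
    (hAne.mono Set.subset_union_left)
    (Set.union_subset hAS hcoreS)
    (by
      rintro _ ⟨a, ha | ha, rfl⟩
      · exact hAg ⟨a, ha, rfl⟩
      · apply hcoreS
        have := hnorm.conj_mem a ha g⁻¹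
        simpa using this)
  refine ⟨n, T, x, hprod, ?_, hx, ?_, ?_⟩
  · intro i
    refine ⟨hT i, ?_⟩
    obtain ⟨i, hi⟩ := i
    cases i with
    | zero =>
      intro c hc
      exact h0 hi (Or.inr hc)
    | succ j =>
      intro c hc
      have hj : j < n := Nat.lt_of_succ_lt hi
      apply hstep ⟨j, hj⟩ hi
      set y := ((List.ofFn x).take (j + 1)).prod with hy
      refine ⟨y * c * y⁻¹, Or.inr ?_, ?_⟩
      · exact hnorm.conj_mem c hc y
      · show y⁻¹ * (y * c * y⁻¹) * y = c
        group
  · intro h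
    exact Set.subset_union_left.trans (h0 h)
  · intro i h
    refine Set.Subset.trans ?_ (hstep i h)
    exact Set.image_mono Set.subset_union_left

end Cfsg.Agent.S1966
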