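import Cfsg.Statements.S1967
import Cfsg.Agent.Helper10.SylowSub

set_option autoImplicit false
open Cfsg

namespace Cfsg.Agent.S1967

/-- Let p be a prime, G a finite group with Sylow p-subgroup S and W a conjugacy functor for p on G. Then W controls strong fusion in G if and only if, whenever T ≤ S and g ∈ G satisfy gTg⁻¹ ≤ S, one can write g = n c with n ∈ N_G(W(S)) and c ∈ C_G(T). -/
theorem result {G : Type*} [Group G] [Finite G] {p : ℕ} [Fact p.Prime] (S : Sylow p G) (W : Subgroup G → Subgroup G) (hW : Cfsg.IsConjugacyFunctor p W) : Cfsg.ControlsStrongFusionIn p W ⊤ ↔ ∀ (T : Subgroup G) (g : G), T ≤ (S : Subgroup G) → T.map (MulAut.conj g).toMonoidHom ≤ (S : Subgroup G) → ∃ n ∈ Subgroup.normalizer ((W (S : Subgroup G) : Subgroup G) : Set G), ∃ c ∈ Subgroup.centralizer (T : Set G), g = n * c := by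
  constructor
  · rintro ⟨T₀, -, hT₀p, hT₀i, hT₀⟩ T g hTS hTg
    rw [Subgroup.relIndex_top_right] at hT₀i
    let S₀ : Sylow p G := hT₀p.toSylow hT₀i
    have hS₀ : (S₀ : Subgroup G) = T₀ := rfl
    obtain ⟨u, hu⟩ := MulAction.exists_smul_eq G S₀ S
    have huS : (S : Subgroup G) = T₀.map (MulAut.conj u).toMonoidHom := by
      rw [← hu, Cfsg.Agent.Helper10.sylow_smul_coe_eq_map, hS₀]
    have hmemS : ∀ y : G, y ∈ (S : Subgroup G) ↔ u⁻¹ * y * u ∈ T₀ := by
      intro y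
      rw [huS]
      constructor
      · rintro ⟨z, hz, rfl⟩
        simpa [MulAut.conj_apply, mul_assoc] using hz
      · intro h
        exact ⟨u⁻¹ * y * u, h, by simp [MulAut.conj_apply, mul_assoc]⟩
    -- apply the hypothesis to A = u⁻¹ T u and h = u⁻¹ g u
    obtain ⟨x, hx, hxA⟩ := hT₀ ((fun t => u⁻¹ * t * u) '' (T : Set G)) (u⁻¹ * g * u) (Subgroup.mem_top _)
      (by
        rintro _ ⟨t, ht, rfl⟩
        exact (hmemS t).1 (hTS ht))
      (by
        rintro _ ⟨_, ⟨t, ht, rfl⟩, rfl⟩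
        have h1 : g * t * g⁻¹ ∈ (S : Subgroup G) := hTg ⟨t, ht, by simp [MulAut.conj_apply]⟩
        have h2 := (hmemS _).1 h1
        have e : u⁻¹ * g * u * (u⁻¹ * t * u) * (u⁻¹ * g * u)⁻¹ = u⁻¹ * (g * t * g⁻¹) * u := by group
        show u⁻¹ * g * u * (u⁻¹ * t * u) * (u⁻¹ * g * u)⁻¹ ∈ T₀
        rw [e]; exact h2)
    have hxN : x ∈ Subgroup.normalizer ((W T₀ : Subgroup G) : Set G) := hx.2
    have hWS : W (S : Subgroup G) = (W T₀).map (MulAut.conj u).toMonoidHom := by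
      rw [huS]; exact (hW T₀ hT₀p).2.2 u
    have hn : u * x * u⁻¹ ∈ Subgroup.normalizer ((W (S : Subgroup G) : Subgroup G) : Set G) := by
      apply Cfsg.Agent.Helper10.mem_normalizer_of_map_conj_eq
      rw [hWS, Subgroup.map_map]
      have h1 := Cfsg.Agent.Helper10.map_conj_eq_of_mem_normalizer hxN
      conv_rhs => rw [← h1]
      rw [Subgroup.map_map]
      congr 1
      ext y
      simp [MulAut.conj_apply, mul_assoc]
    refine ⟨u * x * u⁻¹, hn, (u * x * u⁻¹)⁻¹ * g, ?_, by group⟩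
    rw [Subgroup.mem_centralizer_iff]
    intro t ht
    have h1 := hxA (u⁻¹ * t * u) ⟨t, ht, rfl⟩
    have h2 : (u * x * u⁻¹) * t * (u * x * u⁻¹)⁻¹ = g * t * g⁻¹ := by
      calc (u * x * u⁻¹) * t * (u * x * u⁻¹)⁻¹ = u * (x * (u⁻¹ * t * u) * x⁻¹) * u⁻¹ := by group
        _ = u * (u⁻¹ * g * u * (u⁻¹ * t * u) * (u⁻¹ * g * u)⁻¹) * u⁻¹ := by rw [h1]
        _ = g * t * g⁻¹ := by group
    calc t * ((u * x * u⁻¹)⁻¹ * g) = (u * x * u⁻¹)⁻¹ * ((u * x * u⁻¹) * t * (u * x * u⁻¹)⁻¹) * (u * x * u⁻¹) * ((u * x * u⁻¹)⁻¹ * g) := by group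
      _ = (u * x * u⁻¹)⁻¹ * (g * t * g⁻¹) * (u * x * u⁻¹) * ((u * x * u⁻¹)⁻¹ * g) := by rw [h2]
      _ = (u * x * u⁻¹)⁻¹ * g * t := by group
  · intro h
    refine ⟨(S : Subgroup G), le_top, S.2, ?_, ?_⟩
    · rw [Subgroup.relIndex_top_right]; exact S.not_dvd_index
    · intro A g _ hAS hAg
      obtain ⟨n, hn, c, hc, hgnc⟩ := h (Subgroup.closure A) g ((Subgroup.closure_le _).2 hAS)
        (by
          rw [Subgroup.map_le_iff_le_comap, Subgroup.closure_le]
          intro a ha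
          exact hAg ⟨a, ha, rfl⟩)
      refine ⟨n, ⟨Subgroup.mem_top _, hn⟩, ?_⟩
      intro a ha
      have hca : a * c = c * a := (Subgroup.mem_centralizer_iff.1 hc) a (Subgroup.subset_closure ha)
      rw [hgnc]
      calc n * a * n⁻¹ = n * (a * c) * c⁻¹ * n⁻¹ := by group
        _ = n * (c * a) * c⁻¹ * n⁻¹ := by rw [hca]
        _ = n * c * a * (n * c)⁻¹ := by group

end Cfsg.Agent.S1967
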