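import Cfsg.Statements.S1968
import Cfsg.Agent.Helper10.Fusion

set_option autoImplicit false
open Cfsg

namespace Cfsg.Agent.S1968

/-- Let p be a prime, G a finite group with Sylow p-subgroup S and W a conjugacy functor for p on G with Z(P) ≤ W(P) for every p-subgroup P. Let A be a subgroup of Z(S) normalized by N_G(W(S)) that is not weakly closed in S with respect to G. Then there is a subgroup T of S, well placed in S with respect to W, such that: A ≤ T; N_G(W(N_S(T))) normalizes A; N_S(T) is a Sylow p-subgroup of N_G(T); A ≤ Z(N_S(T)); and A is not weakly closed in N_S(T) with respect to N_G(T), that is, some N_G(T)-conjugate of A other than A lies in N_S(T). -/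
theorem result {G : Type*} [Group G] [Finite G] {p : ℕ} [Fact p.Prime] (S : Sylow p G) (W : Subgroup G → Subgroup G) (hW : Cfsg.IsConjugacyFunctor p W) (hWZ : ∀ P : Subgroup G, IsPGroup p ↥P → P ⊓ Subgroup.centralizer (P : Set G) ≤ W P) (A : Subgroup G) (hAZ : A ≤ (S : Subgroup G) ⊓ Subgroup.centralizer ((S : Subgroup G) : Set G)) (hAN : Subgroup.normalizer ((W (S : Subgroup G) : Subgroup G) : Set G) ≤ Subgroup.normalizer ((A : Subgroup G) : Set G)) (hnwc : ¬ Cfsg.IsWeaklyClosed A (S : Subgroup G)) : ∃ T : Subgroup G, Cfsg.IsWellPlaced p W (S : Subgroup G) T ∧ A ≤ T ∧ Subgroup.normalizer ((W ((S : Subgroup G) ⊓ Subgroup.normalizer ((T : Subgroup G) : Set G)) : Subgroup G) : Set G) ≤ Subgroup.normalizer ((A : Subgroup G) : Set G) ∧ ¬ p ∣ ((S : Subgroup G) ⊓ Subgroup.normalizer ((T : Subgroup G) : Set G)).relIndex (Subgroup.normalizer ((T : Subgroup G) : Set G)) ∧ A ≤ Subgroup.centralizer (((S : Subgroup G) ⊓ Subgroup.normalizer ((T : Subgroup G) : Set G) : Subgroup G) : Set G) ∧ ∃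 g ∈ Subgroup.normalizer ((T : Subgroup G) : Set G), A.map (MulAut.conj g).toMonoidHom ≤ (S : Subgroup G) ⊓ Subgroup.normalizer ((T : Subgroup G) : Set G) ∧ A.map (MulAut.conj g).toMonoidHom ≠ A := by
  classical
  open Cfsg.Agent.Helper10 Cfsg.Agent.Helper14 in
  -- the family of candidates
  let 𝒞 : Set (Subgroup G) := {T | Cfsg.IsWellPlaced p W (S : Subgroup G) T ∧ A ≤ T ∧
    ∃ g ∈ Subgroup.normalizer ((T : Subgroup G) : Set G),
      A.map (cj g) ≤ (S : Subgroup G) ⊓ Subgroup.normalizer ((T : Subgroup G) : Set G) ∧ A.map (cj g) ≠ A}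
  have hAS : A ≤ (S : Subgroup G) := hAZ.trans inf_le_left
  have hAC : A ≤ Subgroup.centralizer ((S : Subgroup G) : Set G) := hAZ.trans inf_le_right
  -- 𝒞 is nonempty
  have hne : 𝒞.Nonempty := by
    have h1 : ∃ g : G, A.map (cj g) ≤ (S : Subgroup G) ∧ A.map (cj g) ≠ A := by
      by_contra hcon
      push Not at hcon
      exact hnwc ⟨hAS, hcon⟩
    obtain ⟨g, hgS, hgA⟩ := h1
    have hrc : rc g⁻¹ (A : Set G) = ((A.map (cj g) : Subgroup G) : Set G) := by
      rw [rc_coe, inv_inv]
    have hAg : rc g⁻¹ (A : Set G) ⊆ (S : Subgroup G) := by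
      rw [hrc]; exact hgS
    obtain ⟨l, hl, hlp⟩ := exists_dec_of_extremal_set S
      {T : Subgroup G | Cfsg.IsWellPlaced p W (S : Subgroup G) T} (fun U hU => hU.1)
      (wellPlaced_family_hyp S hW) (A : Set G) g⁻¹ hAS hAg
    have key : ∀ l : List (Subgroup G × G),
        Dec {T : Subgroup G | Cfsg.IsWellPlaced p W (S : Subgroup G) T} (A : Set G) l →
        rc (lprod l) (A : Set G) ≠ (A : Set G) →
        ∃ T : Subgroup G, Cfsg.IsWellPlaced p W (S : Subgroup G) T ∧
          ∃ x ∈ Subgroup.normalizer ((T : Subgroup G) : Set G), A ≤ T ∧ rc x (A : Set G) ≠ (A : Set G) := by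
      intro l
      induction l with
      | nil =>
        intro _ hne
        rw [lprod_nil, rc_one] at hne
        exact absurd rfl hne
      | cons b l ih =>
        obtain ⟨T, x⟩ := b
        intro hd hne
        by_cases hx : rc x (A : Set G) = (A : Set G)
        · apply ih
          · have := hd.2.2.2
            rwa [hx] at this
          · rw [lprod_cons, rc_mul, hx] at hne
            exact hne
        · exact ⟨T, hd.1, x, hd.2.1, hd.2.2.1, hx⟩
    have hne' : rc (lprod l) (A : Set G) ≠ (A : Set G) := by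
      rw [hlp, hrc]
      intro h
      exact hgA (SetLike.coe_injective h)
    obtain ⟨T, hTwp, x, hx, hAT, hxA⟩ := key l hl hne'
    refine ⟨T, hTwp, hAT, x⁻¹, inv_mem hx, ?_, ?_⟩
    · have h2 : A.map (cj x⁻¹) ≤ T := by
        have h3 : A.map (cj x⁻¹) ≤ T.map (cj x⁻¹) := Subgroup.map_mono hAT
        rwa [mem_normalizer_iff_map_cj.mp (inv_mem hx)] at h3
      exact h2.trans (le_inf hTwp.1 Subgroup.le_normalizer)
    · intro h
      apply hxA
      rw [rc_coe, h]
  -- maximal member
  obtain ⟨T, hT𝒞, hTmax⟩ := Set.exists_max_image 𝒞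
    (fun T => Nat.card ↥((S : Subgroup G) ⊓ Subgroup.normalizer ((T : Subgroup G) : Set G) : Subgroup G))
    (Set.toFinite 𝒞) hne
  obtain ⟨hTwp, hAT, g, hg, hgR, hgA⟩ := hT𝒞
  have hRp : IsPGroup p ↥((S : Subgroup G) ⊓ Subgroup.normalizer ((T : Subgroup G) : Set G) : Subgroup G) :=
    S.2.to_le inf_le_left
  have hTR : T ≤ (S : Subgroup G) ⊓ Subgroup.normalizer ((T : Subgroup G) : Set G) :=
    le_inf hTwp.1 Subgroup.le_normalizer
  have hACR : A ≤ Subgroup.centralizer (((S : Subgroup G) ⊓ Subgroup.normalizer ((T : Subgroup G) : Set G) : Subgroup G) : Set G) :=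
    hAC.trans (Subgroup.centralizer_le (by intro a ha; exact ha.1))
  refine ⟨T, hTwp, hAT, ?_, hTwp.2 0, hACR, g, hg, hgR, hgA⟩
  by_cases hRS : (S : Subgroup G) ⊓ Subgroup.normalizer ((T : Subgroup G) : Set G) = (S : Subgroup G)
  · rw [hRS]; exact hAN
  · by_contra hcon
    obtain ⟨y, hy, hyA⟩ := SetLike.not_le_iff_exists.mp hcon
    have hT1wp := isWellPlaced_shift hW S.2 hTwp
    have hT1eq : Cfsg.functorTower W (S : Subgroup G) T 1 =
        W ((S : Subgroup G) ⊓ Subgroup.normalizer ((T : Subgroup G) : Set G)) := rfl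
    have hAT1 : A ≤ Cfsg.functorTower W (S : Subgroup G) T 1 := by
      rw [hT1eq]
      exact (le_inf (hAT.trans hTR) hACR).trans (hWZ _ hRp)
    have hyT1 : y ∈ Subgroup.normalizer ((Cfsg.functorTower W (S : Subgroup G) T 1 : Subgroup G) : Set G) := by
      rw [hT1eq]; exact hy
    have hmem : Cfsg.functorTower W (S : Subgroup G) T 1 ∈ 𝒞 := by
      refine ⟨hT1wp, hAT1, y, hyT1, ?_, ?_⟩
      · have h3 : A.map (cj y) ≤ (Cfsg.functorTower W (S : Subgroup G) T 1).map (cj y) := Subgroup.map_mono hAT1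
        rw [mem_normalizer_iff_map_cj.mp hyT1] at h3
        exact h3.trans (le_inf hT1wp.1 Subgroup.le_normalizer)
      · intro h
        exact hyA (mem_normalizer_iff_map_cj.mpr h)
    have hmax := hTmax _ hmem
    have hlt : (S : Subgroup G) ⊓ Subgroup.normalizer ((T : Subgroup G) : Set G) < (S : Subgroup G) :=
      lt_of_le_of_ne inf_le_left hRS
    have hgrow := Cfsg.Agent.Helper11.lt_inf_normalizer (S : Subgroup G) _ S.2 hlt
    have hle1 : (S : Subgroup G) ⊓ Subgroup.normalizer (((S : Subgroup G) ⊓ Subgroup.normalizer ((T : Subgroup G) : Set G) : Subgroup G) : Set G) ≤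
        (S : Subgroup G) ⊓ Subgroup.normalizer ((Cfsg.functorTower W (S : Subgroup G) T 1 : Subgroup G) : Set G) := by
      rw [hT1eq]
      exact inf_le_inf_left _ (normalizer_le_normalizer_functor hW hRp)
    have hlt2 := hgrow.trans_le hle1
    have hcard : Nat.card ↥((S : Subgroup G) ⊓ Subgroup.normalizer ((T : Subgroup G) : Set G) : Subgroup G) <
        Nat.card ↥((S : Subgroup G) ⊓ Subgroup.normalizer ((Cfsg.functorTower W (S : Subgroup G) T 1 : Subgroup G) : Set G) : Subgroup G) := by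
      by_contra hc
      push Not at hc
      exact hlt2.ne (Subgroup.eq_of_le_of_card_ge hlt2.le hc)
    omega

end Cfsg.Agent.S1968
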