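import Cfsg.Statements.S1970
import Cfsg.Agent.Helper10.SecTransfer3
import Cfsg.Agent.Helper10.SecClass
import Cfsg.Agent.S0630

set_option autoImplicit false
universe u
open Cfsg

namespace Cfsg.Agent.S1970

/-- Let p be a prime, G a finite group and W an isomorphism-invariant p-group functor (W assigns to every group Q a subgroup W(Q), nontrivial whenever Q is a nontrivial finite p-group, and every isomorphism from a finite p-group Q onto a group R carries W(Q) onto W(R)). Suppose that for every section G* = K/R of G with C_{G*}(O_p(G*)) ≤ O_p(G*) and every Sylow p-subgroup S* of G*, one has O_p(G*) ∩ (G*)' = O_p(G*) ∩ (N_{G*}(W(S*)))'. Then W controls transfer in every section G* of G: S* ∩ (G*)' = S* ∩ (N_{G*}(W(S*)))' for a Sylow p-subgroup S* of G*. -/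
theorem result {G : Type u} [Group G] [Finite G] {p : ℕ} [Fact p.Prime] (W : ∀ (Q : Type u) [Group Q], Subgroup Q) (hW : Cfsg.IsCharPFunctor.{u} p W) (hloc : ∀ (K R : Subgroup G) [hR : (R.subgroupOf K).Normal], Subgroup.centralizer ((Cfsg.pCore p (↥K ⧸ R.subgroupOf K) : Subgroup (↥K ⧸ R.subgroupOf K)) : Set (↥K ⧸ R.subgroupOf K)) ≤ Cfsg.pCore p (↥K ⧸ R.subgroupOf K) → ∀ T : Sylow p (↥K ⧸ R.subgroupOf K), Cfsg.pCore p (↥K ⧸ R.subgroupOf K) ⊓ commutator (↥K ⧸ R.subgroupOf K) = Cfsg.pCore p (↥K ⧸ R.subgroupOf K) ⊓ ⁅Subgroup.normalizer ((Cfsg.inducedFunctor (G := (↥K ⧸ R.subgroupOf K)) W ((T : Subgroup (↥K ⧸ R.subgroupOf K))) : Subgroup (↥K ⧸ R.subgroupOf K)) : Set (↥K ⧸ R.subgroupOf K)), Subgroup.normalizer ((Cfsg.inducedFunctor (G := (↥K ⧸ R.subgroupOf K)) W ((T : Subgroup (↥K ⧸ R.subgroupOf K))) : Subgroup (↥K ⧸ R.subgroupOf K)) : Set (↥K ⧸ R.subgroupOf K))⁆) : ∀ (K R : Subgroup G) [hR : (R.subgroupOf K).Normal], Cfsg.ControlsTransferIn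 p (Cfsg.inducedFunctor (G := (↥K ⧸ R.subgroupOf K)) W) ⊤ := by
  classical
  have h𝓦 := Cfsg.Agent.Helper10.h𝓦_singleton hW
  have Hc : ∀ (Y : Type u) [Group Y] [Finite Y], Cfsg.Agent.Helper10.IsSec G Y →
      Subgroup.centralizer ((Cfsg.pCore p Y : Subgroup Y) : Set Y) ≤ Cfsg.pCore p Y →
      (∀ M : Subgroup Y, M ≠ ⊤ →
        Cfsg.Agent.Helper10.ClaimT p ({W} : Set (∀ (Q : Type u) [Group Q], Subgroup Q)) ↥M) →
      (∀ (N : Subgroup Y) [N.Normal], N ≠ ⊥ →
        Cfsg.Agent.Helper10.ClaimT p ({W} : Set (∀ (Q : Type u) [Group Q], Subgroup Q)) (Y ⧸ N)) →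
      Cfsg.Agent.Helper10.ClaimT p ({W} : Set (∀ (Q : Type u) [Group Q], Subgroup Q)) Y := by
    intro Y _ _ hY hcent hsub hquot
    obtain ⟨K, R, hR, ⟨e⟩⟩ := hY.exists_equiv
    have hes : Function.Surjective e.toMonoidHom := e.surjective
    have hcentZ := Cfsg.Agent.S0630.centralizer_pCore_le_of_equiv p e hcent
    apply Cfsg.Agent.Helper10.claimT_constrained_of_pCore hW hcent _ hsub hquot
    intro T
    apply Cfsg.Agent.Helper10.pCore_inf_commutator_le_of_equiv hW e (T : Subgroup Y) T.2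
    have h1 := hloc K R hcentZ (T.mapSurjective hes)
    rw [Sylow.coe_mapSurjective] at h1
    rw [h1]
    exact inf_le_right
  intro K R hR
  have h2 := Cfsg.Agent.Helper10.claimT_all' h𝓦 (fun Y _ => Cfsg.Agent.Helper10.IsSec G Y)
    (fun Y _ hY M => hY.subgroup M) (fun Y _ hY N _ => hY.quotient N) Hc
    (Nat.card (↥K ⧸ R.subgroupOf K)) (↥K ⧸ R.subgroupOf K) rfl
    (Cfsg.Agent.Helper10.isSec_section K R)
  exact Cfsg.Agent.Helper10.controlsTransferIn_of_claimT h2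

end Cfsg.Agent.S1970
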