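import Cfsg.Statements.S1972
import Cfsg.Agent.Helper10.MinFail
import Cfsg.Agent.Helper10.SecTransfer3
import Cfsg.Agent.Helper10.SecClass
import Cfsg.Agent.S0630

set_option autoImplicit false
universe u
open Cfsg

namespace Cfsg.Agent.S1972

/-- Let p be a prime, G a finite group and W an isomorphism-invariant p-group functor (W assigns to every group Q a subgroup W(Q), nontrivial whenever Q is a nontrivial finite p-group, and every isomorphism from a finite p-group Q onto a group R carries W(Q) onto W(R)). Suppose that whenever G* = K/R is a section of G with C_{G*}(O_p(G*)) ≤ O_p(G*) and S* is a Sylow p-subgroup of G* with W(S*) not normal in G*, there is an element g of S* outside O_p(G*) such that [X, g, …, g] ≤ Y with p − 1 entries g, for every chief factor X/Y of G* with X ≤ O_p(G*). Then W controls transfer in every section of G. -/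
theorem result {G : Type u} [Group G] [Finite G] {p : ℕ} [Fact p.Prime] (W : ∀ (Q : Type u) [Group Q], Subgroup Q) (hW : Cfsg.IsCharPFunctor.{u} p W) (hloc : ∀ (K R : Subgroup G) [hR : (R.subgroupOf K).Normal], Subgroup.centralizer ((Cfsg.pCore p (↥K ⧸ R.subgroupOf K) : Subgroup (↥K ⧸ R.subgroupOf K)) : Set (↥K ⧸ R.subgroupOf K)) ≤ Cfsg.pCore p (↥K ⧸ R.subgroupOf K) → ∀ T : Sylow p (↥K ⧸ R.subgroupOf K), ¬ (Cfsg.inducedFunctor (G := (↥K ⧸ R.subgroupOf K)) W ((T : Subgroup (↥K ⧸ R.subgroupOf K)))).Normal → ∃ g : (↥K ⧸ R.subgroupOf K), g ∈ (T : Subgroup (↥K ⧸ R.subgroupOf K)) ∧ g ∉ Cfsg.pCore p (↥K ⧸ R.subgroupOf K) ∧ ∀ U V : Subgroup (↥K ⧸ R.subgroupOf K), Cfsg.IsChiefFactor U V → U ≤ Cfsg.pCore p (↥K ⧸ R.subgroupOf K) → Cfsg.iterCommutator U (Subgroup.zpowers g) (p - 1) ≤ V) : ∀ (K R : Subgroup G) [hR : (R.subgroupOf K).Normal], Cfsg.ControlsTransferIn p (Cfsg.inducedFunctor (G := (↥K ⧸ R.subgroupOf K)) W) ⊤ := by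
  classical
  have h𝓦 := Cfsg.Agent.Helper10.h𝓦_singleton hW
  have Hc : ∀ (Y : Type u) [Group Y] [Finite Y], Cfsg.Agent.Helper10.IsSec G Y →
      Subgroup.centralizer ((Cfsg.pCore p Y : Subgroup Y) : Set Y) ≤ Cfsg.pCore p Y →
      (∀ M : Subgroup Y, M ≠ ⊤ →
        Cfsg.Agent.Helper10.ClaimT p ({W} : Set (∀ (Q : Type u) [Group Q], Subgroup Q)) ↥M) →
      (∀ (N : Subgroup Y) [N.Normal], N ≠ ⊥ →
        Cfsg.Agent.Helper10.ClaimT p ({W} : Set (∀ (Q : Type u) [Group Q], Subgroup Q)) (Y ⧸ N)) →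
      Cfsg.Agent.Helper10.ClaimT p ({W} : Set (∀ (Q : Type u) [Group Q], Subgroup Q)) Y := by
    intro Y _ _ hY hcent hsub hquot
    obtain ⟨K, R, hR, ⟨e⟩⟩ := hY.exists_equiv
    apply Cfsg.Agent.Helper10.claimT_of_equiv h𝓦 e
    have hcentZ := Cfsg.Agent.S0630.centralizer_pCore_le_of_equiv p e hcent
    have hsubZ : ∀ M' : Subgroup (↥K ⧸ R.subgroupOf K), M' ≠ ⊤ →
        Cfsg.Agent.Helper10.ClaimT p ({W} : Set (∀ (Q : Type u) [Group Q], Subgroup Q)) ↥M' := by
      intro M' hM'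
      have hne : M'.map e.symm.toMonoidHom ≠ ⊤ := by
        intro h
        apply hM'
        have h1 := congrArg (Subgroup.map e.toMonoidHom) h
        rw [Subgroup.map_map] at h1
        have h2 : e.toMonoidHom.comp e.symm.toMonoidHom = MonoidHom.id _ := by
          ext y; simp
        rw [h2, Subgroup.map_id, Subgroup.map_top_of_surjective _ e.surjective] at h1
        exact h1
      exact Cfsg.Agent.Helper10.claimT_of_equiv h𝓦 (e.symm.subgroupMap M') (hsub _ hne)
    have hquotZ : ∀ (N' : Subgroup (↥K ⧸ R.subgroupOf K)) [N'.Normal], N' ≠ ⊥ →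
        Cfsg.Agent.Helper10.ClaimT p ({W} : Set (∀ (Q : Type u) [Group Q], Subgroup Q))
          ((↥K ⧸ R.subgroupOf K) ⧸ N') := by
      intro N' hN'n hN'
      haveI : (N'.map e.symm.toMonoidHom).Normal := hN'n.map _ e.symm.surjective
      have hne : N'.map e.symm.toMonoidHom ≠ ⊥ := by
        rw [Ne, Subgroup.map_eq_bot_iff_of_injective _ e.symm.injective]
        exact hN'
      exact Cfsg.Agent.Helper10.claimT_of_equiv h𝓦
        (QuotientGroup.congr N' (N'.map e.symm.toMonoidHom) e.symm rfl) (hquot _ hne)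
    intro T'
    by_contra hfail
    by_cases hnorm : (Cfsg.inducedFunctor W (T' : Subgroup (↥K ⧸ R.subgroupOf K))).Normal
    · apply hfail
      rw [Cfsg.Agent.Helper10.ftarget_singleton, Subgroup.normalizer_eq_top_iff.2 hnorm,
        _root_.commutator_def]
    · obtain ⟨g, hgT, hgP, hall⟩ := hloc K R hcentZ T' hnorm
      obtain ⟨U, V, hchief, hUQ, hmf⟩ := Cfsg.Agent.Helper10.mf_chief h𝓦 ⟨W, rfl⟩ T' hsubZ hfail
        hcentZ hquotZ
      exact hmf g hgT hgP (hall U V hchief hUQ)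
  intro K R hR
  have h2 := Cfsg.Agent.Helper10.claimT_all' h𝓦 (fun Y _ => Cfsg.Agent.Helper10.IsSec G Y)
    (fun Y _ hY M => hY.subgroup M) (fun Y _ hY N _ => hY.quotient N) Hc
    (Nat.card (↥K ⧸ R.subgroupOf K)) (↥K ⧸ R.subgroupOf K) rfl
    (Cfsg.Agent.Helper10.isSec_section K R)
  exact Cfsg.Agent.Helper10.controlsTransferIn_of_claimT h2

end Cfsg.Agent.S1972
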