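import Cfsg.Statements.S1982
import Cfsg.Agent.Helper15.S1982MQ

set_option autoImplicit false
set_option linter.unusedSectionVars false
set_option linter.unusedVariables false
set_option linter.style.haveILetI false
universe u
open Cfsg

namespace Cfsg.Agent.S1982

open Subgroup Cfsg.Agent.Helper10 Cfsg.Agent.Helper26 Cfsg.Agent.S1983P
open scoped commutatorElement

/-- Let p be a prime, G a finite group with Sylow p-subgroup S, T = O_p(G), and A a characteristic subgroup of T with A/Z(A) elementary abelian, [T, A] ≤ Z(A), C_T(A) = Z(A), and such that every automorphism of T of order prime to p fixing A elementwise is trivial (a critical subgroup of T). Suppose that the lower or the upper K-infinity subgroup of S is not normal in G. Then there is an element g of S outside T with [A, g, g, g] ≤ Z(A) and [Z(A), g, g] = 1, and such that if moreover C_G(T) ≤ T then some chief factor X/Y of G with X ≤ A satisfies [X, g, g] ≤ Y but [X, g] ≰ Y. -/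
theorem result {G : Type u} [Group G] [Finite G] {p : ℕ} [Fact p.Prime] (S : Sylow p G) (A : Subgroup G) (hAT : A ≤ (Cfsg.pCore p G)) (hAchar : (A.subgroupOf (Cfsg.pCore p G)).Characteristic) (hA1 : ∀ a ∈ A, a ^ p ∈ A ⊓ Subgroup.centralizer ((A : Subgroup G) : Set G)) (hA2 : ⁅A, A⁆ ≤ Subgroup.centralizer ((A : Subgroup G) : Set G)) (hA3 : ⁅(Cfsg.pCore p G), A⁆ ≤ A ⊓ Subgroup.centralizer ((A : Subgroup G) : Set G)) (hA4 : (Cfsg.pCore p G) ⊓ Subgroup.centralizer ((A : Subgroup G) : Set G) = A ⊓ Subgroup.centralizer ((A : Subgroup G) : Set G)) (hA5 : ∀ φ : MulAut ↥(Cfsg.pCore p G), (orderOf φ).Coprime p → (∀ a : ↥(Cfsg.pCore p G), (a : G) ∈ A → φ a = a) → φ = 1) (hK : ¬ (Cfsg.inducedFunctor Cfsg.kInfLower (S : Subgroup G)).Normal ∨ ¬ (Cfsg.inducedFunctor Cfsg.kInfUpper (S : Subgroup G)).Normal) : ∃ g : G, g ∈ (S : Subgroup G) ∧ g ∉ (Cfsg.pCore p G) ∧ Cfsg.iterCommutator A (Subgroup.zpowers g) 3 ≤ A ⊓ Subgroup.centralizer ((A : Subgroup G) : Set G) ∧ ⁅⁅A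 ⊓ Subgroup.centralizer ((A : Subgroup G) : Set G), (Subgroup.zpowers g)⁆, (Subgroup.zpowers g)⁆ = ⊥ ∧ (Subgroup.centralizer (((Cfsg.pCore p G) : Subgroup G) : Set G) ≤ (Cfsg.pCore p G) → ∃ U V : Subgroup G, Cfsg.IsChiefFactor U V ∧ U ≤ A ∧ ⁅⁅U, (Subgroup.zpowers g)⁆, (Subgroup.zpowers g)⁆ ≤ V ∧ ¬ ⁅U, (Subgroup.zpowers g)⁆ ≤ V) := by
  have hTp : IsPGroup p ↥(Cfsg.pCore p G) := Cfsg.Agent.Helper14.pCore_isPGroup p
  haveI hTn : (Cfsg.pCore p G).Normal := Cfsg.Agent.Helper14.pCore_normal p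
  have hTS : Cfsg.pCore p G ≤ (S : Subgroup G) := Cfsg.Agent.Helper14.pCore_le_sylow p S
  haveI := hAchar
  haveI hAn : A.Normal := by
    have h1 : ((A.subgroupOf (Cfsg.pCore p G)).map (Cfsg.pCore p G).subtype).Normal :=
      ConjAct.normal_of_characteristic_of_normal
    rwa [Subgroup.map_subgroupOf_eq_of_le hAT] at h1
  have hcrit : ⁅A, Cfsg.pCore p G⁆ ≤ A ⊓ centralizer (A : Set G) := by
    rw [commutator_comm]; exact hA3
  have hnot : ¬ ((Cfsg.inducedFunctor Cfsg.kInfLower (S : Subgroup G)).Normal ∧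
      (Cfsg.inducedFunctor Cfsg.kInfUpper (S : Subgroup G)).Normal) := by
    rintro ⟨h1, h2⟩
    rcases hK with h | h
    · exact h h1
    · exact h h2
  by_contra hex
  apply hnot
  by_cases hcon : Subgroup.centralizer (((Cfsg.pCore p G) : Subgroup G) : Set G) ≤ (Cfsg.pCore p G)
  · have hCA := MQ.cent_le A hAT hA5 hcon
    apply MQ.main S A hAT hcrit hCA
    intro g hgS h3 h2 U V hUV hUA hq
    by_cases hgT : g ∈ Cfsg.pCore p G
    · haveI hUn : U.Normal := hUV.2.1
      haveI hVn : V.Normal := hUV.2.2.1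
      rw [Subgroup.commutator_le]
      intro u hu z hz
      have hzT : z ∈ Cfsg.pCore p G := (zpowers_le.2 hgT) hz
      have h1 := chief_cent (p := p) hUV z hzT u hu
      have e : ⁅u, z⁆ = (z * u * z⁻¹ * u⁻¹)⁻¹ := by
        rw [commutatorElement_def]; group
      rw [e]
      exact V.inv_mem h1
    · by_contra hne
      exact hex ⟨g, hgS, hgT, h3, h2, fun _ => ⟨U, V, hUV, hUA, hq, hne⟩⟩
  · have hgood : ∀ g ∈ (S : Subgroup G), Cfsg.iterCommutator A (Subgroup.zpowers g) 3 = ⊥ →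
        Cfsg.iterCommutator (A ⊓ centralizer (A : Set G)) (Subgroup.zpowers g) 2 = ⊥ →
        g ∈ Cfsg.pCore p G := by
      intro g hgS h3 h2
      by_contra hgT
      exact hex ⟨g, hgS, hgT, by rw [h3]; exact bot_le, h2, fun h => absurd h hcon⟩
    apply kInf_normal_of_bounds S
    intro n
    have hb := seq_bounds A (Cfsg.pCore p G) (S : Subgroup G) hAT hTS hcrit hgood n
    exact ⟨hb.2.2.1, hb.2.2.2⟩

end Cfsg.Agent.S1982
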