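import Cfsg.Statements.S1983
import Cfsg.Agent.Helper15.S1983LOWER
import Cfsg.Agent.Helper15.ZJStrongly

set_option autoImplicit false
universe u
open Cfsg

namespace Cfsg.Agent.S1983P

open Subgroup Cfsg Cfsg.Agent.Helper10 Cfsg.Agent.Helper26
open scoped commutatorElement

variable {G : Type u} [Group G] [Finite G] {p : ℕ} [Fact p.Prime]

/-- **Normality of the K-infinity subgroups** in a constrained group all of whose quotients are
`p`-stable. -/
theorem ASM.kInf_normal_of_quotStab (hS : QuotStab p G) (S : Sylow p G)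
    (hcon : centralizer ((Cfsg.pCore p G : Subgroup G) : Set G) ≤ Cfsg.pCore p G) :
    (Cfsg.inducedFunctor kInfLower (S : Subgroup G)).Normal ∧
      (Cfsg.inducedFunctor kInfUpper (S : Subgroup G)).Normal := by
  have hTp : IsPGroup p ↥(Cfsg.pCore p G) := Cfsg.Agent.Helper14.pCore_isPGroup p
  have hTn : (Cfsg.pCore p G).Normal := Cfsg.Agent.Helper14.pCore_normal p
  have hTS : Cfsg.pCore p G ≤ (S : Subgroup G) := Cfsg.Agent.Helper14.pCore_le_sylow p S
  obtain ⟨A, hAn, hAT, hcrit, hcent, hCA⟩ := exists_critical (Cfsg.pCore p G) hTp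
    (fun N hN hNp => Cfsg.Agent.Helper14.le_pCore p hN hNp) hcon
  apply kInf_normal_of_bounds S
  intro n
  have hb := seq_bounds_gen A (Cfsg.pCore p G) (S : Subgroup G) hAT hTS hcrit
    (fun C hC _ hAC h1 h2 => QCOPY.testI hS A hAT hCA C hC hAC h1 h2)
    (fun R B hAR hB hBS => LOWER.main hS A hAT hcrit hCA R B hAR hB (S.2.to_le hBS))
    (fun R B hAR hB _ => QCOPY.upper hS A hAT hCA R B hAR hB) n
  exact ⟨hb.2.2.1, hb.2.2.2⟩

end Cfsg.Agent.S1983P

namespace Cfsg.Agent.S1983

open Subgroup Cfsg.Agent.Helper10 Cfsg.Agent.Helper26 Cfsg.Agent.S1983P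

/-- Let p be a prime, G a finite group with Sylow p-subgroup S and T = O_p(G). Suppose that the lower or the upper K-infinity subgroup of S is not normal in G. Then there is an element g of S outside T such that [X, g, g, g, g] ≤ Y for every chief factor X/Y of G with X ≤ T, and [Z(T), g, g] = 1; and if moreover C_G(T) ≤ T then some quotient group of G is not p-stable (in the normalizer form: some quadratically acting element of a normalizer fails to map into O_p of the automizer). -/
theorem result {G : Type u} [Group G] [Finite G] {p : ℕ} [Fact p.Prime] (S : Sylow p G) (hK : ¬ (Cfsg.inducedFunctor Cfsg.kInfLower (S : Subgroup G)).Normal ∨ ¬ (Cfsg.inducedFunctor Cfsg.kInfUpper (S : Subgroup G)).Normal) : ∃ g : G, g ∈ (S : Subgroup G) ∧ g ∉ (Cfsg.pCore p G) ∧ (∀ U V : Subgroup G, Cfsg.IsChiefFactor U V → U ≤ (Cfsg.pCore p G) → Cfsg.iterCommutator U (Subgroup.zpowers g) 4 ≤ V) ∧ ⁅⁅((Cfsg.pCore p G) ⊓ Subgroup.centralizer (((Cfsg.pCore p G) : Subgroup G) : Set G)), (Subgroup.zpowers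 g)⁆, (Subgroup.zpowers g)⁆ = ⊥ ∧ (Subgroup.centralizer (((Cfsg.pCore p G) : Subgroup G) : Set G) ≤ (Cfsg.pCore p G) → ∃ (N : Subgroup G) (_ : N.Normal), ¬ Cfsg.IsNormalizerPStable p (G ⧸ N)) := by
  have hnot : ¬ ((Cfsg.inducedFunctor Cfsg.kInfLower (S : Subgroup G)).Normal ∧
      (Cfsg.inducedFunctor Cfsg.kInfUpper (S : Subgroup G)).Normal) := by
    rintro ⟨h1, h2⟩
    rcases hK with h | h
    · exact h h1
    · exact h h2
  have hlast : Subgroup.centralizer (((Cfsg.pCore p G) : Subgroup G) : Set G) ≤ (Cfsg.pCore p G) →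
      ∃ (N : Subgroup G) (_ : N.Normal), ¬ Cfsg.IsNormalizerPStable p (G ⧸ N) := by
    intro hcon
    by_contra hall
    apply hnot
    apply ASM.kInf_normal_of_quotStab _ S hcon
    intro Y hY
    apply Cfsg.Agent.Helper15.stabHyp_of_isNormalizerPStable
    by_contra hst
    exact hall ⟨Y, hY, hst⟩
  by_contra hex
  apply hnot
  apply kInf_normal' S
  intro g hgS h4 h2
  by_contra hgT
  exact hex ⟨g, hgS, hgT, h4, h2, hlast⟩

end Cfsg.Agent.S1983
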