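import Cfsg.Statements.S1984
import Cfsg.Agent.Helper10.KInfNormal
import Cfsg.Agent.Helper10.MinFail
import Cfsg.Agent.Helper10.SecTransfer3

set_option autoImplicit false
universe u
open Cfsg

namespace Cfsg.Agent.S1984

/-- Let p ≥ 5 be a prime and G a finite group. Then the lower K-infinity subgroup controls transfer in G: for some (equivalently, every) Sylow p-subgroup S of G, S ∩ G' = S ∩ (N_G(K))', where K is the lower K-infinity subgroup of S. -/
theorem result {G : Type u} [Group G] [Finite G] {p : ℕ} [Fact p.Prime] (hp : 5 ≤ p) : Cfsg.ControlsTransferIn p (Cfsg.inducedFunctor (G := G) Cfsg.kInfLower) ⊤ := by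
  classical
  have hW : Cfsg.IsCharPFunctor.{u} p Cfsg.kInfLower := Cfsg.Agent.Helper10.kInfLower_isCharPFunctor
  have h𝓦 := Cfsg.Agent.Helper10.h𝓦_singleton hW
  have Hc : ∀ (Y : Type u) [Group Y] [Finite Y], True →
      Subgroup.centralizer ((Cfsg.pCore p Y : Subgroup Y) : Set Y) ≤ Cfsg.pCore p Y →
      (∀ M : Subgroup Y, M ≠ ⊤ →
        Cfsg.Agent.Helper10.ClaimT p ({Cfsg.kInfLower} : Set (∀ (Q : Type u) [Group Q], Subgroup Q)) ↥M) →
      (∀ (N : Subgroup Y) [N.Normal], N ≠ ⊥ →
        Cfsg.Agent.Helper10.ClaimT p ({Cfsg.kInfLower} : Set (∀ (Q : Type u) [Group Q], Subgroup Q)) (Y ⧸ N)) →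
      Cfsg.Agent.Helper10.ClaimT p ({Cfsg.kInfLower} : Set (∀ (Q : Type u) [Group Q], Subgroup Q)) Y := by
    intro Y _ _ _ hcent hsub hquot
    intro T'
    by_contra hfail
    by_cases hnorm : (Cfsg.inducedFunctor Cfsg.kInfLower (T' : Subgroup Y)).Normal
    · apply hfail
      rw [Cfsg.Agent.Helper10.ftarget_singleton, Subgroup.normalizer_eq_top_iff.2 hnorm,
        _root_.commutator_def]
    · obtain ⟨U, V, hchief, hUQ, hmf⟩ := Cfsg.Agent.Helper10.mf_chief h𝓦 ⟨Cfsg.kInfLower, rfl⟩ T' hsub hfail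
        hcent hquot
      apply hnorm
      refine (Cfsg.Agent.Helper10.kInf_normal T' hcent ?_).1
      intro g hg hall
      by_contra hgQ
      apply hmf g hg hgQ
      have hUn : U.Normal := hchief.2.1
      have hanti := Cfsg.Agent.Helper26.iter_antitone
        (Cfsg.Agent.Helper10.le_normalizer_of_normal (Subgroup.zpowers g) U)
      exact (hanti (by omega : 4 ≤ p - 1)).trans (hall U V hchief hUQ)
  have h2 := Cfsg.Agent.Helper10.claimT_all' h𝓦 (fun Y _ => True)
    (fun Y _ _ M => trivial) (fun Y _ _ N _ => trivial) Hc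
    (Nat.card G) G rfl trivial
  exact Cfsg.Agent.Helper10.controlsTransferIn_of_claimT h2

end Cfsg.Agent.S1984
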