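import Cfsg.Statements.S1985
import Cfsg.Agent.Helper10.WCElt
import Cfsg.Agent.Helper10.KInfWC

set_option autoImplicit false
universe u
open Cfsg

namespace Cfsg.Agent.S1985

/-- Let p be an odd prime and G a finite group. Then the lower K-infinity subgroup controls weak closure of elements in G: the lower K-infinity subgroup of every p-subgroup P of G contains Z(P), and for some (equivalently, every) Sylow p-subgroup S of G, with K the lower K-infinity subgroup of S, every element of S commuting with all of N_G(K) is weakly closed in S with respect to G (every G-conjugate of it lying in S equals it). -/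
theorem result {G : Type u} [Group G] [Finite G] {p : ℕ} [Fact p.Prime] (hp : p ≠ 2) : Cfsg.ControlsWeakClosureOfElementsIn p (Cfsg.inducedFunctor (G := G) Cfsg.kInfLower) ⊤ := by
  have hp : p.Prime := Fact.out
  have h2 : 2 ≤ p - 1 := by
    have := hp.two_le
    omega
  refine Cfsg.Agent.Helper10.wc_elt_all (Cfsg.inducedFunctor Cfsg.kInfLower)
    (Cfsg.Agent.Helper10.iF_isConjugacyFunctor Cfsg.Agent.Helper10.kInfLower_isCharPFunctor)
    (fun P _ => Cfsg.Agent.Helper10.iF_center_le
      (fun Q _ => Cfsg.Agent.Helper10.center_le_kInfLower Q) P) ?_ ⊤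
  intro H T hTH hTp hTi hnn
  obtain ⟨g, hgT, hgQ, _, hquad⟩ := Cfsg.Agent.Helper10.kInf_hloc H T hTH hTp hTi hnn
  refine ⟨g, hgT, hgQ, ?_⟩
  intro U V _ hU
  have h3 : Cfsg.iterCommutator (U.map H.subtype) (Subgroup.zpowers (g : G)) 2 = ⊥ := by
    rw [eq_bot_iff, ← hquad]
    exact Subgroup.commutator_mono (Subgroup.commutator_mono hU le_rfl) le_rfl
  rw [Cfsg.Agent.Helper10.iterCommutator_eq_bot_of_le h3 h2]
  exact bot_le

end Cfsg.Agent.S1985
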