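import Cfsg.Statements.S2005
import Cfsg.Agent.Helper10.ThompsonNPC
import Cfsg.Agent.S0630

set_option autoImplicit false
universe u
open Cfsg

namespace Cfsg.Agent.S2005

/-- Thompson's normal p-complement criterion in functor form. Let p be a prime, G a finite group with Sylow p-subgroup S, and W an isomorphism-invariant p-group functor (W assigns to every group Q a subgroup W(Q), nontrivial whenever Q is a nontrivial finite p-group, and every isomorphism from a finite p-group Q onto a group R carries W(Q) onto W(R)). Suppose N_G(W(S)) has a normal p-complement, and that W(S*) is normal in G* whenever G* = K/R is a section of G with C_{G*}(O_p(G*)) ≤ O_p(G*) such that G*/O_p(G*) has a normal p-complement, and S* is a Sylow p-subgroup of G* that is a maximal subgroup of G*. Then G has a normal p-complement. -/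
theorem result {G : Type u} [Group G] [Finite G] {p : ℕ} [Fact p.Prime] (W : ∀ (Q : Type u) [Group Q], Subgroup Q) (hW : Cfsg.IsCharPFunctor.{u} p W) (S : Sylow p G) (hN : Cfsg.HasNormalPComplement p ↥(Subgroup.normalizer ((Cfsg.inducedFunctor (G := G) W (S : Subgroup G) : Subgroup G) : Set G))) (hloc : ∀ (K R : Subgroup G) [hR : (R.subgroupOf K).Normal], Subgroup.centralizer ((Cfsg.pCore p (↥K ⧸ R.subgroupOf K) : Subgroup (↥K ⧸ R.subgroupOf K)) : Set (↥K ⧸ R.subgroupOf K)) ≤ Cfsg.pCore p (↥K ⧸ R.subgroupOf K) → Cfsg.HasNormalPComplement p ((↥K ⧸ R.subgroupOf K) ⧸ Cfsg.pCore p (↥K ⧸ R.subgroupOf K)) → ∀ T : Sylow p (↥K ⧸ R.subgroupOf K), IsCoatom (T : Subgroup (↥K ⧸ R.subgroupOf K)) → (Cfsg.inducedFunctor (G := (↥K ⧸ R.subgroupOf K)) W ((T : Subgroup (↥K ⧸ R.subgroupOf K)))).Normal) : Cfsg.HasNormalPComplement p G := by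
  classical
  refine Cfsg.Agent.Helper10.thompson_reduction hW (fun Y _ => Cfsg.Agent.Helper10.IsSec G Y)
    (fun Y _ hY M => hY.subgroup M) (fun Y _ hY N _ => hY.quotient N) ?_
    (Nat.card G) G rfl Cfsg.Agent.Helper10.IsSec.refl S hN
  intro Y _ _ hY hcent hquotNPC T hTco hnpc hT
  obtain ⟨K, R, hR, ⟨e⟩⟩ := hY.exists_equiv
  have hes : Function.Surjective e.toMonoidHom := e.surjective
  have hcentZ := Cfsg.Agent.S0630.centralizer_pCore_le_of_equiv p e hcent
  have hquotZ : Cfsg.HasNormalPComplement p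
      ((↥K ⧸ R.subgroupOf K) ⧸ Cfsg.pCore p (↥K ⧸ R.subgroupOf K)) :=
    Cfsg.Agent.Helper10.npc_of_equiv
      (QuotientGroup.congr (Cfsg.pCore p Y) (Cfsg.pCore p (↥K ⧸ R.subgroupOf K)) e
        (Cfsg.Agent.Helper14.pCore_map_equiv p e)) hquotNPC
  have hcoZ : IsCoatom ((T.mapSurjective hes :
      Sylow p (↥K ⧸ R.subgroupOf K)) : Subgroup (↥K ⧸ R.subgroupOf K)) := by
    rw [Sylow.coe_mapSurjective]
    have := (e.mapSubgroup.isCoatom_iff (T : Subgroup Y)).2 hTco
    exact this
  have hnorm := hloc K R hcentZ hquotZ (T.mapSurjective hes) hcoZ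
  rw [Sylow.coe_mapSurjective, ← Cfsg.Agent.Helper10.iF_map_equiv hW e T.2] at hnorm
  have hnormY : (Cfsg.inducedFunctor W (T : Subgroup Y)).Normal := by
    have h1 := hnorm.comap e.toMonoidHom
    rwa [Subgroup.comap_map_eq_self_of_injective e.injective] at h1
  apply hnpc
  have hNtop : Subgroup.normalizer ((Cfsg.inducedFunctor W (T : Subgroup Y) : Subgroup Y) : Set Y) = ⊤ :=
    Subgroup.normalizer_eq_top_iff.2 hnormY
  rw [hNtop] at hT
  exact Cfsg.Agent.Helper10.npc_of_top hT

end Cfsg.Agent.S2005
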