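import Cfsg.Statements.S2007
import Cfsg.Agent.Helper10.NPCentral

set_option autoImplicit false
open Cfsg

namespace Cfsg.Agent.S2007

/-- Let p be a prime, G a finite group with Sylow p-subgroup S, and T a normal subgroup of S containing C_S(T). If N_G(T)/C_G(T) is a p-group (every element of N_G(T) of order prime to p centralizes T), then N_G(T) has a normal p-complement. -/
theorem result {G : Type*} [Group G] [Finite G] {p : ℕ} [Fact p.Prime] (S : Sylow p G) (T : Subgroup G) (hTS : T ≤ (S : Subgroup G)) (hTn : (S : Subgroup G) ≤ Subgroup.normalizer ((T : Subgroup G) : Set G)) (hC : (S : Subgroup G) ⊓ Subgroup.centralizer ((T : Subgroup G) : Set G) ≤ T) (hN : ∀ g ∈ Subgroup.normalizer ((T : Subgroup G) : Set G), (orderOf g).Coprime p → g ∈ Subgroup.centralizer ((T : Subgroup G) : Set G)) : Cfsg.HasNormalPComplement p ↥(Subgroup.normalizer ((T : Subgroup G) : Set G)) := by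
  classical
  set N := Subgroup.normalizer ((T : Subgroup G) : Set G) with hNdef
  have hSN : (S : Subgroup G) ≤ N := hTn
  let P : Sylow p ↥N := S.subtype hSN
  apply Cfsg.Agent.Helper10.hasNormalPComplement_of_central P
  -- pResidual of N lies in the centralizer of T
  have hRC : ∀ r ∈ Cfsg.pResidual p ↥N, (r : G) ∈ Subgroup.centralizer ((T : Subgroup G) : Set G) := by
    intro r hr
    unfold Cfsg.pResidual at hr
    induction hr using Subgroup.closure_induction with
    | mem z hz =>
      change Nat.Coprime (orderOf z) p at hz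
      apply hN _ z.2
      rwa [Subgroup.orderOf_coe]
    | one => exact one_mem _
    | mul a b _ _ iha ihb => exact mul_mem iha ihb
    | inv a _ iha => exact inv_mem iha
  intro x hx r hr
  have hxS : (x : G) ∈ (S : Subgroup G) := by
    have h1 : x ∈ (P : Subgroup ↥N) := hx.1
    have h2 : x ∈ (S : Subgroup G).subgroupOf N := h1
    exact Subgroup.mem_subgroupOf.mp h2
  have hxT : (x : G) ∈ T := hC ⟨hxS, hRC x hx.2⟩
  have hrC := hRC r hr
  rw [Subgroup.mem_centralizer_iff] at hrC
  apply Subtype.ext
  simp only [Subgroup.coe_mul]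
  exact hrC _ hxT

end Cfsg.Agent.S2007
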