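import Cfsg.Statements.S1988
import Cfsg.Agent.Helper10.KInfStab4
import Cfsg.Agent.Helper10.KInfCent
import Cfsg.Agent.Lead.TNC14
import Cfsg.Agent.S2005
import Cfsg.Agent.S2007

set_option autoImplicit false
universe u
open Cfsg

namespace Cfsg.Agent.S1988

/-- Let p be an odd prime, G a finite group with Sylow p-subgroup S and K the lower K-infinity subgroup of S. If N_G(K) has a normal p-complement, or if N_G(K)/C_G(K) is a p-group (every element of N_G(K) of order prime to p centralizes K), then G has a normal p-complement. -/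
theorem result {G : Type u} [Group G] [Finite G] {p : ℕ} [Fact p.Prime] (hp : p ≠ 2) (S : Sylow p G) (h : Cfsg.HasNormalPComplement p ↥(Subgroup.normalizer ((Cfsg.inducedFunctor Cfsg.kInfLower (S : Subgroup G) : Subgroup G) : Set G)) ∨ ∀ g ∈ Subgroup.normalizer ((Cfsg.inducedFunctor Cfsg.kInfLower (S : Subgroup G) : Subgroup G) : Set G), (orderOf g).Coprime p → g ∈ Subgroup.centralizer ((Cfsg.inducedFunctor Cfsg.kInfLower (S : Subgroup G) : Subgroup G) : Set G)) : Cfsg.HasNormalPComplement p G := by
  have hW : Cfsg.IsCharPFunctor.{u} p Cfsg.kInfLower := Cfsg.Agent.Helper10.kInfLower_isCharPFunctor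
  have hSp : IsPGroup p ↥(S : Subgroup G) := S.2
  -- the normalizer of `K_∞(S)` has a normal `p`-complement in both cases
  have hN : Cfsg.HasNormalPComplement p ↥(Subgroup.normalizer
      ((Cfsg.inducedFunctor Cfsg.kInfLower (S : Subgroup G) : Subgroup G) : Set G)) := by
    rcases h with h | h
    · exact h
    · apply Cfsg.Agent.S2007.result S _ (Cfsg.Agent.Helper10.iF_le _) _ _ h
      · exact Subgroup.le_normalizer.trans (Cfsg.Agent.Helper10.normalizer_le_normalizer_iF hW hSp)
      · rintro x ⟨hxS, hxC⟩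
        have hx' : (⟨x, hxS⟩ : ↥(S : Subgroup G)) ∈
            Subgroup.centralizer ((Cfsg.kInfLower ↥(S : Subgroup G) : Subgroup ↥(S : Subgroup G)) :
              Set ↥(S : Subgroup G)) := by
          rw [Subgroup.mem_centralizer_iff]
          intro y hy
          apply Subtype.ext
          have hyK : (y : G) ∈ Cfsg.inducedFunctor Cfsg.kInfLower (S : Subgroup G) := ⟨y, hy, rfl⟩
          exact (Subgroup.mem_centralizer_iff.1 hxC) (y : G) hyK
        have := Cfsg.Agent.Helper10.centralizer_kInfLower_le hSp hx'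
        exact ⟨⟨x, hxS⟩, this, rfl⟩
  apply Cfsg.Agent.S2005.result Cfsg.kInfLower hW S hN
  intro K R hR hcent hquot T hTco
  have hcls : Cfsg.Agent.Lead.TNC.StabClass p (↥K ⧸ R.subgroupOf K) :=
    Cfsg.Agent.Lead.TNC.stabClass_of_coatom hquot T hTco
  have hSS : Cfsg.Agent.Helper10.SecStab p (↥K ⧸ R.subgroupOf K) := by
    intro Z _ hZ
    obtain ⟨K', f, hf⟩ := hZ
    haveI : Finite Z := Finite.of_surjective f hf
    have h1 : Cfsg.Agent.Lead.TNC.StabClass p Z :=
      (hcls.of_injective K'.subtype K'.subtype_injective).of_surjective f hf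
    exact Cfsg.Agent.Helper15.stabHyp_of_isNormalizerPStable (h1.isNormalizerPStable hp)
  exact (Cfsg.Agent.Helper10.kInf_normal_of_secStab hSS T hcent).1

end Cfsg.Agent.S1988
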