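import Cfsg.Statements.S1989
import Cfsg.Agent.Helper10.QdFusion
import Cfsg.Agent.Helper26.Involves
import Cfsg.Agent.Helper26.QdStab4

set_option autoImplicit false
universe u
open Cfsg

namespace Cfsg.Agent.S1989

/-- Let p be an odd prime and G a finite group. Then Qd(p) (the natural semidirect product of an elementary abelian group of order p² by SL₂(p)) is not involved in G if and only if, in every section K/R of G and for every Sylow p-subgroup T of K/R, the lower K-infinity subgroup of T controls strong fusion in K/R. -/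
theorem result {G : Type u} [Group G] [Finite G] {p : ℕ} [Fact p.Prime] (hp : p ≠ 2) : ¬ Cfsg.Involves ↥(Cfsg.qd p) G ↔ ∀ (K R : Subgroup G) [hR : (R.subgroupOf K).Normal], ∀ T : Sylow p (↥K ⧸ R.subgroupOf K), Cfsg.ControlsStrongFusion p (Cfsg.inducedFunctor (G := (↥K ⧸ R.subgroupOf K)) Cfsg.kInfLower (T : Subgroup (↥K ⧸ R.subgroupOf K))) := by
  have involves_of_isSec : ∀ {Z : Type u} [Group Z], Cfsg.Agent.Helper10.IsSec G Z →
      Cfsg.Involves ↥(Cfsg.qd p) Z → Cfsg.Involves ↥(Cfsg.qd p) G := by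
    intro Z _ hZ h
    obtain ⟨K, R, hR, ⟨e⟩⟩ := h
    have h1 : Cfsg.Agent.Helper10.IsSec Z (↥K ⧸ R.subgroupOf K) :=
      ⟨K, QuotientGroup.mk' _, QuotientGroup.mk'_surjective _⟩
    obtain ⟨K', f, hf⟩ := hZ.trans h1
    have hsurj : Function.Surjective (e.toMonoidHom.comp f) := e.surjective.comp hf
    exact Cfsg.Agent.Helper26.involves_of_surjective K' (e.toMonoidHom.comp f) hsurj
  constructor
  · intro h K R hR T
    have hsec : Cfsg.Agent.Helper10.IsSec G (↥K ⧸ R.subgroupOf K) :=
      ⟨K, QuotientGroup.mk' _, QuotientGroup.mk'_surjective _⟩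
    have hS : Cfsg.Agent.Helper10.SecStab p (↥K ⧸ R.subgroupOf K) := by
      intro Z _ hZ
      haveI : Finite Z := by
        obtain ⟨K', f, hf⟩ := hZ
        exact Finite.of_surjective f hf
      exact Cfsg.Agent.Helper26.QdStab.stabHyp_of_qd_free hp
        (fun hinv => h (involves_of_isSec (hsec.trans hZ) hinv))
    exact Cfsg.Agent.Helper10.kInfLower_controls hS T
  · intro h hinv
    obtain ⟨K, R, hR, ⟨e⟩⟩ := hinv
    obtain ⟨T⟩ : Nonempty (Sylow p (↥K ⧸ R.subgroupOf K)) := inferInstance
    exact Cfsg.Agent.Helper10.not_controls_of_equiv_qd hp e T (h K R T)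

end Cfsg.Agent.S1989
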