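import Cfsg.Statements.S1992
import Cfsg.Agent.Helper10.GlaubermanIdx
import Cfsg.Agent.S0144

set_option autoImplicit false
open Cfsg

namespace Cfsg.Agent.S1992

/-- Let G be a finite group in which, for every prime q dividing the order of G, every Sylow q-subgroup is its own normalizer. Then the order of G is a power of a single prime (G is a q-group for some prime q; for G trivial any prime works). -/
theorem result {G : Type*} [Group G] [Finite G] (h : ∀ q : ℕ, q.Prime → q ∣ Nat.card G → ∀ Q : Sylow q G, Subgroup.normalizer ((Q : Subgroup G) : Set G) = Q) : ∃ q : ℕ, q.Prime ∧ IsPGroup q G := by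
  classical
  by_cases hcard : Nat.card G = 1
  · refine ⟨2, Nat.prime_two, ?_⟩
    apply IsPGroup.of_card (n := 0)
    rw [hcard, pow_zero]
  -- a normal subgroup of prime index `r` forces `G` to be an `r`-group
  have hfinish : ∀ r : ℕ, r.Prime → (∃ N : Subgroup G, N.Normal ∧ N.index = r) →
      ∃ q : ℕ, q.Prime ∧ IsPGroup q G := by
    intro r hr hidx
    haveI : Fact r.Prime := ⟨hr⟩
    exact ⟨r, hr, Cfsg.Agent.Helper10.isPGroup_of_index_p_of_self_normalizing hidx
      (fun q hq _ hdvd Q => h q hq hdvd Q)⟩
  by_cases h5 : ∃ q : ℕ, q.Prime ∧ 5 ≤ q ∧ q ∣ Nat.card G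
  · obtain ⟨q, hq, hq5, hqdvd⟩ := h5
    haveI : Fact q.Prime := ⟨hq⟩
    obtain ⟨S⟩ : Nonempty (Sylow q G) := inferInstance
    have hS : (S : Subgroup G) ≠ ⊥ := S.ne_bot_of_dvd_card hqdvd
    have hN : ∀ g ∈ Subgroup.normalizer ((S : Subgroup G) : Set G), (orderOf g).Coprime q →
        g ∈ Subgroup.centralizer ((S : Subgroup G) : Set G) := by
      intro g hg hcop
      rw [h q hq hqdvd S] at hg
      obtain ⟨k, hk⟩ := S.2 ⟨g, hg⟩
      have hk' : g ^ q ^ k = 1 := congrArg Subtype.val hk
      have h1 : orderOf g ∣ q ^ k := orderOf_dvd_of_pow_eq_one hk'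
      have h2 : orderOf g = 1 :=
        Nat.eq_one_of_dvd_coprimes (Nat.Coprime.pow_right k hcop) dvd_rfl h1
      rw [orderOf_eq_one_iff.1 h2]
      exact Subgroup.one_mem _
    exact hfinish q hq (Cfsg.Agent.Helper10.index_p_main hq5 (Nat.card G) G rfl S hS hN)
  · push Not at h5
    -- `|G| = 2^a * 3^b`
    have hn0 : Nat.card G ≠ 0 := Nat.card_pos.ne'
    have hprimes : ∀ q : ℕ, q.Prime → q ∣ Nat.card G → q = 2 ∨ q = 3 := by
      intro q hq hdvd
      have hlt : q < 5 := by
        by_contra hge
        exact h5 q hq (by omega) hdvd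
      have h2 := hq.two_le
      interval_cases q
      · left; rfl
      · right; rfl
      · exact absurd hq (by decide)
    have hcardeq : Nat.card G = 2 ^ (Nat.card G).factorization 2 * 3 ^ (Nat.card G).factorization 3 := by
      apply Nat.eq_of_factorization_eq hn0 (by positivity)
      intro q
      rw [Nat.factorization_mul (by positivity) (by positivity), Nat.factorization_pow,
        Nat.factorization_pow, Nat.prime_two.factorization, Nat.prime_three.factorization]
      simp only [Finsupp.coe_add, Finsupp.coe_smul, Pi.add_apply, Pi.smul_apply, smul_eq_mul]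
      by_cases hq2 : q = 2
      · subst hq2; simp
      by_cases hq3 : q = 3
      · subst hq3; simp
      have h0 : (Nat.card G).factorization q = 0 := by
        by_cases hqp : q.Prime
        · apply Nat.factorization_eq_zero_of_not_dvd
          intro hdvd
          rcases hprimes q hqp hdvd with h | h
          · exact hq2 h
          · exact hq3 h
        · exact Nat.factorization_eq_zero_of_not_prime _ hqp
      rw [h0, Finsupp.single_apply, Finsupp.single_apply, if_neg (Ne.symm hq2), if_neg (Ne.symm hq3)]
      simp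
    haveI hsolv : Group.IsSolvable G :=
      Cfsg.Agent.S0144.result 2 3 _ _ Nat.prime_two Nat.prime_three hcardeq
    haveI : Nontrivial G := by
      rw [← Finite.one_lt_card_iff_nontrivial]
      omega
    have hlt : commutator G < ⊤ := Group.IsSolvable.commutator_lt_top_of_nontrivial G
    have hidx1 : (commutator G).index ≠ 1 := fun h1 => hlt.ne (Subgroup.index_eq_one.1 h1)
    obtain ⟨r, hr, hrdvd⟩ := Nat.exists_prime_and_dvd hidx1
    haveI : Fact r.Prime := ⟨hr⟩
    obtain ⟨R⟩ : Nonempty (Sylow r G) := inferInstance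
    have hnle : ¬ (R : Subgroup G) ≤ commutator G := by
      intro hle
      exact R.not_dvd_index (hrdvd.trans (Subgroup.index_dvd_of_le hle))
    obtain ⟨s, hsR, hsn⟩ := SetLike.not_le_iff_exists.1 hnle
    obtain ⟨k, hk⟩ := R.2 ⟨s, hsR⟩
    exact hfinish r hr (Cfsg.Agent.Helper10.exists_normal_index_p_of_not_mem_commutator s
      ⟨k, congrArg Subtype.val hk⟩ hsn)

end Cfsg.Agent.S1992
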