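import Cfsg.Statements.S1996
import Cfsg.Agent.Helper10.SecFusion3
import Cfsg.Agent.Helper10.SecClass
import Cfsg.Agent.S0630

set_option autoImplicit false
universe u
open Cfsg

namespace Cfsg.Agent.S1996

/-- Let p be a prime, G a finite group and W₁, W₂ two isomorphism-invariant p-group functors (W assigns to every group Q a subgroup W(Q), nontrivial whenever Q is a nontrivial finite p-group, and every isomorphism from a finite p-group Q onto a group R carries W(Q) onto W(R)). Suppose that G* = N_{G*}(W₁(S*)) N_{G*}(W₂(S*)) whenever G* = K/R is a section of G with C_{G*}(O_p(G*)) ≤ O_p(G*) and S* is a Sylow p-subgroup of G*. Then the pair {W₁, W₂} controls strong fusion in G. -/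
theorem result {G : Type u} [Group G] [Finite G] {p : ℕ} [Fact p.Prime] (W₁ W₂ : ∀ (Q : Type u) [Group Q], Subgroup Q) (hW₁ : Cfsg.IsCharPFunctor.{u} p W₁) (hW₂ : Cfsg.IsCharPFunctor.{u} p W₂) (hfac : ∀ (K R : Subgroup G) [hR : (R.subgroupOf K).Normal], Subgroup.centralizer ((Cfsg.pCore p (↥K ⧸ R.subgroupOf K) : Subgroup (↥K ⧸ R.subgroupOf K)) : Set (↥K ⧸ R.subgroupOf K)) ≤ Cfsg.pCore p (↥K ⧸ R.subgroupOf K) → ∀ T : Sylow p (↥K ⧸ R.subgroupOf K), ∀ x : (↥K ⧸ R.subgroupOf K), ∃ a ∈ Subgroup.normalizer ((Cfsg.inducedFunctor (G := (↥K ⧸ R.subgroupOf K)) W₁ (T : Subgroup (↥K ⧸ R.subgroupOf K)) : Subgroup (↥K ⧸ R.subgroupOf K)) : Set (↥K ⧸ R.subgroupOf K)), ∃ b ∈ Subgroup.normalizer ((Cfsg.inducedFunctor (G := (↥K ⧸ R.subgroupOf K)) W₂ (T : Subgroup (↥K ⧸ R.subgroupOf K)) : Subgroup (↥K ⧸ R.subgroupOf K)) : Set (↥K ⧸ R.subgroupOf K)), x = a * b) : Cfsg.FamilyControlsStrongFusionIn p {Cfsg.inducedFunctor (G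 := G) W₁, Cfsg.inducedFunctor (G := G) W₂} ⊤ := by
  classical
  have h𝓦 : ∀ W' ∈ ({W₁, W₂} : Set (∀ (Q : Type u) [Group Q], Subgroup Q)),
      Cfsg.IsCharPFunctor.{u} p W' := by
    intro W' hW'
    rcases hW' with h | h
    · rw [h]; exact hW₁
    · rw [Set.mem_singleton_iff] at h
      rw [h]; exact hW₂
  have Hc : ∀ (Y : Type u) [Group Y] [Finite Y], Cfsg.Agent.Helper10.IsSec G Y →
      Subgroup.centralizer ((Cfsg.pCore p Y : Subgroup Y) : Set Y) ≤ Cfsg.pCore p Y →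
      Cfsg.Agent.Helper10.Claim p ({W₁, W₂} : Set (∀ (Q : Type u) [Group Q], Subgroup Q)) Y := by
    intro Y _ _ hY hcent
    obtain ⟨K, R, hR, ⟨e⟩⟩ := hY.exists_equiv
    have hcentZ := Cfsg.Agent.S0630.centralizer_pCore_le_of_equiv p e hcent
    have h1 := hfac K R hcentZ
    apply Cfsg.Agent.Helper10.claim_of_equiv h𝓦 e
    intro T A g hA hgA
    obtain ⟨a, ha, b, hb, hg⟩ := h1 T g
    have hT1 : (T : Subgroup (↥K ⧸ R.subgroupOf K)) ≤ Subgroup.normalizer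
        ((Cfsg.inducedFunctor W₁ (T : Subgroup (↥K ⧸ R.subgroupOf K)) : Subgroup (↥K ⧸ R.subgroupOf K)) :
          Set (↥K ⧸ R.subgroupOf K)) :=
      Subgroup.le_normalizer.trans (Cfsg.Agent.Helper10.normalizer_le_normalizer_iF hW₁ T.2)
    have hT2 : (T : Subgroup (↥K ⧸ R.subgroupOf K)) ≤ Subgroup.normalizer
        ((Cfsg.inducedFunctor W₂ (T : Subgroup (↥K ⧸ R.subgroupOf K)) : Subgroup (↥K ⧸ R.subgroupOf K)) :
          Set (↥K ⧸ R.subgroupOf K)) :=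
      Subgroup.le_normalizer.trans (Cfsg.Agent.Helper10.normalizer_le_normalizer_iF hW₂ T.2)
    -- the subgroup generated by `b A b⁻¹`
    have hB1 : ∀ x ∈ A, b * x * b⁻¹ ∈ (T : Subgroup (↥K ⧸ R.subgroupOf K)).map
        (Cfsg.Agent.Helper14.cj a⁻¹) := by
      intro x hx
      rw [Cfsg.Agent.Helper14.mem_map_cj, inv_inv]
      have := hgA ⟨x, hx, rfl⟩
      have e : a * (b * x * b⁻¹) * a⁻¹ = g * x * g⁻¹ := by rw [hg]; group
      rw [e]; exact this
    have hBle : Subgroup.closure (Cfsg.Agent.Helper10.lc b A) ≤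
        Subgroup.normalizer
          ((Cfsg.inducedFunctor W₁ (T : Subgroup (↥K ⧸ R.subgroupOf K)) : Subgroup (↥K ⧸ R.subgroupOf K)) :
            Set (↥K ⧸ R.subgroupOf K)) ⊓
        Subgroup.normalizer
          ((Cfsg.inducedFunctor W₂ (T : Subgroup (↥K ⧸ R.subgroupOf K)) : Subgroup (↥K ⧸ R.subgroupOf K)) :
            Set (↥K ⧸ R.subgroupOf K)) := by
      rw [Subgroup.closure_le]
      rintro _ ⟨x, hx, rfl⟩
      refine ⟨?_, ?_⟩
      · obtain ⟨t, ht, hte⟩ := hB1 x hx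
        change b * x * b⁻¹ ∈ _
        rw [← hte, Cfsg.Agent.Helper14.cj_apply]
        exact Subgroup.mul_mem _ (Subgroup.mul_mem _ (Subgroup.inv_mem _ ha) (hT1 ht))
          (Subgroup.inv_mem _ (Subgroup.inv_mem _ ha))
      · exact Subgroup.mul_mem _ (Subgroup.mul_mem _ hb (hT2 (hA hx))) (Subgroup.inv_mem _ hb)
    have hBp : IsPGroup p ↥(Subgroup.closure (Cfsg.Agent.Helper10.lc b A)) := by
      have h2 : Subgroup.closure (Cfsg.Agent.Helper10.lc b A) ≤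
          (T : Subgroup (↥K ⧸ R.subgroupOf K)).map (Cfsg.Agent.Helper14.cj a⁻¹) := by
        rw [Subgroup.closure_le]
        rintro _ ⟨x, hx, rfl⟩
        exact hB1 x hx
      exact (T.2.map _).to_le h2
    obtain ⟨m, hm, hmB⟩ := Cfsg.Agent.Helper10.exists_conj_le_sylow_of_le T _ _ (le_inf hT1 hT2) hBp hBle
    have hstep1 : Cfsg.Agent.Helper10.FChain
        (Cfsg.Agent.Helper10.iFam ({W₁, W₂} : Set (∀ (Q : Type u) [Group Q], Subgroup Q)) (↥K ⧸ R.subgroupOf K)) ⊤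
        (T : Subgroup (↥K ⧸ R.subgroupOf K)) A (m * b) := by
      have hmem2 : Cfsg.inducedFunctor (G := (↥K ⧸ R.subgroupOf K)) W₂ ∈ Cfsg.Agent.Helper10.iFam
          ({W₁, W₂} : Set (∀ (Q : Type u) [Group Q], Subgroup Q)) (↥K ⧸ R.subgroupOf K) :=
        ⟨W₂, Or.inr rfl, rfl⟩
      apply Cfsg.Agent.Helper10.FChain.single (W := Cfsg.inducedFunctor W₂)
        hmem2 ⟨Subgroup.mem_top _, Subgroup.mul_mem _ hm.2 hb⟩ hA
      rintro _ ⟨x, hx, rfl⟩
      have h3 := hmB (b * x * b⁻¹) (Subgroup.subset_closure ⟨x, hx, rfl⟩)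
      have e : m * b * x * (m * b)⁻¹ = m * (b * x * b⁻¹) * m⁻¹ := by group
      change m * b * x * (m * b)⁻¹ ∈ _
      rw [e]; exact h3
    have e2 : a * m⁻¹ * (m * b) = g := by rw [hg]; group
    have hmem1 : Cfsg.inducedFunctor (G := (↥K ⧸ R.subgroupOf K)) W₁ ∈ Cfsg.Agent.Helper10.iFam
        ({W₁, W₂} : Set (∀ (Q : Type u) [Group Q], Subgroup Q)) (↥K ⧸ R.subgroupOf K) :=
      ⟨W₁, Or.inl rfl, rfl⟩
    have hstep2 := Cfsg.Agent.Helper10.FChain.step (m * b) (a * m⁻¹) (Cfsg.inducedFunctor W₁) hstep1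
      hmem1 ⟨Subgroup.mem_top _, Subgroup.mul_mem _ ha (Subgroup.inv_mem _ hm.1)⟩
      (by rw [e2]; exact hgA)
    rw [e2] at hstep2
    exact ⟨g, hstep2, fun _ _ => rfl⟩
  have h2 := Cfsg.Agent.Helper10.claim_all h𝓦 (fun Y _ => Cfsg.Agent.Helper10.IsSec G Y)
    (fun Y _ hY M => hY.subgroup M) (fun Y _ hY N _ => hY.quotient N) Hc (Nat.card G) G rfl
    Cfsg.Agent.Helper10.IsSec.refl
  have h3 := Cfsg.Agent.Helper10.controls_of_claim h2
  have e3 : Cfsg.Agent.Helper10.iFam ({W₁, W₂} : Set (∀ (Q : Type u) [Group Q], Subgroup Q)) G =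
      {Cfsg.inducedFunctor (G := G) W₁, Cfsg.inducedFunctor (G := G) W₂} := by
    unfold Cfsg.Agent.Helper10.iFam
    rw [Set.image_pair]
  rw [e3] at h3
  exact h3

end Cfsg.Agent.S1996
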