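import Cfsg.Statements.S1997
import Cfsg.Agent.Helper15.TripleFac3
import Cfsg.Agent.S1996
import Cfsg.Agent.Helper10.KInfWC
import Cfsg.Agent.Helper10.FamilyFusion

set_option autoImplicit false
universe u
open Cfsg

namespace Cfsg.Agent.S1997

/-- Let p be a prime, G a finite group with Sylow p-subgroup S, and W₁, W₂ two isomorphism-invariant p-group functors (W assigns to every group Q a subgroup W(Q), nontrivial whenever Q is a nontrivial finite p-group, and every isomorphism from a finite p-group Q onto a group R carries W(Q) onto W(R)). Suppose that G* = C_{G*}(Ω₁Z(S*)) N_{G*}(W₁(S*)) = C_{G*}(Ω₁Z(S*)) N_{G*}(W₂(S*)) = N_{G*}(W₁(S*)) N_{G*}(W₂(S*)) whenever G* = K/R is a section of G with C_{G*}(O_p(G*)) ≤ O_p(G*) and S* is a Sylow p-subgroup of G*, where Ω₁Z denotes the subgroup generated by the elements of order dividing p in the centre. Suppose also Ω₁Z(S) ≤ W₁(S) ∩ W₂(S), and let A be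 the normal closure of Ω₁Z(S) in N_G(W₁(S)). Then A is an elementary abelian subgroup of S, strongly closed in S with respect to G, and A controls strong fusion in G. -/
theorem result {G : Type u} [Group G] [Finite G] {p : ℕ} [Fact p.Prime] (S : Sylow p G) (W₁ W₂ : ∀ (Q : Type u) [Group Q], Subgroup Q) (hW₁ : Cfsg.IsCharPFunctor.{u} p W₁) (hW₂ : Cfsg.IsCharPFunctor.{u} p W₂) (hfac : ∀ (K R : Subgroup G) [hR : (R.subgroupOf K).Normal], Subgroup.centralizer ((Cfsg.pCore p (↥K ⧸ R.subgroupOf K) : Subgroup (↥K ⧸ R.subgroupOf K)) : Set (↥K ⧸ R.subgroupOf K)) ≤ Cfsg.pCore p (↥K ⧸ R.subgroupOf K) → ∀ T : Sylow p (↥K ⧸ R.subgroupOf K), (∀ x : (↥K ⧸ R.subgroupOf K), ∃ a ∈ Subgroup.centralizer ((Cfsg.omegaOne p ((T : Subgroup (↥K ⧸ R.subgroupOf K)) ⊓ Subgroup.centralizer (((T : Subgroup (↥K ⧸ R.subgroupOf K)) : Subgroup (↥K ⧸ R.subgroupOf K)) : Set (↥K ⧸ R.subgroupOf K))) : Subgroup (↥K ⧸ R.subgroupOf K))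 : Set (↥K ⧸ R.subgroupOf K)), ∃ b ∈ Subgroup.normalizer ((Cfsg.inducedFunctor (G := (↥K ⧸ R.subgroupOf K)) W₁ (T : Subgroup (↥K ⧸ R.subgroupOf K)) : Subgroup (↥K ⧸ R.subgroupOf K)) : Set (↥K ⧸ R.subgroupOf K)), x = a * b) ∧ (∀ x : (↥K ⧸ R.subgroupOf K), ∃ a ∈ Subgroup.centralizer ((Cfsg.omegaOne p ((T : Subgroup (↥K ⧸ R.subgroupOf K)) ⊓ Subgroup.centralizer (((T : Subgroup (↥K ⧸ R.subgroupOf K)) : Subgroup (↥K ⧸ R.subgroupOf K)) : Set (↥K ⧸ R.subgroupOf K))) : Subgroup (↥K ⧸ R.subgroupOf K)) : Set (↥K ⧸ R.subgroupOf K)), ∃ b ∈ Subgroup.normalizer ((Cfsg.inducedFunctor (G := (↥K ⧸ R.subgroupOf K)) W₂ (T : Subgroup (↥K ⧸ R.subgroupOf K)) : Subgroup (↥K ⧸ R.subgroupOf K)) : Set (↥K ⧸ R.subgroupOf K)), x = a * b) ∧ (∀ x : (↥K ⧸ R.subgroupOf K), ∃ a ∈ Subgroup.normalizer ((Cfsg.inducedFunctor (G := (↥K ⧸ R.subgroupOf K)) W₁ (T : Subgroup (↥K ⧸ R.subgroupOf K)) : Subgroup (↥K ⧸ R.subgroupOf K)) : Set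 (↥K ⧸ R.subgroupOf K)), ∃ b ∈ Subgroup.normalizer ((Cfsg.inducedFunctor (G := (↥K ⧸ R.subgroupOf K)) W₂ (T : Subgroup (↥K ⧸ R.subgroupOf K)) : Subgroup (↥K ⧸ R.subgroupOf K)) : Set (↥K ⧸ R.subgroupOf K)), x = a * b)) (hZ : Cfsg.omegaOne p ((S : Subgroup G) ⊓ Subgroup.centralizer (((S : Subgroup G) : Subgroup G) : Set G)) ≤ Cfsg.inducedFunctor (G := G) W₁ (S : Subgroup G) ⊓ Cfsg.inducedFunctor (G := G) W₂ (S : Subgroup G)) (N₁ : Subgroup G) (hN₁ : N₁ = Subgroup.normalizer ((Cfsg.inducedFunctor (G := G) W₁ (S : Subgroup G) : Subgroup G) : Set G)) (A : Subgroup G) (hA : A = (Subgroup.normalClosure (((Cfsg.omegaOne p ((S : Subgroup G) ⊓ Subgroup.centralizer (((S : Subgroup G) : Subgroup G) : Set G))).subgroupOf N₁ : Subgroup ↥N₁) : Set ↥N₁)).map N₁.subtype) : A ≤ (S : Subgroup G) ∧ Cfsg.IsElementaryAbelian p A ∧ Cfsg.IsStronglyClosed A (S : Subgroup G) ∧ Cfsg.ControlsStrongFusion p A := by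
  classical
  obtain ⟨Z, hZdef⟩ : ∃ Z : Subgroup G, Z = Cfsg.omegaOne p ((S : Subgroup G) ⊓
    Subgroup.centralizer (((S : Subgroup G) : Subgroup G) : Set G)) := ⟨_, rfl⟩
  rw [← hZdef] at hZ hA
  obtain ⟨T₁, hT₁⟩ : ∃ T₁ : Subgroup G, T₁ = Cfsg.inducedFunctor (G := G) W₁ (S : Subgroup G) :=
    ⟨_, rfl⟩
  obtain ⟨T₂, hT₂⟩ : ∃ T₂ : Subgroup G, T₂ = Cfsg.inducedFunctor (G := G) W₂ (S : Subgroup G) :=
    ⟨_, rfl⟩
  rw [← hT₁, ← hT₂] at hZ
  rw [← hT₁] at hN₁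
  have hZ₁ : Z ≤ T₁ := hZ.trans inf_le_left
  have hZ₂ : Z ≤ T₂ := hZ.trans inf_le_right
  have hT₁S : T₁ ≤ (S : Subgroup G) := hT₁ ▸ Cfsg.Agent.Helper10.iF_le _
  have hT₂S : T₂ ≤ (S : Subgroup G) := hT₂ ▸ Cfsg.Agent.Helper10.iF_le _
  have hS₁ : (S : Subgroup G) ≤ Subgroup.normalizer (T₁ : Set G) := by
    rw [hT₁]
    exact Subgroup.le_normalizer.trans (Cfsg.Agent.Helper10.normalizer_le_normalizer_iF hW₁ S.2)
  have hS₂ : (S : Subgroup G) ≤ Subgroup.normalizer (T₂ : Set G) := by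
    rw [hT₂]
    exact Subgroup.le_normalizer.trans (Cfsg.Agent.Helper10.normalizer_le_normalizer_iF hW₂ S.2)
  -- the local factorizations
  have F₂ : ∀ H : Subgroup G, (S : Subgroup G) ≤ H → H ≤ Subgroup.normalizer (T₁ : Set G) →
      H ≤ Subgroup.normalizer (((S : Subgroup G) ⊓ Subgroup.centralizer (T₁ : Set G) : Subgroup G) :
        Set G) →
      ∀ h ∈ H, ∃ b ∈ H ⊓ Subgroup.normalizer (T₂ : Set G),
        ∃ a ∈ Subgroup.centralizer (Z : Set G), h = b * a := by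
    intro H hSH hHT hHR
    rw [hT₁] at hHT hHR
    rw [hT₂]
    exact Cfsg.Agent.Helper15.TF.local_fac hW₁ hW₂ S Z hZdef (hT₁ ▸ hZ₁)
      (fun K R hR hc T => (hfac K R hc T).2.1) H hSH hHT hHR
  have F₁ : ∀ H : Subgroup G, (S : Subgroup G) ≤ H → H ≤ Subgroup.normalizer (T₂ : Set G) →
      H ≤ Subgroup.normalizer (((S : Subgroup G) ⊓ Subgroup.centralizer (T₂ : Set G) : Subgroup G) :
        Set G) →
      ∀ h ∈ H, ∃ b ∈ H ⊓ Subgroup.normalizer (T₁ : Set G),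
        ∃ a ∈ Subgroup.centralizer (Z : Set G), h = b * a := by
    intro H hSH hHT hHR
    rw [hT₂] at hHT hHR
    rw [hT₁]
    exact Cfsg.Agent.Helper15.TF.local_fac hW₂ hW₁ S Z hZdef (hT₂ ▸ hZ₂)
      (fun K R hR hc T => (hfac K R hc T).1) H hSH hHT hHR
  have hθ := Cfsg.Agent.Helper15.TF.theta S T₁ T₂ Z hZ₁ hZ₂ hS₁ hS₂ F₂ F₁ _ ⊤ rfl le_top
  rw [top_inf_eq, top_inf_eq, ← hN₁] at hθ
  have hZN₁ : Z ≤ N₁ := by
    rw [hN₁]
    exact (hZ₁.trans hT₁S).trans hS₁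
  -- `A` is the subgroup generated by the `N₁`-conjugates of `Z`
  have hAcc : A = Cfsg.Agent.Helper15.TF.cc N₁ Z := by
    rw [hA]
    apply le_antisymm
    · rw [Subgroup.map_le_iff_le_comap]
      have : ((Cfsg.Agent.Helper15.TF.cc N₁ Z).subgroupOf N₁).Normal :=
        Subgroup.normal_subgroupOf_of_le_normalizer (Cfsg.Agent.Helper15.TF.le_normalizer_cc N₁ Z)
      apply Subgroup.normalClosure_le_normal (N := (Cfsg.Agent.Helper15.TF.cc N₁ Z).subgroupOf N₁)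
      intro z hz
      rw [SetLike.mem_coe, Subgroup.mem_subgroupOf] at hz ⊢
      exact Cfsg.Agent.Helper15.TF.le_cc N₁ Z hz
    · rw [Cfsg.Agent.Helper15.TF.cc_le_iff]
      intro n hn z hz
      refine ⟨(⟨n, hn⟩ : ↥N₁) * ⟨z, hZN₁ hz⟩ * (⟨n, hn⟩ : ↥N₁)⁻¹, ?_, rfl⟩
      apply Subgroup.normalClosure_normal.conj_mem
      apply Subgroup.subset_normalClosure
      rw [SetLike.mem_coe, Subgroup.mem_subgroupOf]
      exact hz
  -- `A` lies in the elements of order dividing `p` of `Z(T₁)`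
  have hcomm : ∀ a ∈ T₁ ⊓ Subgroup.centralizer (T₁ : Set G), ∀ b ∈ T₁ ⊓ Subgroup.centralizer (T₁ : Set G),
      a * b = b * a := by
    intro a ha b hb
    exact ((Subgroup.mem_centralizer_iff.mp ha.2) b hb.1).symm
  let E : Subgroup G :=
    { carrier := {a | a ∈ T₁ ⊓ Subgroup.centralizer (T₁ : Set G) ∧ a ^ p = 1}
      mul_mem' := by
        rintro a b ⟨ha, hap⟩ ⟨hb, hbp⟩
        refine ⟨Subgroup.mul_mem _ ha hb, ?_⟩
        have hc : Commute a b := hcomm a ha b hb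
        rw [hc.mul_pow, hap, hbp, one_mul]
      one_mem' := ⟨Subgroup.one_mem _, one_pow p⟩
      inv_mem' := by
        rintro a ⟨ha, hap⟩
        exact ⟨Subgroup.inv_mem _ ha, by rw [inv_pow, hap, inv_one]⟩ }
  have hE : ∀ a, a ∈ E ↔ a ∈ T₁ ⊓ Subgroup.centralizer (T₁ : Set G) ∧ a ^ p = 1 := fun a => Iff.rfl
  have hZE : Z ≤ E := by
    have hgen : ∀ x, x ∈ (S : Subgroup G) ⊓ Subgroup.centralizer (((S : Subgroup G) : Subgroup G) : Set G) ∧
        x ^ p = 1 → x ∈ E := by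
      rintro x ⟨hx, hxp⟩
      have hxZ : x ∈ Z := by
        rw [hZdef]
        exact Subgroup.subset_closure ⟨hx, hxp⟩
      rw [hE]
      refine ⟨⟨hZ₁ hxZ, ?_⟩, hxp⟩
      exact Subgroup.centralizer_le (show (T₁ : Set G) ⊆ ((S : Subgroup G) : Set G) from
        fun t ht => hT₁S ht) hx.2
    rw [hZdef]
    unfold Cfsg.omegaOne
    rw [Subgroup.closure_le]
    exact hgen
  have hAE : A ≤ E := by
    rw [hAcc, Cfsg.Agent.Helper15.TF.cc_le_iff]
    intro n hn z hz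
    have hzE := (hE z).mp (hZE hz)
    rw [hN₁] at hn
    have hn' : n⁻¹ ∈ Subgroup.normalizer (T₁ : Set G) := Subgroup.inv_mem _ hn
    rw [hE]
    refine ⟨⟨(Subgroup.mem_normalizer_iff.mp hn z).mp hzE.1.1, ?_⟩, ?_⟩
    · show n * z * n⁻¹ ∈ Subgroup.centralizer (T₁ : Set G)
      rw [Subgroup.mem_centralizer_iff]
      intro t ht
      have ht' : n⁻¹ * t * n⁻¹⁻¹ ∈ T₁ := (Subgroup.mem_normalizer_iff.mp hn' t).mp ht
      have h1 := (Subgroup.mem_centralizer_iff.mp hzE.1.2) _ ht'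
      calc t * (n * z * n⁻¹) = n * ((n⁻¹ * t * n⁻¹⁻¹) * z) * n⁻¹ := by group
        _ = n * (z * (n⁻¹ * t * n⁻¹⁻¹)) * n⁻¹ := by rw [h1]
        _ = n * z * n⁻¹ * t := by group
    · rw [conj_pow, hzE.2]
      group
  have hAT₁ : A ≤ T₁ := fun a ha => ((hE a).mp (hAE ha)).1.1
  have hAS : A ≤ (S : Subgroup G) := hAT₁.trans hT₁S
  -- `N(T₁)` and `N(T₂)` normalize `A`
  have hNA₁ : Subgroup.normalizer (T₁ : Set G) ≤ Subgroup.normalizer (A : Set G) := by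
    rw [hAcc, ← hN₁]
    exact Cfsg.Agent.Helper15.TF.le_normalizer_cc N₁ Z
  have hNA₂ : Subgroup.normalizer (T₂ : Set G) ≤ Subgroup.normalizer (A : Set G) := by
    rw [hAcc, hθ]
    exact Cfsg.Agent.Helper15.TF.le_normalizer_cc _ Z
  -- control of fusion by the pair of functors
  have hctl := Cfsg.Agent.S1996.result W₁ W₂ hW₁ hW₂ (fun K R hR hc T => (hfac K R hc T).2.2)
  have h𝓦 : ∀ W ∈ ({Cfsg.inducedFunctor (G := G) W₁, Cfsg.inducedFunctor (G := G) W₂} :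
      Set (Subgroup G → Subgroup G)), Cfsg.IsConjugacyFunctor p W := by
    intro W hW
    rcases hW with h | h
    · rw [h]; exact Cfsg.Agent.Helper10.iF_isConjugacyFunctor hW₁
    · rw [Set.mem_singleton_iff] at h
      rw [h]; exact Cfsg.Agent.Helper10.iF_isConjugacyFunctor hW₂
  have hidx : ¬ p ∣ (S : Subgroup G).relIndex ⊤ := by
    rw [Subgroup.relIndex_top_right]
    exact S.not_dvd_index
  have hchain : ∀ (A' : Set G) (z : G), Cfsg.Agent.Helper10.FChain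
      ({Cfsg.inducedFunctor (G := G) W₁, Cfsg.inducedFunctor (G := G) W₂} :
        Set (Subgroup G → Subgroup G)) ⊤ (S : Subgroup G) A' z →
      z ∈ Subgroup.normalizer (A : Set G) := by
    intro A' z hz
    induction hz with
    | nil _ => exact Subgroup.one_mem _
    | step z m W _ hW hm _ ih =>
      apply Subgroup.mul_mem _ _ ih
      rcases hW with h | h
      · rw [h, ← hT₁] at hm
        exact hNA₁ hm.2
      · rw [Set.mem_singleton_iff] at h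
        rw [h, ← hT₂] at hm
        exact hNA₂ hm.2
  have hfus : ∀ (A' : Set G) (g : G), A' ⊆ ((S : Subgroup G) : Set G) →
      (fun a => g * a * g⁻¹) '' A' ⊆ ((S : Subgroup G) : Set G) →
      ∃ x ∈ Subgroup.normalizer (A : Set G), ∀ a ∈ A', g * a * g⁻¹ = x * a * x⁻¹ := by
    intro A' g hA' hgA'
    obtain ⟨z, hz, hza⟩ := Cfsg.Agent.Helper10.familyControls_sylow h𝓦 hctl
      (le_top : (S : Subgroup G) ≤ ⊤) S.2 hidx A' g (Subgroup.mem_top g) hA' hgA'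
    exact ⟨z, hchain A' z hz, fun a ha => (hza a ha).symm⟩
  refine ⟨hAS, ?_, ⟨hAS, ?_⟩, ⟨S, hAS, fun A' hA' => ⟨hA', fun g hg => hfus A' g hA' hg⟩⟩⟩
  · refine ⟨?_, fun a ha => ((hE a).mp (hAE ha)).2⟩
    rw [← Subgroup.le_centralizer_iff_isMulCommutative]
    intro a ha
    exact Subgroup.centralizer_le (show (A : Set G) ⊆ (T₁ : Set G) from fun t ht => hAT₁ ht)
      ((hE a).mp (hAE ha)).1.2
  · intro x hx g hgx
    obtain ⟨z, hzN, hz⟩ := hfus {x} g (by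
        intro y hy
        rw [Set.mem_singleton_iff] at hy
        rw [hy]
        exact hAS hx) (by
        rintro _ ⟨y, hy, rfl⟩
        rw [Set.mem_singleton_iff] at hy
        rw [hy]
        exact hgx)
    rw [hz x (Set.mem_singleton x)]
    exact (Subgroup.mem_normalizer_iff.mp hzN x).mp hx

end Cfsg.Agent.S1997
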