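import Cfsg.Statements.S1998
import Cfsg.Agent.Helper10.MinFail
import Cfsg.Agent.Helper10.SecClass

set_option autoImplicit false
universe u
open Cfsg

namespace Cfsg.Agent.S1998

/-- Let p be a prime, G a finite group with Sylow p-subgroup S, and 𝓦 a nonempty set of isomorphism-invariant p-group functors (W assigns to every group Q a subgroup W(Q), nontrivial whenever Q is a nontrivial finite p-group, and every isomorphism from a finite p-group Q onto a group R carries W(Q) onto W(R)). Suppose the induced conjugacy functors control transfer in every section of G other than G itself, but not in G. Let T be the subgroup generated by the S ∩ (N_G(W(S)))', W ∈ 𝓦, and M = N_G(T ∩ O_p(G)). Then: C_G(O_p(G)) ≤ O_p(G); M is a proper subgroup of G containing every proper subgroup of G that contains S (the unique maximal subgroup over S); [O_p(G), M] ≤ O_p(G) ∩ M' ≤ O_p(G) ∩ T; and every element u of S outside O_p(G) satisfies [X, u, …, u] ≰ Y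 with p − 1 entries u, for some chief factor X/Y of G with X ≤ O_p(G). -/
theorem result {G : Type u} [Group G] [Finite G] {p : ℕ} [Fact p.Prime] (S : Sylow p G) (𝓦 : Set (∀ (Q : Type u) [Group Q], Subgroup Q)) (h𝓦 : ∀ W ∈ 𝓦, Cfsg.IsCharPFunctor.{u} p W) (hne : 𝓦.Nonempty) (hsec : ∀ (K R : Subgroup G) [hR : (R.subgroupOf K).Normal], (K = ⊤ → R ≠ ⊥) → Cfsg.FamilyControlsTransferIn p ((fun W => Cfsg.inducedFunctor (G := (↥K ⧸ R.subgroupOf K)) W) '' 𝓦) ⊤) (hG : ¬ Cfsg.FamilyControlsTransferIn p ((fun W => Cfsg.inducedFunctor (G := G) W) '' 𝓦) ⊤) (T M : Subgroup G) (hT : T = (⨆ W ∈ 𝓦, (S : Subgroup G) ⊓ ⁅Subgroup.normalizer ((Cfsg.inducedFunctor (G := G) W (S : Subgroup G) : Subgroup G) : Set G), Subgroup.normalizer ((Cfsg.inducedFunctor (G := G) W (S : Subgroup G) : Subgroup G) : Set G)⁆)) (hM : M = Subgroup.normalizer ((T ⊓ Cfsg.pCore p G : Subgroup G) : Set G)) : Subgroup.centralizer ((Cfsg.pCore p G : Subgroup G) : Set G) ≤ Cfsg.pCore p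 G ∧ (M ≠ ⊤ ∧ ∀ H : Subgroup G, (S : Subgroup G) ≤ H → H ≠ ⊤ → H ≤ M) ∧ (⁅Cfsg.pCore p G, M⁆ ≤ Cfsg.pCore p G ⊓ ⁅M, M⁆ ∧ Cfsg.pCore p G ⊓ ⁅M, M⁆ ≤ Cfsg.pCore p G ⊓ T) ∧ ∀ u : G, u ∈ (S : Subgroup G) → u ∉ Cfsg.pCore p G → ∃ U V : Subgroup G, Cfsg.IsChiefFactor U V ∧ U ≤ Cfsg.pCore p G ∧ ¬ Cfsg.iterCommutator U (Subgroup.zpowers u) (p - 1) ≤ V := by
  classical
  -- proper sections
  have hprop : ∀ (Y : Type u) [Group Y] [Finite Y], Cfsg.Agent.Helper10.IsSec G Y →
      Nat.card Y < Nat.card G → Cfsg.Agent.Helper10.ClaimT p 𝓦 Y := by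
    intro Y _ _ hY hlt
    obtain ⟨K, R, hR, ⟨e⟩⟩ := hY.exists_equiv
    have hKR : K = ⊤ → R ≠ ⊥ := by
      rintro rfl rfl
      have h1 : Nat.card Y = Nat.card (↥(⊤ : Subgroup G) ⧸ (⊥ : Subgroup G).subgroupOf ⊤) :=
        Nat.card_congr e.toEquiv
      have h2 : Nat.card (↥(⊤ : Subgroup G) ⧸ (⊥ : Subgroup G).subgroupOf ⊤) = Nat.card G := by
        rw [← Subgroup.index_eq_card]
        change (⊥ : Subgroup G).relIndex ⊤ = _
        rw [Subgroup.relIndex_top_right, Subgroup.index_bot]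
      omega
    have h3 := hsec K R hKR
    exact Cfsg.Agent.Helper10.claimT_of_equiv h𝓦 e (Cfsg.Agent.Helper10.claimT_of_controls h𝓦 h3)
  have hsub : ∀ H : Subgroup G, H ≠ ⊤ → Cfsg.Agent.Helper10.ClaimT p 𝓦 ↥H := fun H hH =>
    hprop _ (Cfsg.Agent.Helper10.IsSec.refl.subgroup H)
      (Cfsg.Agent.Helper10.card_subgroup_lt_of_ne_top hH)
  have hquot : ∀ (N : Subgroup G) [N.Normal], N ≠ ⊥ → Cfsg.Agent.Helper10.ClaimT p 𝓦 (G ⧸ N) :=
    fun N _ hN => hprop _ (Cfsg.Agent.Helper10.IsSec.refl.quotient N)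
      (Cfsg.Agent.Helper10.card_quotient_lt_of_ne_bot hN)
  -- the target subgroup
  have hTeq : T = Cfsg.Agent.Helper10.ftarget (Cfsg.Agent.Helper10.iFam 𝓦 G) (S : Subgroup G) := by
    rw [hT]
    unfold Cfsg.Agent.Helper10.ftarget Cfsg.Agent.Helper10.iFam
    rw [iSup_image]
  -- failure at `S`
  have hfail : ¬ ((S : Subgroup G) ⊓ commutator G ≤
      Cfsg.Agent.Helper10.ftarget (Cfsg.Agent.Helper10.iFam 𝓦 G) (S : Subgroup G)) := by
    intro h
    apply hG
    refine ⟨(S : Subgroup G), le_top, S.2, ?_, ?_⟩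
    · rw [Subgroup.relIndex_top_right]
      exact S.not_dvd_index
    · apply le_antisymm
      · rw [_root_.commutator_def] at h
        refine h.trans ?_
        unfold Cfsg.Agent.Helper10.ftarget Cfsg.Agent.Helper10.iFam
        simp only [top_inf_eq]
        exact le_rfl
      · apply iSup₂_le
        intro W _
        exact inf_le_inf_left _ (Subgroup.commutator_mono inf_le_left inf_le_left)
  -- constrained
  have hcon : Subgroup.centralizer ((Cfsg.pCore p G : Subgroup G) : Set G) ≤ Cfsg.pCore p G := by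
    by_contra hcon
    exact hfail (Cfsg.Agent.Helper10.claimT_step h𝓦 hsub hquot (fun h => absurd h hcon) S)
  subst hM
  rw [hTeq]
  refine ⟨hcon, ⟨?_, ?_⟩, ⟨?_, ?_⟩, ?_⟩
  · exact Cfsg.Agent.Helper10.mf_normalizer_ne_top h𝓦 hne S hsub hfail hcon hquot
  · intro H hSH hH
    exact Cfsg.Agent.Helper10.mf_le_normalizer h𝓦 S hsub hSH hH
  · have hQM : Cfsg.pCore p G ≤ Subgroup.normalizer
        ((Cfsg.Agent.Helper10.ftarget (Cfsg.Agent.Helper10.iFam 𝓦 G) (S : Subgroup G) ⊓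
          Cfsg.pCore p G : Subgroup G) : Set G) :=
      (Cfsg.Agent.Helper14.pCore_le_sylow p S).trans
        (Cfsg.Agent.Helper10.mf_sylow_le_normalizer h𝓦 hne S hsub hfail)
    exact le_inf (Subgroup.commutator_le_left _ _) (Subgroup.commutator_mono hQM le_rfl)
  · exact le_inf inf_le_left
      (Cfsg.Agent.Helper10.mf_inf_commutator_le h𝓦 hne S hsub hfail hcon hquot)
  · obtain ⟨U, V, hchief, hUQ, hall⟩ :=
      Cfsg.Agent.Helper10.mf_chief h𝓦 hne S hsub hfail hcon hquot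
    intro u huS huQ
    exact ⟨U, V, hchief, hUQ, hall u huS huQ⟩

end Cfsg.Agent.S1998
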