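import Cfsg.Statements.S2001
import Cfsg.Agent.Helper10.PairTransfer

set_option autoImplicit false
open Cfsg

namespace Cfsg.Agent.S2001

/-- Let p be a prime dividing the order of the finite group G, P a Sylow p-subgroup, W a conjugacy functor for p on G with Z(H) ≤ W(H) for every nontrivial p-subgroup H, and V a central functor: a conjugacy functor with V(H) ≤ Z(H), and V(H) ≤ V(K) whenever Z(H) ≤ Z(K), for nontrivial p-subgroups H, K. Say that W with V controls transfer in a subgroup L when some Sylow p-subgroup Q of L satisfies Q ∩ L' = (Q ∩ (N_L(W(Q)))')·(Q ∩ (C_L(V(Q)))') as a product of two subgroups. If W with V controls transfer in N_G(H) for every subgroup H with Z(P) ≤ H ≤ P, then W with V controls transfer in G. -/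
theorem result {G : Type*} [Group G] [Finite G] {p : ℕ} [Fact p.Prime] (hdiv : p ∣ Nat.card G) (P : Sylow p G) (W V : Subgroup G → Subgroup G) (hW : Cfsg.IsConjugacyFunctor p W) (hV : Cfsg.IsConjugacyFunctor p V) (hWZ : ∀ H : Subgroup G, IsPGroup p ↥H → H ⊓ Subgroup.centralizer ((H : Subgroup G) : Set G) ≤ W H) (hVZ : ∀ H : Subgroup G, IsPGroup p ↥H → V H ≤ H ⊓ Subgroup.centralizer ((H : Subgroup G) : Set G)) (hVmono : ∀ H K : Subgroup G, IsPGroup p ↥H → IsPGroup p ↥K → H ≠ ⊥ → K ≠ ⊥ → H ⊓ Subgroup.centralizer ((H : Subgroup G) : Set G) ≤ K ⊓ Subgroup.centralizer ((K : Subgroup G) : Set G) → V H ≤ V K) (hloc : ∀ H : Subgroup G, (P : Subgroup G) ⊓ Subgroup.centralizer (((P : Subgroup G) : Subgroup G) : Set G) ≤ H → H ≤ (P : Subgroup G) → ∃ Q : Subgroup G, Q ≤ Subgroup.normalizer ((H : Subgroup G) : Set G) ∧ IsPGroup p ↥Q ∧ ¬ p ∣ (Q).relIndex (Subgroup.normalizer ((H : Subgroup G) : Set G)) ∧ ∀ x : G, x ∈ Q ⊓ ⁅Subgroup.normalizer ((H : Subgroup G) : Set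 G), Subgroup.normalizer ((H : Subgroup G) : Set G)⁆ ↔ ∃ a ∈ Q ⊓ ⁅Subgroup.normalizer ((H : Subgroup G) : Set G) ⊓ Subgroup.normalizer ((W Q : Subgroup G) : Set G), Subgroup.normalizer ((H : Subgroup G) : Set G) ⊓ Subgroup.normalizer ((W Q : Subgroup G) : Set G)⁆, ∃ b ∈ Q ⊓ ⁅Subgroup.normalizer ((H : Subgroup G) : Set G) ⊓ Subgroup.centralizer ((V Q : Subgroup G) : Set G), Subgroup.normalizer ((H : Subgroup G) : Set G) ⊓ Subgroup.centralizer ((V Q : Subgroup G) : Set G)⁆, x = a * b) : ∃ Q : Subgroup G, IsPGroup p ↥Q ∧ ¬ p ∣ Q.index ∧ ∀ x : G, x ∈ Q ⊓ commutator G ↔ ∃ a ∈ Q ⊓ ⁅Subgroup.normalizer ((W Q : Subgroup G) : Set G), Subgroup.normalizer ((W Q : Subgroup G) : Set G)⁆, ∃ b ∈ Q ⊓ ⁅Subgroup.centralizer ((V Q : Subgroup G) : Set G), Subgroup.centralizer ((V Q : Subgroup G) : Set G)⁆, x = a * b := by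
  classical
  have hSne : (P : Subgroup G) ≠ ⊥ := by
    intro h
    apply P.not_dvd_index
    rw [h, Subgroup.index_bot]
    exact hdiv
  have hloc' : ∀ H : Subgroup G, (P : Subgroup G) ⊓ Subgroup.centralizer ((P : Subgroup G) : Set G) ≤ H →
      H ≤ (P : Subgroup G) →
      ∃ Q : Subgroup G, Q ≤ Subgroup.normalizer (H : Set G) ∧ IsPGroup p ↥Q ∧
        ¬ p ∣ Q.relIndex (Subgroup.normalizer (H : Set G)) ∧
        Cfsg.Agent.Helper10.PairTCtl W V (Subgroup.normalizer (H : Set G)) Q := by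
    intro H hZH hHP
    obtain ⟨Q, hQN, hQp, hQi, hfus⟩ := hloc H hZH hHP
    refine ⟨Q, hQN, hQp, hQi, ?_⟩
    intro x hx
    obtain ⟨a, ha, b, hb, rfl⟩ := (hfus x).1 hx
    exact mul_mem (Subgroup.mem_sup_left ha) (Subgroup.mem_sup_right hb)
  have hmain := Cfsg.Agent.Helper10.pair_transfer P hW hV hWZ hVmono hSne hloc'
  refine ⟨(P : Subgroup G), P.2, P.not_dvd_index, ?_⟩
  intro x
  constructor
  · intro hx
    have hxT := hmain hx
    unfold Cfsg.Agent.Helper10.pairTarget at hxT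
    -- the product of the two subgroups
    have hPC : (P : Subgroup G) ≤ Subgroup.centralizer ((V (P : Subgroup G) : Subgroup G) : Set G) := by
      intro s hs
      rw [Subgroup.mem_centralizer_iff]
      intro z hz
      have hz' : z ∈ Subgroup.centralizer ((P : Subgroup G) : Set G) := (hVZ _ P.2 hz).2
      rw [Subgroup.mem_centralizer_iff] at hz'
      exact (hz' s hs).symm
    have hLE : (P : Subgroup G) ⊓ ⁅Subgroup.normalizer ((W (P : Subgroup G) : Subgroup G) : Set G),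
          Subgroup.normalizer ((W (P : Subgroup G) : Subgroup G) : Set G)⁆ ≤
        Subgroup.normalizer (((P : Subgroup G) ⊓ ⁅Subgroup.centralizer ((V (P : Subgroup G) : Subgroup G) : Set G),
          Subgroup.centralizer ((V (P : Subgroup G) : Subgroup G) : Set G)⁆ : Subgroup G) : Set G) := by
      refine le_trans inf_le_left ?_
      intro s hs
      rw [Cfsg.Agent.Helper14.mem_normalizer_iff_map_cj, Cfsg.Agent.Helper14.map_cj_inf,
        Subgroup.map_commutator, Cfsg.Agent.Helper14.map_cj_eq_self_of_mem hs,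
        Cfsg.Agent.Helper14.map_cj_eq_self_of_mem (hPC hs)]
    have hcoe := Subgroup.coe_mul_of_left_le_normalizer_right _ _ hLE
    have hx' : x ∈ ((((P : Subgroup G) ⊓ ⁅Subgroup.normalizer ((W (P : Subgroup G) : Subgroup G) : Set G),
          Subgroup.normalizer ((W (P : Subgroup G) : Subgroup G) : Set G)⁆) ⊔
        ((P : Subgroup G) ⊓ ⁅Subgroup.centralizer ((V (P : Subgroup G) : Subgroup G) : Set G),
          Subgroup.centralizer ((V (P : Subgroup G) : Subgroup G) : Set G)⁆) : Subgroup G) : Set G) := hxT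
    rw [hcoe, Set.mem_mul] at hx'
    obtain ⟨a, ha, b, hb, hab⟩ := hx'
    exact ⟨a, ha, b, hb, hab.symm⟩
  · rintro ⟨a, ha, b, hb, rfl⟩
    have hle : ∀ K : Subgroup G, ⁅K, K⁆ ≤ commutator G := by
      intro K
      rw [commutator_def]
      exact Subgroup.commutator_mono le_top le_top
    exact mul_mem ⟨ha.1, hle _ ha.2⟩ ⟨hb.1, hle _ hb.2⟩

end Cfsg.Agent.S2001
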