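import Cfsg.Statements.S2006
import Cfsg.Agent.Helper10.ThompsonNPC
import Cfsg.Agent.Helper10.ThompsonHH
import Cfsg.Agent.S0630

set_option autoImplicit false
universe u
open Cfsg

namespace Cfsg.Agent.S2006

/-- Let p be a prime, G a finite group with Sylow p-subgroup S, and W an isomorphism-invariant p-group functor (W assigns to every group Q a subgroup W(Q), nontrivial whenever Q is a nontrivial finite p-group, and every isomorphism from a finite p-group Q onto a group R carries W(Q) onto W(R)). Suppose N_G(W(S)) has a normal p-complement, and that whenever G* = K/R is a section of G with C_{G*}(O_p(G*)) ≤ O_p(G*) and S* is a Sylow p-subgroup of G* with W(S*) not normal in G*, there are an element g of S* outside O_p(G*) and a chief factor X/Y of G* with X ≤ O_p(G*) such that [X, g, …, g] ≤ Y with p − 1 entries g but [X, g] ≰ Y. Then G has a normal p-complement. -/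
theorem result {G : Type u} [Group G] [Finite G] {p : ℕ} [Fact p.Prime] (W : ∀ (Q : Type u) [Group Q], Subgroup Q) (hW : Cfsg.IsCharPFunctor.{u} p W) (S : Sylow p G) (hN : Cfsg.HasNormalPComplement p ↥(Subgroup.normalizer ((Cfsg.inducedFunctor (G := G) W (S : Subgroup G) : Subgroup G) : Set G))) (hloc : ∀ (K R : Subgroup G) [hR : (R.subgroupOf K).Normal], Subgroup.centralizer ((Cfsg.pCore p (↥K ⧸ R.subgroupOf K) : Subgroup (↥K ⧸ R.subgroupOf K)) : Set (↥K ⧸ R.subgroupOf K)) ≤ Cfsg.pCore p (↥K ⧸ R.subgroupOf K) → ∀ T : Sylow p (↥K ⧸ R.subgroupOf K), ¬ (Cfsg.inducedFunctor (G := (↥K ⧸ R.subgroupOf K)) W ((T : Subgroup (↥K ⧸ R.subgroupOf K)))).Normal → ∃ g : (↥K ⧸ R.subgroupOf K), g ∈ (T : Subgroup (↥K ⧸ R.subgroupOf K)) ∧ g ∉ Cfsg.pCore p (↥K ⧸ R.subgroupOf K) ∧ ∃ U V : Subgroup (↥K ⧸ R.subgroupOf K), Cfsg.IsChiefFactor U V ∧ U ≤ Cfsg.pCore p (↥K ⧸ R.subgroupOf K) ∧ Cfsg.iterCommutator U (Subgroup.zpowers g) (p - 1) ≤ V ∧ ¬ ⁅U, Subgroup.zpowers g⁆ ≤ V) : Cfsg.HasNormalPComplement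 p G := by
  classical
  refine Cfsg.Agent.Helper10.thompson_reduction hW (fun Y _ => Cfsg.Agent.Helper10.IsSec G Y)
    (fun Y _ hY M => hY.subgroup M) (fun Y _ hY N _ => hY.quotient N) ?_
    (Nat.card G) G rfl Cfsg.Agent.Helper10.IsSec.refl S hN
  intro Y _ _ hY hcent hquotNPC T hTco hnpc hT
  by_cases hnormY : (Cfsg.inducedFunctor W (T : Subgroup Y)).Normal
  · apply hnpc
    have hNtop : Subgroup.normalizer ((Cfsg.inducedFunctor W (T : Subgroup Y) : Subgroup Y) : Set Y) = ⊤ :=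
      Subgroup.normalizer_eq_top_iff.2 hnormY
    rw [hNtop] at hT
    exact Cfsg.Agent.Helper10.npc_of_top hT
  · obtain ⟨K, R, hR, ⟨e⟩⟩ := hY.exists_equiv
    have hes : Function.Surjective e.toMonoidHom := e.surjective
    have hcentZ := Cfsg.Agent.S0630.centralizer_pCore_le_of_equiv p e hcent
    have hquotZ : Cfsg.HasNormalPComplement p
        ((↥K ⧸ R.subgroupOf K) ⧸ Cfsg.pCore p (↥K ⧸ R.subgroupOf K)) :=
      Cfsg.Agent.Helper10.npc_of_equiv
        (QuotientGroup.congr (Cfsg.pCore p Y) (Cfsg.pCore p (↥K ⧸ R.subgroupOf K)) e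
          (Cfsg.Agent.Helper14.pCore_map_equiv p e)) hquotNPC
    have hcoZ : IsCoatom ((T.mapSurjective hes :
        Sylow p (↥K ⧸ R.subgroupOf K)) : Subgroup (↥K ⧸ R.subgroupOf K)) := by
      rw [Sylow.coe_mapSurjective]
      have := (e.mapSubgroup.isCoatom_iff (T : Subgroup Y)).2 hTco
      exact this
    have hnotZ : ¬ (Cfsg.inducedFunctor W ((T.mapSurjective hes :
        Sylow p (↥K ⧸ R.subgroupOf K)) : Subgroup (↥K ⧸ R.subgroupOf K))).Normal := by
      intro hn
      rw [Sylow.coe_mapSurjective, ← Cfsg.Agent.Helper10.iF_map_equiv hW e T.2] at hn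
      apply hnormY
      have h1 := hn.comap e.toMonoidHom
      rwa [Subgroup.comap_map_eq_self_of_injective e.injective] at h1
    obtain ⟨g, hgT, hgP, U, V, hchief, hUP, hiter, hnot⟩ :=
      hloc K R hcentZ (T.mapSurjective hes) hnotZ
    exact Cfsg.Agent.Helper10.hh_contradiction hquotZ (T.mapSurjective hes) hcoZ g hgT hgP U V
      hchief hUP hiter hnot

end Cfsg.Agent.S2006
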