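import Cfsg.Statements.S2008
import Cfsg.Agent.Helper10.Crit19

set_option autoImplicit false
open Cfsg

namespace Cfsg.Agent.S2008

/-- Let H be a finite group and z an involution such that every proper normal subgroup of H meets the centralizer of z trivially, and suppose z lies in a Klein four-subgroup E of H all three of whose involutions are conjugate to z in H. Then H has no non-trivial abelian normal subgroup. -/
theorem result {H : Type*} [Group H] [Finite H] (z : H) (hz : orderOf z = 2) (hN : ∀ N : Subgroup H, N.Normal → N ≠ ⊤ → N ⊓ Subgroup.centralizer ({z} : Set H) = ⊥) (E : Subgroup H) (hE : IsKleinFour ↥E) (hzE : z ∈ E) (hc : ∀ e ∈ E, e ≠ 1 → IsConj z e) (N : Subgroup H) [N.Normal] (hab : IsMulCommutative ↥N) : N = ⊥ := by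
  by_cases hNtop : N = ⊤
  · exfalso
    subst hNtop
    have hz1 : z ≠ 1 := by
      intro h; rw [h, orderOf_one] at hz; exact absurd hz (by norm_num)
    -- H is abelian, so conjugates of z equal z
    have hcomm : ∀ a b : H, a * b = b * a := by
      intro a b
      have := hab.is_comm.comm (⟨a, Subgroup.mem_top a⟩ : ↥(⊤ : Subgroup H)) ⟨b, Subgroup.mem_top b⟩
      exact congrArg Subtype.val this
    have hall : ∀ e ∈ E, e ≠ 1 → e = z := by
      intro e he he1
      obtain ⟨c, hc'⟩ := isConj_iff.1 (hc e he he1)
      rw [← hc', hcomm c z]; group
    -- then E has at most two elements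
    classical
    let f : ↥E → Bool := fun e => decide (e = ⟨z, hzE⟩)
    have hall' : ∀ e : ↥E, e = 1 ∨ e = ⟨z, hzE⟩ := by
      intro e
      by_cases h1 : (e : H) = 1
      · left; exact Subtype.ext h1
      · right; exact Subtype.ext (hall e e.2 h1)
    have hf : Function.Injective f := by
      intro a b hab'
      simp only [f, decide_eq_decide] at hab'
      rcases hall' a with ha | ha <;> rcases hall' b with hb | hb
      · rw [ha, hb]
      · exfalso
        have : a ≠ ⟨z, hzE⟩ := by
          rw [ha]; intro h; exact hz1 (congrArg Subtype.val h).symm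
        exact this (hab'.2 hb)
      · exfalso
        have : b ≠ ⟨z, hzE⟩ := by
          rw [hb]; intro h; exact hz1 (congrArg Subtype.val h).symm
        exact this (hab'.1 ha)
      · rw [ha, hb]
    have := Nat.card_le_card_of_injective f hf
    rw [hE.card_four, Nat.card_eq_fintype_card, Fintype.card_bool] at this
    omega
  · exact Cfsg.Agent.Helper10.proper_normal_eq_bot z hz hN E hE hzE hc N hNtop

end Cfsg.Agent.S2008
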