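import Cfsg.Statements.S2011
import Cfsg.Agent.Helper25.FusionGroup
import Cfsg.Agent.Helper10.PConstrained
import Cfsg.Agent.Helper10.SylowSub

set_option autoImplicit false
open Cfsg

namespace Cfsg.Agent.S2011

/-- Let G be a finite group with Sylow p-subgroup P and Q ≤ P. Then Q is centric in the fusion system of G on P (C_P(R) ≤ R for every G-conjugate R of Q lying in P) if and only if C_G(Q) is the internal direct product of Z(Q) = Q ∩ C_G(Q) and the largest normal subgroup of C_G(Q) of order prime to p. -/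
theorem result {G : Type*} [Group G] [Finite G] (p : ℕ) [Fact p.Prime] (P : Sylow p G) (Q : Subgroup G) (hQ : Q ≤ P) : (Cfsg.groupFusionSystem (P : Subgroup G)).IsCentric Q ↔ Cfsg.IsInternalDirectProduct (Q ⊓ Subgroup.centralizer (Q : Set G)) ((Cfsg.pPrimeCore p ↥(Subgroup.centralizer (Q : Set G))).map (Subgroup.centralizer (Q : Set G)).subtype) (Subgroup.centralizer (Q : Set G)) := by
  classical
  have hQp : IsPGroup p ↥Q := P.2.to_le hQ
  obtain ⟨C, hC⟩ : ∃ C : Subgroup G, C = Subgroup.centralizer (Q : Set G) := ⟨_, rfl⟩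
  rw [← hC]
  have hKcop : (Nat.card ↥(Cfsg.pPrimeCore p ↥C)).Coprime p :=
    Cfsg.Agent.Helper19.pPrimeCore_coprime (G := ↥C) p
  have hKle : (Cfsg.pPrimeCore p ↥C).map C.subtype ≤ C := by
    rintro _ ⟨y, -, rfl⟩; exact y.2
  have hKcard : Nat.card ↥((Cfsg.pPrimeCore p ↥C).map C.subtype) = Nat.card ↥(Cfsg.pPrimeCore p ↥C) :=
    (Nat.card_congr ((Cfsg.pPrimeCore p ↥C).equivMapOfInjective C.subtype C.subtype_injective).toEquiv).symm
  have hZK : (Q ⊓ C) ⊓ (Cfsg.pPrimeCore p ↥C).map C.subtype = ⊥ := by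
    apply (Subgroup.disjoint_of_coprime_natCard _).eq_bot
    obtain ⟨k, hk⟩ := IsPGroup.iff_card.mp (hQp.to_le (inf_le_left : Q ⊓ C ≤ Q))
    rw [hk, hKcard]
    exact (Nat.Coprime.pow_right k hKcop).symm
  have hcomm : ∀ a ∈ Q ⊓ C, ∀ b ∈ C, a * b = b * a := by
    intro a ha b hb
    rw [hC, Subgroup.mem_centralizer_iff] at hb
    exact hb a ha.1
  constructor
  · -- centric ⇒ direct product
    rintro ⟨-, hcen⟩
    refine ⟨inf_le_right, hKle, fun a ha b hb => hcomm a ha b (hKle hb), hZK, ?_⟩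
    obtain ⟨X'⟩ : Nonempty (Sylow p ↥C) := inferInstance
    have hXp : IsPGroup p ↥((X' : Subgroup ↥C).map C.subtype) := X'.2.map _
    have hXC : (X' : Subgroup ↥C).map C.subtype ≤ C := by
      rintro _ ⟨y, -, rfl⟩; exact y.2
    have hCN : C ≤ Subgroup.normalizer (Q : Set G) := by
      rw [hC]; exact Subgroup.centralizer_le_normalizer _
    have hXN : (X' : Subgroup ↥C).map C.subtype ≤ Subgroup.normalizer (Q : Set G) := hXC.trans hCN
    have hQXp : IsPGroup p ↥((X' : Subgroup ↥C).map C.subtype ⊔ Q : Subgroup G) :=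
      hXp.to_sup_of_normal_right' hQp hXN
    obtain ⟨g, -, hg⟩ := Cfsg.Agent.Helper10.exists_conj_le_sylow_of_le P ⊤ _ le_top hQXp le_top
    -- R = g Q g⁻¹
    have hRP : Cfsg.Agent.Helper25.cj Q g ≤ (P : Subgroup G) := by
      rintro _ ⟨y, hy, rfl⟩
      exact hg y (Subgroup.mem_sup_right hy)
    have hconj := Cfsg.Agent.Helper25.groupFusion_isConj_cj (S := (P : Subgroup G)) g hQ hRP
    have hcR := hcen _ hconj
    -- X ≤ Z
    have hXZ : (X' : Subgroup ↥C).map C.subtype ≤ Q ⊓ C := by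
      intro x hx
      refine ⟨?_, hXC hx⟩
      have h1 : g * x * g⁻¹ ∈ Cfsg.FusionSystem.centralizerIn (P : Subgroup G) (Cfsg.Agent.Helper25.cj Q g) := by
        refine ⟨hg x (Subgroup.mem_sup_left hx), ?_⟩
        rw [Cfsg.Agent.Helper25.centralizer_cj]
        refine ⟨x, ?_, rfl⟩
        rw [← hC]; exact hXC hx
      have h2 := hcR h1
      rw [Cfsg.Agent.Helper25.mem_cj] at h2
      have e : g⁻¹ * (g * x * g⁻¹) * g = x := by group
      rwa [e] at h2
    -- X' is central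
    have hle : Subgroup.normalizer (X' : Set ↥C) ≤ Subgroup.centralizer (X' : Set ↥C) := by
      intro r _
      rw [Subgroup.mem_centralizer_iff]
      intro q hq
      have hq' : (q : G) ∈ Q ⊓ C := hXZ ⟨q, hq, rfl⟩
      have := hcomm (q : G) hq' (r : G) r.2
      exact Subtype.ext this
    have hcompl := MonoidHom.ker_transferSylow_isComplement' X' hle
    have hK0cop : (Nat.card ↥(MonoidHom.transferSylow X' hle).ker).Coprime p := by
      rw [← hcompl.index_eq_card]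
      exact ((Fact.out : p.Prime).coprime_iff_not_dvd.mpr X'.not_dvd_index).symm
    have hK0le : (MonoidHom.transferSylow X' hle).ker ≤ Cfsg.pPrimeCore p ↥C :=
      Cfsg.Agent.Helper10.le_pPrimeCore inferInstance hK0cop
    have htop : (X' : Subgroup ↥C) ⊔ Cfsg.pPrimeCore p ↥C = ⊤ := by
      rw [eq_top_iff, ← hcompl.sup_eq_top, sup_comm]
      exact sup_le_sup_left hK0le _
    apply le_antisymm (sup_le inf_le_right hKle)
    intro c hc
    have h1 : (⟨c, hc⟩ : ↥C) ∈ (X' : Subgroup ↥C) ⊔ Cfsg.pPrimeCore p ↥C := by rw [htop]; trivial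
    have h2 : c ∈ ((X' : Subgroup ↥C) ⊔ Cfsg.pPrimeCore p ↥C).map C.subtype := ⟨⟨c, hc⟩, h1, rfl⟩
    rw [Subgroup.map_sup] at h2
    exact (sup_le_sup_right hXZ _) h2
  · -- direct product ⇒ centric
    rintro ⟨-, -, -, -, hsup⟩
    refine ⟨hQ, ?_⟩
    intro R hR
    obtain ⟨-, hRP, g, rfl⟩ := Cfsg.Agent.Helper25.groupFusion_isConj_iff.mp hR
    intro x hx
    have hxP : x ∈ (P : Subgroup G) := hx.1
    have hxC : x ∈ Subgroup.centralizer ((Cfsg.Agent.Helper25.cj Q g : Subgroup G) : Set G) := hx.2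
    rw [Cfsg.Agent.Helper25.centralizer_cj, Cfsg.Agent.Helper25.mem_cj, ← hC] at hxC
    rw [Cfsg.Agent.Helper25.mem_cj]
    -- y = g⁻¹ x g ∈ C is a p-element
    set y := g⁻¹ * x * g with hy
    have hyC : y ∈ (Q ⊓ C) ⊔ (Cfsg.pPrimeCore p ↥C).map C.subtype := by rw [hsup]; exact hxC
    have hKn : ((Cfsg.pPrimeCore p ↥C).map C.subtype).subgroupOf C = Cfsg.pPrimeCore p ↥C := by
      exact Subgroup.comap_map_eq_self_of_injective C.subtype_injective _
    -- write y = z * k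
    have hdec : ∀ w : G, w ∈ Subgroup.closure (((Q ⊓ C : Subgroup G) : Set G) ∪ (((Cfsg.pPrimeCore p ↥C).map C.subtype : Subgroup G) : Set G)) →
        ∃ z ∈ Q ⊓ C, ∃ k ∈ (Cfsg.pPrimeCore p ↥C).map C.subtype, w = z * k := by
      intro w hw
      induction hw using Subgroup.closure_induction with
      | mem w hw =>
        rcases hw with hw | hw
        · exact ⟨w, hw, 1, one_mem _, by simp⟩
        · exact ⟨1, one_mem _, w, hw, by simp⟩
      | one => exact ⟨1, one_mem _, 1, one_mem _, by simp⟩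
      | mul a b _ _ iha ihb =>
        obtain ⟨z₁, hz₁, k₁, hk₁, rfl⟩ := iha
        obtain ⟨z₂, hz₂, k₂, hk₂, rfl⟩ := ihb
        refine ⟨z₁ * z₂, mul_mem hz₁ hz₂, k₁ * k₂, mul_mem hk₁ hk₂, ?_⟩
        have := hcomm z₂ hz₂ k₁ (hKle hk₁)
        calc z₁ * k₁ * (z₂ * k₂) = z₁ * (k₁ * z₂) * k₂ := by group
          _ = z₁ * (z₂ * k₁) * k₂ := by rw [this]
          _ = z₁ * z₂ * (k₁ * k₂) := by group
      | inv a _ iha =>
        obtain ⟨z₁, hz₁, k₁, hk₁, rfl⟩ := iha
        refine ⟨z₁⁻¹, inv_mem hz₁, k₁⁻¹, inv_mem hk₁, ?_⟩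
        have := hcomm z₁ hz₁ k₁ (hKle hk₁)
        rw [mul_inv_rev]
        have h3 : k₁⁻¹ * z₁⁻¹ = (z₁ * k₁)⁻¹ := by group
        have h4 : z₁⁻¹ * k₁⁻¹ = (k₁ * z₁)⁻¹ := by group
        rw [h3, h4, this]
    rw [Subgroup.sup_eq_closure] at hyC
    obtain ⟨z, hz, k, hk, hyzk⟩ := hdec y hyC
    -- y is a p-element
    obtain ⟨a, ha⟩ := (IsPGroup.iff_orderOf.mp P.2) ⟨x, hxP⟩
    rw [Subgroup.orderOf_mk] at ha
    have hyord : y ^ (p ^ a) = 1 := by
      have : y = (MulAut.conj g⁻¹) x := by simp [hy]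
      rw [this, ← map_pow, ← ha, pow_orderOf_eq_one, map_one]
    obtain ⟨b, hb⟩ := (IsPGroup.iff_orderOf.mp hQp) ⟨z, hz.1⟩
    rw [Subgroup.orderOf_mk] at hb
    have hzk := hcomm z hz k (hKle hk)
    have hpow : (z * k) ^ (p ^ (a + b)) = z ^ (p ^ (a + b)) * k ^ (p ^ (a + b)) := (Commute.mul_pow hzk _)
    have hz1 : z ^ (p ^ (a + b)) = 1 := by
      rw [pow_add, mul_comm, pow_mul, ← hb, pow_orderOf_eq_one, one_pow]
    have hy1 : (z * k) ^ (p ^ (a + b)) = 1 := by
      rw [← hyzk, pow_add, pow_mul, hyord, one_pow]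
    rw [hy1, hz1, one_mul] at hpow
    have hk1 : k = 1 := by
      have h5 : orderOf k ∣ p ^ (a + b) := orderOf_dvd_of_pow_eq_one hpow.symm
      have h6 : orderOf k ∣ Nat.card ↥((Cfsg.pPrimeCore p ↥C).map C.subtype) := by
        have := orderOf_dvd_natCard (⟨k, hk⟩ : ↥((Cfsg.pPrimeCore p ↥C).map C.subtype))
        rwa [Subgroup.orderOf_mk] at this
      rw [hKcard] at h6
      have := Nat.eq_one_of_dvd_coprimes (Nat.Coprime.pow_right (a + b) hKcop) h6 h5
      rwa [orderOf_eq_one_iff] at this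
    rw [hyzk, hk1, mul_one]
    exact hz.1

end Cfsg.Agent.S2011
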