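import Cfsg.Statements.S2015
import Cfsg.Agent.Helper10.KInfTransfer
import Cfsg.Agent.Helper10.KInfChar

set_option autoImplicit false
universe u
open Cfsg

namespace Cfsg.Agent.S2015

/-- For p ≥ 5, every finite p-group P has a characteristic subgroup K containing Z(P), depending only on P, whose normalizer controls transfer wherever P is a Sylow subgroup: for every finite group G and every embedding ι of P onto a Sylow p-subgroup of G, the intersection of ι(P) with the derived subgroup of G equals its intersection with the derived subgroup of N_G(ι(K)). -/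
theorem result (p : ℕ) [Fact p.Prime] (hp : 5 ≤ p) (P : Type u) [Group P] [Finite P] (hP : IsPGroup p P) : ∃ K : Subgroup P, K.Characteristic ∧ Subgroup.center P ≤ K ∧ ∀ (G : Type u) [Group G] [Finite G] (ι : P →* G), Function.Injective ι → (∃ T : Sylow p G, (T : Subgroup G) = ι.range) → ι.range ⊓ commutator G = ι.range ⊓ (commutator ↥(Subgroup.normalizer ((K.map ι : Subgroup G) : Set G))).map (Subgroup.normalizer ((K.map ι : Subgroup G) : Set G)).subtype := by
  refine ⟨Cfsg.kInfLower P, ?_, Cfsg.Agent.Helper10.center_le_kInfLower P, ?_⟩
  · rw [Subgroup.characteristic_iff_map_eq]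
    intro φ
    exact Cfsg.Agent.Helper10.map_kInfLower_equiv φ
  · intro G _ _ ι hι hT
    obtain ⟨T, hT⟩ := hT
    set e' : P ≃* ↥(T : Subgroup G) :=
      (MonoidHom.ofInjective hι).trans (MulEquiv.subgroupCongr hT.symm) with he'
    have hcomp : ι = (T : Subgroup G).subtype.comp e'.toMonoidHom := by
      ext x
      rfl
    have hK : (Cfsg.kInfLower P).map ι =
        Cfsg.inducedFunctor Cfsg.kInfLower (T : Subgroup G) := by
      unfold Cfsg.inducedFunctor
      rw [← Cfsg.Agent.Helper10.map_kInfLower_equiv e', Subgroup.map_map, ← hcomp]
    rw [hK, ← hT]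
    have hmap : ∀ N : Subgroup G, (commutator ↥N).map N.subtype = ⁅N, N⁆ := by
      intro N
      rw [_root_.commutator_def, Subgroup.map_commutator, ← MonoidHom.range_eq_map,
        Subgroup.range_subtype]
    rw [hmap]
    apply le_antisymm
    · exact le_inf inf_le_left (Cfsg.Agent.Helper10.kInfLower_focal hp T)
    · apply le_inf inf_le_left
      refine inf_le_right.trans ?_
      rw [_root_.commutator_def]
      exact Subgroup.commutator_mono le_top le_top

end Cfsg.Agent.S2015
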