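import Cfsg.Statements.S2086
-- import your own Cfsg.Agent.* helpers here
import Cfsg.Agent.Helper2.PSLM.Main

set_option autoImplicit false
open Cfsg

namespace Cfsg.Agent.S2086

/-- Schur multipliers of the linear groups: for n ≥ 2 and a field F with q elements (q ≥ 4 when n = 2), apart from the five exceptional pairs (n, q) = (2, 4), (2, 9), (3, 2), (3, 4), (4, 2), the Schur multiplier of PSL_n(F) is cyclic of order gcd(n, q − 1); here the Schur multiplier is described through stem extensions, as in the definitions. -/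
theorem result {F : Type*} [Field F] [Fintype F] {q : ℕ} (hF : Fintype.card F = q) (n : ℕ) (hn : 2 ≤ n) (h2 : n = 2 → 4 ≤ q) (hexc : (n, q) ∉ ({(2, 4), (2, 9), (3, 2), (3, 4), (4, 2)} : Set (ℕ × ℕ))) : Cfsg.HasCyclicSchurMultiplier (Matrix.ProjectiveSpecialLinearGroup (Fin n) F) (Nat.gcd n (q - 1)) := by
  classical
  simp only [Set.mem_insert_iff, Set.mem_singleton_iff, Prod.mk.injEq, not_or, not_and] at hexc
  obtain ⟨e24, e29, e32, e34, e42⟩ := hexc
  by_cases hn2 : n = 2
  · subst hn2
    exact Cfsg.Agent.S2086P.psl_two_case hF (h2 rfl) (e24 rfl) (e29 rfl)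
  · have hn3 : 3 ≤ n := by omega
    have hexc' : ¬ Cfsg.Agent.S2086P.MAIN.Exc n (Fintype.card F) := by
      rw [hF]
      rintro (⟨h1, h2'⟩ | ⟨h1, h2'⟩ | ⟨h1, h2'⟩)
      · exact e32 h1 h2'
      · exact e34 h1 h2'
      · exact e42 h1 h2'
    have hG : commutator (Matrix.SpecialLinearGroup (Fin n) F) = ⊤ :=
      Cfsg.Agent.Helper2.SL_commutator_eq_top (by rw [Fintype.card_fin]; exact hn3)
    obtain ⟨e0⟩ := Cfsg.Agent.S2086P.center_equiv_zmod (F := F) n (by omega)
    rw [hF] at e0
    let π : Matrix.SpecialLinearGroup (Fin n) F →* Matrix.ProjectiveSpecialLinearGroup (Fin n) F :=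
      QuotientGroup.mk' (Subgroup.center (Matrix.SpecialLinearGroup (Fin n) F))
    have hker : π.ker = Subgroup.center (Matrix.SpecialLinearGroup (Fin n) F) :=
      QuotientGroup.ker_mk' _
    have e1 : Multiplicative (ZMod (Nat.gcd n (q - 1))) ≃* π.ker :=
      e0.trans (MulEquiv.subgroupCongr hker.symm)
    exact Cfsg.Agent.Helper11.Cover.hasSchurMultiplier_of_cover hG
      (fun P _ _ ρ hρ => Cfsg.Agent.S2086P.MAIN.ker_eq_bot hn3 hexc' ρ hρ)
      π (QuotientGroup.mk'_surjective _) hker.le e1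

end Cfsg.Agent.S2086
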