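import Cfsg.Statements.S2094
-- import your own Cfsg.Agent.* helpers here
import Cfsg.Agent.Helper2.S2094.MainF

set_option autoImplicit false
open Cfsg

namespace Cfsg.Agent.S2094

/-- Schur multipliers of the odd-dimensional orthogonal groups: for m ≥ 3 and a field F of odd order q with (m, q) ≠ (3, 3), the Schur multiplier of PΩ_(2m+1)(F) (for the form x₀² + Σ xᵢyᵢ) is cyclic of order 2 = gcd(2, q − 1); here the Schur multiplier is described through stem extensions, as in the definitions. -/
theorem result {F : Type*} [Field F] [Fintype F] {q : ℕ} (hF : Fintype.card F = q) (hq : Odd q) (m : ℕ) (hm : 3 ≤ m) (hexc : ¬ (m = 3 ∧ q = 3)) : Cfsg.HasCyclicSchurMultiplier (Cfsg.POmega F (Cfsg.quadFormOdd m F)) 2 := by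
  -- the characteristic is odd
  have h2 : (2 : F) ≠ 0 := by
    intro h
    obtain ⟨p, hp⟩ := CharP.exists F
    have hpp : p.Prime := (CharP.char_is_prime_or_zero F p).resolve_right (by
      intro h0
      subst h0
      have := hp
      exact absurd (CharP.charP_to_charZero F) (by
        intro hz
        exact not_finite F))
    have hdvd : p ∣ 2 := by
      have := (CharP.cast_eq_zero_iff F p 2).1 (by exact_mod_cast h)
      exact this
    have hp2 : p = 2 := (Nat.prime_dvd_prime_iff_eq hpp Nat.prime_two).1 hdvd
    subst hp2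
    have hdq : 2 ∣ Fintype.card F := by
      have := hp
      obtain ⟨k, _, hk⟩ := FiniteField.card F 2
      rw [hk]
      exact dvd_pow_self 2 k.ne_zero
    rw [hF] at hdq
    exact (Nat.not_even_iff_odd.2 hq) (even_iff_two_dvd.2 hdq)
  -- the exceptional case is excluded
  have hreg : 4 ≤ m ∨ 5 ≤ Fintype.card F := by
    rcases Nat.lt_or_ge m 4 with h | h
    · right
      have hm3 : m = 3 := by omega
      rw [hF]
      have hq3 : q ≠ 3 := fun h3 => hexc ⟨hm3, h3⟩
      have hq1 : 1 < q := by rw [← hF]; exact Fintype.one_lt_card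
      obtain ⟨k, hk⟩ := hq
      -- `q` odd, `q > 1`, `q ≠ 3`; `q = 4` is even
      omega
    · left; exact h
  exact Cfsg.Agent.S2094P.hasSchurMultiplierB hm h2 hreg

end Cfsg.Agent.S2094
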