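import Cfsg.Statements.S2100
import Mathlib
import Cfsg.Agent.Helper2.Stb.UnivG2
import Cfsg.Agent.Helper2.Stb.Unimod
import Cfsg.Agent.S2397

set_option autoImplicit false
open Cfsg

namespace Cfsg.Agent.S2100

open Cfsg.Lie Cfsg.Agent.Helper6 Cfsg.Agent.Helper2.Stb Cfsg.Agent.Helper2.StPerf
open scoped commutatorElement

/-- Schur multipliers of the Chevalley groups of type G₂: over a field with q ≥ 5 elements the Schur multiplier of G₂(q) is trivial (here the Schur multiplier is described through stem extensions, as in the definitions); the cases q = 3 and q = 4 are exceptional and q = 2 gives a non-simple group. -/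
theorem result {F : Type*} [Field F] [Fintype F] (hF : 5 ≤ Fintype.card F) : Cfsg.HasCyclicSchurMultiplier ↥(Cfsg.Lie.chevG2.group F) 1 := by
  have hD : IsTabulated chevG2 := isTab_G2'
  have hK5 : ∃ s : Finset F, 4 < s.card := ⟨Finset.univ, by rw [Finset.card_univ]; omega⟩
  obtain ⟨a0, ha0, ha1⟩ := exists_pow_ne_one hK5 (le_refl 1) (by norm_num)
  rw [pow_one] at ha1
  have hsub : chevG2.steinbergRelsAB F ⊆ chevG2.steinbergRelsAB F := subset_rfl
  have hθ : ∀ (r : ℕ) (t : F), r < chevG2.nroots →
      ((thetaAB hD F (pX chevG2 (chevG2.steinbergRelsAB F) r t) : GL chevG2.Idx F) :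
        Matrix chevG2.Idx chevG2.Idx F) = chevG2.x F r t := fun r t hr => thetaAB_apply hD r t hr
  have hθsurj : Function.Surjective (thetaAB hD F) := surjective_pres hsub _ hθ
  have hθker : (thetaAB hD F).ker ≤ Subgroup.center (chevG2.SteinbergCover F) :=
    ker_le_center_pres hD hsub _ hθ
  -- the centre of the covering group is trivial
  have hcen : Subgroup.center (chevG2.SteinbergCover F) = ⊥ := by
    obtain ⟨e, _⟩ := Cfsg.Agent.S2397.result (K := F) chevG2 (by simp)
      (fun _ => ⟨a0, ha0, ha1⟩)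
    have hcS : Subgroup.center (chevG2.SteinbergGroup F) = ⊥ :=
      center_steinberg_eq_bot (by simp)
    rw [eq_bot_iff]
    intro z hz
    rw [Subgroup.mem_bot]
    have h1 : e z ∈ Subgroup.center (chevG2.SteinbergGroup F) := by
      rw [Subgroup.mem_center_iff]
      intro g
      obtain ⟨x, rfl⟩ := e.surjective g
      rw [← map_mul, ← map_mul, Subgroup.mem_center_iff.1 hz x]
    rw [hcS, Subgroup.mem_bot] at h1
    exact (map_eq_one_iff e e.injective).1 h1
  have hθinj : ∀ x, thetaAB hD F x = 1 → x = 1 := by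
    intro x hx
    have : x ∈ Subgroup.center (chevG2.SteinbergCover F) := hθker hx
    rw [hcen, Subgroup.mem_bot] at this
    exact this
  refine ⟨⟨↥(chevG2.group F), inferInstance, inferInstance, MonoidHom.id _,
    ⟨fun x => ⟨x, rfl⟩, ?_, ?_⟩, ⟨?_⟩⟩, ?_⟩
  · intro x hx
    rw [MonoidHom.mem_ker, MonoidHom.id_apply] at hx
    rw [hx]
    exact Subgroup.one_mem _
  · intro x hx
    rw [MonoidHom.mem_ker, MonoidHom.id_apply] at hx
    rw [hx]
    exact Subgroup.one_mem _
  · exact
      { toFun := fun _ => 1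
        invFun := fun _ => 1
        left_inv := fun x => by
          have := x.2
          rw [MonoidHom.mem_ker, MonoidHom.id_apply] at this
          exact (Subtype.ext this).symm
        right_inv := fun x => Subsingleton.elim _ _
        map_mul' := fun _ _ => by simp }
  · intro Γ _ _ σ hσ
    obtain ⟨hσs, hσc, hσd⟩ := hσ
    refine ⟨1, ?_⟩
    obtain ⟨τ, hτ, _⟩ := lift_unique_G2 hK5 σ hσs hσc (thetaAB hD F)
    have hτ' : ∀ x, σ (τ x) = thetaAB hD F x := fun x => by
      rw [← hτ]; rfl
    have hle : commutator Γ ≤ τ.range := by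
      rw [commutator_eq_closure, Subgroup.closure_le]
      rintro _ ⟨γ1, γ2, rfl⟩
      obtain ⟨x1, hx1⟩ := hθsurj (σ γ1)
      obtain ⟨x2, hx2⟩ := hθsurj (σ γ2)
      refine ⟨⁅x1, x2⁆, ?_⟩
      rw [map_commutatorElement]
      apply comm_eq_of_map_eq σ hσc
      · rw [hτ', hx1]
      · rw [hτ', hx2]
    intro k
    obtain ⟨x, hx⟩ := hle (hσd k.2)
    have hk1 : σ k.1 = 1 := k.2
    have hx1 : thetaAB hD F x = 1 := by rw [← hτ', hx, hk1]
    have hx0 := hθinj x hx1
    refine ⟨1, ?_⟩
    apply Subtype.ext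
    have hk0 : (k : Γ) = 1 := by rw [← hx, hx0, map_one]
    rw [hk0]
    rfl

end Cfsg.Agent.S2100
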