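import Cfsg.Statements.S2106
import Mathlib
import Cfsg.Agent.Helper2.Stein.Schur
import Cfsg.Agent.Helper2.Stein.E7
import Cfsg.Agent.Helper11.StCenterE

set_option autoImplicit false
open Cfsg

namespace Cfsg.Agent.S2106

open Cfsg.Lie

/-- Schur multipliers of the (adjoint, simple) Chevalley groups of type E₇: over a field with q elements the Schur multiplier is cyclic of order gcd(2, q − 1) (here the Schur multiplier is described through stem extensions, as in the definitions). -/
theorem result {F : Type*} [Field F] [Fintype F] {q : ℕ} (hF : Fintype.card F = q) : Cfsg.HasCyclicSchurMultiplier ↥(Cfsg.Lie.chevE7.group F) (Nat.gcd 2 (q - 1)) := by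
  subst hF
  have hB : chevE7 ∉ [chevB2, chevG2] := by
    intro h
    simp only [List.mem_cons, List.not_mem_nil, or_false] at h
    rcases h with h | h
    · have := congrArg ChevalleyDatum.nroots h
      revert this
      decide
    · have := congrArg ChevalleyDatum.nroots h
      revert this
      decide
  exact Cfsg.Agent.Helper2.Stein.hasCyclicSchur_of_center' (by simp) hB
    Cfsg.Agent.Helper2.Stein.slok_E7 (Nat.gcd_pos_of_pos_left _ (by norm_num))
    Cfsg.Agent.Helper11.StCenter.isCyclic_center_E7 Cfsg.Agent.Helper11.StCenter.card_center_E7

end Cfsg.Agent.S2106
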