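import Cfsg.Statements.S2118
-- import your own Cfsg.Agent.* helpers here
import Cfsg.Agent.Helper11.SL2NineA
import Cfsg.Agent.Helper11.SL2NineB

set_option autoImplicit false
open Cfsg

namespace Cfsg.Agent.S2118

/-- For the field with 9 elements, the special linear group SL₂ has Schur multiplier cyclic of order 3 (here the Schur multiplier is described through stem extensions, as in the definitions). -/
theorem result {F : Type*} [Field F] [Fintype F] (hF : Fintype.card F = 9) : Cfsg.HasCyclicSchurMultiplier (Matrix.SpecialLinearGroup (Fin 2) F) 3 := by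
  classical
  refine ⟨Cfsg.Agent.Helper11.HexGroup.exists_stem hF, ?_⟩
  intro Γ _ _ σ hσ
  obtain ⟨z, hzK, hz3, hgen⟩ :=
    Cfsg.Agent.Helper11.SzMult.sl2_nine_ker σ hF hσ.1 hσ.2.1 hσ.2.2
  refine Cfsg.Agent.Helper20.exists_surj_of_zpowers (K := σ.ker) 3 ⟨z, hzK⟩ (Subtype.ext hz3) ?_
  intro k
  obtain ⟨j, hj⟩ := hgen k.1 k.2
  exact ⟨j, Subtype.ext (by simpa using hj)⟩

end Cfsg.Agent.S2118
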