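import Cfsg.Statements.S2158
-- import your own Cfsg.Agent.* helpers here
import Cfsg.Agent.Helper11.ChevCharDiag
import Cfsg.Agent.S1042
import Cfsg.Agent.S0312
import Cfsg.Agent.S1036

set_option autoImplicit false
open Cfsg

namespace Cfsg.Agent.S2158

/-- In a Chevalley group of type G₂, B₂, D₄, F₄, E₆, E₇ or E₈ over any field, an element of the group whose matrix is the diagonal matrix `ĥ(χ)` of a character `χ` of the root lattice already lies in the diagonal subgroup H (the non-trivial inclusion of the statement that the group meets the group of all such diagonal matrices in H). -/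
theorem result {F : Type*} [Field F] (D : Cfsg.Lie.ChevalleyDatum) (hD : D ∈ [Cfsg.Lie.chevG2, Cfsg.Lie.chevB2, Cfsg.Lie.chevD4, Cfsg.Lie.chevF4, Cfsg.Lie.chevE6, Cfsg.Lie.chevE7, Cfsg.Lie.chevE8]) (χ : ℕ → Fˣ) (hχ : D.IsRootCharacter χ) (g : GL D.Idx F) (hg : g ∈ D.group F)
    (hgχ : (g : Matrix D.Idx D.Idx F) = D.charDiag F χ) : g ∈ D.diagonalSubgroup F := by
  have hDt : Cfsg.Agent.Helper6.IsTabulated D := hD
  have hB := Cfsg.Agent.Helper6.basicOK_of_tabulated hDt
  have hH : ∀ r < D.nroots, Cfsg.Agent.Helper6.HDiag D F r (Cfsg.Agent.Helper6.aOf D r) :=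
    fun r hr => Cfsg.Agent.Helper6.hDiag_of_tabulated hDt hr
  obtain ⟨P, hPB, -, -⟩ := Cfsg.Agent.S1042.result (F := F) D hD
  have hnorm := Cfsg.Agent.S0312.result P (J := ∅) (Set.empty_subset _)
  have hpar : P.parabolic ∅ = P.B := by simp [Cfsg.BNPair.parabolic]
  rw [hpar] at hnorm
  have hmem : (⟨g, hg⟩ : ↥(D.group F)) ∈ Subgroup.normalizer (P.B : Set ↥(D.group F)) := by
    rw [Subgroup.mem_normalizer_iff]
    intro b
    rw [hPB]
    simp only [Subgroup.mem_subgroupOf]
    constructor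
    · intro hb
      exact Cfsg.Agent.Helper11.ChevCharDiag.conj_borel_mem hB hH hχ hgχ hb
    · intro hb
      have := Cfsg.Agent.Helper11.ChevCharDiag.conj_borel_mem hB hH
        (Cfsg.Agent.Helper11.ChevCharDiag.isRootCharacter_inv hχ)
        (Cfsg.Agent.Helper11.ChevCharDiag.inv_val_eq hgχ) hb
      have e : g⁻¹ * (((⟨g, hg⟩ : ↥(D.group F)) * b * (⟨g, hg⟩ : ↥(D.group F))⁻¹ : ↥(D.group F)) : GL D.Idx F) *
          g⁻¹⁻¹ = (b : GL D.Idx F) := by
        simp only [Subgroup.coe_mul, Subgroup.coe_inv]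
        group
      rw [e] at this
      exact this
  rw [hnorm, hPB, Subgroup.mem_subgroupOf] at hmem
  have hUH : g ∈ D.posUnipotent F ⊔ D.diagonalSubgroup F := hmem
  have hnormH := (Cfsg.Agent.S1036.result (F := F) D hD).1
  rw [← SetLike.mem_coe, Subgroup.coe_mul_of_right_le_normalizer_left _ _ hnormH] at hUH
  obtain ⟨u, hu, h, hh, rfl⟩ := hUH
  have hu1 : u = 1 := by
    apply Cfsg.Agent.Helper11.ChevCharDiag.eq_one_of_diag_of_mem_posUnipotent
      (Cfsg.Agent.Helper6.Chev.good_of_mem hD) hu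
    intro i j hij
    obtain ⟨c, _, hv⟩ := Cfsg.Agent.Helper6.exists_torMat_of_mem_diagonal hB hH
      (Subgroup.inv_mem _ hh)
    have e : (u : Matrix D.Idx D.Idx F) =
        ((u * h : GL D.Idx F) : Matrix D.Idx D.Idx F) * ((h⁻¹ : GL D.Idx F) : Matrix D.Idx D.Idx F) := by
      rw [← Units.val_mul]; congr 1; group
    rw [e, hgχ, hv]
    unfold Cfsg.Agent.Helper6.torMat
    rw [Cfsg.Agent.Helper11.ChevCharDiag.charDiag_eq_dMat, Cfsg.Agent.Helper6.dMat_mul_dMat]
    unfold Cfsg.Agent.Helper6.dMat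
    exact Matrix.diagonal_apply_ne _ hij
  show u * h ∈ D.diagonalSubgroup F
  rw [hu1, one_mul]
  exact hh

end Cfsg.Agent.S2158
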