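import Cfsg.Statements.S2160
-- import your own Cfsg.Agent.* helpers here
import Cfsg.Agent.Helper11.ChevGen

set_option autoImplicit false
open Cfsg

namespace Cfsg.Agent.S2160

/-- In a Chevalley group of type G₂, B₂, D₄, F₄, E₆, E₇ or E₈ over a finite field, every field automorphism commutes with every graph automorphism. -/
theorem result {F : Type*} [Field F] [Finite F] (D : Cfsg.Lie.ChevalleyDatum) (hD : D ∈ [Cfsg.Lie.chevG2, Cfsg.Lie.chevB2, Cfsg.Lie.chevD4, Cfsg.Lie.chevF4, Cfsg.Lie.chevE6, Cfsg.Lie.chevE7, Cfsg.Lie.chevE8]) (f g : ↥(D.group F) ≃* ↥(D.group F))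
    (hf : D.IsFieldAut f) (hg : D.IsGraphAut g) (y : ↥(D.group F)) : f (g y) = g (f y) := by
  classical
  have hD' : Cfsg.Agent.Helper6.IsTabulated D := hD
  have hB := Cfsg.Agent.Helper6.basicOK_of_tabulated hD'
  have hA : ∀ i < D.rank, Cfsg.Agent.Helper6.SimpleAll D i :=
    fun i hi => Cfsg.Agent.Helper6.simpleAll_of_tabulated hD' hi
  have hcl := Cfsg.Agent.Helper11.ChevGen.closure_fundSet (F := F) hD'
  obtain ⟨σ, hσ⟩ := hf
  obtain ⟨π, -, hgπ⟩ := hg
  have key : (f.toMonoidHom.comp g.toMonoidHom) = (g.toMonoidHom.comp f.toMonoidHom) := by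
    apply MonoidHom.eq_of_eqOn_dense hcl
    rintro y ⟨i, t, hy | hy⟩
    · have hp : D.simple (π i) < D.nroots := (hA (π i).val (π i).isLt).hS.1
      have hp0 : D.simple i < D.nroots := (hA i.val i.isLt).hS.1
      have h1 := (hgπ y i t).1 hy
      have h2 := hσ (g y) _ _ hp h1
      have h3 := hσ y _ _ hp0 hy
      have h4 := (hgπ (f y) i (σ t)).1 h3
      apply Subtype.ext
      apply Units.ext
      show (((f (g y) : ↥(D.group F)) : GL D.Idx F) : Matrix D.Idx D.Idx F) =
        (((g (f y) : ↥(D.group F)) : GL D.Idx F) : Matrix D.Idx D.Idx F)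
      rw [h2, h4, map_pow]
    · have hp : D.neg (D.simple (π i)) < D.nroots :=
        (hB.neg _ (hA (π i).val (π i).isLt).hS.1).1
      have hp0 : D.neg (D.simple i) < D.nroots := (hB.neg _ (hA i.val i.isLt).hS.1).1
      have h1 := (hgπ y i t).2 hy
      have h2 := hσ (g y) _ _ hp h1
      have h3 := hσ y _ _ hp0 hy
      have h4 := (hgπ (f y) i (σ t)).2 h3
      apply Subtype.ext
      apply Units.ext
      show (((f (g y) : ↥(D.group F)) : GL D.Idx F) : Matrix D.Idx D.Idx F) =
        (((g (f y) : ↥(D.group F)) : GL D.Idx F) : Matrix D.Idx D.Idx F)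
      rw [h2, h4, map_pow]
  exact DFunLike.congr_fun key y

end Cfsg.Agent.S2160
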