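import Cfsg.Statements.S2163
-- import your own Cfsg.Agent.* helpers here
import Mathlib
import Cfsg.Agent.Helper11.CornerMat

set_option autoImplicit false
open Cfsg

namespace Cfsg.Agent.S2163

/-- Over a finite field of characteristic two and for n ≥ 3: for every ℓ with 1 ≤ ℓ and 2ℓ ≤ n, the matrix j_ℓ that is the identity plus the entries 1 in positions (n − ℓ + i, i) for i < ℓ (an identity block of size ℓ in the lower left corner) lies in SL_n(F), has order 2, and j_ℓ − 1 has rank ℓ. Together with the conjugacy criterion by rank, these matrices represent the conjugacy classes of involutions of SL_n(F). -/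
theorem result {F : Type*} [Field F] [Fintype F] [CharP F 2] {n : ℕ} (hn : 3 ≤ n) (ℓ : ℕ) (h1 : 1 ≤ ℓ) (h2 : 2 * ℓ ≤ n) :
    ∃ a : Matrix.SpecialLinearGroup (Fin n) F, (a : Matrix (Fin n) (Fin n) F) = 1 + Matrix.of (fun i j : Fin n => if j.val < ℓ ∧ i.val = j.val + (n - ℓ) then (1 : F) else 0) ∧ orderOf a = 2 ∧ ((a : Matrix (Fin n) (Fin n) F) - 1).rank = ℓ := by
  classical
  have hE : Matrix.of (fun i j : Fin n => if j.val < ℓ ∧ i.val = j.val + (n - ℓ) then (1 : F) else 0)
      = Cfsg.Agent.Helper11.cornerMat F n ℓ := rfl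
  rw [hE]
  set E := Cfsg.Agent.Helper11.cornerMat F n ℓ with hEdef
  have hEE : E * E = 0 := Cfsg.Agent.Helper11.cornerMat_mul_self F h2
  have hE2 : E + E = 0 := by
    ext i j
    rw [Matrix.add_apply, Matrix.zero_apply]
    exact CharTwo.add_self_eq_zero _
  have hsq : (1 + E) * (1 + E) = 1 := by
    calc (1 + E) * (1 + E) = 1 + (E + E) + E * E := by
          simp only [mul_add, add_mul, mul_one, one_mul]; abel
      _ = 1 := by rw [hE2, hEE, add_zero, add_zero]
  have hdet : (1 + E).det = 1 := by
    have h3 : (1 + E).det * (1 + E).det = 1 := by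
      rw [← Matrix.det_mul, hsq, Matrix.det_one]
    have h4 : ((1 + E).det + 1) * ((1 + E).det + 1) = 0 := by
      have : ((1 + E).det + 1) * ((1 + E).det + 1)
          = (1 + E).det * (1 + E).det + ((1 + E).det + (1 + E).det) + 1 := by ring
      rw [this, h3, CharTwo.add_self_eq_zero, add_zero, CharTwo.add_self_eq_zero]
    have h5 : (1 + E).det + 1 = 0 := by
      rcases mul_eq_zero.1 h4 with h | h <;> exact h
    have h6 : (1 + E).det = -1 := eq_neg_of_add_eq_zero_left h5
    rw [h6, CharTwo.neg_eq]
  let a : Matrix.SpecialLinearGroup (Fin n) F := ⟨1 + E, hdet⟩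
  have ha : (a : Matrix (Fin n) (Fin n) F) = 1 + E := rfl
  refine ⟨a, ha, ?_, ?_⟩
  · apply orderOf_eq_prime
    · apply Subtype.ext
      rw [pow_two, Matrix.SpecialLinearGroup.coe_mul, ha]
      exact hsq
    · intro h
      have h7 : (1 + E : Matrix (Fin n) (Fin n) F) = 1 := by
        rw [← ha, h]; rfl
      have h8 : E = 0 := by
        have := congrArg (fun M => M - 1) h7
        simpa using this
      exact Cfsg.Agent.Helper11.cornerMat_ne_zero F h1 h2 h8
  · rw [ha, add_sub_cancel_left]
    exact Cfsg.Agent.Helper11.rank_cornerMat F h1 (by omega)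

end Cfsg.Agent.S2163
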