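import Cfsg.Statements.S2164
import Mathlib
import Cfsg.Agent.Helper2.SU.Invol

set_option autoImplicit false
open Cfsg

namespace Cfsg.Agent.S2164

/-- Conjugacy of involutions in the special unitary group SU_n(q), q even, n ≥ 3, realised over the field F with q² elements as the matrices of determinant 1 preserving the form Σ u_i v_i^q: for two elements of order 2 of SU_n(q) the following are equivalent — they are conjugate in SU_n(q); they are conjugate in SL_n(F); the matrices a − 1 and b − 1 have the same rank. -/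
theorem result {F : Type*} [Field F] [Fintype F] [CharP F 2] {n q : ℕ} (hF : Fintype.card F = q ^ 2) (hn : 3 ≤ n) (a b : ↥(Cfsg.SU n F q)) (ha : orderOf a = 2) (hb : orderOf b = 2) :
    (IsConj a b ↔ IsConj (a : Matrix.SpecialLinearGroup (Fin n) F) (b : Matrix.SpecialLinearGroup (Fin n) F)) ∧
    (IsConj a b ↔ (((a : Matrix.SpecialLinearGroup (Fin n) F) : Matrix (Fin n) (Fin n) F) - 1).rank = (((b : Matrix.SpecialLinearGroup (Fin n) F) : Matrix (Fin n) (Fin n) F) - 1).rank) := by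
  classical
  obtain ⟨σ, hσ, hσ2⟩ := Cfsg.Agent.Helper28.exists_frob hF
  have hσid := Cfsg.Agent.S0837.frob_ne_id hF σ hσ
  let D : Cfsg.Agent.Helper2.SUGen.Frob F q := ⟨σ, hσ, hσ2, hσid⟩
  have h2 : (2 : F) = 0 := CharTwo.two_eq_zero
  have hsq : ∀ c : ↥(Cfsg.SU n F q), orderOf c = 2 →
      Cfsg.Agent.S2644.toM F n q c * Cfsg.Agent.S2644.toM F n q c = 1 := by
    intro c hc
    rw [← map_mul, ← pow_two, ← hc, pow_orderOf_eq_one, map_one]
  have key : (((a : Matrix.SpecialLinearGroup (Fin n) F) : Matrix (Fin n) (Fin n) F) - 1).rank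
      = (((b : Matrix.SpecialLinearGroup (Fin n) F) : Matrix (Fin n) (Fin n) F) - 1).rank →
      IsConj a b := by
    intro hr
    have hX : Cfsg.Agent.Helper2.SUGen.perpL q (⊥ : Submodule F (Fin n → F)) = ⊤ :=
      Cfsg.Agent.Helper2.SUGen.perpL_bot D
    obtain ⟨M, hM, hMeq⟩ := Cfsg.Agent.Helper2.SUGen.invol_conj D h2 _ ⊥
      (by rw [hX]; exact Cfsg.Agent.Helper2.SUGen.nonDeg_top D) rfl
      (Cfsg.Agent.S2644.toM F n q a) (Cfsg.Agent.S2644.toM F n q b)
      (Cfsg.Agent.S2644.toM_pres a) (Cfsg.Agent.S2644.toM_pres b) (hsq a ha) (hsq b hb)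
      (fun z hz => by rw [(Submodule.mem_bot F).mp hz, Matrix.mulVec_zero])
      (fun z hz => by rw [(Submodule.mem_bot F).mp hz, Matrix.mulVec_zero]) hr
    have hdet := Cfsg.Agent.Helper2.SUGen.Gen_det D hM
    have hP := Cfsg.Agent.Helper2.SUGen.Gen_pres D hM
    rw [isConj_iff]
    refine ⟨Cfsg.Agent.S2644.mkSU M hdet hP, ?_⟩
    rw [mul_inv_eq_iff_eq_mul]
    apply Cfsg.Agent.S2644.toM_injective
    rw [map_mul, map_mul, Cfsg.Agent.S2644.toM_mkSU, hMeq]
  have hrank : ∀ x y : Matrix.SpecialLinearGroup (Fin n) F, IsConj x y →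
      ((x : Matrix (Fin n) (Fin n) F) - 1).rank = ((y : Matrix (Fin n) (Fin n) F) - 1).rank := by
    intro x y hxy
    obtain ⟨c, hc⟩ := isConj_iff.mp hxy
    have h1 : (c : Matrix (Fin n) (Fin n) F) * ((c⁻¹ : Matrix.SpecialLinearGroup (Fin n) F) :
        Matrix (Fin n) (Fin n) F) = 1 := by
      rw [← Matrix.SpecialLinearGroup.coe_mul, mul_inv_cancel, Matrix.SpecialLinearGroup.coe_one]
    have h3 : (y : Matrix (Fin n) (Fin n) F) = (c : Matrix (Fin n) (Fin n) F) * x *
        ((c⁻¹ : Matrix.SpecialLinearGroup (Fin n) F) : Matrix (Fin n) (Fin n) F) := by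
      rw [← hc, Matrix.SpecialLinearGroup.coe_mul, Matrix.SpecialLinearGroup.coe_mul]
    rw [h3, Cfsg.Agent.Helper2.SUGen.rank_conj _ _ _ h1]
  have hmap : IsConj a b → IsConj (a : Matrix.SpecialLinearGroup (Fin n) F)
      (b : Matrix.SpecialLinearGroup (Fin n) F) := fun hab =>
    (Cfsg.SU n F q).subtype.map_isConj hab
  refine ⟨⟨hmap, fun hab => key (hrank _ _ hab)⟩, ⟨fun hab => hrank _ _ (hmap hab), key⟩⟩

end Cfsg.Agent.S2164
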