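import Cfsg.Statements.S2165
-- import your own Cfsg.Agent.* helpers here
import Mathlib
import Cfsg.Agent.Helper11.CornerMat2

set_option autoImplicit false
open Cfsg

namespace Cfsg.Agent.S2165

open Cfsg.Agent.Helper11
open scoped Matrix

/-- The involution of `Fin n` exchanging `i` and `i + (n - ℓ)` for `i < ℓ`. -/
def tau (n ℓ : ℕ) (h2 : 2 * ℓ ≤ n) (i : Fin n) : Fin n :=
  if h : i.val < ℓ then ⟨i.val + (n - ℓ), by omega⟩
  else if h' : n - ℓ ≤ i.val then ⟨i.val - (n - ℓ), by have := i.2; omega⟩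
  else i

theorem tau_val (n ℓ : ℕ) (h2 : 2 * ℓ ≤ n) (i : Fin n) :
    (tau n ℓ h2 i).val = if i.val < ℓ then i.val + (n - ℓ) else if n - ℓ ≤ i.val then i.val - (n - ℓ) else i.val := by
  unfold tau
  split_ifs <;> rfl

theorem tau_involutive (n ℓ : ℕ) (h2 : 2 * ℓ ≤ n) : Function.Involutive (tau n ℓ h2) := by
  intro i
  apply Fin.ext
  rw [tau_val, tau_val]
  have := i.2
  split_ifs <;> omega

theorem swapMat_eq_tau (F : Type*) [Field F] (n ℓ : ℕ) (h2 : 2 * ℓ ≤ n) (i j : Fin n) :
    swapMat F n ℓ i j = if j = tau n ℓ h2 i then 1 else 0 := by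
  rw [swapMat_apply]
  congr 1
  apply propext
  have key : (j = tau n ℓ h2 i) ↔ j.val = (tau n ℓ h2 i).val := Fin.ext_iff
  rw [key, tau_val]
  have hi := i.2
  have hj := j.2
  constructor
  · rintro (h | h | ⟨h1, h3, h4⟩)
    · split_ifs <;> omega
    · split_ifs <;> omega
    · have : i.val = j.val := congrArg Fin.val h1
      split_ifs <;> omega
  · intro h
    split_ifs at h with ha hb
    · right; left; exact ⟨ha, h⟩
    · left; constructor <;> omega
    · right; right
      refine ⟨Fin.ext h.symm, by omega, by omega⟩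

theorem swapMat_mulVec (F : Type*) [Field F] (n ℓ : ℕ) (h2 : 2 * ℓ ≤ n) (u : Fin n → F) :
    (swapMat F n ℓ).mulVec u = fun i => u (tau n ℓ h2 i) := by
  ext i
  simp only [Matrix.mulVec, dotProduct, swapMat_eq_tau F n ℓ h2]
  simp

/-- In SU_n(q), q even, n ≥ 3 (matrices of determinant 1 over the field with q² elements preserving Σ u_i v_i^q): for every ℓ with 1 ≤ ℓ and 2ℓ ≤ n, the permutation matrix of the involution of {0, …, n−1} exchanging i and n − ℓ + i for each i < ℓ lies in SU_n(q), has order 2, and differs from the identity by a matrix of rank ℓ. So every rank between 1 and n/2 occurs for involutions of SU_n(q). -/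
theorem result {F : Type*} [Field F] [Fintype F] [CharP F 2] {n q : ℕ} (hF : Fintype.card F = q ^ 2) (hn : 3 ≤ n) (ℓ : ℕ) (h1 : 1 ≤ ℓ) (h2 : 2 * ℓ ≤ n) :
    ∃ a : ↥(Cfsg.SU n F q), (((a : Matrix.SpecialLinearGroup (Fin n) F) : Matrix (Fin n) (Fin n) F) = Matrix.of (fun i j : Fin n => if (j.val < ℓ ∧ i.val = j.val + (n - ℓ)) ∨ (i.val < ℓ ∧ j.val = i.val + (n - ℓ)) ∨ (i = j ∧ ℓ ≤ i.val ∧ i.val < n - ℓ) then (1 : F) else 0)) ∧ orderOf a = 2 ∧ ((((a : Matrix.SpecialLinearGroup (Fin n) F) : Matrix (Fin n) (Fin n) F)) - 1).rank = ℓ := by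
  classical
  have hℓ : ℓ ≤ n := by omega
  change ∃ a : ↥(Cfsg.SU n F q), (((a : Matrix.SpecialLinearGroup (Fin n) F) : Matrix (Fin n) (Fin n) F) = swapMat F n ℓ) ∧ orderOf a = 2 ∧ ((((a : Matrix.SpecialLinearGroup (Fin n) F) : Matrix (Fin n) (Fin n) F)) - 1).rank = ℓ
  set E := cornerMat F n ℓ with hE
  set U : Matrix (Fin n) (Fin n) F := 1 + Eᵀ with hU
  have hEE : E * E = 0 := cornerMat_mul_self F h2
  have hEtEt : Eᵀ * Eᵀ = 0 := by rw [← Matrix.transpose_mul, hEE, Matrix.transpose_zero]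
  have hdouble : ∀ X : Matrix (Fin n) (Fin n) F, X + X = 0 := by
    intro X
    ext i j
    rw [Matrix.add_apply, Matrix.zero_apply]
    exact CharTwo.add_self_eq_zero _
  have hUU : U * U = 1 := by
    calc U * U = 1 + (Eᵀ + Eᵀ) + Eᵀ * Eᵀ := by rw [hU]; noncomm_ring
      _ = 1 := by rw [hdouble, hEtEt, add_zero, add_zero]
  have hsub : swapMat F n ℓ - 1 = U * E * U := swapMat_sub_one F h1 h2
  have hA1 : swapMat F n ℓ = 1 + U * E * U := by rw [← hsub]; abel
  have hXX : (U * E * U) * (U * E * U) = 0 := by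
    calc (U * E * U) * (U * E * U) = U * E * (U * U) * E * U := by noncomm_ring
      _ = 0 := by rw [hUU, mul_one, mul_assoc U E E, hEE, mul_zero, zero_mul]
  have hAA : swapMat F n ℓ * swapMat F n ℓ = 1 := by
    rw [hA1]
    calc (1 + U * E * U) * (1 + U * E * U)
        = 1 + (U * E * U + U * E * U) + (U * E * U) * (U * E * U) := by noncomm_ring
      _ = 1 := by rw [hdouble, hXX, add_zero, add_zero]
  have hdet : (swapMat F n ℓ).det = 1 := by
    have h3 : (swapMat F n ℓ).det * (swapMat F n ℓ).det = 1 := by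
      rw [← Matrix.det_mul, hAA, Matrix.det_one]
    have h4 : ((swapMat F n ℓ).det + 1) * ((swapMat F n ℓ).det + 1) = 0 := by
      have : ((swapMat F n ℓ).det + 1) * ((swapMat F n ℓ).det + 1)
          = (swapMat F n ℓ).det * (swapMat F n ℓ).det + ((swapMat F n ℓ).det + (swapMat F n ℓ).det) + 1 := by ring
      rw [this, h3, CharTwo.add_self_eq_zero, add_zero, CharTwo.add_self_eq_zero]
    have h5 : (swapMat F n ℓ).det + 1 = 0 := by
      rcases mul_eq_zero.1 h4 with h | h <;> exact h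
    have h6 : (swapMat F n ℓ).det = -1 := eq_neg_of_add_eq_zero_left h5
    rw [h6, CharTwo.neg_eq]
  let s : Matrix.SpecialLinearGroup (Fin n) F := ⟨swapMat F n ℓ, hdet⟩
  have hs : (s : Matrix (Fin n) (Fin n) F) = swapMat F n ℓ := rfl
  have hsSU : s ∈ Cfsg.SU n F q := by
    intro u v
    change Cfsg.hermForm n F q ((s : Matrix (Fin n) (Fin n) F).mulVec u) ((s : Matrix (Fin n) (Fin n) F).mulVec v) = Cfsg.hermForm n F q u v
    rw [hs, swapMat_mulVec F n ℓ h2, swapMat_mulVec F n ℓ h2]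
    unfold Cfsg.hermForm
    exact Equiv.sum_comp (Function.Involutive.toPerm _ (tau_involutive n ℓ h2)) (fun i => u i * v i ^ q)
  refine ⟨⟨s, hsSU⟩, hs, ?_, ?_⟩
  · apply orderOf_eq_prime
    · apply Subtype.ext
      apply Subtype.ext
      change ((s ^ 2 : Matrix.SpecialLinearGroup (Fin n) F) : Matrix (Fin n) (Fin n) F) = 1
      rw [pow_two, Matrix.SpecialLinearGroup.coe_mul, hs]
      exact hAA
    · intro h
      have h7 : (s : Matrix (Fin n) (Fin n) F) = 1 := by
        have := congrArg (fun a : ↥(Cfsg.SU n F q) => ((a : Matrix.SpecialLinearGroup (Fin n) F) : Matrix (Fin n) (Fin n) F)) h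
        exact this
      rw [hs] at h7
      have h0 : 0 < n := by omega
      have h8 := congrFun (congrFun h7 ⟨0, h0⟩) ⟨0, h0⟩
      rw [swapMat_apply, Matrix.one_apply_eq, if_neg] at h8
      · exact zero_ne_one h8
      · simp only [true_and]
        omega
  · change ((s : Matrix (Fin n) (Fin n) F) - 1).rank = ℓ
    rw [hs, hsub]
    have hUdet : IsUnit U.det := Matrix.isUnit_det_of_left_inverse hUU
    rw [Matrix.rank_mul_eq_left_of_isUnit_det U (U * E) hUdet,
      Matrix.rank_mul_eq_right_of_isUnit_det U E hUdet]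
    exact rank_cornerMat F h1 hℓ

end Cfsg.Agent.S2165
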