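import Cfsg.Statements.S2166
import Mathlib
import Cfsg.Agent.Helper2.SpInvol
import Cfsg.Agent.S2167

set_option autoImplicit false
open Cfsg

namespace Cfsg.Agent.S2166

/-- Conjugacy of involutions in the symplectic group Sp_{2m}(F), F a finite field of characteristic two, m ≥ 2 (Sp taken as the matrices A with A J Aᵀ = J, acting on column vectors, with the alternating form f(u, v) = u ⬝ (J v)). For an involution t write V(t) for the set of vectors v with f(v, t v) = 0 (a subspace). Two involutions a, b are conjugate in Sp_{2m}(F) exactly when a − 1 and b − 1 have the same rank and, in case that rank is even, V(a) and V(b) have the same number of elements. -/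
theorem result {F : Type*} [Field F] [Fintype F] [CharP F 2] {m : ℕ} (hm : 2 ≤ m) (a b : ↥(Matrix.symplecticGroup (Fin m) F)) (ha : orderOf a = 2) (hb : orderOf b = 2) :
    IsConj a b ↔ ((((a : ↥(Matrix.symplecticGroup (Fin m) F)) : Matrix (Fin m ⊕ Fin m) (Fin m ⊕ Fin m) F) - 1).rank = (((b : ↥(Matrix.symplecticGroup (Fin m) F)) : Matrix (Fin m ⊕ Fin m) (Fin m ⊕ Fin m) F) - 1).rank ∧
      (Even (((a : ↥(Matrix.symplecticGroup (Fin m) F)) : Matrix (Fin m ⊕ Fin m) (Fin m ⊕ Fin m) F) - 1).rank → Nat.card {v : Fin m ⊕ Fin m → F // Cfsg.sympForm m F v (Matrix.mulVec ((a : ↥(Matrix.symplecticGroup (Fin m) F)) : Matrix (Fin m ⊕ Fin m) (Fin m ⊕ Fin m) F) v) = 0} = Nat.card {v : Fin m ⊕ Fin m → F // Cfsg.sympForm m F v (Matrix.mulVec ((b : ↥(Matrix.symplecticGroup (Fin m) F)) : Matrix (Fin m ⊕ Fin m) (Fin m ⊕ Fin m) F) v) = 0})) := by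
  classical
  have h2 : (2 : F) = 0 := CharTwo.two_eq_zero
  have hsq : ∀ c : ↥(Matrix.symplecticGroup (Fin m) F), orderOf c = 2 → c * c = 1 := by
    intro c hc
    rw [← pow_two, ← hc, pow_orderOf_eq_one]
  constructor
  · intro hab
    obtain ⟨g, hg⟩ := isConj_iff.mp hab
    have hG : Cfsg.Agent.Helper2.Sp.PresS (g : Matrix (Fin m ⊕ Fin m) (Fin m ⊕ Fin m) F) :=
      Cfsg.Agent.Helper2.Sp.mem_symplectic_iff_om.mp g.2
    have h1 : (g : Matrix (Fin m ⊕ Fin m) (Fin m ⊕ Fin m) F) *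
        ((g⁻¹ : ↥(Matrix.symplecticGroup (Fin m) F)) : Matrix (Fin m ⊕ Fin m) (Fin m ⊕ Fin m) F) = 1 := by
      exact congrArg Subtype.val (mul_inv_cancel g)
    have h3 : ((g⁻¹ : ↥(Matrix.symplecticGroup (Fin m) F)) : Matrix (Fin m ⊕ Fin m) (Fin m ⊕ Fin m) F) *
        (g : Matrix (Fin m ⊕ Fin m) (Fin m ⊕ Fin m) F) = 1 := by
      exact congrArg Subtype.val (inv_mul_cancel g)
    have hB : (b : Matrix (Fin m ⊕ Fin m) (Fin m ⊕ Fin m) F) = (g : Matrix (Fin m ⊕ Fin m) (Fin m ⊕ Fin m) F) * a *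
        ((g⁻¹ : ↥(Matrix.symplecticGroup (Fin m) F)) : Matrix (Fin m ⊕ Fin m) (Fin m ⊕ Fin m) F) := by
      rw [← hg]; rfl
    refine ⟨?_, fun _ => ?_⟩
    · rw [hB, Cfsg.Agent.Helper2.Sp.rank_conj' _ _ _ h1]
    · exact Cfsg.Agent.Helper2.Sp.card_V_conj hG h1 h3 hB
  · rintro ⟨hr, hc⟩
    apply Cfsg.Agent.Helper2.Sp.conj_of_rank_type h2 (hsq a ha) (hsq b hb) hr
    have hevA := (Cfsg.Agent.S2167.result hm a ha).2
    have hevB := (Cfsg.Agent.S2167.result hm b hb).2
    constructor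
    · intro hA
      have hev := hevA hA
      have h4 := hc hev
      rw [Cfsg.Agent.Helper2.Sp.alt_iff_card]
      rw [← (Cfsg.Agent.Helper2.Sp.alt_iff_card _).mp hA]
      exact h4.symm
    · intro hB
      have hev := hevB hB
      rw [← hr] at hev
      have h4 := hc hev
      rw [Cfsg.Agent.Helper2.Sp.alt_iff_card]
      rw [← (Cfsg.Agent.Helper2.Sp.alt_iff_card _).mp hB]
      exact h4

end Cfsg.Agent.S2166
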