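import Cfsg.Statements.S2177
import Cfsg.Agent.Helper6.G2Two.Invol4

set_option autoImplicit false
open Cfsg

namespace Cfsg.Agent.S2177

/-- Conjugacy classes of involutions in the Chevalley group of type G₂ over a finite field F of characteristic two with at least four elements (the matrix group generated by the root elements x_r(t)). In this problem's root numbering for type G₂ (the Chevalley data module; p₁ = a short, p₂ = b long; roots indexed by coefficient vectors in increasing order) let 11 be the highest root 3a + 2b (long) and 9 the short root 2a + b; consider x_{3a+2b}(1) and x_{2a+b}(1). Then: each invertible matrix equal to one of these two products lies in the group and has order 2; every element of order 2 of the group is conjugate in the group to one of them; and no two of them are conjugate in the group (so, the two matrices being distinct, the group has exactly two conjugacy classes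 of involutions). -/
theorem result {F : Type*} [Field F] [Fintype F] [CharP F 2] (hF : 4 ≤ Fintype.card F) :
    (∀ y : GL Cfsg.Lie.chevG2.Idx F, ((y : GL Cfsg.Lie.chevG2.Idx F) : Matrix Cfsg.Lie.chevG2.Idx Cfsg.Lie.chevG2.Idx F) ∈ [Cfsg.Lie.chevG2.x F 11 1, Cfsg.Lie.chevG2.x F 9 1] → y ∈ Cfsg.Lie.chevG2.group F ∧ orderOf y = 2) ∧
    (∀ g ∈ Cfsg.Lie.chevG2.group F, orderOf g = 2 → ∃ y ∈ Cfsg.Lie.chevG2.group F, ((y : GL Cfsg.Lie.chevG2.Idx F) : Matrix Cfsg.Lie.chevG2.Idx Cfsg.Lie.chevG2.Idx F) ∈ [Cfsg.Lie.chevG2.x F 11 1, Cfsg.Lie.chevG2.x F 9 1] ∧ ∃ h ∈ Cfsg.Lie.chevG2.group F, h * g * h⁻¹ = y) ∧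
    (∀ y₁ ∈ Cfsg.Lie.chevG2.group F, ∀ y₂ ∈ Cfsg.Lie.chevG2.group F, ((y₁ : GL Cfsg.Lie.chevG2.Idx F) : Matrix Cfsg.Lie.chevG2.Idx Cfsg.Lie.chevG2.Idx F) ∈ [Cfsg.Lie.chevG2.x F 11 1, Cfsg.Lie.chevG2.x F 9 1] → ((y₂ : GL Cfsg.Lie.chevG2.Idx F) : Matrix Cfsg.Lie.chevG2.Idx Cfsg.Lie.chevG2.Idx F) ∈ [Cfsg.Lie.chevG2.x F 11 1, Cfsg.Lie.chevG2.x F 9 1] →
      (∃ h ∈ Cfsg.Lie.chevG2.group F, h * y₁ * h⁻¹ = y₂) → ((y₁ : GL Cfsg.Lie.chevG2.Idx F) : Matrix Cfsg.Lie.chevG2.Idx Cfsg.Lie.chevG2.Idx F) = ((y₂ : GL Cfsg.Lie.chevG2.Idx F) : Matrix Cfsg.Lie.chevG2.Idx Cfsg.Lie.chevG2.Idx F)) := by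
  have hX : ∀ (r : ℕ) (y : GL Cfsg.Lie.chevG2.Idx F), (y : Matrix Cfsg.Lie.chevG2.Idx Cfsg.Lie.chevG2.Idx F) = Cfsg.Lie.chevG2.x F r 1 → y = Cfsg.Agent.Helper6.Ree.X r 1 :=
    fun r y h => Units.ext (by rw [h, Cfsg.Agent.Helper6.Ree.X_val])
  have hcase : ∀ y : GL Cfsg.Lie.chevG2.Idx F, ((y : GL Cfsg.Lie.chevG2.Idx F) : Matrix Cfsg.Lie.chevG2.Idx Cfsg.Lie.chevG2.Idx F) ∈ [Cfsg.Lie.chevG2.x F 11 1, Cfsg.Lie.chevG2.x F 9 1] → y = Cfsg.Agent.Helper6.Ree.X 11 1 ∨ y = Cfsg.Agent.Helper6.Ree.X 9 1 := by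
    intro y hy
    simp only [List.mem_cons, List.mem_nil_iff, or_false] at hy
    rcases hy with h | h
    · exact Or.inl (hX 11 y h)
    · exact Or.inr (hX 9 y h)
  have hord : ∀ r < 12, orderOf (Cfsg.Agent.Helper6.Ree.X r (1 : F)) = 2 := by
    intro r hr
    apply orderOf_eq_prime
    · rw [pow_two, Cfsg.Agent.Helper6.G2Two.X_sq]
    · exact Cfsg.Agent.Helper6.Ree.X_ne_one hr one_ne_zero
  refine ⟨?_, ?_, ?_⟩
  · intro y hy
    rcases hcase y hy with rfl | rfl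
    · exact ⟨Cfsg.Agent.Helper6.Ree.X_mem_group (by norm_num) _, hord 11 (by norm_num)⟩
    · exact ⟨Cfsg.Agent.Helper6.Ree.X_mem_group (by norm_num) _, hord 9 (by norm_num)⟩
  · intro g hg ho
    obtain ⟨x, hx, hxU⟩ := Cfsg.Agent.Helper6.G2Two.exists_conj_mem_U hg ho
    have hg2 : g * g = 1 := by rw [← pow_two, ← ho, pow_orderOf_eq_one]
    have hg1 : g ≠ 1 := by
      intro h
      rw [h, orderOf_one] at ho
      norm_num at ho
    have hu2 : (x * g * x⁻¹) * (x * g * x⁻¹) = 1 := Cfsg.Agent.Helper6.G2Two.conj_sq hg2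
    have hu1 : x * g * x⁻¹ ≠ 1 := by
      intro h
      apply hg1
      have : g = x⁻¹ * (x * g * x⁻¹) * x := by group
      rw [this, h]; group
    have hcj : Cfsg.Agent.Helper6.G2Two.Cj g (x * g * x⁻¹) := Cfsg.Agent.Helper6.G2Two.Cj.conj hx g
    rcases Cfsg.Agent.Helper6.G2Two.invol_U hxU hu2 hu1 with h | h
    · obtain ⟨k, hk, e⟩ := Cfsg.Agent.Helper6.G2Two.Cj.trans hcj h
      exact ⟨Cfsg.Agent.Helper6.Ree.X 11 1, Cfsg.Agent.Helper6.Ree.X_mem_group (by norm_num) _, by simp [Cfsg.Agent.Helper6.Ree.X_val], k, hk, e⟩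
    · obtain ⟨k, hk, e⟩ := Cfsg.Agent.Helper6.G2Two.Cj.trans hcj h
      exact ⟨Cfsg.Agent.Helper6.Ree.X 9 1, Cfsg.Agent.Helper6.Ree.X_mem_group (by norm_num) _, by simp [Cfsg.Agent.Helper6.Ree.X_val], k, hk, e⟩
  · intro y₁ _ y₂ _ h1 h2 hc
    rcases hcase y₁ h1 with rfl | rfl <;> rcases hcase y₂ h2 with rfl | rfl
    · rfl
    · exact absurd hc Cfsg.Agent.Helper6.G2Two.not_Cj_11_9
    · exact absurd (Cfsg.Agent.Helper6.G2Two.Cj.symm hc) Cfsg.Agent.Helper6.G2Two.not_Cj_11_9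
    · rfl

end Cfsg.Agent.S2177
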