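import Cfsg.Statements.S2178
import Mathlib
import Cfsg.Agent.Helper2.CentRoot

set_option autoImplicit false
open Cfsg

namespace Cfsg.Agent.S2178

open Cfsg.Lie Cfsg.Agent.Helper6 Cfsg.Agent.Helper2.HRoot

set_option maxRecDepth 100000 in
theorem chkLong : cdChk chevF4 47 3 [14, 20, 22] = true := by decide +kernel

set_option maxRecDepth 100000 in
theorem chkShort : cdChk chevF4 44 0 [20, 22, 23] = true := by decide +kernel

theorem closure_negs_eq3 (D : ChevalleyDatum) (F : Type*) [Field F] (a b c : ℕ) :
    Subgroup.closure {g : GL D.Idx F | ∃ s ∈ [a, b, c], ∃ t : F,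
      (g : Matrix D.Idx D.Idx F) = D.x F s t} =
      D.rootSubgroup F a ⊔ D.rootSubgroup F b ⊔ D.rootSubgroup F c := by
  apply le_antisymm
  · rw [Subgroup.closure_le]
    rintro g ⟨s, hs, t, hg⟩
    simp only [List.mem_cons, List.not_mem_nil, or_false] at hs
    rcases hs with rfl | rfl | rfl
    · exact Subgroup.mem_sup_left (Subgroup.mem_sup_left (Subgroup.subset_closure ⟨t, hg⟩))
    · exact Subgroup.mem_sup_left (Subgroup.mem_sup_right (Subgroup.subset_closure ⟨t, hg⟩))
    · exact Subgroup.mem_sup_right (Subgroup.subset_closure ⟨t, hg⟩)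
  · refine sup_le (sup_le ?_ ?_) ?_
    all_goals
      apply Subgroup.closure_mono
      rintro g ⟨t, hg⟩
      exact ⟨_, by simp, t, hg⟩


/-- Centralizers of the long and the short root involutions in the Chevalley group G of type F₄ over a finite field F of characteristic two (this problem's root numbering for type F₄, from the Chevalley data module: fundamental roots p₁, p₂ short, p₃, p₄ long, with indices 33, 27, 25, 24, their negatives 14, 20, 22, 23; highest root 47, highest short root 44; U the subgroup generated by the positive root subgroups). For an element t of G with matrix x_47(1): the centralizer of t in G is the subgroup generated by U and the root subgroups X_{−p₁}, X_{−p₂}, X_{−p₃} (the unipotent radical of the maximal parabolic subgroup whose Levi factor has fundamental roots p₁, p₂, p₃, together with that Levi factor's root subgroups; the Levi factor is of type C₃). For an element u of G with matrix x_44(1): the centralizer of u in G is generated by U and X_{−p₂}, X_{−p₃}, X_{−p₄} (the same construction for the Levi factor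 with fundamental roots p₂, p₃, p₄, of type B₃). -/
theorem result {F : Type*} [Field F] [Fintype F] [CharP F 2] (t u : GL Cfsg.Lie.chevF4.Idx F) (ht : (t : Matrix Cfsg.Lie.chevF4.Idx Cfsg.Lie.chevF4.Idx F) = Cfsg.Lie.chevF4.x F 47 1) (hu : (u : Matrix Cfsg.Lie.chevF4.Idx Cfsg.Lie.chevF4.Idx F) = Cfsg.Lie.chevF4.x F 44 1) :
    Cfsg.Lie.chevF4.group F ⊓ Subgroup.centralizer {t} = Cfsg.Lie.chevF4.posUnipotent F ⊔ Cfsg.Lie.chevF4.rootSubgroup F 14 ⊔ Cfsg.Lie.chevF4.rootSubgroup F 20 ⊔ Cfsg.Lie.chevF4.rootSubgroup F 22 ∧
    Cfsg.Lie.chevF4.group F ⊓ Subgroup.centralizer {u} = Cfsg.Lie.chevF4.posUnipotent F ⊔ Cfsg.Lie.chevF4.rootSubgroup F 20 ⊔ Cfsg.Lie.chevF4.rootSubgroup F 22 ⊔ Cfsg.Lie.chevF4.rootSubgroup F 23 := by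
  have hD : IsTabulated chevF4 := by simp [IsTabulated]
  constructor
  · rw [centralizer_eq_of_chk hD chkLong t ht, closure_negs_eq3]
    simp only [sup_assoc]
  · rw [centralizer_eq_of_chk hD chkShort u hu, closure_negs_eq3]
    simp only [sup_assoc]

end Cfsg.Agent.S2178
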