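import Cfsg.Statements.S2222
import Cfsg.Agent.Helper29.AltPronDefs
import Cfsg.Agent.Helper29.AltPronBasics
import Cfsg.Agent.Helper29.AltPronAR
import Cfsg.Agent.Helper29.AltPronML
import Cfsg.Agent.Helper29.AltPronINH
import Cfsg.Agent.Helper18.AltPronL1A
import Cfsg.Agent.Helper14.AltPronOSP
import Cfsg.Agent.Helper20.AltPronUB
import Cfsg.Agent.Helper20.AltPronUBLK
import Cfsg.Agent.Helper14.AltPronUQ
import Cfsg.Agent.Helper26.AltPronOSUM
import Cfsg.Agent.Helper18.AltPronSYLA
import Cfsg.Agent.Helper25.AltPronPRON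
import Cfsg.Agent.Helper25.AltPronNORM
import Cfsg.Agent.Helper20.AltPronPRON5

set_option autoImplicit false
open Cfsg

namespace Cfsg.Agent.S2222

open MulAction Equiv Cfsg.Agent.Helper29.AltPron
open scoped Pointwise Nat


section assembly
variable {α : Type*} [Fintype α] [DecidableEq α]

theorem normalizer_eq (hn : 6 ≤ Nat.card α) (S : Sylow 2 (alternatingGroup α)) :
    ∀ g : alternatingGroup α,
      g ∈ Subgroup.normalizer ((S : Subgroup (alternatingGroup α)) : Set (alternatingGroup α)) →
      g ∈ (S : Subgroup (alternatingGroup α)) := by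
  have h1 : Split1 α := Cfsg.Agent.Helper14.AltPron.split1
  have h2 : Split2 α := Cfsg.Agent.Helper14.AltPron.split2
  have hB : BoundA α := Cfsg.Agent.Helper18.AltPron.boundA h1
  have hI : Inherit α := inherit h1 h2 hB
  have hU : UniqueIdx2 α := Cfsg.Agent.Helper14.AltPron.uniqueIdx2 hI
  have h2g : IsPGroup 2 ((S : Subgroup (alternatingGroup α)).map (alternatingGroup α).subtype) :=
    S.isPGroup'.map _
  obtain ⟨hT, hD, hst⟩ := Cfsg.Agent.Helper18.AltPron.sylow_alt_facts hB hn S _ rfl
    (Cfsg.Agent.Helper26.AltPron.card_le_val_add_orbCount _ h2g)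
    (fun x y hxy hc => Cfsg.Agent.Helper26.AltPron.card_lt_val_add_orbCount _ h2g x y hxy hc)
    (lt_two_pow_val _ hn)
  have hch := Cfsg.Agent.Helper20.AltPron.intervalChain hI hU hT hst
  have hUB := Cfsg.Agent.Helper20.AltPron.uniqueBlocks_of_chain hch
  exact Cfsg.Agent.Helper25.AltPron.normalizer_sylow_alt S (fun y _ hy hodd => eq_one_of_normalizes hT.1 hD hUB y hy hodd)

end assembly

/-- Every subgroup of odd index in A_n (n ≥ 5) is pronormal. -/
theorem result (n : ℕ) (hn : 5 ≤ n)
    (H : Subgroup (alternatingGroup (Fin n))) (hH : Odd H.index) : Cfsg.IsPronormal H := by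
  rcases Nat.lt_or_ge n 6 with h | h
  · have : n = 5 := by omega
    subst this
    exact Cfsg.Agent.Helper20.AltPron.pronormal_alt_five H hH
  · exact Cfsg.Agent.Helper25.AltPron.pronormal_of_normalizer H hH (fun S => normalizer_eq (by simpa using h) S)

end Cfsg.Agent.S2222
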