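import Cfsg.Statements.S2231
-- import your own Cfsg.Agent.* helpers here
import Mathlib
import Cfsg.Agent.Helper11.AbelianPSubgroups

set_option autoImplicit false
open Cfsg

namespace Cfsg.Agent.S2231

open Cfsg.Agent.Helper11

/-- The upper unitriangular subgroup of `SL₃(R)`. -/
def unitri (R : Type*) [CommRing R] : Subgroup (Matrix.SpecialLinearGroup (Fin 3) R) where
  carrier := {M | (M : Matrix (Fin 3) (Fin 3) R) 1 0 = 0 ∧ (M : Matrix (Fin 3) (Fin 3) R) 2 0 = 0 ∧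
    (M : Matrix (Fin 3) (Fin 3) R) 2 1 = 0 ∧ (M : Matrix (Fin 3) (Fin 3) R) 0 0 = 1 ∧
    (M : Matrix (Fin 3) (Fin 3) R) 1 1 = 1 ∧ (M : Matrix (Fin 3) (Fin 3) R) 2 2 = 1}
  mul_mem' := by
    rintro A B ⟨a1, a2, a3, a4, a5, a6⟩ ⟨b1, b2, b3, b4, b5, b6⟩
    simp only [Set.mem_ofPred_eq, Matrix.SpecialLinearGroup.coe_mul, Matrix.mul_apply,
      Fin.sum_univ_three]
    simp [a1, a2, a3, a4, a5, a6, b1, b2, b3, b4, b5, b6]
  one_mem' := by
    simp
  inv_mem' := by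
    rintro A ⟨a1, a2, a3, a4, a5, a6⟩
    simp only [Set.mem_ofPred_eq, Matrix.SpecialLinearGroup.coe_inv, Matrix.adjugate_fin_three]
    simp [a1, a2, a3, a4, a5, a6]

theorem mem_unitri {R : Type*} [CommRing R] (M : Matrix.SpecialLinearGroup (Fin 3) R) :
    M ∈ unitri R ↔ (M : Matrix (Fin 3) (Fin 3) R) 1 0 = 0 ∧ (M : Matrix (Fin 3) (Fin 3) R) 2 0 = 0 ∧
    (M : Matrix (Fin 3) (Fin 3) R) 2 1 = 0 ∧ (M : Matrix (Fin 3) (Fin 3) R) 0 0 = 1 ∧
    (M : Matrix (Fin 3) (Fin 3) R) 1 1 = 1 ∧ (M : Matrix (Fin 3) (Fin 3) R) 2 2 = 1 := Iff.rfl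

/-- The cube of a strictly upper triangular `3 × 3` matrix vanishes. -/
theorem cube_eq_zero {R : Type*} [CommRing R] (N : Matrix (Fin 3) (Fin 3) R)
    (h00 : N 0 0 = 0) (h10 : N 1 0 = 0) (h11 : N 1 1 = 0) (h20 : N 2 0 = 0) (h21 : N 2 1 = 0)
    (h22 : N 2 2 = 0) : N * N * N = 0 := by
  ext i j
  fin_cases i <;> fin_cases j <;>
    simp [Matrix.mul_apply, Fin.sum_univ_three, h00, h10, h11, h20, h21, h22]

/-- The unitriangular subgroup of `SL₃(ZMod p)` is a `p`-group, for `p ≥ 3`. -/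
theorem unitri_isPGroup {p : ℕ} [Fact p.Prime] (hp3 : 3 ≤ p) : IsPGroup p ↥(unitri (ZMod p)) := by
  intro M
  refine ⟨1, ?_⟩
  rw [pow_one]
  obtain ⟨M, hM⟩ := M
  rw [mem_unitri] at hM
  obtain ⟨a1, a2, a3, a4, a5, a6⟩ := hM
  apply Subtype.ext
  apply Subtype.ext
  change ((M ^ p : Matrix.SpecialLinearGroup (Fin 3) (ZMod p)) : Matrix (Fin 3) (Fin 3) (ZMod p)) = 1
  rw [Matrix.SpecialLinearGroup.coe_pow]
  set A : Matrix (Fin 3) (Fin 3) (ZMod p) := (M : Matrix (Fin 3) (Fin 3) (ZMod p)) with hA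
  set N : Matrix (Fin 3) (Fin 3) (ZMod p) := A - 1 with hN
  have hN3 : N * N * N = 0 := by
    apply cube_eq_zero <;> simp [hN, a1, a2, a3, a4, a5, a6]
  have hA1 : A = 1 + N := by rw [hN]; abel
  have hNp : N ^ p = 0 := by
    obtain ⟨k, hk⟩ : ∃ k, p = 3 + k := ⟨p - 3, by omega⟩
    have e1 : N ^ p = N ^ (3 + k) := congrArg (fun n => N ^ n) hk
    have e2 : N ^ 3 = N * N * N := by rw [pow_succ, pow_two]
    rw [e1, pow_add, e2, hN3, zero_mul]
  rw [hA1, add_pow_char_of_commute (R := Matrix (Fin 3) (Fin 3) (ZMod p)) p (Commute.one_left N),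
    one_pow, hNp, add_zero]

def xmat (R : Type*) [CommRing R] : Matrix.SpecialLinearGroup (Fin 3) R :=
  ⟨!![1, 1, 0; 0, 1, 0; 0, 0, 1], by simp [Matrix.det_fin_three]⟩

def ymat (R : Type*) [CommRing R] : Matrix.SpecialLinearGroup (Fin 3) R :=
  ⟨!![1, 0, 0; 0, 1, 1; 0, 0, 1], by simp [Matrix.det_fin_three]⟩

theorem xmat_mem_unitri (R : Type*) [CommRing R] : xmat R ∈ unitri R := by
  rw [mem_unitri]; simp [xmat]

theorem ymat_mem_unitri (R : Type*) [CommRing R] : ymat R ∈ unitri R := by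
  rw [mem_unitri]; simp [ymat]

theorem coe_xmat (R : Type*) [CommRing R] :
    ((xmat R : Matrix.SpecialLinearGroup (Fin 3) R) : Matrix (Fin 3) (Fin 3) R)
      = !![1, 1, 0; 0, 1, 0; 0, 0, 1] := rfl

theorem coe_ymat (R : Type*) [CommRing R] :
    ((ymat R : Matrix.SpecialLinearGroup (Fin 3) R) : Matrix (Fin 3) (Fin 3) R)
      = !![1, 0, 0; 0, 1, 1; 0, 0, 1] := rfl

theorem xmat_mem_qd (p : ℕ) : xmat (ZMod p) ∈ Cfsg.qd p := by
  apply Subgroup.subset_closure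
  change _ ∧ _ ∧ _
  rw [coe_xmat]
  simp

theorem ymat_mem_qd (p : ℕ) : ymat (ZMod p) ∈ Cfsg.qd p := by
  apply Subgroup.subset_closure
  change _ ∧ _ ∧ _
  rw [coe_ymat]
  simp

theorem xmat_ymat_not_comm (R : Type*) [CommRing R] [Nontrivial R] :
    xmat R * ymat R ≠ ymat R * xmat R := by
  intro h
  have h1 := congrArg (fun M : Matrix.SpecialLinearGroup (Fin 3) R => (M : Matrix (Fin 3) (Fin 3) R) 0 2) h
  simp only [Matrix.SpecialLinearGroup.coe_mul, coe_xmat, coe_ymat] at h1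
  simp [Matrix.mul_apply, Fin.sum_univ_three] at h1

/-- `Qd(p)` has a non-commutative `p`-subgroup, for odd `p`. -/
theorem not_abP_qd {p : ℕ} [Fact p.Prime] (hp : p ≠ 2) : ¬ AbP p ↥(Cfsg.qd p) := by
  have hpp : p.Prime := Fact.out
  have hp3 : 3 ≤ p := by
    have := hpp.two_le
    omega
  intro h
  have hS : IsPGroup p ↥((unitri (ZMod p)).comap (Cfsg.qd p).subtype) :=
    (unitri_isPGroup hp3).comap_subtype
  have hx : (⟨xmat (ZMod p), xmat_mem_qd p⟩ : ↥(Cfsg.qd p)) ∈ (unitri (ZMod p)).comap (Cfsg.qd p).subtype :=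
    xmat_mem_unitri _
  have hy : (⟨ymat (ZMod p), ymat_mem_qd p⟩ : ↥(Cfsg.qd p)) ∈ (unitri (ZMod p)).comap (Cfsg.qd p).subtype :=
    ymat_mem_unitri _
  have := h _ hS _ hx _ hy
  exact xmat_ymat_not_comm (ZMod p) (congrArg Subtype.val this)

/-- Let p be an odd prime and K a finite field of characteristic p. Then Qd(p) (the natural semidirect product of an elementary abelian group of order p² by SL₂(p)) is not involved in the projective special linear group PSL₂(K). -/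
theorem result {p : ℕ} [Fact p.Prime] (hp : p ≠ 2) {K : Type*} [Field K] [Fintype K] [CharP K p] : ¬ Cfsg.Involves ↥(Cfsg.qd p) (Matrix.ProjectiveSpecialLinearGroup (Fin 2) K) := by
  rintro ⟨K₀, R, hnorm, ⟨e⟩⟩
  have h1 : AbP p (Matrix.SpecialLinearGroup (Fin 2) K) := abP_sl2
  have h2 : AbP p (Matrix.ProjectiveSpecialLinearGroup (Fin 2) K) :=
    h1.of_surjective (QuotientGroup.mk' _) (QuotientGroup.mk'_surjective _)
  have : Finite (Matrix.ProjectiveSpecialLinearGroup (Fin 2) K) :=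
    Finite.of_surjective _ (QuotientGroup.mk'_surjective (Subgroup.center (Matrix.SpecialLinearGroup (Fin 2) K)))
  have h4 : AbP p (↥K₀ ⧸ R.subgroupOf K₀) := h2.section K₀ R
  have h5 : AbP p ↥(Cfsg.qd p) := h4.of_mulEquiv e
  exact not_abP_qd hp h5

end Cfsg.Agent.S2231
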