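import Cfsg.Statements.S2245
import Cfsg.Agent.Helper29.SylMaxDefs
import Cfsg.Agent.Helper29.SylMaxBACK
import Cfsg.Agent.Helper29.SylMaxORB
import Cfsg.Agent.Helper29.SylMaxPRIMS
import Cfsg.Agent.Helper13.SylMaxAMB
import Cfsg.Agent.Helper26.SylMaxJ4C
import Cfsg.Agent.Helper7.SylMaxJ4
import Cfsg.Agent.Helper14.SylMaxJ4T
import Cfsg.Agent.Helper7.SylMaxFIXS
import Cfsg.Agent.Helper23.SylMaxPRIMA
import Cfsg.Agent.Helper29.SylMaxFIXA

set_option autoImplicit false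
open Cfsg

namespace Cfsg.Agent.S2245

open MulAction Equiv Cfsg.Agent.Helper29.SylMax Cfsg.Agent.Helper13.SylMax
open Cfsg.Agent.Helper26.SylMax Cfsg.Agent.Helper7.SylMax Cfsg.Agent.Helper14.SylMax
open Cfsg.Agent.Helper23.SylMax
open scoped Pointwise

universe u v


section assembly

variable {𝔾 : Type u} [Group 𝔾] {α : Type v} [Fintype α] [DecidableEq α] [MulAction 𝔾 α]

theorem forward (hA : Amb 𝔾 α) (hα : 5 ≤ Nat.card α) (R : Sylow 2 𝔾)
    (h : ∃! M : Subgroup 𝔾, IsCoatom M ∧ (R : Subgroup 𝔾) ≤ M) :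
    ∃ k : ℕ, 2 ≤ k ∧ Nat.card α = 2 ^ k + 1 := by
  rcases orbit_cases hA hα (R : Subgroup 𝔾) R.isPGroup' with h1 | ⟨M₁, M₂, hne, hc1, hc2, hR1, hR2⟩
  · exact h1
  · exfalso
    obtain ⟨M, _, hM⟩ := h
    exact hne ((hM M₁ ⟨hc1, hR1⟩).trans (hM M₂ ⟨hc2, hR2⟩).symm)

theorem klein_full (hα : 9 ≤ Nat.card α ∨ Nat.card α = 5)
    (G : Subgroup (Perm α)) (hG : IsPreprimitive G α) (Γ : Finset α) (hΓ : Γ.card = 4)
    (hV : ∀ a ∈ Γ, ∀ b ∈ Γ, ∀ c ∈ Γ, ∀ d ∈ Γ, a ≠ b → a ≠ c → a ≠ d → b ≠ c → b ≠ d → c ≠ d →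
      swap a b * swap c d ∈ G) : alternatingGroup α ≤ G := by
  haveI : Finite G := inferInstance
  exact alternatingGroup_le_of_klein hα G hG Γ hΓ hV
    (fun h2 => exists_inter_card (G := G) h2 hα Γ hΓ)
    (fun g hg h => exists_threeCycle_of_inter G Γ hΓ hV g hg h)

theorem main_perm (n : ℕ) (hn : 5 ≤ n) (R : Sylow 2 (Perm (Fin n))) :
    (∃! M : Subgroup (Perm (Fin n)), IsCoatom M ∧ (R : Subgroup (Perm (Fin n))) ≤ M) ↔
      ∃ k : ℕ, 2 ≤ k ∧ n = 2 ^ k + 1 := by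
  have hc : Nat.card (Fin n) = n := by simp
  have hA : Amb (Perm (Fin n)) (Fin n) := amb_perm (by rw [hc]; exact hn)
  constructor
  · intro h
    obtain ⟨k, hk, hk'⟩ := forward hA (by rw [hc]; exact hn) R h
    exact ⟨k, hk, hc ▸ hk'⟩
  · rintro ⟨k, hk, rfl⟩
    exact backward hA (by rw [hc]; exact hn) (R : Subgroup (Perm (Fin (2 ^ k + 1))))
      (fixTrans_perm k hk hc R) (primTop_perm (by rw [hc]; exact hn) R)

theorem main_alt (n : ℕ) (hn : 5 ≤ n) (R : Sylow 2 (alternatingGroup (Fin n))) :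
    (∃! M : Subgroup (alternatingGroup (Fin n)), IsCoatom M ∧
        (R : Subgroup (alternatingGroup (Fin n))) ≤ M) ↔
      ∃ k : ℕ, 2 ≤ k ∧ n = 2 ^ k + 1 := by
  have hc : Nat.card (Fin n) = n := by simp
  have hA : Amb (alternatingGroup (Fin n)) (Fin n) := amb_alt (by rw [hc]; exact hn)
  constructor
  · intro h
    obtain ⟨k, hk, hk'⟩ := forward hA (by rw [hc]; exact hn) R h
    exact ⟨k, hk, hc ▸ hk'⟩
  · rintro ⟨k, hk, rfl⟩
    have h95 : 9 ≤ Nat.card (Fin (2 ^ k + 1)) ∨ Nat.card (Fin (2 ^ k + 1)) = 5 := by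
      rw [hc]
      rcases Nat.lt_or_ge k 3 with h | h
      · right
        have : k = 2 := by omega
        subst this; norm_num
      · left
        have : 2 ^ 3 ≤ 2 ^ k := Nat.pow_le_pow_right (by norm_num) h
        omega
    exact backward hA (by rw [hc]; exact hn) (R : Subgroup (alternatingGroup (Fin (2 ^ k + 1))))
      (fixTrans_alt' k hk hc R)
      (primTop_alt k hk hc (fun G hG Γ hΓ hV => klein_full h95 G hG Γ hΓ hV) R)

end assembly

/-- For n ≥ 5 with n ≠ 6, a Sylow 2-subgroup of the alternating group A_n lies in exactly one maximal subgroup of A_n if and only if n = 2^k + 1 for some k ≥ 2; the same holds for the symmetric group S_n. -/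
theorem result (n : ℕ) (hn : 5 ≤ n) (h6 : n ≠ 6) :
    ((∀ R : Sylow 2 ↥(alternatingGroup (Fin n)), (∃! M : Subgroup ↥(alternatingGroup (Fin n)), IsCoatom M ∧ (R : Subgroup ↥(alternatingGroup (Fin n))) ≤ M) ↔ ∃ k : ℕ, 2 ≤ k ∧ n = 2 ^ k + 1) ∧
    (∀ R : Sylow 2 (Equiv.Perm (Fin n)), (∃! M : Subgroup (Equiv.Perm (Fin n)), IsCoatom M ∧ (R : Subgroup (Equiv.Perm (Fin n))) ≤ M) ↔ ∃ k : ℕ, 2 ≤ k ∧ n = 2 ^ k + 1)) :=
  ⟨fun R => main_alt n hn R, fun R => main_perm n hn R⟩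

end Cfsg.Agent.S2245
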