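import Cfsg.Statements.S2255
import Cfsg.Agent.Helper14.NilpAn5

set_option autoImplicit false
open Cfsg

namespace Cfsg.Agent.S2255

/-- Let n be a natural number not congruent to 3 modulo 4, with n ∉ {5, 6, 9}. Then every nilpotent subgroup of the alternating group on n letters has order at most the order of a Sylow 2-subgroup of the alternating group (so the nilpotent subgroups of largest order are exactly the Sylow 2-subgroups). -/
theorem result  (n : ℕ) (hn : n % 4 ≠ 3)
    (h5 : n ≠ 5) (h6 : n ≠ 6) (h9 : n ≠ 9)
    (N : Subgroup (alternatingGroup (Fin n))) (hN : Group.IsNilpotent N)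
    (P : Sylow 2 (alternatingGroup (Fin n))) :
    Nat.card N ≤ Nat.card P := by
  open Cfsg.Agent.Helper14.NilpSn in
  have h1 := card_le_AB_alt n N hN
  by_cases hn1 : n ≤ 1
  · have h2 : AB n = 1 := by
      rw [AB_eq_ABc]
      interval_cases n <;> decide
    have h3 : 0 < Nat.card P := Nat.card_pos
    omega
  · have hnE : n ∉ EE := by
      intro hmem
      have : ∀ m ∈ EE, m = 0 ∨ m = 1 ∨ m = 3 ∨ m = 5 ∨ m = 6 ∨ m = 9 := by decide
      rcases this n hmem with h | h | h | h | h | h <;> omega
    have h2 := two_mul_AB hnE
    have h3 := card_sylow_two_alternating n (by omega) P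
    have h4 : BB n = 2 ^ v2 n := by
      unfold BB
      rw [if_neg hn]
    omega

end Cfsg.Agent.S2255
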