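import Cfsg.Statements.S2256
import Cfsg.Agent.Helper14.NilpAn6

set_option autoImplicit false
open Cfsg

namespace Cfsg.Agent.S2256

/-- Let n ≡ 3 (mod 4) with n ≥ 7. Then every nilpotent subgroup of the alternating group on n letters has order at most 3 times the order of a Sylow 2-subgroup of the alternating group on n − 3 letters; the bound is attained by a nilpotent subgroup isomorphic to the direct product of such a Sylow 2-subgroup with a cyclic group of order 3; and any two nilpotent subgroups of the alternating group attaining the bound are conjugate in it. -/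
theorem result  (n : ℕ) (hn : n % 4 = 3) (h7 : 7 ≤ n)
    (P : Sylow 2 (alternatingGroup (Fin (n - 3)))) :
    (∀ N : Subgroup (alternatingGroup (Fin n)), Group.IsNilpotent N → Nat.card N ≤ 3 * Nat.card P) ∧
    (∃ M : Subgroup (alternatingGroup (Fin n)), Group.IsNilpotent M ∧ Nat.card M = 3 * Nat.card P ∧
      Nonempty (M ≃* (↥(P : Subgroup (alternatingGroup (Fin (n - 3)))) × Multiplicative (ZMod 3)))) ∧
    (∀ N₁ N₂ : Subgroup (alternatingGroup (Fin n)), Group.IsNilpotent N₁ → Group.IsNilpotent N₂ →
      Nat.card N₁ = 3 * Nat.card P → Nat.card N₂ = 3 * Nat.card P →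
      ∃ g : alternatingGroup (Fin n), N₂ = N₁.map (MulAut.conj g).toMonoidHom) := by
  open Cfsg.Agent.Helper14.NilpSn in
  have hnE : n ∉ EE := by
    intro hmem
    have : ∀ m ∈ EE, m = 0 ∨ m = 1 ∨ m = 3 ∨ m = 5 ∨ m = 6 ∨ m = 9 := by decide
    rcases this n hmem with h | h | h | h | h | h <;> omega
  have hP := card_sylow_two_alternating (n - 3) (by omega) P
  have hv : 1 ≤ v2 (n - 3) := v2_pos (by omega)
  obtain ⟨k, hk⟩ : ∃ k, v2 (n - 3) = k + 1 := ⟨v2 (n - 3) - 1, by omega⟩
  have hPk : Nat.card P = 2 ^ k := by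
    rw [hk, pow_succ'] at hP
    omega
  have hAB : AB n = 3 * Nat.card P := by
    have h2 := two_mul_AB hnE
    have h4 : BB n = 3 * 2 ^ v2 (n - 3) := by
      unfold BB
      rw [if_pos hn]
    omega
  refine ⟨?_, ?_, ?_⟩
  · intro N hN
    rw [← hAB]
    exact card_le_AB_alt n N hN
  · exact exists_extremal_alt n (by omega) P
  · intro N₁ N₂ h1 h2 c1 c2
    rw [hPk] at c1 c2
    exact conj_of_extremal_alt' hn h7 N₁ N₂ h1 h2 k hk c1 c2

end Cfsg.Agent.S2256
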