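import Cfsg.Statements.S2257
-- import your own Cfsg.Agent.* helpers here
import Cfsg.Agent.Helper11.L2EH

set_option autoImplicit false
open Cfsg

namespace Cfsg.Agent.S2257

/-- Let G = PSL_2(F) with F a field of order q = 2^p, p prime, and for x ∈ G call the solubilizer of x the set of y ∈ G such that x and y generate a solvable subgroup. Then the solubilizer of an involution has 3q(q − 1) elements; that of a non-identity element of order dividing q − 1 has 2q(q − 1) elements; and that of a non-identity element of order dividing q + 1 has 2(q + 1) elements. -/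
theorem result (p : ℕ) (hp : p.Prime) {F : Type*} [Field F] [Fintype F]
    (hF : Fintype.card F = 2 ^ p) (x : Matrix.ProjectiveSpecialLinearGroup (Fin 2) F) :
    (orderOf x = 2 → Nat.card {y : Matrix.ProjectiveSpecialLinearGroup (Fin 2) F // Group.IsSolvable ↥(Subgroup.closure ({x, y} : Set (Matrix.ProjectiveSpecialLinearGroup (Fin 2) F)))} = 3 * 2 ^ p * (2 ^ p - 1)) ∧
    (x ≠ 1 → orderOf x ∣ 2 ^ p - 1 → Nat.card {y : Matrix.ProjectiveSpecialLinearGroup (Fin 2) F // Group.IsSolvable ↥(Subgroup.closure ({x, y} : Set (Matrix.ProjectiveSpecialLinearGroup (Fin 2) F)))} = 2 * 2 ^ p * (2 ^ p - 1)) ∧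
    (x ≠ 1 → orderOf x ∣ 2 ^ p + 1 → Nat.card {y : Matrix.ProjectiveSpecialLinearGroup (Fin 2) F // Group.IsSolvable ↥(Subgroup.closure ({x, y} : Set (Matrix.ProjectiveSpecialLinearGroup (Fin 2) F)))} = 2 * (2 ^ p + 1)) := by
  have hev : Even (Fintype.card F) := by
    rw [hF]
    exact (Nat.even_pow' hp.ne_zero).mpr even_two
  have hchar : CharP F 2 := Cfsg.Agent.Helper11.FinSub.charP_two_of_even hev
  have h4 : 4 ≤ Fintype.card F := by
    rw [hF]
    calc 4 = 2 ^ 2 := by norm_num
      _ ≤ 2 ^ p := Nat.pow_le_pow_right (by norm_num) hp.two_le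
  have key := Cfsg.Agent.Helper11.L2E.card_sol_psl hp hF x
  have ho : orderOf ((Cfsg.Agent.Helper11.L2E.slEquivPSL F).symm x) = orderOf x :=
    MulEquiv.orderOf_eq (Cfsg.Agent.Helper11.L2E.slEquivPSL F).symm x
  have h1 : x ≠ 1 → (Cfsg.Agent.Helper11.L2E.slEquivPSL F).symm x ≠ 1 := by
    intro hx h
    apply hx
    have := congrArg (Cfsg.Agent.Helper11.L2E.slEquivPSL F) h
    rwa [MulEquiv.apply_symm_apply, map_one] at this
  refine ⟨fun h => ?_, fun hx h => ?_, fun hx h => ?_⟩
  · rw [key, Cfsg.Agent.Helper11.L2E.card_rel_of_orderOf_two _ (ho.trans h), hF]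
  · rw [key, Cfsg.Agent.Helper11.L2E.card_rel_of_dvd_sub_one h4 _ (h1 hx)
      (by rw [ho, hF]; exact h), hF]
  · rw [key, Cfsg.Agent.Helper11.L2E.card_rel_of_dvd_add_one _ (h1 hx)
      (by rw [ho, hF]; exact h), hF]

end Cfsg.Agent.S2257
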