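import Cfsg.Statements.S2260
-- import your own Cfsg.Agent.* helpers here

set_option autoImplicit false
open Cfsg

namespace Cfsg.Agent.S2260

/-- A nilpotent `d × d` matrix over a field has `d`-th power zero. -/
theorem nilpotent_pow_card_eq_zero {F : Type*} [Field F] {n : Type*} [Fintype n] [DecidableEq n]
    (N : Matrix n n F) (hN : IsNilpotent N) : N ^ Fintype.card n = 0 := by
  have h1 : N.charpoly = Polynomial.X ^ Fintype.card n := by
    rw [← sub_eq_zero]
    exact IsNilpotent.eq_zero (Matrix.isNilpotent_charpoly_sub_pow_of_isNilpotent hN)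
  have h2 := Matrix.aeval_self_charpoly N
  rw [h1] at h2
  simpa using h2

/-- Let F be a finite field of prime characteristic p and u an invertible d × d matrix over F with u − 1 nilpotent (a unipotent element). Then the order of u is at most p^⌈log_p d⌉; and if moreover (u − 1)^(d−1) ≠ 0 (u is a single Jordan block) then the order of u is exactly p^⌈log_p d⌉. -/
theorem result {F : Type*} [Field F] [Finite F] (p : ℕ) [Fact p.Prime] [CharP F p] (d : ℕ)
    (u : GL (Fin d) F) (hu : IsNilpotent ((u : Matrix (Fin d) (Fin d) F) - 1)) :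
    orderOf u ≤ p ^ Nat.clog p d ∧
    (((u : Matrix (Fin d) (Fin d) F) - 1) ^ (d - 1) ≠ 0 → orderOf u = p ^ Nat.clog p d) := by
  set N : Matrix (Fin d) (Fin d) F := (u : Matrix (Fin d) (Fin d) F) - 1 with hNdef
  have hp : p.Prime := Fact.out
  have hNd : N ^ d = 0 := by
    have := nilpotent_pow_card_eq_zero N hu
    simpa using this
  have hchar : CharP (Matrix (Fin d) (Fin d) F) p ∨ Subsingleton (Matrix (Fin d) (Fin d) F) := by
    rcases isEmpty_or_nonempty (Fin d) with h | h
    · right; infer_instance
    · left; infer_instance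
  -- key identity: u ^ p ^ j = 1 + N ^ p ^ j as matrices
  have key : ∀ j : ℕ, ((u ^ p ^ j : GL (Fin d) F) : Matrix (Fin d) (Fin d) F) = 1 + N ^ p ^ j := by
    intro j
    rcases hchar with hc | hs
    · have hu' : (u : Matrix (Fin d) (Fin d) F) = 1 + N := by simp [hNdef]
      rw [Units.val_pow_eq_pow_val, hu']
      have hcomm : Commute (1 : Matrix (Fin d) (Fin d) F) N := Commute.one_left N
      rw [add_pow_char_pow_of_commute p j hcomm, one_pow]
    · exact Subsingleton.elim _ _
  have hle : d ≤ p ^ Nat.clog p d := Nat.le_pow_clog hp.one_lt d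
  have hpow : u ^ p ^ Nat.clog p d = 1 := by
    apply Units.ext
    rw [key, pow_eq_zero_of_le hle hNd]
    simp
  have hdvd : orderOf u ∣ p ^ Nat.clog p d := orderOf_dvd_of_pow_eq_one hpow
  refine ⟨Nat.le_of_dvd (pow_pos hp.pos _) hdvd, ?_⟩
  intro hne
  obtain ⟨j, hj, hoj⟩ := (Nat.dvd_prime_pow hp).1 hdvd
  rcases lt_or_eq_of_le hj with hlt | heq
  · exfalso
    apply hne
    have h1 : u ^ p ^ j = 1 := by rw [← hoj]; exact pow_orderOf_eq_one u
    have h2 : N ^ p ^ j = 0 := by
      have := key j
      rw [h1] at this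
      simpa using this
    have h3 : p ^ j < d := by
      by_contra hcon
      push Not at hcon
      have : Nat.clog p d ≤ j := Nat.clog_le_of_le_pow hcon
      omega
    exact pow_eq_zero_of_le (by omega) h2
  · rw [hoj, heq]

end Cfsg.Agent.S2260
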