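import Cfsg.Statements.S2263
import Cfsg.Agent.Helper29.S2263Upper
import Cfsg.Agent.Helper13.S2263CASE1
import Cfsg.Agent.Helper13.S2263CASE3
import Cfsg.Agent.Helper8.S2263CASE24

set_option autoImplicit false
open Cfsg

namespace Cfsg.Agent.S2263

/-- Let q = p^f with p prime and f ≥ 1, F a field with q² elements, d ≥ 3 with (d, q) ≠ (3, 2), and PGU_d(q) the general unitary group of the standard Hermitian form modulo its centre. Then the largest order of an element of PGU_d(q) is: q^(d−1) − 1 if d is odd and f ≥ 2; (p^(d−2) + 1)p if d is odd and f = 1; q^(d−1) + 1 if d is even and q > 2; 4(2^(d−3) + 1) if d is even and q = 2. -/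
theorem result {F : Type*} [Field F] [Fintype F] (p f d : ℕ) (hp : p.Prime) (hf : 1 ≤ f) (q : ℕ) (hq : q = p ^ f)
    (hF : Fintype.card F = q ^ 2) (hd : 3 ≤ d) (h32 : ¬ (d = 3 ∧ q = 2)) :
    (Odd d → 2 ≤ f → (∀ g : (↥(Cfsg.GU d F q) ⧸ Subgroup.center ↥(Cfsg.GU d F q)), orderOf g ≤ q ^ (d - 1) - 1) ∧ ∃ g : (↥(Cfsg.GU d F q) ⧸ Subgroup.center ↥(Cfsg.GU d F q)), orderOf g = q ^ (d - 1) - 1) ∧
    (Odd d → f = 1 → (∀ g : (↥(Cfsg.GU d F q) ⧸ Subgroup.center ↥(Cfsg.GU d F q)), orderOf g ≤ (p ^ (d - 2) + 1) * p) ∧ ∃ g : (↥(Cfsg.GU d F q) ⧸ Subgroup.center ↥(Cfsg.GU d F q)), orderOf g = (p ^ (d - 2) + 1) * p) ∧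
    (Even d → 2 < q → (∀ g : (↥(Cfsg.GU d F q) ⧸ Subgroup.center ↥(Cfsg.GU d F q)), orderOf g ≤ q ^ (d - 1) + 1) ∧ ∃ g : (↥(Cfsg.GU d F q) ⧸ Subgroup.center ↥(Cfsg.GU d F q)), orderOf g = q ^ (d - 1) + 1) ∧
    (Even d → q = 2 → (∀ g : (↥(Cfsg.GU d F q) ⧸ Subgroup.center ↥(Cfsg.GU d F q)), orderOf g ≤ 4 * (2 ^ (d - 3) + 1)) ∧ ∃ g : (↥(Cfsg.GU d F q) ⧸ Subgroup.center ↥(Cfsg.GU d F q)), orderOf g = 4 * (2 ^ (d - 3) + 1)) := by
  classical
  have : Fact p.Prime := ⟨hp⟩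
  have : CharP F p := Cfsg.Agent.S2263P.charP_of_card hq hf hF
  open Cfsg.Agent.S2263P in
  have hup : ∀ g : (↥(Cfsg.GU d F q) ⧸ Subgroup.center ↥(Cfsg.GU d F q)), orderOf g ≤ Mx p f d := by
    intro g
    induction g using QuotientGroup.induction_on with
    | H g => exact upper hq hf hF hd h32 g
  refine ⟨fun hodd hf2 => ⟨fun g => ?_, ?_⟩, fun hodd hf1 => ⟨fun g => ?_, ?_⟩,
    fun heven hq2 => ⟨fun g => ?_, ?_⟩, fun heven hq2 => ⟨fun g => ?_, ?_⟩⟩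
  · have := hup g
    unfold Cfsg.Agent.S2263P.Mx at this
    rwa [if_pos hodd, if_pos hf2, ← hq] at this
  · exact Cfsg.Agent.S2263P.exists_case1 hq hF hd hodd
  · have := hup g
    unfold Cfsg.Agent.S2263P.Mx at this
    rwa [if_pos hodd, if_neg (by omega)] at this
  · obtain ⟨g, hg⟩ := Cfsg.Agent.S2263P.exists_case2 hq hF hd hodd
    refine ⟨g, ?_⟩
    rw [hg, hq, hf1, pow_one]
  · have := hup g
    unfold Cfsg.Agent.S2263P.Mx at this
    rwa [if_neg (Nat.not_odd_iff_even.mpr heven), if_pos (by rwa [← hq]), ← hq] at this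
  · exact Cfsg.Agent.S2263P.exists_case3 hq hF (by omega) heven
  · have := hup g
    unfold Cfsg.Agent.S2263P.Mx at this
    rwa [if_neg (Nat.not_odd_iff_even.mpr heven), if_neg (by rw [← hq, hq2]; omega)] at this
  · have hp2 : p = 2 := by
      have h1 : p ∣ 2 := by
        rw [← hq2, hq]; exact dvd_pow_self p (by omega)
      exact (Nat.prime_dvd_prime_iff_eq hp Nat.prime_two).mp h1
    subst hq2
    subst hp2
    have hd4 : 4 ≤ d := by
      rcases heven with ⟨k, hk⟩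
      omega
    exact Cfsg.Agent.S2263P.exists_case4 (by rw [hF]; norm_num) hd4 heven

end Cfsg.Agent.S2263
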