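import Cfsg.Statements.S2264
import Cfsg.Agent.Helper29.S2264MAT

set_option autoImplicit false
open Cfsg

namespace Cfsg.Agent.S2264

/-- Let F be a finite field with q elements and m ≥ 2. Then every element g of PSp_2m(F) satisfies (q − 1)·|g| ≤ q^(m+1), i.e. has order at most q^(m+1)/(q − 1). -/
theorem result {F : Type*} [Field F] [Fintype F] (m : ℕ) (hm : 2 ≤ m) (g : Cfsg.PSp m F) :
    (Fintype.card F - 1) * orderOf g ≤ Fintype.card F ^ (m + 1) := by
  classical
  obtain ⟨A, rfl⟩ := QuotientGroup.mk_surjective g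
  have hA : (A : Matrix (Fin m ⊕ Fin m) (Fin m ⊕ Fin m) F) * Matrix.J (Fin m) F *
      (A : Matrix (Fin m ⊕ Fin m) (Fin m ⊕ Fin m) F).transpose = Matrix.J (Fin m) F :=
    SymplecticGroup.mem_iff.1 A.2
  obtain ⟨N, hN, hpow, hb⟩ := Cfsg.Agent.S2264P.exists_pow_eq
    ((A : Matrix (Fin m ⊕ Fin m) (Fin m ⊕ Fin m) F).transpose) (Matrix.J (Fin m) F)
    (Matrix.isUnit_det_J (Fin m) F) (by rw [Matrix.transpose_transpose]; exact hA) m hm
    (Or.inl (by simp; ring))
  have hpow' : ((A ^ N : Matrix.symplecticGroup (Fin m) F) :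
      Matrix (Fin m ⊕ Fin m) (Fin m ⊕ Fin m) F) = 1 ∨
      ((A ^ N : Matrix.symplecticGroup (Fin m) F) :
      Matrix (Fin m ⊕ Fin m) (Fin m ⊕ Fin m) F) = -1 := by
    rw [SubmonoidClass.coe_pow]
    rcases hpow with h | h
    · left
      rw [← Matrix.transpose_pow] at h
      have := congrArg Matrix.transpose h
      simpa using this
    · right
      rw [← Matrix.transpose_pow] at h
      have := congrArg Matrix.transpose h
      simpa using this
  have hcen : A ^ N ∈ Subgroup.center (Matrix.symplecticGroup (Fin m) F) := by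
    rw [Subgroup.mem_center_iff]
    intro B
    apply Subtype.ext
    show (B : Matrix (Fin m ⊕ Fin m) (Fin m ⊕ Fin m) F) * ((A ^ N : Matrix.symplecticGroup (Fin m) F) :
      Matrix (Fin m ⊕ Fin m) (Fin m ⊕ Fin m) F) = ((A ^ N : Matrix.symplecticGroup (Fin m) F) :
      Matrix (Fin m ⊕ Fin m) (Fin m ⊕ Fin m) F) * (B : Matrix (Fin m ⊕ Fin m) (Fin m ⊕ Fin m) F)
    rcases hpow' with h | h <;> rw [h] <;> simp
  have hone : (QuotientGroup.mk A : Cfsg.PSp m F) ^ N = 1 := by
    rw [← QuotientGroup.mk_pow, QuotientGroup.eq_one_iff]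
    exact hcen
  have hle : orderOf (QuotientGroup.mk A : Cfsg.PSp m F) ≤ N :=
    Nat.le_of_dvd hN (orderOf_dvd_of_pow_eq_one hone)
  calc (Fintype.card F - 1) * orderOf (QuotientGroup.mk A : Cfsg.PSp m F)
      ≤ (Fintype.card F - 1) * N := Nat.mul_le_mul_left _ hle
    _ ≤ Fintype.card F ^ (m + 1) := hb

end Cfsg.Agent.S2264
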