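import Cfsg.Statements.S2265
import Cfsg.Agent.Helper29.S2264ORTH
import Cfsg.Agent.S2614
import Cfsg.Agent.S0292
import Cfsg.Agent.S2171
import Cfsg.Agent.S2621
import Cfsg.Agent.Helper28.Spin6

set_option autoImplicit false
open Cfsg

namespace Cfsg.Agent.S2265

theorem disc_ne_zero' {F : Type*} [Field F] [Fintype F] (a b : F)
    (hab : ∀ z₁ z₂ : F, z₁ ^ 2 + a * z₁ * z₂ + b * z₂ ^ 2 = 0 → z₁ = 0 ∧ z₂ = 0) :
    4 * b - a ^ 2 ≠ 0 := by
  by_cases h2 : (2 : F) = 0
  · have ha : a ≠ 0 := by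
      rintro rfl
      obtain ⟨s, hs⟩ := FiniteField.isSquare_of_char_two
        (CharP.ringChar_of_prime_eq_zero Nat.prime_two (by exact_mod_cast h2)) b
      have := hab s 1 (by rw [hs]; linear_combination (s * s) * h2)
      exact one_ne_zero this.2
    have h4 : (4 : F) = 0 := by linear_combination (2 : F) * h2
    rw [h4, zero_mul, zero_sub]
    exact neg_ne_zero.2 (pow_ne_zero 2 ha)
  · have hδ := Cfsg.Agent.S2621.not_isSquare_disc h2 a b hab
    intro h
    apply hδ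
    have : a ^ 2 - 4 * b = 0 := by linear_combination -h
    rw [this]
    exact ⟨0, by simp⟩

/-- Let F be a finite field with q elements. Every element g of PΩ_(2m+1)(F) (m ≥ 3, q odd), of PΩ⁺_2m(F) (m ≥ 4), or of PΩ⁻_2m(F) (m ≥ 4, the form having an anisotropic binary part) satisfies (q − 1)·|g| ≤ q^(m+1), i.e. has order at most q^(m+1)/(q − 1). -/
theorem result {F : Type*} [Field F] [Fintype F] (m : ℕ) :
    (3 ≤ m → Odd (Fintype.card F) → ∀ g : Cfsg.POmega F (Cfsg.quadFormOdd m F),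
      (Fintype.card F - 1) * orderOf g ≤ Fintype.card F ^ (m + 1)) ∧
    (4 ≤ m → ∀ g : Cfsg.POmega F (Cfsg.quadFormPlus m F),
      (Fintype.card F - 1) * orderOf g ≤ Fintype.card F ^ (m + 1)) ∧
    (4 ≤ m → ∀ a b : F, (∀ z₁ z₂ : F, z₁ ^ 2 + a * z₁ * z₂ + b * z₂ ^ 2 = 0 → z₁ = 0 ∧ z₂ = 0) →
      ∀ g : Cfsg.POmega F (Cfsg.quadFormMinus (m - 1) F a b),
      (Fintype.card F - 1) * orderOf g ≤ Fintype.card F ^ (m + 1)) := by
  refine ⟨?_, ?_, ?_⟩
  · intro hm hodd
    have h2 : (2 : F) ≠ 0 := by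
      intro h2
      have hchar : ringChar F = 2 :=
        CharP.ringChar_of_prime_eq_zero Nat.prime_two (by exact_mod_cast h2)
      have := FiniteField.even_card_of_char_two hchar
      exact (Nat.not_even_iff_odd.2 hodd) (Nat.even_iff.2 this)
    rw [← Cfsg.Agent.S2614.QfOdd_coe]
    intro g
    exact Cfsg.Agent.S2264P.pomega_bound (Cfsg.Agent.S2614.QfOdd m F)
      (Cfsg.Agent.S0292.QfOdd_nondeg h2 m) m (by omega)
      (Or.inr ⟨by simp; ring, hm, h2⟩) g
  · intro hm g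
    exact Cfsg.Agent.S2264P.pomega_bound (Cfsg.Agent.Helper28.Spin.QfPlus m F)
      (Cfsg.Agent.Helper28.Spin.QfPlus_nondeg m) m (by omega)
      (Or.inl (by simp; ring)) g
  · intro hm a b hab g
    exact Cfsg.Agent.S2264P.pomega_bound (Cfsg.Agent.Helper28.Spin.QfMinus (m - 1) F a b)
      (Cfsg.Agent.S2171.QfMinus_nondeg_of (m - 1) a b (disc_ne_zero' a b hab)) m (by omega)
      (Or.inl (by simp; omega)) g

end Cfsg.Agent.S2265
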