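import Cfsg.Statements.S2268
import Mathlib

set_option autoImplicit false
open Cfsg

namespace Cfsg.Agent.S2268

theorem part1 {G : Type*} [Group G] [Finite G] {p : ℕ} [Fact p.Prime]
    (P : Sylow p G) (hP : IsMulCommutative (P : Subgroup G)) (Q : Subgroup G) (hQ : Q ≤ (P : Subgroup G)) :
    Subgroup.normalizer (Q : Set G) =
      (Subgroup.normalizer (Q : Set G) ⊓ Subgroup.normalizer ((P : Subgroup G) : Set G)) ⊔ Subgroup.centralizer (Q : Set G) := by
  have hCN : Subgroup.centralizer (Q : Set G) ≤ Subgroup.normalizer (Q : Set G) :=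
    Subgroup.centralizer_le_normalizer _
  apply le_antisymm
  · intro n hn
    -- P ≤ C(Q)
    have hPC : (P : Subgroup G) ≤ Subgroup.centralizer (Q : Set G) := by
      intro x hx
      rw [Subgroup.mem_centralizer_iff]
      intro y hy
      have := hP.is_comm.comm ⟨y, hQ hy⟩ ⟨x, hx⟩
      exact congrArg Subtype.val this
    -- n • P ≤ C(Q)
    have hnPC : ((n • P : Sylow p G) : Subgroup G) ≤ Subgroup.centralizer (Q : Set G) := by
      intro x hx
      rw [Sylow.smul_def, Sylow.pointwise_smul_def, Subgroup.mem_pointwise_smul_iff_inv_smul_mem] at hx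
      have hx' : n⁻¹ * x * n ∈ (P : Subgroup G) := by
        simpa [MulAut.smul_def, MulAut.conj_apply] using hx
      have h1 := hPC hx'
      rw [Subgroup.mem_centralizer_iff] at h1 ⊢
      intro y hy
      have hy' : n⁻¹ * y * n ∈ Q := by
        rw [Subgroup.mem_normalizer_iff] at hn
        exact (hn (n⁻¹ * y * n)).mpr (by simpa [mul_assoc] using hy)
      have h3 := h1 _ hy'
      have : n⁻¹ * (y * x) * n = n⁻¹ * (x * y) * n := by
        calc n⁻¹ * (y * x) * n = (n⁻¹ * y * n) * (n⁻¹ * x * n) := by group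
          _ = (n⁻¹ * x * n) * (n⁻¹ * y * n) := h3
          _ = n⁻¹ * (x * y) * n := by group
      exact mul_left_cancel (mul_right_cancel this)
    obtain ⟨c, hc⟩ := MulAction.exists_smul_eq (↥(Subgroup.centralizer (Q : Set G))) ((n • P).subtype hnPC) (P.subtype hPC)
    simp_rw [Sylow.smul_subtype, Subgroup.smul_def, smul_smul] at hc
    have hcn : (c : G) * n ∈ Subgroup.normalizer ((P : Subgroup G) : Set G) :=
      Sylow.smul_eq_iff_mem_normalizer.mp (Sylow.subtype_injective hc)
    have : n = (c : G)⁻¹ * ((c : G) * n) := by group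
    rw [this, sup_comm]
    apply Subgroup.mul_mem_sup (Subgroup.inv_mem _ c.2)
    exact ⟨Subgroup.mul_mem _ (hCN c.2) hn, hcn⟩
  · apply sup_le inf_le_left hCN

theorem result {G : Type*} [Group G] [Finite G] {p : ℕ} [Fact p.Prime]
    (P : Sylow p G) (hP : IsMulCommutative (P : Subgroup G)) (Q : Subgroup G) (hQ : Q ≤ (P : Subgroup G)) :
    Subgroup.normalizer (Q : Set G) =
      (Subgroup.normalizer (Q : Set G) ⊓ Subgroup.normalizer ((P : Subgroup G) : Set G)) ⊔ Subgroup.centralizer (Q : Set G) ∧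
    ((Subgroup.centralizer (Q : Set G)).subgroupOf (Subgroup.normalizer (Q : Set G))).index ∣ ((Subgroup.centralizer ((P : Subgroup G) : Set G)).subgroupOf (Subgroup.normalizer ((P : Subgroup G) : Set G))).index := by
  have h1 := part1 P hP Q hQ
  refine ⟨h1, ?_⟩
  set NQ := Subgroup.normalizer (Q : Set G) with hNQ
  set NP := Subgroup.normalizer ((P : Subgroup G) : Set G) with hNP
  set CQ := Subgroup.centralizer (Q : Set G) with hCQ
  set CP := Subgroup.centralizer ((P : Subgroup G) : Set G) with hCP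
  set M := NQ ⊓ NP with hM
  have hCQNQ : CQ ≤ NQ := Subgroup.centralizer_le_normalizer _
  have hCPNP : CP ≤ NP := Subgroup.centralizer_le_normalizer _
  have hCPCQ : CP ≤ CQ := Subgroup.centralizer_le hQ
  have hCPM : CP ≤ M := le_inf (hCPCQ.trans hCQNQ) hCPNP
  change CQ.relIndex NQ ∣ CP.relIndex NP
  -- step A
  have hA : CQ.relIndex NQ = CQ.relIndex M := by
    have : (CQ.subgroupOf NQ).Normal := by
      rw [hCQ, hNQ]; infer_instance
    have htop : M.subgroupOf NQ ⊔ CQ.subgroupOf NQ = ⊤ := by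
      rw [← Subgroup.subgroupOf_sup inf_le_left hCQNQ, ← h1]
      exact Subgroup.subgroupOf_self _
    have := Subgroup.relIndex_sup_right (H := M.subgroupOf NQ) (K := CQ.subgroupOf NQ)
    rw [htop, Subgroup.relIndex_top_right] at this
    rw [Subgroup.relIndex, this, Subgroup.relIndex_subgroupOf inf_le_left]
  rw [hA, ← Subgroup.inf_relIndex_right]
  have h2 : (CQ ⊓ M).relIndex M ∣ CP.relIndex M :=
    Subgroup.relIndex_dvd_of_le_left M (le_inf hCPCQ hCPM)
  have h3 : CP.relIndex M ∣ CP.relIndex NP :=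
    Dvd.intro _ (Subgroup.relIndex_mul_relIndex CP M NP hCPM inf_le_right)
  exact h2.trans h3

end Cfsg.Agent.S2268
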