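import Cfsg.Statements.S2276
import Cfsg.Agent.Helper13.S2276PERMLEVEL
import Cfsg.Agent.Helper8.S2276ALTLIFT

set_option autoImplicit false
open Cfsg

namespace Cfsg.Agent.S2276

/-- Let n ≥ 5, p ≥ 3 a prime, and u, w non-identity elements of p-power order in the alternating group A_n. Then there is g ∈ A_n such that u·(g w g⁻¹) does not have p-power order and ⟨u, g w g⁻¹⟩ is not solvable. -/
theorem result (n : ℕ) (hn : 5 ≤ n) (p : ℕ) (hp : p.Prime) (hp3 : 3 ≤ p) (u w : alternatingGroup (Fin n)) (hu : u ≠ 1) (hw : w ≠ 1)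
    (hu' : ∃ k : ℕ, orderOf u = p ^ k) (hw' : ∃ k : ℕ, orderOf w = p ^ k) :
    ∃ g : alternatingGroup (Fin n), (¬ ∃ k : ℕ, orderOf (u * (g * w * g⁻¹)) = p ^ k) ∧
      ¬ Group.IsSolvable ↥(Subgroup.closure ({u, g * w * g⁻¹} : Set (alternatingGroup (Fin n)))) := by
  have hU : (u : Equiv.Perm (Fin n)) ≠ 1 := by
    intro h
    apply hu
    exact Subtype.ext h
  have hW : (w : Equiv.Perm (Fin n)) ≠ 1 := by
    intro h
    apply hw
    exact Subtype.ext h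
  have hU' : ∃ k : ℕ, orderOf (u : Equiv.Perm (Fin n)) = p ^ k := by
    rw [Subgroup.orderOf_coe]; exact hu'
  have hW' : ∃ k : ℕ, orderOf (w : Equiv.Perm (Fin n)) = p ^ k := by
    rw [Subgroup.orderOf_coe]; exact hw'
  obtain ⟨G, hGs, hG⟩ := Cfsg.Agent.S2276P.PERMLEVEL.main hn hp hp3 _ _ hU hW hU' hW'
  exact ⟨⟨G, Equiv.Perm.mem_alternatingGroup.mpr hGs⟩,
    Cfsg.Agent.S2276P.ALTLIFT.main n p u w ⟨G, Equiv.Perm.mem_alternatingGroup.mpr hGs⟩ hG⟩

end Cfsg.Agent.S2276
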