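import Cfsg.Statements.S2280
import Cfsg.Agent.S2278
import Cfsg.Agent.Helper12.RUNB

set_option autoImplicit false
open Cfsg

namespace Cfsg.Agent.S2280

/-- Let F be a finite field and n ≥ 3. Then SL_n(F) is generated by three conjugate regular unipotent elements: there are u with u − 1 nilpotent and (u − 1)^(n−1) ≠ 0, and g, h, such that u, g u g⁻¹ and h u h⁻¹ generate SL_n(F). -/
theorem result {F : Type*} [Field F] [Fintype F] (n : ℕ) (hn : 3 ≤ n) :
    ∃ u g h : Matrix.SpecialLinearGroup (Fin n) F, (IsNilpotent ((u : Matrix (Fin n) (Fin n) F) - 1) ∧ ((u : Matrix (Fin n) (Fin n) F) - 1) ^ (n - 1) ≠ 0) ∧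
      Subgroup.closure ({u, g * u * g⁻¹, h * u * h⁻¹} : Set (Matrix.SpecialLinearGroup (Fin n) F)) = ⊤ := by
  rcases Nat.lt_or_ge n 4 with h4 | h4
  · have h3 : n = 3 := by omega
    subst h3
    obtain ⟨u, g, hu1, hu2, hcl⟩ := Cfsg.Agent.S2278.result (F := F)
    refine ⟨u, g, 1, ⟨hu1, hu2⟩, ?_⟩
    rw [eq_top_iff, ← hcl]
    apply Subgroup.closure_mono
    intro x hx
    rcases hx with hx | hx
    · exact Or.inl hx
    · exact Or.inr (Or.inl hx)
  · obtain ⟨m, rfl⟩ := Nat.exists_eq_add_of_le' h4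
    obtain ⟨c, hc0, hc⟩ := Cfsg.Agent.Helper12.RUN.exists_ring_gen F
    refine ⟨Cfsg.Agent.Helper12.RUN.uS (m + 4) F, Cfsg.Agent.Helper12.RUN.g2 m c,
      Cfsg.Agent.Helper12.RUN.PS m F, Cfsg.Agent.Helper12.RUN.uS_regular (by omega), ?_⟩
    exact Cfsg.Agent.Helper12.RUN.Hc_eq_top m c hc0 hc

end Cfsg.Agent.S2280
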