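-- Statement S2293 (row 2293): Sp(4,F) has a presentation with 6 generators and at most 35 relators,
-- PSp(4,F) one with 6 generators and at most 36 relators.
-- Own bounded presentation for the root system C2 on the S2286/S2287 toolkit
-- (see departures/helper21_S2293_design.md).
import Cfsg.Statements.S2293
import Cfsg.Agent.Helper21.S2293FIN

set_option autoImplicit false
open Cfsg

namespace Cfsg.Agent.S2293

/-- For every finite field F, Sp_4(F) has a presentation with 6 generators and at most 35 relations, and PSp_4(F) one with 6 generators and at most 36 relations. -/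
theorem result {F : Type*} [Field F] [Fintype F] : (∃ rels : Finset (FreeGroup (Fin 6)), rels.card ≤ 35 ∧ Nonempty (PresentedGroup (↑rels : Set (FreeGroup (Fin 6))) ≃* Matrix.symplecticGroup (Fin 2) F)) ∧ (∃ rels : Finset (FreeGroup (Fin 6)), rels.card ≤ 36 ∧ Nonempty (PresentedGroup (↑rels : Set (FreeGroup (Fin 6))) ≃* Cfsg.PSp 2 F)) := by
  exact Helper21.S2293.main

end Cfsg.Agent.S2293
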