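import Cfsg.Statements.S2300
import Cfsg.Agent.Helper12.SL2TableEven

set_option autoImplicit false
open Cfsg Cfsg.Agent.Helper12 Cfsg.Agent.Helper24

namespace Cfsg.Agent.S2300

/-- Twice the number of irreducible characters of a given degree. -/
theorem two_mul_card_degree {F : Type*} [Field F] [Fintype F] [DecidableEq F] [CharP F 2] (c : ℂ) :
    2 * (Nat.card {χ : Cfsg.IrrCharacter (Matrix.SpecialLinearGroup (Fin 2) F) //
      (χ : Matrix.SpecialLinearGroup (Fin 2) F → ℂ) 1 = c} : ℂ) =
      (if c = (Fintype.card F : ℂ) - 1 then (Fintype.card F : ℂ) else 0) +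
      (2 * ((if (1 : ℂ) = c then 1 else 0) + (if (Fintype.card F : ℂ) = c then 1 else 0)) +
        ((Fintype.card F : ℂ) - 2) * (if (Fintype.card F : ℂ) + 1 = c then 1 else 0)) := by
  classical
  have : Fintype (IrrCharacter (Matrix.SpecialLinearGroup (Fin 2) F)) := Fintype.ofFinite _
  have h := irr_sum_degreeS_even (F := F) (fun x => if x = c then (1 : ℂ) else 0)
  have h1 : (Nat.card {χ : Cfsg.IrrCharacter (Matrix.SpecialLinearGroup (Fin 2) F) //
      (χ : Matrix.SpecialLinearGroup (Fin 2) F → ℂ) 1 = c} : ℂ) =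
      ∑ χ : IrrCharacter (Matrix.SpecialLinearGroup (Fin 2) F),
        (if (χ : Matrix.SpecialLinearGroup (Fin 2) F → ℂ) 1 = c then (1 : ℂ) else 0) := by
    rw [Nat.card_eq_fintype_card, Fintype.card_subtype, Finset.sum_boole]
  rw [h1, h]
  congr 1
  by_cases hc : c = (Fintype.card F : ℂ) - 1
  · rw [if_pos hc, ← two_mul_card_cuspS_even (F := F)]
    congr 1
    apply Finset.sum_congr rfl
    intro χ _
    by_cases hcusp : IsCuspS (χ : Matrix.SpecialLinearGroup (Fin 2) F → ℂ)
    · rw [if_pos hcusp, if_pos hcusp, if_pos]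
      rw [(cuspS_degree_eq_even _ χ.2 hcusp).1, hc]
    · rw [if_neg hcusp, if_neg hcusp]
  · rw [if_neg hc]
    rw [Finset.sum_eq_zero, mul_zero]
    intro χ _
    by_cases hcusp : IsCuspS (χ : Matrix.SpecialLinearGroup (Fin 2) F → ℂ)
    · rw [if_pos hcusp, if_neg]
      rw [(cuspS_degree_eq_even _ χ.2 hcusp).1]
      exact fun h => hc h.symm
    · rw [if_neg hcusp]

/-- Over a finite field F with q elements, q even, every irreducible complex character of SL₂ has degree 1, q − 1, q or q + 1; and when q ≥ 4 (so that these four numbers are distinct) there are exactly one irreducible character of degree 1, one of degree q, (q − 2)/2 of degree q + 1 and q/2 of degree q − 1. -/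
theorem result {F : Type*} [Field F] [Fintype F] [CharP F 2] :
    (∀ χ : Matrix.SpecialLinearGroup (Fin 2) F → ℂ, Cfsg.IsIrrCharacter (Matrix.SpecialLinearGroup (Fin 2) F) χ →
      χ 1 = 1 ∨ χ 1 = (Fintype.card F : ℂ) - 1 ∨ χ 1 = (Fintype.card F : ℂ) ∨ χ 1 = (Fintype.card F : ℂ) + 1) ∧
    (4 ≤ Fintype.card F →
      Nat.card {χ : Cfsg.IrrCharacter (Matrix.SpecialLinearGroup (Fin 2) F) // (χ : Matrix.SpecialLinearGroup (Fin 2) F → ℂ) 1 = 1} = 1 ∧
      Nat.card {χ : Cfsg.IrrCharacter (Matrix.SpecialLinearGroup (Fin 2) F) // (χ : Matrix.SpecialLinearGroup (Fin 2) F → ℂ) 1 = (Fintype.card F : ℂ)} = 1 ∧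
      Nat.card {χ : Cfsg.IrrCharacter (Matrix.SpecialLinearGroup (Fin 2) F) // (χ : Matrix.SpecialLinearGroup (Fin 2) F → ℂ) 1 = (Fintype.card F : ℂ) + 1} = (Fintype.card F - 2) / 2 ∧
      Nat.card {χ : Cfsg.IrrCharacter (Matrix.SpecialLinearGroup (Fin 2) F) // (χ : Matrix.SpecialLinearGroup (Fin 2) F → ℂ) 1 = (Fintype.card F : ℂ) - 1} = Fintype.card F / 2) := by
  classical
  have hq0 := card_ne_zero_cast (F := F)
  have hq1 := card_ne_one_cast (F := F)
  constructor
  · intro χ hχ
    rcases sl2_even_irr_cases χ hχ with rfl | rfl | ⟨α, _, rfl⟩ | ⟨_, h1, _⟩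
    · left; rfl
    · right; right; left; exact stS_one
    · right; right; right; exact psS_one α
    · right; left; exact h1
  · intro hq
    obtain ⟨r, hr⟩ : ∃ r : ℕ, Fintype.card F = r + 4 := ⟨Fintype.card F - 4, by omega⟩
    have hqc : (Fintype.card F : ℂ) = (r : ℂ) + 4 := by rw [hr]; push_cast; ring
    have ne1 : ∀ k : ℕ, 0 < k → (r : ℂ) + k ≠ 0 := by
      intro k hk h
      have : ((r + k : ℕ) : ℂ) = 0 := by push_cast; exact h
      have : r + k = 0 := by exact_mod_cast this
      omega
    have heven := even_card_of_charP_two (F := F)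
    refine ⟨?_, ?_, ?_, ?_⟩
    · have h := two_mul_card_degree (F := F) 1
      have c1 : ¬ ((1 : ℂ) = (Fintype.card F : ℂ) - 1) := by
        rw [hqc]; intro h; exact ne1 2 (by norm_num) (by push_cast; linear_combination -h)
      have c3 : ¬ ((Fintype.card F : ℂ) + 1 = 1) := by
        intro h; apply hq0; linear_combination h
      rw [if_neg c1, if_pos rfl, if_neg hq1, if_neg c3] at h
      have h' : ((2 * Nat.card {χ : Cfsg.IrrCharacter (Matrix.SpecialLinearGroup (Fin 2) F) //
          (χ : Matrix.SpecialLinearGroup (Fin 2) F → ℂ) 1 = 1} : ℕ) : ℂ) = ((2 : ℕ) : ℂ) := by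
        push_cast; rw [h]; ring
      have h'' : 2 * Nat.card {χ : Cfsg.IrrCharacter (Matrix.SpecialLinearGroup (Fin 2) F) //
          (χ : Matrix.SpecialLinearGroup (Fin 2) F → ℂ) 1 = 1} = 2 := by exact_mod_cast h'
      omega
    · have h := two_mul_card_degree (F := F) (Fintype.card F : ℂ)
      have c1 : ¬ ((Fintype.card F : ℂ) = (Fintype.card F : ℂ) - 1) := by
        intro h
        have : (1 : ℂ) = 0 := by linear_combination h
        exact one_ne_zero this
      have c2 : ¬ ((1 : ℂ) = (Fintype.card F : ℂ)) := fun h => hq1 h.symm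
      have c3 : ¬ ((Fintype.card F : ℂ) + 1 = (Fintype.card F : ℂ)) := by
        intro h
        have : (1 : ℂ) = 0 := by linear_combination h
        exact one_ne_zero this
      rw [if_neg c1, if_neg c2, if_pos rfl, if_neg c3] at h
      have h' : ((2 * Nat.card {χ : Cfsg.IrrCharacter (Matrix.SpecialLinearGroup (Fin 2) F) //
          (χ : Matrix.SpecialLinearGroup (Fin 2) F → ℂ) 1 = (Fintype.card F : ℂ)} : ℕ) : ℂ) =
          ((2 : ℕ) : ℂ) := by
        push_cast; rw [h]; ring
      have h'' : 2 * Nat.card {χ : Cfsg.IrrCharacter (Matrix.SpecialLinearGroup (Fin 2) F) //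
          (χ : Matrix.SpecialLinearGroup (Fin 2) F → ℂ) 1 = (Fintype.card F : ℂ)} = 2 := by
        exact_mod_cast h'
      omega
    · have h := two_mul_card_degree (F := F) ((Fintype.card F : ℂ) + 1)
      have c1 : ¬ ((Fintype.card F : ℂ) + 1 = (Fintype.card F : ℂ) - 1) := by
        intro h
        have : (2 : ℂ) = 0 := by linear_combination h
        norm_num at this
      have c2 : ¬ ((1 : ℂ) = (Fintype.card F : ℂ) + 1) := by
        intro h; apply hq0; linear_combination -h
      have c3 : ¬ ((Fintype.card F : ℂ) = (Fintype.card F : ℂ) + 1) := by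
        intro h
        have : (1 : ℂ) = 0 := by linear_combination -h
        exact one_ne_zero this
      rw [if_neg c1, if_neg c2, if_neg c3, if_pos rfl] at h
      have h' : ((2 * Nat.card {χ : Cfsg.IrrCharacter (Matrix.SpecialLinearGroup (Fin 2) F) //
          (χ : Matrix.SpecialLinearGroup (Fin 2) F → ℂ) 1 = (Fintype.card F : ℂ) + 1} : ℕ) : ℂ) =
          ((r + 2 : ℕ) : ℂ) := by
        push_cast; rw [h, hqc]; ring
      have h'' : 2 * Nat.card {χ : Cfsg.IrrCharacter (Matrix.SpecialLinearGroup (Fin 2) F) //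
          (χ : Matrix.SpecialLinearGroup (Fin 2) F → ℂ) 1 = (Fintype.card F : ℂ) + 1} = r + 2 := by
        exact_mod_cast h'
      omega
    · have h := two_mul_card_degree (F := F) ((Fintype.card F : ℂ) - 1)
      have c2 : ¬ ((1 : ℂ) = (Fintype.card F : ℂ) - 1) := by
        rw [hqc]; intro h; exact ne1 2 (by norm_num) (by push_cast; linear_combination -h)
      have c3 : ¬ ((Fintype.card F : ℂ) = (Fintype.card F : ℂ) - 1) := by
        intro h
        have : (1 : ℂ) = 0 := by linear_combination h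
        exact one_ne_zero this
      have c4 : ¬ ((Fintype.card F : ℂ) + 1 = (Fintype.card F : ℂ) - 1) := by
        intro h
        have : (2 : ℂ) = 0 := by linear_combination h
        norm_num at this
      rw [if_pos rfl, if_neg c2, if_neg c3, if_neg c4] at h
      have h' : ((2 * Nat.card {χ : Cfsg.IrrCharacter (Matrix.SpecialLinearGroup (Fin 2) F) //
          (χ : Matrix.SpecialLinearGroup (Fin 2) F → ℂ) 1 = (Fintype.card F : ℂ) - 1} : ℕ) : ℂ) =
          ((r + 4 : ℕ) : ℂ) := by
        push_cast; rw [h, hqc]; ring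
      have h'' : 2 * Nat.card {χ : Cfsg.IrrCharacter (Matrix.SpecialLinearGroup (Fin 2) F) //
          (χ : Matrix.SpecialLinearGroup (Fin 2) F → ℂ) 1 = (Fintype.card F : ℂ) - 1} = r + 4 := by
        exact_mod_cast h'
      omega

end Cfsg.Agent.S2300
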