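import Cfsg.Statements.S2305
import Cfsg.Agent.Helper12.GL2Mackey
import Cfsg.Agent.Helper24.Orthogonality

set_option autoImplicit false
open Cfsg

namespace Cfsg.Agent.S2305

open Cfsg.Agent.Helper12
open scoped ComplexConjugate

/-- Positive definiteness of the inner product. -/
theorem eq_zero_of_classInner_self {G : Type*} [Group G] [Fintype G] (φ : G → ℂ)
    (h : Cfsg.classInner φ φ = 0) : φ = 0 := by
  unfold Cfsg.classInner at h
  have hG : (Nat.card G : ℂ)⁻¹ ≠ 0 := by
    apply inv_ne_zero
    exact_mod_cast Nat.card_pos.ne'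
  have h1 : ∑ g : G, φ g * conj (φ g) = 0 := (mul_eq_zero.1 h).resolve_left hG
  have h2 : ∑ g : G, Complex.normSq (φ g) = 0 := by
    have h3 : ∑ g : G, φ g * conj (φ g) = ((∑ g : G, Complex.normSq (φ g) : ℝ) : ℂ) := by
      push_cast
      apply Finset.sum_congr rfl
      intro g _
      exact Complex.mul_conj (φ g)
    rw [h3] at h1
    exact_mod_cast h1
  funext g
  have h4 := (Finset.sum_eq_zero_iff_of_nonneg (fun g _ => Complex.normSq_nonneg (φ g))).1 h2 g
    (Finset.mem_univ g)
  exact Complex.normSq_eq_zero.1 h4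

/-- Over a finite field F, for multiplicative characters α, β, α′, β′ of F, the characters of GL₂ induced from the linear characters b ↦ α(b₁₁) β(b₂₂) and b ↦ α′(b₁₁) β′(b₂₂) of the upper triangular subgroup coincide exactly when {α, β} = {α′, β′} as unordered pairs. -/
theorem result {F : Type*} [Field F] [Fintype F] [DecidableEq F] (α β α' β' : MulChar F ℂ) :
    Cfsg.indFun (Cfsg.upperTriangularGL 2 F) (fun b => α (((b : Matrix.GeneralLinearGroup (Fin 2) F) : Matrix (Fin 2) (Fin 2) F) 0 0) * β (((b : Matrix.GeneralLinearGroup (Fin 2) F) : Matrix (Fin 2) (Fin 2) F) 1 1)) = Cfsg.indFun (Cfsg.upperTriangularGL 2 F) (fun b => α' (((b : Matrix.GeneralLinearGroup (Fin 2) F) : Matrix (Fin 2) (Fin 2) F) 0 0) * β' (((b : Matrix.GeneralLinearGroup (Fin 2) F) : Matrix (Fin 2) (Fin 2) F) 1 1)) ↔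
      (α = α' ∧ β = β') ∨ (α = β' ∧ β = α') := by
  classical
  change Cfsg.indFun (Cfsg.upperTriangularGL 2 F) (borelCharG α β) =
    Cfsg.indFun (Cfsg.upperTriangularGL 2 F) (borelCharG α' β') ↔ _
  constructor
  · intro h
    have h1 := classInner_indFun_borelCharG α β α' β'
    rw [← h, classInner_indFun_borelCharG, if_pos rfl, if_pos rfl] at h1
    have hX : ∀ (P Q : Prop) [Decidable P] [Decidable Q],
        ((1 : ℂ) * 1 + (if P then 1 else 0) * (if Q then 1 else 0)) ≠ 0 := by
      intro P Q _ _
      split_ifs <;> norm_num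
    by_contra hcon
    push Not at hcon
    obtain ⟨hc1, hc2⟩ := hcon
    apply hX (α = β) (β = α)
    rw [h1]
    by_cases ha : α = α'
    · have hb : β ≠ β' := hc1 ha
      rw [if_neg hb]
      by_cases ha' : α = β'
      · have hb' : β ≠ α' := hc2 ha'
        rw [if_neg hb']; ring
      · rw [if_neg ha']; ring
    · rw [if_neg ha]
      by_cases ha' : α = β'
      · have hb' : β ≠ α' := hc2 ha'
        rw [if_neg hb']; ring
      · rw [if_neg ha']; ring
  · rintro (⟨rfl, rfl⟩ | ⟨rfl, rfl⟩)
    · rfl
    · -- swap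
      have hzero : Cfsg.indFun (Cfsg.upperTriangularGL 2 F) (borelCharG α β) -
          Cfsg.indFun (Cfsg.upperTriangularGL 2 F) (borelCharG β α) = 0 := by
        apply eq_zero_of_classInner_self
        rw [Cfsg.Agent.Helper24.classInner_sub_left, Cfsg.Agent.Helper24.classInner_sub_right,
          Cfsg.Agent.Helper24.classInner_sub_right]
        simp only [classInner_indFun_borelCharG, if_true]
        split_ifs <;> simp_all
      exact sub_eq_zero.1 hzero

end Cfsg.Agent.S2305
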