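import Cfsg.Statements.S2306
import Cfsg.Agent.Helper12.SL2Mackey
import Cfsg.Agent.Helper24.Induced
import Cfsg.Agent.Helper24.Expansion

set_option autoImplicit false
open Cfsg

namespace Cfsg.Agent.S2306

open Cfsg.Agent.Helper12

/-- Over a finite field F, for a multiplicative character α of F, the function induced to SL₂ from the linear character b ↦ α(b₁₁) of the upper triangular subgroup is an irreducible character if and only if α² ≠ 1. -/
theorem result {F : Type*} [Field F] [Fintype F] [DecidableEq F] (α : MulChar F ℂ) :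
    Cfsg.IsIrrCharacter (Matrix.SpecialLinearGroup (Fin 2) F) (Cfsg.indFun ((Cfsg.upperTriangularGL 2 F).comap Matrix.SpecialLinearGroup.toGL) (fun b => α (((b : Matrix.SpecialLinearGroup (Fin 2) F) : Matrix (Fin 2) (Fin 2) F) 0 0))) ↔ α ^ 2 ≠ 1 := by
  classical
  let φ : borelSL F →* ℂ :=
    { toFun := borelChar α, map_one' := borelChar_one α, map_mul' := borelChar_mul α }
  have hchar : IsCharacter (borelSL F) (borelChar α) :=
    Cfsg.Agent.Helper24.isCharacter_of_monoidHom φ
  have hind : IsCharacter _ (indFun (borelSL F) (borelChar α)) :=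
    Cfsg.Agent.Helper24.isCharacter_indFun _ hchar
  change Cfsg.IsIrrCharacter _ (Cfsg.indFun (borelSL F) (borelChar α)) ↔ _
  have : Fintype (IrrCharacter (Matrix.SpecialLinearGroup (Fin 2) F)) := Fintype.ofFinite _
  rw [Cfsg.Agent.Helper24.isIrrCharacter_iff_classInner_self]
  have hinner := classInner_indFun_borelChar α α
  rw [if_pos rfl] at hinner
  constructor
  · rintro ⟨-, h1⟩ h2
    have h3 : α = α⁻¹ := by
      rw [eq_inv_iff_mul_eq_one, ← pow_two]; exact h2
    rw [hinner, if_pos h3] at h1
    norm_num at h1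
  · intro h
    refine ⟨hind, ?_⟩
    rw [hinner, if_neg, add_zero]
    intro h'
    apply h
    rw [pow_two]
    exact eq_inv_iff_mul_eq_one.1 h'

end Cfsg.Agent.S2306
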