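import Cfsg.Statements.S2308
import Cfsg.Agent.Helper12.GL2Borel
import Cfsg.Agent.Helper5.PermChar

set_option autoImplicit false
open Cfsg

namespace Cfsg.Agent.S2308

open Cfsg.Agent.Helper12 Cfsg.Agent.Helper8

/-- The permutation character of `GL₂` on the cosets of the Borel subgroup as a count. -/
theorem perm_formula {F : Type*} [Field F] [Fintype F] [DecidableEq F]
    (g : Matrix.GeneralLinearGroup (Fin 2) F) :
    Cfsg.fixedPointCharacter (Cfsg.upperTriangularGL 2 F) g =
      (if (g : Matrix (Fin 2) (Fin 2) F) 1 0 = 0 then (1 : ℂ) else 0) +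
      ∑ s : F, (if (g : Matrix (Fin 2) (Fin 2) F) 1 0 * s ^ 2 +
          ((g : Matrix (Fin 2) (Fin 2) F) 1 1 - (g : Matrix (Fin 2) (Fin 2) F) 0 0) * s -
          (g : Matrix (Fin 2) (Fin 2) F) 0 1 = 0 then (1 : ℂ) else 0) := by
  unfold Cfsg.fixedPointCharacter
  rw [← Cfsg.Agent.Helper5.indFun_one_eq_card_fixedBy, indFun_borelGL _ (fun _ _ => rfl)]
  have hebz : ∀ y : Matrix.GeneralLinearGroup (Fin 2) F,
      Cfsg.extendByZero (Cfsg.upperTriangularGL 2 F) (fun _ => (1 : ℂ)) y =
        if (y : Matrix (Fin 2) (Fin 2) F) 1 0 = 0 then (1 : ℂ) else 0 := by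
    intro y
    by_cases hy : (y : Matrix (Fin 2) (Fin 2) F) 1 0 = 0
    · rw [if_pos hy, ebz_mem _ _ ((mem_upperTriangularGL_two_iff y).2 hy)]
    · rw [if_neg hy, ebz_not_mem _ _ (fun h => hy ((mem_upperTriangularGL_two_iff y).1 h))]
  rw [hebz]
  congr 1
  apply Finset.sum_congr rfl
  intro s _
  rw [hebz, bruhatG_conj_coe]
  simp only [Matrix.of_apply, Matrix.cons_val', Matrix.cons_val_zero, Matrix.cons_val_one,
    Matrix.cons_val_fin_one]

/-- Values of the permutation character of GL₂ over a finite field F with q elements on the cosets of its upper triangular subgroup (equivalently, the number of lines of F² that an element maps to themselves): q + 1 at a scalar matrix, 2 at a diagonal matrix with two different diagonal entries, 0 at an element with no eigenvector in F², and 1 at an upper triangular matrix with equal diagonal entries and non-zero upper right entry. -/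
theorem result {F : Type*} [Field F] [Fintype F] (g : Matrix.GeneralLinearGroup (Fin 2) F) :
    ((∃ a : F, (g : Matrix (Fin 2) (Fin 2) F) = a • (1 : Matrix (Fin 2) (Fin 2) F)) → Cfsg.fixedPointCharacter (Cfsg.upperTriangularGL 2 F) g = Fintype.card F + 1) ∧
    ((g : Matrix (Fin 2) (Fin 2) F) 0 1 = 0 → (g : Matrix (Fin 2) (Fin 2) F) 1 0 = 0 → (g : Matrix (Fin 2) (Fin 2) F) 0 0 ≠ (g : Matrix (Fin 2) (Fin 2) F) 1 1 →
      Cfsg.fixedPointCharacter (Cfsg.upperTriangularGL 2 F) g = 2) ∧
    ((∀ (c : F) (v : Fin 2 → F), v ≠ 0 → (g : Matrix (Fin 2) (Fin 2) F).mulVec v ≠ c • v) → Cfsg.fixedPointCharacter (Cfsg.upperTriangularGL 2 F) g = 0) ∧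
    ((g : Matrix (Fin 2) (Fin 2) F) 1 0 = 0 → (g : Matrix (Fin 2) (Fin 2) F) 0 0 = (g : Matrix (Fin 2) (Fin 2) F) 1 1 → (g : Matrix (Fin 2) (Fin 2) F) 0 1 ≠ 0 →
      Cfsg.fixedPointCharacter (Cfsg.upperTriangularGL 2 F) g = 1) := by
  classical
  have key := perm_formula g
  set A : Matrix (Fin 2) (Fin 2) F := (g : Matrix (Fin 2) (Fin 2) F) with hA
  refine ⟨?_, ?_, ?_, ?_⟩
  · rintro ⟨a, ha⟩
    rw [key, ha]
    simp
    ring
  · intro h01 h10 hne
    rw [key, h10, h01, if_pos rfl]
    have hne' : A 1 1 - A 0 0 ≠ 0 := sub_ne_zero.2 (Ne.symm hne)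
    have hcond : ∀ s : F, (0 * s ^ 2 + (A 1 1 - A 0 0) * s - 0 = 0) ↔ s = 0 := by
      intro s
      constructor
      · intro h
        have : (A 1 1 - A 0 0) * s = 0 := by linear_combination h
        exact (mul_eq_zero.1 this).resolve_left hne'
      · intro h; rw [h]; ring
    simp only [hcond]
    rw [Finset.sum_ite_eq' Finset.univ (0 : F)]
    simp
    norm_num
  · intro hno
    rw [key]
    have hc : A 1 0 ≠ 0 := by
      intro h
      apply hno (A 0 0) ![1, 0] (by simp)
      ext i
      fin_cases i <;> simp [Matrix.mulVec, dotProduct, Fin.sum_univ_two, h]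
    rw [if_neg hc, zero_add]
    apply Finset.sum_eq_zero
    intro s _
    rw [if_neg]
    intro hs
    apply hno (A 1 0 * s + A 1 1) ![s, 1] (by
      intro h
      have := congrFun h 1
      simp at this)
    ext i
    fin_cases i
    · simp [Matrix.mulVec, dotProduct, Fin.sum_univ_two]
      linear_combination -hs
    · simp [Matrix.mulVec, dotProduct, Fin.sum_univ_two]
  · intro h10 heq h01
    rw [key, h10, if_pos rfl]
    have : ∑ s : F, (if 0 * s ^ 2 + (A 1 1 - A 0 0) * s - A 0 1 = 0 then (1 : ℂ) else 0) = 0 := by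
      apply Finset.sum_eq_zero
      intro s _
      rw [if_neg]
      rw [heq]
      intro h
      apply h01
      linear_combination -h
    rw [this, add_zero]

end Cfsg.Agent.S2308
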