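import Cfsg.Statements.S2309
import Cfsg.Agent.Helper12.GL2Table

set_option autoImplicit false
open Cfsg Cfsg.Agent.Helper12 Cfsg.Agent.Helper24

namespace Cfsg.Agent.S2309

/-- Over a finite field F with q elements: every irreducible complex character of GL₂ of degree q − 1 vanishes at every diagonal matrix with two distinct entries, and every irreducible complex character of degree q + 1 vanishes at every element with no eigenvector in F². -/
theorem result {F : Type*} [Field F] [Fintype F] (χ : Matrix.GeneralLinearGroup (Fin 2) F → ℂ) (hχ : Cfsg.IsIrrCharacter (Matrix.GeneralLinearGroup (Fin 2) F) χ) (g : Matrix.GeneralLinearGroup (Fin 2) F) :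
    (χ 1 = (Fintype.card F : ℂ) - 1 → (g : Matrix (Fin 2) (Fin 2) F) 0 1 = 0 → (g : Matrix (Fin 2) (Fin 2) F) 1 0 = 0 → (g : Matrix (Fin 2) (Fin 2) F) 0 0 ≠ (g : Matrix (Fin 2) (Fin 2) F) 1 1 → χ g = 0) ∧
    (χ 1 = (Fintype.card F : ℂ) + 1 → (∀ (c : F) (v : Fin 2 → F), v ≠ 0 → (g : Matrix (Fin 2) (Fin 2) F).mulVec v ≠ c • v) → χ g = 0) := by
  classical
  have hq0 := card_ne_zero_cast (F := F)
  have hq1 := card_ne_one_cast (F := F)
  constructor
  · intro hdeg h01 h10 hne
    obtain ⟨u, v, hu, hv, rfl⟩ := eq_borelMkGL_of_diag g h01 h10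
    have huv : (u : F) ≠ v := by rw [hu, hv]; exact hne
    rcases gl2_irr_cases χ hχ with ⟨α, rfl⟩ | ⟨α, rfl⟩ | ⟨α, β, _, rfl⟩ | ⟨hc, _, _⟩
    · -- q = 2, impossible since u ≠ v
      exfalso
      have h1 : (fun x : Matrix.GeneralLinearGroup (Fin 2) F => detCharHom α x) 1 = 1 := by simp
      rw [h1] at hdeg
      have h2 : (Fintype.card F : ℂ) = 2 := by linear_combination -hdeg
      have h3 : Fintype.card F = 2 := by exact_mod_cast h2
      have h4 : Fintype.card Fˣ = 1 := by rw [Fintype.card_units, h3]
      have : Subsingleton Fˣ := Fintype.card_le_one_iff_subsingleton.1 h4.le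
      exact huv (congrArg Units.val (Subsingleton.elim u v))
    · exfalso
      rw [stG_one] at hdeg
      have : (1 : ℂ) = 0 := by linear_combination hdeg
      exact one_ne_zero this
    · exfalso
      rw [psG_one] at hdeg
      have : (2 : ℂ) = 0 := by linear_combination hdeg
      norm_num at this
    · exact cusp_split_zero χ (IsCharacter.isClassFunction (IsIrrCharacter.isCharacter hχ)) hc huv
  · intro hdeg hne
    rcases gl2_irr_cases χ hχ with ⟨α, rfl⟩ | ⟨α, rfl⟩ | ⟨α, β, _, rfl⟩ | ⟨_, h1, _⟩
    · exfalso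
      have h1 : (fun x : Matrix.GeneralLinearGroup (Fin 2) F => detCharHom α x) 1 = 1 := by simp
      rw [h1] at hdeg
      apply hq0
      linear_combination -hdeg
    · exfalso
      rw [stG_one] at hdeg
      have : (1 : ℂ) = 0 := by linear_combination -hdeg
      exact one_ne_zero this
    · exact psG_no_eigen α β g hne
    · exfalso
      rw [h1] at hdeg
      have : (2 : ℂ) = 0 := by linear_combination -hdeg
      norm_num at this

end Cfsg.Agent.S2309
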