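import Cfsg.Statements.S2310
import Cfsg.Agent.Helper12.GL2Table

set_option autoImplicit false
open Cfsg Cfsg.Agent.Helper12 Cfsg.Agent.Helper24

namespace Cfsg.Agent.S2310

/-- Over a finite field F with q ≥ 3 elements, let u be the upper unitriangular matrix of GL₂ with off-diagonal entry 1. An irreducible complex character χ of GL₂ takes at u the value 1 if χ has degree 1 or q + 1, the value −1 if χ has degree q − 1, and the value 0 if χ has degree q. -/
theorem result {F : Type*} [Field F] [Fintype F] (hq : 3 ≤ Fintype.card F) (χ : Matrix.GeneralLinearGroup (Fin 2) F → ℂ) (hχ : Cfsg.IsIrrCharacter (Matrix.GeneralLinearGroup (Fin 2) F) χ)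
    (u : Matrix.GeneralLinearGroup (Fin 2) F) (hu : (u : Matrix (Fin 2) (Fin 2) F) = !![1, 1; 0, 1]) :
    (χ 1 = 1 → χ u = 1) ∧ (χ 1 = (Fintype.card F : ℂ) + 1 → χ u = 1) ∧
    (χ 1 = (Fintype.card F : ℂ) - 1 → χ u = -1) ∧ (χ 1 = (Fintype.card F : ℂ) → χ u = 0) := by
  classical
  have hq0 := card_ne_zero_cast (F := F)
  have hq1 := card_ne_one_cast (F := F)
  have hq2 : (Fintype.card F : ℂ) ≠ 2 := by
    intro h
    have : Fintype.card F = 2 := by exact_mod_cast h
    omega
  have hu' : u = borelMkGL (1 : Fˣ) 1 1 := by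
    apply Units.ext
    rw [hu, borelMkGL_coe]
    simp
  subst hu'
  have hdetu : ∀ α : MulChar F ℂ, detCharHom α (borelMkGL (1 : Fˣ) 1 (1 : F)) = 1 := by
    intro α
    rw [detCharHom_apply, borelMkGL_coe, Matrix.det_fin_two_of]
    simp
  have hst : ∀ α : MulChar F ℂ,
      (stG α : Matrix.GeneralLinearGroup (Fin 2) F → ℂ) (borelMkGL (1 : Fˣ) 1 (1 : F)) = 0 := by
    intro α
    have := congrFun (psG_self_eq α) (borelMkGL (1 : Fˣ) 1 (1 : F))
    simp only [Pi.add_apply] at this
    rw [psG_unip, hdetu] at this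
    linear_combination -this
  rcases gl2_irr_cases χ hχ with ⟨α, rfl⟩ | ⟨α, rfl⟩ | ⟨α, β, _, rfl⟩ | ⟨_, h1, h2⟩
  · have h1 : (fun x : Matrix.GeneralLinearGroup (Fin 2) F => detCharHom α x) 1 = 1 := by simp
    refine ⟨fun _ => hdetu α, fun h => ?_, fun h => ?_, fun h => ?_⟩
    · exfalso; rw [h1] at h; apply hq0; linear_combination -h
    · exfalso; rw [h1] at h; apply hq2; linear_combination -h
    · exfalso; rw [h1] at h; exact hq1 h.symm
  · refine ⟨fun h => ?_, fun h => ?_, fun h => ?_, fun _ => hst α⟩
    · exfalso; rw [stG_one] at h; exact hq1 h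
    · exfalso; rw [stG_one] at h
      have : (1 : ℂ) = 0 := by linear_combination -h
      exact one_ne_zero this
    · exfalso; rw [stG_one] at h
      have : (1 : ℂ) = 0 := by linear_combination h
      exact one_ne_zero this
  · refine ⟨fun h => ?_, fun _ => psG_unip α β, fun h => ?_, fun h => ?_⟩
    · exfalso; rw [psG_one] at h; apply hq0; linear_combination h
    · exfalso; rw [psG_one] at h
      have : (2 : ℂ) = 0 := by linear_combination h
      norm_num at this
    · exfalso; rw [psG_one] at h
      have : (1 : ℂ) = 0 := by linear_combination h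
      exact one_ne_zero this
  · refine ⟨fun h => ?_, fun h => ?_, fun _ => h2, fun h => ?_⟩
    · exfalso; rw [h1] at h; apply hq2; linear_combination h
    · exfalso; rw [h1] at h
      have : (2 : ℂ) = 0 := by linear_combination -h
      norm_num at this
    · exfalso; rw [h1] at h
      have : (1 : ℂ) = 0 := by linear_combination -h
      exact one_ne_zero this

end Cfsg.Agent.S2310
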