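import Cfsg.Statements.S2314
import Cfsg.Agent.S1053
import Cfsg.Agent.S1027
import Cfsg.Agent.Helper12.BNCntG

set_option autoImplicit false
open Cfsg

namespace Cfsg.Agent.S2314

/-- Steinberg's count of unipotent elements: in a Chevalley group of type G₂, B₂, D₄, F₄, E₆, E₇ or E₈ over a finite field of characteristic p with q elements, the number of elements of p-power order is q^(2N), N the number of positive roots — the square of the order of a Sylow p-subgroup. -/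
theorem result {F : Type*} [Field F] [Fintype F] (p : ℕ) [Fact p.Prime] [CharP F p] (D : Cfsg.Lie.ChevalleyDatum) (hD : D ∈ [Cfsg.Lie.chevG2, Cfsg.Lie.chevB2, Cfsg.Lie.chevD4, Cfsg.Lie.chevF4, Cfsg.Lie.chevE6, Cfsg.Lie.chevE7, Cfsg.Lie.chevE8]) :
    Nat.card {g : ↥(D.group F) // ∃ k : ℕ, orderOf g = p ^ k} = Fintype.card F ^ (2 * (D.nroots / 2)) := by
  have Δ := Cfsg.Agent.Helper6.bnData_of_tabulated F hD
  have hw0 := Cfsg.Agent.S1053.result (F := F) D hD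
  have hU := Cfsg.Agent.S1027.result (F := F) D hD
  have hD' := hD
  simp only [List.mem_cons, List.not_mem_nil, or_false] at hD'
  rcases hD' with rfl | rfl | rfl | rfl | rfl | rfl | rfl
  · exact Cfsg.Agent.Helper12.BNCnt.card_pElts
      (⟨Δ, Cfsg.Agent.Helper2.Levi.signChk_G2⟩ :
        Cfsg.Agent.Helper2.Levi.LData Cfsg.Lie.chevG2 F Cfsg.Agent.Helper2.Levi.cG2)
      p hD Cfsg.Agent.Helper2.Levi.jreachChk_G2 hw0 hU
  · exact Cfsg.Agent.Helper12.BNCnt.card_pElts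
      (⟨Δ, Cfsg.Agent.Helper2.Levi.signChk_B2⟩ :
        Cfsg.Agent.Helper2.Levi.LData Cfsg.Lie.chevB2 F Cfsg.Agent.Helper2.Levi.cB2)
      p hD Cfsg.Agent.Helper2.Levi.jreachChk_B2 hw0 hU
  · exact Cfsg.Agent.Helper12.BNCnt.card_pElts
      (⟨Δ, Cfsg.Agent.Helper2.Levi.signChk_D4⟩ :
        Cfsg.Agent.Helper2.Levi.LData Cfsg.Lie.chevD4 F Cfsg.Agent.Helper2.Levi.cD4)
      p hD Cfsg.Agent.Helper2.Levi.jreachChk_D4 hw0 hU
  · exact Cfsg.Agent.Helper12.BNCnt.card_pElts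
      (⟨Δ, Cfsg.Agent.Helper2.Levi.signChk_F4⟩ :
        Cfsg.Agent.Helper2.Levi.LData Cfsg.Lie.chevF4 F Cfsg.Agent.Helper2.Levi.cF4)
      p hD Cfsg.Agent.Helper2.Levi.jreachChk_F4 hw0 hU
  · exact Cfsg.Agent.Helper12.BNCnt.card_pElts
      (⟨Δ, Cfsg.Agent.Helper2.Levi.signChk_E6⟩ :
        Cfsg.Agent.Helper2.Levi.LData Cfsg.Lie.chevE6 F Cfsg.Agent.Helper2.Levi.cE6)
      p hD Cfsg.Agent.Helper2.Levi.jreachChk_E6 hw0 hU
  · exact Cfsg.Agent.Helper12.BNCnt.card_pElts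
      (⟨Δ, Cfsg.Agent.Helper2.Levi.signChk_E7⟩ :
        Cfsg.Agent.Helper2.Levi.LData Cfsg.Lie.chevE7 F Cfsg.Agent.Helper2.Levi.cE7)
      p hD Cfsg.Agent.Helper2.Levi.jreachChk_E7 hw0 hU
  · exact Cfsg.Agent.Helper12.BNCnt.card_pElts
      (⟨Δ, Cfsg.Agent.Helper2.Levi.signChk_E8⟩ :
        Cfsg.Agent.Helper2.Levi.LData Cfsg.Lie.chevE8 F Cfsg.Agent.Helper2.Levi.cE8)
      p hD Cfsg.Agent.Helper2.Levi.jreachChk_E8 hw0 hU

end Cfsg.Agent.S2314
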