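import Cfsg.Statements.S2315
import Cfsg.Agent.Helper21.NilCount6
import Cfsg.Agent.Helper12.Unipotent

set_option autoImplicit false
open Cfsg

namespace Cfsg.Agent.S2315

open Cfsg.Agent.Helper21.NilCount in
/-- nilpotent matrices over a finite field -/
theorem card_nilpotent_matrix {F : Type*} [Field F] [Fintype F] (n : ℕ) :
    Nat.card {M : Matrix (Fin n) (Fin n) F // IsNilpotent M} = Fintype.card F ^ (n * (n - 1)) := by
  have h1 := card_nilpotent_end (K := F) (Fin n → F)
  rw [Module.finrank_fin_fun, Nat.card_eq_fintype_card (α := F)] at h1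
  rw [← h1]
  exact Nat.card_congr (Equiv.subtypeEquiv Matrix.toLin'.toEquiv
    (fun A => (Matrix.isNilpotent_toLin'_iff A).symm))

/-- `p`-elements of `GL_n` correspond to nilpotent matrices -/
theorem card_pElements_eq {F : Type*} [Field F] [Fintype F] (p : ℕ) [Fact p.Prime] [CharP F p]
    (n : ℕ) (hn : 0 < n) :
    Nat.card {g : Matrix.GeneralLinearGroup (Fin n) F // ∃ k : ℕ, orderOf g = p ^ k}
      = Nat.card {M : Matrix (Fin n) (Fin n) F // IsNilpotent M} := by
  have hne : Nonempty (Fin n) := ⟨⟨0, hn⟩⟩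
  have hp : p.Prime := Fact.out
  let φ : {g : Matrix.GeneralLinearGroup (Fin n) F // ∃ k : ℕ, orderOf g = p ^ k} →
      {M : Matrix (Fin n) (Fin n) F // IsNilpotent M} := fun g =>
    ⟨(g.1 : Matrix (Fin n) (Fin n) F) - 1, by
      obtain ⟨k, hk⟩ := g.2
      refine ⟨p ^ k, ?_⟩
      apply Cfsg.Agent.Helper12.sub_one_pow_eq_zero_of_pow_eq_one p
      have h1 : g.1 ^ (p ^ k) = 1 := by rw [← hk]; exact pow_orderOf_eq_one _
      have h2 := congrArg (fun u : Matrix.GeneralLinearGroup (Fin n) F =>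
        (u : Matrix (Fin n) (Fin n) F)) h1
      simpa using h2⟩
  refine Nat.card_congr (Equiv.ofBijective φ ⟨?_, ?_⟩)
  · rintro ⟨g, hg⟩ ⟨h, hh⟩ hgh
    have h1 : (g : Matrix (Fin n) (Fin n) F) - 1 = (h : Matrix (Fin n) (Fin n) F) - 1 :=
      congrArg Subtype.val hgh
    apply Subtype.ext
    apply Units.ext
    exact sub_left_injective h1
  · rintro ⟨M, hM⟩
    have hu : IsUnit (1 + M) := hM.isUnit_one_add
    obtain ⟨N, hN⟩ := hM
    have hpow : (hu.unit : Matrix.GeneralLinearGroup (Fin n) F) ^ (p ^ N) = 1 := by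
      apply Units.ext
      rw [Units.val_pow_eq_pow_val, IsUnit.unit_spec, Units.val_one]
      apply Cfsg.Agent.Helper12.pow_eq_one_of_sub_one_pow_eq_zero p
      rw [add_sub_cancel_left]
      have hle : N ≤ p ^ N := (Nat.lt_pow_self hp.one_lt).le
      exact pow_eq_zero_of_le hle hN
    have hord : ∃ k, orderOf (hu.unit : Matrix.GeneralLinearGroup (Fin n) F) = p ^ k := by
      obtain ⟨i, _, hi⟩ := (Nat.dvd_prime_pow hp).mp (orderOf_dvd_of_pow_eq_one hpow)
      exact ⟨i, hi⟩
    refine ⟨⟨hu.unit, hord⟩, ?_⟩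
    apply Subtype.ext
    simp only [φ, IsUnit.unit_spec, add_sub_cancel_left]

/-- Steinberg's count of unipotent elements for the general linear group: over a finite field with q elements of characteristic p, the number of elements of GL_n of p-power order (the unipotent matrices) is q^(n(n−1)). -/
theorem result {F : Type*} [Field F] [Fintype F] (p : ℕ) [Fact p.Prime] [CharP F p] (n : ℕ) :
    Nat.card {g : Matrix.GeneralLinearGroup (Fin n) F // ∃ k : ℕ, orderOf g = p ^ k} = Fintype.card F ^ (n * (n - 1)) := by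
  rcases Nat.eq_zero_or_pos n with rfl | hn
  · simp only [zero_mul, pow_zero]
    rw [Nat.card_eq_one_iff_unique]
    refine ⟨⟨?_⟩, ⟨⟨1, 0, by simp⟩⟩⟩
    rintro ⟨a, _⟩ ⟨b, _⟩
    apply Subtype.ext
    apply Units.ext
    exact Subsingleton.elim _ _
  · rw [card_pElements_eq p n hn, card_nilpotent_matrix]

end Cfsg.Agent.S2315
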