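import Cfsg.Statements.S2320
import Cfsg.Agent.Helper12.GL2Table

set_option autoImplicit false
open Cfsg Cfsg.Agent.Helper12 Cfsg.Agent.Helper24

namespace Cfsg.Agent.S2320

/-- Over a finite field F with q elements, every irreducible complex character of GL₂ of degree q takes a value of absolute value 1 at every diagonal matrix with two different diagonal entries and at every element with no eigenvector in F². -/
theorem result {F : Type*} [Field F] [Fintype F] (χ : Matrix.GeneralLinearGroup (Fin 2) F → ℂ) (hχ : Cfsg.IsIrrCharacter (Matrix.GeneralLinearGroup (Fin 2) F) χ) (hdeg : χ 1 = (Fintype.card F : ℂ)) (g : Matrix.GeneralLinearGroup (Fin 2) F) :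
    ((g : Matrix (Fin 2) (Fin 2) F) 0 1 = 0 → (g : Matrix (Fin 2) (Fin 2) F) 1 0 = 0 → (g : Matrix (Fin 2) (Fin 2) F) 0 0 ≠ (g : Matrix (Fin 2) (Fin 2) F) 1 1 → ‖χ g‖ = 1) ∧
    ((∀ (c : F) (v : Fin 2 → F), v ≠ 0 → (g : Matrix (Fin 2) (Fin 2) F).mulVec v ≠ c • v) → ‖χ g‖ = 1) := by
  classical
  have hq0 := card_ne_zero_cast (F := F)
  have hq1 := card_ne_one_cast (F := F)
  -- χ is a Steinberg-type character
  have hst : ∃ α : MulChar F ℂ, χ = (stG α : Matrix.GeneralLinearGroup (Fin 2) F → ℂ) := by
    rcases gl2_irr_cases χ hχ with ⟨α, rfl⟩ | ⟨α, rfl⟩ | ⟨α, β, _, rfl⟩ | ⟨_, h1, _⟩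
    · exfalso
      have h1 : (fun x : Matrix.GeneralLinearGroup (Fin 2) F => detCharHom α x) 1 = 1 := by simp
      rw [h1] at hdeg
      exact hq1 hdeg.symm
    · exact ⟨α, rfl⟩
    · exfalso
      rw [psG_one] at hdeg
      have : (1 : ℂ) = 0 := by linear_combination hdeg
      exact one_ne_zero this
    · exfalso
      rw [h1] at hdeg
      have : (1 : ℂ) = 0 := by linear_combination -hdeg
      exact one_ne_zero this
  obtain ⟨α, rfl⟩ := hst
  have hval : ∀ x : Matrix.GeneralLinearGroup (Fin 2) F,
      (stG α : Matrix.GeneralLinearGroup (Fin 2) F → ℂ) x = psG α α x - detCharHom α x := by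
    intro x
    have := congrFun (psG_self_eq α) x
    simp only [Pi.add_apply] at this
    rw [this]; ring
  constructor
  · intro h01 h10 hne
    obtain ⟨u, v, hu, hv, rfl⟩ := eq_borelMkGL_of_diag g h01 h10
    have huv : (u : F) ≠ v := by rw [hu, hv]; exact hne
    rw [hval, psG_split α α huv, detCharHom_apply, borelMkGL_coe, Matrix.det_fin_two_of,
      mul_zero, sub_zero, map_mul]
    have : α (u : F) * α (v : F) + α (v : F) * α (u : F) - α (u : F) * α (v : F) =
        α (u : F) * α (v : F) := by ring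
    rw [this, norm_mul, norm_mulChar_unit, norm_mulChar_unit, one_mul]
  · intro hne
    rw [hval, psG_no_eigen α α g hne, zero_sub, norm_neg, detCharHom_apply]
    have hdet := gl2_det_ne_zero g
    have := norm_mulChar_unit α (Units.mk0 _ hdet)
    simpa using this

end Cfsg.Agent.S2320
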