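import Cfsg.Statements.S2321
import Cfsg.Agent.Helper12.SL2TableOdd
import Cfsg.Agent.Helper12.SL2TableEven

set_option autoImplicit false
open Cfsg Cfsg.Agent.Helper12 Cfsg.Agent.Helper24

namespace Cfsg.Agent.S2321

/-- An irreducible character of `SL₂(q)` of degree `q` is the Steinberg character. -/
theorem eq_stS_of_degree {F : Type*} [Field F] [Fintype F] [DecidableEq F]
    (χ : Matrix.SpecialLinearGroup (Fin 2) F → ℂ)
    (hχ : Cfsg.IsIrrCharacter (Matrix.SpecialLinearGroup (Fin 2) F) χ)
    (hdeg : χ 1 = (Fintype.card F : ℂ)) :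
    χ = (stS (F := F) : Matrix.SpecialLinearGroup (Fin 2) F → ℂ) := by
  have hq0 := card_ne_zero_cast (F := F)
  have hq1 := card_ne_one_cast (F := F)
  by_cases hF : ringChar F = 2
  · have : CharP F 2 := ringChar.of_eq hF
    rcases sl2_even_irr_cases χ hχ with rfl | rfl | ⟨α, _, rfl⟩ | ⟨_, h1, _⟩
    · exfalso
      have : (trivS (F := F)) 1 = 1 := rfl
      rw [this] at hdeg
      exact hq1 hdeg.symm
    · rfl
    · exfalso
      rw [psS_one] at hdeg
      have : (1 : ℂ) = 0 := by linear_combination hdeg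
      exact one_ne_zero this
    · exfalso
      rw [h1] at hdeg
      have : (1 : ℂ) = 0 := by linear_combination -hdeg
      exact one_ne_zero this
  · have hodd : Odd (Fintype.card F) := Nat.odd_iff.2 (FiniteField.odd_card_of_char_ne_two hF)
    obtain ⟨ε, hε⟩ := FiniteField.exists_nonsquare hF
    obtain ⟨hh1, hh2⟩ := half_cast_odd hodd
    rcases sl2_odd_irr_cases hodd hε χ hχ with rfl | rfl | ⟨α, _, rfl⟩ | h | ⟨_, ⟨h1, _⟩ | ⟨h1, _⟩⟩
    · exfalso
      have : (trivS (F := F)) 1 = 1 := rfl
      rw [this] at hdeg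
      exact hq1 hdeg.symm
    · rfl
    · exfalso
      rw [psS_one] at hdeg
      have : (1 : ℂ) = 0 := by linear_combination hdeg
      exact one_ne_zero this
    · exfalso
      have hd : χ 1 = (((Fintype.card F + 1) / 2 : ℕ) : ℂ) := by
        rcases h with rfl | rfl
        · exact (pairS_sgn_spec hodd).1
        · exact (pairS_sgn_spec hodd).2.1
      rw [hdeg] at hd
      apply hq1
      linear_combination 2 * hd + hh1
    · exfalso
      rw [h1] at hdeg
      have : (1 : ℂ) = 0 := by linear_combination -hdeg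
      exact one_ne_zero this
    · exfalso
      rw [hdeg] at h1
      have : (Fintype.card F : ℂ) = -1 := by linear_combination h1
      have h2 : ((Fintype.card F + 1 : ℕ) : ℂ) = 0 := by push_cast; rw [this]; ring
      have : Fintype.card F + 1 = 0 := by exact_mod_cast h2
      omega

/-- Over a finite field F with q elements, an irreducible complex character of SL₂ of degree q (the Steinberg character) takes the value 1 at every diagonal matrix whose diagonal entry a has a² ≠ 1, the value −1 at every element with no eigenvector in F², and the value 0 at every upper triangular matrix with equal diagonal entries and non-zero upper right entry. -/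
theorem result {F : Type*} [Field F] [Fintype F] (χ : Matrix.SpecialLinearGroup (Fin 2) F → ℂ) (hχ : Cfsg.IsIrrCharacter (Matrix.SpecialLinearGroup (Fin 2) F) χ) (hdeg : χ 1 = (Fintype.card F : ℂ)) (g : Matrix.SpecialLinearGroup (Fin 2) F) :
    ((g : Matrix (Fin 2) (Fin 2) F) 0 1 = 0 → (g : Matrix (Fin 2) (Fin 2) F) 1 0 = 0 → (g : Matrix (Fin 2) (Fin 2) F) 0 0 ^ 2 ≠ 1 → χ g = 1) ∧
    ((∀ (c : F) (v : Fin 2 → F), v ≠ 0 → (g : Matrix (Fin 2) (Fin 2) F).mulVec v ≠ c • v) → χ g = -1) ∧
    ((g : Matrix (Fin 2) (Fin 2) F) 1 0 = 0 → (g : Matrix (Fin 2) (Fin 2) F) 0 0 = (g : Matrix (Fin 2) (Fin 2) F) 1 1 → (g : Matrix (Fin 2) (Fin 2) F) 0 1 ≠ 0 → χ g = 0) := by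
  classical
  have hst := eq_stS_of_degree χ hχ hdeg
  subst hst
  refine ⟨?_, ?_, ?_⟩
  · intro h01 h10 hsq
    obtain ⟨u, hu, hu', hg⟩ := eq_borelMkSL_of_upper g h10
    rw [h01] at hg
    have hne : (u : F) ≠ ((u⁻¹ : Fˣ) : F) := by
      intro h
      apply hsq
      rw [← hu, pow_two]
      nth_rewrite 2 [h]
      rw [← Units.val_mul, mul_inv_cancel, Units.val_one]
    rw [hg, stS_apply, psS_split _ hne]
    rw [MulChar.one_apply_coe, MulChar.one_apply_coe]
    norm_num
  · intro hne
    rw [stS_apply, psS_no_eigen _ g hne]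
    ring
  · intro h10 heq h01
    obtain ⟨u, hu, hu', hg⟩ := eq_borelMkSL_of_upper g h10
    have hueq : (u : F) = ((u⁻¹ : Fˣ) : F) := by rw [hu, hu']; exact heq
    rw [hg, stS_apply, psS_unip _ hueq h01, MulChar.one_apply_coe]
    ring

end Cfsg.Agent.S2321
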