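import Cfsg.Statements.S2322
import Cfsg.Agent.Helper12.SL2Three

set_option autoImplicit false
open Cfsg Cfsg.Agent.Helper12 Cfsg.Agent.Helper24

namespace Cfsg.Agent.S2322

/-- Over a finite field F with q elements, q odd: every irreducible complex character of SL₂ of degree q − 1 or (q − 1)/2 vanishes at every diagonal matrix whose diagonal entry a has a² ≠ 1, and every irreducible complex character of degree q + 1 or (q + 1)/2 vanishes at every element with no eigenvector in F². -/
theorem result {F : Type*} [Field F] [Fintype F] (hodd : Odd (Fintype.card F)) (χ : Matrix.SpecialLinearGroup (Fin 2) F → ℂ) (hχ : Cfsg.IsIrrCharacter (Matrix.SpecialLinearGroup (Fin 2) F) χ) (g : Matrix.SpecialLinearGroup (Fin 2) F) :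
    ((χ 1 = (Fintype.card F : ℂ) - 1 ∨ χ 1 = (((Fintype.card F - 1) / 2 : ℕ) : ℂ)) →
      (g : Matrix (Fin 2) (Fin 2) F) 0 1 = 0 → (g : Matrix (Fin 2) (Fin 2) F) 1 0 = 0 → (g : Matrix (Fin 2) (Fin 2) F) 0 0 ^ 2 ≠ 1 → χ g = 0) ∧
    ((χ 1 = (Fintype.card F : ℂ) + 1 ∨ χ 1 = (((Fintype.card F + 1) / 2 : ℕ) : ℂ)) →
      (∀ (c : F) (v : Fin 2 → F), v ≠ 0 → (g : Matrix (Fin 2) (Fin 2) F).mulVec v ≠ c • v) → χ g = 0) := by
  classical
  have hF := ringChar_ne_two_of_odd hodd
  obtain ⟨ε, hε⟩ := FiniteField.exists_nonsquare hF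
  have hcf := IsCharacter.isClassFunction (IsIrrCharacter.isCharacter hχ)
  have ne1 : ∀ a b : ℕ, a ≠ b → ¬ ((a : ℂ) = (b : ℂ)) := by
    intro a b hab h
    exact hab (by exact_mod_cast h)
  have hq3 : 3 ≤ Fintype.card F := by
    have : 1 < Fintype.card F := Fintype.one_lt_card
    obtain ⟨k, hk⟩ := hodd
    omega
  by_cases h3 : Fintype.card F = 3
  · -- the field with three elements
    constructor
    · intro _ h01 h10 hsq
      exfalso
      apply hsq
      apply sq_eq_one_of_card_three h3
      intro h0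
      have hdet := g.2
      rw [Matrix.det_fin_two, h0, h01] at hdet
      simp at hdet
    · intro hdeg hne
      have e1 : (Fintype.card F + 1) / 2 = 2 := by rw [h3]
      have c1 : (Fintype.card F : ℂ) + 1 = ((4 : ℕ) : ℂ) := by rw [h3]; norm_num
      have c2 : (Fintype.card F : ℂ) - 1 = ((2 : ℕ) : ℂ) := by rw [h3]; norm_num
      have c3 : (Fintype.card F : ℂ) = ((3 : ℕ) : ℂ) := by rw [h3]
      rw [e1, c1] at hdeg
      rcases sl2_odd_irr_cases hodd hε χ hχ with rfl | rfl | ⟨α, _, rfl⟩ | h | ⟨hc, ⟨h1, _⟩ | ⟨h1, _⟩⟩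
      · exfalso
        have : (trivS (F := F)) 1 = ((1 : ℕ) : ℂ) := by simp [trivS]
        rw [this] at hdeg
        rcases hdeg with h | h
        · exact ne1 _ _ (by norm_num) h
        · exact ne1 _ _ (by norm_num) h
      · exfalso
        rw [stS_one, c3] at hdeg
        rcases hdeg with h | h
        · exact ne1 _ _ (by norm_num) h
        · exact ne1 _ _ (by norm_num) h
      · exact psS_no_eigen α g hne
      · rcases h with rfl | rfl
        · exact (xi_no_eigen hodd g hne).1
        · exact (xi_no_eigen hodd g hne).2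
      · exact cusp_full_no_eigen_three h3 χ hχ hc h1 g hne
      · exfalso
        rw [c2] at h1
        have h1' : χ 1 = ((1 : ℕ) : ℂ) := by push_cast at h1 ⊢; linear_combination h1 / 2
        rw [h1'] at hdeg
        rcases hdeg with h | h
        · exact ne1 _ _ (by norm_num) h
        · exact ne1 _ _ (by norm_num) h
  · obtain ⟨r, hr⟩ : ∃ r : ℕ, Fintype.card F = 2 * r + 5 := by
      obtain ⟨k, hk⟩ := hodd
      exact ⟨k - 2, by omega⟩
    have e1 : (Fintype.card F + 1) / 2 = r + 3 := by omega
    have e2 : (Fintype.card F - 1) / 2 = r + 2 := by omega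
    have c3 : (Fintype.card F : ℂ) + 1 = ((2 * r + 6 : ℕ) : ℂ) := by rw [hr]; push_cast; ring
    have c4 : (Fintype.card F : ℂ) - 1 = ((2 * r + 4 : ℕ) : ℂ) := by rw [hr]; push_cast; ring
    rw [e1, e2, c3, c4]
    have hcusp_zero : IsCuspS χ → (g : Matrix (Fin 2) (Fin 2) F) 0 1 = 0 →
        (g : Matrix (Fin 2) (Fin 2) F) 1 0 = 0 → (g : Matrix (Fin 2) (Fin 2) F) 0 0 ^ 2 ≠ 1 →
        χ g = 0 := by
      intro hc h01 h10 hsq
      obtain ⟨u, hu, hu', hg⟩ := eq_borelMkSL_of_upper g h10
      rw [h01] at hg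
      have hne : (u : F) ≠ ((u⁻¹ : Fˣ) : F) := by
        intro h
        apply hsq
        rw [← hu, pow_two]
        nth_rewrite 2 [h]
        rw [← Units.val_mul, mul_inv_cancel, Units.val_one]
      rw [hg]
      exact cuspS_split_zero χ hcf hc hne
    rcases sl2_odd_cases_nat hodd r hr hε χ hχ with ⟨rfl, hd⟩ | ⟨rfl, hd⟩ | ⟨α, hα, rfl, hd⟩ |
      ⟨h, hd⟩ | ⟨hc, hd, _⟩ | ⟨hc, hd, _⟩
    · rw [hd]
      refine ⟨fun h => ?_, fun h => ?_⟩
      · rcases h with h | h
        · exact absurd h (ne1 _ _ (by omega))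
        · exact absurd h (ne1 _ _ (by omega))
      · rcases h with h | h
        · exact absurd h (ne1 _ _ (by omega))
        · exact absurd h (ne1 _ _ (by omega))
    · rw [hd]
      refine ⟨fun h => ?_, fun h => ?_⟩
      · rcases h with h | h
        · exact absurd h (ne1 _ _ (by omega))
        · exact absurd h (ne1 _ _ (by omega))
      · rcases h with h | h
        · exact absurd h (ne1 _ _ (by omega))
        · exact absurd h (ne1 _ _ (by omega))
    · rw [hd]
      refine ⟨fun h => ?_, fun _ hne => psS_no_eigen α g hne⟩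
      rcases h with h | h
      · exact absurd h (ne1 _ _ (by omega))
      · exact absurd h (ne1 _ _ (by omega))
    · rw [hd]
      refine ⟨fun h' => ?_, fun _ hne => ?_⟩
      · rcases h' with h' | h'
        · exact absurd h' (ne1 _ _ (by omega))
        · exact absurd h' (ne1 _ _ (by omega))
      · rcases h with rfl | rfl
        · exact (xi_no_eigen hodd g hne).1
        · exact (xi_no_eigen hodd g hne).2
    · rw [hd]
      refine ⟨fun _ => hcusp_zero hc, fun h => ?_⟩
      rcases h with h | h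
      · exact absurd h (ne1 _ _ (by omega))
      · exact absurd h (ne1 _ _ (by omega))
    · rw [hd]
      refine ⟨fun _ => hcusp_zero hc, fun h => ?_⟩
      rcases h with h | h
      · exact absurd h (ne1 _ _ (by omega))
      · exact absurd h (ne1 _ _ (by omega))

end Cfsg.Agent.S2322
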