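import Cfsg.Statements.S2323
import Cfsg.Agent.Helper12.SL2Inv
import Cfsg.Agent.Helper12.SL2TableEven

set_option autoImplicit false
open Cfsg Cfsg.Agent.Helper12 Cfsg.Agent.Helper24

namespace Cfsg.Agent.S2323

/-- Over a finite field F with q ≥ 4 elements, let u be the upper unitriangular matrix of SL₂ with off-diagonal entry 1. An irreducible complex character of SL₂ takes at u the value 1 if its degree is q + 1 and the value −1 if its degree is q − 1. -/
theorem result {F : Type*} [Field F] [Fintype F] (hq : 4 ≤ Fintype.card F) (χ : Matrix.SpecialLinearGroup (Fin 2) F → ℂ) (hχ : Cfsg.IsIrrCharacter (Matrix.SpecialLinearGroup (Fin 2) F) χ)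
    (u : Matrix.SpecialLinearGroup (Fin 2) F) (hu : (u : Matrix (Fin 2) (Fin 2) F) = !![1, 1; 0, 1]) :
    (χ 1 = (Fintype.card F : ℂ) + 1 → χ u = 1) ∧ (χ 1 = (Fintype.card F : ℂ) - 1 → χ u = -1) := by
  classical
  have hq0 := card_ne_zero_cast (F := F)
  have hq1 := card_ne_one_cast (F := F)
  have hu' : u = borelMkSL (1 : Fˣ) 1 := by
    apply Subtype.ext
    rw [hu, borelMkSL_coe]
    simp
  subst hu'
  have hps : ∀ α : MulChar F ℂ, psS α (borelMkSL (1 : Fˣ) (1 : F)) = 1 := by
    intro α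
    rw [psS_unip α (by simp) one_ne_zero]
    simp
  by_cases hF : ringChar F = 2
  · have : CharP F 2 := ringChar.of_eq hF
    have hq2 : (Fintype.card F : ℂ) ≠ 2 := by
      intro h
      have : Fintype.card F = 2 := by exact_mod_cast h
      omega
    rcases sl2_even_irr_cases χ hχ with rfl | rfl | ⟨α, _, rfl⟩ | ⟨_, h1, h2⟩
    · have ht : (trivS (F := F)) 1 = 1 := rfl
      refine ⟨fun h => ?_, fun h => ?_⟩
      · exfalso; rw [ht] at h; apply hq0; linear_combination -h
      · exfalso; rw [ht] at h; apply hq2; linear_combination -h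
    · refine ⟨fun h => ?_, fun h => ?_⟩
      · exfalso; rw [stS_one] at h
        have : (1 : ℂ) = 0 := by linear_combination -h
        exact one_ne_zero this
      · exfalso; rw [stS_one] at h
        have : (1 : ℂ) = 0 := by linear_combination h
        exact one_ne_zero this
    · refine ⟨fun _ => hps α, fun h => ?_⟩
      exfalso; rw [psS_one] at h
      have : (2 : ℂ) = 0 := by linear_combination h
      norm_num at this
    · refine ⟨fun h => ?_, fun _ => h2⟩
      exfalso; rw [h1] at h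
      have : (2 : ℂ) = 0 := by linear_combination -h
      norm_num at this
  · have hodd : Odd (Fintype.card F) := Nat.odd_iff.2 (FiniteField.odd_card_of_char_ne_two hF)
    obtain ⟨ε, hε⟩ := FiniteField.exists_nonsquare hF
    have hε0 : ε ≠ 0 := by
      rintro rfl
      exact hε ⟨0, by simp⟩
    obtain ⟨r, hr⟩ : ∃ r : ℕ, Fintype.card F = 2 * r + 5 := by
      obtain ⟨k, hk⟩ := hodd
      exact ⟨k - 2, by omega⟩
    have c3 : (Fintype.card F : ℂ) + 1 = ((2 * r + 6 : ℕ) : ℂ) := by rw [hr]; push_cast; ring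
    have c4 : (Fintype.card F : ℂ) - 1 = ((2 * r + 4 : ℕ) : ℂ) := by rw [hr]; push_cast; ring
    have ne1 : ∀ a b : ℕ, a ≠ b → ¬ ((a : ℂ) = (b : ℂ)) := by
      intro a b hab h
      exact hab (by exact_mod_cast h)
    rw [c3, c4]
    rcases sl2_odd_cases_nat hodd r hr hε χ hχ with ⟨rfl, hd⟩ | ⟨rfl, hd⟩ | ⟨α, hα, rfl, hd⟩ |
      ⟨h, hd⟩ | ⟨hc, hd, hs⟩ | ⟨hc, hd, _⟩
    · rw [hd]
      exact ⟨fun h => absurd h (ne1 _ _ (by omega)), fun h => absurd h (ne1 _ _ (by omega))⟩
    · rw [hd]
      exact ⟨fun h => absurd h (ne1 _ _ (by omega)), fun h => absurd h (ne1 _ _ (by omega))⟩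
    · rw [hd]
      exact ⟨fun _ => hps α, fun h => absurd h (ne1 _ _ (by omega))⟩
    · rw [hd]
      exact ⟨fun h => absurd h (ne1 _ _ (by omega)), fun h => absurd h (ne1 _ _ (by omega))⟩
    · rw [hd]
      refine ⟨fun h => absurd h (ne1 _ _ (by omega)), fun _ => ?_⟩
      exact (cuspS_full_unip hε0 χ hχ hc (by rw [hd, c4]) hs).1
    · rw [hd]
      exact ⟨fun h => absurd h (ne1 _ _ (by omega)), fun h => absurd h (ne1 _ _ (by omega))⟩

end Cfsg.Agent.S2323
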