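import Cfsg.Statements.S2324
import Cfsg.Agent.Helper12.SL2HalfVal
import Cfsg.Agent.Helper12.SL2OddCases

set_option autoImplicit false
open Cfsg Cfsg.Agent.Helper12 Cfsg.Agent.Helper24

namespace Cfsg.Agent.S2324

/-- Over a finite field F with q elements, q odd and q ≥ 5, let u be the upper unitriangular matrix of SL₂ with off-diagonal entry 1 and let δ = (−1)^((q−1)/2). Every irreducible complex character χ of SL₂ of degree (q + 1)/2 satisfies (2χ(u) − 1)² = δq, and every irreducible complex character χ of degree (q − 1)/2 satisfies (2χ(u) + 1)² = δq; that is, χ(u) = (1 ± √(δq))/2 in the first case and χ(u) = (−1 ± √(δq))/2 in the second. Moreover two different irreducible characters of degree (q + 1)/2 take the two different values (their values at u add up to 1), and likewise for degree (q − 1)/2 (values adding up to −1). -/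
theorem result {F : Type*} [Field F] [Fintype F] (hodd : Odd (Fintype.card F)) (hq : 5 ≤ Fintype.card F)
    (u : Matrix.SpecialLinearGroup (Fin 2) F) (hu : (u : Matrix (Fin 2) (Fin 2) F) = !![1, 1; 0, 1]) :
    (∀ χ : Matrix.SpecialLinearGroup (Fin 2) F → ℂ, Cfsg.IsIrrCharacter (Matrix.SpecialLinearGroup (Fin 2) F) χ → χ 1 = (((Fintype.card F + 1) / 2 : ℕ) : ℂ) → (2 * χ u - 1) ^ 2 = (-1 : ℂ) ^ ((Fintype.card F - 1) / 2) * (Fintype.card F : ℂ)) ∧
    (∀ χ : Matrix.SpecialLinearGroup (Fin 2) F → ℂ, Cfsg.IsIrrCharacter (Matrix.SpecialLinearGroup (Fin 2) F) χ → χ 1 = (((Fintype.card F - 1) / 2 : ℕ) : ℂ) → (2 * χ u + 1) ^ 2 = (-1 : ℂ) ^ ((Fintype.card F - 1) / 2) * (Fintype.card F : ℂ)) ∧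
    (∀ χ₁ χ₂ : Matrix.SpecialLinearGroup (Fin 2) F → ℂ, Cfsg.IsIrrCharacter (Matrix.SpecialLinearGroup (Fin 2) F) χ₁ → Cfsg.IsIrrCharacter (Matrix.SpecialLinearGroup (Fin 2) F) χ₂ → χ₁ ≠ χ₂ →
      χ₁ 1 = (((Fintype.card F + 1) / 2 : ℕ) : ℂ) → χ₂ 1 = (((Fintype.card F + 1) / 2 : ℕ) : ℂ) → χ₁ u + χ₂ u = 1) ∧
    (∀ χ₁ χ₂ : Matrix.SpecialLinearGroup (Fin 2) F → ℂ, Cfsg.IsIrrCharacter (Matrix.SpecialLinearGroup (Fin 2) F) χ₁ → Cfsg.IsIrrCharacter (Matrix.SpecialLinearGroup (Fin 2) F) χ₂ → χ₁ ≠ χ₂ →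
      χ₁ 1 = (((Fintype.card F - 1) / 2 : ℕ) : ℂ) → χ₂ 1 = (((Fintype.card F - 1) / 2 : ℕ) : ℂ) → χ₁ u + χ₂ u = -1) := by
  classical
  have hu' : u = borelMkSL (1 : Fˣ) 1 := by
    apply Subtype.ext
    rw [hu, borelMkSL_coe]
    simp
  subst hu'
  have : Fintype (IrrCharacter (Matrix.SpecialLinearGroup (Fin 2) F)) := Fintype.ofFinite _
  have hF := ringChar_ne_two_of_odd hodd
  obtain ⟨ε, hε⟩ := FiniteField.exists_nonsquare hF
  have hε0 : ε ≠ 0 := by
    rintro rfl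
    exact hε ⟨0, by simp⟩
  obtain ⟨r, hr⟩ : ∃ r : ℕ, Fintype.card F = 2 * r + 5 := by
    obtain ⟨k, hk⟩ := hodd
    exact ⟨k - 2, by omega⟩
  have e1 : (Fintype.card F + 1) / 2 = r + 3 := by omega
  have e2 : (Fintype.card F - 1) / 2 = r + 2 := by omega
  have ne1 : ∀ a b : ℕ, a ≠ b → ¬ ((a : ℂ) = (b : ℂ)) := by
    intro a b hab h
    exact hab (by exact_mod_cast h)
  set ξ₁ := (pairS (sgnC (F := F)) sgnC_sq).1 with hξ₁
  set ξ₂ := (pairS (sgnC (F := F)) sgnC_sq).2 with hξ₂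
  have hx1 := xi_unip_sum hodd hε true
  have hx2 := xi_unip_sum hodd hε false
  simp only [if_true] at hx1
  simp only [Bool.false_eq_true, if_false] at hx2
  have htw := xi_twist hodd hε hε0
  -- values of ξ₂ in terms of ξ₁
  have hξ2u : (ξ₂ : Matrix.SpecialLinearGroup (Fin 2) F → ℂ) (borelMkSL (1 : Fˣ) 1) =
      (ξ₁ : Matrix.SpecialLinearGroup (Fin 2) F → ℂ) (borelMkSL (1 : Fˣ) ε) := by
    rw [← htw.1]
    exact twist_u1 hε0 _
  -- classification of the characters of degree (q+1)/2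
  have hA : ∀ χ : Matrix.SpecialLinearGroup (Fin 2) F → ℂ,
      Cfsg.IsIrrCharacter (Matrix.SpecialLinearGroup (Fin 2) F) χ →
      χ 1 = (((Fintype.card F + 1) / 2 : ℕ) : ℂ) →
      χ = (ξ₁ : Matrix.SpecialLinearGroup (Fin 2) F → ℂ) ∨
        χ = (ξ₂ : Matrix.SpecialLinearGroup (Fin 2) F → ℂ) := by
    intro χ hχ hd
    rw [e1] at hd
    rcases sl2_odd_cases_nat hodd r hr hε χ hχ with ⟨_, hd'⟩ | ⟨_, hd'⟩ | ⟨α, _, _, hd'⟩ |
      ⟨h, _⟩ | ⟨_, hd', _⟩ | ⟨_, hd', _⟩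
    · rw [hd] at hd'; exact absurd hd' (ne1 _ _ (by omega))
    · rw [hd] at hd'; exact absurd hd' (ne1 _ _ (by omega))
    · rw [hd] at hd'; exact absurd hd' (ne1 _ _ (by omega))
    · exact h
    · rw [hd] at hd'; exact absurd hd' (ne1 _ _ (by omega))
    · rw [hd] at hd'; exact absurd hd' (ne1 _ _ (by omega))
  -- classification of the characters of degree (q-1)/2
  have hB : ∀ χ : Matrix.SpecialLinearGroup (Fin 2) F → ℂ,
      ∀ hχ : Cfsg.IsIrrCharacter (Matrix.SpecialLinearGroup (Fin 2) F) χ,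
      χ 1 = (((Fintype.card F - 1) / 2 : ℕ) : ℂ) →
      (⟨χ, hχ⟩ : IrrCharacter (Matrix.SpecialLinearGroup (Fin 2) F)) ∈ halfCusp (F := F) := by
    intro χ hχ hd
    rw [e2] at hd
    rw [mem_halfCusp]
    have hq4 : (Fintype.card F : ℂ) - 1 = ((2 * r + 4 : ℕ) : ℂ) := by rw [hr]; push_cast; ring
    show IsCuspS χ ∧ ¬ (χ 1 = _)
    rw [hq4]
    rcases sl2_odd_cases_nat hodd r hr hε χ hχ with ⟨_, hd'⟩ | ⟨_, hd'⟩ | ⟨α, _, _, hd'⟩ |
      ⟨_, hd'⟩ | ⟨_, hd', _⟩ | ⟨hc, hd', _⟩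
    · rw [hd] at hd'; exact absurd hd' (ne1 _ _ (by omega))
    · rw [hd] at hd'; exact absurd hd' (ne1 _ _ (by omega))
    · rw [hd] at hd'; exact absurd hd' (ne1 _ _ (by omega))
    · rw [hd] at hd'; exact absurd hd' (ne1 _ _ (by omega))
    · rw [hd] at hd'; exact absurd hd' (ne1 _ _ (by omega))
    · refine ⟨hc, ?_⟩
      rw [hd]
      exact ne1 _ _ (by omega)
  refine ⟨?_, ?_, ?_, ?_⟩
  · intro χ hχ hd
    -- need some element of halfCusp to invoke half_diff_sq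
    have hcard := card_halfCusp hodd (F := F)
    have hne : (halfCusp (F := F)).Nonempty := by
      rw [← Finset.card_pos, hcard]; norm_num
    obtain ⟨η, hη⟩ := hne
    have hsq := (half_diff_sq hodd hε hη).1
    rcases hA χ hχ hd with rfl | rfl
    · rw [← hsq]
      congr 1
      linear_combination hx1
    · rw [← hsq, hξ2u]
      have : (2 * (ξ₁ : Matrix.SpecialLinearGroup (Fin 2) F → ℂ) (borelMkSL (1 : Fˣ) ε) - 1) =
          -((ξ₁ : Matrix.SpecialLinearGroup (Fin 2) F → ℂ) (borelMkSL (1 : Fˣ) 1) -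
            (ξ₁ : Matrix.SpecialLinearGroup (Fin 2) F → ℂ) (borelMkSL (1 : Fˣ) ε)) := by
        linear_combination hx1
      rw [this, neg_sq]
  · intro χ hχ hd
    have hη := hB χ hχ hd
    have hsq := (half_diff_sq hodd hε hη).2
    have hsum := (halfCusp_spec hodd hε hη).2
    rw [← hsq]
    congr 1
    linear_combination hsum
  · intro χ₁ χ₂ h1 h2 hne hd1 hd2
    rcases hA χ₁ h1 hd1 with rfl | rfl <;> rcases hA χ₂ h2 hd2 with rfl | rfl
    · exact absurd rfl hne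
    · rw [hξ2u]; exact hx1
    · rw [hξ2u, add_comm]; exact hx1
    · exact absurd rfl hne
  · intro χ₁ χ₂ h1 h2 hne hd1 hd2
    have hη1 := hB χ₁ h1 hd1
    have hη2 := hB χ₂ h2 hd2
    obtain ⟨η', hη', hne', hη'eq⟩ := halfCusp_twist hodd hε hε0 hη1
    have hpair := halfCusp_eq_pair hodd hη1 hη' hne'
    rw [hpair] at hη2
    rcases Finset.mem_insert.1 hη2 with h | h
    · exact absurd (congrArg Subtype.val h).symm hne
    · rw [Finset.mem_singleton] at h
      have h2eq : χ₂ = fun g => χ₁ (tauS hε0 g) := by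
        have := congrArg Subtype.val h
        rw [hη'eq] at this
        exact this
      have hsum := (halfCusp_spec hodd hε hη1).2
      rw [h2eq]
      show χ₁ _ + χ₁ (tauS hε0 (borelMkSL (1 : Fˣ) 1)) = -1
      rw [twist_u1 hε0 χ₁]
      exact hsum

end Cfsg.Agent.S2324
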