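import Cfsg.Statements.S2329
import Cfsg.Agent.Helper12.Mat2

set_option autoImplicit false
open Cfsg

namespace Cfsg.Agent.S2329

open Cfsg.Agent.Helper12

theorem result {F : Type*} [Field F] [Fintype F] (p : ℕ) [Fact p.Prime] [CharP F p] (g h : Matrix.GeneralLinearGroup (Fin 2) F)
    (hg : orderOf g = p) (hh : orderOf h = p) : IsConj g h := by
  obtain ⟨hg1, hg2⟩ := sub_one_sq_eq_zero_of_orderOf_eq p g hg
  obtain ⟨hh1, hh2⟩ := sub_one_sq_eq_zero_of_orderOf_eq p h hh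
  obtain ⟨a1, a2, a3⟩ := unipotent2_trace_det _ hg1 hg2
  obtain ⟨b1, b2, b3⟩ := unipotent2_trace_det _ hh1 hh2
  exact isConj_of_trace_det_eq g h a1 b1 (a2.trans b2.symm) (a3.trans b3.symm)

end Cfsg.Agent.S2329
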