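import Cfsg.Statements.S2354
import Cfsg.Agent.Helper12.SzEval

set_option autoImplicit false
open Cfsg

namespace Cfsg.Agent.Helper12

open Polynomial Matrix

theorem letterVal_map {G H : Type*} [Group G] [Group H] (φ : G →* H) (f : ℕ → G) (x : ℕ × Bool) :
    φ (letterVal f x) = letterVal (fun i => φ (f i)) x := by
  rcases x with ⟨i, b⟩
  cases b <;> simp [letterVal]

theorem sz_fails {F : Type*} [Field F] [Fintype F] (w : FreeGroup ℕ) (hw : w ≠ 1) (m : ℕ)
    (hNm : szBound w.toWord ≤ m) (hcard : Fintype.card F = 2 ^ (2 * m + 1)) :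
    ∃ f : ℕ → ↥(Cfsg.Lie.Sz F (2 ^ (m + 1))), FreeGroup.lift f w ≠ 1 := by
  classical
  -- characteristic two
  have hchar : CharP F 2 := by
    obtain ⟨k, hp, hk⟩ := FiniteField.card F (ringChar F)
    have h1 : ringChar F ∣ 2 ^ (2 * m + 1) := by
      rw [← hcard, hk]
      exact dvd_pow_self _ k.ne_zero
    have h2 : ringChar F = 2 :=
      (Nat.prime_dvd_prime_iff_eq hp Nat.prime_two).1 (hp.dvd_of_dvd_pow h1)
    exact ringChar.of_eq h2
  set e : ℕ := 2 ^ (m + 1) with he
  have he0 : e ≠ 0 := by positivity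
  have he2 : 2 ≤ e := by
    rw [he, pow_succ]
    have : 1 ≤ 2 ^ m := Nat.one_le_two_pow
    omega
  have hF : ∀ b : F, (b ^ e) ^ e = b ^ 2 := by
    intro b
    have h1 : e * e = Fintype.card F * 2 := by
      rw [hcard, he]
      ring
    rw [← pow_mul, h1, pow_mul, FiniteField.pow_card]
  -- the polynomial matrix
  have hne : w.toWord ≠ [] := by
    intro h
    exact hw (FreeGroup.toWord_eq_nil_iff.1 h)
  have hP := szProd_ne_one (F := F) e he2 w.toWord FreeGroup.isReduced_toWord hne
  obtain ⟨i, j, hij⟩ : ∃ i j, szProd F e w.toWord i j ≠ (1 : Matrix (Fin 4) (Fin 4) F[X]) i j := by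
    by_contra hcon
    push Not at hcon
    exact hP (Matrix.ext hcon)
  have hQ0 : szProd F e w.toWord i j - (1 : Matrix (Fin 4) (Fin 4) F[X]) i j ≠ 0 :=
    sub_ne_zero.2 hij
  have hQdeg : (szProd F e w.toWord i j - (1 : Matrix (Fin 4) (Fin 4) F[X]) i j).natDegree <
      Fintype.card F := by
    have h1 : (szProd F e w.toWord i j - (1 : Matrix (Fin 4) (Fin 4) F[X]) i j).natDegree ≤
        e * szBound w.toWord := by
      refine (natDegree_sub_le _ _).trans (max_le (szProd_natDegree_le e (by omega) _ i j) ?_)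
      by_cases h : i = j
      · subst h; simp
      · simp [Matrix.one_apply_ne h]
    refine lt_of_le_of_lt h1 ?_
    rw [hcard, he]
    have h2 : m < 2 ^ m := Nat.lt_two_pow_self
    calc 2 ^ (m + 1) * szBound w.toWord ≤ 2 ^ (m + 1) * m := Nat.mul_le_mul_left _ hNm
      _ < 2 ^ (m + 1) * 2 ^ m := Nat.mul_lt_mul_of_pos_left h2 (by positivity)
      _ = 2 ^ (2 * m + 1) := by rw [← pow_add]; congr 1; omega
  obtain ⟨c, hc⟩ : ∃ c : F,
      (szProd F e w.toWord i j - (1 : Matrix (Fin 4) (Fin 4) F[X]) i j).eval c ≠ 0 := by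
    by_contra hall
    push Not at hall
    apply hQ0
    exact Polynomial.eq_zero_of_natDegree_lt_card_of_eval_eq_zero _ (f := id)
      Function.injective_id hall hQdeg
  refine ⟨fun k => ⟨szGenGL e c k, szGenGL_mem e he0 hF c k⟩, ?_⟩
  intro hone
  have hlift : FreeGroup.lift (fun k => (⟨szGenGL e c k, szGenGL_mem e he0 hF c k⟩ :
      ↥(Cfsg.Lie.Sz F e))) w =
      ((w.toWord).map (letterVal (fun k => (⟨szGenGL e c k, szGenGL_mem e he0 hF c k⟩ :
      ↥(Cfsg.Lie.Sz F e))))).prod := by
    rw [← lift_mk_eq_prod_letterVal, FreeGroup.mk_toWord]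
  rw [hlift] at hone
  have h1 := congrArg (Subgroup.subtype (Cfsg.Lie.Sz F e)) hone
  rw [map_list_prod, List.map_map, map_one] at h1
  have h2 : ((Subgroup.subtype (Cfsg.Lie.Sz F e)) ∘
      letterVal (fun k => (⟨szGenGL e c k, szGenGL_mem e he0 hF c k⟩ : ↥(Cfsg.Lie.Sz F e)))) =
      letterVal (szGenGL e c) := by
    funext x
    exact letterVal_map _ _ x
  rw [h2] at h1
  have h3 := congrArg (fun g : GL (Fin 4) F => (g : Matrix (Fin 4) (Fin 4) F)) h1
  simp only [szGenGL_prod, Units.val_one] at h3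
  have h4 := congrFun (congrFun h3 i) j
  apply hc
  rw [eval_sub, sub_eq_zero]
  rw [Matrix.map_apply] at h4
  rw [Polynomial.coe_evalRingHom] at h4
  rw [h4]
  by_cases h : i = j
  · subst h; simp
  · simp [Matrix.one_apply_ne h]

end Cfsg.Agent.Helper12

namespace Cfsg.Agent.S2354

/-- A non-trivial law holds in only finitely many Suzuki groups: for every non-trivial element w of the free group on countably many generators there is N such that for q = 2^(2m+1) with m ≥ N some substitution of elements of the Suzuki group over the field with q elements into w is not the identity. -/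
theorem result (w : FreeGroup ℕ) (hw : w ≠ 1) :
    ∃ N : ℕ, ∀ (F : Type*) [Field F] [Fintype F] (m : ℕ), 1 ≤ m → N ≤ m →
      Fintype.card F = 2 ^ (2 * m + 1) →
      ∃ f : ℕ → ↥(Cfsg.Lie.Sz F (2 ^ (m + 1))), FreeGroup.lift f w ≠ 1 := by
  refine ⟨Helper12.szBound w.toWord, ?_⟩
  intro F _ _ m _ hNm hcard
  exact Helper12.sz_fails w hw m hNm hcard

end Cfsg.Agent.S2354
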