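import Cfsg.Statements.S2355
import Cfsg.Agent.Helper12.LawFailOrth
import Cfsg.Agent.Helper12.LawFailUnitary

set_option autoImplicit false
open Cfsg

namespace Cfsg.Agent.S2355

open Cfsg.Agent.Helper12

theorem card_quot_le {H : Type*} [Group H] {ι : Type*} [Fintype ι] [DecidableEq ι]
    {F : Type*} [Field F] [Fintype F] (j : H → Matrix ι ι F) (hj : Function.Injective j)
    (N : Subgroup H) [N.Normal] (D Q : ℕ) (hD : Fintype.card ι ≤ D) (hQ : Fintype.card F ≤ Q) :
    Nat.card (H ⧸ N) ≤ Q ^ (D * D) := by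
  have hfin : Finite H := Finite.of_injective j hj
  have h1 : Nat.card (H ⧸ N) ≤ Nat.card H :=
    Nat.card_le_card_of_surjective _ (QuotientGroup.mk_surjective (s := N))
  have h2 : Nat.card H ≤ Nat.card (Matrix ι ι F) := Nat.card_le_card_of_injective j hj
  have h3 : Nat.card (Matrix ι ι F) = Fintype.card F ^ (Fintype.card ι * Fintype.card ι) := by
    unfold Matrix
    rw [Nat.card_fun, Nat.card_fun, ← pow_mul, Nat.card_eq_fintype_card, Nat.card_eq_fintype_card]
  have hF0 : 0 < Fintype.card F := Fintype.card_pos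
  calc Nat.card (H ⧸ N) ≤ Fintype.card F ^ (Fintype.card ι * Fintype.card ι) := by
        rw [← h3]; exact h1.trans h2
    _ ≤ Fintype.card F ^ (D * D) := Nat.pow_le_pow_right hF0 (Nat.mul_le_mul hD hD)
    _ ≤ Q ^ (D * D) := Nat.pow_le_pow_left hQ _

theorem bound_of_iso {G H : Type*} [Group G] [Group H] (e : G ≃* H ⧸ Subgroup.center H)
    {ι : Type*} [Fintype ι] [DecidableEq ι]
    {F : Type*} [Field F] [Fintype F] (j : H → Matrix ι ι F) (hj : Function.Injective j)
    (D Q : ℕ) (hD : Fintype.card ι ≤ D) (hQ : Fintype.card F ≤ Q) :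
    Nat.card G ≤ Q ^ (D * D) := by
  rw [Nat.card_congr e.toEquiv]
  exact card_quot_le j hj _ D Q hD hQ

theorem not_fails_of_law_iso {G H : Type*} [Group G] [Group H] {w : FreeGroup ℕ}
    (e : G ≃* H) (hlaw : ∀ f : ℕ → G, FreeGroup.lift f w = 1) : ¬ Fails H w := by
  rintro ⟨f, hf⟩
  apply hf
  have := hlaw (fun i => e.symm (f i))
  have h2 := lift_comp_hom e.symm.toMonoidHom f w
  simp only [MulEquiv.toMonoidHom_eq_coe, MonoidHom.coe_coe] at h2
  rw [h2] at this
  rw [(map_eq_one_iff e.symm e.symm.injective).1 this]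
  exact one_mem _

theorem bound_of_iso_omega {ι : Type} [Fintype ι] [DecidableEq ι] {F : Type*} [Field F]
    [Fintype F] (Q : (ι → F) → F) {G : Type*} [Group G] (e : G ≃* Cfsg.POmega F Q)
    (D Q' : ℕ) (hD : Fintype.card ι ≤ D) (hQ : Fintype.card F ≤ Q') :
    Nat.card G ≤ Q' ^ (D * D) := by
  refine bound_of_iso e (fun A : Cfsg.Omega F Q =>
    (((A : Cfsg.isometryGroup F Q) : Matrix.GeneralLinearGroup ι F) : Matrix ι ι F)) ?_ D Q' hD hQ
  intro A B hAB
  apply Subtype.ext
  apply Subtype.ext
  exact Units.ext hAB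

theorem lt_mul_self_of_lt {a b : ℕ} (h : a < b) : a ≤ b * b := by nlinarith

/-- A non-trivial law is satisfied by only finitely many finite simple groups that are alternating or classical, up to isomorphism: for every non-trivial element w of the free group on countably many generators there is a bound N such that every alternating group of degree ≥ 5 and every simple classical group (linear, symplectic, unitary or orthogonal, in this problem's sense) in which w is a law has order at most N. -/
theorem result (w : FreeGroup ℕ) (hw : w ≠ 1) :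
    ∃ N : ℕ, ∀ (G : Type*) [Group G] [Finite G],
      (Cfsg.IsAlternating G ∨ Cfsg.IsPSL G ∨ Cfsg.IsPSp G ∨ Cfsg.IsPSU G ∨ Cfsg.IsPOmegaOdd G ∨
          Cfsg.IsPOmegaPlus G ∨ Cfsg.IsPOmegaMinus G) →
      (∀ f : ℕ → G, FreeGroup.lift f w = 1) → Nat.card G ≤ N := by
  obtain ⟨m0, q0, hAlt, hSL2⟩ := exists_bounds_fails w hw
  refine ⟨max (Nat.factorial m0) ((q0 * q0) ^ ((2 * m0 + 2) * (2 * m0 + 2))), ?_⟩
  intro G _ _ hG hlaw
  rcases hG with hG | hG | hG | hG | hG | hG | hG
  · -- alternating
    obtain ⟨n, hn, ⟨e⟩⟩ := hG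
    have hnf := not_fails_of_law_iso e hlaw
    have hlt : n < m0 := by
      by_contra hge
      exact hnf (hAlt n (not_lt.1 hge))
    refine le_trans ?_ (le_max_left _ _)
    rw [Nat.card_congr e.toEquiv]
    calc Nat.card (alternatingGroup (Fin n)) ≤ Nat.card (Equiv.Perm (Fin n)) :=
          Nat.card_le_card_of_injective _ Subtype.val_injective
      _ = Nat.factorial n := by
          rw [Nat.card_eq_fintype_card, Fintype.card_perm, Fintype.card_fin]
      _ ≤ Nat.factorial m0 := Nat.factorial_le hlt.le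
  · -- PSL
    obtain ⟨F, _, _, n, hn, -, ⟨e⟩⟩ := hG
    have hnf : ¬ Fails (Matrix.SpecialLinearGroup (Fin n) F) w := not_fails_of_law e hlaw
    have hlt : n < m0 := by
      by_contra hge
      exact hnf (hAlt n (not_lt.1 hge)).sl_of_alt
    have hq : Fintype.card F < q0 := by
      by_contra hge
      exact hnf (Fails.sl_of_sl2 hn (hSL2 F (not_lt.1 hge)))
    refine le_trans ?_ (le_max_right _ _)
    exact bound_of_iso e (fun A => (A : Matrix (Fin n) (Fin n) F)) Subtype.val_injective _ _
      (by rw [Fintype.card_fin]; omega) (lt_mul_self_of_lt hq)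
  · -- PSp
    obtain ⟨F, _, _, m, hm, -, ⟨e⟩⟩ := hG
    have hnf : ¬ Fails (Matrix.symplecticGroup (Fin m) F) w := not_fails_of_law e hlaw
    have hlt : m < m0 := by
      by_contra hge
      exact hnf (hAlt m (not_lt.1 hge)).sl_of_alt.symplectic
    have hq : Fintype.card F < q0 := by
      by_contra hge
      exact hnf (Fails.sl_of_sl2 hm (hSL2 F (not_lt.1 hge))).symplectic
    refine le_trans ?_ (le_max_right _ _)
    exact bound_of_iso e (fun A => (A : Matrix (Fin m ⊕ Fin m) (Fin m ⊕ Fin m) F))
      Subtype.val_injective _ _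
      (by rw [Fintype.card_sum, Fintype.card_fin]; omega) (lt_mul_self_of_lt hq)
  · -- PSU
    obtain ⟨F, _, _, n, q, hF, hn, -, ⟨e⟩⟩ := hG
    have hnf : ¬ Fails (Cfsg.SU n F q) w := not_fails_of_law e hlaw
    have hlt : n < m0 := by
      by_contra hge
      exact hnf (hAlt n (not_lt.1 hge)).su_of_alt
    have hq : q < q0 := by
      by_contra hge
      obtain ⟨σ, hσ, hσ2⟩ := Cfsg.Agent.Helper28.exists_frob hF
      have : Fintype (fixedSub σ) := Fintype.ofFinite _
      have hK : q0 ≤ Fintype.card (fixedSub σ) := by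
        rw [← Nat.card_eq_fintype_card]
        exact (not_lt.1 hge).trans (card_fixedSub_ge σ q hF hσ hσ2)
      exact hnf (Fails.su_of_sl2 (by omega) hF σ hσ hσ2 (hSL2 (fixedSub σ) hK))
    refine le_trans ?_ (le_max_right _ _)
    refine bound_of_iso e (fun A => ((A : Matrix.SpecialLinearGroup (Fin n) F) :
      Matrix (Fin n) (Fin n) F)) (Subtype.val_injective.comp Subtype.val_injective) _ _
      (by rw [Fintype.card_fin]; omega) ?_
    rw [hF, sq]
    exact Nat.mul_le_mul hq.le hq.le
  · -- odd orthogonal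
    obtain ⟨F, _, _, m, hm, -, ⟨e⟩⟩ := hG
    have hnf : ¬ Fails (Cfsg.Omega F (Cfsg.quadFormOdd m F)) w := not_fails_of_law e hlaw
    have hlt : m < m0 := by
      by_contra hge
      exact hnf ((hAlt m (not_lt.1 hge)).sl_of_alt.omegaOdd hm)
    have hq : Fintype.card F < q0 := by
      by_contra hge
      exact hnf ((Fails.sl_of_sl2 (by omega) (hSL2 F (not_lt.1 hge))).omegaOdd hm)
    refine le_trans ?_ (le_max_right _ _)
    refine bound_of_iso_omega _ e _ _
      (by simp only [Fintype.card_sum, Fintype.card_fin, Fintype.card_unit]; omega)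
      (lt_mul_self_of_lt hq)
  · -- plus orthogonal
    obtain ⟨F, _, _, m, hm, ⟨e⟩⟩ := hG
    have hnf : ¬ Fails (Cfsg.Omega F (Cfsg.quadFormPlus m F)) w := not_fails_of_law e hlaw
    have hlt : m < m0 := by
      by_contra hge
      exact hnf ((hAlt m (not_lt.1 hge)).sl_of_alt.omegaPlus (by omega))
    have hq : Fintype.card F < q0 := by
      by_contra hge
      exact hnf ((Fails.sl_of_sl2 (by omega) (hSL2 F (not_lt.1 hge))).omegaPlus (by omega))
    refine le_trans ?_ (le_max_right _ _)
    refine bound_of_iso_omega _ e _ _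
      (by simp only [Fintype.card_sum, Fintype.card_fin]; omega)
      (lt_mul_self_of_lt hq)
  · -- minus orthogonal
    obtain ⟨F, _, _, m, a, b, hm, -, ⟨e⟩⟩ := hG
    have hnf : ¬ Fails (Cfsg.Omega F (Cfsg.quadFormMinus (m - 1) F a b)) w :=
      not_fails_of_law e hlaw
    have hlt : m - 1 < m0 := by
      by_contra hge
      exact hnf ((hAlt (m - 1) (not_lt.1 hge)).sl_of_alt.omegaMinus (by omega) a b)
    have hq : Fintype.card F < q0 := by
      by_contra hge
      exact hnf ((Fails.sl_of_sl2 (by omega) (hSL2 F (not_lt.1 hge))).omegaMinus (by omega) a b)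
    refine le_trans ?_ (le_max_right _ _)
    refine bound_of_iso_omega _ e _ _
      (by simp only [Fintype.card_sum, Fintype.card_fin]; omega)
      (lt_mul_self_of_lt hq)

end Cfsg.Agent.S2355
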