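import Cfsg.Statements.S2362
import Cfsg.Agent.Helper12.BCSpecL
import Cfsg.Agent.Helper12.BCSpecM

set_option autoImplicit false
open Cfsg

namespace Cfsg.Agent.S2362

/-- Let F be a finite field of odd order and n ≥ 3. The simple orthogonal group PΩ(2n+1, F) (type B_n) and the projective symplectic group PSp(2n, F) (type C_n), which have the same order, do not have the same set of element orders. -/
theorem result {F : Type*} [Field F] [Fintype F] (hodd : Odd (Fintype.card F)) (n : ℕ) (hn : 3 ≤ n) :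
    Set.range (orderOf : Cfsg.POmega F (Cfsg.quadFormOdd n F) → ℕ) ≠ Set.range (orderOf : Cfsg.PSp n F → ℕ) := by
  classical
  rw [← Cfsg.Agent.S2614.QfOdd_coe]
  obtain ⟨k, rfl⟩ : ∃ k, n = k + 1 := ⟨n - 1, by omega⟩
  have h2 : (2 : F) ≠ 0 := by
    apply Ring.two_ne_zero
    intro h
    rw [FiniteField.even_card_iff_char_two] at h
    rcases hodd with ⟨t, ht⟩
    omega
  obtain ⟨p, hpchar⟩ := CharP.exists F
  have hp : Fact p.Prime := ⟨CharP.char_is_prime F p⟩
  have hp2 : p ≠ 2 := by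
    intro h
    apply h2
    have := CharP.cast_eq_zero F p
    rw [h] at this
    exact_mod_cast this
  intro heq
  obtain ⟨x, hx⟩ := Cfsg.Agent.Helper12.BCSpec.exists_psp_orderOf (K := F) p hp2 k (by omega)
  have hmem : p * (Fintype.card F ^ k + 1) ∈ Set.range (orderOf : Cfsg.PSp (k + 1) F → ℕ) :=
    ⟨x, hx⟩
  rw [← heq] at hmem
  obtain ⟨y, hy⟩ := hmem
  have hQ := Cfsg.Agent.S0292.QfOdd_nondeg h2 (F := F) (k + 1)
  have hcardι : Fintype.card (Unit ⊕ (Fin (k + 1) ⊕ Fin (k + 1))) = 2 * (k + 1) + 1 := by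
    rw [Fintype.card_sum, Fintype.card_sum, Fintype.card_fin, Fintype.card_unit]; ring
  have h6 : 6 ≤ Fintype.card (Unit ⊕ (Fin (k + 1) ⊕ Fin (k + 1))) := by rw [hcardι]; omega
  have hc := Cfsg.Agent.Helper28.OC.card_center_Omega_eq_one (Cfsg.Agent.S2614.QfOdd (k + 1) F)
    hQ h6 (by
    rintro ⟨-, g, hgΩ, hg⟩
    have h1 := Cfsg.Agent.Helper28.Spin.hom_eq_one_of_mem_Omega (Cfsg.Agent.S2614.QfOdd (k + 1) F)
      (Cfsg.Agent.Helper28.Spin.detHom (Cfsg.Agent.S2614.QfOdd (k + 1) F)) hgΩ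
    have h3 : ((Cfsg.Agent.Helper28.Spin.detHom (Cfsg.Agent.S2614.QfOdd (k + 1) F) g : Fˣ) : F)
        = 1 := by rw [h1]; rfl
    rw [Cfsg.Agent.Helper28.Spin.detHom_val, hg, Matrix.det_neg, Matrix.det_one, hcardι, mul_one]
      at h3
    have : (-1 : F) ^ (2 * (k + 1) + 1) = -1 := by
      rw [pow_succ, pow_mul]; simp
    rw [this] at h3
    apply h2
    linear_combination -h3)
  have hbot : Subgroup.center ↥(Cfsg.Omega F ⇑(Cfsg.Agent.S2614.QfOdd (k + 1) F)) = ⊥ :=
    Subgroup.card_eq_one.1 hc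
  obtain ⟨g, rfl⟩ := QuotientGroup.mk_surjective y
  have hinj : Function.Injective
      (QuotientGroup.mk' (Subgroup.center ↥(Cfsg.Omega F ⇑(Cfsg.Agent.S2614.QfOdd (k + 1) F)))) := by
    intro a b hab
    rw [QuotientGroup.mk'_apply, QuotientGroup.mk'_apply, QuotientGroup.eq, hbot,
      Subgroup.mem_bot] at hab
    exact inv_mul_eq_one.1 hab
  have hg : orderOf g = p * (Fintype.card F ^ k + 1) := by
    rw [← hy]
    exact (orderOf_injective _ hinj g).symm
  exact Cfsg.Agent.Helper12.BCSpec.orderOf_Omega_ne h2 p k (by omega) g hg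

end Cfsg.Agent.S2362
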