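import Cfsg.Statements.S2364
import Cfsg.Agent.Helper12.SLCentUnip

set_option autoImplicit false
open Cfsg

namespace Cfsg.Agent.S2364

/-- Let F be a finite field of characteristic p, n ≥ 4, and let a, b be commuting elements of PSL(n, F) with a of order p. Then every prime divisor of the order of b divides the order of SL(n − 2, F). -/
theorem result {F : Type*} [Field F] [Fintype F] (p : ℕ) [Fact p.Prime] [CharP F p] (n : ℕ) (hn : 4 ≤ n)
    (a b : Matrix.ProjectiveSpecialLinearGroup (Fin n) F) (ha : orderOf a = p) (hab : Commute a b) :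
    (orderOf b).primeFactors ⊆ (Nat.card (Matrix.SpecialLinearGroup (Fin (n - 2)) F)).primeFactors := by
  classical
  intro r hr
  rw [Nat.mem_primeFactors] at hr ⊢
  obtain ⟨hrprime, hrdvd, hb0⟩ := hr
  have : Fact r.Prime := ⟨hrprime⟩
  have hpprime : p.Prime := Fact.out
  refine ⟨hrprime, ?_, Nat.card_pos.ne'⟩
  -- the centre and its order
  set Z := Subgroup.center (Matrix.SpecialLinearGroup (Fin n) F) with hZ
  set d := Nat.card Z with hd
  have hdpos : 0 < d := Nat.card_pos
  have hcop : Nat.Coprime p d := by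
    rw [Nat.Prime.coprime_iff_not_dvd hpprime]
    intro hpd
    have h1 : d = Nat.gcd n (Nat.card Fˣ) := Cfsg.Agent.Helper2.card_center_SL n (by omega)
    have h2 : d ∣ Fintype.card F - 1 := by
      rw [h1, Cfsg.Agent.Helper2.card_units_field]
      exact Nat.gcd_dvd_right _ _
    have h3 : p ∣ Fintype.card F := by
      rw [← CharP.cast_eq_zero_iff F p]
      exact Nat.cast_card_eq_zero F
    have h4 : 1 < Fintype.card F := Fintype.one_lt_card
    have h5 : p ∣ Fintype.card F - 1 := hpd.trans h2
    have h6 : p ∣ 1 := by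
      have := (Nat.dvd_sub h3 h5)
      have e : Fintype.card F - (Fintype.card F - 1) = 1 := by omega
      rwa [e] at this
    exact hpprime.one_lt.ne' (Nat.dvd_one.mp h6)
  have hZpow : ∀ z : Matrix.SpecialLinearGroup (Fin n) F, z ∈ Z → z ^ d = 1 := by
    intro z hz
    have := pow_card_eq_one' (G := Z) (x := ⟨z, hz⟩)
    exact congrArg Subtype.val this
  -- lift a
  obtain ⟨x, hx⟩ := QuotientGroup.mk_surjective a
  obtain ⟨y, hy⟩ := QuotientGroup.mk_surjective b
  have hap : a ^ p = 1 := by rw [← ha]; exact pow_orderOf_eq_one a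
  have hxpZ : x ^ p ∈ Z := by
    rw [← QuotientGroup.eq_one_iff, QuotientGroup.mk_pow, hx, hap]
  -- exponent e = d^(p-1) ≡ 1 mod p, divisible by d
  have hfermat : d ^ (p - 1) ≡ 1 [MOD p] := by
    have := Nat.ModEq.pow_totient hcop.symm
    rwa [Nat.totient_prime hpprime] at this
  set e := d ^ (p - 1) with he
  have hde : d ∣ e := by
    rw [he]
    exact dvd_pow_self d (by have := hpprime.two_le; omega)
  set X := x ^ e with hXdef
  have hXp : X ^ p = 1 := by
    obtain ⟨t, ht⟩ := hde
    rw [hXdef, ← pow_mul, mul_comm, pow_mul, ht, pow_mul]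
    rw [hZpow _ hxpZ, one_pow]
  have hXa : (QuotientGroup.mk X : Matrix.ProjectiveSpecialLinearGroup (Fin n) F) = a := by
    rw [hXdef, QuotientGroup.mk_pow, hx]
    have h1 : e % orderOf a = 1 % orderOf a := by rw [ha]; exact hfermat
    rw [← pow_mod_orderOf, h1, pow_mod_orderOf, pow_one]
  have ha1 : a ≠ 1 := by
    intro h
    rw [h, orderOf_one] at ha
    exact hpprime.ne_one ha.symm
  have hX1 : X ≠ 1 := by
    intro h
    apply ha1
    rw [← hXa, h]
    rfl
  -- X commutes with y
  have hXy : Commute X y := by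
    have hc : X⁻¹ * y⁻¹ * X * y ∈ Z := by
      rw [← QuotientGroup.eq_one_iff]
      have h1 : ((X⁻¹ * y⁻¹ * X * y : Matrix.SpecialLinearGroup (Fin n) F) :
          Matrix.ProjectiveSpecialLinearGroup (Fin n) F) = a⁻¹ * b⁻¹ * a * b := by
        rw [QuotientGroup.mk_mul, QuotientGroup.mk_mul, QuotientGroup.mk_mul, QuotientGroup.mk_inv,
          QuotientGroup.mk_inv, hXa, hy]
      rw [h1]
      calc a⁻¹ * b⁻¹ * a * b = a⁻¹ * b⁻¹ * (a * b) := by group
        _ = a⁻¹ * b⁻¹ * (b * a) := by rw [hab.eq]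
        _ = 1 := by group
    set c := X⁻¹ * y⁻¹ * X * y with hcdef
    have hconj : y⁻¹ * X * y = X * c := by
      rw [hcdef]; group
    have hcp : c ^ p = 1 := by
      have h1 : (y⁻¹ * X * y) ^ p = 1 := by
        have : y⁻¹ * X * y = y⁻¹ * X * y⁻¹⁻¹ := by rw [inv_inv]
        rw [this, conj_pow, hXp, mul_one, mul_inv_cancel]
      rw [hconj] at h1
      have hcomm : Commute X c := (Subgroup.mem_center_iff.mp hc X : X * c = c * X)
      rw [hcomm.mul_pow, hXp, one_mul] at h1
      exact h1
    have hc1 : c = 1 := by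
      have h1 : orderOf c ∣ p := orderOf_dvd_of_pow_eq_one hcp
      have h2 : orderOf c ∣ d := orderOf_dvd_of_pow_eq_one (hZpow c hc)
      have h3 : orderOf c ∣ 1 := by
        have := Nat.dvd_gcd h1 h2
        rwa [hcop] at this
      exact orderOf_eq_one_iff.mp (Nat.dvd_one.mp h3)
    rw [hc1, mul_one] at hconj
    change X * y = y * X
    calc X * y = y * (y⁻¹ * X * y) := by group
      _ = y * X := by rw [hconj]
  -- element of order r
  have hby : orderOf b ∣ orderOf y := by
    apply orderOf_dvd_of_pow_eq_one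
    rw [← hy, ← QuotientGroup.mk_pow, pow_orderOf_eq_one]
    rfl
  have hry : r ∣ orderOf y := hrdvd.trans hby
  have hy0 : orderOf y ≠ 0 := (orderOf_pos y).ne'
  have hY : orderOf (y ^ (orderOf y / r)) = r := orderOf_pow_orderOf_div hy0 hry
  exact Cfsg.Agent.Helper12.SLCentUnip.prime_dvd_card_SL_sub_two p n hn X (y ^ (orderOf y / r))
    (hXy.pow_right _) hX1 hXp r hY

end Cfsg.Agent.S2364
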