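import Cfsg.Statements.S2366
import Cfsg.Agent.Helper12.PSU3SpecI

set_option autoImplicit false
open Cfsg

namespace Cfsg.Agent.S2366

/-- The set of element orders of PSU(3, q) for an odd prime power q = p^n: writing d = gcd(3, q + 1), a positive integer is the order of some element exactly when it divides one of q + 1, p(q + 1)/d, (q² − 1)/d, (q² − q + 1)/d. -/
theorem result {F : Type*} [Field F] [Fintype F] (p : ℕ) [Fact p.Prime] [CharP F p] (hp : p ≠ 2) (q : ℕ) (hF : Fintype.card F = q ^ 2) :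
    Set.range (orderOf : Cfsg.PSU 3 F q → ℕ) =
      {s : ℕ | s ∣ q + 1} ∪ {s : ℕ | s ∣ p * (q + 1) / Nat.gcd 3 (q + 1)} ∪
        {s : ℕ | s ∣ (q ^ 2 - 1) / Nat.gcd 3 (q + 1)} ∪ {s : ℕ | s ∣ (q ^ 2 - q + 1) / Nat.gcd 3 (q + 1)} := by
  classical
  have : Finite (Cfsg.PSU 3 F q) := inferInstance
  ext s
  simp only [Set.mem_range, Set.mem_union, Set.mem_ofPred_eq]
  constructor
  · rintro ⟨x, rfl⟩
    obtain ⟨g, rfl⟩ := QuotientGroup.mk_surjective x
    rcases Cfsg.Agent.Helper12.PSU3Spec.orderOf_mk_cases_psu p hp q hF g with h | h | h | h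
    · exact Or.inl (Or.inl (Or.inl h))
    · exact Or.inl (Or.inl (Or.inr h))
    · exact Or.inl (Or.inr h)
    · exact Or.inr h
  · intro h
    have key : ∀ N : ℕ, (∃ x : Cfsg.PSU 3 F q, orderOf x = N) → s ∣ N →
        ∃ y : Cfsg.PSU 3 F q, orderOf y = s := by
      rintro N ⟨x, hx⟩ ⟨t, ht⟩
      have hN : 0 < N := by
        rw [← hx]
        exact orderOf_pos x
      have ht0 : t ≠ 0 := by
        rintro rfl
        rw [mul_zero] at ht
        omega
      refine ⟨x ^ t, ?_⟩
      rw [orderOf_pow_of_dvd ht0 (by rw [hx, ht]; exact dvd_mul_left _ _), hx, ht]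
      exact Nat.mul_div_cancel _ (Nat.pos_of_ne_zero ht0)
    rcases h with ((h | h) | h) | h
    · exact key _ (Cfsg.Agent.Helper12.PSU3Spec.exists_orderOf_a hF) h
    · exact key _ (Cfsg.Agent.Helper12.PSU3Spec.exists_orderOf_b p hF) h
    · exact key _ (Cfsg.Agent.Helper12.PSU3Spec.exists_orderOf_c hF) h
    · exact key _ (Cfsg.Agent.Helper12.PSU3Spec.exists_orderOf_d p hF) h

end Cfsg.Agent.S2366
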