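import Cfsg.Statements.S2367
import Cfsg.Agent.Helper12.FactorialVal

set_option autoImplicit false
open Cfsg

namespace Cfsg.Agent.S2367

open Cfsg.Agent.Helper12

theorem list_aux (l : List ℕ) (p : ℕ) (hodd : p ≠ 2) (h3 : l.count p = 3)
    (hl : ∀ q ∈ l, q ≠ 2 → l.count q = 3 → q ^ 3 < 2 ^ l.count 2) : p ^ 3 < 2 ^ l.count 2 :=
  hl p (List.count_pos_iff.mp (by omega)) hodd h3

theorem alt_aux (n c p : ℕ) (hn : 5 ≤ n) (hc : 2 * c = n.factorial) (hp : p.Prime) (hodd : p ≠ 2)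
    (h3 : c.factorization p = 3) : p ^ 3 < 2 ^ c.factorization 2 := by
  have : Fact p.Prime := ⟨hp⟩
  have : Fact (2 : ℕ).Prime := ⟨Nat.prime_two⟩
  have hc0 : c ≠ 0 := by
    rintro rfl
    have := Nat.factorial_pos n
    omega
  have hfac : (n.factorial).factorization = (2 : ℕ).factorization + c.factorization := by
    rw [← hc, Nat.factorization_mul (by norm_num) hc0]
  have hp3 : 3 ≤ p := by
    have := hp.two_le
    omega
  -- valuation at p
  have hvp : padicValNat p n.factorial = 3 := by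
    rw [← Nat.factorization_def _ hp, hfac]
    simp only [Finsupp.coe_add, Pi.add_apply]
    rw [Nat.Prime.factorization Nat.prime_two, Finsupp.single_apply, if_neg (Ne.symm hodd), h3]
  -- valuation at 2
  have hv2 : padicValNat 2 n.factorial = 1 + c.factorization 2 := by
    rw [← Nat.factorization_def _ Nat.prime_two, hfac]
    simp only [Finsupp.coe_add, Pi.add_apply]
    rw [Nat.Prime.factorization Nat.prime_two, Finsupp.single_apply, if_pos rfl]
  have hlow := padicValNat_factorial_ge p n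
  have h3pn : 3 * p ≤ n ∧ 4 ≤ p := by
    rcases Nat.lt_or_ge n (p ^ 2) with hlt | hge
    · have h1 := padicValNat_factorial_of_lt_sq p n hlt
      rw [hvp] at h1
      have h2 : 3 * p ≤ n := by
        have := Nat.div_mul_le_self n p
        rw [← h1] at this
        omega
      refine ⟨h2, ?_⟩
      by_contra hlt4
      have : p = 3 := by omega
      subst this
      norm_num at hlt
      omega
    · exfalso
      have h1 : p ≤ n / p := by
        rw [Nat.le_div_iff_mul_le hp.pos]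
        calc p * p = p ^ 2 := by ring
          _ ≤ n := hge
      have h2 : 1 ≤ n / p ^ 2 := by
        rw [Nat.le_div_iff_mul_le (by positivity)]
        omega
      omega
  obtain ⟨h3p, h4p⟩ := h3pn
  have hlow2 := padicValNat_factorial_ge 2 n
  norm_num at hlow2
  have hexp : p + 4 ≤ c.factorization 2 := by omega
  calc p ^ 3 < 2 ^ (p + 4) := cube_lt_two_pow p
    _ ≤ 2 ^ c.factorization 2 := Nat.pow_le_pow_right (by norm_num) hexp

set_option maxRecDepth 100000 in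
theorem result {G : Type*} [Group G] [Finite G] (hG : Cfsg.IsAlternating G ∨ Cfsg.IsSporadic G)
    (p : ℕ) (hp : p.Prime) (hodd : p ≠ 2) (h3 : (Nat.card G).factorization p = 3) :
    p ^ 3 < 2 ^ (Nat.card G).factorization 2 := by
  rcases hG with hA | hS
  · obtain ⟨n, hn, ⟨e⟩⟩ := hA
    have : Nontrivial (Fin n) := Fin.nontrivial_iff_two_le.mpr (by omega)
    have hc : 2 * Nat.card G = n.factorial := by
      rw [Nat.card_congr e.toEquiv, two_mul_nat_card_alternatingGroup, Nat.card_perm, Nat.card_fin]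
    exact alt_aux n (Nat.card G) p hn hc hp hodd h3
  · unfold IsSporadic IsM11 IsM12 IsM22 IsM23 IsM24 IsJ1 IsJ2 IsJ3 IsJ4 IsCo1 IsCo2 IsCo3 IsFi22
      IsFi23 IsFi24' IsHS IsMcL IsHe IsRu IsSuz IsON IsHN IsLy IsTh IsB IsM at hS
    rcases hS with ⟨-, h⟩ | ⟨-, h⟩ | ⟨-, h⟩ | ⟨-, h⟩ | ⟨-, h⟩ | ⟨-, h⟩ | ⟨-, h⟩ | ⟨-, h⟩ | ⟨-, h⟩ |
      ⟨-, h⟩ | ⟨-, h⟩ | ⟨-, h⟩ | ⟨-, h⟩ | ⟨-, h⟩ | ⟨-, h⟩ | ⟨-, h⟩ | ⟨-, h⟩ | ⟨-, h⟩ | ⟨-, h⟩ |
      ⟨-, h⟩ | ⟨-, h⟩ | ⟨-, h⟩ | ⟨-, h⟩ | ⟨-, h⟩ | ⟨-, h⟩ | ⟨-, h⟩ <;>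
    · rw [h] at h3 ⊢
      rw [← Nat.primeFactorsList_count_eq] at h3 ⊢
      simp only [Nat.primeFactorsList_ofNat] at h3 ⊢
      exact list_aux _ p hodd h3 (by decide)

end Cfsg.Agent.S2367
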