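import Cfsg.Statements.S2368
import Cfsg.Agent.Helper12.Unipotent

set_option autoImplicit false
open Cfsg

namespace Cfsg.Agent.S2368

open Cfsg.Agent.Helper12

theorem pow_clog_lt (p m : ℕ) (hp : 2 ≤ p) (hm : 1 ≤ m) : p ^ Nat.clog p m < p * m := by
  rcases Nat.lt_or_ge 1 m with h | h
  · have h1 := Nat.pow_pred_clog_lt_self (b := p) (by omega) h
    have h2 : 0 < Nat.clog p m := Nat.clog_pos (by omega) h
    have h3 : Nat.clog p m = (Nat.clog p m).pred + 1 := by
      rw [Nat.pred_eq_sub_one]; omega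
    rw [h3, pow_succ, mul_comm]
    exact Nat.mul_lt_mul_of_pos_left h1 (by omega)
  · have : m = 1 := by omega
    subst this
    simp
    omega

theorem result {F : Type*} [Field F] [Fintype F] (p : ℕ) [Fact p.Prime] [CharP F p] (m : ℕ) (hm : 1 ≤ m) :
    (∀ g : Matrix.GeneralLinearGroup (Fin m) F, (∃ j : ℕ, orderOf g = p ^ j) → orderOf g < p * m) ∧
      ∃ g : Matrix.GeneralLinearGroup (Fin m) F, (∃ j : ℕ, orderOf g = p ^ j) ∧ m ≤ orderOf g := by
  obtain ⟨m', rfl⟩ : ∃ m', m = m' + 1 := ⟨m - 1, by omega⟩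
  have hp : p.Prime := Fact.out
  have hp2 : 2 ≤ p := hp.two_le
  have hle : m' + 1 ≤ p ^ Nat.clog p (m' + 1) := Nat.le_pow_clog (by omega) _
  constructor
  · rintro g ⟨j, hj⟩
    set A : Matrix (Fin (m' + 1)) (Fin (m' + 1)) F := (g : Matrix (Fin (m' + 1)) (Fin (m' + 1)) F)
      with hA
    have h1 : A ^ (p ^ j) = 1 := by
      have := pow_orderOf_eq_one g
      rw [hj] at this
      have h2 := congrArg (fun u : Matrix.GeneralLinearGroup (Fin (m' + 1)) F =>
        (u : Matrix (Fin (m' + 1)) (Fin (m' + 1)) F)) this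
      simpa using h2
    have h2 := sub_one_pow_eq_zero_of_pow_eq_one p A j h1
    have h3 : (A - 1) ^ (m' + 1) = 0 := by
      have := nilpotent_pow_card (A - 1) ⟨_, h2⟩
      simpa using this
    have h4 : (A - 1) ^ (p ^ Nat.clog p (m' + 1)) = 0 := pow_eq_zero_of_le hle h3
    have h5 := pow_eq_one_of_sub_one_pow_eq_zero p A _ h4
    have h6 : g ^ (p ^ Nat.clog p (m' + 1)) = 1 := by
      apply Units.ext
      simpa using h5
    have h7 : orderOf g ∣ p ^ Nat.clog p (m' + 1) := orderOf_dvd_of_pow_eq_one h6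
    have h8 : orderOf g ≤ p ^ Nat.clog p (m' + 1) := Nat.le_of_dvd (by positivity) h7
    exact lt_of_le_of_lt h8 (pow_clog_lt p (m' + 1) hp2 hm)
  · set J := shiftMatrix (m' + 1) F with hJ
    set A : Matrix (Fin (m' + 1)) (Fin (m' + 1)) F := 1 + J with hA
    have hAJ : A - 1 = J := by rw [hA]; abel
    have h4 : (A - 1) ^ (p ^ Nat.clog p (m' + 1)) = 0 := by
      rw [hAJ]; exact shiftMatrix_pow_eq_zero _ _ _ hle
    have h5 := pow_eq_one_of_sub_one_pow_eq_zero p A _ h4
    have hunit : IsUnit A := IsUnit.of_pow_eq_one h5 (by positivity)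
    set g : Matrix.GeneralLinearGroup (Fin (m' + 1)) F := hunit.unit with hg
    have hgA : (g : Matrix (Fin (m' + 1)) (Fin (m' + 1)) F) = A := IsUnit.unit_spec hunit
    have h6 : g ^ (p ^ Nat.clog p (m' + 1)) = 1 := by
      apply Units.ext
      simpa [hgA] using h5
    have h7 : orderOf g ∣ p ^ Nat.clog p (m' + 1) := orderOf_dvd_of_pow_eq_one h6
    obtain ⟨j, _, hj⟩ := (Nat.dvd_prime_pow hp).1 h7
    refine ⟨g, ⟨j, hj⟩, ?_⟩
    by_contra hlt
    rw [not_le] at hlt
    have h8 : A ^ (p ^ j) = 1 := by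
      have := pow_orderOf_eq_one g
      rw [hj] at this
      have h2 := congrArg (fun u : Matrix.GeneralLinearGroup (Fin (m' + 1)) F =>
        (u : Matrix (Fin (m' + 1)) (Fin (m' + 1)) F)) this
      simpa [hgA] using h2
    have h9 := sub_one_pow_eq_zero_of_pow_eq_one p A j h8
    rw [hAJ] at h9
    rw [hj] at hlt
    exact shiftMatrix_pow_ne_zero (m' + 1) F (p ^ j) hlt h9

end Cfsg.Agent.S2368
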