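import Cfsg.Statements.S2390
import Cfsg.Agent.Helper21.SUD7
import Cfsg.Agent.Helper21.SUReg3
-- import your own Cfsg.Agent.* helpers here

set_option autoImplicit false
open Cfsg

namespace Cfsg.Agent.S2390

/-- In the special unitary group `SU_n(q)` (inside `SL_n` over the field with `q²` elements), `q` a power of the prime `p`, two elements of order prime to `p` with the same characteristic polynomial are conjugate in `SU_n(q)`. -/
theorem result {F : Type*} [Field F] [Fintype F] {q : ℕ} (hF : Fintype.card F = q ^ 2) (p : ℕ) [Fact p.Prime] [CharP F p] (n : ℕ)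
    (g h : ↥(Cfsg.SU n F q)) (hg : (orderOf g).Coprime p) (hh : (orderOf h).Coprime p)
    (hc : ((g : Matrix.SpecialLinearGroup (Fin n) F) : Matrix (Fin n) (Fin n) F).charpoly =
      ((h : Matrix.SpecialLinearGroup (Fin n) F) : Matrix (Fin n) (Fin n) F).charpoly) : IsConj g h := by
  rcases Nat.eq_zero_or_pos n with h0 | hn
  · subst h0
    have : g = h := by
      apply Subtype.ext
      apply Subtype.ext
      apply Matrix.ext
      intro i
      exact i.elim0
    rw [this]
  obtain ⟨σ, hσ, hσ2⟩ := Cfsg.Agent.Helper28.exists_frob hF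
  have hGU : ∀ s : ↥(Cfsg.SU n F q),
      Matrix.transpose ((s : Matrix.SpecialLinearGroup (Fin n) F) : Matrix (Fin n) (Fin n) F) *
        ((s : Matrix.SpecialLinearGroup (Fin n) F) : Matrix (Fin n) (Fin n) F).map σ = 1 := by
    intro s
    have h1 := (Cfsg.Agent.Helper2.Herm.mem_SU_iff (s : Matrix.SpecialLinearGroup (Fin n) F)).1 s.2
    exact (Cfsg.Agent.Helper28.GUlib.mem_GU_iff σ hσ _).1 h1
  have hpow : ∀ s : ↥(Cfsg.SU n F q),
      ((s : Matrix.SpecialLinearGroup (Fin n) F) : Matrix (Fin n) (Fin n) F) ^ orderOf s = 1 := by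
    intro s
    have h1 := pow_orderOf_eq_one s
    have h2 := congrArg (fun x : ↥(Cfsg.SU n F q) =>
      ((x : Matrix.SpecialLinearGroup (Fin n) F) : Matrix (Fin n) (Fin n) F)) h1
    simpa only [SubmonoidClass.coe_pow, Matrix.SpecialLinearGroup.coe_pow, OneMemClass.coe_one,
      Matrix.SpecialLinearGroup.coe_one] using h2
  have hss : ∀ s : ↥(Cfsg.SU n F q), (orderOf s).Coprime p →
      Module.End.IsSemisimple (Matrix.toLin'
        ((s : Matrix.SpecialLinearGroup (Fin n) F) : Matrix (Fin n) (Fin n) F)) := by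
    intro s hs
    exact Cfsg.Agent.Helper12.isSemisimple_of_pow_eq_one _ (orderOf s)
      (Cfsg.Agent.Helper12.SympConj.natCast_ne_zero_of_coprime p hs) (hpow s)
  obtain ⟨x, hx, hxdet, hxg⟩ := Cfsg.Agent.Helper21.SUD.exists_su_conj hF σ hσ hσ2 hn _ _
    (hGU g) (hGU h) (hss g hg) (hss h hh) hc
  let s : Matrix.SpecialLinearGroup (Fin n) F := ⟨x, hxdet⟩
  have hs : s ∈ Cfsg.SU n F q := by
    rw [Cfsg.Agent.Helper2.Herm.mem_SU_iff, Cfsg.Agent.Helper28.GUlib.mem_GU_iff σ hσ]
    exact hx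
  rw [isConj_iff]
  refine ⟨⟨s, hs⟩, ?_⟩
  rw [mul_inv_eq_iff_eq_mul]
  apply Subtype.ext
  apply Subtype.ext
  exact hxg

end Cfsg.Agent.S2390
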