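import Cfsg.Statements.S2386
import Cfsg.Agent.Helper21.SUC2
import Cfsg.Agent.S2390
-- import your own Cfsg.Agent.* helpers here

set_option autoImplicit false
open Cfsg

namespace Cfsg.Agent.S2386

/-- In the special unitary group `SU_n(q)` (matrices of determinant one over the field with `q²` elements preserving the standard Hermitian form), `q` a power of the prime `p`, the number of conjugacy classes of elements of order prime to `p` is `q^(n-1)`. -/
theorem result {F : Type*} [Field F] [Fintype F] {q : ℕ} (hF : Fintype.card F = q ^ 2) (p : ℕ) [Fact p.Prime] [CharP F p] (n : ℕ) (hn : 1 ≤ n) :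
    Nat.card {c : ConjClasses ↥(Cfsg.SU n F q) // ∃ g : ↥(Cfsg.SU n F q), ConjClasses.mk g = c ∧ (orderOf g).Coprime p} = q ^ (n - 1) := by
  classical
  obtain ⟨m, rfl⟩ : ∃ m, n = m + 1 := ⟨n - 1, by omega⟩
  rw [Nat.add_sub_cancel]
  obtain ⟨σ, hσ, hσ2⟩ := Cfsg.Agent.Helper28.exists_frob hF
  obtain ⟨ξ0, hξ0⟩ := Cfsg.Agent.Helper21.NS.exists_pow_ne hF
  have hξ0' : σ ξ0 ≠ ξ0 := by rw [hσ]; exact hξ0
  rw [← Cfsg.Agent.Helper21.SUC.card_fix_tauC σ hF hσ2 ξ0 hξ0' m]
  have hfinG : Finite ↥(Cfsg.SU (m + 1) F q) := Subtype.finite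
  -- facts on characteristic polynomials of elements of SU
  have hGU : ∀ s : ↥(Cfsg.SU (m + 1) F q),
      Matrix.transpose ((s : Matrix.SpecialLinearGroup (Fin (m + 1)) F) :
          Matrix (Fin (m + 1)) (Fin (m + 1)) F) *
        ((s : Matrix.SpecialLinearGroup (Fin (m + 1)) F) :
          Matrix (Fin (m + 1)) (Fin (m + 1)) F).map σ = 1 := by
    intro s
    have h1 := (Cfsg.Agent.Helper2.Herm.mem_SU_iff
      (s : Matrix.SpecialLinearGroup (Fin (m + 1)) F)).1 s.2
    exact (Cfsg.Agent.Helper28.GUlib.mem_GU_iff σ hσ _).1 h1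
  have hc0 : ∀ s : ↥(Cfsg.SU (m + 1) F q),
      ((s : Matrix.SpecialLinearGroup (Fin (m + 1)) F) :
        Matrix (Fin (m + 1)) (Fin (m + 1)) F).charpoly.coeff 0 = (-1) ^ (m + 1) := by
    intro s
    have h1 := Matrix.det_eq_sign_charpoly_coeff
      ((s : Matrix.SpecialLinearGroup (Fin (m + 1)) F) : Matrix (Fin (m + 1)) (Fin (m + 1)) F)
    rw [(s : Matrix.SpecialLinearGroup (Fin (m + 1)) F).2, Fintype.card_fin] at h1
    have h2 : (-1) ^ (m + 1) * (1 : F) = (-1) ^ (m + 1) * ((-1) ^ (m + 1) *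
        ((s : Matrix.SpecialLinearGroup (Fin (m + 1)) F) :
          Matrix (Fin (m + 1)) (Fin (m + 1)) F).charpoly.coeff 0) := by rw [← h1]
    rw [← mul_assoc, Cfsg.Agent.Helper21.SUC.eps_mul_eps, one_mul, mul_one] at h2
    exact h2.symm
  have hfix : ∀ s : ↥(Cfsg.SU (m + 1) F q),
      Cfsg.Agent.Helper21.SUC.tauC σ m (Cfsg.Agent.Helper21.SUC.coeffVec m
        ((s : Matrix.SpecialLinearGroup (Fin (m + 1)) F) :
          Matrix (Fin (m + 1)) (Fin (m + 1)) F).charpoly) =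
      Cfsg.Agent.Helper21.SUC.coeffVec m
        ((s : Matrix.SpecialLinearGroup (Fin (m + 1)) F) :
          Matrix (Fin (m + 1)) (Fin (m + 1)) F).charpoly := by
    intro s
    rw [← Cfsg.Agent.Helper21.SUC.star_eq_self_iff σ (Matrix.charpoly_monic _)
      (by rw [Matrix.charpoly_natDegree_eq_dim, Fintype.card_fin]) (hc0 s)]
    exact Cfsg.Agent.Helper21.SUC.charpoly_star_of_unitary σ (hGU s)
  symm
  apply Nat.card_congr
  refine Equiv.ofBijective (fun a => ⟨ConjClasses.mk (Classical.choose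
    (Cfsg.Agent.Helper21.SUC.exists_su_charpoly hF p σ hσ hσ2 m a.1 a.2)),
    ⟨_, rfl, (Classical.choose_spec
      (Cfsg.Agent.Helper21.SUC.exists_su_charpoly hF p σ hσ hσ2 m a.1 a.2)).1⟩⟩) ⟨?_, ?_⟩
  · -- injective
    intro a b hab
    have h1 := congrArg Subtype.val hab
    simp only at h1
    have h2 := ConjClasses.mk_eq_mk_iff_isConj.1 h1
    have hspa := Classical.choose_spec
      (Cfsg.Agent.Helper21.SUC.exists_su_charpoly hF p σ hσ hσ2 m a.1 a.2)
    have hspb := Classical.choose_spec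
      (Cfsg.Agent.Helper21.SUC.exists_su_charpoly hF p σ hσ hσ2 m b.1 b.2)
    have h3 := Cfsg.Agent.Helper12.charpoly_eq_of_isConj_sl
        (MonoidHom.map_isConj (Cfsg.SU (m + 1) F q).subtype h2)
    simp only [Subgroup.coe_subtype] at h3
    rw [hspa.2, hspb.2] at h3
    apply Subtype.ext
    rw [← Cfsg.Agent.Helper21.SUC.coeffVec_polyC m a.1, h3,
      Cfsg.Agent.Helper21.SUC.coeffVec_polyC]
  · -- surjective
    rintro ⟨c, g, rfl, hg⟩
    refine ⟨⟨Cfsg.Agent.Helper21.SUC.coeffVec m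
      ((g : Matrix.SpecialLinearGroup (Fin (m + 1)) F) :
        Matrix (Fin (m + 1)) (Fin (m + 1)) F).charpoly, hfix g⟩, ?_⟩
    apply Subtype.ext
    simp only
    rw [ConjClasses.mk_eq_mk_iff_isConj]
    have hsp := Classical.choose_spec (Cfsg.Agent.Helper21.SUC.exists_su_charpoly hF p σ hσ hσ2 m
      (Cfsg.Agent.Helper21.SUC.coeffVec m
      ((g : Matrix.SpecialLinearGroup (Fin (m + 1)) F) :
        Matrix (Fin (m + 1)) (Fin (m + 1)) F).charpoly) (hfix g))
    apply Cfsg.Agent.S2390.result hF p (m + 1) _ g hsp.1 hg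
    rw [hsp.2]
    exact (Cfsg.Agent.Helper21.SUC.eq_polyC (Matrix.charpoly_monic _)
      (by rw [Matrix.charpoly_natDegree_eq_dim, Fintype.card_fin]) (hc0 g)).symm

end Cfsg.Agent.S2386
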