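import Cfsg.Statements.S2389
import Cfsg.Agent.Helper12.SympConjJ

set_option autoImplicit false
open Cfsg

namespace Cfsg.Agent.S2389

/-- In the symplectic group `Sp_{2n}(q)`, `q` a power of the prime `p`, two elements of order prime to `p` with the same characteristic polynomial are conjugate in `Sp_{2n}(q)`. -/
theorem result {F : Type*} [Field F] [Fintype F] (p : ℕ) [Fact p.Prime] [CharP F p] (n : ℕ)
    (g h : ↥(Matrix.symplecticGroup (Fin n) F)) (hg : (orderOf g).Coprime p) (hh : (orderOf h).Coprime p)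
    (hc : (g : Matrix (Fin n ⊕ Fin n) (Fin n ⊕ Fin n) F).charpoly = (h : Matrix (Fin n ⊕ Fin n) (Fin n ⊕ Fin n) F).charpoly) :
    IsConj g h := by
  have hpow : ∀ a : ↥(Matrix.symplecticGroup (Fin n) F),
      (a : Matrix (Fin n ⊕ Fin n) (Fin n ⊕ Fin n) F) ^ orderOf a = 1 := by
    intro a
    have h1 := pow_orderOf_eq_one a
    have h2 := congrArg (fun x : ↥(Matrix.symplecticGroup (Fin n) F) =>
      (x : Matrix (Fin n ⊕ Fin n) (Fin n ⊕ Fin n) F)) h1
    simpa only [SubmonoidClass.coe_pow, OneMemClass.coe_one] using h2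
  exact Cfsg.Agent.Helper12.SympConj.sp_isConj_of_semisimple n g h
    (Cfsg.Agent.Helper12.SympConj.isSemisimple_toLin'_of_pow_eq_one _ (orderOf g)
      (Cfsg.Agent.Helper12.SympConj.natCast_ne_zero_of_coprime p hg) (hpow g))
    (Cfsg.Agent.Helper12.SympConj.isSemisimple_toLin'_of_pow_eq_one _ (orderOf h)
      (Cfsg.Agent.Helper12.SympConj.natCast_ne_zero_of_coprime p hh) (hpow h)) hc

end Cfsg.Agent.S2389
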