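import Cfsg.Statements.S2391
import Cfsg.Agent.Helper12.FixSeries

set_option autoImplicit false
open Cfsg

namespace Cfsg.Agent.S2391

open Cfsg.Agent.Helper12

variable {F : Type*} [Field F] {n : ℕ}

/-- The natural representation of a subgroup of `SL_n`. -/
def natRep (U : Subgroup (Matrix.SpecialLinearGroup (Fin n) F)) :
    Representation F ↥U (Fin n → F) where
  toFun u := Matrix.mulVecLin ((u : Matrix.SpecialLinearGroup (Fin n) F) : Matrix (Fin n) (Fin n) F)
  map_one' := by simp; rfl
  map_mul' a b := by simp [Matrix.mulVecLin_mul]; rfl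

theorem natRep_apply (U : Subgroup (Matrix.SpecialLinearGroup (Fin n) F)) (u : ↥U) (v : Fin n → F) :
    natRep U u v = ((u : Matrix.SpecialLinearGroup (Fin n) F) : Matrix (Fin n) (Fin n) F).mulVec v :=
  rfl

theorem mem_series_succ (U : Subgroup (Matrix.SpecialLinearGroup (Fin n) F)) (i : ℕ) (v : Fin n → F) :
    v ∈ fixSeries (natRep U) (i + 1) ↔
      ∀ u ∈ U, (u : Matrix (Fin n) (Fin n) F).mulVec v - v ∈ fixSeries (natRep U) i := by
  rw [mem_fixSeries_succ]
  constructor
  · intro h u hu
    exact h ⟨u, hu⟩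
  · intro h u
    exact h u.1 u.2

theorem series_map_le (U : Subgroup (Matrix.SpecialLinearGroup (Fin n) F))
    (g : Matrix.SpecialLinearGroup (Fin n) F)
    (hg : g ∈ Subgroup.normalizer (U : Set (Matrix.SpecialLinearGroup (Fin n) F))) (i : ℕ) :
    (fixSeries (natRep U) i).map (Matrix.mulVecLin (g : Matrix (Fin n) (Fin n) F)) ≤
      fixSeries (natRep U) i := by
  induction i with
  | zero => rw [fixSeries_zero, Submodule.map_bot]
  | succ j ih =>
    rintro w ⟨v, hv, rfl⟩
    rw [SetLike.mem_coe, mem_series_succ] at hv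
    rw [mem_series_succ]
    intro u hu
    have hconj : g⁻¹ * u * g ∈ U := by
      have h1 : g⁻¹ ∈ Subgroup.normalizer (U : Set (Matrix.SpecialLinearGroup (Fin n) F)) :=
        Subgroup.inv_mem _ hg
      have h2 := (Subgroup.mem_normalizer_iff.1 h1 u).1 hu
      simpa using h2
    have h3 := hv _ hconj
    have h4 : (u : Matrix (Fin n) (Fin n) F).mulVec
          (Matrix.mulVecLin (g : Matrix (Fin n) (Fin n) F) v) -
        Matrix.mulVecLin (g : Matrix (Fin n) (Fin n) F) v =
        Matrix.mulVecLin (g : Matrix (Fin n) (Fin n) F)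
          (((g⁻¹ * u * g : Matrix.SpecialLinearGroup (Fin n) F) : Matrix (Fin n) (Fin n) F).mulVec v
            - v) := by
      have e : (g : Matrix (Fin n) (Fin n) F) *
          ((g⁻¹ * u * g : Matrix.SpecialLinearGroup (Fin n) F) : Matrix (Fin n) (Fin n) F) =
          (u : Matrix (Fin n) (Fin n) F) * (g : Matrix (Fin n) (Fin n) F) := by
        have e' : g * (g⁻¹ * u * g) = u * g := by group
        rw [← Matrix.SpecialLinearGroup.coe_mul, e', Matrix.SpecialLinearGroup.coe_mul]
      simp only [Matrix.mulVecLin_apply, Matrix.mulVec_sub, Matrix.mulVec_mulVec, e]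
    rw [h4]
    exact ih (Submodule.mem_map_of_mem h3)

theorem series_map_eq (U : Subgroup (Matrix.SpecialLinearGroup (Fin n) F))
    (g : Matrix.SpecialLinearGroup (Fin n) F)
    (hg : g ∈ Subgroup.normalizer (U : Set (Matrix.SpecialLinearGroup (Fin n) F))) (i : ℕ) :
    (fixSeries (natRep U) i).map (Matrix.mulVecLin (g : Matrix (Fin n) (Fin n) F)) =
      fixSeries (natRep U) i := by
  apply le_antisymm (series_map_le U g hg i)
  intro v hv
  have h1 : g⁻¹ ∈ Subgroup.normalizer (U : Set (Matrix.SpecialLinearGroup (Fin n) F)) :=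
    Subgroup.inv_mem _ hg
  have h2 : Matrix.mulVecLin ((g⁻¹ : Matrix.SpecialLinearGroup (Fin n) F) : Matrix (Fin n) (Fin n) F) v
      ∈ fixSeries (natRep U) i := series_map_le U g⁻¹ h1 i (Submodule.mem_map_of_mem hv)
  refine ⟨_, h2, ?_⟩
  simp only [Matrix.mulVecLin_apply, Matrix.mulVec_mulVec]
  rw [← Matrix.SpecialLinearGroup.coe_mul, mul_inv_cancel]
  simp

theorem result {F : Type*} [Field F] [Fintype F] (p : ℕ) [Fact p.Prime] [CharP F p] (n : ℕ)
    (U : Subgroup (Matrix.SpecialLinearGroup (Fin n) F)) (hU : IsPGroup p ↥U) (hne : U ≠ ⊥) :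
    ∃ (k : ℕ) (V : Fin (k + 2) → Submodule F (Fin n → F)), 1 ≤ k ∧ StrictMono V ∧ V 0 = ⊥ ∧ V (Fin.last (k + 1)) = ⊤ ∧
      (∀ g ∈ Subgroup.normalizer (U : Set (Matrix.SpecialLinearGroup (Fin n) F)), ∀ i, (V i).map (Matrix.mulVecLin (g : Matrix (Fin n) (Fin n) F)) = V i) ∧
      (∀ u ∈ U, ∀ i : Fin (k + 1), ∀ v ∈ V i.succ, (u : Matrix (Fin n) (Fin n) F).mulVec v - v ∈ V (Fin.castSucc i)) := by
  classical
  have hex := exists_fixSeries_eq_top (natRep U) p hU
  set N := Nat.find hex with hN
  have hNtop : fixSeries (natRep U) N = ⊤ := Nat.find_spec hex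
  have hmin : ∀ i < N, fixSeries (natRep U) i ≠ ⊤ := fun i hi => Nat.find_min hex hi
  -- the first fixed space is not everything
  have h1 : fixSeries (natRep U) 1 ≠ ⊤ := by
    intro h
    apply hne
    rw [Subgroup.eq_bot_iff_forall]
    intro u hu
    apply Subtype.ext
    have h2 : ∀ v : Fin n → F, (u : Matrix (Fin n) (Fin n) F).mulVec v = v := by
      intro v
      have hv : v ∈ fixSeries (natRep U) (0 + 1) := by rw [zero_add, h]; trivial
      rw [mem_series_succ] at hv
      have := hv u hu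
      rw [fixSeries_zero, Submodule.mem_bot, sub_eq_zero] at this
      exact this
    have h3 : Matrix.toLin' (u : Matrix (Fin n) (Fin n) F) = Matrix.toLin' 1 := by
      apply LinearMap.ext
      intro v
      rw [Matrix.toLin'_apply, h2]
      simp
    exact Matrix.toLin'.injective h3
  have hN2 : 2 ≤ N := by
    by_contra hlt
    have hle : N ≤ 1 := by omega
    have := fixSeries_mono (natRep U) hle
    rw [hNtop] at this
    exact h1 (eq_top_iff.2 this)
  obtain ⟨k, hk⟩ : ∃ k, N = k + 1 := ⟨N - 1, by omega⟩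
  refine ⟨k, fun i => fixSeries (natRep U) i.val, by omega, ?_, ?_, ?_, ?_, ?_⟩
  · rw [Fin.strictMono_iff_lt_succ]
    intro i
    simp only [Fin.val_castSucc, Fin.val_succ]
    exact fixSeries_lt_succ (natRep U) p hU i.val (hmin _ (by have := i.isLt; omega))
  · simp [fixSeries_zero]
  · simp only [Fin.val_last]
    rw [← hk]; exact hNtop
  · intro g hg i
    exact series_map_eq U g hg i.val
  · intro u hu i v hv
    simp only [Fin.val_succ] at hv
    simp only [Fin.val_castSucc]
    exact (mem_series_succ U i.val v).1 hv u hu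

end Cfsg.Agent.S2391
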