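import Cfsg.Statements.S2393
import Cfsg.Agent.S2392
import Cfsg.Agent.Helper12.CrossCharD
import Cfsg.Agent.Helper12.CrossCharSp

set_option autoImplicit false
open scoped MatrixGroups
open Cfsg

namespace Cfsg.Agent.Helper12

open Matrix

/-- The nonzero squares of a finite field. -/
def sqSet (F : Type*) [Field F] [Fintype F] [DecidableEq F] : Finset F :=
  (Finset.univ.filter (fun s : F => s ≠ 0)).image (fun s => s ^ 2)

theorem card_sub_one_le_two_mul_card_sqSet (F : Type*) [Field F] [Fintype F] [DecidableEq F] :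
    Fintype.card F - 1 ≤ 2 * (sqSet F).card := by
  have h1 := Finset.card_le_mul_card_image (f := fun s : F => s ^ 2)
    (Finset.univ.filter (fun s : F => s ≠ 0)) 2 ?_
  · have h2 : (Finset.univ.filter (fun s : F => s ≠ 0)).card = Fintype.card F - 1 := by
      rw [Finset.filter_ne' Finset.univ (0 : F), Finset.card_erase_of_mem (Finset.mem_univ _),
        Finset.card_univ]
    rw [h2] at h1
    exact h1
  · intro u hu
    obtain ⟨s, -, rfl⟩ := Finset.mem_image.1 hu
    refine le_trans (Finset.card_le_card (t := {s, -s}) ?_) Finset.card_le_two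
    intro x hx
    rw [Finset.mem_filter] at hx
    rw [Finset.mem_insert, Finset.mem_singleton]
    exact sq_eq_sq_iff_eq_or_eq_neg.1 hx.2

theorem crossChar_bound_sp {F : Type*} [Field F] [Fintype F] [DecidableEq F] {m : ℕ}
    (h2 : (2 : F) ≠ 0)
    {K : Type*} [Field K] (hK : ringChar K ≠ ringChar F) {d : ℕ}
    (ρ : ↥(Matrix.symplecticGroup (Fin (m + 1)) F) →* GL (Fin d) K)
    (hker : ρ.ker ≤ Subgroup.center ↥(Matrix.symplecticGroup (Fin (m + 1)) F)) :
    Fintype.card F ^ (m + 1 - 1) * (Fintype.card F - 1) / 2 ≤ d := by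
  rw [Nat.add_sub_cancel]
  let P := AddChar.FiniteField.primitiveChar F K hK
  let φ : K →+* CyclotomicField P.n K := algebraMap K _
  let ρ' : ↥(Matrix.symplecticGroup (Fin (m + 1)) F) →* GL (Fin d) (CyclotomicField P.n K) :=
    (Matrix.GeneralLinearGroup.map φ).comp ρ
  have hρ' : ∀ g, ρ' g = 1 → g ∈ Subgroup.center ↥(Matrix.symplecticGroup (Fin (m + 1)) F) := by
    intro g hg
    apply hker
    rw [MonoidHom.mem_ker]
    exact glMap_eq_one φ _ hg
  have hq' : ((Fintype.card F : ℕ) : CyclotomicField P.n K) ≠ 0 := by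
    apply natCast_card_ne_zero
    rw [← Algebra.ringChar_eq K (CyclotomicField P.n K)]
    exact hK
  set R : (Fin (m + 1) → F) → Matrix (Fin d) (Fin d) (CyclotomicField P.n K) :=
    fun a => ((ρ' (uSp a) : GL (Fin d) (CyclotomicField P.n K)) :
      Matrix (Fin d) (Fin d) (CyclotomicField P.n K)) with hR
  have hR0 : R 0 = 1 := by
    simp only [hR, uSp_zero, map_one, Units.val_one]
  have hRadd : ∀ a b, R (a + b) = R a * R b := by
    intro a b
    simp only [hR, uSp_add, map_mul, Units.val_mul]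
  have hRne : R (Pi.single 0 1) ≠ 1 := by
    intro h
    have h1 : ρ' (uSp (Pi.single (0 : Fin (m + 1)) (1 : F))) = 1 := Units.ext h
    refine uSp_not_mem_center h2 ?_ (hρ' _ h1)
    intro h3
    have := congrFun h3 0
    simp at this
  obtain ⟨c, hc0, hcY⟩ := exists_weight_dot_ne_zero P.char R P.prim hq' hR0 hRadd hRne
  rw [single_dotProduct, one_mul] at hc0
  -- moving weights by Levi elements
  have hmove : ∀ (g h : Matrix (Fin (m + 1)) (Fin (m + 1)) F) (hhg : h * g = 1) (s : F)
      (hs : h *ᵥ (Pi.single 0 1 : Fin (m + 1) → F) = s • Pi.single 0 1) (c : Fin (m + 1) → F),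
      (∃ v : Fin d → CyclotomicField P.n K, v ≠ 0 ∧ IsWeight P.char R c v) →
      ∃ v : Fin d → CyclotomicField P.n K, v ≠ 0 ∧ IsWeight P.char R (s • hᵀ *ᵥ c) v := by
    intro g h hhg s hs c ⟨v, hv0, hv⟩
    refine ⟨((ρ' (leviSp g h hhg) : GL (Fin d) (CyclotomicField P.n K)) :
      Matrix (Fin d) (Fin d) (CyclotomicField P.n K)) *ᵥ v, ?_, ?_⟩
    · intro hzero
      apply hv0
      have h1 := congrArg (fun w =>
        ((ρ' (leviSp g h hhg))⁻¹ : GL (Fin d) (CyclotomicField P.n K)).1 *ᵥ w) hzero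
      simp only [Matrix.mulVec_mulVec, Matrix.mulVec_zero] at h1
      rw [← Units.val_mul, inv_mul_cancel, Units.val_one, Matrix.one_mulVec] at h1
      exact h1
    · refine IsWeight.map' P.char R (T := fun a => s • h *ᵥ a) ?_ ?_ hv
      · intro a
        simp only [hR, ← Units.val_mul, ← map_mul, uSp_mul_leviSp g h hhg s hs]
      · intro a
        exact smul_mulVec_dot h s a c
  -- the family of weights
  have hfam : ∀ i : {u : F // u ∈ sqSet F} × (Fin m → F),
      ∃ v : Fin d → CyclotomicField P.n K, v ≠ 0 ∧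
        IsWeight P.char R (Fin.cons (i.1.1 * c 0) i.2 : Fin (m + 1) → F) v := by
    rintro ⟨⟨u, hu⟩, x⟩
    obtain ⟨s, hs, rfl⟩ := Finset.mem_image.1 hu
    have hs0 : s ≠ 0 := (Finset.mem_filter.1 hs).2
    -- shear
    have h1 := hmove (ccuMat (-(fun j => (s⁻¹ * x j - c j.succ) / c 0)))
      (ccuMat (fun j => (s⁻¹ * x j - c j.succ) / c 0))
      (by rw [← ccuMat_add, add_neg_cancel, ccuMat_zero]) 1 (ccuMat_mulVec_single _) c hcY
    have h3 := hmove (torMat s⁻¹) (torMat s) (torMat_mul (mul_inv_cancel₀ hs0)) s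
      (torMat_mulVec_single s) _ h1
    convert h3 using 4
    ext i
    simp only [one_smul, ccuMat_transpose_mulVec, torMat_transpose, Pi.smul_apply, smul_eq_mul,
      torMat_mulVec, Pi.add_apply]
    refine Fin.cases ?_ (fun j => ?_) i
    · simp only [Fin.cons_zero, if_pos, succE_mulVec_zero]
      ring
    · simp only [Fin.cons_succ, if_neg (Fin.succ_ne_zero j), succE_mulVec_succ]
      field_simp
      ring
  have hinj : Function.Injective (fun i : {u : F // u ∈ sqSet F} × (Fin m → F) =>
      (Fin.cons (i.1.1 * c 0) i.2 : Fin (m + 1) → F)) := by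
    rintro ⟨⟨u, hu⟩, x⟩ ⟨⟨u', hu'⟩, x'⟩ h
    have h1 := Fin.cons_injective2 h
    simp only at h1
    have h3 : u = u' := mul_right_cancel₀ hc0 h1.1
    subst h3
    rw [h1.2]
  have hcard := card_le_of_isWeight P.char R P.prim hq' _ hinj hfam
  rw [Fintype.card_prod, Fintype.card_coe, Fintype.card_fun, Fintype.card_fin] at hcard
  refine le_trans ?_ hcard
  apply Nat.div_le_of_le_mul
  have := card_sub_one_le_two_mul_card_sqSet F
  calc Fintype.card F ^ m * (Fintype.card F - 1)
      ≤ Fintype.card F ^ m * (2 * (sqSet F).card) := Nat.mul_le_mul_left _ this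
    _ = 2 * ((sqSet F).card * Fintype.card F ^ m) := by ring

end Cfsg.Agent.Helper12

namespace Cfsg.Agent.S2393

/-- A lower bound for representations in cross characteristic: for `n ≥ 2` and a field `F` with `q` elements, `q` odd, every homomorphism from the symplectic group `Sp_{2n}(F)` to `GL_d(K)`, `K` a field of characteristic different from that of `F`, whose kernel is central has `d ≥ q^(n-1)(q-1)/2`. -/
theorem result {F : Type*} [Field F] [Fintype F] {q : ℕ} (hq : Fintype.card F = q) (hodd : Odd q) (n : ℕ) (hn : 2 ≤ n)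
    {K : Type*} [Field K] (hK : ringChar K ≠ ringChar F) {d : ℕ}
    (ρ : ↥(Matrix.symplecticGroup (Fin n) F) →* GL (Fin d) K) (hker : ρ.ker ≤ Subgroup.center ↥(Matrix.symplecticGroup (Fin n) F)) :
    q ^ (n - 1) * (q - 1) / 2 ≤ d := by
  classical
  obtain ⟨m, rfl⟩ : ∃ m, n = m + 1 := ⟨n - 1, by omega⟩
  subst hq
  have h2 : (2 : F) ≠ 0 := by
    intro h
    have h3 : ringChar F = 2 := by
      have h4 : ((2 : ℕ) : F) = 0 := by exact_mod_cast h
      have h5 : ringChar F ∣ 2 := (ringChar.spec F 2).1 h4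
      rcases (Nat.dvd_prime Nat.prime_two).1 h5 with h6 | h6
      · exact (CharP.ringChar_ne_one h6).elim
      · exact h6
    have h7 := FiniteField.even_card_iff_char_two.1 h3
    rcases hodd with ⟨k, hk⟩
    omega
  exact Helper12.crossChar_bound_sp h2 hK ρ hker

end Cfsg.Agent.S2393
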