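import Cfsg.Statements.S2394
import Cfsg.Agent.Helper12.SpFaithfulEven
import Cfsg.Agent.Helper12.SpFaithfulOdd

set_option autoImplicit false
open scoped MatrixGroups
open Cfsg

namespace Cfsg.Agent.S2394

/-- The smallest degree of a faithful representation of the symplectic group `Sp_{2n}(q)` over its own field `F_q` is `2n`: every injective homomorphism from `Sp_{2n}(F)` to `GL_d(F)`, `F` the field with `q` elements, has `d ≥ 2n`. -/
theorem result {F : Type*} [Field F] [Fintype F] (n : ℕ) {d : ℕ}
    (ρ : ↥(Matrix.symplecticGroup (Fin n) F) →* GL (Fin d) F) (hρ : Function.Injective ρ) : 2 * n ≤ d := by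
  by_cases h2 : (2 : F) = 0
  · have hchar : CharP F 2 := by
      have h3 : ((2 : ℕ) : F) = 0 := by exact_mod_cast h2
      have h5 : ringChar F ∣ 2 := (ringChar.spec F 2).1 h3
      rcases (Nat.dvd_prime Nat.prime_two).1 h5 with h6 | h6
      · exact (CharP.ringChar_ne_one h6).elim
      · exact ringChar.of_eq h6
    exact Helper12.sp_faithful_even ρ hρ
  · exact Helper12.sp_faithful_odd h2 ρ hρ

end Cfsg.Agent.S2394
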