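import Cfsg.Statements.S2395
import Mathlib
import Cfsg.Agent.Helper2.StPerfC

set_option autoImplicit false
open Cfsg

namespace Cfsg.Agent.S2395

open Cfsg.Lie Cfsg.Agent.Helper2.StPerf

/-- The group presented by Steinberg's generators x̄_r(t) subject only to (R1) (additivity) and (R2) (the commutator formula) is perfect, for each of the types G₂, B₂, D₄, F₄, E₆, E₇, E₈ over any field (for types B₂ and G₂ the field must have more than two elements — the cases where the Chevalley group is not simple are set aside). -/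
theorem result {K : Type*} [Field K] (D : Cfsg.Lie.ChevalleyDatum) (hD : D ∈ [Cfsg.Lie.chevG2, Cfsg.Lie.chevB2, Cfsg.Lie.chevD4, Cfsg.Lie.chevF4, Cfsg.Lie.chevE6, Cfsg.Lie.chevE7, Cfsg.Lie.chevE8]) (hK : D ∈ [Cfsg.Lie.chevB2, Cfsg.Lie.chevG2] → ∃ x : K, x ≠ 0 ∧ x ≠ 1) :
    commutator (D.SteinbergCover K) = ⊤ := by
  have hmk : ∀ w : List (ℕ × K), PresentedGroup.mk (D.steinbergRelsAB K) (D.stWord w) =
      wordX (fun r t => D.scGen K r t) w := by
    intro w
    unfold ChevalleyDatum.stWord wordX
    rw [map_list_prod, List.map_map]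
    rfl
  have hR : R12 D (fun r t => D.scGen K r t) := by
    constructor
    · intro r hr t u
      have h : PresentedGroup.mk (D.steinbergRelsAB K)
          (D.stX r t * D.stX r u * (D.stX r (t + u))⁻¹) = 1 :=
        PresentedGroup.one_of_mem (Or.inl ⟨r, t, u, hr, rfl⟩)
      rw [map_mul, map_mul, map_inv, mul_inv_eq_one] at h
      exact h
    · intro r hr s hs h1 h2 t u
      have h : PresentedGroup.mk (D.steinbergRelsAB K)
          ((D.stX s u)⁻¹ * (D.stX r t)⁻¹ * D.stX s u * D.stX r t *
            (D.stWord (D.commWord K r s t u))⁻¹) = 1 :=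
        PresentedGroup.one_of_mem (Or.inr ⟨r, s, t, u, hr, hs, h1, h2, rfl⟩)
      rw [map_mul, map_mul, map_mul, map_mul, map_inv, map_inv, map_inv, mul_inv_eq_one, hmk] at h
      exact h
  have hall := inDer_of_tabulated hD hR (fun h => hK (by rcases h with rfl | rfl <;> simp))
  rw [eq_top_iff, ← PresentedGroup.closure_range_of, Subgroup.closure_le]
  rintro _ ⟨⟨r, t⟩, rfl⟩
  have e : (PresentedGroup.of (r, t) : D.SteinbergCover K) = D.scGen K r.val t := by
    unfold ChevalleyDatum.scGen ChevalleyDatum.stX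
    rw [dif_pos r.isLt]
    rfl
  rw [e]
  exact hall r.val r.isLt t

end Cfsg.Agent.S2395
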