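import Cfsg.Statements.S2399
import Mathlib
import Cfsg.Agent.Helper2.S2399.Glue
import Cfsg.Agent.Helper2.S2398.B2
import Cfsg.Agent.Helper2.S2398.D4F4
import Cfsg.Agent.Helper2.Stb.UnivG2
import Cfsg.Agent.Helper2.Stein.E6
import Cfsg.Agent.Helper2.Stein.E7
import Cfsg.Agent.Helper2.Stein.E8

set_option autoImplicit false
open scoped MatrixGroups
open Cfsg

namespace Cfsg.Agent.S2399

/-- the four types with tables, in characteristic `p` or over a field with more than four
elements -/
theorem lift_aux {K : Type*} [Field K] {D : Cfsg.Lie.ChevalleyDatum}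
    (hD : Cfsg.Agent.Helper6.IsTabulated D) {ws : List (List ℕ)}
    (hG : Cfsg.Agent.Helper2.Stb.pairsChk D ws = true)
    (h2 : D = Cfsg.Lie.chevG2 ∨ D = Cfsg.Lie.chevB2 → ∃ a : K, a ≠ 0 ∧ a ≠ 1)
    {L : Type*} [Field L] (hL : ringChar L = ringChar K) {n : ℕ}
    (σ₀ : D.SteinbergCover K →* GL (Fin n) L ⧸ Subgroup.center (GL (Fin n) L))
    (hbig : (∃ s : Finset K, 4 < s.card) → ∃! ψ : D.SteinbergCover K →* GL (Fin n) L,
      (QuotientGroup.mk' (Subgroup.center (GL (Fin n) L))).comp ψ = σ₀) :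
    ∃! ψ : D.SteinbergCover K →* GL (Fin n) L,
      (QuotientGroup.mk' (Subgroup.center (GL (Fin n) L))).comp ψ = σ₀ := by
  classical
  have hcen : (QuotientGroup.mk' (Subgroup.center (GL (Fin n) L))).ker ≤
      Subgroup.center (GL (Fin n) L) := by rw [QuotientGroup.ker_mk']
  by_cases hchar : ringChar K = 0
  · have hz : CharZero K := by
      have h0 : CharP K 0 := by rw [← hchar]; exact ringChar.charP K
      exact CharP.charP_to_charZero K
    have hK5 : ∃ s : Finset K, 4 < s.card := by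
      refine ⟨(Finset.range 5).image (Nat.cast : ℕ → K), ?_⟩
      rw [Finset.card_image_of_injective _ Nat.cast_injective, Finset.card_range]
      norm_num
    exact hbig hK5
  · obtain ⟨p, hpdef⟩ : ∃ p : ℕ, p = ringChar K := ⟨_, rfl⟩
    have hcK : CharP K p := by rw [hpdef]; exact ringChar.charP K
    have hcL : CharP L p := by rw [hpdef, ← hL]; exact ringChar.charP L
    have hp : p.Prime := by
      rcases CharP.char_is_prime_or_zero K p with h | h
      · exact h
      · exact absurd (hpdef ▸ h) hchar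
    have hperf := Cfsg.Agent.S2399P.perfect_cover_gen (K := K) hD h2
    obtain ⟨ψ, hψ⟩ := Cfsg.Agent.S2399P.exists_lift_charp hD hG hperf hp σ₀
    refine ⟨ψ, hψ, ?_⟩
    intro ψ' hψ'
    exact Cfsg.Agent.S2399P.lift_unique_of_perfect hperf _ hcen ψ' ψ (hψ'.trans hψ.symm)

/-- Projective representations in the natural characteristic lift: for each of the types G₂, B₂, D₄, F₄, E₆, E₇, E₈ over any field `K` (for types B₂ and G₂ the field must have more than two elements — the cases where the Chevalley group is not simple are set aside), every homomorphism from the Chevalley group to `PGL_n(L) = GL_n(L)/Z`, `L` a field of the same characteristic as `K`, lifts uniquely to a homomorphism from the group Δ presented by (R1), (R2) to `GL_n(L)`, compatibly with the projection Δ → Chevalley group sending x̄_r(t) to x_r(t). -/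
theorem result {K : Type*} [Field K] (D : Cfsg.Lie.ChevalleyDatum) (hD : D ∈ [Cfsg.Lie.chevG2, Cfsg.Lie.chevB2, Cfsg.Lie.chevD4, Cfsg.Lie.chevF4, Cfsg.Lie.chevE6, Cfsg.Lie.chevE7, Cfsg.Lie.chevE8]) (hK : D ∈ [Cfsg.Lie.chevB2, Cfsg.Lie.chevG2] → ∃ x : K, x ≠ 0 ∧ x ≠ 1)
    (θ : D.SteinbergCover K →* ↥(D.group K))
    (hθ : ∀ (r : ℕ) (t : K), r < D.nroots → ((θ (D.scGen K r t) : GL D.Idx K) : Matrix D.Idx D.Idx K) = D.x K r t)
    {L : Type*} [Field L] (hL : ringChar L = ringChar K) {n : ℕ}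
    (φ : ↥(D.group K) →* GL (Fin n) L ⧸ Subgroup.center (GL (Fin n) L)) :
    ∃! ψ : D.SteinbergCover K →* GL (Fin n) L, (QuotientGroup.mk' (Subgroup.center (GL (Fin n) L))).comp ψ = φ.comp θ := by
  have hcen : (QuotientGroup.mk' (Subgroup.center (GL (Fin n) L))).ker ≤
      Subgroup.center (GL (Fin n) L) := by rw [QuotientGroup.ker_mk']
  have hDt : Cfsg.Agent.Helper6.IsTabulated D := hD
  have h2 : D = Cfsg.Lie.chevG2 ∨ D = Cfsg.Lie.chevB2 → ∃ a : K, a ≠ 0 ∧ a ≠ 1 := by
    intro h
    apply hK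
    simp only [List.mem_cons, List.not_mem_nil, or_false]
    exact h.symm
  simp only [List.mem_cons, List.not_mem_nil, or_false] at hD
  rcases hD with rfl | rfl | rfl | rfl | rfl | rfl | rfl
  · exact lift_aux hDt Cfsg.Agent.Helper2.Stb.pairsChk_G2 h2
      hL _ (fun hK5 => Cfsg.Agent.Helper2.Stb.lift_unique_G2 hK5 _ (QuotientGroup.mk'_surjective _) hcen _)
  · exact lift_aux hDt Cfsg.Agent.S2398P.pairsChk_B2 h2
      hL _ (fun hK5 => Cfsg.Agent.S2398P.lift_unique_B2 hK5 _ (QuotientGroup.mk'_surjective _) hcen _)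
  · exact lift_aux hDt Cfsg.Agent.S2398P.pairsChk_D4 h2
      hL _ (fun hK5 => Cfsg.Agent.S2398P.lift_unique_D4 hK5 _ (QuotientGroup.mk'_surjective _) hcen _)
  · exact lift_aux hDt Cfsg.Agent.S2103P.pairsChk_F4 h2
      hL _ (fun hK5 => Cfsg.Agent.S2398P.lift_unique_F4 hK5 _ (QuotientGroup.mk'_surjective _) hcen _)
  · exact Cfsg.Agent.Helper2.Stein.lift_unique_E6 _ (QuotientGroup.mk'_surjective _) hcen _
  · exact Cfsg.Agent.Helper2.Stein.lift_unique_E7 _ (QuotientGroup.mk'_surjective _) hcen _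
  · exact Cfsg.Agent.Helper2.Stein.lift_unique_E8 _ (QuotientGroup.mk'_surjective _) hcen _

end Cfsg.Agent.S2399
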