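import Cfsg.Statements.S2400
import Cfsg.Agent.Helper2.S2400.Final

set_option autoImplicit false
open Cfsg

namespace Cfsg.Agent.S2400

open Cfsg.Lie Cfsg.Agent.S2400P

theorem not_mem_B2G2 {D : ChevalleyDatum} (h8 : D.nroots ≠ 8) (h12 : D.nroots ≠ 12) :
    D ∉ [chevB2, chevG2] := by
  intro h
  simp only [List.mem_cons, List.not_mem_nil, or_false] at h
  rcases h with h | h
  · exact h8 (by rw [h]; rfl)
  · exact h12 (by rw [h]; rfl)

/-- Over a finite field `K`, the group presented by Steinberg's relators (R1)–(R3) (the universal Chevalley group) of type E₆ or E₇, or of type B₂ or D₄ with `K` of more than two elements, has trivial Schur multiplier: every finite stem extension of it is an isomorphism (Schur multiplier described through stem extensions as in the definitions). Types G₂, F₄ and E₈ are not covered here. -/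
theorem result {K : Type*} [Field K] [Fintype K] (e : Cfsg.Lie.ChevalleyDatum × ℕ)
    (he : e ∈ [(Cfsg.Lie.chevE6, 0), (Cfsg.Lie.chevE7, 0), (Cfsg.Lie.chevB2, 2), (Cfsg.Lie.chevD4, 2)]) (hK : Fintype.card K ≠ e.2) :
    Cfsg.HasCyclicSchurMultiplier (e.1.SteinbergGroup K) 1 := by
  have hcases : e = (chevE6, 0) ∨ e = (chevE7, 0) ∨ e = (chevB2, 2) ∨ e = (chevD4, 2) := by
    simpa using he
  have hcard : 1 < Fintype.card K := Fintype.one_lt_card
  rcases hcases with rfl | rfl | rfl | rfl
  · haveI : Finite (chevE6.SteinbergGroup K) := finite_steinbergGroup chevE6 (by simp)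
    apply hasCyclicSchur_one_of_split
    intro E _ ψ hψ hc
    obtain ⟨e, _⟩ := Cfsg.Agent.S2397.result (K := K) chevE6 (by simp)
      (fun h => absurd h (not_mem_B2G2 (by decide) (by decide)))
    exact split_group_of_split_cover e
      (fun ψ' h1 h2 => Cfsg.Agent.Helper2.Stein.exists_section_of_slok
        Cfsg.Agent.Helper2.Stein.slok_E6 ψ' h1 h2) ψ hψ hc
  · haveI : Finite (chevE7.SteinbergGroup K) := finite_steinbergGroup chevE7 (by simp)
    apply hasCyclicSchur_one_of_split
    intro E _ ψ hψ hc
    obtain ⟨e, _⟩ := Cfsg.Agent.S2397.result (K := K) chevE7 (by simp)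
      (fun h => absurd h (not_mem_B2G2 (by decide) (by decide)))
    exact split_group_of_split_cover e
      (fun ψ' h1 h2 => Cfsg.Agent.Helper2.Stein.exists_section_of_slok
        Cfsg.Agent.Helper2.Stein.slok_E7 ψ' h1 h2) ψ hψ hc
  · have h3 : 3 ≤ Fintype.card K := by
      have : Fintype.card K ≠ 2 := hK
      omega
    haveI : Finite (chevB2.SteinbergGroup K) := finite_steinbergGroup chevB2 (by simp)
    apply hasCyclicSchur_one_of_split
    intro E _ ψ hψ hc
    exact split_B2 h3 ψ hψ hc
  · have h3 : 3 ≤ Fintype.card K := by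
      have : Fintype.card K ≠ 2 := hK
      omega
    haveI : Finite (chevD4.SteinbergGroup K) := finite_steinbergGroup chevD4 (by simp)
    apply hasCyclicSchur_one_of_split
    intro E _ ψ hψ hc
    obtain ⟨e, _⟩ := Cfsg.Agent.S2397.result (K := K) chevD4 (by simp)
      (fun h => absurd h (not_mem_B2G2 (by decide) (by decide)))
    exact split_group_of_split_cover e
      (fun ψ' h1 h2 => Cfsg.Agent.Helper2.Stein2.split_D4 h3 ψ' h1 h2) ψ hψ hc

end Cfsg.Agent.S2400
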