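import Cfsg.Statements.S2409
import Cfsg.Agent.Helper6.Ree.G2Gen2
import Cfsg.Agent.Helper6.Ree.G2Ctx

set_option autoImplicit false
open Cfsg

namespace Cfsg.Agent.S2409

/-- The small Ree group ²G₂(3^(2m+1)) with `m ≥ 1` is generated by two of its elements. -/
theorem result {K : Type*} [Field K] [Fintype K] {m : ℕ} (hm : 1 ≤ m) (hK : Fintype.card K = 3 ^ (2 * m + 1)) :
    ∃ a b : ↥(Cfsg.Lie.twistedG2 K (3 ^ m)), Subgroup.closure ({a, b} : Set ↥(Cfsg.Lie.twistedG2 K (3 ^ m))) = ⊤ := by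
  obtain ⟨C⟩ := Cfsg.Agent.Helper6.Ree.exists_reeCtx (m := m) hK
  obtain ⟨a, b, ha, hb, hle⟩ := C.two_gen hK hm
  refine ⟨⟨a, ha⟩, ⟨b, hb⟩, ?_⟩
  rw [eq_top_iff]
  intro g _
  have hg : (g : GL Cfsg.Lie.chevG2.Idx K) ∈ Subgroup.closure {a, b} := hle g.2
  have hmap : (Subgroup.closure ({⟨a, ha⟩, ⟨b, hb⟩} : Set ↥(Cfsg.Lie.twistedG2 K (3 ^ m)))).map
      (Cfsg.Lie.twistedG2 K (3 ^ m)).subtype = Subgroup.closure {a, b} := by
    rw [MonoidHom.map_closure]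
    congr 1
    ext x
    simp [Set.image_insert_eq]
  rw [← hmap] at hg
  obtain ⟨g', hg', e⟩ := hg
  have : g' = g := Subtype.ext e
  rw [← this]
  exact hg'

end Cfsg.Agent.S2409
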