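import Cfsg.Statements.S2412
import Cfsg.Agent.Helper12.SUTwoQ

set_option autoImplicit false
open Cfsg

namespace Cfsg.Agent.S2412

/-- The projective special unitary group `PSU_n(q)` with `n ≥ 3`, realised over the field with `q²` elements, `(n, q) ≠ (3, 2)`, is generated by two of its elements. -/
theorem result {F : Type*} [Field F] [Fintype F] {q : ℕ} (hq : IsPrimePow q) (hF : Fintype.card F = q ^ 2) (n : ℕ) (hn : 3 ≤ n) (h32 : n = 3 → q ≠ 2) :
    ∃ a b : Cfsg.PSU n F q, Subgroup.closure ({a, b} : Set (Cfsg.PSU n F q)) = ⊤ := by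
  classical
  obtain ⟨σ, hσ, hσ2⟩ := Cfsg.Agent.Helper28.exists_frob hF
  have hσid := Cfsg.Agent.S0837.frob_ne_id hF σ hσ
  let D : Cfsg.Agent.Helper2.SUGen.Frob F q := ⟨σ, hσ, hσ2, hσid⟩
  have hq2 : 2 ≤ q := hq.two_le
  -- two generators of the special unitary group
  have key : ∃ A B : ↥(Cfsg.SU n F q), Subgroup.closure {A, B} = ⊤ := by
    rcases Nat.lt_or_ge n 4 with h4 | h4
    · obtain rfl : n = 3 := by omega
      have : q ≠ 2 := h32 rfl
      exact Cfsg.Agent.Helper12.SUTwo.regimeII D hF (by omega)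
    · rcases Nat.lt_or_ge q 3 with h3 | h3
      · obtain rfl : q = 2 := by omega
        exact Cfsg.Agent.Helper12.SUTwo.regimeIII D hF h4
      · exact Cfsg.Agent.Helper12.SUTwo.regimeI D hF h4 h3
  obtain ⟨A, B, hAB⟩ := key
  refine ⟨QuotientGroup.mk A, QuotientGroup.mk B, ?_⟩
  have hsurj : Function.Surjective (QuotientGroup.mk' (Subgroup.center ↥(Cfsg.SU n F q))) :=
    QuotientGroup.mk'_surjective _
  have := Subgroup.map_top_of_surjective _ hsurj
  rw [← hAB, MonoidHom.map_closure, Set.image_pair] at this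
  exact this

end Cfsg.Agent.S2412
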