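import Cfsg.Statements.S2413
import Cfsg.Agent.Helper12.OrthGenI
import Cfsg.Agent.S0301
import Cfsg.Agent.S2411

set_option autoImplicit false
open Cfsg

namespace Cfsg.Agent.S2413

/-- The simple orthogonal group `PΩ_{2m+1}(q)` (commutator subgroup of the orthogonal group of `x₀² + Σ x_i y_i` modulo its centre) with `m ≥ 2` and `q` odd is generated by two of its elements. -/
theorem result {F : Type*} [Field F] [Fintype F] (hodd : Odd (Fintype.card F)) (m : ℕ) (hm : 2 ≤ m) :
    ∃ a b : Cfsg.POmega F (Cfsg.quadFormOdd m F), Subgroup.closure ({a, b} : Set (Cfsg.POmega F (Cfsg.quadFormOdd m F))) = ⊤ := by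
  have h2 : (2 : F) ≠ 0 := by
    apply Ring.two_ne_zero
    intro h
    rw [FiniteField.even_card_iff_char_two] at h
    rcases hodd with ⟨k, hk⟩
    omega
  rcases Nat.lt_or_ge m 3 with hlt | hge
  · -- `m = 2`: `PΩ_5(q) ≅ PSp_4(q)`
    obtain rfl : m = 2 := by omega
    obtain ⟨e⟩ := Cfsg.Agent.S0301.result hodd
    have hcard : 2 < Fintype.card F := by
      have h1 : 1 < Fintype.card F := Fintype.one_lt_card
      rcases hodd with ⟨k, hk⟩
      omega
    obtain ⟨a, b, hab⟩ := Cfsg.Agent.S2411.result (F := F) 2 le_rfl (fun _ => hcard)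
    refine ⟨e.symm a, e.symm b, ?_⟩
    have h1 : (Subgroup.closure ({a, b} : Set (Cfsg.PSp 2 F))).map
        (e.symm : Cfsg.PSp 2 F →* Cfsg.POmega F (Cfsg.quadFormOdd 2 F)) = ⊤ := by
      rw [hab, Subgroup.map_top_of_surjective _ e.symm.surjective]
    rw [MonoidHom.map_closure, Set.image_pair] at h1
    exact h1
  · obtain ⟨n, rfl⟩ : ∃ n, m = n + 3 := ⟨m - 3, by omega⟩
    have key := Cfsg.Agent.Helper12.OrthGen.exists_two_gen_odd (F := F) h2 n
    rw [Cfsg.Agent.S2614.QfOdd_coe] at key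
    obtain ⟨a, b, hab⟩ := key
    exact Cfsg.Agent.Helper12.OrthGen.exists_pair_quotient _ hab

end Cfsg.Agent.S2413
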