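import Cfsg.Statements.S2416
-- import your own Cfsg.Agent.* helpers here
import Cfsg.Agent.Helper11.ChevGenN

set_option autoImplicit false
open scoped MatrixGroups
open Cfsg

namespace Cfsg.Agent.S2416

/-- A Chevalley group of type G₂, B₂, D₄, F₄, E₆, E₇ or E₈ over a finite field lies in (indeed equals) the subgroup generated by its monomial subgroup `N` and a single fundamental root subgroup `X_p`, where `p` is a short fundamental root if there are two root lengths (any fundamental root otherwise), provided the characteristic is not 2 for types B₂, F₄ and not 3 for type G₂ (and the field has more than two elements for B₂, G₂). -/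
theorem result {K : Type*} [Field K] [Finite K] (D : Cfsg.Lie.ChevalleyDatum) (hD : D ∈ [Cfsg.Lie.chevG2, Cfsg.Lie.chevB2, Cfsg.Lie.chevD4, Cfsg.Lie.chevF4, Cfsg.Lie.chevE6, Cfsg.Lie.chevE7, Cfsg.Lie.chevE8])
    (hK : D ∈ [Cfsg.Lie.chevB2, Cfsg.Lie.chevG2] → ∃ x : K, x ≠ 0 ∧ x ≠ 1)
    (h2 : D ∈ [Cfsg.Lie.chevB2, Cfsg.Lie.chevF4] → ringChar K ≠ 2) (h3 : D = Cfsg.Lie.chevG2 → ringChar K ≠ 3)
    (i : ℕ) (hi : i < D.rank) (hshort : D.isLong (D.simple i) = false) :
    D.group K ≤ D.monomialSubgroup K ⊔ D.rootSubgroup K (D.simple i) := by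
  have hDt : Cfsg.Agent.Helper6.IsTabulated D := hD
  have hN : D.monomialSubgroup K ≤ D.monomialSubgroup K ⊔ D.rootSubgroup K (D.simple i) := le_sup_left
  have hp : ∀ t : K, Cfsg.Agent.Helper6.xU (Cfsg.Agent.Helper6.basicOK_of_tabulated hDt) (D.simple i) t ∈
      D.monomialSubgroup K ⊔ D.rootSubgroup K (D.simple i) := fun t =>
    Subgroup.mem_sup_right (Cfsg.Agent.Helper11.ChevOrbit.xU_mem_rootSubgroup _ _ t)
  have h2' : D ∈ [Cfsg.Lie.chevB2, Cfsg.Lie.chevF4] → ((2 : ℤ) : K) ≠ 0 := fun h => by
    have := Ring.two_ne_zero (h2 h)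
    simpa using this
  have h3' : D = Cfsg.Lie.chevG2 → ((3 : ℤ) : K) ≠ 0 := fun h => by
    have h3k := h3 h
    intro h0
    have h0' : ((3 : ℕ) : K) = 0 := by simpa using h0
    have hdvd := (CharP.cast_eq_zero_iff K (ringChar K) 3).1 h0'
    have hne1 : ringChar K ≠ 1 := CharP.ringChar_ne_one
    have hle := Nat.le_of_dvd (by norm_num) hdvd
    interval_cases hr : ringChar K
    · simp at hdvd
    · exact hne1 rfl
    · norm_num at hdvd
    · exact h3k rfl
  simp only [List.mem_cons, List.not_mem_nil, or_false] at hD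
  rcases hD with rfl | rfl | rfl | rfl | rfl | rfl | rfl
  · -- G2
    have hi' : i < 2 := hi
    interval_cases i
    · exact Cfsg.Agent.Helper11.ChevOrbit.group_le_of_comm (a := 8) (b := 4) (c := 3) (by simp) hDt hN
        Cfsg.Agent.Helper11.ChevOrbit.chk_G2_0 Cfsg.Agent.Helper11.ChevOrbit.chk_G2_1
        (by decide +kernel) (by decide) (by decide) (by decide) (by decide +kernel)
        (by decide +kernel) (by decide +kernel) (by decide +kernel) (h3' rfl) hp
    · exact absurd hshort (by decide +kernel)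
  · -- B2
    have hi' : i < 2 := hi
    interval_cases i
    · exact Cfsg.Agent.Helper11.ChevOrbit.group_le_of_comm (a := 6) (b := 2) (c := 2) (by simp) hDt hN
        Cfsg.Agent.Helper11.ChevOrbit.chk_B2_0 Cfsg.Agent.Helper11.ChevOrbit.chk_B2_1
        (by decide +kernel) (by decide) (by decide) (by decide) (by decide +kernel)
        (by decide +kernel) (by decide +kernel) (by decide +kernel) (h2' (by simp)) hp
    · exact absurd hshort (by decide +kernel)
  · -- D4
    have hi' : i < 4 := hi
    interval_cases i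
    · exact Cfsg.Agent.Helper11.ChevOrbit.group_le_of_one hDt hN
        Cfsg.Agent.Helper11.ChevOrbit.chk_D4_0 (by decide +kernel) hp
    · exact Cfsg.Agent.Helper11.ChevOrbit.group_le_of_one hDt hN
        Cfsg.Agent.Helper11.ChevOrbit.chk_D4_1 (by decide +kernel) hp
    · exact Cfsg.Agent.Helper11.ChevOrbit.group_le_of_one hDt hN
        Cfsg.Agent.Helper11.ChevOrbit.chk_D4_2 (by decide +kernel) hp
    · exact Cfsg.Agent.Helper11.ChevOrbit.group_le_of_one hDt hN
        Cfsg.Agent.Helper11.ChevOrbit.chk_D4_3 (by decide +kernel) hp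
  · -- F4
    have hi' : i < 4 := hi
    interval_cases i
    · exact Cfsg.Agent.Helper11.ChevOrbit.group_le_of_comm (a := 29) (b := 19) (c := 2) (by simp) hDt hN
        Cfsg.Agent.Helper11.ChevOrbit.chk_F4_0 Cfsg.Agent.Helper11.ChevOrbit.chk_F4_3
        (by decide +kernel) (by decide) (by decide) (by decide) (by decide +kernel)
        (by decide +kernel) (by decide +kernel) (by decide +kernel) (h2' (by simp)) hp
    · exact Cfsg.Agent.Helper11.ChevOrbit.group_le_of_comm (a := 29) (b := 19) (c := 2) (by simp) hDt hN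
        Cfsg.Agent.Helper11.ChevOrbit.chk_F4_1 Cfsg.Agent.Helper11.ChevOrbit.chk_F4_3
        (by decide +kernel) (by decide) (by decide) (by decide) (by decide +kernel)
        (by decide +kernel) (by decide +kernel) (by decide +kernel) (h2' (by simp)) hp
    · exact absurd hshort (by decide +kernel)
    · exact absurd hshort (by decide +kernel)
  · -- E6
    have hi' : i < 6 := hi
    interval_cases i
    · exact Cfsg.Agent.Helper11.ChevOrbit.group_le_of_one hDt hN
        Cfsg.Agent.Helper11.ChevOrbit.chk_E6_0 (by decide +kernel) hp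
    · exact Cfsg.Agent.Helper11.ChevOrbit.group_le_of_one hDt hN
        Cfsg.Agent.Helper11.ChevOrbit.chk_E6_1 (by decide +kernel) hp
    · exact Cfsg.Agent.Helper11.ChevOrbit.group_le_of_one hDt hN
        Cfsg.Agent.Helper11.ChevOrbit.chk_E6_2 (by decide +kernel) hp
    · exact Cfsg.Agent.Helper11.ChevOrbit.group_le_of_one hDt hN
        Cfsg.Agent.Helper11.ChevOrbit.chk_E6_3 (by decide +kernel) hp
    · exact Cfsg.Agent.Helper11.ChevOrbit.group_le_of_one hDt hN
        Cfsg.Agent.Helper11.ChevOrbit.chk_E6_4 (by decide +kernel) hp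
    · exact Cfsg.Agent.Helper11.ChevOrbit.group_le_of_one hDt hN
        Cfsg.Agent.Helper11.ChevOrbit.chk_E6_5 (by decide +kernel) hp
  · -- E7
    have hi' : i < 7 := hi
    interval_cases i
    · exact Cfsg.Agent.Helper11.ChevOrbit.group_le_of_one hDt hN
        Cfsg.Agent.Helper11.ChevOrbit.chk_E7_0 (by decide +kernel) hp
    · exact Cfsg.Agent.Helper11.ChevOrbit.group_le_of_one hDt hN
        Cfsg.Agent.Helper11.ChevOrbit.chk_E7_1 (by decide +kernel) hp
    · exact Cfsg.Agent.Helper11.ChevOrbit.group_le_of_one hDt hN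
        Cfsg.Agent.Helper11.ChevOrbit.chk_E7_2 (by decide +kernel) hp
    · exact Cfsg.Agent.Helper11.ChevOrbit.group_le_of_one hDt hN
        Cfsg.Agent.Helper11.ChevOrbit.chk_E7_3 (by decide +kernel) hp
    · exact Cfsg.Agent.Helper11.ChevOrbit.group_le_of_one hDt hN
        Cfsg.Agent.Helper11.ChevOrbit.chk_E7_4 (by decide +kernel) hp
    · exact Cfsg.Agent.Helper11.ChevOrbit.group_le_of_one hDt hN
        Cfsg.Agent.Helper11.ChevOrbit.chk_E7_5 (by decide +kernel) hp
    · exact Cfsg.Agent.Helper11.ChevOrbit.group_le_of_one hDt hN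
        Cfsg.Agent.Helper11.ChevOrbit.chk_E7_6 (by decide +kernel) hp
  · -- E8
    have hi' : i < 8 := hi
    interval_cases i
    · exact Cfsg.Agent.Helper11.ChevOrbit.group_le_of_one hDt hN
        Cfsg.Agent.Helper11.ChevOrbit.chk_E8_0 (by decide +kernel) hp
    · exact Cfsg.Agent.Helper11.ChevOrbit.group_le_of_one hDt hN
        Cfsg.Agent.Helper11.ChevOrbit.chk_E8_1 (by decide +kernel) hp
    · exact Cfsg.Agent.Helper11.ChevOrbit.group_le_of_one hDt hN
        Cfsg.Agent.Helper11.ChevOrbit.chk_E8_2 (by decide +kernel) hp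
    · exact Cfsg.Agent.Helper11.ChevOrbit.group_le_of_one hDt hN
        Cfsg.Agent.Helper11.ChevOrbit.chk_E8_3 (by decide +kernel) hp
    · exact Cfsg.Agent.Helper11.ChevOrbit.group_le_of_one hDt hN
        Cfsg.Agent.Helper11.ChevOrbit.chk_E8_4 (by decide +kernel) hp
    · exact Cfsg.Agent.Helper11.ChevOrbit.group_le_of_one hDt hN
        Cfsg.Agent.Helper11.ChevOrbit.chk_E8_5 (by decide +kernel) hp
    · exact Cfsg.Agent.Helper11.ChevOrbit.group_le_of_one hDt hN
        Cfsg.Agent.Helper11.ChevOrbit.chk_E8_6 (by decide +kernel) hp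
    · exact Cfsg.Agent.Helper11.ChevOrbit.group_le_of_one hDt hN
        Cfsg.Agent.Helper11.ChevOrbit.chk_E8_7 (by decide +kernel) hp

end Cfsg.Agent.S2416
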