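import Cfsg.Statements.S2417
-- import your own Cfsg.Agent.* helpers here
import Cfsg.Agent.Helper11.ChevGenN

set_option autoImplicit false
open scoped MatrixGroups
open Cfsg

namespace Cfsg.Agent.S2417

/-- In the characteristics with an exceptional graph symmetry — type B₂ or F₄ in characteristic 2 (field of more than two elements for B₂) and type G₂ in characteristic 3 — the Chevalley group lies in the subgroup generated by its monomial subgroup `N` and the two fundamental root subgroups `X_a`, `X_b` of a short root `a` and a long root `b` joined in the Dynkin diagram. -/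
theorem result {K : Type*} [Field K] [Finite K] (e : Cfsg.Lie.ChevalleyDatum × ℕ)
    (he : e ∈ [(Cfsg.Lie.chevB2, 2), (Cfsg.Lie.chevF4, 2), (Cfsg.Lie.chevG2, 3)]) [CharP K e.2]
    (hK : e.1 = Cfsg.Lie.chevB2 → ∃ x : K, x ≠ 0 ∧ x ≠ 1)
    (i j : ℕ) (hi : i < e.1.rank) (hj : j < e.1.rank) (hshort : e.1.isLong (e.1.simple i) = false)
    (hlong : e.1.isLong (e.1.simple j) = true) (hbond : e.1.bonds i j ≠ 0) :
    e.1.group K ≤ e.1.monomialSubgroup K ⊔ e.1.rootSubgroup K (e.1.simple i) ⊔ e.1.rootSubgroup K (e.1.simple j) := by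
  obtain ⟨D, c⟩ := e
  have hDt : Cfsg.Agent.Helper6.IsTabulated D := by
    simp only [List.mem_cons, List.not_mem_nil, or_false, Prod.mk.injEq] at he
    simp only [Cfsg.Agent.Helper6.IsTabulated, List.mem_cons, List.not_mem_nil, or_false]
    rcases he with ⟨rfl, -⟩ | ⟨rfl, -⟩ | ⟨rfl, -⟩ <;> simp
  have hN : D.monomialSubgroup K ≤
      D.monomialSubgroup K ⊔ D.rootSubgroup K (D.simple i) ⊔ D.rootSubgroup K (D.simple j) :=
    le_sup_of_le_left le_sup_left
  have hp : ∀ t : K, Cfsg.Agent.Helper6.xU (Cfsg.Agent.Helper6.basicOK_of_tabulated hDt) (D.simple i) t ∈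
      D.monomialSubgroup K ⊔ D.rootSubgroup K (D.simple i) ⊔ D.rootSubgroup K (D.simple j) := fun t =>
    Subgroup.mem_sup_left (Subgroup.mem_sup_right
      (Cfsg.Agent.Helper11.ChevOrbit.xU_mem_rootSubgroup _ _ t))
  have hq : ∀ t : K, Cfsg.Agent.Helper6.xU (Cfsg.Agent.Helper6.basicOK_of_tabulated hDt) (D.simple j) t ∈
      D.monomialSubgroup K ⊔ D.rootSubgroup K (D.simple i) ⊔ D.rootSubgroup K (D.simple j) := fun t =>
    Subgroup.mem_sup_right (Cfsg.Agent.Helper11.ChevOrbit.xU_mem_rootSubgroup _ _ t)
  simp only [List.mem_cons, List.not_mem_nil, or_false, Prod.mk.injEq] at he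
  simp only at hi hj hshort hlong hbond ⊢
  rcases he with ⟨rfl, -⟩ | ⟨rfl, -⟩ | ⟨rfl, -⟩
  · -- B2
    have hi' : i < 2 := hi
    have hj' : j < 2 := hj
    interval_cases i
    · interval_cases j
      · exact absurd hlong (by decide +kernel)
      · exact Cfsg.Agent.Helper11.ChevOrbit.group_le_of_two hDt hN
          Cfsg.Agent.Helper11.ChevOrbit.chk_B2_0 Cfsg.Agent.Helper11.ChevOrbit.chk_B2_1
          (by decide +kernel) hp hq
    · exact absurd hshort (by decide +kernel)
  · -- F4
    have hi' : i < 4 := hi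
    have hj' : j < 4 := hj
    interval_cases i
    · interval_cases j
      · exact absurd hlong (by decide +kernel)
      · exact absurd hlong (by decide +kernel)
      · exact Cfsg.Agent.Helper11.ChevOrbit.group_le_of_two hDt hN
          Cfsg.Agent.Helper11.ChevOrbit.chk_F4_0 Cfsg.Agent.Helper11.ChevOrbit.chk_F4_2
          (by decide +kernel) hp hq
      · exact Cfsg.Agent.Helper11.ChevOrbit.group_le_of_two hDt hN
          Cfsg.Agent.Helper11.ChevOrbit.chk_F4_0 Cfsg.Agent.Helper11.ChevOrbit.chk_F4_3
          (by decide +kernel) hp hq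
    · interval_cases j
      · exact absurd hlong (by decide +kernel)
      · exact absurd hlong (by decide +kernel)
      · exact Cfsg.Agent.Helper11.ChevOrbit.group_le_of_two hDt hN
          Cfsg.Agent.Helper11.ChevOrbit.chk_F4_1 Cfsg.Agent.Helper11.ChevOrbit.chk_F4_2
          (by decide +kernel) hp hq
      · exact Cfsg.Agent.Helper11.ChevOrbit.group_le_of_two hDt hN
          Cfsg.Agent.Helper11.ChevOrbit.chk_F4_1 Cfsg.Agent.Helper11.ChevOrbit.chk_F4_3
          (by decide +kernel) hp hq
    · exact absurd hshort (by decide +kernel)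
    · exact absurd hshort (by decide +kernel)
  · -- G2
    have hi' : i < 2 := hi
    have hj' : j < 2 := hj
    interval_cases i
    · interval_cases j
      · exact absurd hlong (by decide +kernel)
      · exact Cfsg.Agent.Helper11.ChevOrbit.group_le_of_two hDt hN
          Cfsg.Agent.Helper11.ChevOrbit.chk_G2_0 Cfsg.Agent.Helper11.ChevOrbit.chk_G2_1
          (by decide +kernel) hp hq
    · exact absurd hshort (by decide +kernel)

end Cfsg.Agent.S2417
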