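import Cfsg.Statements.S2419
import Cfsg.Agent.Helper14.CoxGenB2
import Cfsg.Agent.Helper14.CoxGenG2
import Cfsg.Agent.Helper14.CoxGenD4
import Cfsg.Agent.Helper14.CoxGenF4
import Cfsg.Agent.Helper14.CoxGenE6
import Cfsg.Agent.Helper14.CoxGenE7
import Cfsg.Agent.Helper14.CoxGenE8

set_option autoImplicit false
open Cfsg

namespace Cfsg.Agent.S2419

/-- The Coxeter groups of types B₂, G₂, E₆, E₇, E₈ are generated by the Coxeter element `s₁ s₂ ⋯ s_l` together with one suitable reflection (a conjugate of a simple reflection); for types D₄ and F₄ the Coxeter element together with two suitable reflections suffices. -/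
theorem result (c : (Σ n : ℕ, CoxeterMatrix (Fin n)) × ℕ)
    (hc : c ∈ [(⟨2, CoxeterMatrix.B 2⟩, 1), (⟨2, CoxeterMatrix.G₂⟩, 1), (⟨4, Cfsg.Lie.coxeterD4⟩, 2), (⟨4, CoxeterMatrix.F₄⟩, 2),
      (⟨6, CoxeterMatrix.E₆⟩, 1), (⟨7, CoxeterMatrix.E₇⟩, 1), (⟨8, CoxeterMatrix.E₈⟩, 1)]) :
    ∃ T : Finset c.1.2.Group, T.card = c.2 ∧ (∀ t ∈ T, ∃ (g : c.1.2.Group) (i : Fin c.1.1), t = g * c.1.2.simple i * g⁻¹) ∧
      Subgroup.closure (({((List.finRange c.1.1).map c.1.2.simple).prod} : Set c.1.2.Group) ∪ ↑T) = ⊤ := by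
  classical
  simp only [List.mem_cons, List.not_mem_nil, or_false] at hc
  rcases hc with rfl | rfl | rfl | rfl | rfl | rfl | rfl
  · refine ⟨{(CoxeterMatrix.B 2).simple 0}, Finset.card_singleton _, ?_, ?_⟩
    · intro t ht
      rw [Finset.mem_singleton] at ht
      exact ⟨1, 0, by rw [ht]; simp⟩
    · apply Helper14.Cox.genB2
      · exact Subgroup.subset_closure (Or.inl rfl)
      · exact Subgroup.subset_closure (Or.inr (by simp))
      · exact Subgroup.subset_closure (Or.inr (by simp))
  · refine ⟨{(CoxeterMatrix.G₂).simple 0}, Finset.card_singleton _, ?_, ?_⟩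
    · intro t ht
      rw [Finset.mem_singleton] at ht
      exact ⟨1, 0, by rw [ht]; simp⟩
    · apply Helper14.Cox.genG2
      · exact Subgroup.subset_closure (Or.inl rfl)
      · exact Subgroup.subset_closure (Or.inr (by simp))
      · exact Subgroup.subset_closure (Or.inr (by simp))
  · refine ⟨{(Cfsg.Lie.coxeterD4).simple 0, (Cfsg.Lie.coxeterD4).simple 2}, ?_, ?_, ?_⟩
    · apply Finset.card_pair
      apply Helper14.Cox.simple_ne_of_sref_ne Helper14.Cox.csD4 Helper14.Cox.relD4
      decide +kernel
    · intro t ht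
      rw [Finset.mem_insert, Finset.mem_singleton] at ht
      rcases ht with ht | ht
      · exact ⟨1, 0, by rw [ht]; simp⟩
      · exact ⟨1, 2, by rw [ht]; simp⟩
    · apply Helper14.Cox.genD4
      · exact Subgroup.subset_closure (Or.inl rfl)
      · exact Subgroup.subset_closure (Or.inr (by simp))
      · exact Subgroup.subset_closure (Or.inr (by simp))
  · refine ⟨{(CoxeterMatrix.F₄).simple 0, (CoxeterMatrix.F₄).simple 2}, ?_, ?_, ?_⟩
    · apply Finset.card_pair
      apply Helper14.Cox.simple_ne_of_sref_ne Helper14.Cox.csF4 Helper14.Cox.relF4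
      decide +kernel
    · intro t ht
      rw [Finset.mem_insert, Finset.mem_singleton] at ht
      rcases ht with ht | ht
      · exact ⟨1, 0, by rw [ht]; simp⟩
      · exact ⟨1, 2, by rw [ht]; simp⟩
    · apply Helper14.Cox.genF4
      · exact Subgroup.subset_closure (Or.inl rfl)
      · exact Subgroup.subset_closure (Or.inr (by simp))
      · exact Subgroup.subset_closure (Or.inr (by simp))
  · refine ⟨{(CoxeterMatrix.E₆).simple 0}, Finset.card_singleton _, ?_, ?_⟩
    · intro t ht
      rw [Finset.mem_singleton] at ht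
      exact ⟨1, 0, by rw [ht]; simp⟩
    · apply Helper14.Cox.genE6
      · exact Subgroup.subset_closure (Or.inl rfl)
      · exact Subgroup.subset_closure (Or.inr (by simp))
      · exact Subgroup.subset_closure (Or.inr (by simp))
  · refine ⟨{(CoxeterMatrix.E₇).simple 1}, Finset.card_singleton _, ?_, ?_⟩
    · intro t ht
      rw [Finset.mem_singleton] at ht
      exact ⟨1, 1, by rw [ht]; simp⟩
    · apply Helper14.Cox.genE7
      · exact Subgroup.subset_closure (Or.inl rfl)
      · exact Subgroup.subset_closure (Or.inr (by simp))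
      · exact Subgroup.subset_closure (Or.inr (by simp))
  · refine ⟨{(CoxeterMatrix.E₈).simple 0}, Finset.card_singleton _, ?_, ?_⟩
    · intro t ht
      rw [Finset.mem_singleton] at ht
      exact ⟨1, 0, by rw [ht]; simp⟩
    · apply Helper14.Cox.genE8
      · exact Subgroup.subset_closure (Or.inl rfl)
      · exact Subgroup.subset_closure (Or.inr (by simp))
      · exact Subgroup.subset_closure (Or.inr (by simp))

end Cfsg.Agent.S2419
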