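import Cfsg.Statements.S2427
import Cfsg.Agent.Helper12.SL23Struct

set_option autoImplicit false
open Cfsg Cfsg.Agent.Helper12 Cfsg.Agent.Helper2.SL23

namespace Cfsg.Agent.S2427

/-- The group SL₂ over the field with 3 elements has order 24 and centre of order 2; its commutator subgroup has order 8, is isomorphic to the quaternion group of order 8 and is complemented by every Sylow 3-subgroup (so the group is a semidirect product of a quaternion group of order 8 by a cyclic group of order 3); and its only normal subgroups besides the trivial subgroup and the whole group are the centre and the commutator subgroup. -/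
theorem result :
    Nat.card (Matrix.SpecialLinearGroup (Fin 2) (ZMod 3)) = 24 ∧
    Nat.card (Subgroup.center (Matrix.SpecialLinearGroup (Fin 2) (ZMod 3))) = 2 ∧
    Nat.card (commutator (Matrix.SpecialLinearGroup (Fin 2) (ZMod 3))) = 8 ∧
    Nonempty (commutator (Matrix.SpecialLinearGroup (Fin 2) (ZMod 3)) ≃* QuaternionGroup 2) ∧
    (∀ P : Sylow 3 (Matrix.SpecialLinearGroup (Fin 2) (ZMod 3)),
      Subgroup.IsComplement' (commutator (Matrix.SpecialLinearGroup (Fin 2) (ZMod 3)))
        (P : Subgroup (Matrix.SpecialLinearGroup (Fin 2) (ZMod 3)))) ∧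
    ∀ N : Subgroup (Matrix.SpecialLinearGroup (Fin 2) (ZMod 3)), N.Normal →
      N = ⊥ ∨ N = ⊤ ∨ N = Subgroup.center (Matrix.SpecialLinearGroup (Fin 2) (ZMod 3)) ∨
        N = commutator (Matrix.SpecialLinearGroup (Fin 2) (ZMod 3)) := by
  have h24 : Nat.card (Matrix.SpecialLinearGroup (Fin 2) (ZMod 3)) = 24 := by
    have h := Q3.card_mul_index
    rw [card_Q3, Q3_index] at h
    exact h.symm
  have hcomm : commutator (Matrix.SpecialLinearGroup (Fin 2) (ZMod 3)) = Q3 := commutator_G3
  refine ⟨h24, card_center (ZMod.card 3), ?_, ?_, ?_, ?_⟩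
  · rw [hcomm, card_Q3]
  · rw [hcomm]
    exact ⟨(MonoidHom.ofInjective lift_injective).symm⟩
  · intro P
    have hP : Nat.card (P : Subgroup (Matrix.SpecialLinearGroup (Fin 2) (ZMod 3))) = 3 := by
      obtain ⟨k, hk⟩ := IsPGroup.exists_card_eq P.isPGroup'
      have h1 : Nat.card (P : Subgroup (Matrix.SpecialLinearGroup (Fin 2) (ZMod 3))) ∣ 24 := by
        rw [← h24]
        exact Subgroup.card_subgroup_dvd_card _
      have h2 : 3 ∣ Nat.card (P : Subgroup (Matrix.SpecialLinearGroup (Fin 2) (ZMod 3))) := by
        apply P.dvd_card_of_dvd_card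
        rw [h24]
        norm_num
      rw [hk] at h1 h2 ⊢
      have hk1 : k ≠ 0 := by
        rintro rfl
        norm_num at h2
      have hk2 : k < 2 := by
        by_contra hge
        push Not at hge
        have : 3 ^ 2 ∣ 24 := (pow_dvd_pow 3 hge).trans h1
        norm_num at this
      have : k = 1 := by omega
      rw [this, pow_one]
    apply Subgroup.isComplement'_of_coprime
    · rw [hcomm, card_Q3, hP, h24]
    · rw [hcomm, card_Q3, hP]
      norm_num
  · intro N hN
    rw [hcomm]
    exact normal_G3 N hN

end Cfsg.Agent.S2427
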