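import Cfsg.Statements.S2428
import Cfsg.Agent.Helper12.SL2SplitTorus

set_option autoImplicit false
open Cfsg Cfsg.Agent.Helper12

namespace Cfsg.Agent.S2428

/-- Let F be a finite field with q elements, q odd, and let d be a diagonal element of SL₂ over F whose diagonal entry a has a² ≠ 1 (such d exist exactly when q > 3). Then the centraliser of d is precisely the diagonal subgroup T; the normaliser of T has order 2(q − 1) and exactly (q + 5)/2 conjugacy classes; and every element of that normaliser outside T has square equal to −1. -/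
theorem result {F : Type*} [Field F] [Fintype F] (hodd : Odd (Fintype.card F))
    (d : Matrix.SpecialLinearGroup (Fin 2) F) (hd01 : (d : Matrix (Fin 2) (Fin 2) F) 0 1 = 0) (hd10 : (d : Matrix (Fin 2) (Fin 2) F) 1 0 = 0) (hda : (d : Matrix (Fin 2) (Fin 2) F) 0 0 ^ 2 ≠ 1) :
    (∀ g : Matrix.SpecialLinearGroup (Fin 2) F, g ∈ Subgroup.centralizer ({d} : Set (Matrix.SpecialLinearGroup (Fin 2) F)) ↔ ((g : Matrix (Fin 2) (Fin 2) F) 0 1 = 0 ∧ (g : Matrix (Fin 2) (Fin 2) F) 1 0 = 0)) ∧
    Nat.card (Subgroup.normalizer ((Subgroup.centralizer ({d} : Set (Matrix.SpecialLinearGroup (Fin 2) F))) : Set (Matrix.SpecialLinearGroup (Fin 2) F))) = 2 * (Fintype.card F - 1) ∧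
    Nat.card (ConjClasses (Subgroup.normalizer ((Subgroup.centralizer ({d} : Set (Matrix.SpecialLinearGroup (Fin 2) F))) : Set (Matrix.SpecialLinearGroup (Fin 2) F)))) = (Fintype.card F + 5) / 2 ∧
    ∀ g : Matrix.SpecialLinearGroup (Fin 2) F, g ∈ Subgroup.normalizer ((Subgroup.centralizer ({d} : Set (Matrix.SpecialLinearGroup (Fin 2) F))) : Set (Matrix.SpecialLinearGroup (Fin 2) F)) →
      g ∉ Subgroup.centralizer ({d} : Set (Matrix.SpecialLinearGroup (Fin 2) F)) → ((g * g) : Matrix (Fin 2) (Fin 2) F) = -1 := by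
  have h2 := two_ne_zero_of_odd_card hodd
  have hgen := splitGen_isTorusGen h2 (F := F)
  have hdT : d ∈ torusA (splitGen (F := F)) := (mem_torusA_splitGen h2 d).2 ⟨hd01, hd10⟩
  have hd1 : (d : Matrix (Fin 2) (Fin 2) F) ≠ 1 := by
    intro h
    apply hda
    rw [h]; simp
  have hd2 : (d : Matrix (Fin 2) (Fin 2) F) ≠ -1 := by
    intro h
    apply hda
    rw [h]; simp
  have hcent := hgen.centralizer_eq hdT hd1 hd2
  have hw : ∃ w : Matrix.SpecialLinearGroup (Fin 2) F,
      (w : Matrix (Fin 2) (Fin 2) F) * splitGen = -(splitGen * (w : Matrix (Fin 2) (Fin 2) F)) :=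
    ⟨weylS, weylS_anticomm⟩
  have hnorm := hgen.normalizer_eq ⟨d, hdT, hd1, hd2⟩
  rw [hcent, hnorm]
  have hq : 1 ≤ Fintype.card F := Fintype.card_pos
  refine ⟨fun g => mem_torusA_splitGen h2 g, ?_, ?_, ?_⟩
  · rw [hgen.card_normA hw, card_torusA_splitGen h2]
  · have := hgen.card_conjClasses_normA hw
    rw [card_torusA_splitGen h2] at this
    omega
  · intro g hg hg'
    rcases hg with hg | hg
    · exact absurd hg hg'
    · have := hgen.sq_of_anticomm hg
      rwa [Matrix.SpecialLinearGroup.coe_mul] at this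

end Cfsg.Agent.S2428
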