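import Cfsg.Statements.S2429
import Cfsg.Agent.Helper12.SL2NonsplitTorus
import Cfsg.Agent.Helper12.SL2SplitTorus

set_option autoImplicit false
open Cfsg Cfsg.Agent.Helper12

namespace Cfsg.Agent.S2429

/-- Let F be a finite field with q elements, q odd. Then SL₂ over F contains a cyclic subgroup T′ of order q + 1 (a non-split torus) with the following properties: T′ is its own centraliser, and indeed the centraliser of each element of T′ other than 1 and −1 is exactly T′; every element of SL₂ having no eigenvector in F² is conjugate to an element of T′; the normaliser of T′ has order 2(q + 1) and exactly (q + 7)/2 conjugacy classes; and every element of that normaliser outside T′ has square −1. -/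
theorem result {F : Type*} [Field F] [Fintype F] (hodd : Odd (Fintype.card F)) :
    ∃ T' : Subgroup (Matrix.SpecialLinearGroup (Fin 2) F), IsCyclic T' ∧ Nat.card T' = Fintype.card F + 1 ∧
      Subgroup.centralizer ((T' : Set (Matrix.SpecialLinearGroup (Fin 2) F))) = T' ∧
      (∀ g : Matrix.SpecialLinearGroup (Fin 2) F, g ∈ T' → (g : Matrix (Fin 2) (Fin 2) F) ≠ 1 → (g : Matrix (Fin 2) (Fin 2) F) ≠ -1 → Subgroup.centralizer ({g} : Set (Matrix.SpecialLinearGroup (Fin 2) F)) = T') ∧
      (∀ g : Matrix.SpecialLinearGroup (Fin 2) F, (∀ (c : F) (v : Fin 2 → F), v ≠ 0 → (g : Matrix (Fin 2) (Fin 2) F).mulVec v ≠ c • v) → ∃ h : Matrix.SpecialLinearGroup (Fin 2) F, h * g * h⁻¹ ∈ T') ∧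
      Nat.card (Subgroup.normalizer (T' : Set (Matrix.SpecialLinearGroup (Fin 2) F))) = 2 * (Fintype.card F + 1) ∧
      Nat.card (ConjClasses (Subgroup.normalizer (T' : Set (Matrix.SpecialLinearGroup (Fin 2) F)))) = (Fintype.card F + 7) / 2 ∧
      ∀ g : Matrix.SpecialLinearGroup (Fin 2) F, g ∈ Subgroup.normalizer (T' : Set (Matrix.SpecialLinearGroup (Fin 2) F)) → g ∉ T' → ((g * g) : Matrix (Fin 2) (Fin 2) F) = -1 := by
  classical
  have h2 := two_ne_zero_of_odd_card hodd
  have hF : ringChar F ≠ 2 := by
    intro h
    apply h2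
    have : CharP F 2 := ringChar.of_eq h
    exact CharTwo.two_eq_zero
  obtain ⟨ε, hε⟩ := FiniteField.exists_nonsquare hF
  have hε0 := ne_zero_of_not_isSquare hε
  have hgen := nsGen_isTorusGen h2 hε0
  have hw := exists_anticomm_nsGen h2 hε0
  have hcard := card_torusA_nsGen h2 hε
  have hq : 3 ≤ Fintype.card F := by
    have h1 : 1 < Fintype.card F := Fintype.one_lt_card
    obtain ⟨k, hk⟩ := hodd
    omega
  -- a non-central element
  have hex : ∃ d : Matrix.SpecialLinearGroup (Fin 2) F, d ∈ torusA (nsGen ε) ∧
      (d : Matrix (Fin 2) (Fin 2) F) ≠ 1 ∧ (d : Matrix (Fin 2) (Fin 2) F) ≠ -1 := by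
    by_contra hno
    push Not at hno
    have hsub : ((torusA (nsGen ε) : Subgroup (Matrix.SpecialLinearGroup (Fin 2) F)) :
        Set (Matrix.SpecialLinearGroup (Fin 2) F)) ⊆ {1, -1} := by
      intro d hd
      by_cases h1 : (d : Matrix (Fin 2) (Fin 2) F) = 1
      · left
        apply Subtype.ext
        rw [h1, Matrix.SpecialLinearGroup.coe_one]
      · right
        have := hno d hd h1
        rw [Set.mem_singleton_iff]
        apply Subtype.ext
        rw [this, Matrix.SpecialLinearGroup.coe_neg, Matrix.SpecialLinearGroup.coe_one]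
    have hle : Nat.card (torusA (nsGen ε)) ≤ 2 := by
      have h1 : Nat.card (torusA (nsGen ε)) =
          ((torusA (nsGen ε) : Subgroup (Matrix.SpecialLinearGroup (Fin 2) F)) :
            Set (Matrix.SpecialLinearGroup (Fin 2) F)).ncard := by
        rw [← Nat.card_coe_set_eq]
        rfl
      rw [h1]
      calc _ ≤ ({1, -1} : Set (Matrix.SpecialLinearGroup (Fin 2) F)).ncard :=
            Set.ncard_le_ncard hsub (Set.toFinite _)
        _ ≤ 2 := by
            have := Set.ncard_insert_le (1 : Matrix.SpecialLinearGroup (Fin 2) F) {-1}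
            rw [Set.ncard_singleton] at this
            exact this
    omega
  have hnorm := hgen.normalizer_eq hex
  refine ⟨torusA (nsGen ε), isCyclic_torusA_nsGen hε, hcard, ?_, ?_, ?_, ?_, ?_, ?_⟩
  · -- centraliser of the torus
    obtain ⟨d, hd, hd1, hd2⟩ := hex
    ext g
    constructor
    · intro hg
      rw [← hgen.centralizer_eq hd hd1 hd2, Subgroup.mem_centralizer_singleton_iff]
      exact (Subgroup.mem_centralizer_iff.1 hg d hd).symm
    · intro hg
      rw [Subgroup.mem_centralizer_iff]
      intro t ht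
      exact hgen.torus_comm ht hg
  · intro g hg h1 h2'
    exact hgen.centralizer_eq hg h1 h2'
  · intro g hg
    exact exists_conj_mem_torusA_nsGen h2 hε g hg
  · rw [hnorm, hgen.card_normA hw, hcard]
  · rw [hnorm]
    have := hgen.card_conjClasses_normA hw
    rw [hcard] at this
    omega
  · intro g hg hg'
    rw [hnorm] at hg
    rcases hg with hg | hg
    · exact absurd hg hg'
    · have := hgen.sq_of_anticomm hg
      rwa [Matrix.SpecialLinearGroup.coe_mul] at this

end Cfsg.Agent.S2429
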