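import Cfsg.Statements.S2430
import Cfsg.Agent.Helper12.SL2SylowTorus

set_option autoImplicit false
open Cfsg Cfsg.Agent.Helper12

namespace Cfsg.Agent.S2430

/-- Let F be a finite field with q elements, q odd, ℓ an odd prime, and P a Sylow ℓ-subgroup of SL₂ over F. If ℓ divides q − 1, the centraliser of P is cyclic of order q − 1 (a split torus) and the normaliser of P has order 2(q − 1); if ℓ divides q + 1, the centraliser of P is cyclic of order q + 1 (a non-split torus) and the normaliser of P has order 2(q + 1). -/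
theorem result {F : Type*} [Field F] [Fintype F] (hodd : Odd (Fintype.card F)) (ℓ : ℕ) [Fact ℓ.Prime] (hℓ : ℓ ≠ 2)
    (P : Sylow ℓ (Matrix.SpecialLinearGroup (Fin 2) F)) :
    (ℓ ∣ Fintype.card F - 1 →
      Nat.card (Subgroup.centralizer ((P : Subgroup (Matrix.SpecialLinearGroup (Fin 2) F)) : Set (Matrix.SpecialLinearGroup (Fin 2) F))) = Fintype.card F - 1 ∧
      IsCyclic (Subgroup.centralizer ((P : Subgroup (Matrix.SpecialLinearGroup (Fin 2) F)) : Set (Matrix.SpecialLinearGroup (Fin 2) F))) ∧
      Nat.card (Subgroup.normalizer ((P : Subgroup (Matrix.SpecialLinearGroup (Fin 2) F)) : Set (Matrix.SpecialLinearGroup (Fin 2) F))) = 2 * (Fintype.card F - 1)) ∧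
    (ℓ ∣ Fintype.card F + 1 →
      Nat.card (Subgroup.centralizer ((P : Subgroup (Matrix.SpecialLinearGroup (Fin 2) F)) : Set (Matrix.SpecialLinearGroup (Fin 2) F))) = Fintype.card F + 1 ∧
      IsCyclic (Subgroup.centralizer ((P : Subgroup (Matrix.SpecialLinearGroup (Fin 2) F)) : Set (Matrix.SpecialLinearGroup (Fin 2) F))) ∧
      Nat.card (Subgroup.normalizer ((P : Subgroup (Matrix.SpecialLinearGroup (Fin 2) F)) : Set (Matrix.SpecialLinearGroup (Fin 2) F))) = 2 * (Fintype.card F + 1)) := by
  classical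
  have h2 := two_ne_zero_of_odd_card hodd
  have hF : ringChar F ≠ 2 := by
    intro h
    apply h2
    have : CharP F 2 := ringChar.of_eq h
    exact CharTwo.two_eq_zero
  have hq : 1 < Fintype.card F := Fintype.one_lt_card
  have hprime : ℓ.Prime := Fact.out
  have hcardG := Cfsg.Agent.S2301.card_sl2 (F := F)
  constructor
  · intro hdvd
    have hgen := splitGen_isTorusGen h2 (F := F)
    have hw : ∃ w : Matrix.SpecialLinearGroup (Fin 2) F,
        (w : Matrix (Fin 2) (Fin 2) F) * splitGen = -(splitGen * (w : Matrix (Fin 2) (Fin 2) F)) :=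
      ⟨weylS, weylS_anticomm⟩
    have hcard := card_torusA_splitGen h2 (F := F)
    have hidx : ¬ ℓ ∣ (torusA (splitGen (F := F))).index := by
      rw [index_of_card_sub_one _ hcard]
      intro h
      rcases (Nat.Prime.dvd_mul hprime).1 h with h' | h'
      · -- ℓ ∣ q+1 and q-1 → ℓ ∣ 2
        have : ℓ ∣ (Fintype.card F + 1) - (Fintype.card F - 1) := Nat.dvd_sub h' hdvd
        have e : (Fintype.card F + 1) - (Fintype.card F - 1) = 2 := by omega
        rw [e] at this
        exact hℓ ((Nat.prime_dvd_prime_iff_eq hprime Nat.prime_two).1 this)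
      · have : ℓ ∣ Fintype.card F - (Fintype.card F - 1) := Nat.dvd_sub h' hdvd
        have e : Fintype.card F - (Fintype.card F - 1) = 1 := by omega
        rw [e] at this
        exact hprime.one_lt.ne' (Nat.dvd_one.1 this)
    have hdvdG : ℓ ∣ Nat.card (Matrix.SpecialLinearGroup (Fin 2) F) := by
      rw [hcardG]
      exact Dvd.dvd.mul_left (Dvd.dvd.mul_right hdvd _) _
    obtain ⟨r1, r2, r3⟩ := sylow_in_torus hgen hw (isCyclic_torusA_splitGen h2) ℓ hℓ P hdvdG hidx
    rw [hcard] at r1 r3
    exact ⟨r1, r2, r3⟩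
  · intro hdvd
    obtain ⟨ε, hε⟩ := FiniteField.exists_nonsquare hF
    have hε0 := ne_zero_of_not_isSquare hε
    have hgen := nsGen_isTorusGen h2 hε0
    have hw := exists_anticomm_nsGen h2 hε0
    have hcard := card_torusA_nsGen h2 hε
    have hidx : ¬ ℓ ∣ (torusA (nsGen ε)).index := by
      rw [index_of_card_add_one _ hcard]
      intro h
      rcases (Nat.Prime.dvd_mul hprime).1 h with h' | h'
      · have : ℓ ∣ (Fintype.card F + 1) - (Fintype.card F - 1) := Nat.dvd_sub hdvd h'
        have e : (Fintype.card F + 1) - (Fintype.card F - 1) = 2 := by omega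
        rw [e] at this
        exact hℓ ((Nat.prime_dvd_prime_iff_eq hprime Nat.prime_two).1 this)
      · have : ℓ ∣ (Fintype.card F + 1) - Fintype.card F := Nat.dvd_sub hdvd h'
        have e : (Fintype.card F + 1) - Fintype.card F = 1 := by omega
        rw [e] at this
        exact hprime.one_lt.ne' (Nat.dvd_one.1 this)
    have hdvdG : ℓ ∣ Nat.card (Matrix.SpecialLinearGroup (Fin 2) F) := by
      rw [hcardG]
      exact Dvd.dvd.mul_right hdvd _
    obtain ⟨r1, r2, r3⟩ := sylow_in_torus hgen hw (isCyclic_torusA_nsGen hε) ℓ hℓ P hdvdG hidx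
    rw [hcard] at r1 r3
    exact ⟨r1, r2, r3⟩

end Cfsg.Agent.S2430
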