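import Cfsg.Statements.S2431
import Cfsg.Agent.Helper12.SL2SylowTwoB
import Cfsg.Agent.Helper12.SL2SylowTorus

set_option autoImplicit false
open Cfsg Cfsg.Agent.Helper12

namespace Cfsg.Agent.S2431

/-- Let F be a finite field with q elements, q odd, and S a Sylow 2-subgroup of SL₂ over F. The centraliser of S is the centre of SL₂ (of order 2); S is its own normaliser when q ≡ ±1 mod 8, and has index 3 in its normaliser when q ≡ ±3 mod 8. -/
theorem result {F : Type*} [Field F] [Fintype F] (hodd : Odd (Fintype.card F)) (S : Sylow 2 (Matrix.SpecialLinearGroup (Fin 2) F)) :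
    Subgroup.centralizer ((S : Subgroup (Matrix.SpecialLinearGroup (Fin 2) F)) : Set (Matrix.SpecialLinearGroup (Fin 2) F)) = Subgroup.center (Matrix.SpecialLinearGroup (Fin 2) F) ∧
    ((Fintype.card F % 8 = 1 ∨ Fintype.card F % 8 = 7) →
      Subgroup.normalizer ((S : Subgroup (Matrix.SpecialLinearGroup (Fin 2) F)) : Set (Matrix.SpecialLinearGroup (Fin 2) F)) = (S : Subgroup (Matrix.SpecialLinearGroup (Fin 2) F))) ∧
    ((Fintype.card F % 8 = 3 ∨ Fintype.card F % 8 = 5) →
      Nat.card (Subgroup.normalizer ((S : Subgroup (Matrix.SpecialLinearGroup (Fin 2) F)) : Set (Matrix.SpecialLinearGroup (Fin 2) F))) = 3 * Nat.card S) := by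
  classical
  have h2 := two_ne_zero_of_odd_card hodd
  have hF : ringChar F ≠ 2 := by
    intro h
    apply h2
    have : CharP F 2 := ringChar.of_eq h
    exact CharTwo.two_eq_zero
  have hq : 1 < Fintype.card F := Fintype.one_lt_card
  have hcardG := Cfsg.Agent.S2301.card_sl2 (F := F)
  -- the Sylow subgroup lies in the normaliser of a torus
  obtain ⟨A, ε, hgen, hw, hSle⟩ : ∃ (A : Matrix (Fin 2) (Fin 2) F) (ε : F), IsTorusGen A ε ∧
      (∃ w : Matrix.SpecialLinearGroup (Fin 2) F,
        (w : Matrix (Fin 2) (Fin 2) F) * A = -(A * (w : Matrix (Fin 2) (Fin 2) F))) ∧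
      (S : Subgroup (Matrix.SpecialLinearGroup (Fin 2) F)) ≤ normA A := by
    have hmod4 : Fintype.card F % 4 = 1 ∨ Fintype.card F % 4 = 3 := by
      obtain ⟨m, hm⟩ := hodd
      omega
    rcases hmod4 with h4 | h4
    · have hgen := splitGen_isTorusGen h2 (F := F)
      have hw : ∃ w : Matrix.SpecialLinearGroup (Fin 2) F,
          (w : Matrix (Fin 2) (Fin 2) F) * splitGen =
            -(splitGen * (w : Matrix (Fin 2) (Fin 2) F)) := ⟨weylS, weylS_anticomm⟩
      have hcard := card_torusA_splitGen h2 (F := F)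
      have hcardN := hgen.card_normA hw
      rw [hcard] at hcardN
      have hidx : ¬ 2 ∣ (normA (splitGen (F := F))).index := by
        intro hdvd
        have h1 := (normA (splitGen (F := F))).index_mul_card
        rw [hcardG, hcardN] at h1
        obtain ⟨j, hj⟩ := hdvd
        obtain ⟨m, hm⟩ : ∃ m, Fintype.card F = 4 * m + 1 := ⟨Fintype.card F / 4, by omega⟩
        rw [hj, hm] at h1
        have e1 : 4 * m + 1 - 1 = 4 * m := by omega
        rw [e1] at h1
        have e2 : 2 * j * (2 * (4 * m)) = (4 * m) * (4 * j) := by ring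
        have e3 : (4 * m + 1 + 1) * (4 * m * (4 * m + 1)) =
            (4 * m) * (16 * (m * m) + 12 * m + 2) := by ring
        rw [e2, e3] at h1
        have hm0 : 0 < 4 * m := by omega
        have := Nat.eq_of_mul_eq_mul_left hm0 h1
        omega
      obtain ⟨g, hg⟩ := exists_le_normA_conjGen (splitGen (F := F)) 2
        (S : Subgroup (Matrix.SpecialLinearGroup (Fin 2) F)) S.isPGroup' hidx
      exact ⟨conjGen g splitGen, 1, conjGen_isTorusGen hgen g, exists_anticomm_conjGen g hw, hg⟩
    · obtain ⟨ε, hε⟩ := FiniteField.exists_nonsquare hF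
      have hε0 := ne_zero_of_not_isSquare hε
      have hgen := nsGen_isTorusGen h2 hε0
      have hw := exists_anticomm_nsGen h2 hε0
      have hcard := card_torusA_nsGen h2 hε
      have hcardN := hgen.card_normA hw
      rw [hcard] at hcardN
      have hidx : ¬ 2 ∣ (normA (nsGen ε)).index := by
        intro hdvd
        have h1 := (normA (nsGen ε)).index_mul_card
        rw [hcardG, hcardN] at h1
        obtain ⟨j, hj⟩ := hdvd
        obtain ⟨m, hm⟩ : ∃ m, Fintype.card F = 4 * m + 3 := ⟨Fintype.card F / 4, by omega⟩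
        rw [hj, hm] at h1
        have e1 : 4 * m + 3 - 1 = 4 * m + 2 := by omega
        rw [e1] at h1
        have e2 : 2 * j * (2 * (4 * m + 3 + 1)) = (4 * m + 3 + 1) * (4 * j) := by ring
        have e3 : (4 * m + 3 + 1) * ((4 * m + 2) * (4 * m + 3)) =
            (4 * m + 3 + 1) * (16 * (m * m) + 20 * m + 6) := by ring
        rw [e2, e3] at h1
        have hm0 : 0 < 4 * m + 3 + 1 := by omega
        have := Nat.eq_of_mul_eq_mul_left hm0 h1
        omega
      obtain ⟨g, hg⟩ := exists_le_normA_conjGen (nsGen ε) 2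
        (S : Subgroup (Matrix.SpecialLinearGroup (Fin 2) F)) S.isPGroup' hidx
      exact ⟨conjGen g (nsGen ε), ε, conjGen_isTorusGen hgen g, exists_anticomm_conjGen g hw, hg⟩
  -- divisibility of the group order
  have h8G : 2 ^ 3 ∣ Nat.card (Matrix.SpecialLinearGroup (Fin 2) F) := by
    rw [hcardG]
    obtain ⟨m, hm⟩ := hodd
    rw [hm]
    have e1 : 2 * m + 1 - 1 = 2 * m := by omega
    rw [e1]
    obtain ⟨j, hj⟩ := Nat.even_mul_succ_self m
    have e2 : (2 * m + 1 + 1) * (2 * m * (2 * m + 1)) = 4 * (m * (m + 1)) * (2 * m + 1) := by ring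
    rw [e2, hj]
    exact ⟨j * (2 * m + 1), by ring⟩
  have h8 : 8 ∣ Nat.card (S : Subgroup (Matrix.SpecialLinearGroup (Fin 2) F)) :=
    S.pow_dvd_card_of_pow_dvd_card h8G
  refine ⟨hgen.centralizer_sylow_two S hSle h8 hw, ?_, ?_⟩
  · intro hmod
    have h16G : 2 ^ 4 ∣ Nat.card (Matrix.SpecialLinearGroup (Fin 2) F) := by
      rw [hcardG]
      rcases hmod with hmod | hmod
      · obtain ⟨m, hm⟩ : ∃ m, Fintype.card F = 8 * m + 1 := ⟨Fintype.card F / 8, by omega⟩
        rw [hm]
        have e1 : 8 * m + 1 - 1 = 8 * m := by omega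
        rw [e1]
        exact ⟨(4 * m + 1) * (m * (8 * m + 1)), by ring⟩
      · obtain ⟨m, hm⟩ : ∃ m, Fintype.card F = 8 * m + 7 := ⟨Fintype.card F / 8, by omega⟩
        rw [hm]
        have e1 : 8 * m + 7 - 1 = 8 * m + 6 := by omega
        rw [e1]
        exact ⟨(m + 1) * ((4 * m + 3) * (8 * m + 7)), by ring⟩
    have h16 : 16 ∣ Nat.card (S : Subgroup (Matrix.SpecialLinearGroup (Fin 2) F)) :=
      S.pow_dvd_card_of_pow_dvd_card h16G
    exact hgen.normalizer_sylow_two S hSle h16 hw
  · intro hmod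
    have h16G : ¬ 16 ∣ Nat.card (Matrix.SpecialLinearGroup (Fin 2) F) := by
      rw [hcardG]
      intro hdvd
      rcases hmod with hmod | hmod
      · obtain ⟨m, hm⟩ : ∃ m, Fintype.card F = 8 * m + 3 := ⟨Fintype.card F / 8, by omega⟩
        rw [hm] at hdvd
        have e1 : 8 * m + 3 - 1 = 8 * m + 2 := by omega
        rw [e1] at hdvd
        have e2 : (8 * m + 3 + 1) * ((8 * m + 2) * (8 * m + 3)) =
            8 * ((2 * m + 1) * ((4 * m + 1) * (8 * m + 3))) := by ring
        rw [e2] at hdvd
        have h2dvd : 2 ∣ (2 * m + 1) * ((4 * m + 1) * (8 * m + 3)) := by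
          obtain ⟨k, hk⟩ := hdvd
          exact ⟨k, by omega⟩
        rcases (Nat.Prime.dvd_mul Nat.prime_two).1 h2dvd with h' | h'
        · omega
        · rcases (Nat.Prime.dvd_mul Nat.prime_two).1 h' with h'' | h'' <;> omega
      · obtain ⟨m, hm⟩ : ∃ m, Fintype.card F = 8 * m + 5 := ⟨Fintype.card F / 8, by omega⟩
        rw [hm] at hdvd
        have e1 : 8 * m + 5 - 1 = 8 * m + 4 := by omega
        rw [e1] at hdvd
        have e2 : (8 * m + 5 + 1) * ((8 * m + 4) * (8 * m + 5)) =
            8 * ((4 * m + 3) * ((2 * m + 1) * (8 * m + 5))) := by ring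
        rw [e2] at hdvd
        have h2dvd : 2 ∣ (4 * m + 3) * ((2 * m + 1) * (8 * m + 5)) := by
          obtain ⟨k, hk⟩ := hdvd
          exact ⟨k, by omega⟩
        rcases (Nat.Prime.dvd_mul Nat.prime_two).1 h2dvd with h' | h'
        · omega
        · rcases (Nat.Prime.dvd_mul Nat.prime_two).1 h' with h'' | h'' <;> omega
    have hS8 : Nat.card (S : Subgroup (Matrix.SpecialLinearGroup (Fin 2) F)) = 8 := by
      obtain ⟨k, hk⟩ := IsPGroup.exists_card_eq S.isPGroup'
      have hdvdG : Nat.card (S : Subgroup (Matrix.SpecialLinearGroup (Fin 2) F)) ∣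
          Nat.card (Matrix.SpecialLinearGroup (Fin 2) F) := Subgroup.card_subgroup_dvd_card _
      rw [hk] at h8 hdvdG ⊢
      have hk4 : k < 4 := by
        by_contra hge
        push Not at hge
        exact h16G ((pow_dvd_pow 2 hge).trans hdvdG)
      have hk3 : 3 ≤ k := by
        by_contra hlt
        push Not at hlt
        have : 2 ^ k ≤ 2 ^ 2 := Nat.pow_le_pow_right (by norm_num) (by omega)
        have h8le := Nat.le_of_dvd (by positivity) h8
        omega
      have : k = 3 := by omega
      rw [this]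
      norm_num
    have h24 := hgen.card_normalizer_sylow_two S hSle hS8 hw
    rw [h24]
    show 24 = 3 * Nat.card (S : Subgroup (Matrix.SpecialLinearGroup (Fin 2) F))
    rw [hS8]

end Cfsg.Agent.S2431
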