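import Cfsg.Statements.S2433
import Cfsg.Agent.Helper12.SL2Principal

set_option autoImplicit false
open Cfsg

namespace Cfsg.Agent.S2433

open Cfsg.Agent.Helper12

/-- Let F be a finite field with q elements, q odd, α a multiplicative character of F, and R(α) the function on SL₂ induced from the linear character b ↦ α(b₁₁) of the upper triangular subgroup. Then R(α) takes the value α(a) + α(a⁻¹) at a diagonal element with entries a, a⁻¹, a² ≠ 1; the value 0 at every element with no eigenvector in F²; the value α(ε) at an upper triangular element with both diagonal entries ε and non-zero upper right entry; and the value (q + 1)α(ε) at the scalar element ε (ε = ±1). -/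
theorem result {F : Type*} [Field F] [Fintype F] [DecidableEq F] (hodd : Odd (Fintype.card F)) (α : MulChar F ℂ) (g : Matrix.SpecialLinearGroup (Fin 2) F) :
    ((g : Matrix (Fin 2) (Fin 2) F) 0 1 = 0 → (g : Matrix (Fin 2) (Fin 2) F) 1 0 = 0 → (g : Matrix (Fin 2) (Fin 2) F) 0 0 ^ 2 ≠ 1 →
      (Cfsg.indFun ((Cfsg.upperTriangularGL 2 F).comap Matrix.SpecialLinearGroup.toGL) (fun b => α (((b : Matrix.SpecialLinearGroup (Fin 2) F) : Matrix (Fin 2) (Fin 2) F) 0 0))) g = α ((g : Matrix (Fin 2) (Fin 2) F) 0 0) + α ((g : Matrix (Fin 2) (Fin 2) F) 1 1)) ∧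
    ((∀ (c : F) (v : Fin 2 → F), v ≠ 0 → (g : Matrix (Fin 2) (Fin 2) F).mulVec v ≠ c • v) → (Cfsg.indFun ((Cfsg.upperTriangularGL 2 F).comap Matrix.SpecialLinearGroup.toGL) (fun b => α (((b : Matrix.SpecialLinearGroup (Fin 2) F) : Matrix (Fin 2) (Fin 2) F) 0 0))) g = 0) ∧
    ((g : Matrix (Fin 2) (Fin 2) F) 1 0 = 0 → (g : Matrix (Fin 2) (Fin 2) F) 0 0 = (g : Matrix (Fin 2) (Fin 2) F) 1 1 → (g : Matrix (Fin 2) (Fin 2) F) 0 1 ≠ 0 →
      (Cfsg.indFun ((Cfsg.upperTriangularGL 2 F).comap Matrix.SpecialLinearGroup.toGL) (fun b => α (((b : Matrix.SpecialLinearGroup (Fin 2) F) : Matrix (Fin 2) (Fin 2) F) 0 0))) g = α ((g : Matrix (Fin 2) (Fin 2) F) 0 0)) ∧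
    ((g : Matrix (Fin 2) (Fin 2) F) 0 1 = 0 → (g : Matrix (Fin 2) (Fin 2) F) 1 0 = 0 → (g : Matrix (Fin 2) (Fin 2) F) 0 0 = (g : Matrix (Fin 2) (Fin 2) F) 1 1 →
      (Cfsg.indFun ((Cfsg.upperTriangularGL 2 F).comap Matrix.SpecialLinearGroup.toGL) (fun b => α (((b : Matrix.SpecialLinearGroup (Fin 2) F) : Matrix (Fin 2) (Fin 2) F) 0 0))) g = ((Fintype.card F : ℂ) + 1) * α ((g : Matrix (Fin 2) (Fin 2) F) 0 0)) := by
  have key := indFun_borelChar α g
  change Cfsg.indFun ((Cfsg.upperTriangularGL 2 F).comap Matrix.SpecialLinearGroup.toGL)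
    (fun b => α (((b : Matrix.SpecialLinearGroup (Fin 2) F) : Matrix (Fin 2) (Fin 2) F) 0 0)) g = _ at key
  set A : Matrix (Fin 2) (Fin 2) F := (g : Matrix (Fin 2) (Fin 2) F) with hA
  have hdet : A 0 0 * A 1 1 - A 0 1 * A 1 0 = 1 := by
    have := g.2
    rw [Matrix.det_fin_two] at this
    exact this
  refine ⟨?_, ?_, ?_, ?_⟩
  · intro h01 h10 hsq
    rw [key, h10, h01, if_pos rfl]
    congr 1
    have hne : A 1 1 - A 0 0 ≠ 0 := by
      intro h
      apply hsq
      have : A 1 1 = A 0 0 := by linear_combination h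
      rw [h01, this] at hdet
      linear_combination hdet
    have hcond : ∀ s : F, (0 * s ^ 2 + (A 1 1 - A 0 0) * s - 0 = 0) ↔ s = 0 := by
      intro s
      constructor
      · intro h
        have : (A 1 1 - A 0 0) * s = 0 := by linear_combination h
        exact (mul_eq_zero.1 this).resolve_left hne
      · intro h; rw [h]; ring
    simp only [hcond]
    rw [Finset.sum_ite_eq' Finset.univ (0 : F)]
    simp
  · intro hno
    rw [key]
    have hc : A 1 0 ≠ 0 := by
      intro h
      apply hno (A 0 0) ![1, 0] (by simp)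
      ext i
      fin_cases i <;> simp [Matrix.mulVec, dotProduct, Fin.sum_univ_two, h]
    rw [if_neg hc, zero_add]
    apply Finset.sum_eq_zero
    intro s _
    rw [if_neg]
    intro hs
    apply hno (A 1 0 * s + A 1 1) ![s, 1] (by
      intro h
      have := congrFun h 1
      simp at this)
    ext i
    fin_cases i
    · simp [Matrix.mulVec, dotProduct, Fin.sum_univ_two]
      linear_combination -hs
    · simp [Matrix.mulVec, dotProduct, Fin.sum_univ_two]
  · intro h10 heq h01
    rw [key, h10, if_pos rfl]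
    have : ∑ s : F, (if 0 * s ^ 2 + (A 1 1 - A 0 0) * s - A 0 1 = 0 then α (0 * s + A 1 1) else 0) = 0 := by
      apply Finset.sum_eq_zero
      intro s _
      rw [if_neg]
      rw [heq]
      intro h
      apply h01
      linear_combination -h
    rw [this, add_zero]
  · intro h01 h10 heq
    rw [key, h10, h01, if_pos rfl]
    have : ∑ s : F, (if 0 * s ^ 2 + (A 1 1 - A 0 0) * s - 0 = 0 then α (0 * s + A 1 1) else 0) =
        (Fintype.card F : ℂ) * α (A 0 0) := by
      rw [heq]
      simp
    rw [this]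
    ring

end Cfsg.Agent.S2433
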