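import Cfsg.Statements.S2434
import Cfsg.Agent.Helper12.SL2CuspThree
import Cfsg.Agent.Helper12.SL2Xi

set_option autoImplicit false
open Cfsg Cfsg.Agent.Helper12

namespace Cfsg.Agent.S2434

/-- Let F be a finite field with q elements, q odd, and C a cyclic subgroup of order q + 1 of SL₂ over F (a non-split torus; it contains the centre). For every homomorphism θ from C to the non-zero complex numbers with θ² ≠ 1 there is an irreducible complex character χ of degree q − 1 such that χ(c) = −θ(c) − θ(c)⁻¹ for every non-central c in C, χ(zg) = θ(z)χ(g) for central z in C, χ vanishes at diagonal elements with entry a, a² ≠ 1, and χ takes the value −1 at every upper unitriangular element other than 1. Conversely every irreducible character of degree q − 1 has, for some such θ, the values −θ(c) − θ(c)⁻¹ at the non-central elements c of C (for q ≥ 5 these are exactly the cuspidal characters of degree q − 1). -/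
theorem result {F : Type*} [Field F] [Fintype F] (hodd : Odd (Fintype.card F))
    (C : Subgroup (Matrix.SpecialLinearGroup (Fin 2) F)) (hC : IsCyclic C) (hcard : Nat.card C = Fintype.card F + 1) :
    (∀ θ : C →* ℂˣ, (∃ c : C, θ c ^ 2 ≠ 1) →
      ∃ χ : Matrix.SpecialLinearGroup (Fin 2) F → ℂ, Cfsg.IsIrrCharacter (Matrix.SpecialLinearGroup (Fin 2) F) χ ∧ χ 1 = (Fintype.card F : ℂ) - 1 ∧
        (∀ c : C, (c : Matrix.SpecialLinearGroup (Fin 2) F) ∉ Subgroup.center (Matrix.SpecialLinearGroup (Fin 2) F) → χ c = -((θ c).val + (θ c)⁻¹.val)) ∧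
        (∀ c : C, (c : Matrix.SpecialLinearGroup (Fin 2) F) ∈ Subgroup.center (Matrix.SpecialLinearGroup (Fin 2) F) → ∀ g : Matrix.SpecialLinearGroup (Fin 2) F, χ ((c : Matrix.SpecialLinearGroup (Fin 2) F) * g) = (θ c).val * χ g) ∧
        (∀ g : Matrix.SpecialLinearGroup (Fin 2) F, (g : Matrix (Fin 2) (Fin 2) F) 0 1 = 0 → (g : Matrix (Fin 2) (Fin 2) F) 1 0 = 0 → (g : Matrix (Fin 2) (Fin 2) F) 0 0 ^ 2 ≠ 1 → χ g = 0) ∧
        (∀ g : Matrix.SpecialLinearGroup (Fin 2) F, (g : Matrix (Fin 2) (Fin 2) F) 1 0 = 0 → (g : Matrix (Fin 2) (Fin 2) F) 0 0 = 1 → (g : Matrix (Fin 2) (Fin 2) F) 1 1 = 1 → (g : Matrix (Fin 2) (Fin 2) F) 0 1 ≠ 0 → χ g = -1)) ∧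
    (∀ χ : Matrix.SpecialLinearGroup (Fin 2) F → ℂ, Cfsg.IsIrrCharacter (Matrix.SpecialLinearGroup (Fin 2) F) χ → χ 1 = (Fintype.card F : ℂ) - 1 →
      ∃ θ : C →* ℂˣ, (∃ c : C, θ c ^ 2 ≠ 1) ∧
        ∀ c : C, (c : Matrix.SpecialLinearGroup (Fin 2) F) ∉ Subgroup.center (Matrix.SpecialLinearGroup (Fin 2) F) → χ c = -((θ c).val + (θ c)⁻¹.val)) := by
  classical
  obtain ⟨A, ε, hns, rfl⟩ := exists_isNonsplitGen_of_cyclic hodd C hC hcard
  have h2 := hns.gen.two_ne
  have hF : ringChar F ≠ 2 := ringChar_ne_two_of_odd hodd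
  have hq1 : 1 < Fintype.card F := Fintype.one_lt_card
  have hnc : ∀ c : torusA A, (c : Matrix.SpecialLinearGroup (Fin 2) F) ∉
      Subgroup.center (Matrix.SpecialLinearGroup (Fin 2) F) →
      ((c : Matrix.SpecialLinearGroup (Fin 2) F) : Matrix (Fin 2) (Fin 2) F) ≠ 1 ∧
      ((c : Matrix.SpecialLinearGroup (Fin 2) F) : Matrix (Fin 2) (Fin 2) F) ≠ -1 := by
    intro c hc
    constructor
    · intro h
      apply hc
      rw [(sl2_coe_eq_one_iff _).1 h]
      exact Subgroup.one_mem _
    · intro h
      apply hc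
      rw [(sl2_coe_eq_neg_one_iff _).1 h]
      exact sl2_neg_one_mem_center
  constructor
  · rintro θ ⟨c, hc⟩
    have hθ : θ ≠ θ⁻¹ := by
      intro h
      apply hc
      have h1 : θ c = (θ c)⁻¹ := by
        have := congrArg (fun ψ : torusA A →* ℂˣ => ψ c) h
        simpa using this
      rw [pow_two]
      nth_rewrite 2 [h1]
      exact mul_inv_cancel _
    obtain ⟨α, hα⟩ := exists_mulChar_neg_one h2 (sgnT_sq θ)
    refine ⟨cuspFun A θ α, hns.cuspFun_isIrr θ hθ α hα, hns.cuspFun_one θ α, ?_, ?_, ?_, ?_⟩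
    · intro c hc
      obtain ⟨hc1, hc2⟩ := hnc c hc
      rw [hns.cuspFun_torus θ α c.2 hc1 hc2]
    · intro c hc g
      rcases sl2_center_eq (c : Matrix.SpecialLinearGroup (Fin 2) F) hc with h1 | h1
      · have : c = 1 := Subtype.ext h1
        rw [h1, one_mul, this, map_one, Units.val_one, one_mul]
      · have : c = negOneT A := Subtype.ext h1
        rw [h1, hns.cuspFun_neg_mul θ α hα, this]
        rfl
    · intro g h01 h10 h00
      obtain ⟨u, hu, _, hg⟩ := eq_borelMkSL_of_upper g h10
      rw [hg]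
      apply hns.cuspFun_borel_split
      intro h
      apply h00
      rw [← hu, pow_two]
      nth_rewrite 2 [h]
      rw [← Units.val_mul, mul_inv_cancel, Units.val_one]
    · intro g h10 h00 h11 h01
      obtain ⟨u, hu, _, hg⟩ := eq_borelMkSL_of_upper g h10
      have hu1 : u = 1 := Units.ext (by rw [hu, h00]; rfl)
      rw [hg, hu1, hns.cuspFun_borel_unip θ α (by simp) h01]
      simp
  · intro χ hχ hdeg
    obtain ⟨ε', hε'⟩ := FiniteField.exists_nonsquare hF
    have hq1' := card_sub_one_ne_zero (F := F)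
    rcases sl2_odd_irr_cases hodd hε' χ hχ with h1 | h1 | ⟨α, _, h1⟩ | h1 | ⟨hc, h1⟩
    · exfalso
      rw [h1] at hdeg
      have : (Fintype.card F : ℂ) = 2 := by
        simp only [trivS] at hdeg
        linear_combination -hdeg
      have h3 : Fintype.card F = 2 := by exact_mod_cast this
      obtain ⟨k, hk⟩ := hodd
      omega
    · exfalso
      rw [h1, stS_one] at hdeg
      have : (1 : ℂ) = 0 := by linear_combination hdeg
      exact one_ne_zero this
    · exfalso
      rw [h1, psS_one] at hdeg
      have : (2 : ℂ) = 0 := by linear_combination hdeg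
      exact two_ne_zero this
    · -- the constituents of the principal series of the quadratic character: `q = 3`
      obtain ⟨hd1, hd2, _⟩ := pairS_sgn_spec hodd (F := F)
      have hdeg' : χ 1 = (((Fintype.card F + 1) / 2 : ℕ) : ℂ) := by
        rcases h1 with h1 | h1
        · rw [h1, hd1]
        · rw [h1, hd2]
      have h3 : Fintype.card F = 3 := by
        have hh := (half_cast_odd hodd).1
        rw [← hdeg', hdeg] at hh
        have : (Fintype.card F : ℂ) = 3 := by linear_combination hh
        exact_mod_cast this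
      obtain ⟨θ, hθ, hval⟩ := hns.exists_theta_of_card_three hC h3
      refine ⟨θ, ?_, ?_⟩
      · by_contra hno
        push Not at hno
        apply hθ
        ext c
        rw [MonoidHom.inv_apply]
        congr 1
        apply eq_inv_of_mul_eq_one_left
        rw [← pow_two]
        exact hno c
      · intro c hc
        obtain ⟨hc1, hc2⟩ := hnc c hc
        rw [hval c hc1 hc2, neg_zero]
        have hx := xi_no_eigen hodd (c : Matrix.SpecialLinearGroup (Fin 2) F)
          (hns.noEigen _ c.2 hc1 hc2)
        rcases h1 with h1 | h1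
        · rw [h1]; exact hx.1
        · rw [h1]; exact hx.2
    · rcases h1 with ⟨hd, _⟩ | ⟨hd, _⟩
      · obtain ⟨θ, α, hθ, hα, rfl⟩ := hns.exists_eq_cuspFun hodd hC χ hχ hc hd
        refine ⟨θ, ?_, ?_⟩
        · by_contra hno
          push Not at hno
          apply hθ
          ext c
          rw [MonoidHom.inv_apply]
          congr 1
          apply eq_inv_of_mul_eq_one_left
          rw [← pow_two]
          exact hno c
        · intro c hc
          obtain ⟨hc1, hc2⟩ := hnc c hc
          rw [hns.cuspFun_torus θ α c.2 hc1 hc2]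
      · exfalso
        rw [hdeg] at hd
        apply hq1'
        linear_combination hd

end Cfsg.Agent.S2434
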