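import Cfsg.Statements.S2435
import Cfsg.Agent.Helper12.SL2HalfCusp
import Cfsg.Agent.Helper12.SL2XiSplit

set_option autoImplicit false
open Cfsg Cfsg.Agent.Helper12

namespace Cfsg.Agent.S2435

/-- Let F be a finite field with q elements, q odd and q ≥ 5, and χ an irreducible complex character of SL₂ over F. If χ has degree (q + 1)/2, then at a diagonal element with entry a, a² ≠ 1, χ takes the value 1 when a is a square in F and −1 otherwise. If χ has degree (q − 1)/2, then at an element g with no eigenvector in F² (so g has order dividing q + 1), χ takes the value −1 when g raised to the power (q + 1)/2 is the identity and the value 1 otherwise. -/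
theorem result {F : Type*} [Field F] [Fintype F] (hodd : Odd (Fintype.card F)) (hq : 5 ≤ Fintype.card F)
    (χ : Matrix.SpecialLinearGroup (Fin 2) F → ℂ) (hχ : Cfsg.IsIrrCharacter (Matrix.SpecialLinearGroup (Fin 2) F) χ) (g : Matrix.SpecialLinearGroup (Fin 2) F) :
    (χ 1 = (((Fintype.card F + 1) / 2 : ℕ) : ℂ) → (g : Matrix (Fin 2) (Fin 2) F) 0 1 = 0 → (g : Matrix (Fin 2) (Fin 2) F) 1 0 = 0 → (g : Matrix (Fin 2) (Fin 2) F) 0 0 ^ 2 ≠ 1 →
      (IsSquare ((g : Matrix (Fin 2) (Fin 2) F) 0 0) → χ g = 1) ∧ (¬ IsSquare ((g : Matrix (Fin 2) (Fin 2) F) 0 0) → χ g = -1)) ∧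
    (χ 1 = (((Fintype.card F - 1) / 2 : ℕ) : ℂ) → (∀ (c : F) (v : Fin 2 → F), v ≠ 0 → (g : Matrix (Fin 2) (Fin 2) F).mulVec v ≠ c • v) →
      (((g ^ ((Fintype.card F + 1) / 2)) : Matrix (Fin 2) (Fin 2) F) = 1 → χ g = -1) ∧ (((g ^ ((Fintype.card F + 1) / 2)) : Matrix (Fin 2) (Fin 2) F) ≠ 1 → χ g = 1)) := by
  classical
  have h2 := two_ne_zero_of_odd_card hodd
  have hF : ringChar F ≠ 2 := ringChar_ne_two_of_odd hodd
  obtain ⟨ε₀, hε₀⟩ := FiniteField.exists_nonsquare hF
  have hq1' := card_sub_one_ne_zero (F := F)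
  have hqc : (5 : ℝ) ≤ (Fintype.card F : ℝ) := by exact_mod_cast hq
  have hcases := sl2_odd_irr_cases hodd hε₀ χ hχ
  obtain ⟨hh1, hh2⟩ := half_cast_odd hodd
  obtain ⟨hd1, hd2, _⟩ := pairS_sgn_spec hodd (F := F)
  -- a contradiction principle: complex equations between real quantities
  have hre : ∀ {a b : ℝ}, ((a : ℂ) = (b : ℂ)) → a = b := fun h => by exact_mod_cast h
  constructor
  · intro hdeg h01 h10 h00
    have h2χ : 2 * χ 1 = (Fintype.card F : ℂ) + 1 := by rw [hdeg]; exact hh1
    have hχcase : χ = ((pairS (sgnC (F := F)) sgnC_sq).1 : _ → ℂ) ∨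
        χ = ((pairS (sgnC (F := F)) sgnC_sq).2 : _ → ℂ) := by
      rcases hcases with h1 | h1 | ⟨α, _, h1⟩ | h1 | ⟨_, h1⟩
      · exfalso
        rw [h1] at h2χ
        simp only [trivS] at h2χ
        have : ((Fintype.card F : ℝ) : ℂ) = ((1 : ℝ) : ℂ) := by push_cast; linear_combination -h2χ
        have := hre this
        linarith
      · exfalso
        rw [h1, stS_one] at h2χ
        have : ((Fintype.card F : ℝ) : ℂ) = ((1 : ℝ) : ℂ) := by push_cast; linear_combination h2χ
        have := hre this
        linarith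
      · exfalso
        rw [h1, psS_one] at h2χ
        have : ((Fintype.card F : ℝ) : ℂ) = ((-1 : ℝ) : ℂ) := by push_cast; linear_combination h2χ
        have := hre this
        linarith
      · exact h1
      · exfalso
        rcases h1 with ⟨hd, _⟩ | ⟨hd, _⟩
        · rw [hd] at h2χ
          have : ((Fintype.card F : ℝ) : ℂ) = ((3 : ℝ) : ℂ) := by push_cast; linear_combination h2χ
          have := hre this
          linarith
        · rw [hd] at h2χ
          have : (2 : ℂ) = 0 := by linear_combination -h2χ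
          exact two_ne_zero this
    obtain ⟨u, hu, _, hg⟩ := eq_borelMkSL_of_upper g h10
    rw [h01] at hg
    have hune : (u : F) ≠ ((u⁻¹ : Fˣ) : F) := by
      intro h
      apply h00
      rw [← hu, pow_two]
      nth_rewrite 2 [h]
      rw [← Units.val_mul, mul_inv_cancel, Units.val_one]
    have hval : χ g = sgnC (u : F) := by
      obtain ⟨hx1, hx2⟩ := xi_split hodd hune
      rcases hχcase with h1 | h1
      · rw [h1, hg]; exact hx1
      · rw [h1, hg]; exact hx2
    have hu0 : (u : F) ≠ 0 := Units.ne_zero u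
    rw [hval, sgnC_apply, hu]
    rw [hu] at hu0
    constructor
    · intro hsq
      rw [(quadraticChar_one_iff_isSquare hu0).2 hsq]
      norm_num
    · intro hsq
      rw [(quadraticChar_neg_one_iff_not_isSquare).2 hsq]
      norm_num
  · intro hdeg hne
    have h2χ : 2 * χ 1 = (Fintype.card F : ℂ) - 1 := by rw [hdeg]; exact hh2
    have hχcusp : IsCuspS χ := by
      rcases hcases with h1 | h1 | ⟨α, _, h1⟩ | h1 | ⟨hc, _⟩
      · exfalso
        rw [h1] at h2χ
        simp only [trivS] at h2χ
        have : ((Fintype.card F : ℝ) : ℂ) = ((3 : ℝ) : ℂ) := by push_cast; linear_combination -h2χ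
        have := hre this
        linarith
      · exfalso
        rw [h1, stS_one] at h2χ
        have : ((Fintype.card F : ℝ) : ℂ) = ((-1 : ℝ) : ℂ) := by push_cast; linear_combination h2χ
        have := hre this
        linarith
      · exfalso
        rw [h1, psS_one] at h2χ
        have : ((Fintype.card F : ℝ) : ℂ) = ((-3 : ℝ) : ℂ) := by push_cast; linear_combination h2χ
        have := hre this
        linarith
      · exfalso
        have : 2 * χ 1 = (Fintype.card F : ℂ) + 1 := by
          rcases h1 with h1 | h1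
          · rw [h1, hd1]; exact hh1
          · rw [h1, hd2]; exact hh1
        rw [h2χ] at this
        have : (2 : ℂ) = 0 := by linear_combination -this
        exact two_ne_zero this
      · exact hc
    -- the standard non-split torus
    have hns := isNonsplitGen_nsGen h2 hε₀
    have hcyc := isCyclic_torusA_nsGen hε₀
    obtain ⟨x, hx⟩ := exists_conj_mem_torusA_nsGen h2 hε₀ g hne
    set c := x * g * x⁻¹ with hcdef
    have hgc : g = x⁻¹ * c * x := by rw [hcdef]; group
    have hc1 : ((c : Matrix.SpecialLinearGroup (Fin 2) F) : Matrix (Fin 2) (Fin 2) F) ≠ 1 := by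
      intro h
      have hc' := (sl2_coe_eq_one_iff _).1 h
      apply hne 1 ![1, 0] (by simp)
      rw [hgc, hc']
      simp
    have hc2 : ((c : Matrix.SpecialLinearGroup (Fin 2) F) : Matrix (Fin 2) (Fin 2) F) ≠ -1 := by
      intro h
      have hc' := (sl2_coe_eq_neg_one_iff _).1 h
      apply hne (-1) ![1, 0] (by simp)
      have hcen := (Subgroup.mem_center_iff.1 (sl2_neg_one_mem_center (F := F))) x
      have : g = -1 := by
        rw [hgc, hc', mul_assoc, ← hcen, ← mul_assoc, inv_mul_cancel, one_mul]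
      rw [this, sl2_neg_one_coe]
      simp
    obtain ⟨k, hk⟩ : ∃ k, 2 * k = Fintype.card F + 1 := by
      obtain ⟨j, hj⟩ := hodd
      exact ⟨j + 1, by omega⟩
    have hkm : (Fintype.card F + 1) / 2 = k := by omega
    obtain ⟨θ₀, hθ₀, hθ₀1, hv1, hv2⟩ := hns.exists_quadT hcyc k hk
    have hcf : IsClassFunction _ χ := Cfsg.Agent.Helper24.IsCharacter.isClassFunction
      (Cfsg.Agent.Helper24.IsIrrCharacter.isCharacter hχ)
    have hχc : χ g = χ c := by rw [hcdef, hcf]
    have hval := hns.halfCusp_torus hodd hq hcyc θ₀ hθ₀ hθ₀1 χ hχ hχcusp h2χ hx hc1 hc2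
    have hpow : c ^ k = x * g ^ k * x⁻¹ := by rw [hcdef, conj_pow]
    have hiff : ((⟨c, hx⟩ : torusA (nsGen ε₀)) ^ k = 1) ↔
        (((g ^ k : Matrix.SpecialLinearGroup (Fin 2) F)) : Matrix (Fin 2) (Fin 2) F) = 1 := by
      rw [sl2_coe_eq_one_iff]
      constructor
      · intro h
        have h' := congrArg (fun z : torusA (nsGen ε₀) =>
          (z : Matrix.SpecialLinearGroup (Fin 2) F)) h
        simp only [Subgroup.coe_pow, Subgroup.coe_one] at h'
        rw [hpow] at h'
        have : g ^ k = x⁻¹ * (x * g ^ k * x⁻¹) * x := by group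
        rw [this, h']; group
      · intro h
        apply Subtype.ext
        simp only [Subgroup.coe_pow, Subgroup.coe_one]
        rw [hpow, h]; group
    rw [hkm, hχc, hval]
    constructor
    · intro hg1
      rw [hv1 _ (hiff.2 hg1)]
      simp
    · intro hg1
      rw [hv2 _ (fun h => hg1 (hiff.1 h))]
      simp

end Cfsg.Agent.S2435
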