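import Cfsg.Statements.S2436
import Cfsg.Agent.Helper12.McKaySL2Odd
import Cfsg.Agent.Helper12.McKaySL2Two
import Cfsg.Agent.Helper12.BorelUnip

set_option autoImplicit false
open Cfsg Cfsg.Agent.Helper12

namespace Cfsg.Agent.S2436

/-- Let F be a finite field with q elements, q odd, ℓ any prime and S a Sylow ℓ-subgroup of SL₂ over F with normaliser N. Then SL₂ and N have the same number of irreducible complex characters of degree not divisible by ℓ (the McKay equality holds for SL₂ over F at every prime). -/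
theorem result {F : Type*} [Field F] [Fintype F] (hodd : Odd (Fintype.card F)) (ℓ : ℕ) [Fact ℓ.Prime] (S : Sylow ℓ (Matrix.SpecialLinearGroup (Fin 2) F)) :
    Nat.card {χ : Cfsg.IrrCharacter (Matrix.SpecialLinearGroup (Fin 2) F) // ¬ ℓ ∣ Cfsg.charDegree (χ : Matrix.SpecialLinearGroup (Fin 2) F → ℂ)} =
      Nat.card {ψ : Cfsg.IrrCharacter (Subgroup.normalizer ((S : Subgroup (Matrix.SpecialLinearGroup (Fin 2) F)) : Set (Matrix.SpecialLinearGroup (Fin 2) F))) //
        ¬ ℓ ∣ Cfsg.charDegree (ψ : Subgroup.normalizer ((S : Subgroup (Matrix.SpecialLinearGroup (Fin 2) F)) : Set (Matrix.SpecialLinearGroup (Fin 2) F)) → ℂ)} := by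
  classical
  show mkCount ℓ (Matrix.SpecialLinearGroup (Fin 2) F) =
    mkCount ℓ (Subgroup.normalizer ((S : Subgroup (Matrix.SpecialLinearGroup (Fin 2) F)) :
      Set (Matrix.SpecialLinearGroup (Fin 2) F)))
  have hprime : ℓ.Prime := Fact.out
  have hq : 1 < Fintype.card F := Fintype.one_lt_card
  have hcardG := Cfsg.Agent.S2301.card_sl2 (F := F)
  by_cases hℓ2 : ℓ = 2
  · subst hℓ2
    exact mkCount_sl2_eq_normalizer_two hodd S
  by_cases hdvdG : ℓ ∣ Nat.card (Matrix.SpecialLinearGroup (Fin 2) F)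
  · rw [hcardG] at hdvdG
    rcases (Nat.Prime.dvd_mul hprime).1 hdvdG with h1 | h1
    · exact mkCount_sl2_eq_normalizer_add hodd ℓ hℓ2 S h1
    rcases (Nat.Prime.dvd_mul hprime).1 h1 with h1 | h1
    · exact mkCount_sl2_eq_normalizer_sub hodd ℓ hℓ2 S h1
    · -- the defining characteristic
      obtain ⟨p, hp⟩ := CharP.exists F
      have hpp : p.Prime := by
        rcases CharP.char_is_prime_or_zero F p with h | h
        · exact h
        · subst h
          have := CharP.charP_to_charZero F
          exact (not_finite F).elim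
      have : Fact p.Prime := ⟨hpp⟩
      obtain ⟨n, _, hn⟩ := FiniteField.card F p
      rw [hn] at h1
      have hℓp : ℓ = p := (Nat.prime_dvd_prime_iff_eq hprime hpp).1 (hprime.dvd_of_dvd_pow h1)
      subst hℓp
      rw [mkCount_sl2_char ℓ hodd]
      obtain ⟨e⟩ := nonempty_normalizer_sylow_equiv_borelSL ℓ S
      rw [mkCount_congr ℓ e, mkCount_borelSL ℓ hodd]
  · -- trivial Sylow subgroup
    have hS1 : Nat.card (S : Subgroup (Matrix.SpecialLinearGroup (Fin 2) F)) = 1 := by
      rw [S.card_eq_multiplicity, Nat.factorization_eq_zero_of_not_dvd hdvdG, pow_zero]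
    have hbot : (S : Subgroup (Matrix.SpecialLinearGroup (Fin 2) F)) = ⊥ :=
      Subgroup.eq_bot_of_card_eq _ hS1
    have htop : Subgroup.normalizer ((S : Subgroup (Matrix.SpecialLinearGroup (Fin 2) F)) :
        Set (Matrix.SpecialLinearGroup (Fin 2) F)) = ⊤ := by
      rw [hbot]
      exact Subgroup.normalizer_eq_top _
    rw [mkCount_of_eq_top ℓ _ htop]

end Cfsg.Agent.S2436
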