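import Cfsg.Statements.S2439
import Cfsg.Agent.Helper12.BlockSL2Main

set_option autoImplicit false
open Cfsg Cfsg.Agent.Helper12 Cfsg.Agent.Helper24 Cfsg.Agent.Helper5 Cfsg.Agent.Helper5.Loc Cfsg.Agent.Helper5.CC

namespace Cfsg.Agent.S2439

/-- Let F be a finite field with q elements of odd characteristic p, and M a maximal ideal of the algebraic integers containing p. Then SL₂ over F has exactly three p-blocks relative to M: the irreducible character of degree q (the Steinberg character) alone; the other irreducible characters taking the same value at −1 as at 1 (the principal block); and the irreducible characters χ with χ(−1) = −χ(1). Every Sylow p-subgroup is a defect group of each of the last two blocks. -/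
theorem result {F : Type*} [Field F] [Fintype F] (p : ℕ) [Fact p.Prime] [CharP F p] (hp : p ≠ 2)
    (M : Ideal Cfsg.AlgInt) (hM : Cfsg.IsPModular p M) :
    (∀ B : Set (Cfsg.IrrCharacter (Matrix.SpecialLinearGroup (Fin 2) F)), Cfsg.IsPBlock M B ↔
      (B = {χ : Cfsg.IrrCharacter (Matrix.SpecialLinearGroup (Fin 2) F) | (χ : Matrix.SpecialLinearGroup (Fin 2) F → ℂ) 1 = (Fintype.card F : ℂ)} ∨
       B = {χ : Cfsg.IrrCharacter (Matrix.SpecialLinearGroup (Fin 2) F) | (χ : Matrix.SpecialLinearGroup (Fin 2) F → ℂ) (-1) = (χ : Matrix.SpecialLinearGroup (Fin 2) F → ℂ) 1 ∧ (χ : Matrix.SpecialLinearGroup (Fin 2) F → ℂ) 1 ≠ (Fintype.card F : ℂ)} ∨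
       B = {χ : Cfsg.IrrCharacter (Matrix.SpecialLinearGroup (Fin 2) F) | (χ : Matrix.SpecialLinearGroup (Fin 2) F → ℂ) (-1) = -(χ : Matrix.SpecialLinearGroup (Fin 2) F → ℂ) 1})) ∧
    Nat.card {B : Set (Cfsg.IrrCharacter (Matrix.SpecialLinearGroup (Fin 2) F)) // Cfsg.IsPBlock M B} = 3 ∧
    ∀ P : Sylow p (Matrix.SpecialLinearGroup (Fin 2) F),
      Cfsg.IsDefectGroup p M {χ : Cfsg.IrrCharacter (Matrix.SpecialLinearGroup (Fin 2) F) | (χ : Matrix.SpecialLinearGroup (Fin 2) F → ℂ) (-1) = (χ : Matrix.SpecialLinearGroup (Fin 2) F → ℂ) 1 ∧ (χ : Matrix.SpecialLinearGroup (Fin 2) F → ℂ) 1 ≠ (Fintype.card F : ℂ)} (P : Subgroup (Matrix.SpecialLinearGroup (Fin 2) F)) ∧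
      Cfsg.IsDefectGroup p M {χ : Cfsg.IrrCharacter (Matrix.SpecialLinearGroup (Fin 2) F) | (χ : Matrix.SpecialLinearGroup (Fin 2) F → ℂ) (-1) = -(χ : Matrix.SpecialLinearGroup (Fin 2) F → ℂ) 1} (P : Subgroup (Matrix.SpecialLinearGroup (Fin 2) F)) := by
  classical
  have hMp := isPrime_of_isPModular hM
  show (∀ B : Set (Cfsg.IrrCharacter (Matrix.SpecialLinearGroup (Fin 2) F)), Cfsg.IsPBlock M B ↔
      (B = blkSt F ∨ B = blkPlus F ∨ B = blkMinus F)) ∧
    Nat.card {B : Set (Cfsg.IrrCharacter (Matrix.SpecialLinearGroup (Fin 2) F)) //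
      Cfsg.IsPBlock M B} = 3 ∧
    ∀ P : Sylow p (Matrix.SpecialLinearGroup (Fin 2) F),
      Cfsg.IsDefectGroup p M (blkPlus F) (P : Subgroup (Matrix.SpecialLinearGroup (Fin 2) F)) ∧
      Cfsg.IsDefectGroup p M (blkMinus F) (P : Subgroup (Matrix.SpecialLinearGroup (Fin 2) F))
  obtain ⟨χm, hχm⟩ := exists_mem_blkMinus (F := F) p hp
  have hplus := blockOf_of_mem_blkPlus p hp M hM _ (trivIrr_mem_blkPlus (F := F))
  have hminus := blockOf_of_mem_blkMinus p hp M hM χm hχm
  have hst := blockOf_stS (F := F) p hp M hM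
  have hiff : ∀ B : Set (Cfsg.IrrCharacter (Matrix.SpecialLinearGroup (Fin 2) F)),
      Cfsg.IsPBlock M B ↔ (B = blkSt F ∨ B = blkPlus F ∨ B = blkMinus F) := by
    intro B
    constructor
    · rintro ⟨χ, rfl⟩
      rcases mem_blk_cases χ with h | h | h
      · left
        rw [eq_stS_of_apply_one p hp χ h]
        exact hst
      · right; left
        exact blockOf_of_mem_blkPlus p hp M hM χ h
      · right; right
        exact blockOf_of_mem_blkMinus p hp M hM χ h
    · rintro (h | h | h)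
      · exact ⟨stS, h.trans hst.symm⟩
      · exact ⟨trivIrr _, h.trans hplus.symm⟩
      · exact ⟨χm, h.trans hminus.symm⟩
  have hBp : Cfsg.IsPBlock M (blkPlus F) := (hiff _).2 (Or.inr (Or.inl rfl))
  have hBm : Cfsg.IsPBlock M (blkMinus F) := (hiff _).2 (Or.inr (Or.inr rfl))
  refine ⟨hiff, ?_, ?_⟩
  · have hset : {B : Set (Cfsg.IrrCharacter (Matrix.SpecialLinearGroup (Fin 2) F)) |
        Cfsg.IsPBlock M B} = {blkSt F, blkPlus F, blkMinus F} := by
      ext B
      rw [Set.mem_ofPred_eq, hiff B, Set.mem_insert_iff, Set.mem_insert_iff,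
        Set.mem_singleton_iff]
    have h1 : blkSt F ≠ blkPlus F := by
      intro h
      have : (stS (F := F)) ∈ blkPlus F := h ▸ stS_mem_blkSt
      exact stS_not_mem_blkPlus this
    have h2 : blkSt F ≠ blkMinus F := by
      intro h
      have : (stS (F := F)) ∈ blkMinus F := h ▸ stS_mem_blkSt
      exact stS_not_mem_blkMinus this
    have h3 : blkPlus F ≠ blkMinus F := by
      intro h
      have : trivIrr (Matrix.SpecialLinearGroup (Fin 2) F) ∈ blkMinus F :=
        h ▸ trivIrr_mem_blkPlus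
      exact trivIrr_not_mem_blkMinus this
    show Nat.card ↥{B : Set (Cfsg.IrrCharacter (Matrix.SpecialLinearGroup (Fin 2) F)) |
        Cfsg.IsPBlock M B} = 3
    rw [Nat.card_coe_set_eq, hset, Set.ncard_eq_three]
    exact ⟨_, _, _, h1, h2, h3, rfl⟩
  · intro P
    constructor
    · apply isDefectGroup_sylow_of_not_dvd hM hBp (trivIrr_mem_blkPlus (F := F)) _ P
      exact not_dvd_irrDeg_of_ne p hp _ (trivIrr_mem_blkPlus (F := F)).2
    · apply isDefectGroup_sylow_of_not_dvd hM hBm hχm _ P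
      exact not_dvd_irrDeg_of_ne p hp _ (apply_one_ne_of_mem_blkMinus χm hχm)

end Cfsg.Agent.S2439
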