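import Cfsg.Statements.S2450
import Cfsg.Agent.Helper12.SL2Normal

set_option autoImplicit false
open Cfsg

namespace Cfsg.Agent.S2450

open Cfsg.Agent.Helper12

variable {F : Type*} [Field F]

/-- Upper unitriangular element. -/
def uru (r : F) : Matrix.SpecialLinearGroup (Fin 2) F :=
  ⟨!![1, r; 0, 1], by simp [Matrix.det_fin_two_of]⟩

theorem uru_coe (r : F) : (uru r : Matrix (Fin 2) (Fin 2) F) = !![1, r; 0, 1] := rfl

theorem trace_formula (e α f β r : F) (he : e ≠ 0) (hf : f ≠ 0) :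
    ((nmat e α he * (uru r * nmat f β hf * (uru r)⁻¹) : Matrix.SpecialLinearGroup (Fin 2) F) :
      Matrix (Fin 2) (Fin 2) F).trace =
      (-(e * f)) * r ^ 2 + (e * β - α * f) * r + (α * β - f / e - e / f) := by
  simp only [Matrix.SpecialLinearGroup.coe_mul, Matrix.SpecialLinearGroup.coe_inv, nmat_coe, uru_coe,
    Matrix.adjugate_fin_two_of, Matrix.trace_fin_two, Matrix.mul_apply, Fin.sum_univ_two,
    Matrix.of_apply, Matrix.cons_val', Matrix.cons_val_zero, Matrix.cons_val_one,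
    Matrix.cons_val_fin_one]
  field_simp
  ring

/-- The Arad–Herzog conjecture for PSL(2,q): let F be a finite field with q ≥ 4 elements. For any two non-identity elements a, b of PSL(2,F), the set of products of a conjugate of a with a conjugate of b is not a single conjugacy class. -/
theorem result {F : Type*} [Field F] [Fintype F] (h4 : 4 ≤ Fintype.card F)
    (a b : Matrix.ProjectiveSpecialLinearGroup (Fin 2) F) (ha : a ≠ 1) (hb : b ≠ 1) (c : Matrix.ProjectiveSpecialLinearGroup (Fin 2) F) :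
    {g : Matrix.ProjectiveSpecialLinearGroup (Fin 2) F | ∃ u v : Matrix.ProjectiveSpecialLinearGroup (Fin 2) F, g = (u * a * u⁻¹) * (v * b * v⁻¹)} ≠ {g | IsConj c g} := by
  intro hset
  obtain ⟨A, rfl⟩ := QuotientGroup.mk_surjective a
  obtain ⟨B, rfl⟩ := QuotientGroup.mk_surjective b
  have hAns : ¬ IsScalar2 (A : Matrix (Fin 2) (Fin 2) F) := fun h => ha ((psl2_mk_eq_one_iff A).2 h)
  have hBns : ¬ IsScalar2 (B : Matrix (Fin 2) (Fin 2) F) := fun h => hb ((psl2_mk_eq_one_iff B).2 h)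
  obtain ⟨e, he, hAe⟩ := sl2_isConj_nmat A hAns
  obtain ⟨f, hf, hBf⟩ := sl2_isConj_nmat B hBns
  set α := (A : Matrix (Fin 2) (Fin 2) F).trace with hα
  set β := (B : Matrix (Fin 2) (Fin 2) F).trace with hβ
  obtain ⟨Ua, hUa⟩ := isConj_iff.1 hAe
  obtain ⟨Ub, hUb⟩ := isConj_iff.1 hBf
  have hmem : ∀ r : F, (QuotientGroup.mk (nmat e α he * (uru r * nmat f β hf * (uru r)⁻¹)) :
      Matrix.ProjectiveSpecialLinearGroup (Fin 2) F) ∈ {g | IsConj c g} := by
    intro r
    rw [← hset]
    refine ⟨QuotientGroup.mk Ua, QuotientGroup.mk (uru r * Ub), ?_⟩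
    rw [← hUa, ← hUb]
    simp only [QuotientGroup.mk_mul, QuotientGroup.mk_inv, mul_inv_rev, mul_assoc]
  have hef : -(e * f) ≠ 0 := neg_ne_zero.2 (mul_ne_zero he hf)
  obtain ⟨r, hr⟩ := exists_quadratic_sq_ne h4 (α * β - f / e - e / f) (e * β - α * f) (-(e * f)) hef
  have h0 := hmem 0
  have h1 := hmem r
  have hconj : IsConj
      (QuotientGroup.mk (nmat e α he * (uru r * nmat f β hf * (uru r)⁻¹)) :
        Matrix.ProjectiveSpecialLinearGroup (Fin 2) F)
      (QuotientGroup.mk (nmat e α he * (uru 0 * nmat f β hf * (uru 0)⁻¹))) :=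
    (IsConj.symm h1).trans h0
  have htr := psl2_trace_sq_eq_of_isConj _ _ hconj
  rw [trace_formula, trace_formula] at htr
  apply hr
  rw [htr]
  ring

end Cfsg.Agent.S2450
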