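import Cfsg.Statements.S2455
import Cfsg.Agent.Helper12.SL2Factor
import Cfsg.Agent.Helper12.PSL2Basic
import Cfsg.Agent.Helper12.Unipotent

set_option autoImplicit false
open Cfsg

namespace Cfsg.Agent.S2455

open Cfsg.Agent.Helper12

/-- A strong covering result in the direction of Thompson's conjecture (non-identity elements) for PSL(2,q), q odd: let F be a finite field of odd characteristic p with at least 5 elements and let x ∈ PSL(2,F) have order greater than 2 and not divisible by p (so x is not unipotent). Then every non-identity element of PSL(2,F) is a product of two conjugates of x. -/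
theorem result {F : Type*} [Field F] [Fintype F] (p : ℕ) [Fact p.Prime] [CharP F p] (hp : p ≠ 2) (h5 : 5 ≤ Fintype.card F)
    (x : Matrix.ProjectiveSpecialLinearGroup (Fin 2) F) (hx2 : 2 < orderOf x) (hxp : ¬ p ∣ orderOf x) : ∀ g : Matrix.ProjectiveSpecialLinearGroup (Fin 2) F, g ≠ 1 → ∃ u v : Matrix.ProjectiveSpecialLinearGroup (Fin 2) F, g = (u * x * u⁻¹) * (v * x * v⁻¹) := by
  intro g hg
  obtain ⟨X, rfl⟩ := QuotientGroup.mk_surjective x
  obtain ⟨G, rfl⟩ := QuotientGroup.mk_surjective g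
  have hp' : p.Prime := Fact.out
  have hchar : ringChar F ≠ 2 := by rw [ringChar.eq F p]; exact hp
  have h2ne : (2 : F) ≠ 0 := Ring.two_ne_zero hchar
  set A : Matrix (Fin 2) (Fin 2) F := (X : Matrix (Fin 2) (Fin 2) F) with hA
  have hAdet : A.det = 1 := X.2
  set t : F := A.trace with ht
  have hcay : A * A = t • A - (1 : Matrix (Fin 2) (Fin 2) F) := by
    rw [cayley2, hAdet, one_smul]
  -- the trace is nonzero
  have ht0 : t ≠ 0 := by
    intro h0
    have hA2 : A ^ 2 = (-1 : F) • (1 : Matrix (Fin 2) (Fin 2) F) := by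
      rw [pow_two, hcay, h0, zero_smul, zero_sub, neg_smul, one_smul]
    have h1 := psl2_mk_pow_eq_one_of_scalar X 2 (-1) hA2
    have h2 := Nat.le_of_dvd (by norm_num) (orderOf_dvd_of_pow_eq_one h1)
    omega
  -- the trace is not ±2
  have ht4 : t ^ 2 ≠ 4 := by
    intro h4
    obtain ⟨ε, hε2, hεt⟩ : ∃ ε : F, ε ^ 2 = 1 ∧ t = 2 * ε := by
      have h : (t - 2) * (t + 2) = 0 := by linear_combination h4
      rcases mul_eq_zero.1 h with h | h
      · exact ⟨1, by ring, by linear_combination h⟩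
      · exact ⟨-1, by ring, by linear_combination h⟩
    set u : Matrix (Fin 2) (Fin 2) F := ε • A with hu
    have hu2 : (u - 1) ^ 2 = 0 := by
      have h1 : u * u = t • A - (1 : Matrix (Fin 2) (Fin 2) F) := by
        rw [hu, Matrix.smul_mul, Matrix.mul_smul, smul_smul, ← pow_two, hε2, one_smul, hcay]
      rw [pow_two, sub_mul, mul_sub, mul_sub, h1, hu, hεt]
      simp only [Matrix.one_mul, Matrix.mul_one, mul_smul]
      rw [two_smul]
      abel
    have hup : (u - 1) ^ (p ^ 1) = 0 := by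
      rw [pow_one]
      exact pow_eq_zero_of_le hp'.two_le hu2
    have hu1 := pow_eq_one_of_sub_one_pow_eq_zero p u 1 hup
    rw [pow_one, hu, smul_pow] at hu1
    have hAp : A ^ p = (ε ^ p) • (1 : Matrix (Fin 2) (Fin 2) F) := by
      rw [← hu1, smul_smul, ← pow_add, ← two_mul, pow_mul, hε2, one_pow, one_smul]
    have h1 := psl2_mk_pow_eq_one_of_scalar X p (ε ^ p) hAp
    have hdvd := orderOf_dvd_of_pow_eq_one h1
    rcases (Nat.dvd_prime hp').1 hdvd with h | h
    · omega
    · exact hxp (h ▸ dvd_rfl)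
  -- non-scalarity of a determinant-one matrix of trace `t`
  have hns : ∀ Y : Matrix.SpecialLinearGroup (Fin 2) F,
      (Y : Matrix (Fin 2) (Fin 2) F).trace = t → ¬ IsScalar2 (Y : Matrix (Fin 2) (Fin 2) F) := by
    intro Y hY hsc
    obtain ⟨a, ha⟩ := (isScalar2_iff _).1 hsc
    have hdet : (Y : Matrix (Fin 2) (Fin 2) F).det = 1 := Y.2
    rw [ha, Matrix.det_smul, Matrix.det_one, mul_one] at hdet
    rw [ha] at hY
    simp only [Matrix.trace_smul, Matrix.trace_one, Fintype.card_fin, smul_eq_mul] at hY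
    apply ht4
    have hdet' : a ^ 2 = 1 := by simpa using hdet
    rw [← hY]
    push_cast
    linear_combination 4 * hdet'
  have hGns : ¬ IsScalar2 (G : Matrix (Fin 2) (Fin 2) F) := by
    intro h
    exact hg ((psl2_mk_eq_one_iff G).2 h)
  -- factorisation of `G` or `-G`
  obtain ⟨Y, Z, hY, hZ, c, hYZ⟩ : ∃ Y Z : Matrix.SpecialLinearGroup (Fin 2) F,
      (Y : Matrix (Fin 2) (Fin 2) F).trace = t ∧ (Z : Matrix (Fin 2) (Fin 2) F).trace = t ∧
      ∃ c : F, ((Y * Z : Matrix.SpecialLinearGroup (Fin 2) F) : Matrix (Fin 2) (Fin 2) F) =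
        c • (G : Matrix (Fin 2) (Fin 2) F) := by
    by_cases hs : (G : Matrix (Fin 2) (Fin 2) F).trace = 2
    · have hdet : (-(G : Matrix (Fin 2) (Fin 2) F)).det = 1 := by
        rw [Matrix.det_neg, G.2]; simp
      have hM : ¬ IsScalar2 (-(G : Matrix (Fin 2) (Fin 2) F)) := by
        intro ⟨h1, h2, h3⟩
        apply hGns
        refine ⟨?_, ?_, ?_⟩
        · simpa using h1
        · simpa using h2
        · simpa using h3
      have htr : (-(G : Matrix (Fin 2) (Fin 2) F)).trace ≠ 2 := by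
        rw [Matrix.trace_neg, hs]
        intro h
        apply h2ne
        have h4 : (2 : F) * 2 = 0 := by linear_combination -h
        rcases mul_eq_zero.1 h4 with h | h <;> exact h
      obtain ⟨Y, Z, hY, hZ, hYZ⟩ := exists_factor_of_trace hchar _ hdet hM htr t ht0
      refine ⟨Y, Z, hY, hZ, -1, ?_⟩
      rw [Matrix.SpecialLinearGroup.coe_mul, hYZ, neg_smul, one_smul]
    · obtain ⟨Y, Z, hY, hZ, hYZ⟩ := exists_factor_of_trace hchar _ G.2 hGns hs t ht0
      refine ⟨Y, Z, hY, hZ, 1, ?_⟩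
      rw [Matrix.SpecialLinearGroup.coe_mul, hYZ, one_smul]
  have hXns : ¬ IsScalar2 (X : Matrix (Fin 2) (Fin 2) F) := hns X rfl
  have hcY : IsConj X Y := sl2_isConj_of_trace_eq X Y hXns (hns Y hY) hY.symm (Or.inr ht4)
  have hcZ : IsConj X Z := sl2_isConj_of_trace_eq X Z hXns (hns Z hZ) hZ.symm (Or.inr ht4)
  obtain ⟨U, hU⟩ := isConj_iff.1 hcY
  obtain ⟨V, hV⟩ := isConj_iff.1 hcZ
  refine ⟨QuotientGroup.mk U, QuotientGroup.mk V, ?_⟩
  have h1 := psl2_mk_eq_mk_of_smul G (Y * Z) c hYZ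
  rw [← h1, ← hU, ← hV]
  simp only [QuotientGroup.mk_mul, QuotientGroup.mk_inv]

end Cfsg.Agent.S2455
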