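import Cfsg.Statements.S2456
import Cfsg.Agent.Helper12.SL2Nonsplit
import Cfsg.Agent.Helper12.PSL2Basic

set_option autoImplicit false
open Cfsg

namespace Cfsg.Agent.S2456

open Cfsg.Agent.Helper12

/-- A strong covering result in the direction of Thompson's conjecture (non-identity elements) for PSL(2,q), q even: let F be a finite field of characteristic 2 with q ≥ 4 elements and let x ∈ PSL(2,F) have order greater than 2 and not dividing q + 1. Then every non-identity element of PSL(2,F) is a product of two conjugates of x. -/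
theorem result {F : Type*} [Field F] [Fintype F] [CharP F 2] (h4 : 4 ≤ Fintype.card F)
    (x : Matrix.ProjectiveSpecialLinearGroup (Fin 2) F) (hx2 : 2 < orderOf x) (hxq : ¬ orderOf x ∣ Fintype.card F + 1) : ∀ g : Matrix.ProjectiveSpecialLinearGroup (Fin 2) F, g ≠ 1 → ∃ u v : Matrix.ProjectiveSpecialLinearGroup (Fin 2) F, g = (u * x * u⁻¹) * (v * x * v⁻¹) := by
  intro g hg
  obtain ⟨X, rfl⟩ := QuotientGroup.mk_surjective x
  obtain ⟨G, rfl⟩ := QuotientGroup.mk_surjective g
  have hchar : ringChar F = 2 := ringChar.eq F 2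
  have h2 : (2 : F) = 0 := CharTwo.two_eq_zero
  set A : Matrix (Fin 2) (Fin 2) F := (X : Matrix (Fin 2) (Fin 2) F) with hA
  have hAdet : A.det = 1 := X.2
  set t : F := A.trace with ht
  have hcay : A * A = t • A - (1 : Matrix (Fin 2) (Fin 2) F) := by
    rw [cayley2, hAdet, one_smul]
  -- the trace is nonzero
  have ht0 : t ≠ 0 := by
    intro h0
    have hA2 : A ^ 2 = (-1 : F) • (1 : Matrix (Fin 2) (Fin 2) F) := by
      rw [pow_two, hcay, h0, zero_smul, zero_sub, neg_smul, one_smul]
    have h1 := psl2_mk_pow_eq_one_of_scalar X 2 (-1) hA2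
    have h2 := Nat.le_of_dvd (by norm_num) (orderOf_dvd_of_pow_eq_one h1)
    omega
  -- the characteristic polynomial has a root
  obtain ⟨l, hl⟩ : ∃ l : F, l ^ 2 - t * l + 1 = 0 := by
    by_contra hno
    push Not at hno
    apply hxq
    apply orderOf_dvd_of_pow_eq_one
    have hX : X ^ (Fintype.card F + 1) = 1 := by
      apply sl2_pow_card_add_one_eq_one
      intro c v hv hcv
      apply hno c
      have := root_of_eigenvector A c v hv hcv
      rw [hAdet] at this
      exact this
    rw [← QuotientGroup.mk_pow, hX]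
    rfl
  have hns : ∀ Y : Matrix.SpecialLinearGroup (Fin 2) F,
      (Y : Matrix (Fin 2) (Fin 2) F).trace = t → ¬ IsScalar2 (Y : Matrix (Fin 2) (Fin 2) F) := by
    intro Y hY hsc
    obtain ⟨a, ha⟩ := (isScalar2_iff _).1 hsc
    rw [ha] at hY
    simp only [Matrix.trace_smul, Matrix.trace_one, Fintype.card_fin, smul_eq_mul] at hY
    apply ht0
    rw [← hY]
    push_cast
    rw [h2, mul_zero]
  have hGns : ¬ IsScalar2 (G : Matrix (Fin 2) (Fin 2) F) := by
    intro h
    exact hg ((psl2_mk_eq_one_iff G).2 h)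
  -- a point on the conic
  obtain ⟨a, b, hab⟩ : ∃ a b : F,
      a ^ 2 + b ^ 2 - (G : Matrix (Fin 2) (Fin 2) F).trace * a * b - t * a + t * b + 1 = 0 := by
    by_cases hs : (G : Matrix (Fin 2) (Fin 2) F).trace = 0
    · refine ⟨l, 0, ?_⟩
      rw [hs]
      linear_combination hl
    · obtain ⟨z, hz⟩ := FiniteField.isSquare_of_char_two hchar
        (1 / (G : Matrix (Fin 2) (Fin 2) F).trace)
      refine ⟨z, z, ?_⟩
      have hz' : (G : Matrix (Fin 2) (Fin 2) F).trace * (z * z) = 1 := by
        rw [← hz]; field_simp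
      linear_combination z ^ 2 * h2 - hz'
  obtain ⟨Y, Z, hY, hZ, hYZ⟩ := exists_factor_of_conic_point _ G.2 hGns t a b hab
  have hXns : ¬ IsScalar2 (X : Matrix (Fin 2) (Fin 2) F) := hns X rfl
  have hcY : IsConj X Y := sl2_isConj_of_trace_eq X Y hXns (hns Y hY) hY.symm (Or.inl hchar)
  have hcZ : IsConj X Z := sl2_isConj_of_trace_eq X Z hXns (hns Z hZ) hZ.symm (Or.inl hchar)
  obtain ⟨U, hU⟩ := isConj_iff.1 hcY
  obtain ⟨V, hV⟩ := isConj_iff.1 hcZ
  refine ⟨QuotientGroup.mk U, QuotientGroup.mk V, ?_⟩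
  have h1 : Y * Z = G := by
    apply Subtype.ext
    rw [Matrix.SpecialLinearGroup.coe_mul, hYZ]
  rw [← h1, ← hU, ← hV]
  simp only [QuotientGroup.mk_mul, QuotientGroup.mk_inv]

end Cfsg.Agent.S2456
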