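import Cfsg.Statements.S2466
import Cfsg.Agent.Helper12.CycleTypeAux

set_option autoImplicit false
open Cfsg

namespace Cfsg.Agent.S2466

theorem result (n r s : ℕ) (hr : r.Prime) (hs : s.Prime) (hr2 : r ≠ 2) (hs2 : s ≠ 2) (hrs : r ≠ s) (hrn : r ≤ n) (hsn : s ≤ n) :
    (r * s ∈ Set.range (orderOf : alternatingGroup (Fin n) → ℕ)) ↔ r + s ≤ n := by
  constructor
  · rintro ⟨g, hg⟩
    have hg' : orderOf (g : Equiv.Perm (Fin n)) = r * s := by
      rw [Subgroup.orderOf_coe]; exact hg
    have hl : (g : Equiv.Perm (Fin n)).cycleType.lcm = r * s := by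
      rw [Equiv.Perm.lcm_cycleType]; exact hg'
    have hsum : (g : Equiv.Perm (Fin n)).cycleType.sum ≤ n := by
      have := Equiv.Perm.sum_cycleType_le (g : Equiv.Perm (Fin n))
      simpa using this
    obtain ⟨a, ha, hra⟩ := Cfsg.Agent.Helper12.prime_dvd_multiset_lcm hr _ (hl ▸ dvd_mul_right r s)
    obtain ⟨b, hb, hsb⟩ := Cfsg.Agent.Helper12.prime_dvd_multiset_lcm hs _ (hl ▸ dvd_mul_left s r)
    have ha2 : 2 ≤ a := Equiv.Perm.two_le_of_mem_cycleType ha
    have hb2 : 2 ≤ b := Equiv.Perm.two_le_of_mem_cycleType hb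
    by_cases hab : a = b
    · subst hab
      have hcop : Nat.Coprime r s := (Nat.coprime_primes hr hs).2 hrs
      have hdvd : r * s ∣ a := hcop.mul_dvd_of_dvd_of_dvd hra hsb
      have h1 : r * s ≤ a := Nat.le_of_dvd (by omega) hdvd
      have h2 : a ≤ (g : Equiv.Perm (Fin n)).cycleType.sum :=
        Cfsg.Agent.Helper12.le_multiset_sum_of_mem ha
      have hr2' : 2 ≤ r := hr.two_le
      have hs2' : 2 ≤ s := hs.two_le
      have h3 : r + s ≤ r * s := by nlinarith
      omega
    · have h1 := Cfsg.Agent.Helper12.add_le_multiset_sum_of_ne ha hb hab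
      have h2 : r ≤ a := Nat.le_of_dvd (by omega) hra
      have h3 : s ≤ b := Nat.le_of_dvd (by omega) hsb
      omega
  · intro h
    have hr3 : 2 ≤ r := hr.two_le
    have hs3 : 2 ≤ s := hs.two_le
    obtain ⟨g, hg⟩ := (Equiv.Perm.exists_with_cycleType_iff (α := Fin n) (m := {r, s})).2 (by
      constructor
      · simp only [Multiset.insert_eq_cons, Multiset.sum_cons, Multiset.sum_singleton,
          Fintype.card_fin]
        exact h
      · intro a ha
        simp only [Multiset.insert_eq_cons, Multiset.mem_cons, Multiset.mem_singleton] at ha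
        rcases ha with rfl | rfl <;> assumption)
    have hrodd : Odd r := hr.odd_of_ne_two hr2
    have hsodd : Odd s := hs.odd_of_ne_two hs2
    have hsign : Equiv.Perm.sign g = 1 := by
      rw [Equiv.Perm.sign_of_cycleType', hg]
      simp only [Multiset.insert_eq_cons, Multiset.map_cons, Multiset.map_singleton,
        Multiset.prod_cons, Multiset.prod_singleton]
      rw [hrodd.neg_one_pow, hsodd.neg_one_pow]
      simp
    have hmem : g ∈ alternatingGroup (Fin n) := Equiv.Perm.mem_alternatingGroup.2 hsign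
    refine ⟨⟨g, hmem⟩, ?_⟩
    have : orderOf (⟨g, hmem⟩ : alternatingGroup (Fin n)) = orderOf g := by
      rw [← Subgroup.orderOf_coe]
    rw [this, ← Equiv.Perm.lcm_cycleType, hg]
    simp only [Multiset.insert_eq_cons, Multiset.lcm_cons, Multiset.lcm_singleton,
      normalize_eq]
    have hcop : Nat.Coprime r s := (Nat.coprime_primes hr hs).2 hrs
    exact hcop.lcm_eq_mul

end Cfsg.Agent.S2466
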