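import Cfsg.Statements.S2467
import Cfsg.Agent.Helper12.CycleTypeSign

set_option autoImplicit false
open Cfsg

namespace Cfsg.Agent.S2467

open Cfsg.Agent.Helper12 in
theorem result (n r : ℕ) (hn : 4 ≤ n) (hr : r.Prime) (hr2 : r ≠ 2) (hrn : r ≤ n) :
    (2 * r ∈ Set.range (orderOf : alternatingGroup (Fin n) → ℕ)) ↔ r + 4 ≤ n := by
  have hr3 : 2 ≤ r := hr.two_le
  have hrodd : Odd r := hr.odd_of_ne_two hr2
  constructor
  · rintro ⟨g, hg⟩
    have hg' : orderOf (g : Equiv.Perm (Fin n)) = 2 * r := by
      rw [Subgroup.orderOf_coe]; exact hg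
    set σ : Equiv.Perm (Fin n) := (g : Equiv.Perm (Fin n)) with hσ
    have hl : σ.cycleType.lcm = 2 * r := by
      rw [Equiv.Perm.lcm_cycleType]; exact hg'
    have hsum : σ.cycleType.sum ≤ n := by
      have := Equiv.Perm.sum_cycleType_le σ
      simpa using this
    have hsign : Equiv.Perm.sign σ = 1 := Equiv.Perm.mem_alternatingGroup.1 g.2
    obtain ⟨a, ha, hra⟩ := prime_dvd_multiset_lcm hr _ (hl ▸ dvd_mul_left r 2)
    obtain ⟨b, hb, h2b⟩ := prime_dvd_multiset_lcm Nat.prime_two _ (hl ▸ dvd_mul_right 2 r)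
    have ha2 : 2 ≤ a := Equiv.Perm.two_le_of_mem_cycleType ha
    have hb2 : 2 ≤ b := Equiv.Perm.two_le_of_mem_cycleType hb
    have hEcard := even_card_filter_even_cycleType σ hsign
    set E := σ.cycleType.filter (fun a => Even a) with hE
    have hsplit : E.sum + (σ.cycleType.filter (fun a => ¬ Even a)).sum = σ.cycleType.sum :=
      multiset_sum_filter_add σ.cycleType (fun a => Even a)
    have hbE : b ∈ E := Multiset.mem_filter.2 ⟨hb, even_iff_two_dvd.2 h2b⟩
    have hge2 : ∀ x ∈ E, 2 ≤ x := fun x hx =>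
      Equiv.Perm.two_le_of_mem_cycleType (Multiset.mem_filter.1 hx).1
    by_cases hae : Even a
    · -- a is even, so 2r ∣ a
      have haE : a ∈ E := Multiset.mem_filter.2 ⟨ha, hae⟩
      obtain ⟨t, ht⟩ := Multiset.exists_cons_of_mem haE
      have htne : t ≠ 0 := by
        rintro rfl
        rw [ht] at hEcard
        simp at hEcard
      obtain ⟨c, hc⟩ := Multiset.exists_mem_of_ne_zero htne
      have hcE : c ∈ E := by rw [ht]; exact Multiset.mem_cons_of_mem hc
      have hc2 : 2 ≤ c := hge2 c hcE
      have h1 : a + c ≤ E.sum := by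
        rw [ht, Multiset.sum_cons]
        have := le_multiset_sum_of_mem hc
        omega
      have hcop : Nat.Coprime 2 r := (Nat.coprime_primes Nat.prime_two hr).2 (Ne.symm hr2)
      have hdvd : 2 * r ∣ a := hcop.mul_dvd_of_dvd_of_dvd (even_iff_two_dvd.1 hae) hra
      have h2 : 2 * r ≤ a := Nat.le_of_dvd (by omega) hdvd
      omega
    · -- a is odd
      have haO : a ∈ σ.cycleType.filter (fun a => ¬ Even a) := Multiset.mem_filter.2 ⟨ha, hae⟩
      have h1 : a ≤ (σ.cycleType.filter (fun a => ¬ Even a)).sum := le_multiset_sum_of_mem haO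
      obtain ⟨t, ht⟩ := Multiset.exists_cons_of_mem hbE
      have htne : t ≠ 0 := by
        rintro rfl
        rw [ht] at hEcard
        simp at hEcard
      obtain ⟨c, hc⟩ := Multiset.exists_mem_of_ne_zero htne
      have hcE : c ∈ E := by rw [ht]; exact Multiset.mem_cons_of_mem hc
      have hc2 : 2 ≤ c := hge2 c hcE
      have h2 : b + c ≤ E.sum := by
        rw [ht, Multiset.sum_cons]
        have := le_multiset_sum_of_mem hc
        omega
      have h3 : r ≤ a := Nat.le_of_dvd (by omega) hra
      omega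
  · intro h
    obtain ⟨g, hg⟩ := (Equiv.Perm.exists_with_cycleType_iff (α := Fin n) (m := {r, 2, 2})).2 (by
      constructor
      · simp only [Multiset.insert_eq_cons, Multiset.sum_cons, Multiset.sum_singleton,
          Fintype.card_fin]
        omega
      · intro a ha
        simp only [Multiset.insert_eq_cons, Multiset.mem_cons, Multiset.mem_singleton] at ha
        rcases ha with rfl | rfl | rfl <;> omega)
    have hsign : Equiv.Perm.sign g = 1 := by
      rw [Equiv.Perm.sign_of_cycleType', hg]
      simp only [Multiset.insert_eq_cons, Multiset.map_cons, Multiset.map_singleton,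
        Multiset.prod_cons, Multiset.prod_singleton]
      rw [hrodd.neg_one_pow]
      simp
    have hmem : g ∈ alternatingGroup (Fin n) := Equiv.Perm.mem_alternatingGroup.2 hsign
    refine ⟨⟨g, hmem⟩, ?_⟩
    have : orderOf (⟨g, hmem⟩ : alternatingGroup (Fin n)) = orderOf g := by
      rw [← Subgroup.orderOf_coe]
    rw [this, ← Equiv.Perm.lcm_cycleType, hg]
    simp only [Multiset.insert_eq_cons, Multiset.lcm_cons, Multiset.lcm_singleton,
      normalize_eq]
    have hcop : Nat.Coprime r 2 := (Nat.coprime_primes hr Nat.prime_two).2 hr2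
    have : GCDMonoid.lcm 2 2 = 2 := by simp
    rw [this]
    have := hcop.lcm_eq_mul
    rw [show GCDMonoid.lcm r 2 = Nat.lcm r 2 from rfl, this]
    ring

end Cfsg.Agent.S2467
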