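import Cfsg.Statements.S2468
import Cfsg.Agent.Helper12.PslGraphH

set_option autoImplicit false
open Cfsg

namespace Cfsg.Agent.S2468

/-- Adjacency of two odd primes in the prime graph of PSL(n,q): let F be a finite field of characteristic p with q elements, n ≥ 2 with PSL(n,F) simple, and let r ≠ s be odd primes different from p dividing the order of PSL(n,F). Let k and l be the multiplicative orders of q modulo r and modulo s, and suppose 2 ≤ k ≤ l. Then PSL(n,F) has NO element of order r·s if and only if k + l > n and k does not divide l. -/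
theorem result {F : Type*} [Field F] [Fintype F] (p : ℕ) [Fact p.Prime] [CharP F p] (n : ℕ) (hn : 2 ≤ n) (hsmall : n = 2 → 4 ≤ Fintype.card F)
    (r s : ℕ) (hr : r.Prime) (hs : s.Prime) (hr2 : r ≠ 2) (hs2 : s ≠ 2) (hrp : r ≠ p) (hsp : s ≠ p) (hrs : r ≠ s)
    (hrG : r ∣ Nat.card (Matrix.ProjectiveSpecialLinearGroup (Fin n) F)) (hsG : s ∣ Nat.card (Matrix.ProjectiveSpecialLinearGroup (Fin n) F))
    (k l : ℕ) (hk : k = orderOf ((Fintype.card F : ℕ) : ZMod r)) (hl : l = orderOf ((Fintype.card F : ℕ) : ZMod s))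
    (h2k : 2 ≤ k) (hkl : k ≤ l) :
    (r * s ∉ Set.range (orderOf : Matrix.ProjectiveSpecialLinearGroup (Fin n) F → ℕ)) ↔ (n < k + l ∧ ¬ k ∣ l) := by
  have hp : p.Prime := Fact.out
  have hq1 : 1 ≤ Fintype.card F := Fintype.card_pos
  have hrq : ¬ r ∣ Fintype.card F - 1 := by
    intro h
    have := (Cfsg.Agent.Helper12.PslGraph.orderOf_eq_one_iff_dvd (K := F) r).2 h
    omega
  have hsq : ¬ s ∣ Fintype.card F - 1 := by
    intro h
    have := (Cfsg.Agent.Helper12.PslGraph.orderOf_eq_one_iff_dvd (K := F) s).2 h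
    omega
  have hcopq : (r * s).Coprime (Fintype.card F - 1) :=
    Nat.Coprime.mul_left ((Nat.Prime.coprime_iff_not_dvd hr).2 hrq)
      ((Nat.Prime.coprime_iff_not_dvd hs).2 hsq)
  constructor
  · intro hnot
    by_contra hcon
    apply hnot
    have hcases : k + l ≤ n ∨ k ∣ l := by
      by_contra h
      push Not at h
      exact hcon ⟨by omega, h.2⟩
    have hln : l ≤ n := by
      rw [hl]
      exact Cfsg.Agent.Helper12.PslGraph.orderOf_le_of_dvd_card_psl p n s (by omega) hs hsp hsG
    obtain ⟨z, hz⟩ := Cfsg.Agent.Helper12.PslGraph.exists_gl_orderOf_mul (K := F) n r s k l hr hs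
      hrs hk hl (by omega) (by omega) hln hcases
    obtain ⟨g, hg⟩ := Cfsg.Agent.Helper12.PslGraph.exists_psl_of_gl n (r * s) hcopq z hz
    exact ⟨g, hg⟩
  · rintro ⟨hlt, hnd⟩ ⟨g, hg⟩
    have hN : 1 < r * s := by
      have := hr.two_le
      have := hs.two_le
      nlinarith
    have hcopE : (Nat.gcd n (Fintype.card F - 1)).Coprime (r * s) :=
      (Nat.Coprime.coprime_dvd_right (Nat.gcd_dvd_right _ _) hcopq).symm
    obtain ⟨y, hy, -⟩ := Cfsg.Agent.Helper12.PslGraph.exists_lift_orderOf
      (Subgroup.center (Matrix.SpecialLinearGroup (Fin n) F)) _ (r * s)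
      (Cfsg.Agent.Helper12.PslGraph.center_pow_gcd n) hcopE hN g hg
    have hA : (y : Matrix (Fin n) (Fin n) F) ^ (r * s) = 1 := by
      have h1 : y ^ (r * s) = 1 := by rw [← hy]; exact pow_orderOf_eq_one y
      rw [← Matrix.SpecialLinearGroup.coe_pow, h1]
      rfl
    have hne : ∀ d : ℕ, d < r * s → 0 < d → (y : Matrix (Fin n) (Fin n) F) ^ d ≠ 1 := by
      intro d hd hd0 h
      have h1 : y ^ d = 1 := by
        apply Subtype.ext
        rw [Matrix.SpecialLinearGroup.coe_pow, h]
        rfl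
      have := Nat.le_of_dvd hd0 (orderOf_dvd_of_pow_eq_one h1)
      omega
    have hr2' := hr.two_le
    have hs2' := hs.two_le
    exact Cfsg.Agent.Helper12.PslGraph.no_matrix_order_mul p n r s k l hr hs hrp hsp hk hl hkl hlt
      hnd _ hA (hne r (by nlinarith) hr.pos) (hne s (by nlinarith) hs.pos)

end Cfsg.Agent.S2468
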