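import Cfsg.Statements.S2469
import Cfsg.Agent.Helper12.SpGraphI
import Cfsg.Agent.Helper12.PslGraphA

set_option autoImplicit false
open Cfsg

namespace Cfsg.Agent.S2469

/-- Adjacency of two odd primes in the prime graph of PSp(2n,q): let F be a finite field of characteristic p with q elements, n ≥ 2 with PSp(2n,F) simple, and let r ≠ s be odd primes different from p dividing the order of PSp(2n,F). Let k, l be the multiplicative orders of q modulo r and s, put η(m) = m for odd m and η(m) = m/2 for even m, and suppose η(k) ≤ η(l). Then PSp(2n,F) has NO element of order r·s if and only if η(k) + η(l) > n and l/k is not an odd integer. -/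
theorem result {F : Type*} [Field F] [Fintype F] (p : ℕ) [Fact p.Prime] [CharP F p] (n : ℕ) (hn : 2 ≤ n) (hsmall : n = 2 → 3 ≤ Fintype.card F)
    (r s : ℕ) (hr : r.Prime) (hs : s.Prime) (hr2 : r ≠ 2) (hs2 : s ≠ 2) (hrp : r ≠ p) (hsp : s ≠ p) (hrs : r ≠ s)
    (hrG : r ∣ Nat.card (Cfsg.PSp n F)) (hsG : s ∣ Nat.card (Cfsg.PSp n F))
    (k l ηk ηl : ℕ) (hk : k = orderOf ((Fintype.card F : ℕ) : ZMod r)) (hl : l = orderOf ((Fintype.card F : ℕ) : ZMod s))
    (hηk : (Odd k ∧ ηk = k) ∨ (Even k ∧ 2 * ηk = k)) (hηl : (Odd l ∧ ηl = l) ∨ (Even l ∧ 2 * ηl = l)) (hkl : ηk ≤ ηl) :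
    (r * s ∉ Set.range (orderOf : Cfsg.PSp n F → ℕ)) ↔ (n < ηk + ηl ∧ ¬ ∃ t : ℕ, Odd t ∧ l = k * t) := by
  have hk0 : 0 < k := by
    rw [hk]
    exact Cfsg.Agent.Helper12.SpGraph.orderOf_card_pos p r hr hrp
  have hl0 : 0 < l := by
    rw [hl]
    exact Cfsg.Agent.Helper12.SpGraph.orderOf_card_pos p s hs hsp
  have hηk1 : 1 ≤ ηk := by
    rcases hηk with ⟨_, h⟩ | ⟨_, h⟩ <;> omega
  have hηl1 : 1 ≤ ηl := by
    rcases hηl with ⟨_, h⟩ | ⟨_, h⟩ <;> omega
  have hoddrs : Odd (r * s) := (hr.odd_of_ne_two hr2).mul (hs.odd_of_ne_two hs2)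
  have hke : orderOf ((Fintype.card F : ℕ) : ZMod r) ∣ 2 * ηk := by
    rw [← hk]
    rcases hηk with ⟨_, h⟩ | ⟨_, h⟩
    · rw [h]
      exact Dvd.intro_left _ rfl
    · rw [h]
  have hle : orderOf ((Fintype.card F : ℕ) : ZMod s) ∣ 2 * ηl := by
    rw [← hl]
    rcases hηl with ⟨_, h⟩ | ⟨_, h⟩
    · rw [h]
      exact Dvd.intro_left _ rfl
    · rw [h]
  constructor
  · intro hnot
    have key : ∀ x : Matrix.symplecticGroup (Fin n) F, orderOf x = r * s → False := by
      intro x hx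
      obtain ⟨g, hg⟩ := Cfsg.Agent.Helper12.SpGraph.exists_psp_of_sp n (by omega) x
        (by rw [hx]; exact hoddrs)
      exact hnot ⟨g, by rw [hg, hx]⟩
    constructor
    · by_contra hle'
      push Not at hle'
      obtain ⟨x, hx⟩ := Cfsg.Agent.Helper12.SpGraph.exists_sp_of_sum_le (K := F) n r s ηk ηl hr hs
        hrs hηk1 hηl1 hle' hke hle
      exact key x hx
    · rintro ⟨t, ht, hlt⟩
      have hle' := Cfsg.Agent.Helper12.SpGraph.eta_le_of_dvd_card p n s l ηl hs hsp hl hηl hsG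
      obtain ⟨x, hx⟩ := Cfsg.Agent.Helper12.SpGraph.exists_sp_of_odd_quot p n r s k l ηl hr hs
        hrp hsp hrs hk hl hηl hle' t ht hlt
      exact key x hx
  · rintro ⟨hn', hnot⟩ ⟨g, hg⟩
    have h1 : 1 < r * s := by
      have := hr.two_le
      have := hs.two_le
      nlinarith
    obtain ⟨y, hy, -⟩ := Cfsg.Agent.Helper12.PslGraph.exists_lift_orderOf
      (Subgroup.center (Matrix.symplecticGroup (Fin n) F)) 2 (r * s)
      (fun z hz => Cfsg.Agent.Helper12.SpGraph.center_sq_eq_one n (by omega) z hz)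
      (Nat.coprime_two_left.2 hoddrs) h1 g hg
    exact Cfsg.Agent.Helper12.SpGraph.no_sp_order_mul p n r s k l ηk ηl hr hs hr2 hs2 hrp hsp hk hl
      hηk hηl hkl hn' hnot y hy

end Cfsg.Agent.S2469
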