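import Cfsg.Statements.S2470
import Cfsg.Agent.Helper12.PslGraphC
import Cfsg.Agent.Helper12.PslGraphE
import Cfsg.Agent.Helper12.SpGraphC

set_option autoImplicit false
open Cfsg

namespace Cfsg.Agent.S2470

/-- Adjacency of an odd prime and the characteristic in the prime graph of PSL(n,q): let F be a finite field of characteristic p with q elements, n ≥ 2 with PSL(n,F) simple, and let r ≠ p be an odd prime dividing the order of PSL(n,F), with k the multiplicative order of q modulo r. Then PSL(n,F) has NO element of order r·p if and only if either k > n − 2, or n = 3, r = 3 and 3 divides q − 1 exactly once. -/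
theorem result {F : Type*} [Field F] [Fintype F] (p : ℕ) [Fact p.Prime] [CharP F p] (n : ℕ) (hn : 2 ≤ n) (hsmall : n = 2 → 4 ≤ Fintype.card F)
    (r : ℕ) (hr : r.Prime) (hr2 : r ≠ 2) (hrp : r ≠ p) (hrG : r ∣ Nat.card (Matrix.ProjectiveSpecialLinearGroup (Fin n) F))
    (k : ℕ) (hk : k = orderOf ((Fintype.card F : ℕ) : ZMod r)) :
    (r * p ∉ Set.range (orderOf : Matrix.ProjectiveSpecialLinearGroup (Fin n) F → ℕ)) ↔
      (n - 2 < k ∨ (n = 3 ∧ r = 3 ∧ 3 ∣ Fintype.card F - 1 ∧ ¬ 9 ∣ Fintype.card F - 1)) := by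
  have hp : p.Prime := Fact.out
  have hq1 : 1 ≤ Fintype.card F := Fintype.card_pos
  have hkpos : 0 < k := by
    rw [hk]
    exact Cfsg.Agent.Helper12.SpGraph.orderOf_card_pos p r hr hrp
  -- `k = 1` iff `r ∣ q - 1`
  have hk1 : k = 1 ↔ r ∣ Fintype.card F - 1 := by
    rw [hk, orderOf_eq_one_iff, ← ZMod.natCast_eq_zero_iff, Nat.cast_sub hq1, Nat.cast_one,
      sub_eq_zero]
  have hrk : r ∣ Fintype.card F ^ k - 1 := by
    rw [← ZMod.natCast_eq_zero_iff, Nat.cast_sub (Nat.one_le_pow _ _ hq1), Nat.cast_pow,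
      Nat.cast_one, hk, pow_orderOf_eq_one, sub_self]
  constructor
  · intro hnot
    by_contra hcon
    push Not at hcon
    obtain ⟨hle, hexc⟩ := hcon
    apply hnot
    obtain ⟨m, rfl⟩ : ∃ m, n = 2 + m := ⟨n - 2, by omega⟩
    have hkm : k ≤ m := by omega
    by_cases hcase : (¬ r ∣ Fintype.card F - 1) ∨ 2 ≤ m
    · have hdvd : r ∣ Nat.card (Matrix.SpecialLinearGroup (Fin m) F) := by
        apply Cfsg.Agent.Helper12.PslGraph.prime_dvd_card_SL r hr m k hkpos hrk
        by_cases hd : r ∣ Fintype.card F - 1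
        · right
          exact ⟨hd, hcase.resolve_left (fun h => h hd)⟩
        · left
          exact ⟨hd, hkm⟩
      have : Fact r.Prime := ⟨hr⟩
      obtain ⟨y, hy⟩ := exists_prime_orderOf_dvd_card' r hdvd
      obtain ⟨g, hg⟩ := Cfsg.Agent.Helper12.PslGraph.exists_psl_of_sl_elt p m r hr hrp y hy
      exact ⟨g, hg⟩
    · push Not at hcase
      obtain ⟨hd, hm2⟩ := hcase
      have hm1 : m = 1 := by omega
      subst hm1
      have h39 : r ≠ 3 ∨ 9 ∣ Fintype.card F - 1 := by
        by_contra hcon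
        push Not at hcon
        obtain ⟨h3, h9⟩ := hcon
        exact h9 (hexc rfl h3 (by rw [← h3]; exact hd))
      obtain ⟨a, ha, hord⟩ := Cfsg.Agent.Helper12.PslGraph.exists_cube_order r hr hd h39
      obtain ⟨g, hg⟩ := Cfsg.Agent.Helper12.PslGraph.exists_psl3 p r hr hrp a ha hord
      exact ⟨g, hg⟩
  · rintro (hlt | ⟨hn3, hr3, -, h9⟩)
    · rintro ⟨g, hg⟩
      exact Cfsg.Agent.Helper12.PslGraph.psl_orderOf_ne p n r k hr hr2 hrp hk hn (by omega) g hg
    · subst hn3 hr3
      rintro ⟨g, hg⟩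
      exact Cfsg.Agent.Helper12.PslGraph.psl3_orderOf_ne p (Ne.symm hrp) h9 g hg

end Cfsg.Agent.S2470
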