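import Cfsg.Statements.S2471
import Cfsg.Agent.Helper12.Mat2Comm

set_option autoImplicit false
open Cfsg

namespace Cfsg.Agent.S2471

open Cfsg.Agent.Helper12

variable {F : Type*} [Field F]

/-- If a power of `x` is a scalar matrix then the corresponding power in `PSL₂` is trivial. -/
theorem mk_pow_eq_one_of_scalar (x : Matrix.SpecialLinearGroup (Fin 2) F) (k : ℕ) (c : F)
    (h : (x : Matrix (Fin 2) (Fin 2) F) ^ k = c • (1 : Matrix (Fin 2) (Fin 2) F)) :
    (QuotientGroup.mk x : Matrix.ProjectiveSpecialLinearGroup (Fin 2) F) ^ k = 1 := by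
  rw [← QuotientGroup.mk_pow, QuotientGroup.eq_one_iff, Matrix.SpecialLinearGroup.mem_center_iff]
  have hdet : ((x : Matrix (Fin 2) (Fin 2) F) ^ k).det = 1 := by
    rw [Matrix.det_pow, x.2, one_pow]
  rw [h, Matrix.det_smul, Matrix.det_one, mul_one] at hdet
  refine ⟨c, by simpa using hdet, ?_⟩
  rw [Matrix.SpecialLinearGroup.coe_pow, h]
  ext i j
  simp [Matrix.scalar, Matrix.diagonal_apply, Matrix.one_apply]

theorem result {F : Type*} [Field F] [Fintype F] (p : ℕ) [Fact p.Prime] [CharP F p] (hp : p ≠ 2) (h5 : 5 ≤ Fintype.card F) (g : Matrix.ProjectiveSpecialLinearGroup (Fin 2) F) :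
    orderOf g ≠ 2 * p := by
  intro hord
  obtain ⟨x, rfl⟩ := QuotientGroup.mk_surjective g
  have hp' : p.Prime := Fact.out
  have hpodd : Odd p := hp'.odd_of_ne_two hp
  have hp2 : 2 ≤ p := hp'.two_le
  set A : Matrix (Fin 2) (Fin 2) F := (x : Matrix (Fin 2) (Fin 2) F) with hA
  -- the 2p-th power is central
  have h1 : x ^ (2 * p) ∈ Subgroup.center (Matrix.SpecialLinearGroup (Fin 2) F) := by
    rw [← QuotientGroup.eq_one_iff, QuotientGroup.mk_pow, ← hord]
    exact pow_orderOf_eq_one _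
  obtain ⟨r, hr2, hr⟩ := Matrix.SpecialLinearGroup.mem_center_iff.1 h1
  have hr2' : r ^ 2 = 1 := by simpa using hr2
  have hA2p : A ^ (2 * p) = r • (1 : Matrix (Fin 2) (Fin 2) F) := by
    rw [Matrix.SpecialLinearGroup.coe_pow] at hr
    rw [← hr]
    ext i j
    simp [Matrix.scalar, Matrix.diagonal_apply, Matrix.one_apply]
  -- u = r • A^2 is unipotent
  set u : Matrix (Fin 2) (Fin 2) F := r • A ^ 2 with hu
  have hup : u ^ (p ^ 1) = 1 := by
    rw [pow_one, hu, smul_pow, ← pow_mul, hA2p, smul_smul, ← pow_succ]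
    obtain ⟨k, hk⟩ := hpodd
    have : p + 1 = 2 * (k + 1) := by omega
    rw [this, pow_mul, hr2', one_pow, one_smul]
  have hN := sub_one_pow_eq_zero_of_pow_eq_one p u 1 hup
  have hN2 : (u - 1) ^ 2 = 0 := by
    have := nilpotent_pow_card (u - 1) ⟨_, hN⟩
    simpa using this
  by_cases hu1 : u = 1
  · -- then A^2 is scalar
    have hA2 : A ^ 2 = r • (1 : Matrix (Fin 2) (Fin 2) F) := by
      have : r • u = r • (1 : Matrix (Fin 2) (Fin 2) F) := by rw [hu1]
      rw [hu, smul_smul, ← pow_two, hr2', one_smul] at this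
      exact this
    have h2 := mk_pow_eq_one_of_scalar x 2 r hA2
    have h3 := orderOf_dvd_of_pow_eq_one h2
    rw [hord] at h3
    have := Nat.le_of_dvd (by norm_num) h3
    omega
  · obtain ⟨hns, -, -⟩ := unipotent2_trace_det u hN2 hu1
    have hcomm : u * A = A * u := by
      rw [hu, Matrix.smul_mul, Matrix.mul_smul, pow_two, Matrix.mul_assoc]
    obtain ⟨a, b, hab⟩ := exists_eq_add_smul_of_comm u A hns hcomm
    -- A = (a + b) • 1 + b • (u - 1)
    have hA' : A = (a + b) • (1 : Matrix (Fin 2) (Fin 2) F) + b • (u - 1) := by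
      rw [hab]
      rw [add_smul, smul_sub]
      abel
    have hchar : CharP (Matrix (Fin 2) (Fin 2) F) p := inferInstance
    have hcommute : Commute ((a + b) • (1 : Matrix (Fin 2) (Fin 2) F)) (b • (u - 1)) := by
      apply Commute.smul_left
      exact Commute.one_left _
    have hNp : (u - 1) ^ p = 0 := pow_eq_zero_of_le hp2 hN2
    have hAp : A ^ p = ((a + b) ^ p) • (1 : Matrix (Fin 2) (Fin 2) F) := by
      conv_lhs => rw [hA']
      rw [add_pow_char_of_commute _ hcommute, smul_pow, smul_pow, hNp, one_pow, smul_zero, add_zero]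
    have h2 := mk_pow_eq_one_of_scalar x p _ hAp
    have h3 := orderOf_dvd_of_pow_eq_one h2
    rw [hord] at h3
    have := Nat.le_of_dvd hp'.pos h3
    omega

end Cfsg.Agent.S2471
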