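import Cfsg.Statements.S2472
import Cfsg.Agent.Helper12.SpGraphC

set_option autoImplicit false
open Cfsg

namespace Cfsg.Agent.S2472

/-- Adjacency of a prime and the characteristic in the prime graph of PSp(2n,q): let F be a finite field of characteristic p with q elements, n ≥ 2 with PSp(2n,F) simple, and let r ≠ p be an odd prime dividing the order of PSp(2n,F), with k the multiplicative order of q modulo r and η(k) = k for odd k, k/2 for even k. Then PSp(2n,F) has NO element of order r·p if and only if η(k) > n − 1. -/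
theorem result {F : Type*} [Field F] [Fintype F] (p : ℕ) [Fact p.Prime] [CharP F p] (n : ℕ) (hn : 2 ≤ n) (hsmall : n = 2 → 3 ≤ Fintype.card F)
    (r : ℕ) (hr : r.Prime) (hr2 : r ≠ 2) (hrp : r ≠ p) (hrG : r ∣ Nat.card (Cfsg.PSp n F))
    (k ηk : ℕ) (hk : k = orderOf ((Fintype.card F : ℕ) : ZMod r)) (hηk : (Odd k ∧ ηk = k) ∨ (Even k ∧ 2 * ηk = k)) :
    (r * p ∉ Set.range (orderOf : Cfsg.PSp n F → ℕ)) ↔ n - 1 < ηk := by
  have hkpos : 0 < k := by
    rw [hk]
    exact Cfsg.Agent.Helper12.SpGraph.orderOf_card_pos p r hr hrp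
  constructor
  · intro hnot
    by_contra hle
    push Not at hle
    apply hnot
    have he1 : 1 ≤ ηk := by
      rcases hηk with ⟨_, h⟩ | ⟨_, h⟩ <;> omega
    have hke : orderOf ((Fintype.card F : ℕ) : ZMod r) ∣ 2 * ηk := by
      rw [← hk]
      rcases hηk with ⟨_, h⟩ | ⟨_, h⟩
      · rw [h]
        exact Dvd.intro_left _ rfl
      · rw [h]
    obtain ⟨g, hg⟩ := Cfsg.Agent.Helper12.SpGraph.exists_orderOf_eq_mul p n hn r hr hr2 hrp ηk he1
      (by omega) hke
    exact ⟨g, hg⟩
  · intro hlt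
    rintro ⟨g, hg⟩
    have hbig : (Even k ∧ 2 * n ≤ k) ∨ (Odd k ∧ n ≤ k) := by
      rcases hηk with ⟨h1, h⟩ | ⟨h1, h⟩
      · right
        exact ⟨h1, by omega⟩
      · left
        exact ⟨h1, by omega⟩
    have hgo : (QuotientGroup.mk (Quotient.out g) : Cfsg.PSp n F) = g := QuotientGroup.out_eq' g
    have h1 : orderOf g ∣ orderOf (Quotient.out g) := by
      conv_lhs => rw [← hgo]
      exact orderOf_map_dvd (QuotientGroup.mk' _) _
    rw [hg] at h1
    exact Cfsg.Agent.Helper12.SpGraph.not_dvd_orderOf p n r k hr hr2 hrp hk hbig _ h1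

end Cfsg.Agent.S2472
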