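import Cfsg.Statements.S2474
import Cfsg.Agent.Helper12.BCGraphO
import Cfsg.Agent.Helper12.BCGraphR

set_option autoImplicit false
open Cfsg

namespace Cfsg.Agent.S2474

/-- For q odd and n ≥ 3 the simple groups PΩ(2n+1,q) and PSp(2n,q) (which have the same order but different sets of element orders) have the same prime graph: for all distinct primes r, s, one of them has an element of order r·s if and only if the other does. -/
theorem result {F : Type*} [Field F] [Fintype F] (hodd : Odd (Fintype.card F)) (n : ℕ) (hn : 3 ≤ n) (r s : ℕ) (hr : r.Prime) (hs : s.Prime) (hrs : r ≠ s) :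
    (r * s ∈ Set.range (orderOf : Cfsg.POmega F (Cfsg.quadFormOdd n F) → ℕ)) ↔ (r * s ∈ Set.range (orderOf : Cfsg.PSp n F → ℕ)) := by
  classical
  have h2 : (2 : F) ≠ 0 := by
    apply Ring.two_ne_zero
    intro h
    rw [FiniteField.even_card_iff_char_two] at h
    rcases hodd with ⟨t, ht⟩
    omega
  obtain ⟨p, hpchar⟩ := CharP.exists F
  have hpf : Fact p.Prime := ⟨CharP.char_is_prime F p⟩
  have hp : p.Prime := hpf.out
  have hp2 : p ≠ 2 := by
    intro h
    apply h2
    have := CharP.cast_eq_zero F p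
    rw [h] at this
    exact_mod_cast this
  have hq3 : 3 ≤ Fintype.card F := by
    have h1 : 1 < Fintype.card F := Fintype.one_lt_card
    rcases hodd with ⟨t, ht⟩
    omega
  rw [Cfsg.Agent.Helper12.BCG.mem_range_POmega_iff h2 n hn, Set.mem_range]
  -- orders `2 s`
  have main2 : ∀ s : ℕ, s.Prime → s ≠ 2 →
      ((∃ g : ↥(Cfsg.isometryGroup F (Cfsg.quadFormOdd n F)),
        g ∈ Cfsg.Omega F (Cfsg.quadFormOdd n F) ∧ orderOf g = 2 * s) ↔
      ∃ g : Cfsg.PSp n F, orderOf g = 2 * s) := by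
    intro s hs hs2
    by_cases hsp : s = p
    · rw [hsp]
      constructor
      · intro _
        exact Cfsg.Agent.Helper12.BCG.exists_psp_two_char p hp2 n (by omega)
      · intro _
        exact Cfsg.Agent.Helper12.BCG.exists_Omega_two_char p h2 n (by omega)
    · constructor
      · rintro ⟨g, hgΩ, hg⟩
        exact Cfsg.Agent.Helper12.BCG.exists_psp_two_mul p hp2 hq3 n s (by omega) hs hs2 hsp
          (Cfsg.Agent.Helper12.BCG.tor_of_Omega_two_mul' p h2 n s (by omega) hs hs2 hsp g hgΩ hg)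
      · rintro ⟨g, hg⟩
        exact Cfsg.Agent.Helper12.BCG.exists_Omega_two_mul p h2 n s hs hs2
          (Cfsg.Agent.Helper12.BCG.tor_of_psp_two_mul p hp2 n s (by omega) hs hs2 hsp g hg)
          (by omega)
  -- orders `s p`
  have mainp : ∀ s : ℕ, s.Prime → s ≠ 2 → s ≠ p →
      ((∃ g : ↥(Cfsg.isometryGroup F (Cfsg.quadFormOdd n F)),
        g ∈ Cfsg.Omega F (Cfsg.quadFormOdd n F) ∧ orderOf g = s * p) ↔
      ∃ g : Cfsg.PSp n F, orderOf g = s * p) := by
    intro s hs hs2 hsp
    constructor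
    · rintro ⟨g, -, hg⟩
      exact Cfsg.Agent.Helper12.BCG.exists_psp_mul_char p hp2 hq3 n s hs hs2 hsp
        (Cfsg.Agent.Helper12.BCG.tor_of_orderOf_mul_char' p h2 n s (by omega) hs hs2 hsp g hg)
    · rintro ⟨g, hg⟩
      exact Cfsg.Agent.Helper12.BCG.exists_Omega_mul_char p h2 n s hs hs2 hsp
        (Cfsg.Agent.Helper12.BCG.tor_of_psp_mul_char p hp2 n s (by omega) hs hs2 hsp g hg)
  by_cases hr2 : r = 2
  · rw [hr2]
    exact main2 s hs (by rw [← hr2]; exact hrs.symm)
  by_cases hs2 : s = 2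
  · rw [hs2, mul_comm]
    exact main2 r hr hr2
  by_cases hrp : r = p
  · rw [hrp, mul_comm]
    exact mainp s hs hs2 (by rw [← hrp]; exact hrs.symm)
  by_cases hsp : s = p
  · rw [hsp]
    exact mainp r hr hr2 hrp
  constructor
  · rintro ⟨g, -, hg⟩
    exact Cfsg.Agent.Helper12.BCG.exists_psp_odd_mul p hq3 n r s (by omega) hr hs hrs hr2 hs2
      (Cfsg.Agent.Helper12.BCG.tor_of_orderOf_mul' p h2 n r s hr hs hrs hr2 hs2 hrp hsp g hg)
  · rintro ⟨g, hg⟩
    exact Cfsg.Agent.Helper12.BCG.exists_Omega_odd_mul p h2 n r s hr hs hrs hr2 hs2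
      (Cfsg.Agent.Helper12.BCG.tor_of_psp_odd_mul p n r s (by omega) hr hs hrs hr2 hs2 hrp hsp g hg)

end Cfsg.Agent.S2474
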