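import Cfsg.Statements.S2475
import Cfsg.Agent.Helper12.SL2Torus
import Cfsg.Agent.Helper12.PSL2Basic
import Cfsg.Agent.Helper12.Unipotent

set_option autoImplicit false
open Cfsg

namespace Cfsg.Agent.S2475

open Cfsg.Agent.Helper12

variable {F : Type*} [Field F]

/-- Arithmetic of `d = gcd(2, q - 1)`. -/
theorem arith (q : ℕ) (hq : 4 ≤ q) :
    ∃ k1 k2 : ℕ, (q - 1) / Nat.gcd 2 (q - 1) = k1 ∧ (q + 1) / Nat.gcd 2 (q - 1) = k2 ∧
      0 < k1 ∧ 0 < k2 ∧
      (∀ k, (q - 1) ∣ 2 * k ↔ k1 ∣ k) ∧ (∀ k, (q + 1) ∣ 2 * k ↔ k2 ∣ k) ∧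
      (2 * k2 = q + 1 ∨ k2 = q + 1) := by
  rcases Nat.even_or_odd q with he | ho
  · -- q even, d = 1
    have hodd1 : Odd (q - 1) := by
      obtain ⟨r, hr⟩ := he
      exact ⟨r - 1, by omega⟩
    have hodd2 : Odd (q + 1) := he.add_one
    have hd : Nat.gcd 2 (q - 1) = 1 := by
      exact Nat.coprime_two_left.2 hodd1
    refine ⟨q - 1, q + 1, by rw [hd, Nat.div_one], by rw [hd, Nat.div_one], by omega, by omega,
      ?_, ?_, Or.inr rfl⟩
    · intro k
      have hc : Nat.Coprime (q - 1) 2 := Nat.coprime_two_right.2 hodd1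
      exact ⟨fun h => hc.dvd_of_dvd_mul_left h, fun h => Dvd.dvd.mul_left h 2⟩
    · intro k
      have hc : Nat.Coprime (q + 1) 2 := Nat.coprime_two_right.2 hodd2
      exact ⟨fun h => hc.dvd_of_dvd_mul_left h, fun h => Dvd.dvd.mul_left h 2⟩
  · -- q odd, d = 2
    obtain ⟨r, hr⟩ := ho
    have hd : Nat.gcd 2 (q - 1) = 2 := by
      have : q - 1 = 2 * r := by omega
      rw [this]
      exact Nat.gcd_mul_right_right r 2
    refine ⟨r, r + 1, ?_, ?_, by omega, by omega, ?_, ?_, Or.inl (by omega)⟩
    · rw [hd]; omega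
    · rw [hd]; omega
    · intro k
      have : q - 1 = 2 * r := by omega
      rw [this]
      exact Nat.mul_dvd_mul_iff_left (by norm_num)
    · intro k
      have : q + 1 = 2 * (r + 1) := by omega
      rw [this]
      exact Nat.mul_dvd_mul_iff_left (by norm_num)

/-- From an element of order `N`, elements of every order dividing `N`. -/
theorem exists_orderOf_of_dvd {G : Type*} [Group G] (g : G) (N m : ℕ) (hN : 0 < N)
    (hg : orderOf g = N) (hm : m ∣ N) : ∃ g' : G, orderOf g' = m := by
  refine ⟨g ^ (N / m), ?_⟩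
  have hm0 : 0 < m := Nat.pos_of_dvd_of_pos hm hN
  have h1 : N / m ≠ 0 := by
    have := Nat.div_pos (Nat.le_of_dvd hN hm) hm0
    omega
  rw [orderOf_pow_of_dvd h1 (by rw [hg]; exact Nat.div_dvd_of_dvd hm), hg,
    Nat.div_div_self hm (by omega)]

theorem uni_pow (n : ℕ) : (!![1, 1; 0, 1] : Matrix (Fin 2) (Fin 2) F) ^ n = !![1, (n : F); 0, 1] := by
  induction n with
  | zero =>
    ext i j
    fin_cases i <;> fin_cases j <;> simp
  | succ n ih =>
    rw [pow_succ, ih]
    ext i j
    fin_cases i <;> fin_cases j <;> simp [Matrix.mul_apply, Fin.sum_univ_two, add_comm]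

theorem diag_pow (l : F) (n : ℕ) :
    (!![l, 0; 0, l⁻¹] : Matrix (Fin 2) (Fin 2) F) ^ n = !![l ^ n, 0; 0, (l⁻¹) ^ n] := by
  induction n with
  | zero =>
    ext i j
    fin_cases i <;> fin_cases j <;> simp
  | succ n ih =>
    rw [pow_succ, ih]
    ext i j
    fin_cases i <;> fin_cases j <;> simp [Matrix.mul_apply, Fin.sum_univ_two, pow_succ]

/-- The set of element orders of PSL(2,q): let F be a finite field of characteristic p with q ≥ 4 elements and d = gcd(2, q − 1). The orders of elements of PSL(2,F) are exactly the divisors of p, of (q − 1)/d and of (q + 1)/d. -/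
theorem result {F : Type*} [Field F] [Fintype F] (p : ℕ) [Fact p.Prime] [CharP F p] (h4 : 4 ≤ Fintype.card F) :
    Set.range (orderOf : Matrix.ProjectiveSpecialLinearGroup (Fin 2) F → ℕ) =
      {m : ℕ | m ∣ p ∨ m ∣ (Fintype.card F - 1) / Nat.gcd 2 (Fintype.card F - 1) ∨ m ∣ (Fintype.card F + 1) / Nat.gcd 2 (Fintype.card F - 1)} := by
  classical
  have hp' : p.Prime := Fact.out
  obtain ⟨k1, k2, hk1, hk2, hk1pos, hk2pos, hA1, hA2, hD⟩ := arith (Fintype.card F) h4
  rw [hk1, hk2]
  set q := Fintype.card F with hq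
  apply Set.Subset.antisymm
  · -- every order divides one of the three numbers
    rintro _ ⟨g, rfl⟩
    obtain ⟨X, rfl⟩ := QuotientGroup.mk_surjective g
    set A : Matrix (Fin 2) (Fin 2) F := (X : Matrix (Fin 2) (Fin 2) F) with hA
    have hAdet : A.det = 1 := X.2
    set t : F := A.trace with ht
    have hcay : A * A = t • A - (1 : Matrix (Fin 2) (Fin 2) F) := by
      rw [cayley2, hAdet, one_smul]
    by_cases ht4 : t ^ 2 = 4
    · left
      apply orderOf_dvd_of_pow_eq_one
      obtain ⟨ε, hε2, hεt⟩ : ∃ ε : F, ε ^ 2 = 1 ∧ t = 2 * ε := by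
        have h : (t - 2) * (t + 2) = 0 := by linear_combination ht4
        rcases mul_eq_zero.1 h with h | h
        · exact ⟨1, by ring, by linear_combination h⟩
        · exact ⟨-1, by ring, by linear_combination h⟩
      set u : Matrix (Fin 2) (Fin 2) F := ε • A with hu
      have hu2 : (u - 1) ^ 2 = 0 := by
        have h1 : u * u = t • A - (1 : Matrix (Fin 2) (Fin 2) F) := by
          rw [hu, Matrix.smul_mul, Matrix.mul_smul, smul_smul, ← pow_two, hε2, one_smul, hcay]
        rw [pow_two, sub_mul, mul_sub, mul_sub, h1, hu, hεt]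
        simp only [Matrix.one_mul, Matrix.mul_one, mul_smul]
        rw [two_smul]
        abel
      have hup : (u - 1) ^ (p ^ 1) = 0 := by
        rw [pow_one]
        exact pow_eq_zero_of_le hp'.two_le hu2
      have hu1 := pow_eq_one_of_sub_one_pow_eq_zero p u 1 hup
      rw [pow_one, hu, smul_pow] at hu1
      have hAp : A ^ p = (ε ^ p) • (1 : Matrix (Fin 2) (Fin 2) F) := by
        rw [← hu1, smul_smul, ← pow_add, ← two_mul, pow_mul, hε2, one_pow, one_smul]
      exact psl2_mk_pow_eq_one_of_scalar X p (ε ^ p) hAp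
    · right
      by_cases hroot : ∃ l : F, l ^ 2 - t * l + 1 = 0
      · left
        apply orderOf_dvd_of_pow_eq_one
        obtain ⟨l, hl⟩ := hroot
        have hlm : l * (t - l) = 1 := by linear_combination -hl
        have hl0 : l ≠ 0 := by
          intro h; rw [h, zero_mul] at hlm; exact zero_ne_one hlm
        have hne : l ≠ t - l := by
          intro h
          apply ht4
          have h1 : t = 2 * l := by linear_combination -h
          have h2 : l ^ 2 = 1 := by rw [← h] at hlm; linear_combination hlm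
          rw [h1]; linear_combination 4 * h2
        have hA' : A * A = (l + (t - l)) • A - (1 : Matrix (Fin 2) (Fin 2) F) := by
          rw [hcay]; congr 2; ring
        have hlq : l ^ (q - 1) = 1 := FiniteField.pow_card_sub_one_eq_one l hl0
        have hl2k : l ^ (2 * k1) = 1 := by
          obtain ⟨c, hc⟩ := (hA1 k1).2 dvd_rfl
          rw [hc, pow_mul, hlq, one_pow]
        have hlk : l ^ k1 = (t - l) ^ k1 := by
          have h1 : (t - l) ^ k1 * l ^ k1 = 1 := by rw [← mul_pow, mul_comm, hlm, one_pow]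
          have h2 : l ^ k1 * l ^ k1 = 1 := by rw [← pow_add, ← two_mul, hl2k]
          calc l ^ k1 = ((t - l) ^ k1 * l ^ k1) * l ^ k1 := by rw [h1, one_mul]
            _ = (t - l) ^ k1 * (l ^ k1 * l ^ k1) := by ring
            _ = (t - l) ^ k1 := by rw [h2, mul_one]
        have := pow_isScalar2_of_roots A l (t - l) hlm hne hA' k1 hlk
        exact psl2_mk_pow_eq_one_of_scalar X k1 (l ^ k1) this
      · right
        apply orderOf_dvd_of_pow_eq_one
        push Not at hroot
        have hnoeig : ∀ (c : F) (v : Fin 2 → F), v ≠ 0 →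
            (X : Matrix (Fin 2) (Fin 2) F).mulVec v ≠ c • v := by
          intro c v hv hcv
          apply hroot c
          have := root_of_eigenvector A c v hv hcv
          rw [hAdet] at this
          exact this
        rcases hD with h2 | h2
        · have := sl2_pow_half_isScalar2 X hnoeig k2 h2
          rw [← QuotientGroup.mk_pow]
          exact (psl2_mk_eq_one_iff _).2 this
        · rw [h2, ← QuotientGroup.mk_pow, sl2_pow_card_add_one_eq_one X hnoeig]
          rfl
  · -- every divisor occurs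
    have hmkpow : ∀ (Z : Matrix.SpecialLinearGroup (Fin 2) F) (k : ℕ),
        (QuotientGroup.mk Z : Matrix.ProjectiveSpecialLinearGroup (Fin 2) F) ^ k = 1 ↔
          IsScalar2 ((Z : Matrix (Fin 2) (Fin 2) F) ^ k) := by
      intro Z k
      rw [← QuotientGroup.mk_pow, psl2_mk_eq_one_iff, Matrix.SpecialLinearGroup.coe_pow]
    -- an element of order p
    have hex_p : ∃ g : Matrix.ProjectiveSpecialLinearGroup (Fin 2) F, orderOf g = p := by
      have hdet : (!![1, 1; 0, 1] : Matrix (Fin 2) (Fin 2) F).det = 1 := by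
        simp [Matrix.det_fin_two_of]
      set U : Matrix.SpecialLinearGroup (Fin 2) F := ⟨!![1, 1; 0, 1], hdet⟩ with hU
      refine ⟨QuotientGroup.mk U, ?_⟩
      have h1 : (QuotientGroup.mk U : Matrix.ProjectiveSpecialLinearGroup (Fin 2) F) ^ p = 1 := by
        rw [hmkpow]
        show IsScalar2 ((!![1, 1; 0, 1] : Matrix (Fin 2) (Fin 2) F) ^ p)
        rw [uni_pow, CharP.cast_eq_zero]
        exact ⟨by simp, by simp, by simp⟩
      have h2 : (QuotientGroup.mk U : Matrix.ProjectiveSpecialLinearGroup (Fin 2) F) ≠ 1 := by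
        rw [Ne, psl2_mk_eq_one_iff]
        intro ⟨h, _, _⟩
        simp [hU] at h
      exact orderOf_eq_prime h1 h2
    -- an element of order k1
    have hex_1 : ∃ g : Matrix.ProjectiveSpecialLinearGroup (Fin 2) F, orderOf g = k1 := by
      obtain ⟨l, hl⟩ := IsCyclic.exists_generator (α := Fˣ)
      have hordl : orderOf l = q - 1 := by
        rw [orderOf_eq_card_of_forall_mem_zpowers hl, Nat.card_units, Nat.card_eq_fintype_card]
      have hdet : (!![(l : F), 0; 0, (l : F)⁻¹] : Matrix (Fin 2) (Fin 2) F).det = 1 := by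
        simp [Matrix.det_fin_two_of]
      set D : Matrix.SpecialLinearGroup (Fin 2) F := ⟨!![(l : F), 0; 0, (l : F)⁻¹], hdet⟩ with hD'
      refine ⟨QuotientGroup.mk D, ?_⟩
      have hiff : ∀ k : ℕ, (QuotientGroup.mk D : Matrix.ProjectiveSpecialLinearGroup (Fin 2) F) ^ k = 1 ↔
          k1 ∣ k := by
        intro k
        rw [hmkpow, ← hA1 k, ← hordl, orderOf_dvd_iff_pow_eq_one]
        show IsScalar2 ((!![(l : F), 0; 0, (l : F)⁻¹] : Matrix (Fin 2) (Fin 2) F) ^ k) ↔ _
        rw [diag_pow]
        constructor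
        · rintro ⟨-, -, h⟩
          simp only [Matrix.of_apply, Matrix.cons_val', Matrix.cons_val_zero, Matrix.cons_val_one,
            Matrix.cons_val_fin_one] at h
          apply Units.ext
          rw [Units.val_pow_eq_pow_val, Units.val_one, two_mul, pow_add]
          nth_rewrite 2 [h]
          rw [← mul_pow, mul_inv_cancel₀ l.ne_zero, one_pow]
        · intro h
          refine ⟨by simp, by simp, ?_⟩
          simp only [Matrix.of_apply, Matrix.cons_val', Matrix.cons_val_zero, Matrix.cons_val_one,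
            Matrix.cons_val_fin_one]
          have h' : (l : F) ^ k * (l : F) ^ k = 1 := by
            have := congrArg Units.val h
            rw [Units.val_pow_eq_pow_val, Units.val_one, two_mul, pow_add] at this
            exact this
          rw [inv_pow]
          exact eq_inv_of_mul_eq_one_left h'
      apply Nat.dvd_antisymm
      · exact orderOf_dvd_of_pow_eq_one ((hiff k1).2 dvd_rfl)
      · exact (hiff _).1 (pow_orderOf_eq_one _)
    -- an element of order k2
    have hex_2 : ∃ g : Matrix.ProjectiveSpecialLinearGroup (Fin 2) F, orderOf g = k2 := by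
      obtain ⟨Y, hYord, hYsc⟩ := exists_sl2_orderOf_card_add_one (F := F) p
      refine ⟨QuotientGroup.mk Y, ?_⟩
      apply Nat.dvd_antisymm
      · apply orderOf_dvd_of_pow_eq_one
        rcases hD with h2 | h2
        · rw [← QuotientGroup.mk_pow]
          exact (psl2_mk_eq_one_iff _).2 (hYsc k2 h2)
        · rw [h2, ← QuotientGroup.mk_pow, ← hYord, pow_orderOf_eq_one]
          rfl
      · set N := orderOf (QuotientGroup.mk Y : Matrix.ProjectiveSpecialLinearGroup (Fin 2) F) with hN
        have h1 : IsScalar2 ((Y : Matrix (Fin 2) (Fin 2) F) ^ N) :=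
          (hmkpow Y N).1 (pow_orderOf_eq_one _)
        obtain ⟨c, hc⟩ := (isScalar2_iff _).1 h1
        have hdet : ((Y : Matrix (Fin 2) (Fin 2) F) ^ N).det = 1 := by
          rw [Matrix.det_pow, Y.2, one_pow]
        rw [hc, Matrix.det_smul, Matrix.det_one, mul_one] at hdet
        have hc2 : c ^ 2 = 1 := by simpa using hdet
        have h2 : Y ^ (2 * N) = 1 := by
          apply Subtype.ext
          rw [Matrix.SpecialLinearGroup.coe_pow, mul_comm, pow_mul, hc, smul_pow, one_pow, hc2,
            one_smul, Matrix.SpecialLinearGroup.coe_one]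
        rw [← hA2 N, ← hYord]
        exact orderOf_dvd_of_pow_eq_one h2
    intro m hm
    rcases hm with hm | hm | hm
    · obtain ⟨g, hg⟩ := hex_p
      obtain ⟨g', hg'⟩ := exists_orderOf_of_dvd g p m hp'.pos hg hm
      exact ⟨g', hg'⟩
    · obtain ⟨g, hg⟩ := hex_1
      obtain ⟨g', hg'⟩ := exists_orderOf_of_dvd g k1 m hk1pos hg hm
      exact ⟨g', hg'⟩
    · obtain ⟨g, hg⟩ := hex_2
      obtain ⟨g', hg'⟩ := exists_orderOf_of_dvd g k2 m hk2pos hg hm
      exact ⟨g', hg'⟩

end Cfsg.Agent.S2475
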