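import Cfsg.Statements.S2477
import Cfsg.Agent.Helper12.CycleState

set_option autoImplicit false
open Cfsg

namespace Cfsg.Agent.S2477

open Cfsg.Agent.Helper12

/-- All reachable (sum, lcm, parity) states for cycle types on at most 10 points. -/
def states : List (ℕ × ℕ × ℕ) :=
  [(0, 1, 0), (2, 2, 1), (3, 3, 0), (4, 2, 0), (4, 4, 1), (5, 5, 0), (5, 6, 1), (6, 2, 1), (6, 3, 0),
   (6, 4, 0), (6, 6, 1), (7, 6, 0), (7, 7, 0), (7, 10, 1), (7, 12, 1), (8, 2, 0), (8, 4, 0), (8, 4, 1),
   (8, 6, 0), (8, 6, 1), (8, 8, 1), (8, 15, 0), (9, 3, 0), (9, 6, 1), (9, 9, 0), (9, 10, 0), (9, 12, 0),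
   (9, 14, 1), (9, 20, 1), (10, 2, 1), (10, 4, 0), (10, 4, 1), (10, 5, 0), (10, 6, 0), (10, 6, 1),
   (10, 8, 0), (10, 10, 1), (10, 12, 0), (10, 12, 1), (10, 21, 0), (10, 30, 1)]

theorem states_closed : ∀ st ∈ states, ∀ a ∈ List.range (10 + 1), 2 ≤ a → st.1 + a ≤ 10 →
    stepState a st ∈ states := by
  decide

theorem states_even : ∀ st ∈ states, st.2.2 = 0 →
    st.2.1 ∈ [1, 2, 3, 4, 5, 6, 7, 8, 9, 10, 12, 15, 21] := by
  decide

theorem exists_of_cycleType (m : Multiset ℕ) (k : ℕ) (hsum : m.sum ≤ 10) (h2 : ∀ a ∈ m, 2 ≤ a)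
    (hst : cycState m = (m.sum, k, 0)) :
    k ∈ Set.range (orderOf : alternatingGroup (Fin 10) → ℕ) := by
  obtain ⟨g, hg⟩ := (Equiv.Perm.exists_with_cycleType_iff (α := Fin 10) (m := m)).2
    ⟨by simpa using hsum, h2⟩
  have hsign : Equiv.Perm.sign g = 1 := by
    rw [Equiv.Perm.sign_of_cycleType', hg, sign_prod_eq_neg_one_pow_card_even]
    have h3 : (cycState m).2.2 = 0 := by rw [hst]
    have h4 : Even (Multiset.card (m.filter (fun a => Even a))) := Nat.even_iff.mpr h3
    exact h4.neg_one_pow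
  have hmem : g ∈ alternatingGroup (Fin 10) := Equiv.Perm.mem_alternatingGroup.2 hsign
  refine ⟨⟨g, hmem⟩, ?_⟩
  have : orderOf (⟨g, hmem⟩ : alternatingGroup (Fin 10)) = orderOf g := by
    rw [← Subgroup.orderOf_coe]
  rw [this, ← Equiv.Perm.lcm_cycleType, hg]
  have h3 : (cycState m).2.1 = k := by rw [hst]
  exact h3

theorem result : Set.range (orderOf : alternatingGroup (Fin 10) → ℕ) = {1, 2, 3, 4, 5, 6, 7, 8, 9, 10, 12, 15, 21} := by
  apply Set.eq_of_subset_of_subset
  · rintro k ⟨g, rfl⟩
    have hsign : Equiv.Perm.sign (g : Equiv.Perm (Fin 10)) = 1 :=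
      Equiv.Perm.mem_alternatingGroup.1 g.2
    have h1 := cycState_mem 10 states (by decide) states_closed
      (g : Equiv.Perm (Fin 10)).cycleType
      (fun a ha => Equiv.Perm.two_le_of_mem_cycleType ha)
      (by simpa using Equiv.Perm.sum_cycleType_le (g : Equiv.Perm (Fin 10)))
    rw [cycState_cycleType_even _ hsign] at h1
    have h2 := states_even _ h1 rfl
    rw [Subgroup.orderOf_coe] at h2
    simpa using h2
  · intro k hk
    simp only [Set.mem_insert_iff, Set.mem_singleton_iff] at hk
    rcases hk with rfl | rfl | rfl | rfl | rfl | rfl | rfl | rfl | rfl | rfl | rfl | rfl | rfl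
    · exact exists_of_cycleType 0 1 (by decide) (by decide) (by decide)
    · exact exists_of_cycleType {2, 2} 2 (by decide) (by decide) (by decide)
    · exact exists_of_cycleType {3} 3 (by decide) (by decide) (by decide)
    · exact exists_of_cycleType {4, 2} 4 (by decide) (by decide) (by decide)
    · exact exists_of_cycleType {5} 5 (by decide) (by decide) (by decide)
    · exact exists_of_cycleType {3, 2, 2} 6 (by decide) (by decide) (by decide)
    · exact exists_of_cycleType {7} 7 (by decide) (by decide) (by decide)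
    · exact exists_of_cycleType {8, 2} 8 (by decide) (by decide) (by decide)
    · exact exists_of_cycleType {9} 9 (by decide) (by decide) (by decide)
    · exact exists_of_cycleType {5, 2, 2} 10 (by decide) (by decide) (by decide)
    · exact exists_of_cycleType {4, 3, 2} 12 (by decide) (by decide) (by decide)
    · exact exists_of_cycleType {5, 3} 15 (by decide) (by decide) (by decide)
    · exact exists_of_cycleType {7, 3} 21 (by decide) (by decide) (by decide)

end Cfsg.Agent.S2477
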