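import Cfsg.Statements.S2478
import Cfsg.Agent.Helper14.GLk.Defs
import Cfsg.Agent.Helper14.GLk.MOD
import Cfsg.Agent.Helper14.GLk.CONJ
import Cfsg.Agent.Helper26.S2478ARITH
import Cfsg.Agent.Helper15.S2478COUNTMON
import Cfsg.Agent.Helper15.S2478FACT
import Cfsg.Agent.Helper15.S2478HPROP
import Cfsg.Agent.Helper26.S2478LOWER
import Cfsg.Agent.Helper14.GLk.COUNTT

set_option autoImplicit false
open Cfsg

namespace Cfsg.Agent.S2478

open Polynomial DirectSum Cfsg.Agent.S2478P

universe u

/-- upper bound: the number of conjugacy classes of `GL_n(F)` is at most `q^n`. -/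
theorem upper_bound {F : Type u} [Field F] [Fintype F] (n : ℕ) :
    Nat.card (ConjClasses (Matrix.GeneralLinearGroup (Fin n) F)) ≤ Fintype.card F ^ n := by
  classical
  have hdec := fun g : Matrix.GeneralLinearGroup (Fin n) F => exists_decomp n g
  choose ι fι p e hp hsum hΦ using hdec
  let rep : ConjClasses (Matrix.GeneralLinearGroup (Fin n) F) →
      Matrix.GeneralLinearGroup (Fin n) F := fun C => Quotient.out C
  have hrep : ∀ C, ConjClasses.mk (rep C) = C := fun C => Quotient.out_eq C
  let hfun : ConjClasses (Matrix.GeneralLinearGroup (Fin n) F) → T F n n := fun C =>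
    ⟨_, @prod_mem_T F _ (ι (rep C)) (fι (rep C)) (p (rep C)) (e (rep C)) n (hp (rep C))
      (hsum (rep C))⟩
  have hinj : Function.Injective hfun := by
    intro C C' hCC
    have h1 : ∀ m : ℕ,
        @Finset.prod _ _ _ (@Finset.filter _ (fun i => e (rep C) i = m) _
          (@Finset.univ _ (fι (rep C)))) (p (rep C)) =
        @Finset.prod _ _ _ (@Finset.filter _ (fun i => e (rep C') i = m) _
          (@Finset.univ _ (fι (rep C')))) (p (rep C')) := by
      intro m
      have := congrArg (fun t : T F n n => (t : ℕ → F[X]) m) hCC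
      exact this
    have h2 := @cnt_eq_of_prod_eq F _ (ι (rep C)) (ι (rep C')) (fι (rep C)) (fι (rep C'))
      (p (rep C)) (e (rep C)) (p (rep C')) (e (rep C'))
      (fun i => ⟨(hp (rep C) i).1, (hp (rep C) i).2.1⟩)
      (fun i => ⟨(hp (rep C') i).1, (hp (rep C') i).2.1⟩) h1
    have h3 := @isConj_of_decomp F _ n (rep C) (rep C') (ι (rep C)) (ι (rep C')) (fι (rep C))
      (fι (rep C')) (p (rep C)) (e (rep C)) (p (rep C')) (e (rep C')) (hΦ (rep C)) (hΦ (rep C')) h2
    rw [← hrep C, ← hrep C']
    exact ConjClasses.mk_eq_mk_iff_isConj.2 h3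
  have : Finite (T F n n) := (card_T F n n).1
  have hq : 2 ≤ Fintype.card F := Fintype.one_lt_card
  calc Nat.card (ConjClasses (Matrix.GeneralLinearGroup (Fin n) F))
      ≤ Nat.card (T F n n) := Nat.card_le_card_of_injective hfun hinj
    _ = A (Fintype.card F) n n := (card_T F n n).2
    _ ≤ Fintype.card F ^ n := (A_bound _ hq n n).1 le_rfl

/-- The number of conjugacy classes of GL(n,q): for F a finite field with q elements and n ≥ 1, the number k of conjugacy classes of GL(n,F) satisfies q^n − q^(n−1) ≤ k ≤ q^n. -/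
theorem result {F : Type*} [Field F] [Fintype F] (n : ℕ) (hn : 1 ≤ n) :
    Fintype.card F ^ n - Fintype.card F ^ (n - 1) ≤ Nat.card (ConjClasses (Matrix.GeneralLinearGroup (Fin n) F)) ∧ Nat.card (ConjClasses (Matrix.GeneralLinearGroup (Fin n) F)) ≤ Fintype.card F ^ n := by
  exact ⟨lower_bound n hn, upper_bound n⟩

end Cfsg.Agent.S2478
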