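import Cfsg.Statements.S2479
import Cfsg.Agent.S4200
import Cfsg.Agent.Helper14.GLk.Defs
import Cfsg.Agent.Helper14.GLk.MOD
import Cfsg.Agent.Helper14.GLk.CONJ
import Cfsg.Agent.Helper26.S2478ARITH
import Cfsg.Agent.Helper15.S2478COUNTMON
import Cfsg.Agent.Helper15.S2478FACT
import Cfsg.Agent.Helper15.S2478HPROP
import Cfsg.Agent.Helper14.GLk.COUNTT
import Cfsg.Agent.Helper14.SLk.Defs
import Cfsg.Agent.Helper14.SLk.CENT
import Cfsg.Agent.Helper14.SLk.SUMBOUND
import Cfsg.Agent.Helper15.S2479SLGL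
import Cfsg.Agent.Helper28.S2479SPLIT
import Cfsg.Agent.Helper26.S2479GLLOWER1
import Cfsg.Agent.Helper28.S2479ACTION
import Cfsg.Agent.Helper27.S2479ARITH

set_option autoImplicit false
open Cfsg

namespace Cfsg.Agent.S2479

open Polynomial DirectSum Cfsg.Agent.S2478P Cfsg.Agent.S2479P

universe u

open Classical in
/-- upper bound: `(q-1) k(SL_n(q)) ≤ P(n) + ∑_{d ∣ gcd(n,q-1), d ≥ 2} (d^2-1) P(n/d)`. -/
theorem upper_bound {F : Type u} [Field F] [Fintype F] (n : ℕ) (hn : 1 ≤ n) :
    (Fintype.card F - 1) * Nat.card (ConjClasses (Matrix.SpecialLinearGroup (Fin n) F)) ≤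
      A (Fintype.card F) n n +
      ∑ d ∈ (Nat.gcd n (Fintype.card F - 1)).divisors.filter (fun d => 2 ≤ d),
        (d ^ 2 - 1) * A (Fintype.card F) (n / d) (n / d) := by
  have hdec := fun g : Matrix.GeneralLinearGroup (Fin n) F => exists_decomp n g
  choose ι fι p e hp hsum hΦ using hdec
  -- the tuple attached to `g`
  let τ : Matrix.GeneralLinearGroup (Fin n) F → (ℕ → F[X]) := fun g m =>
    @Finset.prod _ _ _ (@Finset.filter _ (fun i => e g i = m) _ (@Finset.univ _ (fι g))) (p g)
  have hτT : ∀ g, τ g ∈ T F n n := fun g =>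
    @prod_mem_T F _ (ι g) (fι g) (p g) (e g) n (hp g) (hsum g)
  have hT : (T F n n).Finite := (card_T F n n).1
  have h1 : ∀ x y : Matrix.GeneralLinearGroup (Fin n) F, τ x = τ y → IsConj x y := by
    intro x y hxy
    have h1 : ∀ m : ℕ,
        @Finset.prod _ _ _ (@Finset.filter _ (fun i => e x i = m) _
          (@Finset.univ _ (fι x))) (p x) =
        @Finset.prod _ _ _ (@Finset.filter _ (fun i => e y i = m) _
          (@Finset.univ _ (fι y))) (p y) := fun m => congrFun hxy m
    have h2 := @cnt_eq_of_prod_eq F _ (ι x) (ι y) (fι x) (fι y) (p x) (e x) (p y) (e y)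
      (fun i => ⟨(hp x i).1, (hp x i).2.1⟩) (fun i => ⟨(hp y i).1, (hp y i).2.1⟩) h1
    exact @isConj_of_decomp F _ n x y (ι x) (ι y) (fι x) (fι y) (p x) (e x) (p y) (e y)
      (hΦ x) (hΦ y) h2
  have hdet : ∀ g : Matrix.GeneralLinearGroup (Fin n) F,
      (g : Matrix (Fin n) (Fin n) F).det = dett n (τ g) := fun g =>
    @det_eq_dett F _ n g (ι g) (fι g) (p g) (e g) (fun i => ⟨(hp g i).1, (hp g i).2.2.2⟩)
      (hsum g) (hΦ g)
  let φ : Matrix.GeneralLinearGroup (Fin n) F →* Fˣ := Matrix.GeneralLinearGroup.det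
  let J : Finset (ℕ → F[X]) := hT.toFinset.filter (fun t => dett n t = 1)
  have hJ : ∀ g, φ g = 1 → τ g ∈ J := by
    intro g hg
    rw [Finset.mem_filter, Set.Finite.mem_toFinset]
    refine ⟨hτT g, ?_⟩
    rw [← hdet g]
    exact congrArg Units.val hg
  have h2 : ∀ g, φ g = 1 → ∀ a ∈ D (τ g), ∃ z, Commute z g ∧ φ z = a := by
    intro g _ a ha
    have hle : D (τ g) ≤ (Subgroup.centralizer ({g} : Set (Matrix.GeneralLinearGroup (Fin n) F))).map φ := by
      unfold D
      refine iSup₂_le (fun m hm => ?_)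
      rintro _ ⟨c, rfl⟩
      -- there is a block with `e i0 = m`
      have hex : ∃ i0, e g i0 = m := by
        by_contra hno
        push Not at hno
        have hempty : @Finset.filter _ (fun i => e g i = m) _ (@Finset.univ _ (fι g)) = ∅ := by
          apply Finset.eq_empty_of_forall_notMem
          intro i hi
          exact hno i (Finset.mem_filter.1 hi).2
        have : τ g m = 1 := by
          show @Finset.prod _ _ _ (@Finset.filter _ (fun i => e g i = m) _
            (@Finset.univ _ (fι g))) (p g) = 1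
          rw [hempty, Finset.prod_empty]
        have hm' : 1 ≤ (τ g m).natDegree := hm
        rw [this, natDegree_one] at hm'
        exact absurd hm' (by norm_num)
      obtain ⟨i0, hi0⟩ := hex
      obtain ⟨z, hz, hzdet⟩ := @exists_centralizing F _ _ n g (ι g) (fι g) (p g) (e g)
        (fun i => ⟨(hp g i).1, (hp g i).2.1, (hp g i).2.2.2⟩) (hΦ g) i0 c
      refine ⟨z, ?_, ?_⟩
      · rw [SetLike.mem_coe, Subgroup.mem_centralizer_iff]
        intro h hh
        rw [Set.mem_singleton_iff] at hh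
        subst hh
        exact hz.eq.symm
      · rw [hi0] at hzdet
        exact hzdet
    obtain ⟨z, hz, hza⟩ := hle ha
    refine ⟨z, ?_, hza⟩
    rw [SetLike.mem_coe, Subgroup.mem_centralizer_iff] at hz
    exact (hz g rfl).symm
  have hsplit := card_conjClasses_ker_le φ τ D J (fun x y _ _ h => h1 x y h) h2 hJ
  have hact := weighted_count F n hT
  have hsum2 := sum_idx_sq_le F n hn hT
  rw [card_conjClasses_sl n]
  calc (Fintype.card F - 1) * Nat.card (ConjClasses φ.ker)
      ≤ (Fintype.card F - 1) * ∑ t ∈ J, idx t := Nat.mul_le_mul_left _ hsplit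
    _ ≤ ∑ t ∈ hT.toFinset, idx t ^ 2 := hact
    _ ≤ _ := hsum2

/-- The number of conjugacy classes of SL(n,q): for F a finite field with q elements, the number k of conjugacy classes of SL(n,F) satisfies q^(n−1) < k and k ≤ (5/2)·q^(n−1) for n ≥ 2, and k ≤ q^(n−1) + 3q^(n−2) for n ≥ 3. -/
theorem result {F : Type*} [Field F] [Fintype F] (n : ℕ) (hn : 2 ≤ n) :
    Fintype.card F ^ (n - 1) < Nat.card (ConjClasses (Matrix.SpecialLinearGroup (Fin n) F)) ∧ 2 * Nat.card (ConjClasses (Matrix.SpecialLinearGroup (Fin n) F)) ≤ 5 * Fintype.card F ^ (n - 1) ∧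
      (3 ≤ n → Nat.card (ConjClasses (Matrix.SpecialLinearGroup (Fin n) F)) ≤ Fintype.card F ^ (n - 1) + 3 * Fintype.card F ^ (n - 2)) := by
  have hq : 2 ≤ Fintype.card F := Fintype.one_lt_card
  refine final_arith (Fintype.card F) n _ hq hn ?_ (upper_bound n (by omega))
  have h1 := gl_lower_succ (F := F) n hn
  have h2 := (Cfsg.Agent.S4200.result
    (Matrix.GeneralLinearGroup.det : Matrix.GeneralLinearGroup (Fin n) F →* Fˣ).ker).2.1
  rw [index_ker_det n (by omega), ← card_conjClasses_sl n] at h2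
  exact h1.trans h2

end Cfsg.Agent.S2479
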