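import Mathlib
import Cfsg.Statements.S4201
import Cfsg.Agent.Helper21.ClassNumber

set_option autoImplicit false
open Cfsg

namespace Cfsg.Agent.S4201

open Cfsg.Agent.Helper21 Finset
open scoped Classical

theorem ccount_coset_le_ite {X : Type*} [Group X] [Fintype X] (N : Subgroup X) [N.Normal]
    (a : X) (z : X ⧸ N) :
    ccount a (cosetset N z) ≤ if (a : X ⧸ N) * z = z * (a : X ⧸ N) then ccount a (sset N) else 0 := by
  by_cases h : (a : X ⧸ N) * z = z * (a : X ⧸ N)
  · rw [if_pos h]; exact ccount_coset_le N a z
  · rw [if_neg h]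
    apply le_of_eq
    apply ccount_coset_eq_zero
    rintro ⟨w₀, hw₀, hq⟩
    apply h
    rw [← hq, ← QuotientGroup.mk_mul, ← QuotientGroup.mk_mul, hw₀]

/-- If N is a normal subgroup of the finite group X then k(X) ≤ k(N)·k(X ⧸ N), where k denotes the number of conjugacy classes. -/
theorem result {X : Type*} [Group X] [Finite X] (N : Subgroup X) [N.Normal] : Nat.card (ConjClasses X) ≤ Nat.card (ConjClasses N) * Nat.card (ConjClasses (X ⧸ N)) := by
  have : Fintype X := Fintype.ofFinite X
  have hX : cpairs (univ : Finset X) univ = Nat.card (ConjClasses X) * Nat.card X := cpairs_univ_univ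
  have hN : cpairs (sset N) (sset N) = Nat.card (ConjClasses N) * Nat.card N := cpairs_sset_sset N
  have hQ : cpairs (univ : Finset (X ⧸ N)) univ = Nat.card (ConjClasses (X ⧸ N)) * Nat.card (X ⧸ N) :=
    cpairs_univ_univ
  have hcard : Nat.card N * Nat.card (X ⧸ N) = Nat.card X := by
    rw [← Subgroup.index_eq_card]; exact N.card_mul_index
  -- main inequality
  have key : cpairs (univ : Finset X) univ ≤ cpairs (sset N) (sset N) * cpairs (univ : Finset (X ⧸ N)) univ := by
    -- step 1
    have s1 : cpairs (univ : Finset X) univ ≤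
        ∑ a : X, ccount (a : X ⧸ N) (univ : Finset (X ⧸ N)) * ccount a (sset N) := by
      unfold cpairs
      apply Finset.sum_le_sum
      intro a _
      rw [ccount_univ_eq_sum N a]
      calc ∑ q : X ⧸ N, ccount a (cosetset N q)
          ≤ ∑ q : X ⧸ N, (if (a : X ⧸ N) * q = q * (a : X ⧸ N) then ccount a (sset N) else 0) :=
            Finset.sum_le_sum (fun q _ => ccount_coset_le_ite N a q)
        _ = ccount (a : X ⧸ N) (univ : Finset (X ⧸ N)) * ccount a (sset N) := by
            rw [← Finset.sum_filter, Finset.sum_const, smul_eq_mul]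
            unfold ccount
            congr!
    -- step 2: group by cosets
    have s2 : ∑ a : X, ccount (a : X ⧸ N) (univ : Finset (X ⧸ N)) * ccount a (sset N) =
        ∑ y : X ⧸ N, ccount y (univ : Finset (X ⧸ N)) * cpairs (cosetset N y) (sset N) := by
      rw [← Finset.sum_fiberwise_of_maps_to (g := fun a : X => (a : X ⧸ N)) (t := univ)
        (fun _ _ => Finset.mem_univ _)]
      refine Finset.sum_congr rfl (fun y _ => ?_)
      unfold cpairs
      rw [Finset.mul_sum]
      apply Finset.sum_congr
      · ext a; simp [mem_cosetset]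
      · intro a ha
        rw [mem_cosetset] at ha
        rw [ha]
    -- step 3
    have s3 : ∀ y : X ⧸ N, cpairs (cosetset N y) (sset N) ≤ cpairs (sset N) (sset N) := by
      intro y
      rw [cpairs_comm]
      exact cpairs_coset_le N (sset N) y
    calc cpairs (univ : Finset X) univ
        ≤ ∑ y : X ⧸ N, ccount y (univ : Finset (X ⧸ N)) * cpairs (cosetset N y) (sset N) := by
          rw [← s2]; exact s1
      _ ≤ ∑ y : X ⧸ N, ccount y (univ : Finset (X ⧸ N)) * cpairs (sset N) (sset N) :=
          Finset.sum_le_sum (fun y _ => Nat.mul_le_mul_left _ (s3 y))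
      _ = cpairs (sset N) (sset N) * cpairs (univ : Finset (X ⧸ N)) univ := by
          rw [← Finset.sum_mul, mul_comm]; rfl
  rw [hX, hN, hQ, ← hcard] at key
  have hpos : 0 < Nat.card N * Nat.card (X ⧸ N) := Nat.mul_pos Nat.card_pos Nat.card_pos
  have : Nat.card (ConjClasses X) * (Nat.card N * Nat.card (X ⧸ N)) ≤
      (Nat.card (ConjClasses N) * Nat.card (ConjClasses (X ⧸ N))) * (Nat.card N * Nat.card (X ⧸ N)) := by
    calc _ ≤ _ := key
      _ = _ := by ring
  exact Nat.le_of_mul_le_mul_right this hpos

end Cfsg.Agent.S4201
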