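import Cfsg.Statements.S2480
import Cfsg.Agent.S2479
import Cfsg.Agent.S4201
import Cfsg.Agent.Helper14.PSLk.Defs
import Cfsg.Agent.Helper1.S2480BURNSIDE
import Cfsg.Agent.Helper15.S2480CENTERSL
import Cfsg.Agent.Helper14.PSLk.FIXGL
import Cfsg.Agent.Helper27.S2480ARITH2

set_option autoImplicit false
open Cfsg

namespace Cfsg.Agent.S2480

open Polynomial DirectSum Cfsg.Agent.S2478P Cfsg.Agent.S2479P Cfsg.Agent.S2480P

universe u

/-- a group in which all elements commute has as many classes as elements. -/
theorem card_conjClasses_of_comm {G : Type*} [Group G] (h : ∀ a b : G, a * b = b * a) :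
    Nat.card (ConjClasses G) = Nat.card G := by
  refine (Nat.card_congr (Equiv.ofBijective (ConjClasses.mk : G → ConjClasses G)
    ⟨?_, ConjClasses.mk_surjective⟩)).symm
  intro a b hab
  obtain ⟨c, hc⟩ := isConj_iff.1 (ConjClasses.mk_eq_mk_iff_isConj.1 hab)
  rw [← hc, h c a, mul_inv_cancel_right]

/-- transport of the fixed classes from `SL_n` to `ker det`. -/
theorem fix_sl_le {F : Type u} [Field F] [Fintype F] (n : ℕ)
    (z : Matrix.SpecialLinearGroup (Fin n) F) (c : Fˣ)
    (hz : (z : Matrix (Fin n) (Fin n) F) = Matrix.scalar (Fin n) (c : F)) :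
    Nat.card {C : ConjClasses (Matrix.SpecialLinearGroup (Fin n) F) //
        ∃ g, ConjClasses.mk g = C ∧ IsConj (z * g) g} ≤
      Nat.card {C : ConjClasses
          (Matrix.GeneralLinearGroup.det : Matrix.GeneralLinearGroup (Fin n) F →* Fˣ).ker //
        ∃ s : (Matrix.GeneralLinearGroup.det : Matrix.GeneralLinearGroup (Fin n) F →* Fˣ).ker,
          ConjClasses.mk s = C ∧ IsConj (scal n c * (s : Matrix.GeneralLinearGroup (Fin n) F))
            (s : Matrix.GeneralLinearGroup (Fin n) F)} := by
  set e := SLGL.slEquivKer (F := F) n with he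
  have hscal : scal n c = Matrix.SpecialLinearGroup.toGL z := by
    apply Units.ext
    show Matrix.scalar (Fin n) (c : F) = (z : Matrix (Fin n) (Fin n) F)
    exact hz.symm
  refine Nat.card_le_card_of_injective
    (fun C => ⟨ConjClasses.map e.toMonoidHom C.1, by
      obtain ⟨g, hg, hconj⟩ := C.2
      refine ⟨e g, ?_, ?_⟩
      · rw [← hg]
        rfl
      · show IsConj (scal n c * Matrix.SpecialLinearGroup.toGL g)
          (Matrix.SpecialLinearGroup.toGL g)
        rw [hscal, ← map_mul]
        exact MonoidHom.map_isConj Matrix.SpecialLinearGroup.toGL hconj⟩) ?_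
  intro C C' h
  have h' := congrArg (fun X : {C : ConjClasses
          (Matrix.GeneralLinearGroup.det : Matrix.GeneralLinearGroup (Fin n) F →* Fˣ).ker //
        ∃ s : (Matrix.GeneralLinearGroup.det : Matrix.GeneralLinearGroup (Fin n) F →* Fˣ).ker,
          ConjClasses.mk s = C ∧ IsConj (scal n c * (s : Matrix.GeneralLinearGroup (Fin n) F))
            (s : Matrix.GeneralLinearGroup (Fin n) F)} => ConjClasses.map e.symm.toMonoidHom X.1) h
  simp only at h'
  apply Subtype.ext
  have hl : ∀ X : ConjClasses (Matrix.SpecialLinearGroup (Fin n) F),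
      ConjClasses.map e.symm.toMonoidHom (ConjClasses.map e.toMonoidHom X) = X := by
    intro X
    obtain ⟨a, rfl⟩ := ConjClasses.mk_surjective X
    show ConjClasses.mk (e.symm (e a)) = ConjClasses.mk a
    rw [MulEquiv.symm_apply_apply]
  rw [hl, hl] at h'
  exact h'


/-- The number of conjugacy classes of PSL(n,q): for F a finite field with q elements, n ≥ 2 and d = gcd(n, q − 1), the number k of conjugacy classes of PSL(n,F) satisfies q^(n−1) ≤ d·k ≤ q^(n−1) + 5q^(n−2). -/
theorem result {F : Type*} [Field F] [Fintype F] (n : ℕ) (hn : 2 ≤ n) :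
    Fintype.card F ^ (n - 1) ≤ Nat.gcd n (Fintype.card F - 1) * Nat.card (ConjClasses (Matrix.ProjectiveSpecialLinearGroup (Fin n) F)) ∧
      Nat.gcd n (Fintype.card F - 1) * Nat.card (ConjClasses (Matrix.ProjectiveSpecialLinearGroup (Fin n) F)) ≤ Fintype.card F ^ (n - 1) + 5 * Fintype.card F ^ (n - 2) := by
  classical
  have hq : 2 ≤ Fintype.card F := Fintype.one_lt_card
  set q := Fintype.card F with hqdef
  set S := Matrix.SpecialLinearGroup (Fin n) F with hS
  set d := Nat.gcd n (q - 1) with hd
  have hZcard : Nat.card (Subgroup.center S) = d := card_center_sl n (by omega)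
  -- class number of `SL_n`
  have hk := Cfsg.Agent.S2479.upper_bound (F := F) n (by omega)
  have hklow := (Cfsg.Agent.S2479.result (F := F) n hn).1
  -- lower bound
  have hlow : Nat.card (ConjClasses S) ≤
      d * Nat.card (ConjClasses (Matrix.ProjectiveSpecialLinearGroup (Fin n) F)) := by
    have h := Cfsg.Agent.S4201.result (Subgroup.center S)
    have hab : Nat.card (ConjClasses (Subgroup.center S)) = Nat.card (Subgroup.center S) :=
      card_conjClasses_of_comm (fun a b => Subtype.ext (Subgroup.mem_center_iff.1 b.2 (a : S)))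
    rw [hab, hZcard] at h
    exact h
  -- Burnside
  have hburn := card_center_mul_card_conjClasses_quotient (G := S)
  rw [hZcard] at hburn
  set f : Subgroup.center S → ℕ := fun z => Nat.card {C : ConjClasses S //
        ∃ g : S, ConjClasses.mk g = C ∧ IsConj ((z : S) * g) g} with hf
  have hf1 : f 1 ≤ Nat.card (ConjClasses S) := by
    refine Nat.card_le_card_of_injective (fun C => C.1) ?_
    exact fun C C' h => Subtype.ext h
  -- bound for the non-trivial central elements
  have hfz : ∀ z : Subgroup.center S, z ≠ 1 →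
      ∃ o, 2 ≤ o ∧ o ∣ d ∧ (q - 1) * f z ≤ U q (n / o) := by
    intro z hz1
    obtain ⟨c, hcn, hzc⟩ := center_sl_scalar n (z : S) z.2
    have hc1 : c ≠ 1 := by
      rintro rfl
      apply hz1
      apply Subtype.ext
      apply Subtype.ext
      rw [hzc]
      simp
    refine ⟨orderOf c, ?_, ?_, ?_⟩
    · have h0 : 0 < orderOf c := orderOf_pos c
      have h1 : orderOf c ≠ 1 := fun h => hc1 (orderOf_eq_one_iff.1 h)
      omega
    · refine Nat.dvd_gcd (orderOf_dvd_of_pow_eq_one hcn) ?_
      have : orderOf c ∣ Fintype.card Fˣ := orderOf_dvd_card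
      rwa [Fintype.card_units] at this
    · exact le_trans (Nat.mul_le_mul_left _ (fix_sl_le n (z : S) c hzc))
        (fix_bound_gl n (by omega) c hc1 hcn)
  -- the maximum over the non-trivial central elements
  have : Fintype (Subgroup.center S) := Fintype.ofFinite _
  obtain ⟨M, hM1, hM2⟩ : ∃ M : ℕ, (∀ z : Subgroup.center S, z ≠ 1 → f z ≤ M) ∧
      (2 ≤ d → ∃ o, 2 ≤ o ∧ o ∣ d ∧ (q - 1) * M ≤ U q (n / o)) := by
    by_cases hex : ∃ z : Subgroup.center S, z ≠ 1
    · obtain ⟨z1, hz1⟩ := hex
      have hne : ((Finset.univ : Finset (Subgroup.center S)).erase 1).Nonempty :=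
        ⟨z1, Finset.mem_erase.2 ⟨hz1, Finset.mem_univ _⟩⟩
      obtain ⟨z0, hz0, hmax⟩ := Finset.exists_max_image _ f hne
      refine ⟨f z0, fun z hz => hmax z (Finset.mem_erase.2 ⟨hz, Finset.mem_univ _⟩), fun _ => ?_⟩
      exact hfz z0 (Finset.mem_erase.1 hz0).1
    · push Not at hex
      refine ⟨0, fun z hz => absurd (hex z) hz, fun h2 => ?_⟩
      exfalso
      have : Nat.card (Subgroup.center S) ≤ 1 := by
        rw [Nat.card_eq_fintype_card]
        exact Fintype.card_le_one_iff.2 (fun a b => (hex a).trans (hex b).symm)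
      omega
  have hsum : d * Nat.card (ConjClasses (Matrix.ProjectiveSpecialLinearGroup (Fin n) F)) ≤
      Nat.card (ConjClasses S) + (d - 1) * M := by
    rw [hburn, finsum_eq_sum_of_fintype, ← Finset.add_sum_erase _ _ (Finset.mem_univ (1 : Subgroup.center S))]
    refine Nat.add_le_add hf1 ?_
    calc ∑ z ∈ (Finset.univ : Finset (Subgroup.center S)).erase 1, f z
        ≤ ∑ _z ∈ (Finset.univ : Finset (Subgroup.center S)).erase 1, M :=
          Finset.sum_le_sum (fun z hz => hM1 z (Finset.mem_erase.1 hz).1)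
      _ = (d - 1) * M := by
          rw [Finset.sum_const, Finset.card_erase_of_mem (Finset.mem_univ _), Finset.card_univ,
            ← Nat.card_eq_fintype_card, hZcard, smul_eq_mul]
  exact final_arith_psl q n _ _ M hq hn hk hklow hlow hM2 hsum

end Cfsg.Agent.S2480
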