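import Cfsg.Statements.S2481
import Cfsg.Agent.Helper14.S2481.Lower
import Cfsg.Agent.Helper14.S2481.Upper
import Cfsg.Agent.Helper19.S2481BAR
import Cfsg.Agent.Helper8.S2481SUISO
import Cfsg.Agent.Helper3.S2481ARITHU
import Cfsg.Agent.Helper15.S2479SLGL

set_option autoImplicit false
open Cfsg

namespace Cfsg.Agent.S2481

/-- The number of conjugacy classes of SU(n,q): for n ≥ 2, q a prime power and F the field with q² elements, the number k of conjugacy classes of SU(n,q) (the determinant-one isometries of the standard Hermitian form on F^n) satisfies q^(n−1) ≤ k ≤ 8.26·q^(n−1). -/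
theorem result {F : Type*} [Field F] [Fintype F] (n q : ℕ) (hn : 2 ≤ n) (hF : Fintype.card F = q ^ 2) :
    q ^ (n - 1) ≤ Nat.card (ConjClasses (Cfsg.SU n F q)) ∧ 100 * Nat.card (ConjClasses (Cfsg.SU n F q)) ≤ 826 * q ^ (n - 1) := by
  have hσq : ∀ x, Cfsg.Agent.Helper2.Herm.cj hF x = x ^ q := Cfsg.Agent.Helper2.Herm.cj_apply hF
  have hσ : Cfsg.Agent.S2481P.IsInvol (Cfsg.Agent.Helper2.Herm.cj hF) := by
    obtain ⟨σ, hσ, hσ'⟩ := Cfsg.Agent.S2481P.exists_bar q hF
    have : σ = Cfsg.Agent.Helper2.Herm.cj hF := RingHom.ext (fun x => by rw [hσ', hσq])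
    rw [← this]
    exact hσ
  obtain ⟨e⟩ := Cfsg.Agent.S2481P.su_iso (σ := Cfsg.Agent.Helper2.Herm.cj hF) n q hσq
  rw [Cfsg.Agent.S2479P.SLGL.card_conjClasses_congr e]
  have hq : 2 ≤ q := by
    have h2 : 2 ≤ Fintype.card F := Fintype.one_lt_card
    rw [hF] at h2
    by_contra hlt
    have : q ≤ 1 := by omega
    have : q ^ 2 ≤ 1 := by
      calc q ^ 2 ≤ 1 ^ 2 := Nat.pow_le_pow_left this 2
        _ = 1 := by norm_num
    omega
  exact ⟨Cfsg.Agent.S2481P.lower_bound_SU q hF hσ n (by omega),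
    Cfsg.Agent.S2481P.final_arith_U q n _ hq hn
      (Cfsg.Agent.S2481P.upper_bound_SU q hF hσ n (by omega))⟩

end Cfsg.Agent.S2481
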