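import Cfsg.Statements.S2482
import Cfsg.Agent.Helper17.S2482Low
import Cfsg.Agent.Helper17.S2482ASM
import Cfsg.Agent.Helper29.S2482CFINAL

set_option autoImplicit false
open Cfsg

namespace Cfsg.Agent.S2482

/-- The number of conjugacy classes of Sp(2n,q), q odd: for F a finite field of odd order q and n ≥ 1, the number k of conjugacy classes of Sp(2n,F) satisfies q^n ≤ k ≤ 10.8·q^n. -/
theorem result {F : Type*} [Field F] [Fintype F] (hodd : Odd (Fintype.card F)) (n : ℕ) (hn : 1 ≤ n) :
    Fintype.card F ^ n ≤ Nat.card (ConjClasses (Matrix.symplecticGroup (Fin n) F)) ∧ 5 * Nat.card (ConjClasses (Matrix.symplecticGroup (Fin n) F)) ≤ 54 * Fintype.card F ^ n := by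
  have h2 : (2 : F) ≠ 0 := by
    intro h
    have hchar : ringChar F = 2 := by
      have hdvd : ringChar F ∣ 2 := (ringChar.spec F 2).1 (by exact_mod_cast h)
      have hne : ringChar F ≠ 1 := CharP.ringChar_ne_one
      rcases (Nat.dvd_prime Nat.prime_two).1 hdvd with h1 | h1
      · exact absurd h1 hne
      · exact h1
    have heven : Fintype.card F % 2 = 0 := FiniteField.even_card_of_char_two hchar
    rcases hodd with ⟨k, hk⟩
    omega
  obtain ⟨hfin, hle⟩ := Cfsg.Agent.S2482P.card_SSp_le hodd (2 * n) n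
  refine ⟨Cfsg.Agent.S2482P.card_pow_le_card_conjClasses_symplectic n hn, ?_⟩
  have h1 := Cfsg.Agent.S2482P.card_conjClasses_le_card_SSp h2 n hfin
  omega

end Cfsg.Agent.S2482
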