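import Cfsg.Statements.S2486
import Mathlib
import Cfsg.Agent.Helper13.OppSylow
import Cfsg.Agent.Helper13.BorelF2

set_option autoImplicit false
open scoped Pointwise
open Cfsg

namespace Cfsg.Agent.S2486

/-- Let n ≥ 4 and let G be a finite group with a normal subgroup N of index 2 isomorphic to SL(n,2) and with trivial centralizer in G (so G is the extension of the simple group L_n(2) by its inverse-transpose automorphism, its full automorphism group). Then any two Sylow 2-subgroups of G have a non-trivial intersection: for a Sylow 2-subgroup H and every x ∈ G, H ∩ H^x ≠ 1. -/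
theorem result {G : Type*} [Group G] [Finite G] {n : ℕ} (hn : 4 ≤ n) (N : Subgroup G) [N.Normal]
    (e : N ≃* Matrix.SpecialLinearGroup (Fin n) (ZMod 2)) (hidx : N.index = 2)
    (hC : Subgroup.centralizer (N : Set G) = ⊥)
    (H : Sylow 2 G) (x : G) :
    (H : Subgroup G) ⊓ MulAut.conj x • (H : Subgroup G) ≠ ⊥ := by
  classical
  -- the isomorphism of `N` with `GL_n(2)`
  have hinj : Function.Injective
      ((Matrix.SpecialLinearGroup.toGL : Matrix.SpecialLinearGroup (Fin n) (ZMod 2) →*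
        Matrix.GeneralLinearGroup (Fin n) (ZMod 2)).comp e.toMonoidHom) := by
    intro a b hab
    exact e.injective (Matrix.SpecialLinearGroup.toGL_injective hab)
  have hsurj : Function.Surjective
      ((Matrix.SpecialLinearGroup.toGL : Matrix.SpecialLinearGroup (Fin n) (ZMod 2) →*
        Matrix.GeneralLinearGroup (Fin n) (ZMod 2)).comp e.toMonoidHom) := by
    intro g
    have hu : IsUnit (g : Matrix (Fin n) (Fin n) (ZMod 2)).det :=
      (Matrix.isUnit_iff_isUnit_det _).mp g.isUnit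
    have key : ∀ x : ZMod 2, IsUnit x → x = 1 := by decide
    have hdet : (g : Matrix (Fin n) (Fin n) (ZMod 2)).det = 1 := key _ hu
    have hs : ∃ s : Matrix.SpecialLinearGroup (Fin n) (ZMod 2),
        (s : Matrix (Fin n) (Fin n) (ZMod 2)) = (g : Matrix (Fin n) (Fin n) (ZMod 2)) :=
      ⟨⟨(g : Matrix (Fin n) (Fin n) (ZMod 2)), hdet⟩, rfl⟩
    obtain ⟨s, hs⟩ := hs
    refine ⟨e.symm s, ?_⟩
    apply Units.ext
    show ((Matrix.SpecialLinearGroup.toGL (e (e.symm s)) :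
      Matrix.GeneralLinearGroup (Fin n) (ZMod 2)) : Matrix (Fin n) (Fin n) (ZMod 2)) = g
    rw [e.apply_symm_apply, Matrix.SpecialLinearGroup.coe_GL_coe_matrix, hs]
  set φ : ↥N →* Matrix.GeneralLinearGroup (Fin n) (ZMod 2) :=
    (Matrix.SpecialLinearGroup.toGL : Matrix.SpecialLinearGroup (Fin n) (ZMod 2) →*
        Matrix.GeneralLinearGroup (Fin n) (ZMod 2)).comp e.toMonoidHom with hφ
  have memU : ∀ (w : G) (hw : w ∈ N),
      w ∈ ((Cfsg.upperTriangularGL n (ZMod 2)).comap φ).map N.subtype ↔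
        φ ⟨w, hw⟩ ∈ Cfsg.upperTriangularGL n (ZMod 2) := by
    intro w hw
    rw [Subgroup.mem_map]
    constructor
    · rintro ⟨y, hy, rfl⟩
      exact hy
    · intro h
      exact ⟨⟨w, hw⟩, h, rfl⟩
  have hUN : ((Cfsg.upperTriangularGL n (ZMod 2)).comap φ).map N.subtype ≤ N := Subgroup.map_subtype_le _
  refine Cfsg.Agent.Helper13.OppSylow.inter_ne_bot N hidx
    (((Cfsg.upperTriangularGL n (ZMod 2)).comap φ).map N.subtype) hUN ?_ ?_ ?_ H x
  · exact (Cfsg.Agent.Helper13.BorelF2.isPGroup_B.comap_of_injective φ hinj).map N.subtype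
  · intro y hy hnorm
    rw [memU y hy]
    apply Cfsg.Agent.Helper13.BorelF2.normalizer_B
    intro u'
    obtain ⟨u, rfl⟩ := hsurj u'
    have h1 := hnorm u.1
    rw [memU u.1 u.2, memU (y * u.1 * y⁻¹) (N.mul_mem (N.mul_mem hy u.2) (N.inv_mem hy))] at h1
    have h2 : φ ⟨y * u.1 * y⁻¹, N.mul_mem (N.mul_mem hy u.2) (N.inv_mem hy)⟩ = φ ⟨y, hy⟩ * φ u * (φ ⟨y, hy⟩)⁻¹ := by
      rw [← map_inv, ← map_mul, ← map_mul]
      rfl
    rw [h2] at h1
    exact h1
  · intro g hg h hh hgt hht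
    have conjmem : ∀ (a : G) (ha : a ∈ N) (u : G) (hu : u ∈ N),
        (a⁻¹ * u * a ∈ ((Cfsg.upperTriangularGL n (ZMod 2)).comap φ).map N.subtype ↔
          (φ ⟨a, ha⟩)⁻¹ * φ ⟨u, hu⟩ * φ ⟨a, ha⟩ ∈ Cfsg.upperTriangularGL n (ZMod 2)) := by
      intro a ha u hu
      rw [memU _ (N.mul_mem (N.mul_mem (N.inv_mem ha) hu) ha)]
      have h2 : φ ⟨a⁻¹ * u * a, N.mul_mem (N.mul_mem (N.inv_mem ha) hu) ha⟩ =
          (φ ⟨a, ha⟩)⁻¹ * φ ⟨u, hu⟩ * φ ⟨a, ha⟩ := by
        rw [← map_inv, ← map_mul, ← map_mul]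
        rfl
      rw [h2]
    have triv : ∀ (a : G) (ha : a ∈ N),
        (∀ u ∈ ((Cfsg.upperTriangularGL n (ZMod 2)).comap φ).map N.subtype,
          a⁻¹ * u * a ∈ ((Cfsg.upperTriangularGL n (ZMod 2)).comap φ).map N.subtype → u = 1) →
        ∀ u' ∈ Cfsg.upperTriangularGL n (ZMod 2),
          (φ ⟨a, ha⟩)⁻¹ * u' * φ ⟨a, ha⟩ ∈ Cfsg.upperTriangularGL n (ZMod 2) → u' = 1 := by
      intro a ha hat u' hu' hconj
      obtain ⟨u, rfl⟩ := hsurj u'
      have h3 := hat u.1 ((memU u.1 u.2).mpr hu') ((conjmem a ha u.1 u.2).mpr hconj)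
      have : u = 1 := Subtype.ext h3
      rw [this, map_one]
    obtain ⟨b', hb', hbeq⟩ := Cfsg.Agent.Helper13.BorelF2.opposite_B (φ ⟨g, hg⟩) (φ ⟨h, hh⟩)
      (triv g hg hgt) (triv h hh hht)
    obtain ⟨b, rfl⟩ := hsurj b'
    refine ⟨b.1, (memU b.1 b.2).mpr hb', ?_⟩
    intro u
    by_cases hu : u ∈ N
    · rw [conjmem g hg u hu, conjmem h hh (b.1 * u * b.1⁻¹) (N.mul_mem (N.mul_mem b.2 hu) (N.inv_mem b.2))]
      have h2 : φ ⟨b.1 * u * b.1⁻¹, N.mul_mem (N.mul_mem b.2 hu) (N.inv_mem b.2)⟩ = φ b * φ ⟨u, hu⟩ * (φ b)⁻¹ := by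
        rw [← map_inv, ← map_mul, ← map_mul]
        rfl
      rw [h2]
      exact hbeq (φ ⟨u, hu⟩)
    · constructor
      · intro h1
        exfalso
        apply hu
        have h3 := hUN h1
        have : u = g * (g⁻¹ * u * g) * g⁻¹ := by group
        rw [this]
        exact N.mul_mem (N.mul_mem hg h3) (N.inv_mem hg)
      · intro h1
        exfalso
        apply hu
        have h3 := hUN h1
        have : u = b.1⁻¹ * (h * (h⁻¹ * (b.1 * u * b.1⁻¹) * h) * h⁻¹) * b.1 := by group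
        rw [this]
        exact N.mul_mem (N.mul_mem (N.inv_mem b.2) (N.mul_mem (N.mul_mem hh h3) (N.inv_mem hh))) b.2

end Cfsg.Agent.S2486
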