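import Cfsg.Statements.S2496
import Mathlib
import Cfsg.Agent.Helper13.S2496ASM

set_option autoImplicit false
open Cfsg

namespace Cfsg.Agent.S2496

open Cfsg.Agent.S2496P Cfsg.Agent.S2496P.ASM

/-- Let q be an odd prime power, n ≥ 4 even, and U = PSU(n,q) (realised over the field with q² elements). Then U has an element of order q^(n/2) + (−1)^(n/2) — that is, q^(n/2) + 1 when n/2 is even and q^(n/2) − 1 when n/2 is odd — if and only if the 2-part of n exceeds the 2-part of q + 1. -/
theorem result {F : Type*} [Field F] [Fintype F] {q : ℕ} (hF : Fintype.card F = q ^ 2) (hodd : Odd q)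
    {n : ℕ} (hn : 4 ≤ n) (heven : Even n) :
    (∃ g : Cfsg.PSU n F q, orderOf g = if Even (n / 2) then q ^ (n / 2) + 1 else q ^ (n / 2) - 1) ↔
      padicValNat 2 (q + 1) < padicValNat 2 n := by
  classical
  obtain ⟨p, hp⟩ := CharP.exists F
  have := hp
  have hpp : Fact p.Prime := ⟨CharP.char_is_prime F p⟩
  obtain ⟨k, -, hk⟩ := FiniteField.card F p
  -- `q` is a power of `p`
  obtain ⟨f, -, hq⟩ : ∃ f ≤ (k : ℕ), q = p ^ f := by
    apply (Nat.dvd_prime_pow hpp.out).mp
    rw [← hk, hF]
    exact dvd_pow_self q two_ne_zero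
  have hq3 : 3 ≤ q := by
    have h2 : 2 ≤ Fintype.card F := Fintype.one_lt_card
    rw [hF] at h2
    have hq0 : q ≠ 0 := by
      rintro rfl
      omega
    have hq1 : q ≠ 1 := by
      rintro rfl
      omega
    rcases hodd with ⟨j, hj⟩
    omega
  obtain ⟨h, hh⟩ := id heven
  have hn2 : n = 2 * h := by omega
  subst hn2
  have hdiv : 2 * h / 2 = h := by omega
  have hh2 : 2 ≤ h := by omega
  have : NeZero h := ⟨by omega⟩
  let K := FiniteField.Extension F p h
  have hK : Module.finrank F K = h := FiniteField.finrank_extension F p h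
  have : CharP K p := charP_of_injective_algebraMap (algebraMap F K).injective p
  have key := e_dvd_iff q h hq3 hodd hh2
  rw [hdiv, ← key]
  constructor
  · rintro ⟨g, hg⟩
    exact dvd_of_orderOf (K := K) hq hF hK rfl hh2 hq3 hodd g hg
  · intro hdvd
    exact exists_orderOf_of_dvd (K := K) hq hF hK rfl (by omega) (by omega) _ hdvd

end Cfsg.Agent.S2496
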