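import Mathlib
import Cfsg.Statements.S2505

set_option autoImplicit false
set_option linter.style.haveILetI false

namespace Cfsg.Agent.S2505

/-- the maximal product of a partition of `n`. -/
def g : ℕ → ℕ
  | 0 => 1
  | 1 => 1
  | 2 => 2
  | 3 => 3
  | 4 => 4
  | (n + 5) => 3 * g (n + 2)

theorem g_add_five (n : ℕ) : g (n + 5) = 3 * g (n + 2) := by
  rw [g]

theorem g_props : ∀ n, 0 < g n ∧ g n ≤ g (n + 1) ∧ 2 * g n ≤ g (n + 2) ∧ 3 * g n ≤ g (n + 3)
  | 0 => by decide
  | 1 => by decide
  | 2 => by decide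
  | 3 => by decide
  | 4 => by decide
  | (n + 5) => by
    have h := g_props (n + 2)
    have e0 : g (n + 5) = 3 * g (n + 2) := g_add_five n
    have e1 : g (n + 5 + 1) = 3 * g (n + 2 + 1) := g_add_five (n + 1)
    have e2 : g (n + 5 + 2) = 3 * g (n + 2 + 2) := g_add_five (n + 2)
    have e3 : g (n + 5 + 3) = 3 * g (n + 2 + 3) := g_add_five (n + 3)
    rw [e0, e1, e2, e3]
    omega

theorem g_mul : ∀ m : ℕ, 1 ≤ m → ∀ r, m * g r ≤ g (m + r) := by
  intro m
  induction m using Nat.strong_induction_on with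
  | _ m ih =>
    intro hm r
    obtain ⟨h0, h1, h2, h3⟩ := g_props r
    rcases Nat.lt_or_ge m 5 with h5 | h5
    · interval_cases m
      · rw [one_mul, add_comm]; exact h1
      · rw [add_comm]; exact h2
      · rw [add_comm]; exact h3
      · have h2' := (g_props (r + 2)).2.2.1
        rw [show 4 + r = r + 2 + 2 by ring]
        omega
    · have h6 := ih (m - 3) (by omega) (by omega) r
      have h7 := (g_props (m - 3 + r)).2.2.2
      rw [show m + r = m - 3 + r + 3 by omega]
      have h8 : m * g r ≤ 3 * ((m - 3) * g r) := by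
        rw [← mul_assoc]
        exact Nat.mul_le_mul_right _ (by omega)
      omega

theorem prod_le_g {ι : Type*} (s : Finset ι) (f : ι → ℕ) (hf : ∀ i ∈ s, 1 ≤ f i) :
    ∏ i ∈ s, f i ≤ g (∑ i ∈ s, f i) := by
  classical
  induction s using Finset.induction_on with
  | empty => simp [g]
  | insert a s ha ih =>
    rw [Finset.prod_insert ha, Finset.sum_insert ha]
    have h1 := ih (fun i hi => hf i (Finset.mem_insert_of_mem hi))
    have h2 := g_mul (f a) (hf a (Finset.mem_insert_self a s)) (∑ i ∈ s, f i)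
    calc f a * ∏ i ∈ s, f i ≤ f a * g (∑ i ∈ s, f i) := Nat.mul_le_mul_left _ h1
      _ ≤ _ := h2

theorem g_three_mul (j : ℕ) : g (3 * (j + 1)) = 3 ^ (j + 1) := by
  induction j with
  | zero => decide
  | succ j ih =>
    rw [show 3 * (j + 1 + 1) = (3 * j + 1) + 5 by ring, g_add_five,
      show 3 * j + 1 + 2 = 3 * (j + 1) by ring, ih]
    ring

theorem g_three_mul_add_one (j : ℕ) : g (3 * (j + 1) + 1) = 4 * 3 ^ j := by
  induction j with
  | zero => decide
  | succ j ih =>
    rw [show 3 * (j + 1 + 1) + 1 = (3 * j + 2) + 5 by ring, g_add_five,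
      show 3 * j + 2 + 2 = 3 * (j + 1) + 1 by ring, ih]
    ring

theorem g_three_mul_add_two (j : ℕ) : g (3 * j + 2) = 2 * 3 ^ j := by
  induction j with
  | zero => decide
  | succ j ih =>
    rw [show 3 * (j + 1) + 2 = (3 * j) + 5 by ring, g_add_five, ih]
    ring

theorem card_abelian_le {α : Type*} [Fintype α] [DecidableEq α] (A : Subgroup (Equiv.Perm α))
    (hA : IsMulCommutative A) : Nat.card A ≤ g (Fintype.card α) := by
  classical
  let Ω := MulAction.orbitRel.Quotient A α
  haveI : Fintype Ω := Fintype.ofFinite Ω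
  let Ψ : A → (∀ ω : Ω, MulAction.orbit A (Quotient.out ω)) :=
    fun a ω => ⟨a • Quotient.out ω, MulAction.mem_orbit _ _⟩
  have hΨ : Function.Injective Ψ := by
    intro a b hab
    apply Subtype.ext
    ext x
    have hx : (Quotient.out (Quotient.mk'' x : Ω)) ∈ MulAction.orbit A x := by
      have := Quotient.mk_out' (s₁ := MulAction.orbitRel A α) x
      exact this
    obtain ⟨c, hc⟩ := hx
    have h1 : a • Quotient.out (Quotient.mk'' x : Ω) = b • Quotient.out (Quotient.mk'' x : Ω) :=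
      congrArg Subtype.val (congrFun hab (Quotient.mk'' x))
    rw [← hc] at h1
    have hcomm : ∀ u v : A, u * v = v * u := fun u v => hA.is_comm.comm u v
    have h2 : c • a • x = c • b • x := by
      rw [smul_smul, smul_smul, hcomm c a, hcomm c b, ← smul_smul, ← smul_smul]
      exact h1
    have h3 := smul_left_cancel c h2
    exact h3
  have h1 : Nat.card A ≤ Nat.card (∀ ω : Ω, MulAction.orbit A (Quotient.out ω)) :=
    Nat.card_le_card_of_injective Ψ hΨ
  rw [Nat.card_pi] at h1
  have h2 : Fintype.card α = ∑ ω : Ω, Nat.card (MulAction.orbit A (Quotient.out ω)) := by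
    rw [← Nat.card_eq_fintype_card, Nat.card_congr (MulAction.selfEquivSigmaOrbits A α),
      Nat.card_sigma]
  rw [h2]
  refine h1.trans (prod_le_g _ _ ?_)
  intro ω _
  haveI : Nonempty (MulAction.orbit A (Quotient.out ω)) :=
    ⟨⟨Quotient.out ω, MulAction.mem_orbit_self _⟩⟩
  exact Nat.card_pos

section construct
variable (k : ℕ) (H : Type) [AddCommGroup H] [Fintype H] [DecidableEq H]

/-- `(ℤ/3)^k × H` acting on `k` triples and `H`. -/
def act : Multiplicative ((Fin k → ZMod 3) × H) →* Equiv.Perm ((Fin k × ZMod 3) ⊕ H) where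
  toFun g :=
    { toFun := Sum.elim (fun p => Sum.inl (p.1, p.2 + (Multiplicative.toAdd g).1 p.1))
        (fun y => Sum.inr (y + (Multiplicative.toAdd g).2))
      invFun := Sum.elim (fun p => Sum.inl (p.1, p.2 - (Multiplicative.toAdd g).1 p.1))
        (fun y => Sum.inr (y - (Multiplicative.toAdd g).2))
      left_inv := by rintro (⟨i, z⟩ | y) <;> simp
      right_inv := by rintro (⟨i, z⟩ | y) <;> simp }
  map_one' := by ext (⟨i, z⟩ | y) <;> simp
  map_mul' := fun g g' => by
    ext (⟨i, z⟩ | y) <;> simp [add_assoc, add_comm, add_left_comm]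

theorem act_injective : Function.Injective (act k H) := by
  rw [injective_iff_map_eq_one]
  intro g hg
  apply Multiplicative.toAdd.injective
  rw [toAdd_one]
  apply Prod.ext
  · funext i
    have h1 := congrArg (fun σ : Equiv.Perm ((Fin k × ZMod 3) ⊕ H) => σ (Sum.inl (i, 0))) hg
    simpa [act] using h1
  · have h1 := congrArg (fun σ : Equiv.Perm ((Fin k × ZMod 3) ⊕ H) => σ (Sum.inr 0)) hg
    simpa [act] using h1

theorem exists_abelian (n : ℕ) (hn : n = 3 * k + Fintype.card H) :
    ∃ A : Subgroup (Equiv.Perm (Fin n)), IsMulCommutative A ∧ Nat.card A = 3 ^ k * Fintype.card H := by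
  classical
  have hcard : Fintype.card ((Fin k × ZMod 3) ⊕ H) = n := by
    rw [Fintype.card_sum, Fintype.card_prod, Fintype.card_fin, ZMod.card, hn, mul_comm]
  let e : (Fin k × ZMod 3) ⊕ H ≃ Fin n := Fintype.equivFinOfCardEq hcard
  let f : Multiplicative ((Fin k → ZMod 3) × H) →* Equiv.Perm (Fin n) :=
    (Equiv.permCongrHom e).toMonoidHom.comp (act k H)
  have hf : Function.Injective f := (Equiv.permCongrHom e).injective.comp (act_injective k H)
  refine ⟨f.range, ⟨⟨?_⟩⟩, ?_⟩
  · rintro ⟨x, c, rfl⟩ ⟨y, c', rfl⟩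
    apply Subtype.ext
    show f c * f c' = f c' * f c
    rw [← map_mul, ← map_mul, mul_comm]
  · rw [← Nat.card_congr (MonoidHom.ofInjective hf).toEquiv, Nat.card_congr Multiplicative.toAdd,
      Nat.card_eq_fintype_card, Fintype.card_prod, Fintype.card_fun, ZMod.card, Fintype.card_fin]

end construct

/-- The largest order of an abelian subgroup of the symmetric group of degree n is 3^k when n = 3k, 4·3^(k−1) when n = 3k + 1, and 2·3^k when n = 3k + 2, for every k ≥ 1. -/
theorem result (k : ℕ) (hk : 1 ≤ k) :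
    IsGreatest {c : ℕ | ∃ A : Subgroup (Equiv.Perm (Fin (3 * k))), IsMulCommutative A ∧ Nat.card A = c} (3 ^ k) ∧
    IsGreatest {c : ℕ | ∃ A : Subgroup (Equiv.Perm (Fin (3 * k + 1))), IsMulCommutative A ∧ Nat.card A = c}
      (4 * 3 ^ (k - 1)) ∧
    IsGreatest {c : ℕ | ∃ A : Subgroup (Equiv.Perm (Fin (3 * k + 2))), IsMulCommutative A ∧ Nat.card A = c}
      (2 * 3 ^ k) := by
  obtain ⟨j, rfl⟩ : ∃ j, k = j + 1 := ⟨k - 1, by omega⟩
  refine ⟨⟨?_, ?_⟩, ⟨?_, ?_⟩, ⟨?_, ?_⟩⟩
  · obtain ⟨A, hA, hc⟩ := exists_abelian j (ZMod 3) (3 * (j + 1)) (by rw [ZMod.card]; ring)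
    exact ⟨A, hA, by rw [hc, ZMod.card, pow_succ]⟩
  · rintro c ⟨A, hA, rfl⟩
    have := card_abelian_le A hA
    rwa [Fintype.card_fin, g_three_mul] at this
  · obtain ⟨A, hA, hc⟩ := exists_abelian j (ZMod 4) (3 * (j + 1) + 1) (by rw [ZMod.card]; ring)
    exact ⟨A, hA, by rw [hc, ZMod.card, Nat.add_sub_cancel, mul_comm]⟩
  · rintro c ⟨A, hA, rfl⟩
    have := card_abelian_le A hA
    rwa [Fintype.card_fin, g_three_mul_add_one] at this
  · obtain ⟨A, hA, hc⟩ := exists_abelian (j + 1) (ZMod 2) (3 * (j + 1) + 2) (by rw [ZMod.card])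
    exact ⟨A, hA, by rw [hc, ZMod.card, mul_comm]⟩
  · rintro c ⟨A, hA, rfl⟩
    have := card_abelian_le A hA
    rwa [Fintype.card_fin, g_three_mul_add_two] at this

end Cfsg.Agent.S2505
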