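import Mathlib
import Cfsg.Statements.S2504
import Cfsg.Agent.S2505

set_option autoImplicit false
set_option linter.style.haveILetI false

namespace Cfsg.Agent.S2504

open Cfsg.Agent.S2505

/-- the maximal product of a partition of `n` without parts equal to `2`. -/
def gh : ℕ → ℕ
  | 0 => 1
  | 1 => 1
  | 2 => 1
  | 3 => 3
  | 4 => 4
  | 5 => 5
  | 6 => 9
  | 7 => 12
  | 8 => 16
  | (n + 9) => 3 * gh (n + 6)

theorem gh_add_nine (n : ℕ) : gh (n + 9) = 3 * gh (n + 6) := by
  rw [gh]

theorem gh_props : ∀ n, 0 < gh n ∧ gh n ≤ gh (n + 1) ∧ 3 * gh n ≤ gh (n + 3) ∧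
    4 * gh n ≤ gh (n + 4) ∧ 5 * gh n ≤ gh (n + 5)
  | 0 => by decide
  | 1 => by decide
  | 2 => by decide
  | 3 => by decide
  | 4 => by decide
  | 5 => by decide
  | 6 => by decide
  | 7 => by decide
  | 8 => by decide
  | (n + 9) => by
    have h := gh_props (n + 6)
    have e0 : gh (n + 9) = 3 * gh (n + 6) := gh_add_nine n
    have e1 : gh (n + 9 + 1) = 3 * gh (n + 6 + 1) := gh_add_nine (n + 1)
    have e3 : gh (n + 9 + 3) = 3 * gh (n + 6 + 3) := gh_add_nine (n + 3)
    have e4 : gh (n + 9 + 4) = 3 * gh (n + 6 + 4) := gh_add_nine (n + 4)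
    have e5 : gh (n + 9 + 5) = 3 * gh (n + 6 + 5) := gh_add_nine (n + 5)
    rw [e0, e1, e3, e4, e5]
    omega

theorem gh_mul : ∀ m : ℕ, 1 ≤ m → m ≠ 2 → ∀ r, m * gh r ≤ gh (m + r) := by
  intro m
  induction m using Nat.strong_induction_on with
  | _ m ih =>
    intro hm hm2 r
    obtain ⟨h0, h1, h3, h4, h5⟩ := gh_props r
    rcases Nat.lt_or_ge m 6 with h6 | h6
    · interval_cases m
      · rw [one_mul, add_comm]; exact h1
      · exact absurd rfl hm2
      · rw [add_comm]; exact h3
      · rw [add_comm]; exact h4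
      · rw [add_comm]; exact h5
    · have h7 := ih (m - 3) (by omega) (by omega) (by omega) r
      have h8 := (gh_props (m - 3 + r)).2.2.1
      rw [show m + r = m - 3 + r + 3 by omega]
      have h9 : m * gh r ≤ 3 * ((m - 3) * gh r) := by
        rw [← mul_assoc]
        exact Nat.mul_le_mul_right _ (by omega)
      omega

theorem gh_closed (j : ℕ) : gh (3 * j + 8) = 16 * 3 ^ j := by
  induction j with
  | zero => decide
  | succ j ih =>
    rw [show 3 * (j + 1) + 8 = (3 * j + 2) + 9 by ring, gh_add_nine,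
      show 3 * j + 2 + 6 = 3 * j + 8 by ring, ih]
    ring

theorem prod_le_gen {ι : Type*} (P : ℕ → Prop) (G : ℕ → ℕ) (hG0 : 1 ≤ G 0)
    (hG : ∀ m r, P m → m * G r ≤ G (m + r)) (s : Finset ι) (f : ι → ℕ) (hf : ∀ i ∈ s, P (f i)) :
    ∏ i ∈ s, f i ≤ G (∑ i ∈ s, f i) := by
  classical
  induction s using Finset.induction_on with
  | empty => simpa using hG0
  | insert a s ha ih =>
    rw [Finset.prod_insert ha, Finset.sum_insert ha]
    have h1 := ih (fun i hi => hf i (Finset.mem_insert_of_mem hi))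
    have h2 := hG (f a) (∑ i ∈ s, f i) (hf a (Finset.mem_insert_self a s))
    calc f a * ∏ i ∈ s, f i ≤ f a * G (∑ i ∈ s, f i) := Nat.mul_le_mul_left _ h1
      _ ≤ _ := h2

theorem card_abelian_le_gen {α : Type*} [Fintype α] [DecidableEq α] (A : Subgroup (Equiv.Perm α))
    (hA : IsMulCommutative A) (P : ℕ → Prop) (G : ℕ → ℕ) (hG0 : 1 ≤ G 0)
    (hG : ∀ m r, P m → m * G r ≤ G (m + r))
    (hP : ∀ x : α, P (Nat.card (MulAction.orbit A x))) : Nat.card A ≤ G (Fintype.card α) := by
  classical
  let Ω := MulAction.orbitRel.Quotient A α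
  haveI : Fintype Ω := Fintype.ofFinite Ω
  let Ψ : A → (∀ ω : Ω, MulAction.orbit A (Quotient.out ω)) :=
    fun a ω => ⟨a • Quotient.out ω, MulAction.mem_orbit _ _⟩
  have hΨ : Function.Injective Ψ := by
    intro a b hab
    apply Subtype.ext
    ext x
    have hx : (Quotient.out (Quotient.mk'' x : Ω)) ∈ MulAction.orbit A x := by
      have := Quotient.mk_out' (s₁ := MulAction.orbitRel A α) x
      exact this
    obtain ⟨c, hc⟩ := hx
    have h1 : a • Quotient.out (Quotient.mk'' x : Ω) = b • Quotient.out (Quotient.mk'' x : Ω) :=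
      congrArg Subtype.val (congrFun hab (Quotient.mk'' x))
    rw [← hc] at h1
    have hcomm : ∀ u v : A, u * v = v * u := fun u v => hA.is_comm.comm u v
    have h2 : c • a • x = c • b • x := by
      rw [smul_smul, smul_smul, hcomm c a, hcomm c b, ← smul_smul, ← smul_smul]
      exact h1
    have h3 := smul_left_cancel c h2
    exact h3
  have h1 : Nat.card A ≤ Nat.card (∀ ω : Ω, MulAction.orbit A (Quotient.out ω)) :=
    Nat.card_le_card_of_injective Ψ hΨ
  rw [Nat.card_pi] at h1
  have h2 : Fintype.card α = ∑ ω : Ω, Nat.card (MulAction.orbit A (Quotient.out ω)) := by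
    rw [← Nat.card_eq_fintype_card, Nat.card_congr (MulAction.selfEquivSigmaOrbits A α),
      Nat.card_sigma]
  rw [h2]
  exact h1.trans (prod_le_gen P G hG0 hG _ _ (fun ω _ => hP _))

theorem card_le_of_orbit_two {α : Type*} [Fintype α] [DecidableEq α] (A : Subgroup (Equiv.Perm α))
    (hA : IsMulCommutative A) (hAalt : A ≤ alternatingGroup α) (x : α)
    (hx : Nat.card (MulAction.orbit A x) = 2) : Nat.card A ≤ g (Fintype.card α - 2) := by
  classical
  let S : SubMulAction A α :=
    { carrier := {y | ¬ (y ∈ MulAction.orbit A x)}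
      smul_mem' := by
        intro c y hy hcy
        apply hy
        have h1 : MulAction.orbit A (c • y) = MulAction.orbit A x :=
          (MulAction.orbit_eq_iff).mpr hcy
        rw [MulAction.orbit_smul] at h1
        rw [← h1]
        exact MulAction.mem_orbit_self y }
  let ρ : A →* Equiv.Perm S := MulAction.toPermHom A S
  have hρ : Function.Injective ρ := by
    rw [injective_iff_map_eq_one]
    intro a ha
    by_contra hne
    have hne' : (a : Equiv.Perm α) ≠ 1 := fun h => hne (Subtype.ext h)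
    have hfix : ∀ y : α, y ∉ MulAction.orbit A x → (a : Equiv.Perm α) y = y := by
      intro y hy
      have h1 := congrArg (fun σ : Equiv.Perm S => ((σ ⟨y, hy⟩ : S) : α)) ha
      exact h1
    have hsub : (a : Equiv.Perm α).support ⊆ (MulAction.orbit A x).toFinset := by
      intro y hy
      rw [Set.mem_toFinset]
      by_contra hy'
      exact (Equiv.Perm.mem_support.mp hy) (hfix y hy')
    have hcard : (a : Equiv.Perm α).support.card ≤ 2 := by
      have := Finset.card_le_card hsub
      rwa [Set.toFinset_card, ← Nat.card_eq_fintype_card, hx] at this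
    have h2 := Equiv.Perm.two_le_card_support_of_ne_one hne'
    have h3 : (a : Equiv.Perm α).support.card = 2 := le_antisymm hcard h2
    have h4 := (Equiv.Perm.card_support_eq_two.mp h3).sign_eq
    have h5 : Equiv.Perm.sign (a : Equiv.Perm α) = 1 :=
      Equiv.Perm.mem_alternatingGroup.mp (hAalt a.2)
    rw [h5] at h4
    exact absurd h4 (by decide)
  have h1 : Nat.card A = Nat.card ρ.range := Nat.card_congr (MonoidHom.ofInjective hρ).toEquiv
  have hcomm : IsMulCommutative ρ.range := by
    refine ⟨⟨?_⟩⟩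
    rintro ⟨u, c, rfl⟩ ⟨v, c', rfl⟩
    apply Subtype.ext
    show ρ c * ρ c' = ρ c' * ρ c
    rw [← map_mul, ← map_mul, hA.is_comm.comm c c']
  have h2 := card_abelian_le ρ.range hcomm
  have h3 : Fintype.card S = Fintype.card α - 2 := by
    have h4 := Fintype.card_subtype_compl (fun y => y ∈ MulAction.orbit A x)
    have h5 : Fintype.card {y // y ∈ MulAction.orbit A x} = 2 := by
      rw [← Nat.card_eq_fintype_card]; exact hx
    rw [h5] at h4
    rw [← h4]
    exact Fintype.card_congr (Equiv.refl _)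
  rw [h1]
  rw [h3] at h2
  exact h2

theorem card_alt_abelian_le {α : Type*} [Fintype α] [DecidableEq α] (A : Subgroup (Equiv.Perm α))
    (hA : IsMulCommutative A) (hAalt : A ≤ alternatingGroup α) :
    Nat.card A ≤ max (g (Fintype.card α - 2)) (gh (Fintype.card α)) := by
  classical
  by_cases h : ∃ x : α, Nat.card (MulAction.orbit A x) = 2
  · obtain ⟨x, hx⟩ := h
    exact (card_le_of_orbit_two A hA hAalt x hx).trans (le_max_left _ _)
  · push Not at h
    refine le_trans ?_ (le_max_right _ _)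
    apply card_abelian_le_gen A hA (fun m => 1 ≤ m ∧ m ≠ 2) gh (by decide)
    · intro m r hm
      exact gh_mul m hm.1 hm.2 r
    · intro x
      refine ⟨?_, h x⟩
      haveI : Nonempty (MulAction.orbit A x) := ⟨⟨x, MulAction.mem_orbit_self _⟩⟩
      exact Nat.card_pos

section construct

theorem units_pow_three (u : ℤˣ) (h : u ^ 3 = 1) : u = 1 := by
  revert h; revert u; decide

theorem units_pow_even (u : ℤˣ) (n : ℕ) (hn : Even n) : u ^ n = 1 := by
  obtain ⟨m, rfl⟩ := hn
  rw [pow_add, ← mul_pow, Int.units_mul_self, one_pow]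

theorem sign_addRight_zmod3 : ∀ h : ZMod 3, Equiv.Perm.sign (Equiv.addRight h) = 1 := by decide

theorem sign_addRight_prod {H₁ H₂ : Type} [AddCommGroup H₁] [Fintype H₁] [DecidableEq H₁]
    [AddCommGroup H₂] [Fintype H₂] [DecidableEq H₂] (h1 : Even (Fintype.card H₁))
    (h2 : Even (Fintype.card H₂)) (h : H₁ × H₂) : Equiv.Perm.sign (Equiv.addRight h) = 1 := by
  have e : Equiv.addRight h = (Equiv.prodCongrLeft (fun _ : H₂ => Equiv.addRight h.1)) *
      (Equiv.prodCongrRight (fun _ : H₁ => Equiv.addRight h.2)) := by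
    ext ⟨a, b⟩ <;> simp
  rw [e, map_mul, Equiv.Perm.sign_prodCongrLeft, Equiv.Perm.sign_prodCongrRight,
    Finset.prod_const, Finset.prod_const, Finset.card_univ, Finset.card_univ,
    units_pow_even _ _ h1, units_pow_even _ _ h2, one_mul]

variable (k : ℕ) (H : Type) [AddCommGroup H] [Fintype H] [DecidableEq H]

theorem sign_act (hH : ∀ h : H, Equiv.Perm.sign (Equiv.addRight h) = 1)
    (x : Multiplicative ((Fin k → ZMod 3) × H)) : Equiv.Perm.sign (act k H x) = 1 := by
  have hx : x = Multiplicative.ofAdd (((Multiplicative.toAdd x).1, (0 : H)) : (Fin k → ZMod 3) × H) *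
      Multiplicative.ofAdd (((0 : Fin k → ZMod 3), (Multiplicative.toAdd x).2) :
        (Fin k → ZMod 3) × H) := by
    rw [← ofAdd_add]
    simp
  rw [hx, map_mul, map_mul]
  have h1 : Equiv.Perm.sign (act k H (Multiplicative.ofAdd
      (((Multiplicative.toAdd x).1, (0 : H)) : (Fin k → ZMod 3) × H))) = 1 := by
    apply units_pow_three
    rw [← map_pow, ← map_pow, ← ofAdd_nsmul]
    have h3 : (3 : ℕ) • (((Multiplicative.toAdd x).1, (0 : H)) : (Fin k → ZMod 3) × H) = 0 := by
      apply Prod.ext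
      · funext i
        have : ∀ z : ZMod 3, 3 • z = 0 := by decide
        simpa using this _
      · simp
    rw [h3, ofAdd_zero, map_one, map_one]
  have h2 : act k H (Multiplicative.ofAdd (((0 : Fin k → ZMod 3), (Multiplicative.toAdd x).2) :
      (Fin k → ZMod 3) × H)) = Equiv.sumCongr (Equiv.refl _)
        (Equiv.addRight (Multiplicative.toAdd x).2) := by
    ext (p | y) <;> simp [act]
  rw [h1, h2, Equiv.Perm.sign_sumCongr, Equiv.Perm.sign_refl, hH]
  simp

end construct

theorem exists_of_hom {Γ : Type} [CommGroup Γ] [Finite Γ] {X : Type} [Fintype X] [DecidableEq X]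
    (φ : Γ →* Equiv.Perm X) (hφ : Function.Injective φ)
    (hsign : ∀ x, Equiv.Perm.sign (φ x) = 1) (n : ℕ) (hn : Fintype.card X = n) :
    ∃ A : Subgroup (alternatingGroup (Fin n)), IsMulCommutative A ∧ Nat.card A = Nat.card Γ := by
  classical
  let e : X ≃ Fin n := Fintype.equivFinOfCardEq hn
  let f₀ : Γ →* Equiv.Perm (Fin n) := (Equiv.permCongrHom e).toMonoidHom.comp φ
  have hf₀ : Function.Injective f₀ := (Equiv.permCongrHom e).injective.comp hφ
  have hmem : ∀ x, f₀ x ∈ alternatingGroup (Fin n) := by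
    intro x
    rw [Equiv.Perm.mem_alternatingGroup]
    show Equiv.Perm.sign (e.permCongr (φ x)) = 1
    rw [Equiv.Perm.sign_permCongr, hsign]
  let f : Γ →* alternatingGroup (Fin n) := f₀.codRestrict _ hmem
  have hf : Function.Injective f := by
    intro a b hab
    apply hf₀
    exact congrArg Subtype.val hab
  refine ⟨f.range, ⟨⟨?_⟩⟩, ?_⟩
  · rintro ⟨x, c, rfl⟩ ⟨y, c', rfl⟩
    apply Subtype.ext
    show f c * f c' = f c' * f c
    rw [← map_mul, ← map_mul, mul_comm]
  · rw [← Nat.card_congr (MonoidHom.ofInjective hf).toEquiv]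

theorem to_perm {n : ℕ} (A' : Subgroup (alternatingGroup (Fin n))) (hA' : IsMulCommutative A') :
    ∃ A : Subgroup (Equiv.Perm (Fin n)), IsMulCommutative A ∧ A ≤ alternatingGroup (Fin n) ∧
      Nat.card A = Nat.card A' := by
  refine ⟨A'.map (alternatingGroup (Fin n)).subtype, ⟨⟨?_⟩⟩, ?_, ?_⟩
  · rintro ⟨x, a, ha, rfl⟩ ⟨y, b, hb, rfl⟩
    apply Subtype.ext
    show (alternatingGroup (Fin n)).subtype a * (alternatingGroup (Fin n)).subtype b
      = (alternatingGroup (Fin n)).subtype b * (alternatingGroup (Fin n)).subtype a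
    rw [← map_mul, ← map_mul]
    have := hA'.is_comm.comm ⟨a, ha⟩ ⟨b, hb⟩
    have h2 : a * b = b * a := congrArg Subtype.val this
    rw [h2]
  · rintro x ⟨a, -, rfl⟩
    exact a.2
  · exact Subgroup.card_map_of_injective (Subgroup.subtype_injective _)

abbrev V4 : Type := ZMod 2 × ZMod 2

theorem sign_V4 (h : V4) : Equiv.Perm.sign (Equiv.addRight h) = 1 :=
  sign_addRight_prod (by decide) (by decide) h

theorem card_mult (k : ℕ) (H : Type) [AddCommGroup H] [Fintype H] :
    Nat.card (Multiplicative ((Fin k → ZMod 3) × H)) = 3 ^ k * Fintype.card H := by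
  classical
  rw [Nat.card_congr Multiplicative.toAdd,
      Nat.card_eq_fintype_card, Fintype.card_prod, Fintype.card_fun, ZMod.card, Fintype.card_fin]

theorem card_X (k : ℕ) (H : Type) [Fintype H] :
    Fintype.card ((Fin k × ZMod 3) ⊕ H) = 3 * k + Fintype.card H := by
  rw [Fintype.card_sum, Fintype.card_prod, Fintype.card_fin, ZMod.card, mul_comm]

/-- The largest order of an abelian subgroup of the alternating group of degree n is 3^k when n = 3k, 4·3^(k−1) when n = 3k + 1, and 16·3^(k−2) when n = 3k + 2, for every k ≥ 2 (so for all degrees n ≥ 6). -/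
theorem result (k : ℕ) (hk : 2 ≤ k) :
    IsGreatest {c : ℕ | ∃ A : Subgroup (alternatingGroup (Fin (3 * k))), IsMulCommutative A ∧ Nat.card A = c} (3 ^ k) ∧
    IsGreatest {c : ℕ | ∃ A : Subgroup (alternatingGroup (Fin (3 * k + 1))), IsMulCommutative A ∧ Nat.card A = c}
      (4 * 3 ^ (k - 1)) ∧
    IsGreatest {c : ℕ | ∃ A : Subgroup (alternatingGroup (Fin (3 * k + 2))), IsMulCommutative A ∧ Nat.card A = c}
      (16 * 3 ^ (k - 2)) := by
  obtain ⟨j, rfl⟩ : ∃ j, k = j + 2 := ⟨k - 2, by omega⟩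
  refine ⟨⟨?_, ?_⟩, ⟨?_, ?_⟩, ⟨?_, ?_⟩⟩
  · obtain ⟨A, hA, hc⟩ := exists_of_hom (act (j + 1) (ZMod 3)) (act_injective _ _)
      (sign_act _ _ sign_addRight_zmod3) (3 * (j + 2)) (by rw [card_X, ZMod.card]; ring)
    exact ⟨A, hA, by rw [hc, card_mult, ZMod.card]; ring⟩
  · rintro c ⟨A', hA', rfl⟩
    obtain ⟨A, hA, -, hc⟩ := to_perm A' hA'
    have := card_abelian_le A hA
    have e : g (3 * (j + 2)) = 3 ^ (j + 2) := by
      rw [show 3 * (j + 2) = 3 * (j + 1 + 1) by ring, g_three_mul]
    rw [Fintype.card_fin, e] at this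
    rw [← hc]; exact this
  · obtain ⟨A, hA, hc⟩ := exists_of_hom (act (j + 1) V4) (act_injective _ _)
      (sign_act _ _ sign_V4) (3 * (j + 2) + 1) (by rw [card_X]; simp; ring)
    refine ⟨A, hA, ?_⟩
    rw [hc, card_mult]
    simp
    ring
  · rintro c ⟨A', hA', rfl⟩
    obtain ⟨A, hA, -, hc⟩ := to_perm A' hA'
    have := card_abelian_le A hA
    have e : g (3 * (j + 2) + 1) = 4 * 3 ^ (j + 2 - 1) := by
      rw [show 3 * (j + 2) + 1 = 3 * (j + 1 + 1) + 1 by ring, g_three_mul_add_one]
      rfl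
    rw [Fintype.card_fin, e] at this
    rw [← hc]; exact this
  · obtain ⟨A, hA, hc⟩ := exists_of_hom
      ((Equiv.Perm.sumCongrHom _ _).comp (MonoidHom.prodMap (act j V4) (act 0 V4)))
      (Equiv.Perm.sumCongrHom_injective.comp
        (Function.Injective.prodMap (act_injective _ _) (act_injective _ _)))
      (by
        rintro ⟨x, y⟩
        show Equiv.Perm.sign (Equiv.sumCongr (act j V4 x) (act 0 V4 y)) = 1
        rw [Equiv.Perm.sign_sumCongr, sign_act _ _ sign_V4, sign_act _ _ sign_V4, one_mul])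
      (3 * (j + 2) + 2) (by rw [Fintype.card_sum, card_X, card_X]; simp; ring)
    refine ⟨A, hA, ?_⟩
    rw [hc, Nat.card_prod, card_mult, card_mult]
    simp
    ring
  · rintro c ⟨A', hA', rfl⟩
    obtain ⟨A, hA, hAalt, hc⟩ := to_perm A' hA'
    have := card_alt_abelian_le A hA hAalt
    have e1 : g (3 * (j + 2) + 2 - 2) = 3 ^ (j + 1 + 1) := by
      rw [show 3 * (j + 2) + 2 - 2 = 3 * (j + 1 + 1) by omega, g_three_mul]
    have e2 : gh (3 * (j + 2) + 2) = 16 * 3 ^ j := by
      rw [show 3 * (j + 2) + 2 = 3 * j + 8 by ring, gh_closed]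
    rw [Fintype.card_fin, e1, e2] at this
    rw [← hc, Nat.add_sub_cancel]
    refine this.trans (max_le ?_ le_rfl)
    rw [pow_succ, pow_succ]
    have := Nat.pos_of_ne_zero (pow_ne_zero j (by norm_num : (3 : ℕ) ≠ 0))
    omega

end Cfsg.Agent.S2504
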