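import Cfsg.Statements.S2506
import Cfsg.Agent.Helper28.AbAlt6

set_option autoImplicit false
open scoped Pointwise
open Cfsg

namespace Cfsg.Agent.S2506

/-- In the alternating group of any degree, any two abelian subgroups of the largest possible order (among abelian subgroups) are conjugate. -/
theorem result (n : ℕ)
    (A B : Subgroup (alternatingGroup (Fin n))) (hA : IsMulCommutative A) (hB : IsMulCommutative B)
    (hAmax : ∀ C : Subgroup (alternatingGroup (Fin n)), IsMulCommutative C → Nat.card C ≤ Nat.card A)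
    (hBmax : ∀ C : Subgroup (alternatingGroup (Fin n)), IsMulCommutative C → Nat.card C ≤ Nat.card B) :
    ∃ g : alternatingGroup (Fin n), B = MulAut.conj g • A := by
  classical
  have key : ∀ C : Subgroup (alternatingGroup (Fin n)), IsMulCommutative C →
      Helper28.AbAlt.IsAb (C.map (alternatingGroup (Fin n)).subtype) ∧
      (∀ h ∈ C.map (alternatingGroup (Fin n)).subtype, Equiv.Perm.sign h = 1) ∧
      Nat.card (C.map (alternatingGroup (Fin n)).subtype) = Nat.card C := by
    intro C hC
    refine ⟨?_, ?_, Subgroup.card_map_of_injective (Subgroup.subtype_injective _)⟩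
    · rintro _ ⟨a, ha, rfl⟩ _ ⟨b, hb, rfl⟩
      have := hC.is_comm.comm ⟨a, ha⟩ ⟨b, hb⟩
      have h2 : a * b = b * a := congrArg Subtype.val this
      exact congrArg Subtype.val h2
    · rintro _ ⟨a, -, rfl⟩
      exact Equiv.Perm.mem_alternatingGroup.mp a.2
  -- the maximal order is `fA n`
  have hmax : ∀ C : Subgroup (alternatingGroup (Fin n)), IsMulCommutative C →
      (∀ D : Subgroup (alternatingGroup (Fin n)), IsMulCommutative D → Nat.card D ≤ Nat.card C) →
      Nat.card C = Helper28.AbAlt.fA n := by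
    intro C hC hCmax
    obtain ⟨k1, k2, k3⟩ := key C hC
    apply le_antisymm
    · rw [← k3]; exact Helper28.AbAlt.natCard_le_fA k1 k2
    · obtain ⟨H, hHab, hHalt, hHc⟩ := Helper28.AbAlt.Ex_fA n
      have hHle : H ≤ (alternatingGroup (Fin n)).subtype.range := by
        intro h hh
        rw [Subgroup.range_subtype]
        exact Equiv.Perm.mem_alternatingGroup.mpr (hHalt h hh)
      have hD : IsMulCommutative (H.comap (alternatingGroup (Fin n)).subtype) :=
        ⟨⟨fun a b => Subtype.ext (Subtype.ext (hHab _ a.2 _ b.2))⟩⟩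
      have := hCmax _ hD
      have e : Nat.card (H.comap (alternatingGroup (Fin n)).subtype) = Nat.card H := by
        rw [← Subgroup.card_map_of_injective (Subgroup.subtype_injective _),
          Subgroup.map_comap_eq_self hHle]
      rw [e, hHc] at this
      exact this
  have hcA := hmax A hA hAmax
  have hcB := hmax B hB hBmax
  obtain ⟨a1, a2, a3⟩ := key A hA
  obtain ⟨b1, b2, b3⟩ := key B hB
  by_cases hn3 : n < 3
  · -- both are trivial
    have hf : Helper28.AbAlt.fA n = 1 := by
      interval_cases n <;> rfl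
    rw [hf] at hcA hcB
    rw [Subgroup.card_eq_one] at hcA hcB
    refine ⟨1, ?_⟩
    rw [hcA, hcB, Subgroup.smul_bot]
  by_cases hn5 : n = 5
  · subst hn5
    have h5 : Nat.Prime 5 := by norm_num
    haveI : Fact (Nat.Prime 5) := ⟨h5⟩
    have hG : Nat.card (alternatingGroup (Fin 5)) = 60 := by
      rw [Nat.card_eq_fintype_card]
      have := two_mul_card_alternatingGroup (α := Fin 5)
      rw [Fintype.card_perm, Fintype.card_fin] at this
      have e : Nat.factorial 5 = 120 := rfl
      omega
    have hfac : (Nat.card (alternatingGroup (Fin 5))).factorization 5 = 1 := by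
      rw [hG]
      have : (60 : ℕ) = 5 ^ 1 * 12 := by norm_num
      rw [this, Nat.factorization_mul (by norm_num) (by norm_num)]
      simp [Nat.factorization_eq_zero_of_not_dvd, h5.factorization_self]
    have hf : Helper28.AbAlt.fA 5 = 5 := rfl
    rw [hf] at hcA hcB
    let P : Sylow 5 (alternatingGroup (Fin 5)) := Sylow.ofCard A (by rw [hcA, hfac, pow_one])
    let Q : Sylow 5 (alternatingGroup (Fin 5)) := Sylow.ofCard B (by rw [hcB, hfac, pow_one])
    obtain ⟨g, hg⟩ := MulAction.exists_smul_eq (alternatingGroup (Fin 5)) P Q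
    refine ⟨g, ?_⟩
    have := congrArg (fun S : Sylow 5 (alternatingGroup (Fin 5)) => (S : Subgroup (alternatingGroup (Fin 5)))) hg
    simp only [Sylow.coe_subgroup_smul] at this
    exact this.symm
  · obtain ⟨σ, hσ1, hσ⟩ := Helper28.AbAlt.perm_conj (by omega) hn5 a1 b1 a2 b2
      (a3.trans hcA) (b3.trans hcB)
    refine ⟨⟨σ, Equiv.Perm.mem_alternatingGroup.mpr hσ1⟩, ?_⟩
    ext b
    rw [Subgroup.mem_pointwise_smul_iff_inv_smul_mem]
    have e1 : ((MulAut.conj (⟨σ, Equiv.Perm.mem_alternatingGroup.mpr hσ1⟩ :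
        alternatingGroup (Fin n)))⁻¹ • b : alternatingGroup (Fin n)) =
        ⟨σ, Equiv.Perm.mem_alternatingGroup.mpr hσ1⟩⁻¹ * b *
          ⟨σ, Equiv.Perm.mem_alternatingGroup.mpr hσ1⟩ := by
      rw [← map_inv, MulAut.smul_def, MulAut.conj_apply, inv_inv]
    rw [e1]
    have e2 : ∀ c : alternatingGroup (Fin n), ∀ C : Subgroup (alternatingGroup (Fin n)),
        c ∈ C ↔ (c : Equiv.Perm (Fin n)) ∈ C.map (alternatingGroup (Fin n)).subtype := by
      intro c C
      exact (Subgroup.mem_map_iff_mem (Subgroup.subtype_injective _)).symm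
    rw [e2 b B, e2 _ A, hσ]
    have e3 : σ * ((⟨σ, Equiv.Perm.mem_alternatingGroup.mpr hσ1⟩⁻¹ * b *
        ⟨σ, Equiv.Perm.mem_alternatingGroup.mpr hσ1⟩ : alternatingGroup (Fin n)) :
        Equiv.Perm (Fin n)) * σ⁻¹ = (b : Equiv.Perm (Fin n)) := by
      show σ * (σ⁻¹ * (b : Equiv.Perm (Fin n)) * σ) * σ⁻¹ = _
      group
    rw [e3]

end Cfsg.Agent.S2506
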