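import Cfsg.Statements.S2507
import Cfsg.Agent.Helper12.PSL2ClassSizeEven

set_option autoImplicit false
open Cfsg Cfsg.Agent.Helper12

namespace Cfsg.Agent.S2507

/-- Let F be a finite field with q = 2^f ≥ 4 elements. The conjugacy class sizes of PSL(2,F) are exactly 1, q(q − 1), q² − 1 and q(q + 1). -/
theorem result {F : Type*} [Field F] [Fintype F]
    (h2 : 2 ∣ Fintype.card F) (h4 : 4 ≤ Fintype.card F) :
    Set.range (fun g : (Matrix.ProjectiveSpecialLinearGroup (Fin 2) F) => (Subgroup.centralizer ({g} : Set (Matrix.ProjectiveSpecialLinearGroup (Fin 2) F))).index) =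
      {1, Fintype.card F * (Fintype.card F - 1), Fintype.card F ^ 2 - 1, Fintype.card F * (Fintype.card F + 1)} := by
  classical
  have hchar : ringChar F = 2 :=
    FiniteField.even_card_iff_char_two.2 (Nat.mod_eq_zero_of_dvd h2)
  have : CharP F 2 := ringChar.of_eq hchar
  have h20 : (2 : F) = 0 := CharTwo.two_eq_zero
  obtain ⟨k, hk⟩ : ∃ k, Fintype.card F = k + 1 := ⟨Fintype.card F - 1, by omega⟩
  apply Set.Subset.antisymm
  · rintro n ⟨x, rfl⟩
    obtain ⟨g, rfl⟩ := piS_surjective x
    show (Subgroup.centralizer ({piS F g} : Set (Matrix.ProjectiveSpecialLinearGroup (Fin 2) F))).index ∈ _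
    rw [index_centralizer_psl2_even]
    rcases card_conj_even g with h | h | h | h <;> rw [h] <;> simp
  · intro n hn
    simp only [Set.mem_insert_iff, Set.mem_singleton_iff] at hn
    obtain ⟨t₁, ht₁, hr₁⟩ := exists_split_trace_even h4
    obtain ⟨t₀, ht₀, hr₀⟩ := exists_rootCount_eq_zero ht₁ hr₁
    rcases hn with rfl | rfl | rfl | rfl
    · refine ⟨piS F 1, ?_⟩
      show (Subgroup.centralizer ({piS F 1} : Set (Matrix.ProjectiveSpecialLinearGroup (Fin 2) F))).index = _
      rw [index_centralizer_psl2_even, card_conj_one]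
    · refine ⟨piS F (compS t₀), ?_⟩
      show (Subgroup.centralizer ({piS F (compS t₀)} : Set (Matrix.ProjectiveSpecialLinearGroup (Fin 2) F))).index = _
      rw [index_centralizer_psl2_even, card_conj_of_trace_sq_ne _
        (by rw [compS_trace]; exact trace_sq_ne_four_even ht₀), compS_trace, hr₀]
      simp
    · refine ⟨piS F (compS 0), ?_⟩
      show (Subgroup.centralizer ({piS F (compS 0)} : Set (Matrix.ProjectiveSpecialLinearGroup (Fin 2) F))).index = _
      rw [index_centralizer_psl2_even,
        card_conj_of_trace_zero_even _ (compS_not_scalar 0) (compS_trace 0)]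
    · refine ⟨piS F (compS t₁), ?_⟩
      show (Subgroup.centralizer ({piS F (compS t₁)} : Set (Matrix.ProjectiveSpecialLinearGroup (Fin 2) F))).index = _
      rw [index_centralizer_psl2_even, card_conj_of_trace_sq_ne _
        (by rw [compS_trace]; exact trace_sq_ne_four_even ht₁), compS_trace, hr₁, hk,
        Nat.add_sub_cancel]
      ring

end Cfsg.Agent.S2507
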