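import Cfsg.Statements.S2508
import Cfsg.Agent.Helper12.PSL2ClassSizeOdd

set_option autoImplicit false
open Cfsg Cfsg.Agent.Helper12

namespace Cfsg.Agent.S2508

/-- Let F be a finite field with q elements, q odd and q ≥ 7. If q ≡ 1 (mod 4) the conjugacy class sizes of PSL(2,F) are exactly 1, (q² − 1)/2, q(q + 1)/2, q(q − 1) and q(q + 1); if q ≡ 3 (mod 4) they are exactly 1, (q² − 1)/2, q(q − 1)/2, q(q + 1) and q(q − 1). -/
theorem result {F : Type*} [Field F] [Fintype F]
    (hodd : ¬ 2 ∣ Fintype.card F) (h7 : 7 ≤ Fintype.card F) :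
    (Fintype.card F % 4 = 1 →
      Set.range (fun g : (Matrix.ProjectiveSpecialLinearGroup (Fin 2) F) => (Subgroup.centralizer ({g} : Set (Matrix.ProjectiveSpecialLinearGroup (Fin 2) F))).index) =
        {1, (Fintype.card F ^ 2 - 1) / 2, Fintype.card F * (Fintype.card F + 1) / 2,
          Fintype.card F * (Fintype.card F - 1), Fintype.card F * (Fintype.card F + 1)}) ∧
    (Fintype.card F % 4 = 3 →
      Set.range (fun g : (Matrix.ProjectiveSpecialLinearGroup (Fin 2) F) => (Subgroup.centralizer ({g} : Set (Matrix.ProjectiveSpecialLinearGroup (Fin 2) F))).index) =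
        {1, (Fintype.card F ^ 2 - 1) / 2, Fintype.card F * (Fintype.card F - 1) / 2,
          Fintype.card F * (Fintype.card F + 1), Fintype.card F * (Fintype.card F - 1)}) := by
  classical
  have hodd' : Odd (Fintype.card F) := by
    rw [Nat.odd_iff]; omega
  have h2 := two_ne_zero_of_odd_card hodd'
  obtain ⟨k, hk⟩ : ∃ k, Fintype.card F = k + 1 := ⟨Fintype.card F - 1, by omega⟩
  obtain ⟨t₁, ht₁, ht₁', hr₁⟩ := exists_split_trace_odd h2 h7
  obtain ⟨t₀, ht₀, ht₀', hr₀⟩ := exists_nonsplit_trace_odd h2 h7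
  have hidx : ∀ g : Matrix.SpecialLinearGroup (Fin 2) F,
      (Subgroup.centralizer ({piS F g} : Set (Matrix.ProjectiveSpecialLinearGroup (Fin 2) F))).index =
        (normA (g : Matrix (Fin 2) (Fin 2) F)).index := index_centralizer_psl2
  -- witnesses
  have w1 : (normA (((1 : Matrix.SpecialLinearGroup (Fin 2) F)) : Matrix (Fin 2) (Fin 2) F)).index = 1 := by
    apply index_normA_of_scalar
    rw [isScalar2_iff]
    exact ⟨1, by simp⟩
  have w2 : (normA ((compS (2 : F) : Matrix.SpecialLinearGroup (Fin 2) F) : Matrix (Fin 2) (Fin 2) F)).index =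
      (Fintype.card F ^ 2 - 1) / 2 := by
    apply index_normA_of_unip h2 _ (compS_not_scalar 2)
    rw [compS_trace]; norm_num
  have w3 := index_normA_of_trace_zero hodd' (compS (0 : F)) (compS_trace 0)
  have w4 : (normA ((compS t₀ : Matrix.SpecialLinearGroup (Fin 2) F) : Matrix (Fin 2) (Fin 2) F)).index =
      Fintype.card F * (Fintype.card F - 1) := by
    rw [index_normA_of_trace_sq_ne h2 _ (by rw [compS_trace]; exact ht₀)
      (by rw [compS_trace]; exact ht₀'), compS_trace, hr₀]
    simp
  have w5 : (normA ((compS t₁ : Matrix.SpecialLinearGroup (Fin 2) F) : Matrix (Fin 2) (Fin 2) F)).index =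
      Fintype.card F * (Fintype.card F + 1) := by
    rw [index_normA_of_trace_sq_ne h2 _ (by rw [compS_trace]; exact ht₁)
      (by rw [compS_trace]; exact ht₁'), compS_trace, hr₁, hk, Nat.add_sub_cancel]
    ring
  constructor
  · intro h4
    apply Set.Subset.antisymm
    · rintro n ⟨x, rfl⟩
      obtain ⟨g, rfl⟩ := piS_surjective x
      show (Subgroup.centralizer ({piS F g} : Set (Matrix.ProjectiveSpecialLinearGroup (Fin 2) F))).index ∈ _
      rw [hidx]
      rcases index_normA_cases hodd' g with h | h | h | h | h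
      · rw [h]; simp
      · rw [h]; simp
      · rw [h.1 h4]; simp
      · rw [h]; simp
      · rw [h]; simp
    · intro n hn
      simp only [Set.mem_insert_iff, Set.mem_singleton_iff] at hn
      rcases hn with rfl | rfl | rfl | rfl | rfl
      · exact ⟨piS F 1, (hidx 1).trans w1⟩
      · exact ⟨piS F (compS 2), (hidx _).trans w2⟩
      · exact ⟨piS F (compS 0), (hidx _).trans (w3.1 h4)⟩
      · exact ⟨piS F (compS t₀), (hidx _).trans w4⟩
      · exact ⟨piS F (compS t₁), (hidx _).trans w5⟩
  · intro h4
    apply Set.Subset.antisymm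
    · rintro n ⟨x, rfl⟩
      obtain ⟨g, rfl⟩ := piS_surjective x
      show (Subgroup.centralizer ({piS F g} : Set (Matrix.ProjectiveSpecialLinearGroup (Fin 2) F))).index ∈ _
      rw [hidx]
      rcases index_normA_cases hodd' g with h | h | h | h | h
      · rw [h]; simp
      · rw [h]; simp
      · rw [h.2 h4]; simp
      · rw [h]; simp
      · rw [h]; simp
    · intro n hn
      simp only [Set.mem_insert_iff, Set.mem_singleton_iff] at hn
      rcases hn with rfl | rfl | rfl | rfl | rfl
      · exact ⟨piS F 1, (hidx 1).trans w1⟩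
      · exact ⟨piS F (compS 2), (hidx _).trans w2⟩
      · exact ⟨piS F (compS 0), (hidx _).trans (w3.2 h4)⟩
      · exact ⟨piS F (compS t₁), (hidx _).trans w5⟩
      · exact ⟨piS F (compS t₀), (hidx _).trans w4⟩

end Cfsg.Agent.S2508
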