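import Cfsg.Statements.S2512
import Cfsg.Agent.Helper28.S2512ASM
import Cfsg.Agent.Helper28.S2512EX
import Cfsg.Agent.Helper18.S2510CHARP

set_option autoImplicit false
open Cfsg

namespace Cfsg.Agent.S2512

/-- Let F be a finite field of odd order q = p^a, n ≥ 2 (with q ≥ 3 automatic), and L = PSp(2n, F). Then for every m the direct product L × L × L × (ℤ/2)^m has the same set of element orders as L × L × L; and if 2n − 1 is not a power of p, then already L × L × (ℤ/2)^m has the same set of element orders as L × L. -/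
theorem result {F : Type*} [Field F] [Fintype F] (p a n m : ℕ) (hp : p.Prime) (ha : 1 ≤ a) (hF : Fintype.card F = p ^ a) (hodd : Odd (Fintype.card F))
    (hn : 2 ≤ n) :
    Set.range (orderOf : Cfsg.PSp n F × Cfsg.PSp n F × Cfsg.PSp n F × Multiplicative (Fin m → ZMod 2) → ℕ) = Set.range (orderOf : Cfsg.PSp n F × Cfsg.PSp n F × Cfsg.PSp n F → ℕ) ∧
    ((¬ ∃ j : ℕ, 2 * n - 1 = p ^ j) →
      Set.range (orderOf : Cfsg.PSp n F × Cfsg.PSp n F × Multiplicative (Fin m → ZMod 2) → ℕ) = Set.range (orderOf : Cfsg.PSp n F × Cfsg.PSp n F → ℕ)) := by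
  have : Fact p.Prime := ⟨hp⟩
  have : CharP F p := Cfsg.Agent.S2510P.charP_of_card hp a hF
  have hp2 : p ≠ 2 := by
    rintro rfl
    rw [hF] at hodd
    exact (Nat.not_even_iff_odd.mpr hodd) ((Nat.even_pow' (by omega)).mpr even_two)
  have hn1 : 1 ≤ n := by omega
  exact Cfsg.Agent.SpecAbsorbSp.main p a (p ^ a) n m hp hp2 ha rfl hn
    (fun x _ hxo => Cfsg.Agent.S2512P.ASM.good_or_bad hp2 ha rfl hF hn1 x hxo)
    (fun A hA => Cfsg.Agent.S2512P.exists_orderOf_torus hp2 ha rfl hF hn1 A hA)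
    (fun d c k a' hdc hd hc ha' hadvd hk =>
      Cfsg.Agent.S2512P.exists_orderOf_mixed hp2 ha rfl hF d c k a' hdc hd hc ha' hadvd hk)

end Cfsg.Agent.S2512
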