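import Cfsg.Statements.S2513
import Cfsg.Agent.Helper4.SpecStabC

set_option autoImplicit false
open Cfsg

namespace Cfsg.Agent.S2513

open Cfsg.Agent.Helper4.SpecStab in
/-- Let F be the field with two elements, n ≥ 2, L = PSL(n, F) and k₀ = ⌊(n + 3)/2⌋. Then for every k ≥ k₀ the direct product of k copies of L has the same set of element orders as the direct product of k₀ copies of L. -/
theorem result {F : Type*} [Field F] [Fintype F] (hF : Fintype.card F = 2) (n k : ℕ) (hn : 2 ≤ n) (hk : (n + 3) / 2 ≤ k) :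
    Set.range (orderOf : (Fin k → Matrix.ProjectiveSpecialLinearGroup (Fin n) F) → ℕ) = Set.range (orderOf : (Fin ((n + 3) / 2) → Matrix.ProjectiveSpecialLinearGroup (Fin n) F) → ℕ) := by
  classical
  haveI : Finite (Matrix.ProjectiveSpecialLinearGroup (Fin n) F) := by
    unfold Matrix.ProjectiveSpecialLinearGroup
    infer_instance
  set E : Set ℕ := Set.range (orderOf : Matrix.ProjectiveSpecialLinearGroup (Fin n) F → ℕ) with hE
  have hpos : ∀ a ∈ E, 0 < a := by
    rintro a ⟨x, rfl⟩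
    exact orderOf_pos x
  have hdiv : ∀ a ∈ E, ∀ b, b ∣ a → b ∈ E := fun a ha b hb =>
    orderOf_range_dvd_closed a ha (hpos a ha) b hb
  have hsing : ∀ d, 1 ≤ d → d ≤ n → ∀ c, c ∣ 2 ^ d - 1 → c ∈ E := fun d hd1 hdn c hc =>
    singer_mem hF n d hd1 hdn c hc
  have hpp : ∀ l e : ℕ, l.Prime → l ≠ 2 → 1 ≤ e → l ^ e ∈ E →
      ∃ d, 1 ≤ d ∧ d ≤ n ∧ l ^ e ∣ 2 ^ d - 1 := fun l e hl hl2 he h =>
    pp_bound hF n l e hl hl2 he h
  apply Set.eq_of_subset_of_subset
  · rintro m ⟨x, rfl⟩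
    obtain ⟨b, hbE, hb⟩ := lcm_reduce n hn E hpos hdiv hsing hpp (fun i => orderOf (x i))
      (fun i => ⟨x i, rfl⟩)
    choose y hy using hbE
    refine ⟨y, ?_⟩
    rw [Pi.orderOf, Pi.orderOf, ← hb]
    congr 1
    funext j
    exact hy j
  · rintro m ⟨y, rfl⟩
    refine ⟨fun i => if h : (i : ℕ) < (n + 3) / 2 then y ⟨i, h⟩ else 1, ?_⟩
    rw [Pi.orderOf, Pi.orderOf]
    apply Nat.dvd_antisymm
    · apply Finset.lcm_dvd
      intro i _
      by_cases h : (i : ℕ) < (n + 3) / 2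
      · simp only [h, dif_pos]
        exact Finset.dvd_lcm (Finset.mem_univ _)
      · simp only [h, dif_neg, not_false_eq_true, orderOf_one, one_dvd]
    · apply Finset.lcm_dvd
      intro j _
      have hj : (j : ℕ) < k := lt_of_lt_of_le j.2 hk
      have := Finset.dvd_lcm (f := fun i : Fin k => orderOf
        (if h : (i : ℕ) < (n + 3) / 2 then y ⟨i, h⟩ else 1)) (Finset.mem_univ (⟨j, hj⟩ : Fin k))
      simpa using this

end Cfsg.Agent.S2513
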