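import Mathlib
import Cfsg.Statements.S2514

set_option autoImplicit false
open Cfsg

namespace Cfsg.Agent.S2514

/-- the set of element orders maximal under divisibility -/
def mu (X : Type*) [Group X] : Set ℕ :=
  {n : ℕ | n ∈ Set.range (orderOf : X → ℕ) ∧ ∀ m ∈ Set.range (orderOf : X → ℕ), n ∣ m → m = n}

theorem exists_orderOf_eq_of_dvd {X : Type*} [Group X] [Finite X] (x : X) (d : ℕ)
    (hd : d ∣ orderOf x) : ∃ y : X, orderOf y = d :=
  ⟨x ^ (orderOf x / d), orderOf_pow_orderOf_div (orderOf_pos x).ne' hd⟩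

theorem exists_mu_dvd {X : Type*} [Group X] [Finite X] (x : X) :
    ∃ m ∈ mu X, orderOf x ∣ m := by
  classical
  have hfin : (Set.range (orderOf : X → ℕ)).Finite := Set.finite_range _
  set S : Set ℕ := {m ∈ Set.range (orderOf : X → ℕ) | orderOf x ∣ m} with hS
  have hSfin : S.Finite := hfin.subset (fun m hm => hm.1)
  have hSne : S.Nonempty := ⟨orderOf x, ⟨x, rfl⟩, dvd_rfl⟩
  obtain ⟨m, hmS, hmax⟩ := hSfin.exists_maximal hSne
  refine ⟨m, ⟨hmS.1, ?_⟩, hmS.2⟩
  intro m' hm' hdvd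
  have hm'S : m' ∈ S := ⟨hm', hmS.2.trans hdvd⟩
  obtain ⟨y, rfl⟩ := hm'
  have hle : m ≤ orderOf y := Nat.le_of_dvd (orderOf_pos y) hdvd
  have := hmax hm'S hle
  omega

theorem orderOf_eq_of_pow_iff {A B : Type*} [Monoid A] [Monoid B] (x : A) (y : B)
    (h : ∀ n : ℕ, x ^ n = 1 ↔ y ^ n = 1) : orderOf x = orderOf y :=
  Nat.dvd_antisymm (orderOf_dvd_of_pow_eq_one ((h _).2 (pow_orderOf_eq_one y)))
    (orderOf_dvd_of_pow_eq_one ((h _).1 (pow_orderOf_eq_one x)))

theorem pow_eq_one_iff_of_orderOf_eq {A B : Type*} [Monoid A] [Monoid B] (x : A) (y : B)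
    (h : orderOf x = orderOf y) (n : ℕ) : x ^ n = 1 ↔ y ^ n = 1 := by
  rw [← orderOf_dvd_iff_pow_eq_one, ← orderOf_dvd_iff_pow_eq_one, h]

theorem pi_pow_eq_one_iff {ι A : Type*} [Monoid A] (z : ι → A) (n : ℕ) :
    z ^ n = 1 ↔ ∀ i, z i ^ n = 1 := by
  rw [funext_iff]
  simp

theorem main {G H : Type*} [Group G] [Finite G] [Group H] [Finite H] (k' : ℕ)
    (hsub : mu H ⊆ mu G) (hfew : (mu G \ mu H).ncard < k' + 1) :
    Set.range (orderOf : (Fin (k' + 1) → G) → ℕ) =
      Set.range (orderOf : (Fin k' → G) × H → ℕ) := by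
  classical
  ext N
  constructor
  · rintro ⟨z, rfl⟩
    choose m hm hdvd using fun i => exists_mu_dvd (z i)
    by_cases hA : ∃ i, m i ∈ mu H
    · obtain ⟨i, hi⟩ := hA
      obtain ⟨h₀, hh₀⟩ := hi.1
      obtain ⟨h, hh⟩ := exists_orderOf_eq_of_dvd h₀ (orderOf (z i)) (by rw [hh₀]; exact hdvd i)
      refine ⟨(fun j => z (i.succAbove j), h), ?_⟩
      apply orderOf_eq_of_pow_iff
      intro n
      rw [Prod.pow_mk, Prod.mk_eq_one, pi_pow_eq_one_iff, pi_pow_eq_one_iff,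
        Fin.forall_iff_succAbove i, pow_eq_one_iff_of_orderOf_eq h (z i) hh n]
      tauto
    · push Not at hA
      have hD : ∀ i, m i ∈ mu G \ mu H := fun i => ⟨hm i, hA i⟩
      have hDfin : (mu G \ mu H).Finite :=
        (Set.finite_range (orderOf : G → ℕ)).subset (fun n hn => hn.1.1)
      obtain ⟨i, j, hij, hmij⟩ : ∃ i j, i ≠ j ∧ m i = m j := by
        by_contra hcon
        push Not at hcon
        have hinj : Function.Injective m := by
          intro a b hab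
          by_contra hne
          exact hcon a b hne hab
        have h1 : (Set.range m).ncard = k' + 1 := by
          rw [Set.ncard_range_of_injective hinj, Nat.card_eq_fintype_card, Fintype.card_fin]
        have h2 : (Set.range m).ncard ≤ (mu G \ mu H).ncard :=
          Set.ncard_le_ncard (by rintro _ ⟨a, rfl⟩; exact hD a) hDfin
        omega
      obtain ⟨g₀, hg₀⟩ := (hm i).1
      have hlcm : Nat.lcm (orderOf (z i)) (orderOf (z j)) ∣ orderOf g₀ := by
        rw [hg₀]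
        exact Nat.lcm_dvd (hdvd i) (by rw [hmij]; exact hdvd j)
      obtain ⟨g', hg'⟩ := exists_orderOf_eq_of_dvd g₀ _ hlcm
      obtain ⟨l₀, hl₀⟩ := Fin.exists_succAbove_eq (Ne.symm hij)
      refine ⟨(fun l => if i.succAbove l = j then g' else z (i.succAbove l), 1), ?_⟩
      apply orderOf_eq_of_pow_iff
      intro n
      rw [Prod.pow_mk, Prod.mk_eq_one, pi_pow_eq_one_iff, pi_pow_eq_one_iff,
        Fin.forall_iff_succAbove i]
      have hg'n : g' ^ n = 1 ↔ z i ^ n = 1 ∧ z j ^ n = 1 := by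
        rw [← orderOf_dvd_iff_pow_eq_one, ← orderOf_dvd_iff_pow_eq_one,
          ← orderOf_dvd_iff_pow_eq_one, hg']
        exact Nat.lcm_dvd_iff
      constructor
      · rintro ⟨hall, _⟩
        have h0 := hall l₀
        rw [if_pos hl₀, hg'n] at h0
        refine ⟨h0.1, ?_⟩
        intro l
        by_cases hl : i.succAbove l = j
        · rw [hl]; exact h0.2
        · have := hall l
          rwa [if_neg hl] at this
      · rintro ⟨hi, hrest⟩
        refine ⟨?_, one_pow n⟩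
        intro l
        by_cases hl : i.succAbove l = j
        · rw [if_pos hl, hg'n]
          exact ⟨hi, by rw [← hl]; exact hrest l⟩
        · rw [if_neg hl]; exact hrest l
  · rintro ⟨⟨a, h⟩, rfl⟩
    obtain ⟨mh, hmh, hdvdh⟩ := exists_mu_dvd h
    obtain ⟨g₀, hg₀⟩ := (hsub hmh).1
    obtain ⟨g', hg'⟩ := exists_orderOf_eq_of_dvd g₀ (orderOf h) (by rw [hg₀]; exact hdvdh)
    refine ⟨Fin.cons g' a, ?_⟩
    apply orderOf_eq_of_pow_iff
    intro n
    rw [Prod.pow_mk, Prod.mk_eq_one, pi_pow_eq_one_iff, pi_pow_eq_one_iff, Fin.forall_fin_succ]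
    simp only [Fin.cons_zero, Fin.cons_succ]
    rw [pow_eq_one_iff_of_orderOf_eq g' h hg' n]
    tauto

theorem result {G H : Type*} [Group G] [Finite G] [Group H] [Finite H] (k : ℕ) (hk : 1 ≤ k)
    (hsub : {n : ℕ | n ∈ Set.range (orderOf : H → ℕ) ∧ ∀ m ∈ Set.range (orderOf : H → ℕ), n ∣ m → m = n} ⊆ {n : ℕ | n ∈ Set.range (orderOf : G → ℕ) ∧ ∀ m ∈ Set.range (orderOf : G → ℕ), n ∣ m → m = n})
    (hfew : ({n : ℕ | n ∈ Set.range (orderOf : G → ℕ) ∧ ∀ m ∈ Set.range (orderOf : G → ℕ), n ∣ m → m = n} \ {n : ℕ | n ∈ Set.range (orderOf : H → ℕ) ∧ ∀ m ∈ Set.range (orderOf : H → ℕ), n ∣ m → m = n}).ncard < k) :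
    Set.range (orderOf : (Fin k → G) → ℕ) = Set.range (orderOf : (Fin (k - 1) → G) × H → ℕ) := by
  obtain ⟨k', rfl⟩ : ∃ k', k = k' + 1 := ⟨k - 1, by omega⟩
  exact main k' hsub hfew

end Cfsg.Agent.S2514
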