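import Mathlib
import Cfsg.Statements.S2515
import Cfsg.Agent.Helper13.PSL2Spec
import Cfsg.Agent.S3532

set_option autoImplicit false

namespace Cfsg.Agent.S2515

open Cfsg.Agent.Helper12 Cfsg.Agent.Helper13.PSL2Spec

section semid

variable {N K : Type*} [CommGroup N] [Group K] (φ : K →* MulAut N)

/-- if the complement part of `h` acts without fixed points, `h` has the order of its complement
part. -/
theorem orderOf_of_fpf (h : N ⋊[φ] K) (hfpf : ∀ n : N, φ h.right n = n → n = 1) :
    orderOf h = orderOf h.right := by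
  apply Nat.dvd_antisymm
  · apply orderOf_dvd_of_pow_eq_one
    set n := orderOf h.right with hn
    have hr : (h ^ n).right = 1 := by
      rw [← SemidirectProduct.rightHom_eq_right, map_pow, SemidirectProduct.rightHom_eq_right, hn,
        pow_orderOf_eq_one]
    set u := (h ^ n).left with hu
    have hcomm : h ^ n * h = h * h ^ n := by
      rw [← pow_succ, ← pow_succ']
    have hl := congrArg SemidirectProduct.left hcomm
    rw [SemidirectProduct.mul_left, SemidirectProduct.mul_left, hr, map_one, MulAut.one_apply,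
      ← hu] at hl
    have hfix : φ h.right u = u := by
      have : u * h.left = φ h.right u * h.left := by
        rw [hl, mul_comm]
      exact (mul_right_cancel this).symm
    have hu1 : u = 1 := hfpf u hfix
    apply SemidirectProduct.ext
    · rw [← hu, hu1]; rfl
    · rw [hr]; rfl
  · apply orderOf_dvd_of_pow_eq_one
    rw [← SemidirectProduct.rightHom_eq_right, ← map_pow, pow_orderOf_eq_one, map_one]

/-- if the complement part has `a`-th power one and the kernel has exponent `p`, then
`h ^ (a * p) = 1`. -/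
theorem pow_mul_eq_one_of_right (h : N ⋊[φ] K) (a p : ℕ) (hN : ∀ n : N, n ^ p = 1)
    (hk : h.right ^ a = 1) : h ^ (a * p) = 1 := by
  have hr : (h ^ a).right = 1 := by
    rw [← SemidirectProduct.rightHom_eq_right, map_pow, SemidirectProduct.rightHom_eq_right, hk]
  have hh : h ^ a = SemidirectProduct.inl (h ^ a).left := by
    apply SemidirectProduct.ext
    · simp
    · simp [hr]
  rw [pow_mul, hh, ← map_pow, hN, map_one]

end semid

theorem maximal_eq (R T : Set ℕ) (hT : T ⊆ R) (hdiv : ∀ n ∈ R, ∃ t ∈ T, n ∣ t)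
    (hanti : ∀ s ∈ T, ∀ t ∈ T, s ∣ t → s = t) :
    {n | n ∈ R ∧ ∀ m ∈ R, n ∣ m → m = n} = T := by
  ext n
  constructor
  · rintro ⟨hn, hmax⟩
    obtain ⟨t, ht, hnt⟩ := hdiv n hn
    have := hmax t (hT ht) hnt
    rw [← this]
    exact ht
  · intro hn
    refine ⟨hT hn, ?_⟩
    intro m hm hnm
    obtain ⟨t, ht, hmt⟩ := hdiv m hm
    have h1 : n = t := hanti n hn t ht (hnm.trans hmt)
    subst h1
    exact Nat.dvd_antisymm hmt hnm

section field

variable {F : Type*} [Field F]

local notation "SL2" => Matrix.SpecialLinearGroup (Fin 2) F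
local notation "PSL2" => Matrix.ProjectiveSpecialLinearGroup (Fin 2) F
local notation "M2" => Matrix (Fin 2) (Fin 2) F

theorem cayley (A : M2) (hA : A.det = 1) : A * A = A.trace • A - 1 := by
  rw [Matrix.det_fin_two] at hA
  ext i j
  fin_cases i <;> fin_cases j <;>
    simp [Matrix.mul_apply, Fin.sum_univ_two, Matrix.trace_fin_two] <;>
    first | ring1 | linear_combination (-1 : F) * hA

theorem coe_inv_mul (A : SL2) : ((A⁻¹ : SL2) : M2) * (A : M2) = 1 := by
  rw [← Matrix.SpecialLinearGroup.coe_mul, inv_mul_cancel, Matrix.SpecialLinearGroup.coe_one]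

theorem coe_mul_inv (A : SL2) : (A : M2) * ((A⁻¹ : SL2) : M2) = 1 := by
  rw [← Matrix.SpecialLinearGroup.coe_mul, mul_inv_cancel, Matrix.SpecialLinearGroup.coe_one]

variable [CharP F 3]

/-- the Frobenius twist on `SL₂(F)`. -/
noncomputable def frobSL : SL2 →* SL2 := Matrix.SpecialLinearGroup.map (frobenius F 3)

theorem frobSL_apply (t : SL2) (i j : Fin 2) : ((frobSL t : SL2) : M2) i j = (t : M2) i j ^ 3 := by
  simp [frobSL, Matrix.SpecialLinearGroup.map_apply_coe, frobenius_def]

theorem trace_frobSL (t : SL2) : ((frobSL t : SL2) : M2).trace = (t : M2).trace ^ 3 := by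
  rw [Matrix.trace_fin_two, Matrix.trace_fin_two, frobSL_apply, frobSL_apply]
  rw [add_pow_char]

theorem trace_cube (t : SL2) (X : M2) (hX : X ≠ 0) (e : F) (he : e * e = 1)
    (h : (t : M2) * X = e • (X * ((frobSL t : SL2) : M2))) :
    (t : M2).trace ^ 3 = e * (t : M2).trace := by
  set T : M2 := (t : M2) with hT
  set P : M2 := ((frobSL t : SL2) : M2) with hP
  set s := T.trace with hs
  have c1 : T * T = s • T - 1 := cayley T t.2
  have c2 : P * P = s ^ 3 • P - 1 := by
    have := cayley P (frobSL t).2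
    rwa [hP, trace_frobSL, ← hP, ← hT, ← hs] at this
  have h1 : T * T * X = X * P * P := by
    rw [Matrix.mul_assoc, h, Matrix.mul_smul, ← Matrix.mul_assoc, h, Matrix.smul_mul, smul_smul, he,
      one_smul]
  have h2 : T * T * X = (s * e) • (X * P) - X := by
    rw [c1, Matrix.sub_mul, Matrix.smul_mul, h, smul_smul, Matrix.one_mul]
  have h3 : X * P * P = s ^ 3 • (X * P) - X := by
    rw [Matrix.mul_assoc, c2, Matrix.mul_sub, Matrix.mul_smul, Matrix.mul_one]
  have h4 : (s ^ 3 - e * s) • (X * P) = 0 := by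
    rw [sub_smul, mul_comm e s]
    have : s ^ 3 • (X * P) - X = (s * e) • (X * P) - X := by rw [← h3, ← h2, h1]
    have := sub_left_injective this
    rw [this, sub_self]
  have hXP : X * P ≠ 0 := by
    intro h0
    apply hX
    have : X * P * ((frobSL t)⁻¹ : SL2) = X := by
      rw [Matrix.mul_assoc, hP, coe_mul_inv, Matrix.mul_one]
    rw [← this, h0, Matrix.zero_mul]
  rcases smul_eq_zero.mp h4 with h5 | h5
  · exact sub_eq_zero.mp h5
  · exact absurd h5 hXP

theorem conj_cancel (A B : SL2) (X : M2) :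
    ((A⁻¹ : SL2) : M2) * ((A : M2) * X * ((B⁻¹ : SL2) : M2)) * (B : M2) = X := by
  simp only [Matrix.mul_assoc]
  rw [coe_inv_mul, Matrix.mul_one, ← Matrix.mul_assoc, coe_inv_mul, Matrix.one_mul]

theorem conj_cancel' (A B : SL2) (X : M2) :
    (A : M2) * (((A⁻¹ : SL2) : M2) * X * (B : M2)) * ((B⁻¹ : SL2) : M2) = X := by
  simp only [Matrix.mul_assoc]
  rw [coe_mul_inv, Matrix.mul_one, ← Matrix.mul_assoc, coe_mul_inv, Matrix.one_mul]

/-- the action of `SL₂(F)` on `M₂(F)`: `X ↦ g X φ(g)⁻¹`. -/
noncomputable def rho0 : SL2 →* MulAut (Multiplicative M2) where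
  toFun g :=
    { toFun := fun v => Multiplicative.ofAdd
        ((g : M2) * Multiplicative.toAdd v * (((frobSL g)⁻¹ : SL2) : M2))
      invFun := fun v => Multiplicative.ofAdd
        (((g⁻¹ : SL2) : M2) * Multiplicative.toAdd v * ((frobSL g : SL2) : M2))
      left_inv := fun v => by
        apply Multiplicative.toAdd.injective
        exact conj_cancel g (frobSL g) _
      right_inv := fun v => by
        apply Multiplicative.toAdd.injective
        exact conj_cancel' g (frobSL g) _
      map_mul' := fun v w => by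
        apply Multiplicative.toAdd.injective
        simp [Matrix.mul_add, Matrix.add_mul] }
  map_one' := by
    apply MulEquiv.ext
    intro v
    apply Multiplicative.toAdd.injective
    change ((1 : SL2) : M2) * Multiplicative.toAdd v * (((frobSL 1)⁻¹ : SL2) : M2) =
      Multiplicative.toAdd v
    simp
  map_mul' a b := by
    apply MulEquiv.ext
    intro v
    apply Multiplicative.toAdd.injective
    change ((a * b : SL2) : M2) * Multiplicative.toAdd v * (((frobSL (a * b))⁻¹ : SL2) : M2) =
      (a : M2) * ((b : M2) * Multiplicative.toAdd v * (((frobSL b)⁻¹ : SL2) : M2)) *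
        (((frobSL a)⁻¹ : SL2) : M2)
    rw [map_mul, mul_inv_rev, Matrix.SpecialLinearGroup.coe_mul, Matrix.SpecialLinearGroup.coe_mul]
    simp only [Matrix.mul_assoc]

theorem rho0_apply (g : SL2) (v : Multiplicative M2) :
    rho0 g v = Multiplicative.ofAdd
      ((g : M2) * Multiplicative.toAdd v * (((frobSL g)⁻¹ : SL2) : M2)) := rfl

theorem center_le_ker : Subgroup.center SL2 ≤ (rho0 (F := F)).ker := by
  intro g hg
  rw [Matrix.SpecialLinearGroup.mem_center_iff] at hg
  obtain ⟨r, hr, hg⟩ := hg
  rw [Fintype.card_fin] at hr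
  rw [MonoidHom.mem_ker]
  apply MulEquiv.ext
  intro v
  rw [rho0_apply]
  apply Multiplicative.toAdd.injective
  change (g : M2) * Multiplicative.toAdd v * (((frobSL g)⁻¹ : SL2) : M2) = Multiplicative.toAdd v
  set X := Multiplicative.toAdd v
  have h1 : (g : M2) = r • (1 : M2) := by
    rw [← hg]
    ext i j
    simp [Matrix.scalar, Matrix.diagonal_apply, Matrix.one_apply]
  have h2 : ((frobSL g : SL2) : M2) = r • (1 : M2) := by
    ext i j
    rw [frobSL_apply, h1]
    by_cases hij : i = j
    · subst hij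
      simp only [Matrix.smul_apply, Matrix.one_apply_eq, smul_eq_mul, mul_one]
      rw [pow_succ, hr, one_mul]
    · simp [Matrix.one_apply_ne hij]
  have h3 : (g : M2) * X = X * ((frobSL g : SL2) : M2) := by
    rw [h1, h2]
    simp
  rw [h3, Matrix.mul_assoc, coe_mul_inv, Matrix.mul_one]

/-- the induced action of `PSL₂(F)`. -/
noncomputable def rhoBar : PSL2 →* MulAut (Multiplicative M2) :=
  QuotientGroup.lift (Subgroup.center SL2) rho0 center_le_ker

theorem rhoBar_mk (g : SL2) : rhoBar (QuotientGroup.mk g : PSL2) = rho0 g := rfl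

/-- the sign action. -/
noncomputable def sigma : ℤˣ →* MulAut (Multiplicative M2) where
  toFun ε :=
    { toFun := fun v => Multiplicative.ofAdd (ε • Multiplicative.toAdd v)
      invFun := fun v => Multiplicative.ofAdd (ε⁻¹ • Multiplicative.toAdd v)
      left_inv := fun v => by
        apply Multiplicative.toAdd.injective
        change ε⁻¹ • (ε • Multiplicative.toAdd v) = Multiplicative.toAdd v
        rw [inv_smul_smul]
      right_inv := fun v => by
        apply Multiplicative.toAdd.injective
        change ε • (ε⁻¹ • Multiplicative.toAdd v) = Multiplicative.toAdd v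
        rw [smul_inv_smul]
      map_mul' := fun v w => by
        apply Multiplicative.toAdd.injective
        simp }
  map_one' := by
    apply MulEquiv.ext
    intro v
    apply Multiplicative.toAdd.injective
    change (1 : ℤˣ) • Multiplicative.toAdd v = Multiplicative.toAdd v
    simp
  map_mul' a b := by
    apply MulEquiv.ext
    intro v
    apply Multiplicative.toAdd.injective
    change (a * b) • Multiplicative.toAdd v = a • (b • Multiplicative.toAdd v)
    rw [mul_smul]

theorem sigma_apply (ε : ℤˣ) (v : Multiplicative M2) :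
    sigma ε v = Multiplicative.ofAdd (ε • Multiplicative.toAdd v) := rfl

theorem sigma_neg_one (v : Multiplicative M2) :
    sigma (-1 : ℤˣ) v = Multiplicative.ofAdd (-Multiplicative.toAdd v) := by
  rw [sigma_apply]
  simp

theorem sigma_comm (ε : ℤˣ) (x : PSL2) : Commute (sigma (F := F) ε) (rhoBar x) := by
  obtain ⟨g, rfl⟩ := QuotientGroup.mk_surjective x
  rcases Int.units_eq_one_or ε with rfl | rfl
  · rw [map_one]
    exact Commute.one_left _
  · apply MulEquiv.ext
    intro v
    rw [MulAut.mul_apply, MulAut.mul_apply, rhoBar_mk, sigma_neg_one (rho0 g v), sigma_neg_one v,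
      rho0_apply, rho0_apply]
    apply Multiplicative.toAdd.injective
    simp

/-- the action of `ℤˣ × PSL₂(F)`. -/
noncomputable def psi : ℤˣ × PSL2 →* MulAut (Multiplicative M2) :=
  MonoidHom.noncommCoprod sigma rhoBar sigma_comm

theorem psi_apply (ε : ℤˣ) (g : SL2) (v : Multiplicative M2) :
    psi (ε, (QuotientGroup.mk g : PSL2)) v = Multiplicative.ofAdd
      (ε • ((g : M2) * Multiplicative.toAdd v * (((frobSL g)⁻¹ : SL2) : M2))) := rfl

end field

/-- the group `M₂(F) ⋊ (C₂ × PSL₂(F))`. -/
abbrev HH (F : Type*) [Field F] [CharP F 3] :=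
  Multiplicative (Matrix (Fin 2) (Fin 2) F) ⋊[psi (F := F)]
    (ℤˣ × Matrix.ProjectiveSpecialLinearGroup (Fin 2) F)

section main

variable {F : Type*} [Field F] [CharP F 3]

local notation "SL2" => Matrix.SpecialLinearGroup (Fin 2) F
local notation "PSL2" => Matrix.ProjectiveSpecialLinearGroup (Fin 2) F
local notation "M2" => Matrix (Fin 2) (Fin 2) F

theorem three_eq_zero : (3 : F) = 0 := by
  have := CharP.cast_eq_zero F 3
  exact_mod_cast this

theorem pow_three_eq_one (v : Multiplicative M2) : v ^ 3 = 1 := by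
  apply Multiplicative.toAdd.injective
  rw [toAdd_pow, toAdd_one]
  ext i j
  rw [Matrix.smul_apply, Matrix.zero_apply, nsmul_eq_mul]
  have : ((3 : ℕ) : F) = 0 := CharP.cast_eq_zero F 3
  rw [this, zero_mul]

variable [Fintype F]

/-- the elements with a non-trivial fixed point. -/
theorem fixed_cases (hq : Fintype.card F % 4 = 3) (ε : ℤˣ) (t : SL2) (v : Multiplicative M2)
    (hv1 : v ≠ 1) (hv : psi (ε, (QuotientGroup.mk t : PSL2)) v = v) :
    ((ε, (QuotientGroup.mk t : PSL2)) : ℤˣ × PSL2) ^ 2 = 1 ∨
      ((ε, (QuotientGroup.mk t : PSL2)) : ℤˣ × PSL2) ^ 3 = 1 := by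
  rw [psi_apply] at hv
  set X : M2 := Multiplicative.toAdd v with hX
  have hX0 : X ≠ 0 := by
    intro h0
    apply hv1
    apply Multiplicative.toAdd.injective
    rw [← hX, h0]
    rfl
  have hv' : ε • ((t : M2) * X * (((frobSL t)⁻¹ : SL2) : M2)) = X := by
    have := congrArg Multiplicative.toAdd hv
    rwa [toAdd_ofAdd, ← hX] at this
  set s := (t : M2).trace with hs
  have c1 : (t : M2) * (t : M2) = s • (t : M2) - 1 := cayley _ t.2
  have key : ∀ e : F, e * e = 1 → (t : M2) * X * (((frobSL t)⁻¹ : SL2) : M2) = e • X →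
      s ^ 3 = e * s := by
    intro e he h
    apply trace_cube t X hX0 e he
    have h1 : (t : M2) * X * (((frobSL t)⁻¹ : SL2) : M2) * ((frobSL t : SL2) : M2) =
        (t : M2) * X := by
      rw [Matrix.mul_assoc, coe_inv_mul, Matrix.mul_one]
    rw [← h1, h, Matrix.smul_mul]
  have hsq0 : s = 0 → ((QuotientGroup.mk t : PSL2)) ^ 2 = 1 := by
    intro h0
    apply psl2_mk_pow_eq_one_of_scalar t 2 (-1)
    rw [pow_two, c1, h0, zero_smul, zero_sub, neg_smul, one_smul]
  rcases Int.units_eq_one_or ε with rfl | rfl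
  · rw [one_smul] at hv'
    have h3 := key 1 (one_mul 1) (by rw [hv', one_smul])
    rw [one_mul] at h3
    have h4 : s * ((s - 1) * (s + 1)) = 0 := by linear_combination h3
    rcases mul_eq_zero.mp h4 with h5 | h5
    · left
      rw [Prod.pow_mk, hsq0 h5, one_pow]
      rfl
    · right
      rw [Prod.pow_mk, one_pow]
      have : ((QuotientGroup.mk t : PSL2)) ^ 3 = 1 := by
        rcases mul_eq_zero.mp h5 with h6 | h6
        · have hs1 : s = 1 := by linear_combination h6
          apply psl2_mk_pow_eq_one_of_scalar t 3 (-1)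
          rw [pow_succ, pow_two, c1, hs1, one_smul, Matrix.sub_mul, Matrix.one_mul, c1, hs1, one_smul,
            neg_smul, one_smul]
          abel
        · have hs1 : s = -1 := by linear_combination h6
          apply psl2_mk_pow_eq_one_of_scalar t 3 1
          rw [pow_succ, pow_two, c1, hs1, neg_smul, one_smul, Matrix.sub_mul, Matrix.one_mul,
            Matrix.neg_mul, c1, hs1, neg_smul, one_smul, one_smul]
          abel
      rw [this]
      rfl
  · have h3 := key (-1) (by ring) (by
      rw [Units.neg_smul, one_smul] at hv'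
      rw [neg_smul, one_smul]
      exact neg_eq_iff_eq_neg.mp hv')
    have h4 : s * (s * s + 1) = 0 := by linear_combination h3
    rcases mul_eq_zero.mp h4 with h5 | h5
    · left
      rw [Prod.pow_mk, hsq0 h5]
      rfl
    · exfalso
      have h6 : IsSquare (-1 : F) := ⟨s, by linear_combination -h5⟩
      rw [FiniteField.isSquare_neg_one_iff] at h6
      exact h6 hq

variable {m₁ m₂ : ℕ}

theorem order_cases (hP : Params F 3 2 m₁ m₂) (hq : Fintype.card F % 4 = 3) (hm2 : Even m₂)
    (h : HH F) :
    orderOf h ∣ 6 ∨ orderOf h ∣ 9 ∨ orderOf h ∣ 2 * m₁ ∨ orderOf h ∣ m₂ := by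
  by_cases hfpf : ∀ n : Multiplicative M2, psi h.right n = n → n = 1
  · rw [orderOf_of_fpf (psi (F := F)) h hfpf, Prod.orderOf]
    have h2 : orderOf h.right.1 ∣ 2 := orderOf_dvd_of_pow_eq_one (Int.units_sq _)
    have h3 : orderOf h.right.2 ∈ Set.range (orderOf : PSL2 → ℕ) := ⟨_, rfl⟩
    rw [range_orderOf_PSL2 hP] at h3
    rcases h3 with h3 | h3 | h3
    · left
      exact Nat.lcm_dvd (h2.trans (by norm_num)) (h3.trans (by norm_num))
    · right; right; left
      exact Nat.lcm_dvd (h2.trans (dvd_mul_right _ _)) (h3.trans (dvd_mul_left _ _))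
    · right; right; right
      exact Nat.lcm_dvd (h2.trans hm2.two_dvd) h3
  · push Not at hfpf
    obtain ⟨v, hv, hv1⟩ := hfpf
    obtain ⟨t, ht⟩ := QuotientGroup.mk_surjective h.right.2
    have hr : h.right = (h.right.1, (QuotientGroup.mk t : PSL2)) := by
      rw [ht]
    rw [hr] at hv
    rcases fixed_cases hq h.right.1 t v hv1 hv with h2 | h2
    · left
      rw [← hr] at h2
      exact orderOf_dvd_of_pow_eq_one (pow_mul_eq_one_of_right (psi (F := F)) h 2 3 pow_three_eq_one h2)
    · right; left
      rw [← hr] at h2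
      exact orderOf_dvd_of_pow_eq_one (pow_mul_eq_one_of_right (psi (F := F)) h 3 3 pow_three_eq_one h2)

theorem orderOf_neg_one_units : orderOf (-1 : ℤˣ) = 2 := by
  have : Fact (Nat.Prime 2) := ⟨Nat.prime_two⟩
  exact orderOf_eq_prime (by decide) (by decide)

theorem orderOf_inr (k : ℤˣ × PSL2) :
    orderOf (SemidirectProduct.inr k : HH F) = orderOf k :=
  orderOf_injective (SemidirectProduct.inr : ℤˣ × PSL2 →* HH F) SemidirectProduct.inr_injective k

theorem exists_six (hP : Params F 3 2 m₁ m₂) : ∃ h : HH F, orderOf h = 6 := by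
  refine ⟨SemidirectProduct.inr (-1, QuotientGroup.mk Umat), ?_⟩
  rw [orderOf_inr, Prod.orderOf, orderOf_neg_one_units, orderOf_mk_Umat hP]
  rfl

theorem exists_m1 (hP : Params F 3 2 m₁ m₂) (hm1 : Odd m₁) : ∃ h : HH F, orderOf h = 2 * m₁ := by
  obtain ⟨x, hx⟩ := exists_orderOf_m1 hP
  refine ⟨SemidirectProduct.inr (-1, x), ?_⟩
  rw [orderOf_inr, Prod.orderOf, orderOf_neg_one_units, hx]
  exact Nat.Coprime.lcm_eq_mul (Nat.coprime_two_left.mpr hm1)

theorem exists_m2 (hP : Params F 3 2 m₁ m₂) : ∃ h : HH F, orderOf h = m₂ := by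
  obtain ⟨x, hx⟩ := exists_orderOf_m2 hP
  refine ⟨SemidirectProduct.inr (1, x), ?_⟩
  rw [orderOf_inr, Prod.orderOf, orderOf_one, hx, Nat.lcm_one_left]

theorem exists_nine (hP : Params F 3 2 m₁ m₂) : ∃ h : HH F, orderOf h = 9 := by
  let E : M2 := !![0, 0; 1, 0]
  let k : ℤˣ × PSL2 := (1, QuotientGroup.mk Umat)
  let h : HH F := ⟨Multiplicative.ofAdd E, k⟩
  have hk3 : k ^ 3 = 1 := by
    change ((1 : ℤˣ), (QuotientGroup.mk Umat : PSL2)) ^ 3 = 1
    rw [Prod.pow_mk, one_pow]
    have := orderOf_mk_Umat hP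
    rw [← this, pow_orderOf_eq_one]
    rfl
  have h9 : h ^ 9 = 1 := pow_mul_eq_one_of_right (psi (F := F)) h 3 3 pow_three_eq_one hk3
  have h3 : h ^ 3 ≠ 1 := by
    intro h0
    have hl := congrArg SemidirectProduct.left h0
    rw [pow_succ, pow_two, SemidirectProduct.mul_left, SemidirectProduct.mul_left,
      SemidirectProduct.mul_right] at hl
    have hkk : k * k = (1, (QuotientGroup.mk (Umat * Umat) : PSL2)) := by
      change ((1 : ℤˣ) * 1, (QuotientGroup.mk Umat : PSL2) * QuotientGroup.mk Umat) = _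
      rw [one_mul]
      rfl
    change Multiplicative.ofAdd E * psi k (Multiplicative.ofAdd E) *
      psi (k * k) (Multiplicative.ofAdd E) = 1 at hl
    rw [hkk] at hl
    change Multiplicative.ofAdd E * psi (1, (QuotientGroup.mk Umat : PSL2)) (Multiplicative.ofAdd E) *
      psi (1, (QuotientGroup.mk (Umat * Umat) : PSL2)) (Multiplicative.ofAdd E) = 1 at hl
    rw [psi_apply, psi_apply] at hl
    have h01 := congrArg (fun v : Multiplicative M2 => (Multiplicative.toAdd v : M2) 0 1) hl
    have e0 : ((Umat : SL2) : M2) = !![1, 1; 0, 1] := rfl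
    simp [E, frobSL_apply, Matrix.adjugate_fin_two, e0,
      Matrix.SpecialLinearGroup.coe_mul] at h01
    have h1 : (1 : F) = 0 := by linear_combination h01 + 2 * (three_eq_zero (F := F))
    exact one_ne_zero h1
  have hd : orderOf h ∣ 3 ^ 2 := orderOf_dvd_of_pow_eq_one h9
  rw [Nat.dvd_prime_pow Nat.prime_three] at hd
  obtain ⟨j, hj, hj2⟩ := hd
  refine ⟨h, ?_⟩
  interval_cases j
  · exfalso
    apply h3
    rw [pow_zero, orderOf_eq_one_iff] at hj2
    rw [hj2, one_pow]
  · exfalso
    apply h3
    rw [pow_one] at hj2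
    rw [← hj2, pow_orderOf_eq_one]
  · rw [hj2]
    norm_num

end main

theorem three_pow_mod (k : ℕ) : 3 ^ (2 * k + 1) % 4 = 3 := by
  induction k with
  | zero => norm_num
  | succ k ih =>
    rw [show 2 * (k + 1) + 1 = (2 * k + 1) + 2 by ring, pow_add]
    omega

/-- Let q = 3^α with α ≥ 3 odd. There is a finite group H having a non-trivial normal 3-subgroup and whose element orders maximal under divisibility are exactly 6, 9, q − 1 and (q + 1)/2. -/
theorem result (α : ℕ) (hα : 3 ≤ α) (hodd : Odd α) :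
    ∃ (H : Type) (_ : Group H) (_ : Fintype H), (∃ P : Subgroup H, P.Normal ∧ P ≠ ⊥ ∧ IsPGroup 3 ↥P) ∧
      {n : ℕ | n ∈ Set.range (orderOf : H → ℕ) ∧ ∀ m ∈ Set.range (orderOf : H → ℕ), n ∣ m → m = n} = ({6, 9, 3 ^ α - 1, (3 ^ α + 1) / 2} : Set ℕ) := by
  classical
  have hα0 : α ≠ 0 := by omega
  have : Fintype (GaloisField 3 α) := Fintype.ofFinite _
  have hcard : Fintype.card (GaloisField 3 α) = 3 ^ α := by
    rw [← Nat.card_eq_fintype_card, GaloisField.card 3 α hα0]
  have hq4 : 3 ^ α % 4 = 3 := by
    obtain ⟨k, hk⟩ := hodd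
    rw [hk]
    exact three_pow_mod k
  have hq27 : 27 ≤ 3 ^ α := by
    calc 27 = 3 ^ 3 := by norm_num
      _ ≤ 3 ^ α := Nat.pow_le_pow_right (by norm_num) hα
  have hq3 : 3 ∣ 3 ^ α := dvd_pow_self 3 hα0
  obtain ⟨q, hq⟩ : ∃ q, q = 3 ^ α := ⟨_, rfl⟩
  rw [← hq] at hcard hq4 hq27 hq3 ⊢
  have hP : Params (GaloisField 3 α) 3 2 ((q - 1) / 2) ((q + 1) / 2) :=
    { hp := Nat.prime_three
      char := inferInstance
      hd := Or.inr rfl
      h1 := by rw [hcard]; omega
      h2 := by rw [hcard]; omega
      hc := fun c hc => by rw [pow_two]; exact hc }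
  have hm1 : Odd ((q - 1) / 2) := by rw [Nat.odd_iff]; omega
  have hm2 : Even ((q + 1) / 2) := by rw [Nat.even_iff]; omega
  have hcard4 : Fintype.card (GaloisField 3 α) % 4 = 3 := by rw [hcard]; exact hq4
  have : Finite (HH (GaloisField 3 α)) := Finite.of_equiv _ SemidirectProduct.equivProd.symm
  refine ⟨HH (GaloisField 3 α), inferInstance, Fintype.ofFinite _, ?_, ?_⟩
  · refine ⟨(SemidirectProduct.rightHom : HH (GaloisField 3 α) →* _).ker, inferInstance, ?_, ?_⟩
    · intro hbot
      have hmem : (SemidirectProduct.inl (Multiplicative.ofAdd (1 : Matrix (Fin 2) (Fin 2) (GaloisField 3 α))) :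
          HH (GaloisField 3 α)) ∈ (SemidirectProduct.rightHom : HH (GaloisField 3 α) →* _).ker := by
        rw [MonoidHom.mem_ker, SemidirectProduct.rightHom_inl]
      rw [hbot, Subgroup.mem_bot] at hmem
      have h1 := SemidirectProduct.inl_injective (hmem.trans (map_one _).symm)
      have h2 := congrArg Multiplicative.toAdd h1
      rw [toAdd_ofAdd, toAdd_one] at h2
      exact one_ne_zero h2
    · intro g
      refine ⟨1, ?_⟩
      apply Subtype.ext
      rw [Subgroup.coe_pow, Subgroup.coe_one, pow_one]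
      have hg : (g : HH (GaloisField 3 α)).right ^ 1 = 1 := by
        rw [pow_one]
        exact g.2
      have := pow_mul_eq_one_of_right (psi (F := GaloisField 3 α)) (g : HH (GaloisField 3 α)) 1 3
        pow_three_eq_one hg
      rwa [one_mul] at this
  · apply maximal_eq
    · intro n hn
      simp only [Set.mem_insert_iff, Set.mem_singleton_iff] at hn
      rcases hn with rfl | rfl | rfl | rfl
      · exact exists_six hP
      · exact exists_nine hP
      · obtain ⟨h, hh⟩ := exists_m1 hP hm1
        exact ⟨h, by rw [hh]; omega⟩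
      · exact exists_m2 hP
    · rintro n ⟨h, rfl⟩
      rcases order_cases hP hcard4 hm2 h with h1 | h1 | h1 | h1
      · exact ⟨6, by simp, h1⟩
      · exact ⟨9, by simp, h1⟩
      · refine ⟨q - 1, by simp, ?_⟩
        have : 2 * ((q - 1) / 2) = q - 1 := by omega
        rwa [this] at h1
      · exact ⟨(q + 1) / 2, by simp, h1⟩
    · intro s hs t ht hst
      simp only [Set.mem_insert_iff, Set.mem_singleton_iff] at hs ht
      have hm2dvd : (q + 1) / 2 ∣ q - 1 → False := by
        intro hd
        have h1 : (q + 1) / 2 ∣ q + 1 := ⟨2, by omega⟩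
        have h2 : (q + 1) / 2 ∣ (q + 1) - (q - 1) := Nat.dvd_sub h1 hd
        have h3 : (q + 1) - (q - 1) = 2 := by omega
        rw [h3] at h2
        have := Nat.le_of_dvd (by norm_num) h2
        omega
      rcases hs with rfl | rfl | rfl | rfl <;> rcases ht with rfl | rfl | rfl | rfl
      · rfl
      · omega
      · omega
      · omega
      · omega
      · rfl
      · omega
      · omega
      · have := Nat.le_of_dvd (by norm_num) hst; omega
      · have := Nat.le_of_dvd (by norm_num) hst; omega
      · rfl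
      · have := Nat.le_of_dvd (by omega) hst; omega
      · have := Nat.le_of_dvd (by norm_num) hst; omega
      · have := Nat.le_of_dvd (by norm_num) hst; omega
      · exact (hm2dvd hst).elim
      · rfl

end Cfsg.Agent.S2515
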