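import Mathlib
import Cfsg.Statements.S2516

set_option autoImplicit false
open Cfsg

namespace Cfsg.Agent.S2516

theorem result {F : Type*} [Field F] (p : ℕ) [Fact p.Prime] [CharP F p] {V : Type*} [AddCommGroup V] [Module F V] [FiniteDimensional F V] [Nontrivial V]
    {G : Type*} [Group G] [Finite G] (ρ : Representation F G V) (g : G) :
    (∃ x : Multiplicative V ⋊[(MulAutMultiplicative V).symm.toMonoidHom.comp
        ((DistribMulAction.toAddAut ((V →ₗ[F] V)ˣ) V).comp ρ.asGroupHom)] G,
        x.right = g ∧ orderOf x = p * orderOf g) ↔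
      ¬ (minpoly F (ρ g) ∣ ∑ i ∈ Finset.range (orderOf g), (Polynomial.X : Polynomial F) ^ i) := by
  classical
  set φ : G →* MulAut (Multiplicative V) := (MulAutMultiplicative V).symm.toMonoidHom.comp
    ((DistribMulAction.toAddAut ((V →ₗ[F] V)ˣ) V).comp ρ.asGroupHom) with hφ
  have hact : ∀ (h : G) (v : V),
      φ h (Multiplicative.ofAdd v) = Multiplicative.ofAdd (ρ h v) := fun h v => rfl
  have hp : p.Prime := Fact.out
  set k := orderOf g with hk
  have hkpos : 0 < k := orderOf_pos g
  set N : V →ₗ[F] V := ∑ i ∈ Finset.range k, (ρ g) ^ i with hN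
  have haeval : Polynomial.aeval (ρ g)
      (∑ i ∈ Finset.range k, (Polynomial.X : Polynomial F) ^ i) = N := by
    simp [hN]
  rw [minpoly.dvd_iff, haeval]
  -- power formula
  have hpow : ∀ (h : G) (v : V) (n : ℕ),
      ((⟨Multiplicative.ofAdd v, h⟩ : Multiplicative V ⋊[φ] G) ^ n) =
        ⟨Multiplicative.ofAdd ((∑ i ∈ Finset.range n, (ρ h) ^ i) v), h ^ n⟩ := by
    intro h v n
    induction n with
    | zero =>
      simp only [pow_zero, Finset.range_zero, Finset.sum_empty, LinearMap.zero_apply, ofAdd_zero]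
      rfl
    | succ n ih =>
      rw [pow_succ, ih]
      apply SemidirectProduct.ext
      · rw [SemidirectProduct.mul_left]
        simp only []
        rw [hact, ← ofAdd_add, Finset.sum_range_succ, LinearMap.add_apply, map_pow]
      · rw [SemidirectProduct.mul_right, pow_succ]
  have hone : ∀ x : Multiplicative V ⋊[φ] G, x = 1 ↔ x.left = 1 ∧ x.right = 1 := by
    intro x
    constructor
    · rintro rfl; exact ⟨rfl, rfl⟩
    · rintro ⟨h1, h2⟩
      apply SemidirectProduct.ext
      · rw [h1]; rfl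
      · rw [h2]; rfl
  have hxk : ∀ v : V, ((⟨Multiplicative.ofAdd v, g⟩ : Multiplicative V ⋊[φ] G) ^ k) =
      ⟨Multiplicative.ofAdd (N v), 1⟩ := by
    intro v
    rw [hpow, hk, pow_orderOf_eq_one]
  constructor
  · rintro ⟨x, hxr, hxo⟩ hN0
    obtain ⟨xl, xr⟩ := x
    have hxr' : xr = g := hxr
    subst hxr'
    have h1 : (⟨xl, xr⟩ : Multiplicative V ⋊[φ] G) ^ k = 1 := by
      have := hxk (Multiplicative.toAdd xl)
      rw [ofAdd_toAdd, hN0] at this
      rw [this]
      rfl
    have h2 := orderOf_dvd_of_pow_eq_one h1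
    rw [hxo] at h2
    have h3 := Nat.le_of_dvd hkpos h2
    have h4 := hp.two_le
    nlinarith
  · intro hN0
    obtain ⟨v, hv⟩ : ∃ v, N v ≠ 0 := by
      by_contra hcon
      push Not at hcon
      apply hN0
      ext v
      exact hcon v
    set x : Multiplicative V ⋊[φ] G := ⟨Multiplicative.ofAdd v, g⟩ with hx
    refine ⟨x, rfl, ?_⟩
    have hxk' : x ^ k = ⟨Multiplicative.ofAdd (N v), 1⟩ := hxk v
    have hxkp : x ^ (k * p) = 1 := by
      rw [pow_mul, hxk', hpow]
      rw [hone]
      refine ⟨?_, one_pow p⟩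
      show Multiplicative.ofAdd ((∑ i ∈ Finset.range p, (ρ 1) ^ i) (N v)) = 1
      rw [map_one]
      simp only [one_pow, Finset.sum_const, Finset.card_range]
      have : (p • (1 : V →ₗ[F] V)) (N v) = 0 := by
        rw [LinearMap.smul_apply, Module.End.one_apply]
        have hpF : (p : F) = 0 := CharP.cast_eq_zero F p
        rw [← Nat.cast_smul_eq_nsmul F, hpF, zero_smul]
      rw [this]
      rfl
    have hdvd1 : orderOf x ∣ k * p := orderOf_dvd_of_pow_eq_one hxkp
    have hdvd2 : k ∣ orderOf x := by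
      have := orderOf_map_dvd (SemidirectProduct.rightHom : Multiplicative V ⋊[φ] G →* G) x
      simpa [hx] using this
    have hne : x ^ k ≠ 1 := by
      rw [hxk']
      intro h
      have := (hone _).mp h
      exact hv this.1
    obtain ⟨j, hj⟩ := hdvd2
    rw [hj] at hdvd1
    have hjp : j ∣ p := Nat.dvd_of_mul_dvd_mul_left hkpos hdvd1
    rcases (Nat.dvd_prime hp).mp hjp with h1 | h1
    · exfalso
      apply hne
      rw [h1, mul_one] at hj
      rw [← hj]
      exact pow_orderOf_eq_one x
    · rw [hj, h1, mul_comm]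

end Cfsg.Agent.S2516
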