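import Cfsg.Statements.S2518
import Cfsg.Agent.Helper19.G23.NoOrd
import Cfsg.Agent.Helper19.G23.NoInv
import Cfsg.Agent.Helper19.G23.Psl13
import Cfsg.Agent.Helper13.G2UG
import Cfsg.Agent.Helper18.PSL27b

set_option autoImplicit false
open Cfsg

namespace Cfsg.Agent.S2518

open Cfsg.Lie Cfsg.Agent.Helper19.G23

/-- prime divisors of a number of the shape `2 ^ a * 3 ^ b * 7 * 13` -/
theorem prime_cases {q a b : ℕ} (hq : q.Prime) (h : q ∣ 2 ^ a * 3 ^ b * 7 * 13) :
    q = 2 ∨ q = 3 ∨ q = 7 ∨ q = 13 := by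
  have p7 : Nat.Prime 7 := by norm_num
  have p13 : Nat.Prime 13 := by norm_num
  rcases (Nat.Prime.dvd_mul hq).mp h with h | h
  · rcases (Nat.Prime.dvd_mul hq).mp h with h | h
    · rcases (Nat.Prime.dvd_mul hq).mp h with h | h
      · exact Or.inl ((Nat.prime_dvd_prime_iff_eq hq Nat.prime_two).mp (hq.dvd_of_dvd_pow h))
      · exact Or.inr (Or.inl ((Nat.prime_dvd_prime_iff_eq hq Nat.prime_three).mp (hq.dvd_of_dvd_pow h)))
    · exact Or.inr (Or.inr (Or.inl ((Nat.prime_dvd_prime_iff_eq hq p7).mp h)))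
  · exact Or.inr (Or.inr (Or.inr ((Nat.prime_dvd_prime_iff_eq hq p13).mp h)))

theorem prime_dvd_g2 {q : ℕ} (hq : q.Prime) :
    q ∣ 4245696 ↔ (q = 2 ∨ q = 3 ∨ q = 7 ∨ q = 13) := by
  constructor
  · intro h
    have e : (4245696 : ℕ) = 2 ^ 6 * 3 ^ 6 * 7 * 13 := by norm_num
    rw [e] at h
    exact prime_cases hq h
  · rintro (rfl | rfl | rfl | rfl) <;> norm_num

theorem prime_dvd_psl {q : ℕ} (hq : q.Prime) :
    q ∣ 1092 ↔ (q = 2 ∨ q = 3 ∨ q = 7 ∨ q = 13) := by
  constructor
  · intro h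
    have e : (1092 : ℕ) = 2 ^ 2 * 3 ^ 1 * 7 * 13 := by norm_num
    rw [e] at h
    exact prime_cases hq h
  · rintro (rfl | rfl | rfl | rfl) <;> norm_num

theorem card_psl13 {E : Type*} [Field E] [Fintype E] (hE : Fintype.card E = 13) :
    Nat.card (Matrix.ProjectiveSpecialLinearGroup (Fin 2) E) = 1092 := by
  have h := Cfsg.Agent.Helper18.PSL27.card_psl2 (F := E) 13 hE (by norm_num)
  norm_num at h
  omega

/-- the abstract group is the presented one -/
theorem exists_equiv_St {F : Type*} [Field F] [Fintype F] (hF : Fintype.card F = 3) :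
    Nonempty (↥(chevG2.group F) ≃* St) := by
  have e : F ≃+* F3 := FiniteField.ringEquivOfCardEq (by rw [hF, card_F3])
  obtain ⟨e1⟩ := Cfsg.Agent.Helper13.G2UG.group_base_change chevG2 e
  obtain ⟨e2⟩ := exists_iso
  exact ⟨e1.trans e2.symm⟩

theorem exists_order_iff {F : Type*} [Field F] [Fintype F] (hF : Fintype.card F = 3) (n : ℕ) :
    (∃ x : ↥(chevG2.group F), orderOf x = n) ↔ ∃ x : St, orderOf x = n := by
  obtain ⟨e⟩ := exists_equiv_St hF
  constructor
  · rintro ⟨g, hg⟩
    exact ⟨e g, by rw [e.orderOf_eq, hg]⟩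
  · rintro ⟨g, hg⟩
    exact ⟨e.symm g, by rw [e.symm.orderOf_eq, hg]⟩

/-- products of two distinct primes among the element orders of `G₂(3)` -/
theorem g2_order_iff {F : Type*} [Field F] [Fintype F] (hF : Fintype.card F = 3) {r s : ℕ}
    (hr : r.Prime) (hs : s.Prime) (hne : r ≠ s) :
    (∃ x : ↥(chevG2.group F), orderOf x = r * s) ↔ r * s = 6 := by
  have hfin : Finite ↥(chevG2.group F) := Nat.finite_of_card_ne_zero (by rw [card_group hF]; norm_num)
  have p7 : Nat.Prime 7 := by norm_num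
  have p13 : Nat.Prime 13 := by norm_num
  have n14 := no_order_two_mul hF 7 p7 (by norm_num)
  have n26 := no_order_two_mul hF 13 p13 (by norm_num)
  have n21 := (exists_order_iff hF (7 * 3)).not.mpr no_order_21
  have n39 := (exists_order_iff hF (13 * 3)).not.mpr no_order_39
  have n91 := (exists_order_iff hF (13 * 7)).not.mpr no_order_91
  constructor
  · rintro ⟨x, hx⟩
    have hdvd : r * s ∣ 4245696 := by
      rw [← card_group hF, ← hx]
      exact orderOf_dvd_natCard x
    have hr' := (prime_dvd_g2 hr).mp (Dvd.dvd.trans (Dvd.intro _ rfl) hdvd)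
    have hs' := (prime_dvd_g2 hs).mp (Dvd.dvd.trans (Dvd.intro_left _ rfl) hdvd)
    rcases hr' with rfl | rfl | rfl | rfl <;> rcases hs' with rfl | rfl | rfl | rfl
    · exact absurd rfl hne
    · rfl
    · exact absurd ⟨x, hx⟩ n14
    · exact absurd ⟨x, hx⟩ n26
    · rfl
    · exact absurd rfl hne
    · exact absurd ⟨x, hx.trans (by norm_num)⟩ n21
    · exact absurd ⟨x, hx.trans (by norm_num)⟩ n39
    · exact absurd ⟨x, hx.trans (by norm_num)⟩ n14
    · exact absurd ⟨x, hx⟩ n21
    · exact absurd rfl hne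
    · exact absurd ⟨x, hx.trans (by norm_num)⟩ n91
    · exact absurd ⟨x, hx.trans (by norm_num)⟩ n26
    · exact absurd ⟨x, hx⟩ n39
    · exact absurd ⟨x, hx⟩ n91
    · exact absurd rfl hne
  · intro h
    rw [h, exists_order_iff hF]
    exact ⟨stW w6, order_w6⟩

/-- products of two distinct primes among the element orders of `PSL₂(13)` -/
theorem psl_order_iff {E : Type*} [Field E] [Fintype E] (hE : Fintype.card E = 13) {r s : ℕ}
    (hr : r.Prime) (hs : s.Prime) (hne : r ≠ s) :
    (∃ y : Matrix.ProjectiveSpecialLinearGroup (Fin 2) E, orderOf y = r * s) ↔ r * s = 6 := by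
  rw [exists_orderOf_psl13 hE]
  have hr2 := hr.two_le
  have hs2 := hs.two_le
  have key : ∀ q : ℕ, q.Prime → ¬ r * s ∣ q := by
    intro q hq h
    have h1 : r ∣ q := Dvd.dvd.trans (Dvd.intro _ rfl) h
    have h2 : s ∣ q := Dvd.dvd.trans (Dvd.intro_left _ rfl) h
    have e1 := (Nat.prime_dvd_prime_iff_eq hr hq).mp h1
    have e2 := (Nat.prime_dvd_prime_iff_eq hs hq).mp h2
    exact hne (e1.trans e2.symm)
  constructor
  · rintro (h | h | h)
    · exact absurd h (key 13 (by norm_num))
    · have hle : r * s ≤ 6 := Nat.le_of_dvd (by norm_num) h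
      have h4 : 4 ≤ r * s := by nlinarith
      have hcases : r * s = 4 ∨ r * s = 5 ∨ r * s = 6 := by omega
      rcases hcases with h' | h' | h'
      · rw [h'] at h; norm_num at h
      · rw [h'] at h; norm_num at h
      · exact h'
    · exact absurd h (key 7 (by norm_num))
  · intro h
    right; left
    rw [h]

/-- Let F₃ be the field with 3 elements and F₁₃ the field with 13 elements. The Chevalley group G₂(F₃) and PSL(2, F₁₃) have the same prime graph: the same prime divisors of their orders, and for distinct primes r, s an element of order rs in one iff in the other. -/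
theorem result {F : Type*} [Field F] [Fintype F] (hF : Fintype.card F = 3) {E : Type*} [Field E] [Fintype E] (hE : Fintype.card E = 13) :
    ((∀ r : ℕ, r.Prime → (r ∣ Nat.card ↥(Cfsg.Lie.chevG2.group F) ↔ r ∣ Nat.card (Matrix.ProjectiveSpecialLinearGroup (Fin 2) E))) ∧
      (∀ r s : ℕ, r.Prime → s.Prime → r ≠ s → ((∃ x : ↥(Cfsg.Lie.chevG2.group F), orderOf x = r * s) ↔ (∃ y : (Matrix.ProjectiveSpecialLinearGroup (Fin 2) E), orderOf y = r * s)))) := by
  refine ⟨fun r hr => ?_, fun r s hr hs hne => ?_⟩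
  · rw [card_group hF, card_psl13 hE, prime_dvd_g2 hr, prime_dvd_psl hr]
  · rw [g2_order_iff hF hr hs hne, psl_order_iff hE hr hs hne]

end Cfsg.Agent.S2518
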