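import Mathlib

set_option autoImplicit false

namespace Cfsg.Agent.S2531

open scoped LinearAlgebra.Projectivization

section general
variable {F V : Type*} [Field F] [Finite F] [AddCommGroup V] [Module F V] [Finite V]

lemma h13_natCast_card_self : ((Nat.card F : ℕ) : ZMod (Nat.card F)) = 0 := ZMod.natCast_self _

/-- The number of points of a nonzero finite projective space is `1` modulo `q`. -/
lemma h13_card_proj_mod (hV : ∃ v : V, v ≠ 0) :
    ((Nat.card (ℙ F V) : ℕ) : ZMod (Nat.card F)) = 1 := by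
  have h1 : Nat.card V = Nat.card F ^ Module.finrank F V := Module.natCard_eq_pow_finrank
  have h2 : 0 < Module.finrank F V := (Module.finrank_pos_iff_exists_ne_zero (R := F)).2 hV
  have h3 := Projectivization.card' F V
  have h4 : ((Nat.card V : ℕ) : ZMod (Nat.card F)) = 0 := by
    rw [h1]
    obtain ⟨k, hk⟩ := Nat.exists_eq_succ_of_ne_zero h2.ne'
    rw [hk, pow_succ]
    push_cast
    rw [h13_natCast_card_self, mul_zero]
  have h5 : 1 ≤ Nat.card F := Nat.card_pos
  rw [h3] at h4
  push_cast [Nat.cast_sub h5] at h4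
  rw [h13_natCast_card_self] at h4
  linear_combination -h4

/-- points lying in a submodule -/
def pts (U : Submodule F V) : Type _ := {x : ℙ F V // x.submodule ≤ U}

lemma h13_mk_mem (U : Submodule F V) (v : V) (hv : v ≠ 0) :
    (Projectivization.mk F v hv).submodule ≤ U ↔ v ∈ U := by
  rw [Projectivization.submodule_mk, Submodule.span_singleton_le_iff_mem]

noncomputable def ptsEquiv (U : Submodule F V) : ℙ F U ≃ {x : ℙ F V // x.submodule ≤ U} := by
  have hinj : Function.Injective (U.subtype) := U.injective_subtype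
  refine Equiv.ofBijective (fun y => ⟨Projectivization.map U.subtype hinj y, ?_⟩) ⟨?_, ?_⟩
  · induction y using Projectivization.ind with
    | h u hu =>
      rw [Projectivization.map_mk, h13_mk_mem]
      exact u.2
  · intro y z hyz
    have := congrArg Subtype.val hyz
    exact Projectivization.map_injective (τ := RingHom.id F) U.subtype hinj this
  · rintro ⟨x, hx⟩
    induction x using Projectivization.ind with
    | h v hv =>
      rw [h13_mk_mem] at hx
      refine ⟨Projectivization.mk F ⟨v, hx⟩ (fun h => hv (congrArg Subtype.val h)), ?_⟩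
      apply Subtype.ext
      show Projectivization.map U.subtype hinj (Projectivization.mk F ⟨v, hx⟩ _) = _
      rw [Projectivization.map_mk]
      rfl

lemma h13_card_pts_mod (U : Submodule F V) (hU : ∃ v ∈ U, v ≠ 0) :
    ((Nat.card {x : ℙ F V // x.submodule ≤ U} : ℕ) : ZMod (Nat.card F)) = 1 := by
  rw [← Nat.card_congr (ptsEquiv U)]
  apply h13_card_proj_mod
  obtain ⟨v, hv, hv0⟩ := hU
  exact ⟨⟨v, hv⟩, fun h => hv0 (congrArg Subtype.val h)⟩

end general

section main
variable {F : Type*} [Field F] [Finite F]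

/-- the hyperplane `x_{i0} = 0` -/
noncomputable def hyp (n : ℕ) (i0 : Fin n) : Submodule F (Fin n → F) :=
  LinearMap.ker (LinearMap.proj i0 : (Fin n → F) →ₗ[F] F)

lemma h13_mem_hyp (n : ℕ) (i0 : Fin n) (v : Fin n → F) : v ∈ hyp (F := F) n i0 ↔ v i0 = 0 := by
  simp [hyp]

/-- per-element count -/
lemma h13_per_s (n : ℕ) (i0 i1 i2 : Fin n) (h01 : i0 ≠ i1) (h02 : i0 ≠ i2) (h12 : i1 ≠ i2)
    (σ : F ≃+* F) (f : (Fin n → F) →ₛₗ[(σ : F →+* F)] (Fin n → F)) (hf : Function.Injective f) :
    ((Nat.card {x : ℙ F (Fin n → F) // x.submodule ≤ hyp n i0 ∧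
        (Projectivization.map f hf x).submodule ≤ hyp n i0} : ℕ) : ZMod (Nat.card F)) = 1 := by
  classical
  set W := hyp (F := F) n i0 with hW
  let U : Submodule F (Fin n → F) := W ⊓ Submodule.comap f W
  have hcongr : ∀ x : ℙ F (Fin n → F), (x.submodule ≤ W ∧
        (Projectivization.map f hf x).submodule ≤ W) ↔ x.submodule ≤ U := by
    intro x
    induction x using Projectivization.ind with
    | h v hv =>
      rw [Projectivization.map_mk, h13_mk_mem, h13_mk_mem, h13_mk_mem]
      simp [U]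
  rw [Nat.card_congr (Equiv.subtypeEquivRight hcongr)]
  apply h13_card_pts_mod
  -- a nonzero vector in U
  let e1 : Fin n → F := Pi.single i1 1
  let e2 : Fin n → F := Pi.single i2 1
  by_cases h1 : f e1 i0 = 0
  · refine ⟨e1, ?_, ?_⟩
    · simp only [U, Submodule.mem_inf, Submodule.mem_comap]
      rw [hW, h13_mem_hyp, h13_mem_hyp]
      exact ⟨by simp [e1, h01], h1⟩
    · intro h
      have := congrFun h i1
      simp [e1] at this
  · set a := f e1 i0 with ha
    set b := f e2 i0 with hb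
    let c : F := σ.symm (b / a)
    refine ⟨e2 - c • e1, ?_, ?_⟩
    · simp only [U, Submodule.mem_inf, Submodule.mem_comap]
      rw [hW, h13_mem_hyp, h13_mem_hyp]
      refine ⟨by simp [e1, e2, h01, h02], ?_⟩
      rw [map_sub, LinearMap.map_smulₛₗ]
      simp only [Pi.sub_apply, Pi.smul_apply, smul_eq_mul]
      rw [← ha, ← hb]
      simp only [c, RingEquiv.coe_toRingHom, RingEquiv.apply_symm_apply]
      field_simp
      ring
    · intro h
      have := congrFun h i2
      simp [e1, e2, h12] at this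

/-- `T ≃` points other than `p` gives `|T| ≡ 0`. -/
lemma h13_card_ne_mod {V : Type*} [AddCommGroup V] [Module F V] [Finite V] (hV : ∃ v : V, v ≠ 0)
    (p : ℙ F V) : ((Nat.card {b : ℙ F V // b ≠ p} : ℕ) : ZMod (Nat.card F)) = 0 := by
  classical
  have h1 : Nat.card (ℙ F V) = Nat.card {b : ℙ F V // b ≠ p} + 1 := by
    rw [← Finite.card_option, Nat.card_congr (Equiv.optionSubtypeNe p)]
  have h2 := h13_card_proj_mod (F := F) (V := V) hV
  rw [h1] at h2
  push_cast at h2
  linear_combination h2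

end main

/-- No set of permutations of the points of the projective space of `Fⁿ`, `n ≥ 3`, each induced by
an invertible semilinear map, is sharply 2-transitive. -/
theorem result {F : Type*} [Field F] [Finite F]
    (n : ℕ) (hn : 3 ≤ n) (S : Set (Equiv.Perm (Projectivization F (Fin n → F))))
    (hS : ∀ s ∈ S, ∃ (σ : F ≃+* F) (f : (Fin n → F) →ₛₗ[(σ : F →+* F)] (Fin n → F)) (hf : Function.Injective f),
      ∀ x, s x = Projectivization.map f hf x) :
    ¬ (∀ a b c d : Projectivization F (Fin n → F), a ≠ b → c ≠ d →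
        ∃! s, s ∈ S ∧ s a = c ∧ s b = d) := by
  intro H
  classical
  let i0 : Fin n := ⟨0, by omega⟩
  let i1 : Fin n := ⟨1, by omega⟩
  let i2 : Fin n := ⟨2, by omega⟩
  have h01 : i0 ≠ i1 := by simp [i0, i1, Fin.ext_iff]
  have h02 : i0 ≠ i2 := by simp [i0, i2, Fin.ext_iff]
  have h12 : i1 ≠ i2 := by simp [i1, i2, Fin.ext_iff]
  set W := hyp (F := F) n i0 with hW
  let e0 : Fin n → F := Pi.single i0 1
  let e1 : Fin n → F := Pi.single i1 1
  have he0 : e0 ≠ 0 := by
    intro h
    have := congrFun h i0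
    simp [e0] at this
  have he1 : e1 ≠ 0 := by
    intro h
    have := congrFun h i1
    simp [e1] at this
  have hV : ∃ v : Fin n → F, v ≠ 0 := ⟨e0, he0⟩
  let p : ℙ F (Fin n → F) := Projectivization.mk F e0 he0
  let a : ℙ F (Fin n → F) := Projectivization.mk F e1 he1
  have hpW : ¬ p.submodule ≤ W := by
    rw [h13_mk_mem, hW, h13_mem_hyp]
    simp [e0]
  have haW : a.submodule ≤ W := by
    rw [h13_mk_mem, hW, h13_mem_hyp]
    simp [e1, h01]
  have hpa : p ≠ a := fun h => hpW (h ▸ haW)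
  -- the stabiliser part of S
  let T := {s : Equiv.Perm (ℙ F (Fin n → F)) // s ∈ S ∧ s p = p}
  let PW := {x : ℙ F (Fin n → F) // x.submodule ≤ W}
  have hPWne : ∀ x : PW, p ≠ x.1 := fun x h => hpW (h ▸ x.2)
  have : Finite (ℙ F (Fin n → F)) := inferInstance
  have : Finite T := inferInstance
  have : Finite PW := inferInstance
  haveI : Fintype T := Fintype.ofFinite T
  -- |T| ≡ 0
  have hT : ((Nat.card T : ℕ) : ZMod (Nat.card F)) = 0 := by
    have e : T ≃ {b : ℙ F (Fin n → F) // b ≠ p} := by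
      refine Equiv.ofBijective (fun s => ⟨s.1 a, fun h => hpa ?_⟩) ⟨?_, ?_⟩
      · exact (s.1.injective (h.trans s.2.2.symm)).symm
      · intro s t hst
        have hst' : s.1 a = t.1 a := congrArg Subtype.val hst
        obtain ⟨u, _, hu⟩ := H p a p (s.1 a) hpa (fun h => hpa (s.1.injective (s.2.2.trans h)))
        apply Subtype.ext
        rw [hu s.1 ⟨s.2.1, s.2.2, rfl⟩, hu t.1 ⟨t.2.1, t.2.2, hst'.symm⟩]
      · rintro ⟨b, hb⟩
        obtain ⟨u, ⟨hu1, hu2, hu3⟩, _⟩ := H p a p b hpa (Ne.symm hb)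
        exact ⟨⟨u, hu1, hu2⟩, Subtype.ext hu3⟩
    rw [Nat.card_congr e]
    exact h13_card_ne_mod hV p
  -- |PW| ≡ 1
  have hPW : ((Nat.card PW : ℕ) : ZMod (Nat.card F)) = 1 := by
    apply h13_card_pts_mod
    exact ⟨e1, by rw [hW, h13_mem_hyp]; simp [e1, h01], he1⟩
  -- the triple count
  let K := {t : T × PW × PW // t.1.1 t.2.1.1 = t.2.2.1}
  have hK1 : Nat.card K = Nat.card PW * Nat.card PW := by
    have e : K ≃ PW × PW := by
      refine Equiv.ofBijective (fun t => t.1.2) ⟨?_, ?_⟩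
      · rintro ⟨⟨s, x, y⟩, hs⟩ ⟨⟨s', x', y'⟩, hs'⟩ hxy
        simp only [Prod.mk.injEq] at hxy
        obtain ⟨rfl, rfl⟩ := hxy
        obtain ⟨u, _, hu⟩ := H p x.1 p y.1 (hPWne x) (hPWne y)
        have h1 : s.1 = u := hu s.1 ⟨s.2.1, s.2.2, hs⟩
        have h2 : s'.1 = u := hu s'.1 ⟨s'.2.1, s'.2.2, hs'⟩
        have : s = s' := Subtype.ext (h1.trans h2.symm)
        subst this
        rfl
      · rintro ⟨x, y⟩
        obtain ⟨u, ⟨hu1, hu2, hu3⟩, _⟩ := H p x.1 p y.1 (hPWne x) (hPWne y)
        exact ⟨⟨(⟨u, hu1, hu2⟩, x, y), hu3⟩, rfl⟩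
    rw [Nat.card_congr e, Nat.card_prod]
  have hK2 : Nat.card K = ∑ s : T, Nat.card {x : ℙ F (Fin n → F) // x.submodule ≤ W ∧
      (s.1 x).submodule ≤ W} := by
    have e : K ≃ Σ s : T, {x : ℙ F (Fin n → F) // x.submodule ≤ W ∧ (s.1 x).submodule ≤ W} :=
      { toFun := fun t => ⟨t.1.1, ⟨t.1.2.1.1, t.1.2.1.2, by rw [t.2]; exact t.1.2.2.2⟩⟩
        invFun := fun t => ⟨(t.1, ⟨t.2.1, t.2.2.1⟩, ⟨t.1.1 t.2.1, t.2.2.2⟩), rfl⟩
        left_inv := by
          rintro ⟨⟨s, x, y⟩, hs⟩
          apply Subtype.ext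
          exact Prod.ext rfl (Prod.ext rfl (Subtype.ext hs))
        right_inv := by
          rintro ⟨s, x⟩
          rfl }
    rw [Nat.card_congr e, Nat.card_sigma]
  have hsum : ((Nat.card K : ℕ) : ZMod (Nat.card F)) = (Nat.card T : ℕ) := by
    rw [hK2]
    push_cast
    have : ∀ s : T, ((Nat.card {x : ℙ F (Fin n → F) // x.submodule ≤ W ∧
      (s.1 x).submodule ≤ W} : ℕ) : ZMod (Nat.card F)) = 1 := by
      intro s
      obtain ⟨σ, f, hf, hs⟩ := hS s.1 s.2.1
      have := h13_per_s n i0 i1 i2 h01 h02 h12 σ f hf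
      simp only [← hs] at this
      exact this
    simp only [this]
    simp [Nat.card_eq_fintype_card]
  rw [hK1, hT] at hsum
  push_cast at hsum
  rw [hPW] at hsum
  have : Fact (1 < Nat.card F) := ⟨Finite.one_lt_card⟩
  simp at hsum

end Cfsg.Agent.S2531
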