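import Mathlib
import Cfsg.Statements.S2532

set_option autoImplicit false
open Cfsg

namespace Cfsg.Agent.S2532

open Equiv

/-- `π ↦ id × π`. -/
def prodHom (A B : Type*) : Perm B →* Perm (A × B) where
  toFun π := Equiv.prodCongrRight (fun _ => π)
  map_one' := by ext ⟨a, b⟩ <;> rfl
  map_mul' := fun π σ => by ext ⟨a, b⟩ <;> rfl

theorem prodHom_apply {A B : Type*} (π : Perm B) (a : A) (b : B) :
    prodHom A B π (a, b) = (a, π b) := rfl

theorem prodHom_injective (A B : Type*) [Nonempty A] : Function.Injective (prodHom A B) := by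
  intro π σ h
  ext b
  obtain ⟨a⟩ := ‹Nonempty A›
  have := congrArg (fun e : Perm (A × B) => (e (a, b)).2) h
  simpa [prodHom_apply] using this

theorem sign_prodHom {A B : Type*} [Fintype A] [DecidableEq A] [Fintype B] [DecidableEq B]
    (π : Perm B) : Perm.sign (prodHom A B π) = Perm.sign π ^ Fintype.card A := by
  show Perm.sign (Equiv.prodCongrRight fun _ => π) = _
  rw [Perm.sign_prodCongrRight]
  simp

theorem sign_viaEmbedding {A B : Type*} [Fintype A] [DecidableEq A] [Fintype B] [DecidableEq B]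
    (e : Perm A) (ι : A ↪ B) : Perm.sign (e.viaEmbedding ι) = Perm.sign e := by
  classical
  unfold Perm.viaEmbedding
  convert Perm.sign_extendDomain e (ofInjective ι.1 ι.2)

theorem lemmaA {G α : Type*} [Group G] [Finite G] [MulAction G α] [Fintype α] [DecidableEq α]
    (r : ℕ) (hcard : Nat.card G * 2 ^ Nat.card G * r ≤ Fintype.card α) :
    ∃ φ : Perm (Fin r) →* Perm α, Function.Injective φ ∧
      (∀ (π : Perm (Fin r)) (g : G) (x : α), φ π (g • x) = g • φ π x) ∧
      ∀ π : Perm (Fin r), Perm.sign π = 1 → Perm.sign (φ π) = 1 := by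
  classical
  letI : Fintype G := Fintype.ofFinite G
  set n := Nat.card G with hn
  have hnpos : 0 < n := Nat.card_pos
  let Ω := MulAction.orbitRel.Quotient G α
  letI : Fintype Ω := Fintype.ofFinite Ω
  let rep : Ω → α := Quotient.out
  have hrep : ∀ ω : Ω, (Quotient.mk'' (rep ω) : Ω) = ω := Quotient.out_eq'
  have hsurj : Function.Surjective (fun p : G × Ω => p.1 • rep p.2) := by
    intro y
    have h1 : MulAction.orbitRel G α (rep (Quotient.mk'' y)) y := Quotient.exact' (hrep _)
    rw [MulAction.orbitRel_apply] at h1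
    obtain ⟨g, hg⟩ := h1
    refine ⟨(g⁻¹, Quotient.mk'' y), ?_⟩
    show g⁻¹ • rep (Quotient.mk'' y) = y
    rw [← hg]
    simp
  have h1 : Fintype.card α ≤ n * Fintype.card Ω := by
    have := Fintype.card_le_of_surjective _ hsurj
    rwa [Fintype.card_prod, ← Nat.card_eq_fintype_card (α := G)] at this
  have h2 : 2 ^ n * r ≤ Fintype.card Ω := by
    have : n * (2 ^ n * r) ≤ n * Fintype.card Ω := by
      calc n * (2 ^ n * r) = n * 2 ^ n * r := by ring
        _ ≤ _ := hcard.trans h1
    exact Nat.le_of_mul_le_mul_left this hnpos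
  letI : Fintype (Subgroup G) := Fintype.ofFinite _
  have h3 : Fintype.card (Subgroup G) ≤ 2 ^ n := by
    have := Fintype.card_le_of_injective (fun S : Subgroup G => (S : Set G)) SetLike.coe_injective
    rw [Fintype.card_set, ← Nat.card_eq_fintype_card (α := G)] at this
    exact this
  let stab : Ω → Subgroup G := fun ω => MulAction.stabilizer G (rep ω)
  obtain ⟨S, hS⟩ := Fintype.exists_le_card_fiber_of_mul_le_card stab (n := r)
    ((Nat.mul_le_mul_right _ h3).trans h2)
  have h4 : r ≤ Fintype.card {ω // stab ω = S} := by rwa [Fintype.card_subtype]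
  obtain ⟨x⟩ : Nonempty (Fin r ↪ {ω // stab ω = S}) :=
    Function.Embedding.nonempty_of_card_le (by simpa using h4)
  have hstab : ∀ i, MulAction.stabilizer G (rep (x i).1) = S := fun i => (x i).2
  let ι₀ : (G ⧸ S) × Fin r → α := fun p => Quotient.liftOn' p.1 (fun g => g • rep (x p.2).1) (by
    intro g g' h
    rw [QuotientGroup.leftRel_apply] at h
    have h' : g⁻¹ * g' ∈ MulAction.stabilizer G (rep (x p.2).1) := by
      rw [hstab]; exact h
    rw [MulAction.mem_stabilizer_iff, mul_smul] at h'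
    exact (smul_eq_iff_eq_inv_smul g).mpr h'.symm)
  have hι₀ : ∀ (g : G) (i : Fin r), ι₀ (QuotientGroup.mk g, i) = g • rep (x i).1 := fun g i => rfl
  have hinj : Function.Injective ι₀ := by
    rintro ⟨q, i⟩ ⟨q', j⟩ h
    induction q using Quotient.inductionOn' with | h g
    induction q' using Quotient.inductionOn' with | h g'
    change ι₀ (QuotientGroup.mk g, i) = ι₀ (QuotientGroup.mk g', j) at h
    rw [hι₀, hι₀] at h
    have h5 : rep (x i).1 = (g⁻¹ * g') • rep (x j).1 := by
      rw [mul_smul, ← h, smul_smul, inv_mul_cancel, one_smul]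
    have h6 : (Quotient.mk'' (rep (x i).1) : Ω) = Quotient.mk'' (rep (x j).1) := by
      apply Quotient.sound'
      rw [MulAction.orbitRel_apply]
      exact ⟨g⁻¹ * g', h5.symm⟩
    rw [hrep, hrep] at h6
    have h7 : i = j := x.injective (Subtype.ext h6)
    subst h7
    have h8 : g⁻¹ * g' ∈ S := by
      rw [← hstab i, MulAction.mem_stabilizer_iff]
      exact h5.symm
    have h9 : (QuotientGroup.mk g : G ⧸ S) = QuotientGroup.mk g' := QuotientGroup.eq.mpr h8
    show ((QuotientGroup.mk g : G ⧸ S), i) = (QuotientGroup.mk g', i)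
    rw [h9]
  have hsmul : ∀ (g : G) (q : G ⧸ S) (i : Fin r), g • ι₀ (q, i) = ι₀ (g • q, i) := by
    intro g q i
    induction q using Quotient.inductionOn' with | h h
    change g • ι₀ (QuotientGroup.mk h, i) = ι₀ (QuotientGroup.mk (g * h), i)
    rw [hι₀, hι₀, mul_smul]
  let ι : (G ⧸ S) × Fin r ↪ α := ⟨ι₀, hinj⟩
  refine ⟨(Perm.viaEmbeddingHom ι).comp (prodHom (G ⧸ S) (Fin r)), ?_, ?_, ?_⟩
  · exact (Perm.viaEmbeddingHom_injective ι).comp (prodHom_injective _ _)
  · intro π g y
    simp only [MonoidHom.comp_apply, Perm.viaEmbeddingHom_apply]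
    by_cases hy : y ∈ Set.range ι
    · obtain ⟨⟨q, i⟩, rfl⟩ := hy
      have e1 : g • ι (q, i) = ι (g • q, i) := hsmul g q i
      rw [e1, Perm.viaEmbedding_apply, Perm.viaEmbedding_apply, prodHom_apply, prodHom_apply]
      exact (hsmul g q (π i)).symm
    · have hy' : g • y ∉ Set.range ι := by
        rintro ⟨⟨q, i⟩, hq⟩
        apply hy
        refine ⟨(g⁻¹ • q, i), ?_⟩
        have e1 : ι (g⁻¹ • q, i) = g⁻¹ • ι (q, i) := (hsmul g⁻¹ q i).symm
        rw [e1, hq, smul_smul, inv_mul_cancel, one_smul]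
      rw [Perm.viaEmbedding_apply_of_notMem _ _ _ hy, Perm.viaEmbedding_apply_of_notMem _ _ _ hy']
  · intro π hπ
    simp only [MonoidHom.comp_apply, Perm.viaEmbeddingHom_apply]
    rw [sign_viaEmbedding, sign_prodHom, hπ, one_pow]

theorem result :
    ∃ f : ℕ → ℕ → ℕ, ∀ (m r : ℕ) (H : Subgroup ↥(alternatingGroup (Fin m))), f (Nat.card H) r ≤ m →
      ∃ K : Subgroup ↥(alternatingGroup (Fin m)), Nonempty (↥K ≃* ↥(alternatingGroup (Fin r))) ∧
        K ≤ Subgroup.centralizer (H : Set ↥(alternatingGroup (Fin m))) := by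
  refine ⟨fun n r => n * 2 ^ n * r, ?_⟩
  intro m r H hm
  let f : ↥H →* Perm (Fin m) := (alternatingGroup (Fin m)).subtype.comp H.subtype
  letI : MulAction ↥H (Fin m) := MulAction.compHom (Fin m) f
  have hsm : ∀ (h : ↥H) (x : Fin m),
      h • x = ((h : ↥(alternatingGroup (Fin m))) : Perm (Fin m)) x := fun h x => rfl
  obtain ⟨φ, hφinj, hφeq, hφsign⟩ := lemmaA (G := ↥H) (α := Fin m) r (by simpa using hm)
  let Φ : ↥(alternatingGroup (Fin r)) →* ↥(alternatingGroup (Fin m)) :=
    (φ.comp (alternatingGroup (Fin r)).subtype).codRestrict (alternatingGroup (Fin m)) (fun π => by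
      rw [Equiv.Perm.mem_alternatingGroup]
      exact hφsign _ (Equiv.Perm.mem_alternatingGroup.mp π.2))
  have hΦinj : Function.Injective Φ := by
    intro a b hab
    have h1 := congrArg Subtype.val hab
    exact Subtype.ext (hφinj h1)
  refine ⟨Φ.range, ⟨(MonoidHom.ofInjective hΦinj).symm⟩, ?_⟩
  rintro _ ⟨π, rfl⟩
  rw [Subgroup.mem_centralizer_iff]
  intro h hh
  apply Subtype.ext
  apply Equiv.ext
  intro x
  have h1 := hφeq (π : Perm (Fin r)) ⟨h, hh⟩ x
  rw [hsm, hsm] at h1
  exact h1.symm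

end Cfsg.Agent.S2532
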