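import Mathlib
import Cfsg.Statements.S2533
import Cfsg.Agent.Helper2.L27

set_option autoImplicit false
set_option linter.style.haveILetI false

namespace Cfsg.Agent.S2533

open Matrix

section group

variable (p : ℕ) [Fact p.Prime]

abbrev V3 := Fin 3 → ZMod p

/-- the action of `±1` on `V3`. -/
def negAct : ℤˣ →* MulAut (Multiplicative (V3 p)) where
  toFun s :=
    { toFun := fun v => Multiplicative.ofAdd (s • Multiplicative.toAdd v)
      invFun := fun v => Multiplicative.ofAdd (s⁻¹ • Multiplicative.toAdd v)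
      left_inv := fun v => by
        show Multiplicative.ofAdd (s⁻¹ • s • Multiplicative.toAdd v) = v
        rw [inv_smul_smul]; rfl
      right_inv := fun v => by
        show Multiplicative.ofAdd (s • s⁻¹ • Multiplicative.toAdd v) = v
        rw [smul_inv_smul]; rfl
      map_mul' := fun v w => by simp [smul_add] }
  map_one' := by
    ext v
    simp
  map_mul' s t := by
    ext v
    simp [mul_smul]

abbrev HH := Multiplicative (V3 p) ⋊[negAct p] ℤˣ

instance : Finite (HH p) := Finite.of_equiv _ SemidirectProduct.equivProd.symm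

theorem card_HH : Nat.card (HH p) = 2 * p ^ 3 := by
  rw [Nat.card_congr SemidirectProduct.equivProd, Nat.card_prod]
  have h1 : Nat.card (Multiplicative (V3 p)) = p ^ 3 := by
    rw [Nat.card_eq_fintype_card, Fintype.card_multiplicative, Fintype.card_pi]
    simp [ZMod.card]
  have h2 : Nat.card ℤˣ = 2 := by
    rw [Nat.card_eq_fintype_card]
    rfl
  rw [h1, h2, mul_comm]

end group

section brick

variable {F : Type*} [Field F] (k : ℕ)

def Xm : Matrix (Fin (k + 1)) (Fin k) F := Matrix.of fun l j => if l = Fin.castSucc j then 1 else 0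
def Ym : Matrix (Fin (k + 1)) (Fin k) F := Matrix.of fun l j => if l = Fin.succ j then 1 else 0

variable {k}

theorem mul_Xm {n : Type*} (B : Matrix n (Fin (k + 1)) F) (i : n) (j : Fin k) :
    (B * (Xm k : Matrix (Fin (k + 1)) (Fin k) F)) i j = B i (Fin.castSucc j) := by
  simp [Matrix.mul_apply, Xm]

theorem mul_Ym {n : Type*} (B : Matrix n (Fin (k + 1)) F) (i : n) (j : Fin k) :
    (B * (Ym k : Matrix (Fin (k + 1)) (Fin k) F)) i j = B i (Fin.succ j) := by
  simp [Matrix.mul_apply, Ym]

theorem Xm_mul_castSucc {n : Type*} (A : Matrix (Fin k) n F) (i : Fin k) (j : n) :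
    ((Xm k : Matrix (Fin (k + 1)) (Fin k) F) * A) (Fin.castSucc i) j = A i j := by
  rw [Matrix.mul_apply, Finset.sum_eq_single i]
  · simp [Xm]
  · intro b _ hb
    simp [Xm, Fin.castSucc_inj, Ne.symm hb]
  · simp

theorem Xm_mul_last {n : Type*} (A : Matrix (Fin k) n F) (j : n) :
    ((Xm k : Matrix (Fin (k + 1)) (Fin k) F) * A) (Fin.last k) j = 0 := by
  rw [Matrix.mul_apply]
  apply Finset.sum_eq_zero
  intro b _
  have : Fin.last k ≠ Fin.castSucc b := (Fin.castSucc_lt_last b).ne'
  simp [Xm, this]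

theorem Ym_mul_succ {n : Type*} (A : Matrix (Fin k) n F) (i : Fin k) (j : n) :
    ((Ym k : Matrix (Fin (k + 1)) (Fin k) F) * A) (Fin.succ i) j = A i j := by
  rw [Matrix.mul_apply, Finset.sum_eq_single i]
  · simp [Ym]
  · intro b _ hb
    simp [Ym, Fin.succ_inj, Ne.symm hb]
  · simp

theorem Ym_mul_zero {n : Type*} (A : Matrix (Fin k) n F) (j : n) :
    ((Ym k : Matrix (Fin (k + 1)) (Fin k) F) * A) 0 j = 0 := by
  rw [Matrix.mul_apply]
  apply Finset.sum_eq_zero
  intro b _
  have : (0 : Fin (k + 1)) ≠ Fin.succ b := (Fin.succ_ne_zero b).symm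
  simp [Ym, this]

theorem toeplitz (D : Matrix (Fin (k + 1)) (Fin (k + 1)) F) (A : Matrix (Fin k) (Fin k) F)
    (h1 : ∀ i j, D (Fin.castSucc i) (Fin.castSucc j) = A i j)
    (h2 : ∀ j, D (Fin.last k) (Fin.castSucc j) = 0)
    (h3 : ∀ i j, D (Fin.succ i) (Fin.succ j) = A i j)
    (h4 : ∀ j, D 0 (Fin.succ j) = 0) :
    D = D 0 0 • (1 : Matrix _ _ F) ∧ A = D 0 0 • (1 : Matrix _ _ F) := by
  have shift : ∀ (r c : ℕ) (hr : r < k) (hc : c < k),
      D ⟨r + 1, by omega⟩ ⟨c + 1, by omega⟩ = D ⟨r, by omega⟩ ⟨c, by omega⟩ := by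
    intro r c hr hc
    have e1 := h3 ⟨r, hr⟩ ⟨c, hc⟩
    have e2 := h1 ⟨r, hr⟩ ⟨c, hc⟩
    rw [← e2] at e1
    exact e1
  have upper : ∀ (r c : ℕ) (hrc : r < c) (hc : c < k + 1), D ⟨r, by omega⟩ ⟨c, hc⟩ = 0 := by
    intro r
    induction r with
    | zero =>
      intro c hrc hc
      obtain ⟨c', rfl⟩ : ∃ c', c = c' + 1 := ⟨c - 1, by omega⟩
      exact h4 ⟨c', by omega⟩
    | succ r ih =>
      intro c hrc hc
      obtain ⟨c', rfl⟩ : ∃ c', c = c' + 1 := ⟨c - 1, by omega⟩
      rw [shift r c' (by omega) (by omega)]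
      exact ih c' (by omega) (by omega)
  have lower : ∀ (t r c : ℕ) (ht : r + t = k) (hcr : c < r), D ⟨r, by omega⟩ ⟨c, by omega⟩ = 0 := by
    intro t
    induction t with
    | zero =>
      intro r c ht hcr
      have hr : r = k := by omega
      subst hr
      exact h2 ⟨c, hcr⟩
    | succ t ih =>
      intro r c ht hcr
      rw [← shift r c (by omega) (by omega)]
      exact ih (r + 1) (c + 1) (by omega) (by omega)
  have diag : ∀ (r : ℕ) (hr : r < k + 1), D ⟨r, hr⟩ ⟨r, hr⟩ = D 0 0 := by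
    intro r
    induction r with
    | zero => intro _; rfl
    | succ r ih =>
      intro hr
      rw [shift r r (by omega) (by omega)]
      exact ih (by omega)
  have hD : D = D 0 0 • (1 : Matrix _ _ F) := by
    ext ⟨r, hr⟩ ⟨c, hc⟩
    rw [Matrix.smul_apply, Matrix.one_apply, smul_eq_mul]
    rcases lt_trichotomy r c with h | h | h
    · rw [upper r c h hc, if_neg (by simp; omega), mul_zero]
    · subst h
      rw [diag r hr, if_pos rfl, mul_one]
    · rw [lower (k - r) r c (by omega) h, if_neg (by simp; omega), mul_zero]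
  refine ⟨hD, ?_⟩
  ext i j
  rw [← h1, hD, Matrix.smul_apply, Matrix.smul_apply, Matrix.one_apply, Matrix.one_apply]
  simp [Fin.castSucc_inj]

/-- the unipotent block matrix. -/
def Um (M : Matrix (Fin (k + 1)) (Fin k) F) : Matrix (Fin k ⊕ Fin (k + 1)) (Fin k ⊕ Fin (k + 1)) F :=
  Matrix.fromBlocks 1 0 M 1

/-- the block involution. -/
def Tm (k : ℕ) : Matrix (Fin k ⊕ Fin (k + 1)) (Fin k ⊕ Fin (k + 1)) F :=
  Matrix.fromBlocks 1 0 0 (-1)

theorem unip_rel (hk : 1 ≤ k) (M : Matrix (Fin (k + 1)) (Fin k) F)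
    (A : Matrix (Fin k) (Fin k) F) (B : Matrix (Fin k) (Fin (k + 1)) F)
    (C : Matrix (Fin (k + 1)) (Fin k) F) (D : Matrix (Fin (k + 1)) (Fin (k + 1)) F)
    (hdet : (Matrix.fromBlocks A B C D).det ≠ 0)
    (h : ∃ c : F, Um M * Matrix.fromBlocks A B C D = c • (Matrix.fromBlocks A B C D * Um M)) :
    B * M = 0 ∧ M * A = D * M := by
  obtain ⟨c, hc⟩ := h
  unfold Um at hc
  rw [Matrix.fromBlocks_multiply, Matrix.fromBlocks_multiply, Matrix.fromBlocks_smul,
    Matrix.fromBlocks_inj] at hc
  simp only [Matrix.one_mul, Matrix.zero_mul, add_zero, Matrix.mul_one, Matrix.mul_zero, zero_add] at hc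
  obtain ⟨e1, e2, e3, e4⟩ := hc
  by_cases hc1 : c = 1
  · subst hc1
    rw [one_smul] at e1 e3
    refine ⟨?_, ?_⟩
    · have : A + B * M = A + 0 := by rw [add_zero]; exact e1.symm
      exact add_left_cancel this
    · have : M * A + C = D * M + C := by rw [e3]; abel
      exact add_right_cancel this
  · exfalso
    have hB : B = 0 := by
      have : (1 - c) • B = 0 := by rw [sub_smul, one_smul, ← e2, sub_self]
      rcases smul_eq_zero.mp this with h | h
      · exact absurd (sub_eq_zero.mp h).symm hc1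
      · exact h
    have hA : A = 0 := by
      rw [hB, Matrix.zero_mul, add_zero] at e1
      have : (1 - c) • A = 0 := by rw [sub_smul, one_smul, ← e1, sub_self]
      rcases smul_eq_zero.mp this with h | h
      · exact absurd (sub_eq_zero.mp h).symm hc1
      · exact h
    apply hdet
    rw [hA, hB, Matrix.det_fromBlocks_zero₁₂]
    haveI : Nonempty (Fin k) := ⟨⟨0, hk⟩⟩
    rw [Matrix.det_zero, zero_mul]

theorem brick (hk : 1 ≤ k) (h2 : (2 : F) ≠ 0)
    (G : Matrix (Fin k ⊕ Fin (k + 1)) (Fin k ⊕ Fin (k + 1)) F) (hdet : G.det ≠ 0)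
    (hX : ∃ c : F, Um (Xm k) * G = c • (G * Um (Xm k)))
    (hY : ∃ c : F, Um (Ym k) * G = c • (G * Um (Ym k)))
    (hT : ∃ c : F, Tm k * G = c • (G * Tm k)) : ∃ a : F, G = a • (1 : Matrix _ _ F) := by
  obtain ⟨A, B, C, D, rfl⟩ : ∃ A B C D, G = Matrix.fromBlocks A B C D :=
    ⟨_, _, _, _, (Matrix.fromBlocks_toBlocks G).symm⟩
  obtain ⟨x1, x2⟩ := unip_rel hk (Xm k) A B C D hdet hX
  obtain ⟨y1, y2⟩ := unip_rel hk (Ym k) A B C D hdet hY
  have hB : B = 0 := by
    ext i l
    rw [Matrix.zero_apply]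
    rcases Fin.eq_castSucc_or_eq_last l with ⟨j, rfl⟩ | rfl
    · have := congrFun (congrFun x1 i) j
      rwa [mul_Xm, Matrix.zero_apply] at this
    · have hk' : k - 1 + 1 = k := by omega
      have : Fin.last k = Fin.succ (⟨k - 1, by omega⟩ : Fin k) := by
        ext; simp [hk']
      rw [this]
      have := congrFun (congrFun y1 i) ⟨k - 1, by omega⟩
      rwa [mul_Ym, Matrix.zero_apply] at this
  subst hB
  obtain ⟨c, hc⟩ := hT
  unfold Tm at hc
  rw [Matrix.fromBlocks_multiply, Matrix.fromBlocks_multiply, Matrix.fromBlocks_smul,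
    Matrix.fromBlocks_inj] at hc
  simp only [Matrix.one_mul, Matrix.zero_mul, add_zero, Matrix.mul_one, Matrix.mul_zero, zero_add,
    Matrix.neg_mul, Matrix.mul_neg] at hc
  obtain ⟨e1, -, e3, -⟩ := hc
  rw [Matrix.det_fromBlocks_zero₁₂] at hdet
  have hA : A ≠ 0 := by
    rintro rfl
    haveI : Nonempty (Fin k) := ⟨⟨0, hk⟩⟩
    rw [Matrix.det_zero, zero_mul] at hdet
    exact hdet rfl
  have hc1 : c = 1 := by
    have : (1 - c) • A = 0 := by rw [sub_smul, one_smul, ← e1, sub_self]
    rcases smul_eq_zero.mp this with h | h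
    · exact (sub_eq_zero.mp h).symm
    · exact absurd h hA
  subst hc1
  rw [one_smul] at e3
  have hC : C = 0 := by
    have : (2 : F) • C = 0 := by
      rw [two_smul]
      nth_rewrite 1 [← e3]
      rw [neg_add_cancel]
    rcases smul_eq_zero.mp this with h | h
    · exact absurd h h2
    · exact h
  subst hC
  obtain ⟨hD, hA'⟩ := toeplitz D A
    (fun i j => by
      have := congrFun (congrFun x2 (Fin.castSucc i)) j
      rw [Xm_mul_castSucc, mul_Xm] at this
      exact this.symm)
    (fun j => by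
      have := congrFun (congrFun x2 (Fin.last k)) j
      rw [Xm_mul_last, mul_Xm] at this
      exact this.symm)
    (fun i j => by
      have := congrFun (congrFun y2 (Fin.succ i)) j
      rw [Ym_mul_succ, mul_Ym] at this
      exact this.symm)
    (fun j => by
      have := congrFun (congrFun y2 0) j
      rw [Ym_mul_zero, mul_Ym] at this
      exact this.symm)
  refine ⟨D 0 0, ?_⟩
  rw [← Matrix.fromBlocks_one, Matrix.fromBlocks_smul, smul_zero, smul_zero, ← hD, ← hA']

end brick

section rep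

variable (p : ℕ) [Fact p.Prime] (k : ℕ)

abbrev Idx (k : ℕ) := Fin k ⊕ Fin (k + 1)

def Zm : Matrix (Fin (k + 1)) (Fin k) (ZMod p) :=
  Matrix.of fun l j => if l = Fin.last k ∧ j.val = 0 then 1 else 0

def Lm (v : Fin 3 → ZMod p) : Matrix (Fin (k + 1)) (Fin k) (ZMod p) :=
  v 0 • Xm k + v 1 • Ym k + v 2 • Zm p k

theorem Lm_add (v w : Fin 3 → ZMod p) : Lm p k (v + w) = Lm p k v + Lm p k w := by
  unfold Lm
  simp only [Pi.add_apply, add_smul]
  abel

theorem Lm_neg (v : Fin 3 → ZMod p) : Lm p k (-v) = -Lm p k v := by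
  unfold Lm
  simp only [Pi.neg_apply, neg_smul]
  abel

theorem Lm_zero : Lm p k 0 = 0 := by
  unfold Lm
  simp

/-- the sign of a unit of `ℤ` in `ZMod p`. -/
def sg (s : ℤˣ) : ZMod p := ((s : ℤ) : ZMod p)

theorem sg_one : sg p 1 = 1 := by simp [sg]

theorem sg_neg_one : sg p (-1) = -1 := by simp [sg]

theorem sg_mul (s t : ℤˣ) : sg p (s * t) = sg p s * sg p t := by simp [sg]

theorem Lm_smul (s : ℤˣ) (w : Fin 3 → ZMod p) : Lm p k (s • w) = sg p s • Lm p k w := by
  rcases Int.units_eq_one_or s with rfl | rfl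
  · rw [one_smul, sg_one, one_smul]
  · rw [sg_neg_one, neg_smul, one_smul, ← Lm_neg]
    congr 1
    ext i
    simp [Units.smul_def]

def rhoMat (h : HH p) : Matrix (Idx k) (Idx k) (ZMod p) :=
  Matrix.fromBlocks 1 0 (Lm p k (Multiplicative.toAdd h.left)) (sg p h.right • 1)

theorem rhoMat_mul (h h' : HH p) : rhoMat p k (h * h') = rhoMat p k h * rhoMat p k h' := by
  unfold rhoMat
  rw [Matrix.fromBlocks_multiply]
  have h1 : Multiplicative.toAdd (h * h').left =
      Multiplicative.toAdd h.left + h.right • Multiplicative.toAdd h'.left := rfl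
  rw [h1, Lm_add, Lm_smul, SemidirectProduct.mul_right, sg_mul]
  congr 1
  · simp
  · simp
  · simp
  · simp [smul_smul, mul_comm]

theorem rhoMat_one : rhoMat p k 1 = 1 := by
  unfold rhoMat
  rw [← Matrix.fromBlocks_one]
  congr 1
  · exact Lm_zero p k
  · simp [sg_one]

theorem det_rhoMat (hk : Odd k) (h : HH p) : (rhoMat p k h).det = 1 := by
  unfold rhoMat
  rw [Matrix.det_fromBlocks_zero₁₂, Matrix.det_one, one_mul, Matrix.det_smul, Matrix.det_one,
    mul_one, Fintype.card_fin]
  have hev : Even (k + 1) := hk.add_one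
  rcases Int.units_eq_one_or h.right with e | e
  · rw [e, sg_one, one_pow]
  · rw [e, sg_neg_one, hev.neg_one_pow]

def rho (hk : Odd k) : HH p →* Matrix.SpecialLinearGroup (Idx k) (ZMod p) where
  toFun h := ⟨rhoMat p k h, det_rhoMat p k hk h⟩
  map_one' := Subtype.ext (rhoMat_one p k)
  map_mul' h h' := Subtype.ext (rhoMat_mul p k h h')

end rep

section main

variable (p : ℕ) [Fact p.Prime] (hp : p ≠ 2) (k : ℕ)

include hp in
theorem two_ne_zero_zmod : (2 : ZMod p) ≠ 0 := by
  intro h
  have h1 : ((2 : ℕ) : ZMod p) = 0 := by exact_mod_cast h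
  rw [ZMod.natCast_eq_zero_iff] at h1
  have := (Nat.prime_dvd_prime_iff_eq (Fact.out : p.Prime) Nat.prime_two).mp h1
  exact hp this

include hp in
theorem sg_eq_one (s : ℤˣ) (h : sg p s = 1) : s = 1 := by
  rcases Int.units_eq_one_or s with rfl | rfl
  · rfl
  · exfalso
    rw [sg_neg_one] at h
    apply two_ne_zero_zmod p hp
    linear_combination -h

theorem Lm_eq_zero (hk : 2 ≤ k) (v : Fin 3 → ZMod p) (h : Lm p k v = 0) : v = 0 := by
  have e0 := congrFun (congrFun h 0) ⟨0, by omega⟩
  have e1 := congrFun (congrFun h ⟨1, by omega⟩) ⟨0, by omega⟩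
  have e2 := congrFun (congrFun h (Fin.last k)) ⟨0, by omega⟩
  have hk0 : (0 : Fin (k + 1)) ≠ Fin.last k := by
    intro h; have := congrArg Fin.val h; simp at this; omega
  have hk1 : (⟨1, by omega⟩ : Fin (k + 1)) ≠ Fin.last k := by
    intro h; have := congrArg Fin.val h; simp at this; omega
  have c0 : Fin.castSucc (⟨0, by omega⟩ : Fin k) = (0 : Fin (k + 1)) := by ext; simp
  have s0 : Fin.succ (⟨0, by omega⟩ : Fin k) = (⟨1, by omega⟩ : Fin (k + 1)) := by ext; simp
  have h01 : (0 : Fin (k + 1)) ≠ ⟨1, by omega⟩ := by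
    intro h; have := congrArg Fin.val h; simp at this
  simp only [Lm, Xm, Ym, Zm, Matrix.add_apply, Matrix.smul_apply, Matrix.of_apply, smul_eq_mul,
    Matrix.zero_apply, c0, s0] at e0 e1 e2
  simp only [if_true, h01, h01.symm, hk0, hk0.symm, hk1, hk1.symm, if_false, false_and, true_and,
    mul_one, mul_zero, add_zero, zero_add] at e0 e1 e2
  ext i
  fin_cases i
  · exact e0
  · exact e1
  · exact e2

include hp in
theorem rhoMat_scalar (hk : 2 ≤ k) (h : HH p) (r : ZMod p)
    (hr : rhoMat p k h = r • (1 : Matrix (Idx k) (Idx k) (ZMod p))) : h = 1 := by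
  unfold rhoMat at hr
  rw [← Matrix.fromBlocks_one, Matrix.fromBlocks_smul, Matrix.fromBlocks_inj] at hr
  obtain ⟨e1, -, e3, e4⟩ := hr
  have hr1 : r = 1 := by
    have := congrFun (congrFun e1 ⟨0, by omega⟩) ⟨0, by omega⟩
    simpa using this.symm
  subst hr1
  rw [smul_zero] at e3
  have hv := Lm_eq_zero p k hk _ e3
  have hs : h.right = 1 := by
    apply sg_eq_one p hp
    have := congrFun (congrFun e4 0) 0
    simpa using this
  apply SemidirectProduct.ext
  · exact hv
  · rw [hs]; rfl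

abbrev PSLk := Matrix.ProjectiveSpecialLinearGroup (Idx k) (ZMod p)

def phi (hk : Odd k) : HH p →* PSLk p k :=
  (QuotientGroup.mk' _).comp (rho p k hk)

theorem scalar_eq_smul_one {n : Type*} [Fintype n] [DecidableEq n] (r : ZMod p) :
    Matrix.scalar n r = r • (1 : Matrix n n (ZMod p)) := by
  ext i j
  simp [Matrix.scalar_apply, Matrix.diagonal_apply, Matrix.one_apply]

include hp in
theorem phi_injective (hk : Odd k) (hk2 : 2 ≤ k) : Function.Injective (phi p k hk) := by
  rw [injective_iff_map_eq_one]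
  intro h hh
  have h1 : rho p k hk h ∈ Subgroup.center _ := (QuotientGroup.eq_one_iff _).mp hh
  rw [Matrix.SpecialLinearGroup.mem_center_iff] at h1
  obtain ⟨r, -, hr⟩ := h1
  apply rhoMat_scalar p hp k hk2 h r
  rw [← scalar_eq_smul_one, hr]
  rfl

/-- the three elements used in the brick lemma. -/
def hx : HH p := ⟨Multiplicative.ofAdd (Pi.single 0 1), 1⟩
def hy : HH p := ⟨Multiplicative.ofAdd (Pi.single 1 1), 1⟩
def ht : HH p := ⟨1, -1⟩

theorem rhoMat_hx : rhoMat p k (hx p) = Um (Xm k) := by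
  unfold rhoMat Um hx
  congr 1
  · simp [Lm]
  · simp [sg_one]

theorem rhoMat_hy : rhoMat p k (hy p) = Um (Ym k) := by
  unfold rhoMat Um hy
  congr 1
  · simp [Lm]
  · simp [sg_one]

theorem rhoMat_ht : rhoMat p k (ht p) = Tm k := by
  unfold rhoMat Tm ht
  congr 1
  · exact Lm_zero p k
  · simp [sg_neg_one]

include hp in
theorem centralizer_phi (hk : Odd k) (hk1 : 1 ≤ k) :
    Subgroup.centralizer ((phi p k hk).range : Set (PSLk p k)) = ⊥ := by
  rw [eq_bot_iff]
  intro x hx'
  obtain ⟨g, rfl⟩ := QuotientGroup.mk_surjective x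
  have key : ∀ h : HH p, ∃ c : ZMod p, rhoMat p k h * g.1 = c • (g.1 * rhoMat p k h) := by
    intro h
    have h1 := hx' (phi p k hk h) ⟨h, rfl⟩
    have h2 : (g * rho p k hk h)⁻¹ * (rho p k hk h * g) ∈
        Subgroup.center (Matrix.SpecialLinearGroup (Idx k) (ZMod p)) := by
      rw [← QuotientGroup.eq]
      exact h1.symm
    rw [Matrix.SpecialLinearGroup.mem_center_iff] at h2
    obtain ⟨r, -, hr⟩ := h2
    refine ⟨r, ?_⟩
    have h3 : rho p k hk h * g = (g * rho p k hk h) * ((g * rho p k hk h)⁻¹ * (rho p k hk h * g)) := by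
      group
    have h4 := congrArg Subtype.val h3
    rw [Matrix.SpecialLinearGroup.coe_mul, Matrix.SpecialLinearGroup.coe_mul (g * rho p k hk h),
      ← hr, scalar_eq_smul_one, Matrix.mul_smul, Matrix.mul_one,
      Matrix.SpecialLinearGroup.coe_mul] at h4
    exact h4
  have hX := key (hx p)
  have hY := key (hy p)
  have hT := key (ht p)
  rw [rhoMat_hx] at hX
  rw [rhoMat_hy] at hY
  rw [rhoMat_ht] at hT
  have hdet : g.1.det ≠ 0 := by rw [g.2]; exact one_ne_zero
  obtain ⟨a, ha⟩ := brick hk1 (two_ne_zero_zmod p hp) g.1 hdet hX hY hT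
  rw [Subgroup.mem_bot, QuotientGroup.eq_one_iff, Matrix.SpecialLinearGroup.mem_center_iff]
  refine ⟨a, ?_, ?_⟩
  · have := g.2
    rw [ha, Matrix.det_smul, Matrix.det_one, mul_one] at this
    exact this
  · rw [scalar_eq_smul_one, ← ha]

end main

section transport

/-- reindexing `SL`. -/
def slReindex {m n : Type*} [Fintype m] [DecidableEq m] [Fintype n] [DecidableEq n]
    (R : Type*) [CommRing R] (e : m ≃ n) :
    Matrix.SpecialLinearGroup m R ≃* Matrix.SpecialLinearGroup n R where
  toFun g := ⟨Matrix.reindex e e g.1, by rw [Matrix.det_reindex_self]; exact g.2⟩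
  invFun g := ⟨Matrix.reindex e.symm e.symm g.1, by rw [Matrix.det_reindex_self]; exact g.2⟩
  left_inv g := by
    apply Subtype.ext
    ext i j
    simp
  right_inv g := by
    apply Subtype.ext
    ext i j
    simp
  map_mul' g h := by
    apply Subtype.ext
    show Matrix.reindex e e (g.1 * h.1) = Matrix.reindex e e g.1 * Matrix.reindex e e h.1
    simp only [Matrix.reindex_apply]
    rw [Matrix.submatrix_mul_equiv]

/-- reindexing `PSL`. -/
noncomputable def pslReindex {m n : Type*} [Fintype m] [DecidableEq m] [Fintype n] [DecidableEq n]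
    (R : Type*) [CommRing R] (e : m ≃ n) :
    Matrix.ProjectiveSpecialLinearGroup m R ≃* Matrix.ProjectiveSpecialLinearGroup n R :=
  QuotientGroup.congr _ _ (slReindex R e)
    (Cfsg.Agent.Helper2.L27.map_center_of_mulEquiv (slReindex R e))

theorem centralizer_transport {G G' A : Type*} [Group G] [Group G'] [Group A] (E : G ≃* G')
    (φ : A →* G) (h : Subgroup.centralizer (φ.range : Set G) = ⊥) :
    Subgroup.centralizer (((E.toMonoidHom.comp φ).range : Subgroup G') : Set G') = ⊥ := by
  rw [eq_bot_iff]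
  intro x hx
  rw [Subgroup.mem_bot]
  have h1 : E.symm x ∈ Subgroup.centralizer (φ.range : Set G) := by
    rw [Subgroup.mem_centralizer_iff]
    rintro _ ⟨a, rfl⟩
    have := hx (E (φ a)) ⟨a, rfl⟩
    apply E.injective
    rw [map_mul, map_mul, E.apply_symm_apply]
    exact this
  rw [h, Subgroup.mem_bot] at h1
  have := congrArg E h1
  rwa [E.apply_symm_apply, map_one] at this

end transport

open Cfsg

/-- For every odd prime `p` there is a finite group `H` of order `2p³` which, for infinitely many `n`, embeds in the projective special linear group `PSL(n, p)` as a subgroup with trivial centralizer. -/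
theorem result
    (p : ℕ) [Fact p.Prime] (hp : p ≠ 2) :
    ∃ (H : Type) (_ : Group H) (_ : Finite H), Nat.card H = 2 * p ^ 3 ∧
      ∀ N : ℕ, ∃ n, N ≤ n ∧ ∃ φ : H →* Matrix.ProjectiveSpecialLinearGroup (Fin n) (ZMod p),
        Function.Injective φ ∧ Subgroup.centralizer (φ.range : Set (Matrix.ProjectiveSpecialLinearGroup (Fin n) (ZMod p))) = ⊥ := by
  refine ⟨HH p, inferInstance, inferInstance, card_HH p, ?_⟩
  intro N
  set k := 2 * N + 3 with hk
  have hodd : Odd k := ⟨N + 1, by omega⟩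
  refine ⟨k + (k + 1), by omega, ?_⟩
  let E : PSLk p k ≃* Matrix.ProjectiveSpecialLinearGroup (Fin (k + (k + 1))) (ZMod p) :=
    pslReindex (ZMod p) finSumFinEquiv
  refine ⟨E.toMonoidHom.comp (phi p k hodd), ?_, ?_⟩
  · exact E.injective.comp (phi_injective p hp k hodd (by omega))
  · exact centralizer_transport E _ (centralizer_phi p hp k hodd (by omega))

end Cfsg.Agent.S2533
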