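import Cfsg.Statements.S2534
import Cfsg.Agent.Helper5.S2536ALTEXT
import Cfsg.Agent.Helper3.HallUnivA
import Cfsg.Agent.Helper19.S2536ATMOSTONE
import Cfsg.Agent.Helper24.S2536W3
import Cfsg.Agent.Helper23.S2536DWIT
import Cfsg.Agent.Helper9.S2536W1
import Cfsg.Agent.Lead.S2536W2
import Cfsg.Agent.Helper5.S2536HALLSTRUCT

set_option autoImplicit false
open Cfsg

namespace Cfsg.Agent.S2534

open Cfsg.Agent.S2536P Equiv

theorem prime_le_of_dvd_card_alt {n p : ℕ} (hp : p.Prime)
    (h : p ∣ Nat.card ↥(alternatingGroup (Fin n))) : p ≤ n := by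
  have h1 : p ∣ Nat.card (Perm (Fin n)) := h.trans (Subgroup.card_subgroup_dvd_card _)
  rw [Nat.card_eq_fintype_card, Fintype.card_perm, Fintype.card_fin] at h1
  exact (Nat.Prime.dvd_factorial hp).mp h1

/-- the three structural cases exclude each other -/
theorem key (n : ℕ) (π : Set ℕ) (h2 : Two π n) (hn : NotAll π n)
    (hE : Cfsg.IsEPiGroup π ↥(alternatingGroup (Fin n))) :
    ¬ Cfsg.IsDPiGroup π ↥(alternatingGroup (Fin n)) := by
  have hcard : Nat.card (Fin n) = n := by rw [Nat.card_eq_fintype_card, Fintype.card_fin]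
  obtain ⟨K, hK⟩ := hE
  obtain ⟨K₀, hK₀, -⟩ := exists_hall_of_alt hK
  have hstruct : ∀ K₀ : Subgroup (Perm (Fin n)), Cfsg.IsPiHall π K₀ → _ :=
    fun K₀ hK₀ => hall_struct hK₀ (hcard.symm ▸ h2) (hcard.symm ▸ hn)
  -- a witness `X ≤ Perm (Fin n)` gives a witness in the alternating group
  have hwit : ∀ X : Subgroup (Perm (Fin n)), X ≤ alternatingGroup (Fin n) → PiNum π (Nat.card X) →
      (∀ K₀ : Subgroup (Perm (Fin n)), Cfsg.IsPiHall π K₀ → ¬ X ≤ K₀) →
      ¬ Cfsg.IsDPiGroup π ↥(alternatingGroup (Fin n)) := by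
    intro X hXA hXπ hXno
    refine not_isDPiGroup_of_witness (X.subgroupOf (alternatingGroup (Fin n))) ?_ ⟨K, hK⟩ ?_
    · intro p hp hpd
      rw [card_subgroupOf_of_le hXA] at hpd
      exact hXπ p hp hpd
    · intro K' hK' hle
      obtain ⟨K₀', hK₀', rfl⟩ := exists_hall_of_alt hK'
      apply hXno K₀' hK₀'
      intro x hx
      have : (⟨x, hXA hx⟩ : alternatingGroup (Fin n)) ∈ X.subgroupOf (alternatingGroup (Fin n)) := by
        rw [Subgroup.mem_subgroupOf]
        exact hx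
      have := hle this
      rw [Subgroup.mem_subgroupOf] at this
      exact this
  rw [hcard] at hstruct
  rcases hstruct K₀ hK₀ with ⟨hp, hπ, -⟩ | ⟨h7, h23, -⟩ | ⟨h8, h23, -⟩
  · -- `n` prime
    have h5 : 5 ≤ n := by
      obtain ⟨r, s, hr, hs, hrs, hrπ, hsπ, hrn, hsn⟩ := h2
      have hr' := (hπ r hr hrn).mp hrπ
      have hs' := (hπ s hs hsn).mp hsπ
      have := hr.two_le
      have := hs.two_le
      have h4 : 4 ≤ n := by omega
      rcases Nat.lt_or_ge n 5 with h | h
      · have : n = 4 := by omega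
        subst this
        exact absurd hp (by norm_num)
      · exact h
    obtain ⟨X, hXA, hXπ, hXfix⟩ := witness_prime hp h5 hπ
    refine hwit X hXA hXπ ?_
    intro K₀' hK₀' hle
    rcases hstruct K₀' hK₀' with ⟨-, -, x, rfl⟩ | ⟨h7, h23, -⟩ | ⟨h8, -, -⟩
    · obtain ⟨g, hg, hgx⟩ := hXfix x
      exact hgx (hle hg)
    · subst h7
      have h5π : (5 : ℕ) ∈ π := (hπ 5 (by norm_num) (by norm_num)).mpr (by norm_num)
      have := (h23 5 (by norm_num) (by norm_num)).mp h5π
      omega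
    · subst h8
      exact absurd hp (by norm_num)
  · subst h7
    obtain ⟨X, hXA, hXπ, hXno⟩ := witness_seven h23
    refine hwit X hXA hXπ ?_
    intro K₀' hK₀' hle
    rcases hstruct K₀' hK₀' with ⟨-, hπ, -⟩ | ⟨-, -, p, hp4, rfl⟩ | ⟨h8, -, -⟩
    · have h5π : (5 : ℕ) ∈ π := (hπ 5 (by norm_num) (by norm_num)).mpr (by norm_num)
      have := (h23 5 (by norm_num) (by norm_num)).mp h5π
      omega
    · exact hXno p hp4 hle
    · omega
  · subst h8
    obtain ⟨X, hXA, hXπ, hXno⟩ := witness_eight h23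
    refine hwit X hXA hXπ ?_
    intro K₀' hK₀' hle
    rcases hstruct K₀' hK₀' with ⟨hp, -, -⟩ | ⟨h7, -, -⟩ | ⟨-, -, p, hp4, rfl⟩
    · exact absurd hp (by norm_num)
    · omega
    · exact hXno p hp4 hle

/-- For `n ≥ 5` and a set of primes `π`, the alternating group of degree `n` satisfies the full Sylow analogue for `π` (its maximal `π`-subgroups are pairwise conjugate; for a finite group this says Hall `π`-subgroups exist, are all conjugate, and contain every `π`-subgroup up to conjugacy) if and only if either at most one prime of `π` divides its order or every prime dividing its order lies in `π`. -/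
theorem result (n : ℕ) (hn : 5 ≤ n) (π : Set ℕ) :
    Cfsg.IsDPiGroup π ↥(alternatingGroup (Fin n)) ↔
      ((∀ r s : ℕ, r.Prime → s.Prime → r ∈ π → s ∈ π → r ∣ Nat.card ↥(alternatingGroup (Fin n)) → s ∣ Nat.card ↥(alternatingGroup (Fin n)) → r = s) ∨
        ∀ r : ℕ, r.Prime → r ∣ Nat.card ↥(alternatingGroup (Fin n)) → r ∈ π) := by
  constructor
  · intro hD
    by_contra hcon
    push Not at hcon
    obtain ⟨⟨r, s, hr, hs, hrπ, hsπ, hrd, hsd, hrs⟩, ⟨t, ht, htd, htπ⟩⟩ := hcon
    have h2 : Two π n := ⟨r, s, hr, hs, hrs, hrπ, hsπ, prime_le_of_dvd_card_alt hr hrd,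
      prime_le_of_dvd_card_alt hs hsd⟩
    have hN : NotAll π n := ⟨t, ht, prime_le_of_dvd_card_alt ht htd, htπ⟩
    exact key n π h2 hN (Cfsg.Agent.Helper3.HallUniv.isEPiGroup_of_isDPiGroup π hD) hD
  · rintro (h | h)
    · exact isDPiGroup_of_atMostOne' h
    · exact isDPiGroup_of_all' h

end Cfsg.Agent.S2534
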