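import Cfsg.Statements.S2537
import Cfsg.Agent.Helper18.Hall23

set_option autoImplicit false
open Cfsg

namespace Cfsg.Agent.S2537

/-- Let `F` be a finite field with `q` elements of characteristic `p ≥ 5`, and `ε = 1` if `q ≡ 1 (mod 4)`, `ε = -1` otherwise. Then `PSL(2, F)` has a Hall `{2, 3}`-subgroup if and only if `3` divides `q − ε`, or the `{2,3}`-part of `q² − 1` is 24, or the `{2,3}`-part of `q² − 1` is 48 (the `{2,3}`-part of `m` being the largest divisor of `m` with no prime factor other than 2 and 3). -/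
theorem result {F : Type*} [Field F] [Fintype F] {p : ℕ} [Fact p.Prime] [CharP F p]
    (hp : 5 ≤ p) (q : ℕ) (hq : Fintype.card F = q) :
    (∃ H : Subgroup (Matrix.ProjectiveSpecialLinearGroup (Fin 2) F), Cfsg.IsPiHall ({2, 3} : Set ℕ) H) ↔
      (3 ∣ q - 1 ∧ q % 4 = 1) ∨ (3 ∣ q + 1 ∧ q % 4 = 3) ∨
        2 ^ (q ^ 2 - 1).factorization 2 * 3 ^ (q ^ 2 - 1).factorization 3 = 24 ∨
        2 ^ (q ^ 2 - 1).factorization 2 * 3 ^ (q ^ 2 - 1).factorization 3 = 48 := by
  classical
  have hpp : p.Prime := Fact.out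
  have hp2 : p ≠ 2 := by omega
  have h2F : (2 : F) ≠ 0 := Cfsg.Agent.Helper18.Dickson.two_ne_zero_of_char (E := F) p hp2
  obtain ⟨n, -, hn⟩ := FiniteField.card F p
  have hqn : q = p ^ (n : ℕ) := by rw [← hq, hn]
  have hpq : p ∣ q := by rw [hqn]; exact dvd_pow_self p n.ne_zero
  have hodd : Odd q := by
    rw [← hq]; exact Cfsg.Agent.Helper18.Dickson.odd_card_of_char p hp2
  have hq3 : ¬ 3 ∣ q := by
    intro h
    rw [hqn] at h
    have := (Nat.prime_dvd_prime_iff_eq Nat.prime_three hpp).1 (Nat.prime_three.dvd_of_dvd_pow h)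
    omega
  have hq5 : 5 ≤ q := le_trans hp (Nat.le_of_dvd (by obtain ⟨k, rfl⟩ := hodd; omega) hpq)
  have hq1 : 1 ≤ q := by omega
  have hcP := Cfsg.Agent.Helper18.Dickson.two_mul_card_psl (F := F) h2F
  rw [hq] at hcP
  have hprod := Cfsg.Agent.Helper18.Hall23.prod_eq hq1
  have hN0 : q ^ 2 - 1 ≠ 0 := by
    have : 5 ^ 2 ≤ q ^ 2 := Nat.pow_le_pow_left hq5 2
    omega
  have h8 := Cfsg.Agent.Helper18.Hall23.eight_dvd hodd
  have h3 := Cfsg.Agent.Helper18.Hall23.three_dvd hq3
  have hcopq : ∀ j : ℕ, Nat.Coprime (2 ^ j) q := fun j =>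
    Nat.Coprime.pow_left j (Nat.coprime_two_left.2 hodd)
  have hcop3q : ∀ j : ℕ, Nat.Coprime (3 ^ j) q := fun j =>
    Nat.Coprime.pow_left j ((Nat.Prime.coprime_iff_not_dvd Nat.prime_three).2 hq3)
  -- divisibility of `q² - 1` by a prime power dividing `2 |G|`
  have hdvdN2 : ∀ j : ℕ, 2 ^ j ∣ (q ^ 2 - 1) * q → 2 ^ j ∣ q ^ 2 - 1 := fun j h =>
    (hcopq j).dvd_of_dvd_mul_right h
  have hdvdN3 : ∀ j : ℕ, 3 ^ j ∣ (q ^ 2 - 1) * q → 3 ^ j ∣ q ^ 2 - 1 := fun j h =>
    (hcop3q j).dvd_of_dvd_mul_right h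
  constructor
  · rintro ⟨H, hH1, hH2⟩
    have hidx : Nat.card H * H.index = Nat.card (Matrix.ProjectiveSpecialLinearGroup (Fin 2) F) :=
      H.card_mul_index
    have hno2 : ¬ 2 ∣ H.index := hH2 2 Nat.prime_two (by simp)
    have hno3 : ¬ 3 ∣ H.index := hH2 3 Nat.prime_three (by simp)
    have hpH : ¬ p ∣ Nat.card H := by
      intro h
      have := hH1 p hpp h
      simp only [Set.mem_insert_iff, Set.mem_singleton_iff] at this
      omega
    have hG2 : 2 * (Nat.card H * H.index) = (q ^ 2 - 1) * q := by rw [hidx, hcP, hprod]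
    rcases Cfsg.Agent.Helper18.Dickson.pprime_dickson p hp2 H hpH with
      ⟨k, hk, ⟨-, hc⟩ | ⟨⟨e⟩⟩⟩ | ⟨⟨e⟩⟩ | ⟨⟨e⟩⟩ | ⟨⟨e⟩⟩
    · rw [hq] at hk
      have hd : Nat.card H ∣ q + 1 ∨ Nat.card H ∣ q - 1 := by
        rw [hc]
        rcases hk with hk | hk
        · left; exact dvd_trans hk (Nat.div_dvd_of_dvd (by obtain ⟨j, rfl⟩ := hodd; omega))
        · right; exact dvd_trans hk (Nat.div_dvd_of_dvd (by obtain ⟨j, rfl⟩ := hodd; omega))
      rcases Cfsg.Agent.Helper18.Hall23.cyc_dih_arith hodd hq3 hcP hidx hno2 hno3 hd with h | h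
      · exact Or.inl h
      · exact Or.inr (Or.inl h)
    · rw [hq] at hk
      have hc : Nat.card H = 2 * k := by
        rw [Nat.card_congr e.toEquiv, DihedralGroup.nat_card]
      have hd : Nat.card H ∣ q + 1 ∨ Nat.card H ∣ q - 1 := by
        rw [hc]
        rcases hk with hk | hk
        · left
          have : q + 1 = 2 * ((q + 1) / 2) := by obtain ⟨j, rfl⟩ := hodd; omega
          rw [this]; exact Nat.mul_dvd_mul_left 2 hk
        · right
          have : q - 1 = 2 * ((q - 1) / 2) := by obtain ⟨j, rfl⟩ := hodd; omega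
          rw [this]; exact Nat.mul_dvd_mul_left 2 hk
      rcases Cfsg.Agent.Helper18.Hall23.cyc_dih_arith hodd hq3 hcP hidx hno2 hno3 hd with h | h
      · exact Or.inl h
      · exact Or.inr (Or.inl h)
    · right; right; left
      have hc : Nat.card H = 12 := by
        rw [Nat.card_congr e.toEquiv]; exact Cfsg.Agent.Helper18.Dickson.card_A4
      rw [hc] at hG2
      have ha : (q ^ 2 - 1).factorization 2 = 3 := by
        apply Cfsg.Agent.Helper18.Hall23.fact_eq Nat.prime_two hN0 (by norm_num; exact h8)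
        intro h16
        have : 2 ^ 4 ∣ (q ^ 2 - 1) * q := dvd_mul_of_dvd_left h16 _
        rw [← hG2] at this
        apply hno2
        obtain ⟨c, hc'⟩ := this
        omega
      have hb : (q ^ 2 - 1).factorization 3 = 1 := by
        apply Cfsg.Agent.Helper18.Hall23.fact_eq Nat.prime_three hN0 (by norm_num; exact h3)
        intro h9
        have : 3 ^ 2 ∣ (q ^ 2 - 1) * q := dvd_mul_of_dvd_left h9 _
        rw [← hG2] at this
        apply hno3
        obtain ⟨c, hc'⟩ := this
        omega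
      rw [ha, hb]; norm_num
    · right; right; right
      have hc : Nat.card H = 24 := by
        rw [Nat.card_congr e.toEquiv]; exact Cfsg.Agent.Helper18.Dickson.card_S4
      rw [hc] at hG2
      have ha : (q ^ 2 - 1).factorization 2 = 4 := by
        apply Cfsg.Agent.Helper18.Hall23.fact_eq Nat.prime_two hN0
        · apply hdvdN2
          rw [← hG2]
          exact ⟨3 * H.index, by ring⟩
        · intro h32
          have : 2 ^ 5 ∣ (q ^ 2 - 1) * q := dvd_mul_of_dvd_left h32 _
          rw [← hG2] at this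
          apply hno2
          obtain ⟨c, hc'⟩ := this
          omega
      have hb : (q ^ 2 - 1).factorization 3 = 1 := by
        apply Cfsg.Agent.Helper18.Hall23.fact_eq Nat.prime_three hN0 (by norm_num; exact h3)
        intro h9
        have : 3 ^ 2 ∣ (q ^ 2 - 1) * q := dvd_mul_of_dvd_left h9 _
        rw [← hG2] at this
        apply hno3
        obtain ⟨c, hc'⟩ := this
        omega
      rw [ha, hb]; norm_num
    · exfalso
      have hc : Nat.card H = 60 := by
        rw [Nat.card_congr e.toEquiv]; exact Cfsg.Agent.Helper18.Dickson.card_A5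
      have := hH1 5 Nat.prime_five (by rw [hc]; norm_num)
      simp at this
  · intro hcases
    -- Hall subgroups of the dihedral subgroups
    have hdih : ∀ (M : Subgroup (Matrix.ProjectiveSpecialLinearGroup (Fin 2) F)) (m k : ℕ),
        Nat.card M = m → Nonempty (M ≃* DihedralGroup k) → 0 < m →
        (∀ i : ℕ, i * m = Nat.card (Matrix.ProjectiveSpecialLinearGroup (Fin 2) F) →
          ¬ 2 ∣ i ∧ ¬ 3 ∣ i) →
        ∃ H : Subgroup (Matrix.ProjectiveSpecialLinearGroup (Fin 2) F),
          Cfsg.IsPiHall ({2, 3} : Set ℕ) H := by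
      intro M m k hcM ⟨e⟩ hm hi
      have hsolv : Group.IsSolvable M := by
        have := Cfsg.Agent.Helper18.Dickson.isSolvable_dihedral k
        exact Group.isSolvable_of_isSolvable_injective (f := e.toMonoidHom) e.injective
      obtain ⟨H, hHM, hH1, hH2⟩ := Cfsg.Agent.Lead.exists_isPiHallOf ({2, 3} : Set ℕ) hsolv
      refine ⟨H, hH1, ?_⟩
      intro r hr hrpi hdvd
      rw [← Subgroup.relIndex_mul_index hHM] at hdvd
      rcases (Nat.Prime.dvd_mul hr).1 hdvd with h | h
      · exact hH2 r hr hrpi h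
      · have h1 := hi M.index (by rw [← hcM, mul_comm]; exact M.card_mul_index)
        simp only [Set.mem_insert_iff, Set.mem_singleton_iff] at hrpi
        rcases hrpi with rfl | rfl
        · exact h1.1 h
        · exact h1.2 h
    obtain ⟨j, hj⟩ := hodd
    rcases hcases with ⟨h3', h4⟩ | ⟨h3', h4⟩ | h24 | h48
    · obtain ⟨M, hcM, hM⟩ := Cfsg.Agent.Helper18.Dickson.exists_dihedral_minus (F := F) p hp2
        (by rw [hq]; exact hq5)
      rw [hq] at hcM
      refine hdih M (q - 1) _ hcM hM (by omega) ?_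
      intro i hi
      have h1 : 2 * i * (q - 1) = (q + 1) * q * (q - 1) := by
        rw [mul_assoc, hi, hcP]; ring
      have h2 : 2 * i = (q + 1) * q := Nat.eq_of_mul_eq_mul_right (by omega) h1
      constructor
      · intro hd
        obtain ⟨c, rfl⟩ := hd
        have h5 : 2 ^ 2 ∣ (q + 1) * q := ⟨c, by rw [← h2]; ring⟩
        have := (hcopq 2).dvd_of_dvd_mul_right h5
        omega
      · intro hd
        have h5 : 3 ∣ (q + 1) * q := by rw [← h2]; exact dvd_mul_of_dvd_right hd 2
        rcases (Nat.Prime.dvd_mul Nat.prime_three).1 h5 with h | h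
        · omega
        · exact hq3 h
    · obtain ⟨M, hcM, hM⟩ := Cfsg.Agent.Helper18.Dickson.exists_dihedral_plus (F := F) p hp2
      rw [hq] at hcM
      refine hdih M (q + 1) _ hcM hM (by omega) ?_
      intro i hi
      have h1 : 2 * i * (q + 1) = (q - 1) * q * (q + 1) := by
        rw [mul_assoc, hi, hcP]; ring
      have h2 : 2 * i = (q - 1) * q := Nat.eq_of_mul_eq_mul_right (by omega) h1
      constructor
      · intro hd
        obtain ⟨c, rfl⟩ := hd
        have h5 : 2 ^ 2 ∣ (q - 1) * q := ⟨c, by rw [← h2]; ring⟩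
        have := (hcopq 2).dvd_of_dvd_mul_right h5
        omega
      · intro hd
        have h5 : 3 ∣ (q - 1) * q := by rw [← h2]; exact dvd_mul_of_dvd_right hd 2
        rcases (Nat.Prime.dvd_mul Nat.prime_three).1 h5 with h | h
        · omega
        · exact hq3 h
    · obtain ⟨ha, hb⟩ := Cfsg.Agent.Helper18.Hall23.eq_24 h24
      obtain ⟨H, ⟨e⟩⟩ := (Cfsg.Agent.S0802.result (F := F) p n (by rw [hn])).2
        (fun h => hp2 h.1)
      have hc : Nat.card H = 12 := by
        rw [Nat.card_congr e.toEquiv]; exact Cfsg.Agent.Helper18.Dickson.card_A4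
      have hidx := H.card_mul_index
      rw [hc] at hidx
      have hG2 : 2 * (12 * H.index) = (q ^ 2 - 1) * q := by rw [hidx, hcP, hprod]
      refine ⟨H, ?_, ?_⟩
      · intro r hr hd
        rw [hc] at hd
        have h12 : r ∣ 2 ^ 2 * 3 := by norm_num; exact hd
        rcases (Nat.Prime.dvd_mul hr).1 h12 with h | h
        · left; exact (Nat.prime_dvd_prime_iff_eq hr Nat.prime_two).1 (hr.dvd_of_dvd_pow h)
        · right; exact (Nat.prime_dvd_prime_iff_eq hr Nat.prime_three).1 h
      · intro r hr hrpi hd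
        simp only [Set.mem_insert_iff, Set.mem_singleton_iff] at hrpi
        rcases hrpi with rfl | rfl
        · obtain ⟨c, hc'⟩ := hd
          have : 2 ^ 4 ∣ (q ^ 2 - 1) * q := ⟨3 * c, by rw [← hG2, hc']; ring⟩
          have := (Nat.Prime.pow_dvd_iff_le_factorization Nat.prime_two hN0).1 (hdvdN2 4 this)
          omega
        · obtain ⟨c, hc'⟩ := hd
          have : 3 ^ 2 ∣ (q ^ 2 - 1) * q := ⟨8 * c, by rw [← hG2, hc']; ring⟩
          have := (Nat.Prime.pow_dvd_iff_le_factorization Nat.prime_three hN0).1 (hdvdN3 2 this)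
          omega
    · obtain ⟨ha, hb⟩ := Cfsg.Agent.Helper18.Hall23.eq_48 h48
      have h16 : 2 ^ 4 ∣ q ^ 2 - 1 :=
        (Nat.Prime.pow_dvd_iff_le_factorization Nat.prime_two hN0).2 (by omega)
      have hsq : q ^ 2 % 16 = 1 := by
        have : 5 ^ 2 ≤ q ^ 2 := Nat.pow_le_pow_left hq5 2
        omega
      obtain ⟨H, ⟨e⟩⟩ := (Cfsg.Agent.S0803.result (F := F) hq).2 hsq
      have hc : Nat.card H = 24 := by
        rw [Nat.card_congr e.toEquiv]; exact Cfsg.Agent.Helper18.Dickson.card_S4
      have hidx := H.card_mul_index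
      rw [hc] at hidx
      have hG2 : 2 * (24 * H.index) = (q ^ 2 - 1) * q := by rw [hidx, hcP, hprod]
      refine ⟨H, ?_, ?_⟩
      · intro r hr hd
        rw [hc] at hd
        have h24' : r ∣ 2 ^ 3 * 3 := by norm_num; exact hd
        rcases (Nat.Prime.dvd_mul hr).1 h24' with h | h
        · left; exact (Nat.prime_dvd_prime_iff_eq hr Nat.prime_two).1 (hr.dvd_of_dvd_pow h)
        · right; exact (Nat.prime_dvd_prime_iff_eq hr Nat.prime_three).1 h
      · intro r hr hrpi hd
        simp only [Set.mem_insert_iff, Set.mem_singleton_iff] at hrpi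
        rcases hrpi with rfl | rfl
        · obtain ⟨c, hc'⟩ := hd
          have : 2 ^ 5 ∣ (q ^ 2 - 1) * q := ⟨3 * c, by rw [← hG2, hc']; ring⟩
          have := (Nat.Prime.pow_dvd_iff_le_factorization Nat.prime_two hN0).1 (hdvdN2 5 this)
          omega
        · obtain ⟨c, hc'⟩ := hd
          have : 3 ^ 2 ∣ (q ^ 2 - 1) * q := ⟨16 * c, by rw [← hG2, hc']; ring⟩
          have := (Nat.Prime.pow_dvd_iff_le_factorization Nat.prime_three hN0).1 (hdvdN3 2 this)
          omega

end Cfsg.Agent.S2537
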