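import Mathlib
import Cfsg.Statements.S2540
import Cfsg.Agent.Helper2.PSLSimple
import Cfsg.Agent.Helper2.SLCard

set_option autoImplicit false
open Cfsg

namespace Cfsg.Agent.S2540

open Matrix
open scoped commutatorElement

/-- abstract core: `S` perfect with `S/Z(S)` simple -/
theorem core {F : Type*} [Field F] {n : ℕ}
    (hsimple : IsSimpleGroup (Matrix.ProjectiveSpecialLinearGroup (Fin n) F))
    (hperf : commutator (Matrix.SpecialLinearGroup (Fin n) F) = ⊤)
    (G : Subgroup (Matrix.GeneralLinearGroup (Fin n) F))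
    (hG : ∀ s : Matrix.SpecialLinearGroup (Fin n) F, ∀ g ∈ G,
      (Matrix.SpecialLinearGroup.toGL s) * g * (Matrix.SpecialLinearGroup.toGL s)⁻¹ ∈ G) :
    (∀ g ∈ G, ∃ c : F, (g : Matrix (Fin n) (Fin n) F) = c • (1 : Matrix (Fin n) (Fin n) F)) ∨
      (Matrix.SpecialLinearGroup.toGL :
        Matrix.SpecialLinearGroup (Fin n) F →* _).range ≤ G := by
  classical
  set toGL : Matrix.SpecialLinearGroup (Fin n) F →* Matrix.GeneralLinearGroup (Fin n) F :=
    Matrix.SpecialLinearGroup.toGL with htoGL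
  set S' : Subgroup (Matrix.GeneralLinearGroup (Fin n) F) := toGL.range with hS'
  have hS'normal : S'.Normal := by
    rw [hS', htoGL, Cfsg.Agent.Helper2.range_toGL_eq_ker_det]
    exact MonoidHom.normal_ker _
  set H : Subgroup (Matrix.SpecialLinearGroup (Fin n) F) := G.comap toGL with hH
  have hHnormal : H.Normal := by
    constructor
    intro h hh s
    rw [hH, Subgroup.mem_comap, map_mul, map_mul, map_inv]
    exact hG s _ hh
  set Z := Subgroup.center (Matrix.SpecialLinearGroup (Fin n) F) with hZ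
  have hmapnormal : (H.map (QuotientGroup.mk' Z)).Normal :=
    hHnormal.map _ (QuotientGroup.mk'_surjective Z)
  rcases hmapnormal.eq_bot_or_eq_top with hbot | htop
  · -- H ≤ Z
    left
    have hHZ : H ≤ Z := by
      have := (Subgroup.map_eq_bot_iff H).mp hbot
      rwa [QuotientGroup.ker_mk'] at this
    have hinf : G ⊓ S' ≤ Subgroup.center (Matrix.GeneralLinearGroup (Fin n) F) := by
      rintro x ⟨hxG, ⟨h, rfl⟩⟩
      have hhH : h ∈ H := hxG
      have hhZ := hHZ hhH
      rw [Matrix.SpecialLinearGroup.mem_center_iff] at hhZ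
      obtain ⟨r, _, hr⟩ := hhZ
      rw [Matrix.GeneralLinearGroup.mem_center_iff_val_mem_range_scalar]
      exact ⟨r, by rw [hr]; rfl⟩
    have hGS' : ⁅G, S'⁆ ≤ G ⊓ S' := by
      apply le_inf
      · rw [Subgroup.commutator_le]
        rintro g hg x ⟨s, rfl⟩
        have h1 := hG s g⁻¹ (G.inv_mem hg)
        have : ⁅g, toGL s⁆ = g * (toGL s * g⁻¹ * (toGL s)⁻¹) := by
          rw [commutatorElement_def]; group
        rw [this]
        exact G.mul_mem hg h1
      · exact Subgroup.commutator_le_right G S'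
    have hcen : ∀ K : Subgroup (Matrix.GeneralLinearGroup (Fin n) F),
        ⁅Subgroup.center (Matrix.GeneralLinearGroup (Fin n) F), K⁆ = ⊥ := by
      intro K
      rw [Subgroup.commutator_eq_bot_iff_le_centralizer]
      exact Subgroup.center_le_centralizer _
    have h2 : ⁅⁅G, S'⁆, S'⁆ = ⊥ := by
      rw [eq_bot_iff]
      calc ⁅⁅G, S'⁆, S'⁆ ≤ ⁅Subgroup.center (Matrix.GeneralLinearGroup (Fin n) F), S'⁆ :=
            Subgroup.commutator_mono (hGS'.trans hinf) le_rfl
        _ = ⊥ := hcen S'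
    have h1 : ⁅⁅S', G⁆, S'⁆ = ⊥ := by
      rw [Subgroup.commutator_comm S' G]; exact h2
    have h3 := Subgroup.commutator_commutator_eq_bot_of_rotate h1 h2
    have hperf' : ⁅S', S'⁆ = S' := by
      have := Subgroup.map_commutator (⊤ : Subgroup (Matrix.SpecialLinearGroup (Fin n) F)) ⊤ toGL
      rw [← commutator_def, hperf, ← MonoidHom.range_eq_map] at this
      exact this.symm
    rw [hperf', Subgroup.commutator_comm, Subgroup.commutator_eq_bot_iff_le_centralizer] at h3
    intro g hg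
    have hgc := h3 hg
    rw [Subgroup.mem_centralizer_iff] at hgc
    have hcomm : ∀ t : Matrix.TransvectionStruct (Fin n) F,
        Commute t.toMatrix (g : Matrix (Fin n) (Fin n) F) := by
      intro t
      have hmem : toGL ⟨t.toMatrix, by simp⟩ ∈ (S' : Set (Matrix.GeneralLinearGroup (Fin n) F)) :=
        ⟨_, rfl⟩
      have h4 := congrArg (fun x : Matrix.GeneralLinearGroup (Fin n) F =>
        (x : Matrix (Fin n) (Fin n) F)) (hgc _ hmem)
      simp only [Units.val_mul] at h4
      have h5 : t.toMatrix * (g : Matrix (Fin n) (Fin n) F) =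
          (g : Matrix (Fin n) (Fin n) F) * t.toMatrix := h4
      exact h5
    obtain ⟨c, hc⟩ := Matrix.mem_range_scalar_of_commute_transvectionStruct hcomm
    refine ⟨c, ?_⟩
    rw [← hc]
    ext i j
    simp [Matrix.scalar_apply, Matrix.diagonal_apply, Matrix.one_apply]
  · -- H ⊔ Z = ⊤, so H = ⊤
    right
    have hdecomp : ∀ s : Matrix.SpecialLinearGroup (Fin n) F, ∃ h ∈ H, ∃ z ∈ Z, s = h * z := by
      intro s
      have : (QuotientGroup.mk' Z) s ∈ H.map (QuotientGroup.mk' Z) := by rw [htop]; trivial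
      obtain ⟨h, hh, hhs⟩ := this
      refine ⟨h, hh, h⁻¹ * s, ?_, by group⟩
      have := QuotientGroup.eq.mp hhs
      exact this
    have hcomm_le : commutator (Matrix.SpecialLinearGroup (Fin n) F) ≤ H := by
      rw [commutator_def, Subgroup.commutator_le]
      intro s _ t _
      obtain ⟨h, hh, z, hz, rfl⟩ := hdecomp s
      obtain ⟨h', hh', z', hz', rfl⟩ := hdecomp t
      have hzc := Subgroup.mem_center_iff.mp hz
      have hz'c := Subgroup.mem_center_iff.mp hz'
      have : ⁅h * z, h' * z'⁆ = ⁅h, h'⁆ := by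
        rw [commutatorElement_def, commutatorElement_def]
        have e1 : (h * z)⁻¹ = z⁻¹ * h⁻¹ := mul_inv_rev h z
        have e2 : (h' * z')⁻¹ = z'⁻¹ * h'⁻¹ := mul_inv_rev h' z'
        rw [e1, e2]
        have c1 : ∀ x, x * z = z * x := fun x => hzc x
        have c2 : ∀ x, x * z' = z' * x := fun x => hz'c x
        calc h * z * (h' * z') * (z⁻¹ * h⁻¹) * (z'⁻¹ * h'⁻¹)
            = h * (z * (h' * z') * z⁻¹) * h⁻¹ * (z'⁻¹ * h'⁻¹) := by group
          _ = h * ((h' * z') * z * z⁻¹) * h⁻¹ * (z'⁻¹ * h'⁻¹) := by rw [← c1 (h' * z')]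
          _ = h * h' * (z' * h⁻¹ * z'⁻¹) * h'⁻¹ := by group
          _ = h * h' * (h⁻¹ * z' * z'⁻¹) * h'⁻¹ := by rw [← c2 h⁻¹]
          _ = h * h' * h⁻¹ * h'⁻¹ := by group
      rw [this]
      exact (Subgroup.commutator_mem_commutator hh hh') |> fun hx =>
        (Subgroup.commutator_le_left H H) hx
    rw [hperf] at hcomm_le
    rintro x ⟨s, rfl⟩
    exact hcomm_le (Subgroup.mem_top s)

theorem field_cond {F : Type*} [Field F] [Fintype F] (hF : 4 ≤ Fintype.card F) :
    ∃ a : F, a ≠ 0 ∧ a ^ 2 ≠ 1 := by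
  obtain ⟨x, hx⟩ : IsCyclic Fˣ := by infer_instance
  refine ⟨x, Units.ne_zero x, fun h ↦ ?_⟩
  have h1 : Nat.card F = Nat.card Fˣ + 1 := Nat.card_eq_card_units_add_one F
  rw [Nat.card_eq_fintype_card] at h1
  have h2 : orderOf x = Nat.card Fˣ := orderOf_eq_card_of_forall_mem_zpowers hx
  have h3 : orderOf x ≤ 2 :=
    orderOf_le_of_pow_eq_one zero_lt_two (Units.ext <| by simpa using h)
  omega

theorem result {F : Type*} [Field F] [Fintype F] (n : ℕ) (hn : 1 ≤ n) (hex : ¬ (n = 2 ∧ Fintype.card F ≤ 3)) (G : Subgroup (Matrix.GeneralLinearGroup (Fin n) F)) (hG : ∀ s : Matrix.SpecialLinearGroup (Fin n) F, ∀ g ∈ G, (Matrix.SpecialLinearGroup.toGL s) * g * (Matrix.SpecialLinearGroup.toGL s)⁻¹ ∈ G) : (∀ g ∈ G, ∃ c : F, (g : Matrix (Fin n) (Fin n) F) = c • (1 : Matrix (Fin n) (Fin n) F)) ∨ (Matrix.SpecialLinearGroup.toGL : Matrix.SpecialLinearGroup (Fin n) F →* _).range ≤ G := by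
  classical
  rcases Nat.lt_or_ge n 3 with hlt | hge
  · rcases Nat.lt_or_ge n 2 with hlt2 | hge2
    · -- n = 1
      have hn1 : n = 1 := by omega
      subst hn1
      left
      intro g _
      refine ⟨(g : Matrix (Fin 1) (Fin 1) F) 0 0, ?_⟩
      ext i j
      fin_cases i; fin_cases j
      simp
    · have hn2 : n = 2 := by omega
      subst hn2
      have hF4 : 4 ≤ Fintype.card F := by
        by_contra hlt4
        exact hex ⟨rfl, by omega⟩
      obtain ⟨a, ha, hasq⟩ := field_cond hF4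
      have hsimple : IsSimpleGroup (Matrix.ProjectiveSpecialLinearGroup (Fin 2) F) :=
        Matrix.ProjectiveSpecialLinearGroup.rank_two_simple
          (by rw [Nat.card_eq_fintype_card]; exact hF4)
      have hperf : commutator (Matrix.SpecialLinearGroup (Fin 2) F) = ⊤ :=
        SL2.commutator_eq_top ha hasq
      exact core hsimple hperf G hG
  · have h3 : 3 ≤ Fintype.card (Fin n) := by rw [Fintype.card_fin]; exact hge
    exact core (Cfsg.Agent.Helper2.PSL_isSimpleGroup h3)
      (Cfsg.Agent.Helper2.SL_commutator_eq_top h3) G hG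

end Cfsg.Agent.S2540
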