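import Mathlib
import Cfsg.Statements.S2541

set_option autoImplicit false
open Cfsg

namespace Cfsg.Agent.S2541

theorem perm6_order_ne_8 (σ : Equiv.Perm (Fin 6)) : orderOf σ ≠ 8 := by
  intro h
  rw [← Equiv.Perm.lcm_cycleType] at h
  have hsum : σ.cycleType.sum ≤ 6 := by
    have := Equiv.Perm.sum_cycleType_le σ
    simpa using this
  have hdvd4 : ∀ a ∈ σ.cycleType, a ∣ 4 := by
    intro a ha
    have h8 : a ∣ 8 := by rw [← h]; exact Multiset.dvd_lcm ha
    have h2 : 2 ≤ a := Equiv.Perm.two_le_of_mem_cycleType ha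
    have h6 : a ≤ 6 := le_trans (Multiset.le_sum_of_mem ha) hsum
    have : a ≤ 8 := Nat.le_of_dvd (by norm_num) h8
    interval_cases a <;> simp_all
  have : σ.cycleType.lcm ∣ 4 := Multiset.lcm_dvd.mpr hdvd4
  rw [h] at this
  norm_num at this

/-- `c ↦ diag(c, 1)` as a monoid hom into 2×2 matrices. -/
def diagHom (F : Type*) [Field F] : F →* Matrix (Fin 2) (Fin 2) F where
  toFun c := Matrix.diagonal ![c, 1]
  map_one' := by
    ext i j
    fin_cases i <;> fin_cases j <;> simp
  map_mul' c d := by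
    rw [Matrix.diagonal_mul_diagonal]
    congr 1
    ext i
    fin_cases i <;> simp

theorem result {F : Type*} [Field F] [Fintype F] (hF : Fintype.card F = 9) : ¬ Nonempty (Equiv.Perm (Fin 6) ≃* Matrix.ProjGenLinGroup (Fin 2) F) := by
  classical
  rintro ⟨e⟩
  -- generator of Fˣ
  obtain ⟨a, ha⟩ := IsCyclic.exists_generator (α := Fˣ)
  have hoa : orderOf a = 8 := by
    rw [orderOf_eq_card_of_forall_mem_zpowers ha, Nat.card_eq_fintype_card, Fintype.card_units, hF]
  let φ : Fˣ →* GL (Fin 2) F := Units.map (diagHom F)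
  let y : Matrix.ProjGenLinGroup (Fin 2) F := Matrix.ProjGenLinGroup.mk (φ a)
  have hy : orderOf y = orderOf a := by
    rw [orderOf_eq_orderOf_iff]
    intro k
    have h1 : y ^ k = Matrix.ProjGenLinGroup.mk (φ (a ^ k)) := by
      show (Matrix.ProjGenLinGroup.mk (φ a)) ^ k = _
      rw [← map_pow, ← map_pow]
    rw [h1, Matrix.ProjGenLinGroup.mk_eq_one, Matrix.GeneralLinearGroup.mem_center_iff_val_mem_range_scalar]
    constructor
    · rintro ⟨c, hc⟩
      have hval : (φ (a ^ k) : GL (Fin 2) F).val = Matrix.diagonal ![((a ^ k : Fˣ) : F), 1] := rfl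
      rw [hval] at hc
      have h00 := congrFun (congrFun hc 0) 0
      have h11 := congrFun (congrFun hc 1) 1
      simp at h00 h11
      apply Units.ext
      rw [Units.val_pow_eq_pow_val] at *
      rw [← h00, h11]
      simp
    · intro h
      rw [h, map_one]
      exact ⟨1, by simp⟩
  have : orderOf (e.symm y) = 8 := by
    rw [MulEquiv.orderOf_eq, hy, hoa]
  exact perm6_order_ne_8 _ this

end Cfsg.Agent.S2541
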