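import Mathlib
import Cfsg.Statements.S2542
import Cfsg.Agent.Helper13.A5Pres
import Cfsg.Agent.S0804
import Cfsg.Agent.S0805

set_option autoImplicit false
set_option linter.style.haveILetI false

namespace Cfsg.Agent.S2542

section abstract
variable {G : Type*} [Group G] [Finite G] (H : Subgroup G)

theorem zmod_aux : ∀ c j : ZMod 11, c ≠ 0 → j ≠ 0 →
    ∃ k : Fin 5, j = 4 ^ (k : ℕ) * c ∨ j = -(4 ^ (k : ℕ) * c) := by decide

theorem int_aux (c j : ℤ) (hc : ¬ (11 : ℤ) ∣ c) (hj : ¬ (11 : ℤ) ∣ j) :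
    ∃ k : ℕ, (11 : ℤ) ∣ 4 ^ k * c - j ∨ (11 : ℤ) ∣ -(4 ^ k * c) - j := by
  have hc' : (c : ZMod 11) ≠ 0 := by
    intro h; exact hc ((ZMod.intCast_zmod_eq_zero_iff_dvd c 11).mp h)
  have hj' : (j : ZMod 11) ≠ 0 := by
    intro h; exact hj ((ZMod.intCast_zmod_eq_zero_iff_dvd j 11).mp h)
  obtain ⟨k, hk⟩ := zmod_aux _ _ hc' hj'
  refine ⟨k, ?_⟩
  rcases hk with hk | hk
  · left
    have : ((4 ^ (k : ℕ) * c - j : ℤ) : ZMod 11) = 0 := by
      push_cast
      rw [hk]; ring
    exact_mod_cast (ZMod.intCast_zmod_eq_zero_iff_dvd _ 11).mp this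
  · right
    have : ((-(4 ^ (k : ℕ) * c) - j : ℤ) : ZMod 11) = 0 := by
      push_cast
      rw [hk]; ring
    exact_mod_cast (ZMod.intCast_zmod_eq_zero_iff_dvd _ 11).mp this

theorem two_trans (hidx : H.index = 11) (hH : Nat.card H = 60) (hsimple : IsSimpleGroup H)
    (u s t : G) (hu : u ^ 11 = 1) (hu1 : u ≠ 1) (hsH : s ∈ H) (hsu : s * u * s⁻¹ = u ^ 4)
    (ht : t * t = 1) (ht1 : t ≠ 1) :
    MulAction.IsMultiplyPretransitive G (G ⧸ H) 2 := by
  classical
  haveI : Fact (Nat.Prime 11) := ⟨by norm_num⟩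
  have hord : orderOf u = 11 := orderOf_eq_prime hu hu1
  -- step 1
  have hP : ∀ k : ℤ, u ^ k ∈ H → (11 : ℤ) ∣ k := by
    intro k hk
    have h1 : orderOf (u ^ k) ∣ 60 := by
      have := orderOf_dvd_natCard (⟨u ^ k, hk⟩ : H)
      rw [hH] at this
      rwa [← Subgroup.orderOf_coe] at this
    have h2 : orderOf (u ^ k) ∣ 11 := by
      rw [← hord]; exact orderOf_dvd_of_mem_zpowers (Subgroup.zpow_mem_zpowers u k)
    have h3 : orderOf (u ^ k) ∣ Nat.gcd 60 11 := Nat.dvd_gcd h1 h2
    have h4 : orderOf (u ^ k) = 1 := by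
      have : Nat.gcd 60 11 = 1 := by norm_num
      rw [this] at h3
      exact Nat.dvd_one.mp h3
    rw [orderOf_eq_one_iff] at h4
    have := (orderOf_dvd_iff_zpow_eq_one (x := u) (i := k)).mpr h4
    rwa [hord] at this
  -- the points
  set pt : ℤ → G ⧸ H := fun i => ((u ^ i : G) : G ⧸ H) with hpt
  have pt_eq : ∀ i j : ℤ, pt i = pt j ↔ (11 : ℤ) ∣ j - i := by
    intro i j
    simp only [hpt]
    rw [QuotientGroup.eq, ← zpow_neg, ← zpow_add]
    constructor
    · intro h
      have := hP _ h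
      rwa [neg_add_eq_sub] at this
    · intro h
      rw [neg_add_eq_sub]
      have : u ^ (j - i) = 1 := by
        rw [← orderOf_dvd_iff_zpow_eq_one, hord]; exact h
      rw [this]; exact H.one_mem
  have pt_surj : ∀ ω : G ⧸ H, ∃ i : ℤ, pt i = ω := by
    have hinj : Function.Injective (fun i : Fin 11 => pt (i : ℤ)) := by
      intro i j hij
      have := (pt_eq _ _).mp hij
      apply Fin.ext
      omega
    have hcard : Nat.card (G ⧸ H) ≤ Nat.card (Fin 11) := by
      rw [← Subgroup.index_eq_card, hidx, Nat.card_fin]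
    have hbij := hinj.bijective_of_nat_card_le hcard
    intro ω
    obtain ⟨i, hi⟩ := hbij.2 ω
    exact ⟨i, hi⟩
  have smul_pt : ∀ (g : G) (i : ℤ), g • pt i = ((g * u ^ i : G) : G ⧸ H) := by
    intro g i
    rfl
  have smul_u : ∀ k i : ℤ, (u ^ k) • pt i = pt (k + i) := by
    intro k i
    rw [smul_pt, ← zpow_add]
  have smul_s : ∀ i : ℤ, s • pt i = pt (4 * i) := by
    intro i
    rw [smul_pt]
    simp only [hpt]
    rw [QuotientGroup.eq]
    have h1 : s * u ^ i * s⁻¹ = u ^ (4 * i) := by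
      rw [← conj_zpow, hsu, ← zpow_natCast, ← zpow_mul]
      norm_num
    have h2 : (s * u ^ i)⁻¹ * u ^ (4 * i) = s⁻¹ := by
      rw [← h1]; group
    rw [h2]
    exact H.inv_mem hsH
  have smul_H : ∀ h ∈ H, h • pt 0 = pt 0 := by
    intro h hh
    rw [smul_pt]
    simp only [hpt, zpow_zero, mul_one]
    rw [QuotientGroup.eq, mul_one]
    exact H.inv_mem hh
  have smul_spow : ∀ (k : ℕ) (i : ℤ), (s ^ k) • pt i = pt (4 ^ k * i) := by
    intro k
    induction k with
    | zero => intro i; simp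
    | succ k ih =>
      intro i
      rw [pow_succ, mul_smul, smul_s, ih]
      congr 1; ring
  -- step 4: `t` moves a point
  have hmove : ∃ a : ℤ, t • pt a ≠ pt a := by
    by_contra hcon
    push Not at hcon
    have hfix : ∀ ω : G ⧸ H, t • ω = ω := by
      intro ω
      obtain ⟨i, rfl⟩ := pt_surj ω
      exact hcon i
    have htK : t ∈ H.normalCore := by
      rw [Subgroup.normalCore_eq_ker, MonoidHom.mem_ker]
      ext ω
      simp [hfix ω]
    have hKH : H.normalCore ≤ H := Subgroup.normalCore_le H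
    haveI : (H.normalCore.subgroupOf H).Normal := inferInstance
    rcases (inferInstance : (H.normalCore.subgroupOf H).Normal).eq_bot_or_eq_top with hb | htop
    · have : (⟨t, hKH htK⟩ : H) ∈ H.normalCore.subgroupOf H := by
        rw [Subgroup.mem_subgroupOf]; exact htK
      rw [hb, Subgroup.mem_bot] at this
      exact ht1 (congrArg Subtype.val this)
    · have hHK : H ≤ H.normalCore := by
        rw [Subgroup.subgroupOf_eq_top] at htop
        exact htop
      have hHn : H.Normal := by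
        have : H = H.normalCore := le_antisymm hHK hKH
        rw [this]; infer_instance
      have h1 : u * s⁻¹ * u⁻¹ ∈ H := hHn.conj_mem _ (H.inv_mem hsH) u
      have h2 : s * (u * s⁻¹ * u⁻¹) ∈ H := H.mul_mem hsH h1
      have h3 : s * (u * s⁻¹ * u⁻¹) = u ^ (3 : ℤ) := by
        have : s * (u * s⁻¹ * u⁻¹) = (s * u * s⁻¹) * u⁻¹ := by group
        rw [this, hsu]; group
      rw [h3] at h2
      have := hP 3 h2
      omega
  obtain ⟨a, ha⟩ := hmove
  obtain ⟨b, hb⟩ := pt_surj (t • pt a)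
  have hab : ¬ (11 : ℤ) ∣ b - a := by
    intro h
    apply ha
    rw [← hb]
    exact ((pt_eq a b).mpr h).symm
  have htb : t • pt b = pt a := by
    rw [hb, ← mul_smul, ht, one_smul]
  -- the element of `H` inverting
  set h0 : G := u ^ (-b) * t * u ^ a with hh0
  have hh0H : h0 ∈ H := by
    have h1 : ((t * u ^ a : G) : G ⧸ H) = ((u ^ b : G) : G ⧸ H) := by
      rw [← smul_pt]; exact hb.symm
    rw [QuotientGroup.eq] at h1
    have h2 := H.inv_mem h1
    have h3 : ((t * u ^ a)⁻¹ * u ^ b)⁻¹ = h0 := by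
      rw [hh0]; group
    rwa [h3] at h2
  have hh0c : h0 • pt (b - a) = pt (-(b - a)) := by
    rw [hh0, mul_smul, mul_smul, smul_u, show a + (b - a) = b by ring, htb, smul_u]
    congr 1; ring
  -- transitivity of `H` on the other points
  have htrans : ∀ j : ℤ, ¬ (11 : ℤ) ∣ j → ∃ h ∈ H, h • pt (b - a) = pt j := by
    intro j hj
    obtain ⟨k, hk⟩ := int_aux (b - a) j hab hj
    rcases hk with hk | hk
    · refine ⟨s ^ k, H.pow_mem hsH k, ?_⟩
      rw [smul_spow]
      exact ((pt_eq _ _).mpr (by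
        have : j - 4 ^ k * (b - a) = -(4 ^ k * (b - a) - j) := by ring
        rw [this]; exact (dvd_neg).mpr hk))
    · refine ⟨s ^ k * h0, H.mul_mem (H.pow_mem hsH k) hh0H, ?_⟩
      rw [mul_smul, hh0c, smul_spow]
      exact ((pt_eq _ _).mpr (by
        have : j - 4 ^ k * -(b - a) = -(-(4 ^ k * (b - a)) - j) := by ring
        rw [this]; exact (dvd_neg).mpr hk))
  -- 2-transitivity
  rw [MulAction.is_two_pretransitive_iff]
  intro x y z w hxy hzw
  obtain ⟨i, rfl⟩ := pt_surj x
  obtain ⟨j, rfl⟩ := pt_surj y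
  obtain ⟨k, rfl⟩ := pt_surj z
  obtain ⟨l, rfl⟩ := pt_surj w
  have hij : ¬ (11 : ℤ) ∣ j - i := fun h => hxy ((pt_eq i j).mpr h)
  have hkl : ¬ (11 : ℤ) ∣ l - k := fun h => hzw ((pt_eq k l).mpr h)
  obtain ⟨h1, hh1, e1⟩ := htrans (j - i) hij
  obtain ⟨h2, hh2, e2⟩ := htrans (l - k) hkl
  refine ⟨u ^ k * (h2 * h1⁻¹) * u ^ (-i), ?_, ?_⟩
  · rw [mul_smul, smul_u, show -i + i = 0 by ring, mul_smul, smul_H _ (H.mul_mem hh2 (H.inv_mem hh1)),
      smul_u, add_zero]
  · rw [mul_smul, smul_u, show -i + j = j - i by ring, mul_smul, mul_smul, ← e1, inv_smul_smul, e2,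
      smul_u]
    congr 1; ring

end abstract

open Matrix

section concrete
variable {F : Type*} [Field F] [Fintype F]

theorem eleven_eq_zero (hF : Fintype.card F = 11) : (11 : F) = 0 := by
  have := Nat.cast_card_eq_zero F
  rw [hF] at this
  exact_mod_cast this

theorem pow_three_eq' (M : Matrix (Fin 2) (Fin 2) F)
    (h2 : M * M = (-1 : F) • M - 1) : M ^ 3 = 1 := by
  have h3 : M ^ 3 = (M * M) * M := by
    simp only [pow_succ, pow_zero, one_mul]
  rw [h3, h2, sub_mul, smul_mul_assoc, one_mul, h2]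
  simp only [neg_smul, one_smul]
  abel

open Cfsg.Agent.S2503 in
theorem ub_pow (c : F) (n : ℕ) : (ub c) ^ n = ub (n * c) := by
  induction n with
  | zero => simp [ub_zero]
  | succ n ih => rw [pow_succ, ih, ub_mul]; congr 1; push_cast; ring

/-- the elements `X`, `Z` of `SL₂(𝔽₁₁)`. -/
def Xm (hF : Fintype.card F = 11) : Matrix.SpecialLinearGroup (Fin 2) F :=
  ⟨!![3, 1; 1, 8], by
    rw [Matrix.det_fin_two_of]; linear_combination (2 : F) * eleven_eq_zero hF⟩

def Zm (hF : Fintype.card F = 11) : Matrix.SpecialLinearGroup (Fin 2) F :=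
  ⟨!![2, 0; 0, 6], by
    rw [Matrix.det_fin_two_of]; linear_combination (1 : F) * eleven_eq_zero hF⟩

end concrete

/-- Let F be a field with 11 elements. PSL_2(F) has a subgroup H of index 11 isomorphic to the alternating group A_5, and the action of PSL_2(F) on the cosets of H is 2-transitive (of degree 11). -/
theorem result {F : Type*} [Field F] [Fintype F] (hF : Fintype.card F = 11) : ∃ H : Subgroup (Matrix.ProjectiveSpecialLinearGroup (Fin 2) F), H.index = 11 ∧ Nonempty (H ≃* alternatingGroup (Fin 5)) ∧ MulAction.IsMultiplyPretransitive (Matrix.ProjectiveSpecialLinearGroup (Fin 2) F) ((Matrix.ProjectiveSpecialLinearGroup (Fin 2) F) ⧸ H) 2 := by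
  classical
  have h11 := eleven_eq_zero hF
  set π := QuotientGroup.mk' (Subgroup.center (Matrix.SpecialLinearGroup (Fin 2) F)) with hπ
  have hneg : (-1 : F) ^ 2 = 1 := by ring
  have hone : ∀ A : Matrix.SpecialLinearGroup (Fin 2) F, A.1 = -1 → π A = 1 := by
    intro A hA
    rw [← map_one π]
    exact (Cfsg.Agent.S0805.mk_eq_of_smul 1 A (-1) hneg (by rw [hA]; simp)).symm
  have hnc : ∀ A : Matrix.SpecialLinearGroup (Fin 2) F, A.1 0 1 ≠ 0 → π A ≠ 1 := by
    intro A hA h
    have h' : A ∈ Subgroup.center (Matrix.SpecialLinearGroup (Fin 2) F) := by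
      rw [← QuotientGroup.eq_one_iff]; exact h
    rw [Matrix.SpecialLinearGroup.mem_center_iff] at h'
    obtain ⟨r, -, hr⟩ := h'
    have := congrFun (congrFun hr 0) 1
    simp [Matrix.scalar_apply] at this
    exact hA this.symm
  have hX : (Xm hF).1 = !![3, 1; 1, 8] := rfl
  have hZ : (Zm hF).1 = !![2, 0; 0, 6] := rfl
  have hU : (Cfsg.Agent.S2503.ub (1 : F)).1 = !![1, 1; 0, 1] := rfl
  have hxx : π (Xm hF) * π (Xm hF) = 1 := by
    rw [← map_mul]
    apply hone
    rw [Matrix.SpecialLinearGroup.coe_mul, Cfsg.Agent.S0804.sq_of_det _ (Xm hF).2, hX]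
    have : (!![3, 1; 1, 8] : Matrix (Fin 2) (Fin 2) F) 0 0 + (!![3, 1; 1, 8] : Matrix (Fin 2) (Fin 2) F) 1 1 = 0 := by
      simp only [Matrix.of_apply, Matrix.cons_val', Matrix.cons_val_zero, Matrix.cons_val_one,
        Matrix.cons_val_fin_one]
      linear_combination h11
    rw [this, zero_smul, zero_sub]
  have hz5 : (π (Zm hF)) ^ 5 = 1 := by
    rw [← map_pow]
    apply hone
    rw [Matrix.SpecialLinearGroup.coe_pow]
    apply Cfsg.Agent.S0804.pow_five_eq _ 8 (by linear_combination (5 : F) * h11)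
    rw [Cfsg.Agent.S0804.sq_of_det _ (Zm hF).2, hZ]
    congr 2
    simp only [Matrix.of_apply, Matrix.cons_val', Matrix.cons_val_zero, Matrix.cons_val_one,
      Matrix.cons_val_fin_one]
    norm_num
  have hxz3 : (π (Xm hF) * π (Zm hF)) ^ 3 = 1 := by
    rw [← map_mul, ← map_pow, ← map_one π]
    congr 1
    apply Subtype.ext
    rw [Matrix.SpecialLinearGroup.coe_pow, Matrix.SpecialLinearGroup.coe_one]
    apply pow_three_eq'
    rw [Cfsg.Agent.S0804.sq_of_det _ (Xm hF * Zm hF).2]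
    congr 2
    rw [Matrix.SpecialLinearGroup.coe_mul, hX, hZ]
    simp only [Matrix.mul_apply, Fin.sum_univ_two, Matrix.of_apply, Matrix.cons_val',
      Matrix.cons_val_zero, Matrix.cons_val_one, Matrix.cons_val_fin_one]
    linear_combination (5 : F) * h11
  have hx1 : π (Xm hF) ≠ 1 := hnc _ (by rw [hX]; simp)
  obtain ⟨φ, hφx, hφz⟩ := Cfsg.Agent.Helper13.A5Pres.exists_hom _ _ hxx hz5 hxz3
  have hinj : Function.Injective φ := by
    rw [← MonoidHom.ker_eq_bot_iff]
    haveI := alternatingGroup.isSimpleGroup_five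
    rcases (inferInstance : φ.ker.Normal).eq_bot_or_eq_top with h | h
    · exact h
    · exfalso
      have : Cfsg.Agent.Helper13.A5Pres.x0 ∈ φ.ker := by rw [h]; trivial
      rw [MonoidHom.mem_ker, hφx] at this
      exact hx1 this
  let e : alternatingGroup (Fin 5) ≃* φ.range := MonoidHom.ofInjective hinj
  have hHcard : Nat.card φ.range = 60 := by
    rw [← Nat.card_congr e.toEquiv, Nat.card_eq_fintype_card]; decide
  haveI hsimple : IsSimpleGroup φ.range := by
    haveI := alternatingGroup.isSimpleGroup_five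
    exact MulEquiv.isSimpleGroup e.symm
  have hG : Nat.card (Matrix.ProjectiveSpecialLinearGroup (Fin 2) F) = 660 := by
    have := Cfsg.Agent.S0805.two_mul_card_PSL2 (F := F) (by rw [hF]; decide)
    rw [hF] at this
    omega
  have hidx : φ.range.index = 11 := by
    have := φ.range.card_mul_index
    rw [hHcard, hG] at this
    omega
  refine ⟨φ.range, hidx, ⟨e.symm⟩, ?_⟩
  refine two_trans φ.range hidx hHcard hsimple (π (Cfsg.Agent.S2503.ub (1 : F))) (π (Zm hF))
    (π (Xm hF)) ?_ ?_ ⟨_, hφz⟩ ?_ hxx hx1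
  · rw [← map_pow, ub_pow, ← map_one π]
    congr 1
    rw [mul_one]
    have : ((11 : ℕ) : F) = 0 := by exact_mod_cast h11
    rw [this, Cfsg.Agent.S2503.ub_zero]
  · exact hnc _ (by rw [hU]; simp)
  · rw [← map_inv, ← map_mul, ← map_mul, ← map_pow]
    congr 1
    rw [mul_inv_eq_iff_eq_mul, ub_pow]
    apply Subtype.ext
    rw [Matrix.SpecialLinearGroup.coe_mul, Matrix.SpecialLinearGroup.coe_mul, hZ, hU]
    show _ = (!![1, ((4 : ℕ) : F) * 1; 0, 1] : Matrix (Fin 2) (Fin 2) F) * _
    ext i j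
    fin_cases i <;> fin_cases j <;>
      simp [Matrix.mul_apply, Fin.sum_univ_two] <;> linear_combination (-2 : F) * h11

end Cfsg.Agent.S2542
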