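import Mathlib
import Cfsg.Statements.S2543
import Cfsg.Agent.Helper13.A5Count
import Cfsg.Agent.Helper12.KleinCountB
import Cfsg.Agent.Helper2.L27
import Cfsg.Agent.Helper18.PSL27b
import Cfsg.Agent.Helper13.SL11Dec
import Cfsg.Agent.S0805

set_option autoImplicit false
set_option linter.style.haveILetI false

open scoped Pointwise
open Cfsg

namespace Cfsg.Agent.S2543

open Cfsg.Agent.Helper13.A5Count Cfsg.Agent.Helper12 Cfsg.Agent.Helper13.SL11Dec

section generic

/-- the preimage of a set under a surjective homomorphism. -/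
theorem card_preimage {A B : Type*} [Group A] [Group B] (f : A →* B)
    (hf : Function.Surjective f) (T : Set B) :
    Nat.card {a : A // f a ∈ T} = Nat.card T * Nat.card f.ker := by
  rw [← Nat.card_prod]
  apply Nat.card_congr
  let σ : B → A := Function.surjInv hf
  have hσ : ∀ b, f (σ b) = b := Function.surjInv_eq hf
  refine ⟨fun a => (⟨f a.1, a.2⟩, ⟨(σ (f a.1))⁻¹ * a.1, ?_⟩),
    fun t => ⟨σ t.1.1 * t.2.1, ?_⟩, ?_, ?_⟩
  · rw [MonoidHom.mem_ker, map_mul, map_inv, hσ, inv_mul_cancel]
  · rw [map_mul, hσ, MonoidHom.mem_ker.mp t.2.2, mul_one]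
    exact t.1.2
  · intro a
    apply Subtype.ext
    simp
  · rintro ⟨⟨t, ht⟩, ⟨k, hk⟩⟩
    have hk' : f k = 1 := hk
    have h1 : f (σ t * k) = t := by rw [map_mul, hσ, hk', mul_one]
    apply Prod.ext
    · apply Subtype.ext
      exact h1
    · apply Subtype.ext
      simp only
      rw [h1, inv_mul_cancel_left]

end generic

section concrete

abbrev P := Matrix.ProjectiveSpecialLinearGroup (Fin 2) K

instance fact11 : Fact (Nat.Prime 11) := ⟨by norm_num⟩

theorem two_ne : (2 : K) ≠ 0 := by decide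

/-- `Y ^ n = ± 1`. -/
def cn (n : ℕ) (Y : S) : Prop := Y ^ n = 1 ∨ Y ^ n = -1

theorem conj_eq_neg_one_iff (g Y : S) : g * Y * g⁻¹ = -1 ↔ Y = -1 := by
  constructor
  · intro h
    have : Y = g⁻¹ * (g * Y * g⁻¹) * g := by group
    rw [this, h]
    simp
  · intro h
    rw [h]
    simp

theorem cn_conj (n : ℕ) (g Y : S) : cn n (g * Y * g⁻¹) ↔ cn n Y := by
  unfold cn
  rw [conj_pow, conj_eq_neg_one_iff, conj_eq_one_iff]

theorem cn_iff (n : ℕ) (Y : S) : cn n Y ↔ (piS K Y) ^ n = 1 := by
  unfold cn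
  rw [← map_pow, piS_eq_one_iff]

/-- lifted pairs. -/
def IsLift (q : S × S) : Prop := q.1 * q.1 = -1 ∧ cn 5 q.2 ∧ cn 3 (q.1 * q.2)

theorem isLift_iff (q : S × S) : IsLift q ↔ IsPair (piS K q.1, piS K q.2) := by
  unfold IsLift IsPair
  simp only
  rw [cn_iff, cn_iff, map_mul]
  constructor
  · rintro ⟨h1, h2, h3⟩
    refine ⟨?_, ?_, h2, h3⟩
    · rw [← map_mul, h1]
      exact piS_neg_one
    · intro h
      rcases (piS_eq_one_iff _).mp h with h | h
      · rw [h, one_mul] at h1
        exact one_ne_neg_one h1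
      · rw [h] at h1
        simp at h1
        exact one_ne_neg_one h1
  · rintro ⟨h1, h2, h3, h4⟩
    refine ⟨?_, h3, h4⟩
    rw [← map_mul] at h1
    rcases (piS_eq_one_iff _).mp h1 with h | h
    · exfalso
      apply h2
      rw [piS_eq_one_iff]
      exact sl2_eq_of_sq_eq_one two_ne _ h
    · exact h

theorem card_W : Nat.card {Z : S // cn 5 Z ∧ cn 3 (W * Z)} = 96 := by
  unfold cn
  rw [Nat.card_eq_fintype_card]
  exact card_W_aux

theorem card_fiber (X : S) (hX : X * X = -1) : Nat.card {Z : S // cn 5 Z ∧ cn 3 (X * Z)} = 96 := by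
  rw [← card_W]
  obtain ⟨g, hg⟩ := isConj_iff.mp (isConj_of_sq_eq_neg_one two_ne X W hX W_sq)
  apply Nat.card_congr
  refine ⟨fun Z => ⟨g * Z.1 * g⁻¹, ?_, ?_⟩, fun Z => ⟨g⁻¹ * Z.1 * g, ?_, ?_⟩, ?_, ?_⟩
  · rw [cn_conj]; exact Z.2.1
  · have : W * (g * Z.1 * g⁻¹) = g * (X * Z.1) * g⁻¹ := by rw [← hg]; group
    rw [this, cn_conj]; exact Z.2.2
  · have := (cn_conj 5 g⁻¹ Z.1).mpr Z.2.1
    rwa [inv_inv] at this
  · have h1 : ∀ Zv : S, X * (g⁻¹ * Zv * g) = g⁻¹ * (W * Zv) * g⁻¹⁻¹ := by
      intro Zv; rw [← hg]; group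
    rw [h1, cn_conj]; exact Z.2.2
  · intro Z
    apply Subtype.ext
    show g⁻¹ * (g * Z.1 * g⁻¹) * g = Z.1
    group
  · intro Z
    apply Subtype.ext
    show g * (g⁻¹ * Z.1 * g) * g⁻¹ = Z.1
    group

theorem card_sq' : Nat.card {X : S // X * X = -1} = 110 := by
  rw [Nat.card_eq_fintype_card]
  exact card_sq

theorem card_lift : Nat.card {q : S × S // IsLift q} = 10560 := by
  have e : {q : S × S // IsLift q} ≃
      Σ X : {X : S // X * X = -1}, {Z : S // cn 5 Z ∧ cn 3 (X.1 * Z)} :=
    { toFun := fun q => ⟨⟨q.1.1, q.2.1⟩, ⟨q.1.2, q.2.2⟩⟩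
      invFun := fun y => ⟨(y.1.1, y.2.1), y.1.2, y.2.2⟩
      left_inv := fun q => rfl
      right_inv := fun y => rfl }
  rw [Nat.card_congr e, Nat.card_sigma]
  rw [Finset.sum_const_nat (fun X _ => card_fiber X.1 X.2), Finset.card_univ,
    ← Nat.card_eq_fintype_card, card_sq']

theorem card_S : Nat.card S = 1320 := by
  have := Cfsg.Agent.S0805.card_SL2 (K := K)
  rw [ZMod.card] at this
  rw [this]
  norm_num

theorem card_P : Nat.card P = 660 := by
  have := Cfsg.Agent.S0805.two_mul_card_PSL2 (F := K) (by rw [ZMod.card]; decide)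
  rw [ZMod.card] at this
  have h2 : 2 * Nat.card P = 1320 := by
    rw [this]
    norm_num
  omega

/-- the product of the two projections. -/
def ff : S × S →* P × P := (piS K).prodMap (piS K)

theorem ff_surjective : Function.Surjective ff :=
  Function.Surjective.prodMap piS_surjective piS_surjective

theorem card_ker : Nat.card ff.ker = 4 := by
  have h := card_preimage ff ff_surjective Set.univ
  have h1 : Nat.card {a : S × S // ff a ∈ (Set.univ : Set (P × P))} = 1320 * 1320 := by
    rw [Nat.card_congr (Equiv.subtypeUnivEquiv (fun a => Set.mem_univ _)), Nat.card_prod, card_S]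
  have h2 : Nat.card (Set.univ : Set (P × P)) = 660 * 660 := by
    rw [Nat.card_congr (Equiv.Set.univ _), Nat.card_prod, card_P]
  rw [h1, h2] at h
  omega

theorem card_pairs_P : Nat.card {p : P × P // IsPair p} = 2640 := by
  have h := card_preimage ff ff_surjective {p : P × P | IsPair p}
  have h1 : Nat.card {a : S × S // ff a ∈ {p : P × P | IsPair p}} = 10560 := by
    rw [← card_lift]
    apply Nat.card_congr
    exact Equiv.subtypeEquivRight (fun q => (isLift_iff q).symm)
  rw [h1, card_ker] at h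
  have h2 : Nat.card ({p : P × P | IsPair p} : Set (P × P)) = Nat.card {p : P × P // IsPair p} := rfl
  rw [h2] at h
  omega

end concrete

/-- Let F be a field with 11 elements. PSL_2(F) has exactly 22 subgroups isomorphic to the alternating group A_5, and they form two conjugacy classes: there are two such subgroups that are not conjugate, and every such subgroup is conjugate to one of these two. -/
theorem result {F : Type*} [Field F] [Fintype F] (hF : Fintype.card F = 11) : Nat.card {H : Subgroup (Matrix.ProjectiveSpecialLinearGroup (Fin 2) F) // Nonempty (H ≃* alternatingGroup (Fin 5))} = 22 ∧ ∃ H K : Subgroup (Matrix.ProjectiveSpecialLinearGroup (Fin 2) F), Nonempty (H ≃* alternatingGroup (Fin 5)) ∧ Nonempty (K ≃* alternatingGroup (Fin 5)) ∧ (∀ g : Matrix.ProjectiveSpecialLinearGroup (Fin 2) F, MulAut.conj g • H ≠ K) ∧ ∀ L : Subgroup (Matrix.ProjectiveSpecialLinearGroup (Fin 2) F), Nonempty (L ≃* alternatingGroup (Fin 5)) → ∃ g : Matrix.ProjectiveSpecialLinearGroup (Fin 2)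 F, MulAut.conj g • L = H ∨ MulAut.conj g • L = K := by
  let e : ZMod 11 ≃+* F := ZMod.ringEquivOfPrime F (by norm_num) hF
  let E : P ≃* Matrix.ProjectiveSpecialLinearGroup (Fin 2) F := Cfsg.Agent.Helper2.L27.pslCongr e
  haveI : Finite (Matrix.ProjectiveSpecialLinearGroup (Fin 2) F) := Finite.of_equiv _ E.toEquiv
  have hG : Nat.card (Matrix.ProjectiveSpecialLinearGroup (Fin 2) F) = 660 := by
    rw [← Nat.card_congr E.toEquiv, card_P]
  have hP : Nat.card {p : Matrix.ProjectiveSpecialLinearGroup (Fin 2) F ×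
      Matrix.ProjectiveSpecialLinearGroup (Fin 2) F // IsPair p} = 2640 := by
    rw [← Nat.card_congr (pairsCongr E), card_pairs_P]
  exact two_classes hG hP

end Cfsg.Agent.S2543
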