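import Cfsg.Statements.S2545
import Cfsg.Agent.Helper12.SpBNL
import Cfsg.Agent.Helper12.PSL2Char
import Cfsg.Agent.Helper24.DefectZero

set_option autoImplicit false
open Cfsg

namespace Cfsg.Agent.S2545

/-- Let F be a finite field of characteristic p and consider the projective symplectic group PSp_{2m}(F) with m ≥ 1. This group has an irreducible complex character χ whose degree equals the order of a Sylow p-subgroup (namely q^(m²) when #F = q) and whose restriction to any Sylow p-subgroup P is the regular character of P: χ vanishes on the non-identity elements of P. (This is the Steinberg character.) -/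
theorem result {F : Type*} [Field F] [Fintype F] (p : ℕ) [Fact p.Prime] [CharP F p] (m : ℕ) (hm : 1 ≤ m) : ∃ χ : Cfsg.PSp m F → ℂ, Cfsg.IsIrrCharacter (Cfsg.PSp m F) χ ∧ ∀ P : Sylow p (Cfsg.PSp m F), χ 1 = Nat.card P ∧ ∀ x : Cfsg.PSp m F, x ∈ P → x ≠ 1 → χ x = 0 := by
  classical
  have hp : p.Prime := Fact.out
  obtain ⟨n, rfl⟩ : ∃ n, m = n + 1 := ⟨m - 1, by omega⟩
  obtain ⟨ψ, hψ⟩ := Cfsg.Agent.Helper12.exists_irr_quotient'
    (Subgroup.center (Matrix.symplecticGroup (Fin (n + 1)) F))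
    (⟨_, Cfsg.Agent.Helper12.SpBN.isIrrCharacter_stSp (n := n) (F := F)⟩ :
      IrrCharacter (Matrix.symplecticGroup (Fin (n + 1)) F))
    (fun z hz => Cfsg.Agent.Helper12.SpBN.stSp_central hz)
  refine ⟨ψ.1, ψ.2, ?_⟩
  intro P
  have hdeg : ψ.1 1 = ((Nat.card (Cfsg.Agent.Helper25.SpU.uni (n + 1) F) : ℕ) : ℂ) := by
    have h1 := hψ 1
    rw [map_one] at h1
    rw [h1]
    exact Cfsg.Agent.Helper12.SpBN.stSp_one
  obtain ⟨Q, hQ⟩ := Cfsg.Agent.Helper25.SpU.exists_sylow_uni (m := n + 1) (K := F) p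
  have hU : Nat.card (Cfsg.Agent.Helper25.SpU.uni (n + 1) F) =
      p ^ (Nat.card (Matrix.symplecticGroup (Fin (n + 1)) F)).factorization p := by
    rw [← hQ]
    exact Sylow.card_eq_multiplicity Q
  have hfac : (Nat.card (Matrix.symplecticGroup (Fin (n + 1)) F)).factorization p =
      (Nat.card (Cfsg.PSp (n + 1) F)).factorization p := by
    rw [Subgroup.card_eq_card_quotient_mul_card_subgroup
      (Subgroup.center (Matrix.symplecticGroup (Fin (n + 1)) F)),
      Nat.factorization_mul Nat.card_pos.ne' Nat.card_pos.ne', Finsupp.add_apply,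
      Nat.factorization_eq_zero_of_not_dvd
        (Cfsg.Agent.Helper12.SpBN.not_dvd_card_center (n := n) (F := F) p), add_zero]
  have hcard : Nat.card P = Nat.card (Cfsg.Agent.Helper25.SpU.uni (n + 1) F) := by
    rw [hU, hfac]
    exact Sylow.card_eq_multiplicity P
  refine ⟨by rw [hdeg, hcard], ?_⟩
  intro x hx hx1
  have : Fintype (Cfsg.PSp (n + 1) F) := Fintype.ofFinite _
  have : Fintype (IrrCharacter (Cfsg.PSp (n + 1) F)) := Fintype.ofFinite _
  apply Cfsg.Agent.Helper24.irr_eq_zero_of_defect_zero ψ p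
    ((Nat.card (Cfsg.PSp (n + 1) F)).factorization p)
    (Nat.card (Cfsg.Agent.Helper25.SpU.uni (n + 1) F)) hp (Nat.ordProj_dvd _ _)
    (Nat.pow_succ_factorization_not_dvd Nat.card_pos.ne' hp) hdeg
    (by rw [hU, hfac]) x
  obtain ⟨k, hk⟩ := (IsPGroup.iff_orderOf.mp P.2) ⟨x, hx⟩
  rw [Subgroup.orderOf_mk] at hk
  rw [hk]
  apply dvd_pow_self
  rintro rfl
  rw [pow_zero, orderOf_eq_one_iff] at hk
  exact hx1 hk

end Cfsg.Agent.S2545
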