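import Cfsg.Statements.S2547
import Cfsg.Agent.Helper25.S2546MBFINAL
import Cfsg.Agent.Helper25.S2546TRANSPORT
import Cfsg.Agent.Helper17.S2547DATASO
import Cfsg.Agent.Helper17.S2547DATASUB
import Cfsg.Agent.Helper3.S2547TNORM
import Cfsg.Agent.Helper12.S2547CDSQ
import Cfsg.Agent.Helper24.S2547INVSQ
import Cfsg.Agent.Helper24.S2547PIHOM

set_option autoImplicit false
open Cfsg

namespace Cfsg.Agent.S2547

open Cfsg.Agent.MatBN Cfsg.Agent.S2546P Cfsg.Agent.S2547P

/-- Let F be a finite field of characteristic p and consider the group PΩ_{2m+1}(F) of the quadratic form x₀² + Σ x_i y_i, where m ≥ 1 and #F is odd. This group has an irreducible complex character χ whose degree equals the order of a Sylow p-subgroup (namely q^(m²) when #F = q) and whose restriction to any Sylow p-subgroup P is the regular character of P: χ vanishes on the non-identity elements of P. (This is the Steinberg character.) -/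
theorem result {F : Type*} [Field F] [Fintype F] (p : ℕ) [Fact p.Prime] [CharP F p] (hodd : Odd (Fintype.card F)) (m : ℕ) (hm : 1 ≤ m) : ∃ χ : Cfsg.POmega F (Cfsg.quadFormOdd m F) → ℂ, Cfsg.IsIrrCharacter (Cfsg.POmega F (Cfsg.quadFormOdd m F)) χ ∧ ∀ P : Sylow p (Cfsg.POmega F (Cfsg.quadFormOdd m F)), χ 1 = Nat.card P ∧ ∀ x : Cfsg.POmega F (Cfsg.quadFormOdd m F), x ∈ P → x ≠ 1 → χ x = 0 := by
  -- p is odd
  have hp2 : p ≠ 2 := by
    rintro rfl
    obtain ⟨k, -, hk⟩ := FiniteField.card F 2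
    rw [hk] at hodd
    have hk0 : (k : ℕ) ≠ 0 := k.ne_zero
    exact (Nat.not_even_iff_odd.2 hodd) ((Nat.even_pow.2 ⟨even_two, hk0⟩))
  have h2 : (2 : F) ≠ 0 := by
    intro h
    have h' : ((2 : ℕ) : F) = 0 := by exact_mod_cast h
    rw [CharP.cast_eq_zero_iff F p 2] at h'
    have hpp : p.Prime := Fact.out
    exact hp2 ((Nat.prime_dvd_prime_iff_eq hpp Nat.prime_two).1 h')
  have hn : (2 * m + 1) % 2 = 1 := by omega
  have hn3 : 3 ≤ 2 * m + 1 := by omega
  obtain ⟨D, hDρ, hDX⟩ := exists_data_SO (K := F) h2 (2 * m + 1) hn hn3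
  have hU : D.uni ≤ commutator (SOJ F (2 * m + 1)) := by
    intro x hx
    have hx' : IsUni (rhoO F (2 * m + 1) x) := by
      have := hx
      rwa [Data.mem_uni, hDρ] at this
    exact uni_mem_commutator p hp2 (2 * m + 1) hn x hx'
  have hTX : ∀ j, ∀ t ∈ D.torus, ∀ x ∈ D.X j, t * x * t⁻¹ ∈ D.X j := by
    intro j t ht x hx
    rw [hDX j] at hx ⊢
    have ht' : IsDg (rhoO F (2 * m + 1) t) := by
      have := ht
      rwa [Data.mem_torus, hDρ] at this
    exact torus_conj_mem_X (2 * m + 1) hn j j.2 t x ht' hx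
  obtain ⟨D', -⟩ := D.exists_restrict (commutator (SOJ F (2 * m + 1))) le_rfl hU hTX
  have h1 := D'.exists_steinberg p
  obtain ⟨π, hπs, hπk⟩ := exists_pi (K := F) h2 m
  obtain ⟨e⟩ := nonempty_commutator_equiv π hπs hπk
  exact Cfsg.Agent.MatBN.steinberg_transport e p h1

end Cfsg.Agent.S2547
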