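import Cfsg.Statements.S2548
import Cfsg.Agent.Helper25.S2546TRANSPORT
import Cfsg.Agent.Helper24.S2548MODEL
import Cfsg.Agent.Helper15.S2548M1
import Cfsg.Agent.Helper6.S2548D22
import Cfsg.Agent.Helper10.S2548MAIN

set_option autoImplicit false
open Cfsg

namespace Cfsg.Agent.S2548

/-- Let F be a finite field of characteristic p and consider the group PΩ⁺_{2m}(F) of the hyperbolic quadratic form Σ x_i y_i with m ≥ 1, where Ω denotes the commutator subgroup of the full isometry group. This group has an irreducible complex character χ whose degree equals the order of a Sylow p-subgroup (equal to q^(m(m−1)) when #F = q, except in the degenerate case m = 2, q = 2, where this commutator subgroup has order 18 and its Sylow 2-subgroups have order 2) and whose restriction to any Sylow p-subgroup P is the regular character of P: χ vanishes on the non-identity elements of P. (This is the Steinberg character.) -/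
theorem result {F : Type*} [Field F] [Fintype F] (p : ℕ) [Fact p.Prime] [CharP F p] (m : ℕ) (hm : 1 ≤ m) : ∃ χ : Cfsg.POmega F (Cfsg.quadFormPlus m F) → ℂ, Cfsg.IsIrrCharacter (Cfsg.POmega F (Cfsg.quadFormPlus m F)) χ ∧ ∀ P : Sylow p (Cfsg.POmega F (Cfsg.quadFormPlus m F)), χ 1 = Nat.card P ∧ ∀ x : Cfsg.POmega F (Cfsg.quadFormPlus m F), x ∈ P → x ≠ 1 → χ x = 0 := by
  by_cases h1 : m = 1
  · subst h1
    exact Cfsg.Agent.S2548P.M1.steinberg_m1 p
  by_cases h2 : m = 2 ∧ Fintype.card F = 2
  · obtain ⟨rfl, hF⟩ := h2
    have hp : p = 2 := by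
      have h2F : ((2 : ℕ) : F) = 0 := by
        have := Nat.cast_card_eq_zero F
        rwa [hF] at this
      have hdvd : p ∣ 2 := (CharP.cast_eq_zero_iff F p 2).1 h2F
      exact (Nat.prime_dvd_prime_iff_eq (Fact.out : p.Prime) Nat.prime_two).1 hdvd
    subst hp
    exact Cfsg.Agent.S2548P.D22.steinberg_d22 hF
  · obtain ⟨e⟩ := Cfsg.Agent.S2548P.MODEL.exists_model (K := F) m
    have hmain := Cfsg.Agent.S2548P.steinberg_OmJ (K := F) (n := 2 * m) p (by omega) (by omega)
      (by rintro ⟨h4, hF⟩; exact h2 ⟨by omega, hF⟩)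
    exact Cfsg.Agent.MatBN.steinberg_transport e p hmain

end Cfsg.Agent.S2548
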