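import Cfsg.Statements.S2549
import Cfsg.Agent.Helper25.S2546TRANSPORT
import Cfsg.Agent.Helper21.MatBNWNormal
import Cfsg.Agent.Helper21.S2549DATA

set_option autoImplicit false
open Cfsg

namespace Cfsg.Agent.S2549

open Cfsg.Agent.MatBN Cfsg.Agent.MatBNW Cfsg.Agent.S2549P Cfsg.Agent.Helper28.Spin Cfsg.Agent.Helper28.Sg

/-- `Ω ≤ G₁`: the group generated by the triangular elements and the monomial lifts has index at most two -/
theorem Omega_le_G1 {F : Type*} [Field F] [Fintype F] {a b : F} {K : Type*} [Field K]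
    (E : QExt F a b K) (m : ℕ)
    (hab : ∀ z₁ z₂ : F, z₁ ^ 2 + a * z₁ * z₂ + b * z₂ ^ 2 = 0 → z₁ = 0 ∧ z₂ = 0) :
    Cfsg.Omega F (Cfsg.quadFormMinus m F a b) ≤ G1 E m := by
  obtain ⟨hP, hR⟩ := pres_swapM (K := K) E.σ m
  obtain ⟨r, hr⟩ := exists_of_pres E m _ hP hR
  have htri : ∀ g : OG m F a b, IsTri (rho E m g) → g ∈ G1 E m := fun g hg =>
    Subgroup.subset_closure (Or.inl hg)
  have hdg : ∀ g : OG m F a b, IsDg (rho E m g) → g ∈ G1 E m := fun g hg =>
    htri g (fun i k hki => hg i k hki.ne')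
  apply commutator_le_of_cover (G1 E m) r
  intro g
  obtain ⟨s, hs, hfr⟩ := exists_S_frame m hab g
  have hsG : s ∈ G1 E m := S_le_G1 E m hab hs
  have hcol := hcol_of_frame E m (s * g) hfr
  rcases diag_cases m (rho E m (s * g)) (presQ_rho E m _) hcol with h | h
  · left
    have h1 : s * g ∈ G1 E m := hdg _ h
    have h2 := (G1 E m).mul_mem ((G1 E m).inv_mem hsG) h1
    have e : s⁻¹ * (s * g) = g := by group
    rwa [e] at h2
  · right
    have h1 : s * g * r ∈ G1 E m := by
      apply hdg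
      rw [map_mul, hr]
      exact h
    have h2 := (G1 E m).mul_mem ((G1 E m).inv_mem hsG) h1
    have e : s⁻¹ * (s * g * r) = g * r := by group
    rwa [e] at h2

/-- Let F be a finite field of characteristic p and consider the group PΩ⁻_{2m+2}(F) of the quadratic form Σ_{i<m} x_i y_i + (z₁² + a z₁ z₂ + b z₂²) with anisotropic binary part, m ≥ 0. This group has an irreducible complex character χ whose degree equals the order of a Sylow p-subgroup (namely q^(m(m+1)) when #F = q) and whose restriction to any Sylow p-subgroup P is the regular character of P: χ vanishes on the non-identity elements of P. (This is the Steinberg character.) -/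
theorem result {F : Type*} [Field F] [Fintype F] (p : ℕ) [Fact p.Prime] [CharP F p] (m : ℕ) (a b : F) (hab : ∀ z₁ z₂ : F, z₁ ^ 2 + a * z₁ * z₂ + b * z₂ ^ 2 = 0 → z₁ = 0 ∧ z₂ = 0) : ∃ χ : Cfsg.POmega F (Cfsg.quadFormMinus m F a b) → ℂ, Cfsg.IsIrrCharacter (Cfsg.POmega F (Cfsg.quadFormMinus m F a b)) χ ∧ ∀ P : Sylow p (Cfsg.POmega F (Cfsg.quadFormMinus m F a b)), χ 1 = Nat.card P ∧ ∀ x : Cfsg.POmega F (Cfsg.quadFormMinus m F a b), x ∈ P → x ≠ 1 → χ x = 0 := by
  obtain ⟨K, _, _, _, ⟨E⟩⟩ := exists_qext p a b hab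
  obtain ⟨D, hD⟩ := exists_dataW E m
  have hle := Omega_le_G1 E m hab
  let N : Subgroup (G1 E m) := (Cfsg.Omega F (Cfsg.quadFormMinus m F a b)).subgroupOf (G1 E m)
  have hUN : D.uni ≤ N := by
    intro u hu
    have hu' : IsUni (rho E m (u : OG m F a b)) := by
      have : IsUni (D.ρ u) := hu
      rw [hD] at this
      exact this
    show (u : OG m F a b) ∈ Cfsg.Omega F (Cfsg.quadFormMinus m F a b)
    exact S_le_Omega m hab (mem_S_of_UT m hab _ (UT_of_isUni E m _ hu'))
  have h1 := D.exists_steinberg_normal p N hUN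
  exact Cfsg.Agent.MatBN.steinberg_transport (Subgroup.subgroupOfEquivOfLe hle).symm p h1

end Cfsg.Agent.S2549
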