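import Mathlib
import Cfsg.Statements.S2550
import Cfsg.Agent.S0243
import Cfsg.Agent.Helper11.PSL34

set_option autoImplicit false
open Cfsg

namespace Cfsg.Agent.S2550

open Matrix
open scoped Pointwise

section two

variable {F : Type*} [Field F] [Fintype F]

theorem eq_one_of_ne_zero (hF : Fintype.card F = 2) {a : F} (ha : a ≠ 0) : a = 1 := by
  have := FiniteField.pow_card_sub_one_eq_one a ha
  rwa [hF, pow_one] at this

theorem one_add_one (hF : Fintype.card F = 2) : (1 : F) + 1 = 0 := by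
  by_contra h
  have := eq_one_of_ne_zero hF h
  have h0 : (1 : F) = 0 := by linear_combination this
  exact one_ne_zero h0

/-- an element of order three with a fixed vector -/
def Xm (F : Type*) [Field F] : Matrix (Fin 4) (Fin 4) F :=
  !![0, 1, 0, 0; 1, 1, 0, 0; 0, 0, 1, 0; 0, 0, 0, 1]

/-- a fixed-point-free element of order three -/
def Ym (F : Type*) [Field F] : Matrix (Fin 4) (Fin 4) F :=
  !![0, 1, 0, 0; 1, 1, 0, 0; 0, 0, 0, 1; 0, 0, 1, 1]

theorem Xm_cube (hF : Fintype.card F = 2) : Xm F * Xm F * Xm F = 1 := by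
  have h2 := one_add_one hF
  ext i j
  fin_cases i <;> fin_cases j <;>
    simp [Xm, Matrix.mul_apply, Fin.sum_univ_four, h2]

theorem Ym_cube (hF : Fintype.card F = 2) : Ym F * Ym F * Ym F = 1 := by
  have h2 := one_add_one hF
  ext i j
  fin_cases i <;> fin_cases j <;>
    simp [Ym, Matrix.mul_apply, Fin.sum_univ_four, h2]

theorem Ym_quad (hF : Fintype.card F = 2) : (Ym F + 1) * Ym F = 1 := by
  have h2 := one_add_one hF
  ext i j
  fin_cases i <;> fin_cases j <;>
    simp [Ym, Matrix.mul_apply, Matrix.add_apply, Fin.sum_univ_four, h2]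

theorem Xm_fix : Xm F *ᵥ (Pi.single 2 1) = Pi.single 2 1 := by
  ext i
  fin_cases i <;> simp [Xm, Matrix.mulVec, dotProduct, Fin.sum_univ_four, Pi.single_apply]


theorem det_eq_one_of_cube (hF : Fintype.card F = 2) {M : Matrix (Fin 4) (Fin 4) F}
    (h : M * M * M = 1) : M.det = 1 := by
  apply eq_one_of_ne_zero hF
  intro h0
  have := congrArg Matrix.det h
  rw [Matrix.det_mul, Matrix.det_mul, h0, Matrix.det_one] at this
  simp at this

/-- the two elements in `SL₄` -/
def xS (hF : Fintype.card F = 2) : SpecialLinearGroup (Fin 4) F :=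
  ⟨Xm F, det_eq_one_of_cube hF (Xm_cube hF)⟩

def yS (hF : Fintype.card F = 2) : SpecialLinearGroup (Fin 4) F :=
  ⟨Ym F, det_eq_one_of_cube hF (Ym_cube hF)⟩

theorem center_trivial (hF : Fintype.card F = 2) (z : SpecialLinearGroup (Fin 4) F)
    (hz : z ∈ Subgroup.center (SpecialLinearGroup (Fin 4) F)) : z = 1 := by
  rw [Matrix.SpecialLinearGroup.mem_center_iff] at hz
  obtain ⟨r, hr, hrz⟩ := hz
  have hr0 : r ≠ 0 := by
    rintro rfl
    simp at hr
  have hr1 := eq_one_of_ne_zero hF hr0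
  apply Subtype.ext
  rw [← hrz, hr1, map_one]
  rfl

theorem xS_pow_fix (hF : Fintype.card F = 2) (k : ℤ) :
    ((xS hF ^ k : SpecialLinearGroup (Fin 4) F) : Matrix (Fin 4) (Fin 4) F) *ᵥ (Pi.single 2 1) =
      Pi.single 2 1 := by
  let S : Subgroup (SpecialLinearGroup (Fin 4) F) :=
    { carrier := {g | (g : Matrix (Fin 4) (Fin 4) F) *ᵥ (Pi.single 2 1) = Pi.single 2 1}
      mul_mem' := by
        intro g h hg hh
        show ((g * h : SpecialLinearGroup (Fin 4) F) : Matrix (Fin 4) (Fin 4) F) *ᵥ _ = _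
        rw [Matrix.SpecialLinearGroup.coe_mul, ← Matrix.mulVec_mulVec, hh, hg]
      one_mem' := by
        show ((1 : SpecialLinearGroup (Fin 4) F) : Matrix (Fin 4) (Fin 4) F) *ᵥ _ = _
        rw [Matrix.SpecialLinearGroup.coe_one, Matrix.one_mulVec]
      inv_mem' := by
        intro g hg
        show ((g⁻¹ : SpecialLinearGroup (Fin 4) F) : Matrix (Fin 4) (Fin 4) F) *ᵥ _ = _
        have h1 : ((g⁻¹ * g : SpecialLinearGroup (Fin 4) F) : Matrix (Fin 4) (Fin 4) F) *ᵥ
            (Pi.single 2 1) = Pi.single 2 1 := by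
          rw [inv_mul_cancel, Matrix.SpecialLinearGroup.coe_one, Matrix.one_mulVec]
        rw [Matrix.SpecialLinearGroup.coe_mul, ← Matrix.mulVec_mulVec, hg] at h1
        exact h1 }
  have hx : xS hF ∈ S := Xm_fix
  exact S.zpow_mem hx k


theorem xS_ne_one (hF : Fintype.card F = 2) : xS hF ≠ 1 := by
  intro h
  have := congrArg (fun g : Matrix.SpecialLinearGroup (Fin 4) F =>
    (g : Matrix (Fin 4) (Fin 4) F) 0 0) h
  simp [xS, Xm] at this

theorem yS_ne_one (hF : Fintype.card F = 2) : yS hF ≠ 1 := by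
  intro h
  have := congrArg (fun g : Matrix.SpecialLinearGroup (Fin 4) F =>
    (g : Matrix (Fin 4) (Fin 4) F) 0 0) h
  simp [yS, Ym] at this

theorem xS_cube (hF : Fintype.card F = 2) : xS hF ^ 3 = 1 := by
  apply Subtype.ext
  rw [pow_three, ← mul_assoc]
  exact Xm_cube hF

theorem yS_cube (hF : Fintype.card F = 2) : yS hF ^ 3 = 1 := by
  apply Subtype.ext
  rw [pow_three, ← mul_assoc]
  exact Ym_cube hF

theorem orderOf_mk (hF : Fintype.card F = 2) (g : Matrix.SpecialLinearGroup (Fin 4) F)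
    (h3 : g ^ 3 = 1) (h1 : g ≠ 1) :
    orderOf (QuotientGroup.mk g : Matrix.ProjectiveSpecialLinearGroup (Fin 4) F) = 3 := by
  haveI : Fact (Nat.Prime 3) := ⟨Nat.prime_three⟩
  rw [orderOf_eq_prime_iff]
  constructor
  · rw [← QuotientGroup.mk_pow, h3]
    rfl
  · intro h
    rw [QuotientGroup.eq_one_iff] at h
    exact h1 (center_trivial hF g h)

end two

theorem result {F K : Type*} [Field F] [Fintype F] [Field K] [Fintype K] (hF : Fintype.card F = 2) (hK : Fintype.card K = 4) : Nat.card (Matrix.ProjectiveSpecialLinearGroup (Fin 4) F) = Nat.card (Matrix.ProjectiveSpecialLinearGroup (Fin 3) K) ∧ ¬ Nonempty (Matrix.ProjectiveSpecialLinearGroup (Fin 4) F ≃* Matrix.ProjectiveSpecialLinearGroup (Fin 3) K) := by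
  constructor
  · have h1 := Cfsg.Agent.S0243.result hF 4 (by norm_num)
    have h2 := Cfsg.Agent.S0243.result hK 3 (by norm_num)
    norm_num [Fin.prod_univ_four, Fin.prod_univ_three] at h1 h2
    omega
  · rintro ⟨e⟩
    set a : Matrix.ProjectiveSpecialLinearGroup (Fin 4) F := QuotientGroup.mk (xS hF) with ha
    set b : Matrix.ProjectiveSpecialLinearGroup (Fin 4) F := QuotientGroup.mk (yS hF) with hb
    have ha3 : orderOf a = 3 := orderOf_mk hF _ (xS_cube hF) (xS_ne_one hF)
    have hb3 : orderOf b = 3 := orderOf_mk hF _ (yS_cube hF) (yS_ne_one hF)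
    have hca : Nat.card (Subgroup.zpowers (e a)) = 3 := by
      rw [Nat.card_zpowers, MulEquiv.orderOf_eq, ha3]
    have hcb : Nat.card (Subgroup.zpowers (e b)) = 3 := by
      rw [Nat.card_zpowers, MulEquiv.orderOf_eq, hb3]
    obtain ⟨g', hg'⟩ := Cfsg.Agent.Helper11.PSL34.psl34_order_three_conj hK _ _ hca hcb
    rw [Cfsg.Agent.Helper11.PSL34.conj_smul_zpowers] at hg'
    have h1 : e b ∈ Subgroup.zpowers (g' * e a * g'⁻¹) := by
      rw [hg']
      exact Subgroup.mem_zpowers _
    obtain ⟨k, hk⟩ := Subgroup.mem_zpowers_iff.mp h1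
    have h3 : (e.symm g' * a * (e.symm g')⁻¹) ^ k = b := by
      apply e.injective
      rw [map_zpow, map_mul, map_mul, map_inv, MulEquiv.apply_symm_apply]
      exact hk
    rw [conj_zpow] at h3
    obtain ⟨h, hh⟩ := QuotientGroup.mk_surjective (e.symm g')
    rw [← hh] at h3
    have h4 : ((h * xS hF ^ k * h⁻¹ : Matrix.SpecialLinearGroup (Fin 4) F) :
        Matrix.ProjectiveSpecialLinearGroup (Fin 4) F) = QuotientGroup.mk (yS hF) := h3
    rw [QuotientGroup.eq] at h4
    have h5 := center_trivial hF _ h4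
    have h6 : yS hF * h = h * xS hF ^ k := by
      rw [inv_mul_eq_one] at h5
      rw [← h5]
      group
    -- the fixed vector
    set v : Fin 4 → F := (h : Matrix (Fin 4) (Fin 4) F) *ᵥ (Pi.single 2 1) with hv
    have hyv : Ym F *ᵥ v = v := by
      have h7 := congrArg (fun g : Matrix.SpecialLinearGroup (Fin 4) F =>
        (g : Matrix (Fin 4) (Fin 4) F) *ᵥ (Pi.single 2 1 : Fin 4 → F)) h6
      simp only [Matrix.SpecialLinearGroup.coe_mul, ← Matrix.mulVec_mulVec, xS_pow_fix hF k] at h7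
      exact h7
    have hv0 : v = 0 := by
      have h8 : ((Ym F + 1) * Ym F) *ᵥ v = v := by rw [Ym_quad hF, Matrix.one_mulVec]
      rw [← Matrix.mulVec_mulVec, hyv, Matrix.add_mulVec, hyv, Matrix.one_mulVec] at h8
      rw [← h8, ← two_smul F v]
      have : (2 : F) = 0 := by
        rw [← one_add_one_eq_two]
        exact one_add_one hF
      rw [this, zero_smul]
    have h9 : ((h⁻¹ * h : Matrix.SpecialLinearGroup (Fin 4) F) : Matrix (Fin 4) (Fin 4) F) *ᵥ
        (Pi.single 2 1 : Fin 4 → F) = Pi.single 2 1 := by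
      rw [inv_mul_cancel, Matrix.SpecialLinearGroup.coe_one, Matrix.one_mulVec]
    rw [Matrix.SpecialLinearGroup.coe_mul, ← Matrix.mulVec_mulVec, ← hv, hv0,
      Matrix.mulVec_zero] at h9
    have := congrFun h9 2
    simp at this

end Cfsg.Agent.S2550
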