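import Mathlib
import Cfsg.Statements.S2551
import Cfsg.Agent.S0256

set_option autoImplicit false
set_option linter.style.haveILetI false

namespace Cfsg.Agent.S2551

open Cfsg

section action

variable {F : Type*} [Field F]

abbrev G4 (F : Type*) [Field F] := Matrix.GeneralLinearGroup (Fin 4) F

theorem mulVec_inj (g : G4 F) : Function.Injective (g : Matrix (Fin 4) (Fin 4) F).mulVec := by
  intro u v h
  have h1 := congrArg ((g⁻¹ : G4 F) : Matrix (Fin 4) (Fin 4) F).mulVec h
  simp only [Matrix.mulVec_mulVec] at h1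
  rw [← Units.val_mul, inv_mul_cancel, Units.val_one, Matrix.one_mulVec, Matrix.one_mulVec] at h1
  exact h1

/-- ordered pairs of distinct non-zero vectors. -/
abbrev Pt (F : Type*) [Field F] :=
  {p : (Fin 4 → F) × (Fin 4 → F) // p.1 ≠ 0 ∧ p.2 ≠ 0 ∧ p.1 ≠ p.2}

instance : MulAction (G4 F) (Pt F) where
  smul g p := ⟨((g : Matrix (Fin 4) (Fin 4) F).mulVec p.1.1,
      (g : Matrix (Fin 4) (Fin 4) F).mulVec p.1.2), by
    refine ⟨?_, ?_, ?_⟩
    · intro h
      apply p.2.1
      apply mulVec_inj g
      exact h.trans (Matrix.mulVec_zero _).symm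
    · intro h
      apply p.2.2.1
      apply mulVec_inj g
      exact h.trans (Matrix.mulVec_zero _).symm
    · intro h
      exact p.2.2.2 (mulVec_inj g h)⟩
  one_smul p := by
    apply Subtype.ext
    change ((((1 : G4 F) : Matrix (Fin 4) (Fin 4) F).mulVec p.1.1),
      (((1 : G4 F) : Matrix (Fin 4) (Fin 4) F).mulVec p.1.2)) = p.1
    rw [Units.val_one, Matrix.one_mulVec, Matrix.one_mulVec]
  mul_smul g h p := by
    apply Subtype.ext
    change ((((g * h : G4 F) : Matrix (Fin 4) (Fin 4) F).mulVec p.1.1),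
      (((g * h : G4 F) : Matrix (Fin 4) (Fin 4) F).mulVec p.1.2)) =
      ((g : Matrix (Fin 4) (Fin 4) F).mulVec ((h : Matrix (Fin 4) (Fin 4) F).mulVec p.1.1),
        (g : Matrix (Fin 4) (Fin 4) F).mulVec ((h : Matrix (Fin 4) (Fin 4) F).mulVec p.1.2))
    rw [Units.val_mul, Matrix.mulVec_mulVec, Matrix.mulVec_mulVec]

theorem smul_fst (g : G4 F) (p : Pt F) :
    (g • p).1.1 = (g : Matrix (Fin 4) (Fin 4) F).mulVec p.1.1 := rfl

theorem smul_snd (g : G4 F) (p : Pt F) :
    (g • p).1.2 = (g : Matrix (Fin 4) (Fin 4) F).mulVec p.1.2 := rfl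

end action

section fin

variable {F : Type*} [Field F] [Fintype F]

theorem card_Pt (hF : Fintype.card F = 2) : Nat.card (Pt F) = 210 := by
  classical
  rw [Nat.card_eq_fintype_card]
  rw [Fintype.card_of_subtype ((Finset.univ.erase (0 : Fin 4 → F)).offDiag)]
  · rw [Finset.offDiag_card, Finset.card_erase_of_mem (Finset.mem_univ _), Finset.card_univ,
      Fintype.card_fun, hF]
    norm_num
  · intro x
    rw [Finset.mem_offDiag]
    simp

theorem card_G4 (hF : Fintype.card F = 2) : Nat.card (G4 F) = 20160 := by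
  rw [Matrix.card_GL_field, hF, Fin.prod_univ_four]
  norm_num

theorem two_eq_zero (hF : Fintype.card F = 2) : (2 : F) = 0 := by
  have := FiniteField.cast_card_eq_zero F
  rw [hF] at this
  exact_mod_cast this

theorem add_self (hF : Fintype.card F = 2) (v : Fin 4 → F) : v + v = 0 := by
  ext i
  simp only [Pi.add_apply, Pi.zero_apply]
  rw [← two_mul, two_eq_zero hF, zero_mul]

theorem eq_zero_or_one (hF : Fintype.card F = 2) (a : F) : a = 0 ∨ a = 1 := by
  classical
  by_contra h
  push Not at h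
  have h3 : ({0, 1, a} : Finset F).card = 3 := by
    rw [Finset.card_insert_of_notMem, Finset.card_insert_of_notMem, Finset.card_singleton]
    · simp only [Finset.mem_singleton]
      exact fun h' => h.2 h'.symm
    · simp only [Finset.mem_insert, Finset.mem_singleton, not_or]
      exact ⟨zero_ne_one, fun h' => h.1 h'.symm⟩
  have := Finset.card_le_univ ({0, 1, a} : Finset F)
  omega

/-- two distinct non-zero vectors are linearly independent. -/
theorem linInd (hF : Fintype.card F = 2) (p : Pt F) :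
    LinearIndependent F ![p.1.1, p.1.2] := by
  rw [LinearIndependent.pair_iff]
  intro s t hst
  rcases eq_zero_or_one hF s with hs | hs <;> rcases eq_zero_or_one hF t with ht | ht
  · exact ⟨hs, ht⟩
  · exfalso
    rw [hs, ht, zero_smul, one_smul, zero_add] at hst
    exact p.2.2.1 hst
  · exfalso
    rw [hs, ht, zero_smul, one_smul, add_zero] at hst
    exact p.2.1 hst
  · exfalso
    rw [hs, ht, one_smul, one_smul] at hst
    apply p.2.2.2
    have h2 := add_self hF p.1.2
    have : p.1.1 = p.1.1 + (p.1.2 + p.1.2) := by rw [h2, add_zero]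
    rw [this, ← add_assoc, hst, zero_add]

theorem exists_G4 (hF : Fintype.card F = 2) (p : Pt F) :
    ∃ g : G4 F, (g : Matrix (Fin 4) (Fin 4) F).mulVec (Pi.single 0 1) = p.1.1 ∧
      (g : Matrix (Fin 4) (Fin 4) F).mulVec (Pi.single 1 1) = p.1.2 := by
  have h0 := linInd hF p
  have hfr : Module.finrank F (Fin 4 → F) = 4 := by simp
  obtain ⟨x, hx⟩ := exists_linearIndependent_snoc_of_lt_finrank h0 (by rw [hfr]; norm_num)
  obtain ⟨y, hy⟩ := exists_linearIndependent_snoc_of_lt_finrank hx (by rw [hfr]; norm_num)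
  set s : Fin 4 → (Fin 4 → F) := Fin.snoc (Fin.snoc ![p.1.1, p.1.2] x) y with hs
  refine ⟨(Matrix.equiv_GL_linearindependent 4).symm ⟨s, hy⟩, ?_, ?_⟩
  · ext i
    change ((Matrix.transpose s).mulVec (Pi.single 0 1)) i = p.1.1 i
    rw [Matrix.mulVec_single_one]
    rfl
  · ext i
    change ((Matrix.transpose s).mulVec (Pi.single 1 1)) i = p.1.2 i
    rw [Matrix.mulVec_single_one]
    rfl

theorem G4_transitive (hF : Fintype.card F = 2) (p q : Pt F) : ∃ g : G4 F, g • p = q := by
  obtain ⟨a, ha1, ha2⟩ := exists_G4 hF p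
  obtain ⟨b, hb1, hb2⟩ := exists_G4 hF q
  refine ⟨b * a⁻¹, ?_⟩
  apply Subtype.ext
  apply Prod.ext
  · rw [smul_fst, ← ha1, Matrix.mulVec_mulVec, ← Units.val_mul, inv_mul_cancel_right, hb1]
  · rw [smul_snd, ← ha2, Matrix.mulVec_mulVec, ← Units.val_mul, inv_mul_cancel_right, hb2]

theorem card_stabilizer (hF : Fintype.card F = 2) (p : Pt F) :
    Nat.card (MulAction.stabilizer (G4 F) p) = 96 := by
  have h1 := Subgroup.card_mul_index (MulAction.stabilizer (G4 F) p)
  rw [MulAction.index_stabilizer, card_G4 hF] at h1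
  have h2 : MulAction.orbit (G4 F) p = Set.univ := by
    ext q
    simp only [Set.mem_univ, iff_true]
    obtain ⟨g, hg⟩ := G4_transitive hF p q
    exact ⟨g, hg⟩
  rw [h2, Set.ncard_univ, card_Pt hF] at h1
  omega


theorem even_ncard_of_involution {α : Type*} (S : Set α) [Finite S] (f : α → α)
    (hf : ∀ x ∈ S, f x ∈ S) (hinv : ∀ x ∈ S, f (f x) = x) (hfix : ∀ x ∈ S, f x ≠ x) :
    Even S.ncard := by
  classical
  haveI := Fintype.ofFinite S
  let σ : Equiv.Perm S :=
    { toFun := fun x => ⟨f x.1, hf x.1 x.2⟩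
      invFun := fun x => ⟨f x.1, hf x.1 x.2⟩
      left_inv := fun x => Subtype.ext (hinv x.1 x.2)
      right_inv := fun x => Subtype.ext (hinv x.1 x.2) }
  have hσ : σ ^ 2 = 1 := by
    ext x
    rw [pow_two]
    exact congrArg Subtype.val (show σ (σ x) = x from Subtype.ext (hinv x.1 x.2))
  have h2 := Equiv.Perm.two_dvd_card_support hσ
  have hsupp : σ.support = Finset.univ := by
    ext x
    simp only [Equiv.Perm.mem_support, Finset.mem_univ, iff_true]
    intro h
    exact hfix x.1 x.2 (congrArg Subtype.val h)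
  rw [hsupp, Finset.card_univ, ← Nat.card_eq_fintype_card, Nat.card_coe_set_eq] at h2
  exact even_iff_two_dvd.mpr h2

section sub

variable (hF : Fintype.card F = 2) (H : Subgroup (G4 F)) (hH : Nat.card H = 2520)

theorem H_smul_def (h : H) (p : Pt F) : h • p = (h : G4 F) • p := rfl

/-- the swap. -/
def sw (p : Pt F) : Pt F := ⟨(p.1.2, p.1.1), p.2.2.1, p.2.1, fun h => p.2.2.2 h.symm⟩

include hF in
/-- the shear `(u, v) ↦ (u + v, v)`. -/
theorem tau_ok (p : Pt F) : p.1.1 + p.1.2 ≠ 0 ∧ p.1.2 ≠ 0 ∧ p.1.1 + p.1.2 ≠ p.1.2 := by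
  refine ⟨?_, p.2.2.1, ?_⟩
  · intro h
    apply p.2.2.2
    have h2 := add_self hF p.1.2
    have : p.1.1 = p.1.1 + (p.1.2 + p.1.2) := by rw [h2, add_zero]
    rw [this, ← add_assoc, h, zero_add]
  · intro h
    apply p.2.1
    have : p.1.1 + p.1.2 = 0 + p.1.2 := by rw [h, zero_add]
    exact add_right_cancel this

def tau (p : Pt F) : Pt F := ⟨(p.1.1 + p.1.2, p.1.2), tau_ok hF p⟩

theorem sw_smul (g : G4 F) (p : Pt F) : sw (g • p) = g • sw p := rfl

theorem tau_smul (g : G4 F) (p : Pt F) : tau hF (g • p) = g • tau hF p := by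
  apply Subtype.ext
  apply Prod.ext
  · change (g : Matrix (Fin 4) (Fin 4) F).mulVec p.1.1 + (g : Matrix (Fin 4) (Fin 4) F).mulVec p.1.2
      = (g : Matrix (Fin 4) (Fin 4) F).mulVec (p.1.1 + p.1.2)
    rw [Matrix.mulVec_add]
  · rfl

theorem sw_sw (p : Pt F) : sw (sw p) = p := rfl

theorem tau_tau (p : Pt F) : tau hF (tau hF p) = p := by
  apply Subtype.ext
  apply Prod.ext
  · change p.1.1 + p.1.2 + p.1.2 = p.1.1
    rw [add_assoc, add_self hF, add_zero]
  · rfl

theorem tau_ne (p : Pt F) : tau hF p ≠ p := by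
  intro h
  have h1 := congrArg (fun q : Pt F => q.1.1) h
  change p.1.1 + p.1.2 = p.1.1 at h1
  apply p.2.2.1
  have : p.1.1 + p.1.2 = p.1.1 + 0 := by rw [h1, add_zero]
  exact add_left_cancel this

/-- `(u, v) ↦ (u, u + v)`. -/
def psi (p : Pt F) : Pt F := tau hF (sw (tau hF p))

theorem psi_psi (p : Pt F) : psi hF (psi hF p) = p := by
  unfold psi
  rw [tau_tau, sw_sw, tau_tau]

theorem psi_ne (p : Pt F) : psi hF p ≠ p := by
  intro h
  have h1 := congrArg (fun q : Pt F => q.1.2) h
  change p.1.1 + p.1.2 = p.1.2 at h1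
  exact (tau_ok hF p).2.2 h1

include hF hH in
theorem ncard_orbit (p : Pt F) :
    (MulAction.orbit H p).ncard = 210 ∨ (MulAction.orbit H p).ncard = 105 := by
  have h1 := Subgroup.card_mul_index (MulAction.stabilizer H p)
  rw [MulAction.index_stabilizer, hH] at h1
  have h2 : (MulAction.orbit H p).ncard ≤ 210 := by
    rw [← card_Pt hF]
    exact Set.ncard_le_card _
  have h3 : Nat.card (MulAction.stabilizer H p) ∣ 96 := by
    rw [← card_stabilizer hF p]
    let f : MulAction.stabilizer H p →* MulAction.stabilizer (G4 F) p :=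
      { toFun := fun h => ⟨(h.1 : G4 F), by
          rw [MulAction.mem_stabilizer_iff]
          exact h.2⟩
        map_one' := rfl
        map_mul' := fun a b => rfl }
    apply Subgroup.card_dvd_of_injective f
    intro a b hab
    apply Subtype.ext
    apply Subtype.ext
    exact congrArg (fun x : MulAction.stabilizer (G4 F) p => (x : G4 F)) hab
  have h4 : Nat.card (MulAction.stabilizer H p) ∣ 2520 := ⟨_, h1.symm⟩
  have h5 : Nat.card (MulAction.stabilizer H p) ∣ 24 := by
    have := Nat.dvd_gcd h4 h3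
    norm_num at this
    exact this
  have h6 : Nat.card (MulAction.stabilizer H p) ∈ Nat.divisors 24 := by
    rw [Nat.mem_divisors]
    exact ⟨h5, by norm_num⟩
  have h7 : Nat.divisors 24 = {1, 2, 3, 4, 6, 8, 12, 24} := by decide
  rw [h7] at h6
  simp only [Finset.mem_insert, Finset.mem_singleton] at h6
  rcases h6 with h6 | h6 | h6 | h6 | h6 | h6 | h6 | h6 <;> rw [h6] at h1 <;> omega

/-- an equivariant fixed point free involution moves an odd orbit off itself. -/
theorem odd_orbit_moves (f : Pt F → Pt F) (hf : ∀ (h : H) (y : Pt F), f (h • y) = h • f y)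
    (hinv : ∀ y, f (f y) = y) (hfix : ∀ y, f y ≠ y) (x : Pt F)
    (hodd : ¬ Even (MulAction.orbit H x).ncard) :
    ∀ y ∈ MulAction.orbit H x, f y ∉ MulAction.orbit H x := by
  intro y hy hfy
  apply hodd
  apply even_ncard_of_involution _ f
  · intro z hz
    have hz' : z ∈ MulAction.orbit H y := by
      rw [MulAction.orbit_eq_iff.mpr hy]
      exact hz
    obtain ⟨h, rfl⟩ := hz'
    rw [hf]
    exact MulAction.mem_orbit_of_mem_orbit h hfy
  · intro z _
    exact hinv z
  · intro z _
    exact hfix z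


theorem not_even_105 : ¬ Even 105 := by decide

include hF hH in
theorem H_transitive (p q : Pt F) : q ∈ MulAction.orbit H p := by
  classical
  by_contra hne
  set R₁ := MulAction.orbit H p with hR₁
  set R₂ := MulAction.orbit H q with hR₂
  have hdisj : Disjoint R₁ R₂ := by
    rw [Set.disjoint_left]
    intro x hx1 hx2
    apply hne
    have e1 : MulAction.orbit H x = R₁ := MulAction.orbit_eq_iff.mpr hx1
    have e2 : MulAction.orbit H x = R₂ := MulAction.orbit_eq_iff.mpr hx2
    have e3 : R₁ = R₂ := e1.symm.trans e2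
    change q ∈ R₁
    rw [e3]
    exact MulAction.mem_orbit_self q
  have hcard := Set.ncard_union_eq hdisj (Set.toFinite R₁) (Set.toFinite R₂)
  have hle : (R₁ ∪ R₂).ncard ≤ 210 := by
    rw [← card_Pt hF]
    exact Set.ncard_le_card _
  have hn1 : R₁.ncard = 105 := by
    rcases ncard_orbit hF H hH p with h | h <;> rcases ncard_orbit hF H hH q with h' | h' <;>
      rw [← hR₁] at h <;> rw [← hR₂] at h' <;> omega
  have hn2 : R₂.ncard = 105 := by
    rcases ncard_orbit hF H hH p with h | h <;> rcases ncard_orbit hF H hH q with h' | h' <;>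
      rw [← hR₁] at h <;> rw [← hR₂] at h' <;> omega
  have hcover : ∀ x : Pt F, x ∈ R₁ ∨ x ∈ R₂ := by
    have huniv : R₁ ∪ R₂ = Set.univ := by
      rw [Set.eq_univ_iff_ncard, hcard, hn1, hn2, card_Pt hF]
    intro x
    have : x ∈ R₁ ∪ R₂ := by rw [huniv]; exact Set.mem_univ x
    exact this
  have hnot : ∀ x : Pt F, x ∈ R₁ → x ∉ R₂ := fun x h1 h2 => Set.disjoint_left.mp hdisj h1 h2
  -- the shear swaps the two orbits
  have htau_eq : ∀ (h : H) (y : Pt F), tau hF (h • y) = h • tau hF y := fun h y => tau_smul hF _ y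
  have hsw_eq : ∀ (h : H) (y : Pt F), sw (h • y) = h • sw y := fun h y => sw_smul _ y
  have ht1 : ∀ y ∈ R₁, tau hF y ∈ R₂ := by
    intro y hy
    have := odd_orbit_moves H (tau hF) htau_eq (tau_tau hF) (tau_ne hF) p
      (by rw [← hR₁, hn1]; exact not_even_105) y hy
    rcases hcover (tau hF y) with h | h
    · exact absurd h this
    · exact h
  have ht2 : ∀ y ∈ R₂, tau hF y ∈ R₁ := by
    intro y hy
    have := odd_orbit_moves H (tau hF) htau_eq (tau_tau hF) (tau_ne hF) q
      (by rw [← hR₂, hn2]; exact not_even_105) y hy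
    rcases hcover (tau hF y) with h | h
    · exact h
    · exact absurd h this
  -- an involution of `H` and a pair that it swaps
  have h2dvd : 2 ∣ Nat.card H := by rw [hH]; norm_num
  haveI : Fact (Nat.Prime 2) := ⟨Nat.prime_two⟩
  obtain ⟨t, ht⟩ := exists_prime_orderOf_dvd_card' 2 h2dvd
  have htt : t * t = 1 := by
    rw [← pow_two, ← ht, pow_orderOf_eq_one]
  have ht1' : t ≠ 1 := by
    intro h
    rw [h, orderOf_one] at ht
    omega
  have hmove : ∃ j : Fin 4, ((t : G4 F) : Matrix (Fin 4) (Fin 4) F).mulVec (Pi.single j 1) ≠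
      Pi.single j 1 := by
    by_contra hall
    push Not at hall
    apply ht1'
    apply Subtype.ext
    apply Units.ext
    ext i j
    have := congrFun (hall j) i
    rw [Matrix.mulVec_single_one] at this
    rw [Subgroup.coe_one, Units.val_one, Matrix.one_apply]
    rw [Pi.single_apply] at this
    exact this
  obtain ⟨j, hj⟩ := hmove
  have hsj : (Pi.single j 1 : Fin 4 → F) ≠ 0 := by
    intro h
    have := congrFun h j
    simp at this
  let r : Pt F := ⟨(Pi.single j 1, ((t : G4 F) : Matrix (Fin 4) (Fin 4) F).mulVec (Pi.single j 1)),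
    hsj, by
      intro h
      apply hsj
      apply mulVec_inj (t : G4 F)
      exact h.trans (Matrix.mulVec_zero _).symm, fun h => hj h.symm⟩
  have hr : sw r = t • r := by
    apply Subtype.ext
    apply Prod.ext
    · rfl
    · change Pi.single j 1 = ((t : G4 F) : Matrix (Fin 4) (Fin 4) F).mulVec
        (((t : G4 F) : Matrix (Fin 4) (Fin 4) F).mulVec (Pi.single j 1))
      rw [Matrix.mulVec_mulVec, ← Units.val_mul, ← Subgroup.coe_mul, htt, Subgroup.coe_one,
        Units.val_one, Matrix.one_mulVec]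
  have hsw_orbit : ∀ y ∈ MulAction.orbit H r, sw y ∈ MulAction.orbit H r := by
    rintro y ⟨h, rfl⟩
    change sw (h • r) ∈ _
    rw [hsw_eq, hr]
    exact MulAction.mem_orbit_of_mem_orbit h (MulAction.mem_orbit r t)
  have hs2 : ∀ y ∈ R₂, sw y ∈ R₂ := by
    rcases hcover r with hr1 | hr2
    · have e : MulAction.orbit H r = R₁ := MulAction.orbit_eq_iff.mpr hr1
      rw [e] at hsw_orbit
      intro y hy
      rcases hcover (sw y) with h | h
      · exfalso
        have := hsw_orbit _ h
        rw [sw_sw] at this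
        exact hnot y this hy
      · exact h
    · have e : MulAction.orbit H r = R₂ := MulAction.orbit_eq_iff.mpr hr2
      rw [e] at hsw_orbit
      exact hsw_orbit
  -- the involution `psi` preserves `R₁`, which has odd size
  have hpsi : ∀ y ∈ R₁, psi hF y ∈ R₁ := by
    intro y hy
    exact ht2 _ (hs2 _ (ht1 y hy))
  have heven := even_ncard_of_involution R₁ (psi hF) hpsi (fun y _ => psi_psi hF y)
    (fun y _ => psi_ne hF y)
  rw [hn1] at heven
  exact not_even_105 heven

end sub

section exist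

theorem center_SL4 (hF : Fintype.card F = 2) :
    Subgroup.center (Matrix.SpecialLinearGroup (Fin 4) F) = ⊥ := by
  rw [eq_bot_iff]
  intro A hA
  rw [Matrix.SpecialLinearGroup.mem_center_iff] at hA
  obtain ⟨r, hr, hrA⟩ := hA
  have hr1 : r = 1 := by
    rcases eq_zero_or_one hF r with h | h
    · exfalso
      rw [h, Fintype.card_fin, zero_pow (by norm_num)] at hr
      exact zero_ne_one hr
    · exact h
  rw [Subgroup.mem_bot]
  apply Subtype.ext
  rw [← hrA, hr1]
  simp

/-- the embedding `A₇ → A₈` fixing the last point. -/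
def a7to8 : alternatingGroup (Fin 7) →* alternatingGroup (Fin 8) :=
  ((Equiv.Perm.extendDomainHom (finSuccAboveEquiv (Fin.last 7))).comp
    (alternatingGroup (Fin 7)).subtype).codRestrict (alternatingGroup (Fin 8)) (by
      intro σ
      rw [Equiv.Perm.mem_alternatingGroup]
      change Equiv.Perm.sign (σ.1.extendDomain (finSuccAboveEquiv (Fin.last 7))) = 1
      rw [Equiv.Perm.sign_extendDomain]
      exact Equiv.Perm.mem_alternatingGroup.mp σ.2)

theorem a7to8_injective : Function.Injective a7to8 := by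
  intro a b hab
  have h1 := congrArg (fun x : alternatingGroup (Fin 8) => (x : Equiv.Perm (Fin 8))) hab
  apply Subtype.ext
  exact Equiv.Perm.extendDomainHom_injective (finSuccAboveEquiv (Fin.last 7)) h1

theorem exists_A7 (hF : Fintype.card F = 2) :
    ∃ H : Subgroup (G4 F), Nonempty (H ≃* alternatingGroup (Fin 7)) := by
  obtain ⟨E⟩ := Cfsg.Agent.S0256.result (F := F) hF
  let eSL : Matrix.SpecialLinearGroup (Fin 4) F ≃* Matrix.ProjectiveSpecialLinearGroup (Fin 4) F :=
    (QuotientGroup.quotientBot).symm.trans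
      (QuotientGroup.quotientMulEquivOfEq (center_SL4 hF).symm)
  let φ : alternatingGroup (Fin 7) →* G4 F :=
    Matrix.SpecialLinearGroup.toGL.comp
      (eSL.symm.toMonoidHom.comp (E.symm.toMonoidHom.comp a7to8))
  have hφ : Function.Injective φ :=
    Matrix.SpecialLinearGroup.toGL_injective.comp
      (eSL.symm.injective.comp (E.symm.injective.comp a7to8_injective))
  exact ⟨φ.range, ⟨(MonoidHom.ofInjective hφ).symm⟩⟩

end exist

end fin

/-- Let F be the field with 2 elements. GL_4(F) (≅ A_8) has a subgroup isomorphic to the alternating group A_7, and every such subgroup acts 2-transitively on the 15 non-zero vectors of F⁴: any ordered pair of distinct non-zero vectors is carried to any other by some element of the subgroup. -/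
theorem result {F : Type*} [Field F] [Fintype F] (hF : Fintype.card F = 2) : (∃ H : Subgroup (Matrix.GeneralLinearGroup (Fin 4) F), Nonempty (H ≃* alternatingGroup (Fin 7))) ∧ ∀ H : Subgroup (Matrix.GeneralLinearGroup (Fin 4) F), Nonempty (H ≃* alternatingGroup (Fin 7)) → ∀ v w v' w' : Fin 4 → F, v ≠ 0 → w ≠ 0 → v ≠ w → v' ≠ 0 → w' ≠ 0 → v' ≠ w' → ∃ g ∈ H, (g : Matrix (Fin 4) (Fin 4) F).mulVec v = v' ∧ (g : Matrix (Fin 4) (Fin 4) F).mulVec w = w' := by
  refine ⟨exists_A7 hF, ?_⟩
  rintro H ⟨e⟩ v w v' w' hv hw hvw hv' hw' hvw'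
  have hH : Nat.card H = 2520 := by
    rw [Nat.card_congr e.toEquiv, nat_card_alternatingGroup, Nat.card_eq_fintype_card,
      Fintype.card_fin]
    rfl
  obtain ⟨h, hh⟩ := H_transitive hF H hH ⟨(v, w), hv, hw, hvw⟩ ⟨(v', w'), hv', hw', hvw'⟩
  refine ⟨h.1, h.2, ?_, ?_⟩
  · exact congrArg (fun q : Pt F => q.1.1) hh
  · exact congrArg (fun q : Pt F => q.1.2) hh

end Cfsg.Agent.S2551
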