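import Mathlib
import Cfsg.Statements.S2552

set_option autoImplicit false
open Cfsg

namespace Cfsg.Agent.S2552

/-- A linear automorphism carrying `U₁` onto `U₂` when they have the same dimension. -/
theorem exists_equiv_map {F V : Type*} [Field F] [AddCommGroup V] [Module F V] [FiniteDimensional F V]
    (U₁ U₂ : Submodule F V) (h : Module.finrank F U₁ = Module.finrank F U₂) :
    ∃ e : V ≃ₗ[F] V, U₁.map (e : V →ₗ[F] V) = U₂ := by
  obtain ⟨W₁, hW₁⟩ := U₁.exists_isCompl
  obtain ⟨W₂, hW₂⟩ := U₂.exists_isCompl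
  have h1 := Submodule.finrank_add_eq_of_isCompl hW₁
  have h2 := Submodule.finrank_add_eq_of_isCompl hW₂
  have hW : Module.finrank F W₁ = Module.finrank F W₂ := by omega
  let eU : U₁ ≃ₗ[F] U₂ := LinearEquiv.ofFinrankEq _ _ h
  let eW : W₁ ≃ₗ[F] W₂ := LinearEquiv.ofFinrankEq _ _ hW
  let e : V ≃ₗ[F] V := (Submodule.prodEquivOfIsCompl U₁ W₁ hW₁).symm ≪≫ₗ (eU.prodCongr eW) ≪≫ₗ
    (Submodule.prodEquivOfIsCompl U₂ W₂ hW₂)
  refine ⟨e, ?_⟩
  apply Submodule.eq_of_le_of_finrank_le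
  · rintro _ ⟨u, hu', rfl⟩
    have hu : u ∈ U₁ := hu'
    have : e u = (eU (⟨u, hu⟩ : U₁) : V) := by
      show (Submodule.prodEquivOfIsCompl U₂ W₂ hW₂) ((eU.prodCongr eW)
        ((Submodule.prodEquivOfIsCompl U₁ W₁ hW₁).symm u)) = _
      have h3 : (Submodule.prodEquivOfIsCompl U₁ W₁ hW₁).symm u = ((⟨u, hu⟩ : U₁), 0) :=
        Submodule.prodEquivOfIsCompl_symm_apply_left U₁ W₁ hW₁ (⟨u, hu⟩ : U₁)
      rw [h3]
      simp
    show e u ∈ U₂
    rw [this]
    exact (eU (⟨u, hu⟩ : U₁)).2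
  · have := (Submodule.equivMapOfInjective (e : V →ₗ[F] V) e.injective U₁).finrank_eq
    omega

theorem result {F : Type*} [Field F] [Fintype F] (n : ℕ) (hn : 1 ≤ n) (U₁ U₂ : Submodule F (Fin n → F)) (h : Module.finrank F U₁ = Module.finrank F U₂) : ∃ g : Matrix.SpecialLinearGroup (Fin n) F, U₁.map ((Matrix.SpecialLinearGroup.toLin' g : (Fin n → F) ≃ₗ[F] (Fin n → F)) : (Fin n → F) →ₗ[F] (Fin n → F)) = U₂ := by
  classical
  -- it suffices to find a linear map of determinant one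
  suffices hsuff : ∃ L : (Fin n → F) →ₗ[F] (Fin n → F), LinearMap.det L = 1 ∧ U₁.map L = U₂ by
    obtain ⟨L, hdet, hmap⟩ := hsuff
    have hdetM : (LinearMap.toMatrix' L).det = 1 := by rw [LinearMap.det_toMatrix', hdet]
    let g : Matrix.SpecialLinearGroup (Fin n) F := ⟨LinearMap.toMatrix' L, hdetM⟩
    refine ⟨g, ?_⟩
    have : ((Matrix.SpecialLinearGroup.toLin' g : (Fin n → F) ≃ₗ[F] (Fin n → F)) : (Fin n → F) →ₗ[F] (Fin n → F)) = L := by
      apply LinearMap.ext
      intro v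
      show (Matrix.SpecialLinearGroup.toLin' g) v = L v
      rw [Matrix.SpecialLinearGroup.toLin'_apply]
      show Matrix.toLin' (LinearMap.toMatrix' L) v = L v
      rw [Matrix.toLin'_toMatrix']
    rw [this, hmap]
  obtain ⟨e, he⟩ := exists_equiv_map U₁ U₂ h
  by_cases htop : U₂ = ⊤
  · -- then U₁ = ⊤ too
    refine ⟨LinearMap.id, by simp, ?_⟩
    have h1 : U₁ = ⊤ := by
      apply Submodule.eq_top_of_finrank_eq
      rw [h, htop, finrank_top]
    rw [h1, htop, Submodule.map_id]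
  · have hlt : U₂ < ⊤ := lt_top_iff_ne_top.mpr htop
    obtain ⟨φ, hφ0, hφU⟩ := Submodule.exists_le_ker_of_lt_top U₂ hlt
    obtain ⟨w, hw⟩ : ∃ w, φ w ≠ 0 := by
      by_contra hcon
      push Not at hcon
      exact hφ0 (LinearMap.ext hcon)
    set d := LinearMap.det (e : (Fin n → F) →ₗ[F] (Fin n → F)) with hd
    have hd0 : d ≠ 0 := by
      have := LinearEquiv.isUnit_det' e
      exact this.ne_zero
    -- s = transvection with det d⁻¹
    let ψ : Module.Dual F (Fin n → F) := (d⁻¹ - 1) • φ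
    let w' : Fin n → F := (φ w)⁻¹ • w
    have hψw : ψ w' = d⁻¹ - 1 := by
      simp only [ψ, w', LinearMap.smul_apply, map_smul, smul_eq_mul]
      field_simp
    let s := LinearMap.transvection ψ w'
    have hsdet : LinearMap.det s = d⁻¹ := by
      rw [LinearMap.transvection.det, hψw]; ring
    have hsfix : ∀ u ∈ U₂, s u = u := by
      intro u hu
      have : φ u = 0 := hφU hu
      simp [s, LinearMap.transvection.apply, ψ, this]
    refine ⟨s.comp (e : (Fin n → F) →ₗ[F] (Fin n → F)), ?_, ?_⟩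
    · rw [LinearMap.det_comp, hsdet, ← hd, inv_mul_cancel₀ hd0]
    · rw [Submodule.map_comp, he]
      ext x
      constructor
      · rintro ⟨u, hu, rfl⟩
        rw [hsfix u hu]; exact hu
      · intro hx
        exact ⟨x, hx, hsfix x hx⟩

end Cfsg.Agent.S2552
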