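import Cfsg.Statements.S2553
import Cfsg.Agent.Lead.S2553Defs
import Cfsg.Agent.Lead.S2553TRANSPORT
import Cfsg.Agent.Lead.S2553CORES
import Cfsg.Agent.Lead.S2553IDX
import Cfsg.Agent.Lead.S2553NOSQ
import Cfsg.Agent.Helper14.S2553MINNORMAL
import Cfsg.Agent.Helper13.S2553CENSUS
import Cfsg.Agent.Helper23.S2553CENT
import Cfsg.Agent.Helper23.S2553CASE60
import Cfsg.Agent.Helper28.S2553CASE168
import Cfsg.Agent.Helper8.S2553CASE360
import Cfsg.Agent.Helper8.S2553CASE2520

set_option autoImplicit false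
open Cfsg

/-! S2553: subgroups `H` of `GL₄(2) ≅ A₈` with `O₂(H) = O₂'(H) = 1` (piece project, driver lead; see
`departures/lead_s2553_pieces.md`). -/

namespace Cfsg.Agent.S2553P

/-- the main lemma: clean nontrivial subgroups of `A₈` -/
theorem main_of_le_A8 (K : Subgroup Γ8) (hKA : K ≤ A8) (hne : K ≠ ⊥) (hK : Clean ↥K) :
    (∃ n : ℕ, 5 ≤ n ∧ n ≤ 8 ∧ Nonempty (↥K ≃* alternatingGroup (Fin n))) ∨
    Nonempty (↥K ≃* Equiv.Perm (Fin 5)) ∨ Nonempty (↥K ≃* Equiv.Perm (Fin 6)) ∨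
      Nonempty (↥K ≃* GL (Fin 3) (ZMod 2)) := by
  classical
  have hp : ∀ (p : ℕ) [Fact p.Prime] (N : Subgroup ↥K), N.Normal → IsPGroup p ↥N → N = ⊥ :=
    fun p _ N hN hpN => clean_pgroup hK p N hN hpN
  have htop : (⊤ : Subgroup ↥K) ≠ ⊥ := by
    intro h
    apply hne
    have : Subsingleton (Subgroup ↥K) := subsingleton_of_bot_eq_top h.symm
    have : Subsingleton ↥K := Subgroup.subsingleton_iff.mp this
    exact Subgroup.eq_bot_of_subsingleton K
  obtain ⟨M, T, m, hMn, -, hTM, hTs, hTna, hcard⟩ :=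
    exists_simple_in_normal hp ⊤ inferInstance htop
  have hKdvd : Nat.card ↥K ∣ 20160 := by
    rw [← card_A8]; exact Subgroup.card_dvd_of_le hKA
  have hMdvd : Nat.card ↥M ∣ 20160 := (Subgroup.card_subgroup_dvd_card M).trans hKdvd
  have hm : m = 0 := by
    by_contra hm
    have := hTs
    apply sq_not_dvd ↥T hTna
    refine dvd_trans ?_ hMdvd
    rw [hcard]
    exact pow_dvd_pow _ (by omega)
  subst hm
  have hMT : T = M := by
    apply Subgroup.eq_of_le_of_card_ge hTM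
    rw [hcard]; simp
  subst hMT
  -- the image of `T` in `Γ8`
  let e : ↥T ≃* ↥(T.map K.subtype) := T.equivMapOfInjective K.subtype K.subtype_injective
  have hSA : T.map K.subtype ≤ A8 := (Subgroup.map_subtype_le T).trans hKA
  have hSs : IsSimpleGroup ↥(T.map K.subtype) := by
    have := hTs
    exact e.symm.isSimpleGroup
  have hSna : ¬ IsMulCommutative ↥(T.map K.subtype) := by
    intro h
    apply hTna
    refine ⟨⟨fun a b => ?_⟩⟩
    apply e.injective
    rw [map_mul, map_mul]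
    exact h.is_comm.comm _ _
  have hcardS : Nat.card ↥(T.map K.subtype) = Nat.card ↥T := (Nat.card_congr e.toEquiv).symm
  rcases card_of_simple _ hSA hSs hSna with h | h | h | h | h <;> rw [hcardS] at h
  · -- 60
    have hc := centralizer_eq_bot K hKA hK T hMn hTs hTna
    rcases case_60 T hMn hTs h hc with h5 | h5
    · exact Or.inl ⟨5, le_refl _, by norm_num, h5⟩
    · exact Or.inr (Or.inl h5)
  · -- 168
    exact Or.inr (Or.inr (Or.inr (case_168 K hKA T hMn hTs h)))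
  · -- 360
    rcases case_360 K hKA T hMn hTs h with h6 | h6
    · exact Or.inl ⟨6, by norm_num, by norm_num, h6⟩
    · exact Or.inr (Or.inr (Or.inl h6))
  · -- 2520
    exact Or.inl ⟨7, by norm_num, by norm_num, case_2520 K hKA T hMn hTs h⟩
  · -- 20160
    have hKeq : K = A8 := by
      apply Subgroup.eq_of_le_of_card_ge hKA
      rw [card_A8, ← h]
      exact Subgroup.card_le_card_group T
    exact Or.inl ⟨8, by norm_num, le_refl _, ⟨MulEquiv.subgroupCongr hKeq⟩⟩

end Cfsg.Agent.S2553P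

namespace Cfsg.Agent.S2553

open Cfsg.Agent.S2553P in
/-- Let H be a nontrivial subgroup of GL(4,2) (a group isomorphic to the alternating group of degree 8) whose largest normal 2-subgroup and largest normal subgroup of odd order are both trivial. Then H is isomorphic to an alternating group of degree n for some 5 ≤ n ≤ 8, to the symmetric group of degree 5 or 6, or to GL(3,2). -/
theorem result (H : Subgroup (GL (Fin 4) (ZMod 2))) (hH : H ≠ ⊥) (hO : Cfsg.pPrimeCore 2 ↥H = ⊥) (hO2 : Cfsg.pCore 2 ↥H = ⊥) :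
    (∃ n : ℕ, 5 ≤ n ∧ n ≤ 8 ∧ Nonempty (↥H ≃* alternatingGroup (Fin n))) ∨
    Nonempty (↥H ≃* Equiv.Perm (Fin 5)) ∨ Nonempty (↥H ≃* Equiv.Perm (Fin 6)) ∨ Nonempty (↥H ≃* GL (Fin 3) (ZMod 2)) := by
  obtain ⟨K, hKA, ⟨e⟩⟩ := exists_perm_model H
  have hK : Clean ↥K := clean_of_equiv e (clean_of_cores hO hO2)
  have hne : K ≠ ⊥ := by
    intro h
    apply hH
    have : Subsingleton ↥K := by rw [h]; infer_instance
    have : Subsingleton ↥H := e.toEquiv.subsingleton
    exact Subgroup.eq_bot_of_subsingleton H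
  rcases main_of_le_A8 K hKA hne hK with ⟨n, h5, h8, ⟨f⟩⟩ | ⟨⟨f⟩⟩ | ⟨⟨f⟩⟩ | ⟨⟨f⟩⟩
  · exact Or.inl ⟨n, h5, h8, ⟨e.trans f⟩⟩
  · exact Or.inr (Or.inl ⟨e.trans f⟩)
  · exact Or.inr (Or.inr (Or.inl ⟨e.trans f⟩))
  · exact Or.inr (Or.inr (Or.inr ⟨e.trans f⟩))

end Cfsg.Agent.S2553
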