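import Cfsg.Statements.S2558
import Cfsg.Agent.Helper17.S2558ASM
import Cfsg.Agent.Helper10.S2558POLAR
import Cfsg.Agent.Helper13.S2558LASM

set_option autoImplicit false
open Cfsg

namespace Cfsg.Agent.S2558

/-- The number of conjugacy classes of the full orthogonal groups O⁺(2n,q) and O⁻(2n,q), q odd, 2n ≥ 4: for F a finite field of odd order q and n ≥ 2, the number k of conjugacy classes of the isometry group of the hyperbolic quadratic form Σ xᵢyᵢ on F^{2n}, and likewise of the elliptic form Σ xᵢyᵢ + (z₁² + a z₁z₂ + b z₂²) with anisotropic binary part, satisfies q^n/2 ≤ k ≤ 9.5·q^n. -/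
theorem result {F : Type*} [Field F] [Fintype F] (hodd : Odd (Fintype.card F)) (n : ℕ) (hn : 2 ≤ n) (a b : F) (hab : ∀ z₁ z₂ : F, z₁ ^ 2 + a * z₁ * z₂ + b * z₂ ^ 2 = 0 → z₁ = 0 ∧ z₂ = 0) :
    (Fintype.card F ^ n ≤ 2 * Nat.card (ConjClasses ↥(Cfsg.isometryGroup F (Cfsg.quadFormPlus n F))) ∧
      2 * Nat.card (ConjClasses ↥(Cfsg.isometryGroup F (Cfsg.quadFormPlus n F))) ≤ 19 * Fintype.card F ^ n) ∧
    (Fintype.card F ^ n ≤ 2 * Nat.card (ConjClasses ↥(Cfsg.isometryGroup F (Cfsg.quadFormMinus (n - 1) F a b))) ∧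
      2 * Nat.card (ConjClasses ↥(Cfsg.isometryGroup F (Cfsg.quadFormMinus (n - 1) F a b))) ≤ 19 * Fintype.card F ^ n) := by
  have h2 : (2 : F) ≠ 0 := by
    intro h
    have hchar : ringChar F = 2 := by
      have hdvd : ringChar F ∣ 2 := (ringChar.spec F 2).1 (by exact_mod_cast h)
      have hne : ringChar F ≠ 1 := CharP.ringChar_ne_one
      rcases (Nat.dvd_prime Nat.prime_two).1 hdvd with h1 | h1
      · exact absurd h1 hne
      · exact h1
    have heven : Fintype.card F % 2 = 0 := FiniteField.even_card_of_char_two hchar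
    rcases hodd with ⟨k, hk⟩
    omega
  obtain ⟨Bp, hBp⟩ := Cfsg.Agent.S2558P.POLAR.exists_polar_plus h2 n
  obtain ⟨Bm, hBm⟩ := Cfsg.Agent.S2558P.POLAR.exists_polar_minus h2 (n - 1) a b hab
  have ep : Fin n ⊕ Fin n ≃ Fin (2 * n) :=
    Fintype.equivFinOfCardEq (by rw [Fintype.card_sum, Fintype.card_fin]; omega)
  have em : (Fin (n - 1) ⊕ Fin (n - 1)) ⊕ Fin 2 ≃ Fin (2 * n) :=
    Fintype.equivFinOfCardEq (by
      rw [Fintype.card_sum, Fintype.card_sum, Fintype.card_fin, Fintype.card_fin]; omega)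
  exact ⟨⟨Cfsg.Agent.S2558P.LOW.lower_plus hodd n hn,
      Cfsg.Agent.S2558P.OUPPER.two_card_conjClasses_le hodd h2 n _ Bp hBp ep⟩,
    ⟨Cfsg.Agent.S2558P.LOW.lower_minus hodd n hn a b hab,
      Cfsg.Agent.S2558P.OUPPER.two_card_conjClasses_le hodd h2 n _ Bm hBm em⟩⟩

end Cfsg.Agent.S2558
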