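import Cfsg.Statements.S2560
import Cfsg.Agent.Helper17.S2560FINAL
import Cfsg.Agent.Helper13.S2560LOW
import Cfsg.Agent.Helper12.S2560POLARODD

set_option autoImplicit false
open Cfsg

namespace Cfsg.Agent.S2560

/-- The number of conjugacy classes of Ω(2n+1,q), q odd, n ≥ 2: for F a finite field of odd order q, the number k of conjugacy classes of the commutator subgroup of the isometry group of the quadratic form x₀² + Σ xᵢyᵢ on F^{2n+1} satisfies q^n/2 ≤ k ≤ 7.3·q^n. -/
theorem result {F : Type*} [Field F] [Fintype F] (hodd : Odd (Fintype.card F)) (n : ℕ) (hn : 2 ≤ n) :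
    Fintype.card F ^ n ≤ 2 * Nat.card (ConjClasses ↥(Cfsg.Omega F (Cfsg.quadFormOdd n F))) ∧
      10 * Nat.card (ConjClasses ↥(Cfsg.Omega F (Cfsg.quadFormOdd n F))) ≤ 73 * Fintype.card F ^ n := by
  have h2 : (2 : F) ≠ 0 := by
    intro h
    have hchar : ringChar F = 2 := by
      have hdvd : ringChar F ∣ 2 := (ringChar.spec F 2).1 (by exact_mod_cast h)
      have hne : ringChar F ≠ 1 := CharP.ringChar_ne_one
      rcases (Nat.dvd_prime Nat.prime_two).1 hdvd with h1 | h1
      · exact absurd h1 hne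
      · exact h1
    have heven : Fintype.card F % 2 = 0 := FiniteField.even_card_of_char_two hchar
    rcases hodd with ⟨k, hk⟩
    omega
  refine ⟨Cfsg.Agent.S2560P.LOW.lower_odd hodd n (by omega), ?_⟩
  obtain ⟨Q, B, hQ, hQB⟩ := Cfsg.Agent.S2560P.POLARODD.exists_polar h2 n
  have e : Unit ⊕ (Fin n ⊕ Fin n) ≃ Fin (2 * n + 1) :=
    Fintype.equivFinOfCardEq (by
      rw [Fintype.card_sum, Fintype.card_sum, Fintype.card_fin, Fintype.card_unit]; omega)
  have key := Cfsg.Agent.S2560P.FINAL.upper hodd h2 n (by omega) Q B hQB e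
  rw [hQ] at key
  exact key

end Cfsg.Agent.S2560
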