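import Mathlib
import Cfsg.Statements.S2564
import Cfsg.Agent.S2617
import Cfsg.Agent.Helper13.ArfSum

set_option autoImplicit false
open Cfsg

namespace Cfsg.Agent.S2564

open Cfsg.Agent.S2617 Cfsg.Agent.Helper13

/-- the polar form of the plus form, as `QuadraticMap.polar` of a genuine quadratic form -/
theorem polar_eq (m : ℕ) (u v : Fin m ⊕ Fin m → ZMod 2) :
    Cfsg.quadFormPlus m (ZMod 2) (u + v) - Cfsg.quadFormPlus m (ZMod 2) u
      - Cfsg.quadFormPlus m (ZMod 2) v = QuadraticMap.polar (Qp m (ZMod 2)) u v := by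
  rw [Qp_coe]; rfl

/-- the orthogonal transvection in direction `w` -/
noncomputable def tau (m : ℕ) (w : Fin m ⊕ Fin m → ZMod 2) :
    (Fin m ⊕ Fin m → ZMod 2) →ₗ[ZMod 2] (Fin m ⊕ Fin m → ZMod 2) :=
  LinearMap.id + ((QuadraticMap.polarBilin (Qp m (ZMod 2))).flip w).smulRight w

theorem tau_apply (m : ℕ) (w v : Fin m ⊕ Fin m → ZMod 2) :
    tau m w v = v + (QuadraticMap.polar (Qp m (ZMod 2)) v w) • w := by
  simp [tau]

theorem polar_self_zero (m : ℕ) (w : Fin m ⊕ Fin m → ZMod 2) :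
    QuadraticMap.polar (Qp m (ZMod 2)) w w = 0 := by
  rw [QuadraticMap.polar_self]
  have : (2 : ZMod 2) = 0 := by decide
  simp [this]

theorem tau_invol (m : ℕ) (w : Fin m ⊕ Fin m → ZMod 2) : Function.Involutive (tau m w) := by
  intro v
  rw [tau_apply, tau_apply, QuadraticMap.polar_add_left, QuadraticMap.polar_smul_left,
    polar_self_zero, smul_zero, add_zero, add_assoc, ← add_smul, zmod2_add_self, zero_smul,
    add_zero]

theorem result (m : ℕ) (hm : 1 ≤ m) (q : (Fin m ⊕ Fin m → ZMod 2) → ZMod 2) (hq : (∀ u v : (Fin m ⊕ Fin m → ZMod 2), q (u + v) = q u + q v + (Cfsg.quadFormPlus m (ZMod 2) (u + v) - Cfsg.quadFormPlus m (ZMod 2) u - Cfsg.quadFormPlus m (ZMod 2) v))) (w : (Fin m ⊕ Fin m → ZMod 2)) :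
    (∀ u v : (Fin m ⊕ Fin m → ZMod 2), (q (u + v) + (Cfsg.quadFormPlus m (ZMod 2) (u + v + w) - Cfsg.quadFormPlus m (ZMod 2) (u + v) - Cfsg.quadFormPlus m (ZMod 2) w)) =
        (q u + (Cfsg.quadFormPlus m (ZMod 2) (u + w) - Cfsg.quadFormPlus m (ZMod 2) u - Cfsg.quadFormPlus m (ZMod 2) w)) + (q v + (Cfsg.quadFormPlus m (ZMod 2) (v + w) - Cfsg.quadFormPlus m (ZMod 2) v - Cfsg.quadFormPlus m (ZMod 2) w)) +
        (Cfsg.quadFormPlus m (ZMod 2) (u + v) - Cfsg.quadFormPlus m (ZMod 2) u - Cfsg.quadFormPlus m (ZMod 2) v)) ∧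
    ((∃ g : (Fin m ⊕ Fin m → ZMod 2) ≃ₗ[ZMod 2] (Fin m ⊕ Fin m → ZMod 2), ∀ v, q v + (Cfsg.quadFormPlus m (ZMod 2) (v + w) - Cfsg.quadFormPlus m (ZMod 2) v - Cfsg.quadFormPlus m (ZMod 2) w) = q (g v)) ↔ q w = 0) := by
  classical
  simp only [polar_eq] at hq ⊢
  set Q := Qp m (ZMod 2) with hQdef
  constructor
  · intro u v
    rw [hq, QuadraticMap.polar_add_left]
    ring
  constructor
  · rintro ⟨g, hg⟩
    by_contra hqw
    have hqw1 : q w = 1 := (zmod2_cases (q w)).resolve_left hqw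
    have hnd := Qp_nondeg m (ZMod 2)
    have hS := arf_sum_ne_zero (fun u v => QuadraticMap.polar Q u v) q hq
      (fun u u' t => QuadraticMap.polar_add_left Q u u' t)
      (fun u => by simp)
      (fun t ht => by
        by_contra hcon
        push Not at hcon
        exact ht (hnd.2 t hcon))
    apply hS
    have h1 : ∑ v, chi2 (q (g v)) = ∑ v, chi2 (q v) :=
      Fintype.sum_equiv g.toEquiv (fun v => chi2 (q (g v))) (fun v => chi2 (q v)) (fun v => rfl)
    have h2 : ∑ v, chi2 (q (g v)) = - ∑ v, chi2 (q (v + w)) := by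
      rw [← Finset.sum_neg_distrib]
      apply Finset.sum_congr rfl
      intro v _
      rw [← hg, ← chi2_add_one]
      congr 1
      rw [hq, hqw1]
      have h20 : (2 : ZMod 2) = 0 := by decide
      linear_combination (-1 : ZMod 2) * h20
    have h3 : ∑ v, chi2 (q (v + w)) = ∑ v, chi2 (q v) :=
      Fintype.sum_equiv (Equiv.addRight w) (fun v => chi2 (q (v + w))) (fun v => chi2 (q v))
        (fun v => rfl)
    rw [h3] at h2
    linarith
  · intro hqw
    refine ⟨LinearEquiv.ofInvolutive (tau m w) (tau_invol m w), ?_⟩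
    intro v
    rw [LinearEquiv.coe_ofInvolutive, tau_apply]
    rcases zmod2_cases (QuadraticMap.polar Q v w) with h0 | h1
    · rw [h0]; simp
    · rw [h1, one_smul, hq, hqw, h1]; ring

end Cfsg.Agent.S2564
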