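import Mathlib
import Cfsg.Statements.S2561
import Cfsg.Agent.S2564
import Cfsg.Agent.S2616
import Cfsg.Agent.Helper13.StdForms
import Cfsg.Agent.Helper13.F2Plus

set_option autoImplicit false
open Cfsg

namespace Cfsg.Agent.S2561

open Module Cfsg.Agent.S2617 Cfsg.Agent.S2562 Cfsg.Agent.Helper13

local notation "P" m => Cfsg.quadFormPlus m (ZMod 2)
local notation "V" m => (Fin m ⊕ Fin m → ZMod 2)
local notation "Vm" m => ((Fin (m - 1) ⊕ Fin (m - 1)) ⊕ Fin 2 → ZMod 2)

/-- `q` polarizes to the polar form of the plus form -/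
def Pol (m : ℕ) (q : (V m) → ZMod 2) : Prop :=
  ∀ u v : (V m), q (u + v) = q u + q v + ((P m) (u + v) - (P m) u - (P m) v)

def Plus (m : ℕ) (q : (V m) → ZMod 2) : Prop :=
  ∃ g : (V m) ≃ₗ[ZMod 2] (V m), ∀ v, q v = (P m) (g v)

def Minus (m : ℕ) (q : (V m) → ZMod 2) : Prop :=
  ∃ g : (V m) ≃ₗ[ZMod 2] (Vm m), ∀ v, q v = Cfsg.quadFormMinus (m - 1) (ZMod 2) 1 1 (g v)

/-- the translate of the plus form by `w` -/
def qw (m : ℕ) (w : V m) : (V m) → ZMod 2 :=
  fun v => (P m) v + ((P m) (v + w) - (P m) v - (P m) w)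

theorem qw_polar (m : ℕ) (w v : V m) :
    qw m w v = (P m) v + QuadraticMap.polar (Qp m (ZMod 2)) v w := by
  rw [qw, Cfsg.Agent.S2564.polar_eq]

theorem P_pol (m : ℕ) : Pol m (P m) := by
  intro u v; ring

theorem qw_pol (m : ℕ) (w : V m) : Pol m (qw m w) := by
  intro u v
  rw [qw_polar, qw_polar, qw_polar, QuadraticMap.polar_add_left]
  ring

theorem qw_inj (m : ℕ) : Function.Injective (qw m) := by
  intro w w' h
  have hnd := Qp_nondeg m (ZMod 2)
  have h1 : ∀ v, QuadraticMap.polar (Qp m (ZMod 2)) v (w - w') = 0 := by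
    intro v
    have := congrFun h v
    rw [qw_polar, qw_polar] at this
    rw [QuadraticMap.polar_sub_right, add_left_cancel this, sub_self]
  exact sub_eq_zero.mp (hnd.2 _ h1)

theorem qw_surj (m : ℕ) (q : (V m) → ZMod 2) (hq : Pol m q) : ∃ w, qw m w = q := by
  have hnd := Qp_nondeg m (ZMod 2)
  set l : (V m) →+ ZMod 2 :=
    { toFun := fun v => q v - (P m) v
      map_zero' := by
        have h := hq 0 0
        have hP0 : (P m) 0 = 0 := by simp [Cfsg.quadFormPlus]
        rw [add_zero, hP0, sub_zero, sub_zero, add_zero] at h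
        have h0 : q 0 = 0 := by
          have h2 : q 0 + 0 = q 0 + q 0 := by rw [add_zero]; exact h
          exact (add_left_cancel h2).symm
        show q 0 - (P m) 0 = 0
        rw [h0, hP0, sub_zero]
      map_add' := by
        intro u v
        show q (u + v) - (P m) (u + v) = q u - (P m) u + (q v - (P m) v)
        rw [hq u v]; ring } with hl
  set L : Module.Dual (ZMod 2) (V m) := AddMonoidHom.toZModLinearMap 2 l with hL
  set w : V m := (LinearMap.BilinForm.toDual _ hnd).symm L with hw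
  have hwv : ∀ v, QuadraticMap.polar (Qp m (ZMod 2)) v w = q v - (P m) v := by
    intro v
    rw [QuadraticMap.polar_comm]
    have := LinearMap.BilinForm.apply_toDual_symm_apply (B := QuadraticMap.polarBilin (Qp m (ZMod 2)))
      (hB := hnd) L v
    rw [← hw] at this
    rw [QuadraticMap.polarBilin_apply_apply] at this
    rw [this]
    rfl
  refine ⟨w, ?_⟩
  funext v
  rw [qw_polar, hwv]; ring

/-- the translate `qw w` has plus type iff `P w = 0` -/
theorem plus_qw_iff (m : ℕ) (hm : 1 ≤ m) (w : V m) : Plus m (qw m w) ↔ (P m) w = 0 :=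
  (Cfsg.Agent.S2564.result m hm (P m) (P_pol m) w).2

/-- the quadratic form with underlying function `qw w` -/
noncomputable def Qw (m : ℕ) (w : V m) : QuadraticForm (ZMod 2) (V m) :=
  Qp m (ZMod 2) + QuadraticMap.linMulLin ((QuadraticMap.polarBilin (Qp m (ZMod 2))).flip w)
    ((QuadraticMap.polarBilin (Qp m (ZMod 2))).flip w)

theorem zmod2_mul_self : ∀ x : ZMod 2, x * x = x := by decide

theorem Qw_apply (m : ℕ) (w v : V m) : Qw m w v = qw m w v := by
  rw [qw_polar, Qw, QuadraticMap.add_apply, QuadraticMap.linMulLin_apply, zmod2_mul_self,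
    Qp_apply]
  rfl

theorem Qw_polar (m : ℕ) (w u v : V m) :
    QuadraticMap.polar (Qw m w) u v = QuadraticMap.polar (Qp m (ZMod 2)) u v := by
  have := qw_pol m w u v
  rw [Cfsg.Agent.S2564.polar_eq] at this
  rw [QuadraticMap.polar, Qw_apply, Qw_apply, Qw_apply, this]
  ring

theorem Qw_nondeg (m : ℕ) (w : V m) : (QuadraticMap.polarBilin (Qw m w)).Nondegenerate := by
  have hnd := Qp_nondeg m (ZMod 2)
  have : QuadraticMap.polarBilin (Qw m w) = QuadraticMap.polarBilin (Qp m (ZMod 2)) := by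
    apply LinearMap.ext; intro u
    apply LinearMap.ext; intro v
    rw [QuadraticMap.polarBilin_apply_apply, QuadraticMap.polarBilin_apply_apply, Qw_polar]
  rw [this]; exact hnd

theorem two_eq_zero_zmod2 : (2 : ZMod 2) = 0 := by decide

theorem plus_or_minus (m : ℕ) (hm : 1 ≤ m) (w : V m) : Plus m (qw m w) ∨ Minus m (qw m w) := by
  classical
  have hV : finrank (ZMod 2) (V m) = 2 * m := by
    rw [Module.finrank_fintype_fun_eq_card]
    simp [two_mul]
  rcases Cfsg.Agent.S2616.result hm hV (Qw m w) (Qw_nondeg m w) with ⟨b, h1, h2, h3⟩ |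
    ⟨b, ζ, hζ, h1, h2, h3, h4, hx, hxy, hy⟩
  · left
    refine ⟨b.equivFun, ?_⟩
    intro v
    rw [← Qw_apply, ← Qp_apply]
    apply eq_comp_equivFun b (Qw m w) (Qp m (ZMod 2))
    · intro k
      rw [Qp_single]
      rcases k with k | k
      · exact (h1 k).1
      · exact (h1 k).2
    · intro k l
      rw [Qp_polar_single]
      rcases k with k | k <;> rcases l with l | l
      · simpa using (h3 k l).1
      · rw [h2 k l]; simp [Matrix.one_apply]
      · rw [QuadraticMap.polar_comm, h2 l k]; simp [Matrix.one_apply, eq_comm]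
      · simpa using (h3 k l).2
  · right
    have hζ1 : ζ = 1 := by
      rcases zmod2_cases ζ with h0 | h1
      · exfalso
        have := hζ 0
        rw [h0] at this
        simp at this
      · exact h1
    subst hζ1
    refine ⟨b.equivFun, ?_⟩
    intro v
    rw [← Qw_apply, ← Qm_apply]
    apply eq_comp_equivFun b (Qw m w) (Qm (m - 1) (ZMod 2) 1 1)
    · intro k
      rw [Qm_single]
      rcases k with (k | k) | k
      · exact (h1 k).1
      · exact (h1 k).2
      · fin_cases k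
        · exact hx
        · exact hy
    · intro k l
      rw [Qm_polar_single]
      have hbb : ∀ k : Fin 2, QuadraticMap.polar (Qw m w) (b (Sum.inr k)) (b (Sum.inr k)) = 0 := by
        intro k
        rw [QuadraticMap.polar_self]
        simp [two_eq_zero_zmod2]
      rcases k with (k | k) | k <;> rcases l with (l | l) | l
      · simpa using (h3 k l).1
      · rw [h2 k l]; simp [Matrix.one_apply]
      · simpa using (h4 k l).1
      · rw [QuadraticMap.polar_comm, h2 l k]; simp [Matrix.one_apply, eq_comm]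
      · simpa using (h3 k l).2
      · simpa using (h4 k l).2
      · rw [QuadraticMap.polar_comm]; simpa using (h4 l k).1
      · rw [QuadraticMap.polar_comm]; simpa using (h4 l k).2
      · fin_cases k <;> fin_cases l
        · simpa [two_eq_zero_zmod2] using hbb 0
        · simpa using hxy
        · rw [QuadraticMap.polar_comm]; simpa using hxy
        · simpa [two_eq_zero_zmod2] using hbb 1

theorem not_plus_and_minus (m : ℕ) (hm : 1 ≤ m) (q : (V m) → ZMod 2) (h1 : Plus m q)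
    (h2 : Minus m q) : False := by
  obtain ⟨g₁, hg₁⟩ := h1
  obtain ⟨g₂, hg₂⟩ := h2
  have hζ : ∀ t : ZMod 2, t ^ 2 + t + 1 ≠ 0 := by decide
  apply Cfsg.Agent.S2617.result hm (1 : ZMod 2) hζ (g₁.symm.trans g₂)
  intro v
  rw [LinearEquiv.trans_apply, ← hg₂, hg₁, LinearEquiv.apply_symm_apply]

theorem minus_qw_iff (m : ℕ) (hm : 1 ≤ m) (w : V m) : Minus m (qw m w) ↔ ¬ (P m) w = 0 := by
  constructor
  · intro hmin h0
    exact not_plus_and_minus m hm _ ((plus_qw_iff m hm w).mpr h0) hmin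
  · intro h0
    rcases plus_or_minus m hm w with h | h
    · exact absurd ((plus_qw_iff m hm w).mp h) h0
    · exact h

theorem card_V (m : ℕ) : Nat.card (V m) = 2 ^ (2 * m) := by
  rw [Nat.card_eq_fintype_card]
  simp [ZMod.card, two_mul]

theorem result (m : ℕ) (hm : 1 ≤ m) :
    Nat.card {q : (Fin m ⊕ Fin m → ZMod 2) → ZMod 2 // (∀ u v : (Fin m ⊕ Fin m → ZMod 2), q (u + v) = q u + q v + (Cfsg.quadFormPlus m (ZMod 2) (u + v) - Cfsg.quadFormPlus m (ZMod 2) u - Cfsg.quadFormPlus m (ZMod 2) v))} = 2 ^ (2 * m) ∧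
    (∀ q : (Fin m ⊕ Fin m → ZMod 2) → ZMod 2, (∀ u v : (Fin m ⊕ Fin m → ZMod 2), q (u + v) = q u + q v + (Cfsg.quadFormPlus m (ZMod 2) (u + v) - Cfsg.quadFormPlus m (ZMod 2) u - Cfsg.quadFormPlus m (ZMod 2) v)) →
      (∃ g : (Fin m ⊕ Fin m → ZMod 2) ≃ₗ[ZMod 2] (Fin m ⊕ Fin m → ZMod 2), ∀ v, q v = Cfsg.quadFormPlus m (ZMod 2) (g v)) ∨
      (∃ g : (Fin m ⊕ Fin m → ZMod 2) ≃ₗ[ZMod 2] ((Fin (m - 1) ⊕ Fin (m - 1)) ⊕ Fin 2 → ZMod 2), ∀ v, q v = Cfsg.quadFormMinus (m - 1) (ZMod 2) 1 1 (g v))) ∧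
    Nat.card {q : (Fin m ⊕ Fin m → ZMod 2) → ZMod 2 // (∀ u v : (Fin m ⊕ Fin m → ZMod 2), q (u + v) = q u + q v + (Cfsg.quadFormPlus m (ZMod 2) (u + v) - Cfsg.quadFormPlus m (ZMod 2) u - Cfsg.quadFormPlus m (ZMod 2) v)) ∧ ∃ g : (Fin m ⊕ Fin m → ZMod 2) ≃ₗ[ZMod 2] (Fin m ⊕ Fin m → ZMod 2), ∀ v, q v = Cfsg.quadFormPlus m (ZMod 2) (g v)} = 2 ^ (2 * m - 1) + 2 ^ (m - 1) ∧
    Nat.card {q : (Fin m ⊕ Fin m → ZMod 2) → ZMod 2 // (∀ u v : (Fin m ⊕ Fin m → ZMod 2), q (u + v) = q u + q v + (Cfsg.quadFormPlus m (ZMod 2) (u + v) - Cfsg.quadFormPlus m (ZMod 2) u - Cfsg.quadFormPlus m (ZMod 2) v)) ∧ ∃ g : (Fin m ⊕ Fin m → ZMod 2) ≃ₗ[ZMod 2] ((Fin (m - 1) ⊕ Fin (m - 1)) ⊕ Fin 2 → ZMod 2), ∀ v, q v = Cfsg.quadFormMinus (m - 1) (ZMod 2) 1 1 (g v)} = 2 ^ (2 * m - 1) - 2 ^ (m - 1) := by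
  classical
  refine ⟨?_, ?_, ?_, ?_⟩
  · change Nat.card {q : (V m) → ZMod 2 // Pol m q} = 2 ^ (2 * m)
    rw [← card_V m]
    symm
    apply Nat.card_eq_of_bijective (fun w : V m => (⟨qw m w, qw_pol m w⟩ : {q // Pol m q}))
    constructor
    · intro w w' h
      exact qw_inj m (congrArg Subtype.val h)
    · rintro ⟨q, hq⟩
      obtain ⟨w, hw⟩ := qw_surj m q hq
      exact ⟨w, Subtype.ext hw⟩
  · intro q hq
    obtain ⟨w, rfl⟩ := qw_surj m q hq
    exact plus_or_minus m hm w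
  · change Nat.card {q : (V m) → ZMod 2 // Pol m q ∧ Plus m q} = _
    rw [← card_zeros_plus m hm]
    symm
    apply Nat.card_eq_of_bijective (fun w : {w : V m // (P m) w = 0} =>
      (⟨qw m w.1, qw_pol m w.1, (plus_qw_iff m hm w.1).mpr w.2⟩ : {q // Pol m q ∧ Plus m q}))
    constructor
    · intro w w' h
      exact Subtype.ext (qw_inj m (congrArg Subtype.val h))
    · rintro ⟨q, hq, hplus⟩
      obtain ⟨w, rfl⟩ := qw_surj m q hq
      exact ⟨⟨w, (plus_qw_iff m hm w).mp hplus⟩, rfl⟩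
  · change Nat.card {q : (V m) → ZMod 2 // Pol m q ∧ Minus m q} = _
    have hcard : Nat.card {w : V m // ¬ (P m) w = 0} = 2 ^ (2 * m - 1) - 2 ^ (m - 1) := by
      have h1 := card_zeros_plus m hm
      have h2 := card_V m
      rw [Nat.card_eq_fintype_card] at h1 h2 ⊢
      rw [Fintype.card_subtype_compl, h1, h2]
      obtain ⟨k, rfl⟩ : ∃ k, m = k + 1 := ⟨m - 1, by omega⟩
      have e1 : 2 * (k + 1) - 1 = 2 * k + 1 := by omega
      have e2 : 2 * (k + 1) = (2 * k + 1) + 1 := by omega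
      rw [e1, Nat.add_sub_cancel, e2, pow_succ]
      omega
    rw [← hcard]
    symm
    apply Nat.card_eq_of_bijective (fun w : {w : V m // ¬ (P m) w = 0} =>
      (⟨qw m w.1, qw_pol m w.1, (minus_qw_iff m hm w.1).mpr w.2⟩ : {q // Pol m q ∧ Minus m q}))
    constructor
    · intro w w' h
      exact Subtype.ext (qw_inj m (congrArg Subtype.val h))
    · rintro ⟨q, hq, hminus⟩
      obtain ⟨w, rfl⟩ := qw_surj m q hq
      exact ⟨⟨w, (minus_qw_iff m hm w).mp hminus⟩, rfl⟩

end Cfsg.Agent.S2561
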