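import Mathlib
import Cfsg.Statements.S2563
import Cfsg.Agent.Helper28.SymEmb
import Cfsg.Agent.Helper13.SymOrth
import Cfsg.Agent.Helper13.F2Type
import Cfsg.Agent.Helper13.OrthEmbed

set_option autoImplicit false
open Cfsg

namespace Cfsg.Agent.S2563

open Module Matrix Cfsg.Agent.Helper28.SymEmb Cfsg.Agent.Helper13

variable (m : ℕ)

/-- the invariant quadratic form on the quotient model -/
noncomputable def Qw : QuadraticForm K (U m) := (SymOrth.QQ (Om m)).comp (iota m)

theorem Qw_apply (u : U m) : Qw m u = SymOrth.QQ (Om m) (iota m u) := rfl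

theorem Qw_eq (u : U m) : Qw m u = SymOrth.QQ (Fin (2 * m)) u + ∑ i, u i := by
  rw [Qw_apply, SymOrth.QQ_option, SymOrth.QQ_option]
  simp only [iota_n, iota_sn, iota_ss, zero_mul, add_zero, mul_self_K]

theorem Qw_polar (u u' : U m) : QuadraticMap.polar (Qw m) u u' = B' m u u' := by
  rw [QuadraticMap.polar, Qw_apply, Qw_apply, Qw_apply, map_add, SymOrth.QQ_add,
    SymOrth.bet_apply, B'_apply]
  have h1 := ev_iota m u
  unfold Ev at h1
  rw [h1]
  ring

theorem Qw_nondeg : (QuadraticMap.polarBilin (Qw m)).Nondegenerate := by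
  constructor
  · intro u hu
    apply B'_nondeg m u
    intro u'
    rw [← Qw_polar, ← QuadraticMap.polarBilin_apply_apply]
    exact hu u'
  · intro u hu
    apply B'_nondeg m u
    intro u'
    rw [← Qw_polar, QuadraticMap.polar_comm, ← QuadraticMap.polarBilin_apply_apply]
    exact hu u'

theorem QQ_P (σ : Equiv.Perm (Om m)) (x : V m) :
    SymOrth.QQ (Om m) (P m σ x) = SymOrth.QQ (Om m) x :=
  (SymOrth.QQ_equiv σ.symm x).symm

theorem Qw_T (hc : SymOrth.cc (Om m) = 0) (σ : Equiv.Perm (Om m)) (u : U m) :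
    Qw m (T m σ u) = Qw m u := by
  rw [Qw_apply, T_apply, iota_rho m _ (ev_P m σ _ (ev_iota m u)), SymOrth.QQ_add, QQ_P]
  set c : K := P m σ (iota m u) none
  have h1 : (fun _ : Om m => c) = c • (fun _ : Om m => (1 : K)) := by
    funext o
    simp
  have h2 : SymOrth.QQ (Om m) (fun _ : Om m => c) = 0 := by
    rw [h1, SymOrth.QQ_smul]
    have : SymOrth.QQ (Om m) (fun _ : Om m => (1 : K)) = 0 := hc
    rw [this, mul_zero]
  have h3 : SymOrth.bet (Om m) (P m σ (iota m u)) (fun _ : Om m => c) = 0 := by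
    rw [SymOrth.bet_apply, dotProduct, ← Finset.sum_mul]
    have := ev_P m σ _ (ev_iota m u)
    unfold Ev at this
    rw [this]
    ring
  rw [h2, h3, add_zero, add_zero, Qw_apply]

theorem sum_Qw : ∑ u : U m, chi2 (Qw m u) = SymOrth.B (Fin (2 * m)) := by
  unfold SymOrth.B
  apply Finset.sum_congr rfl
  intro u _
  rw [Qw_eq]

theorem B_val (n k : ℕ) (hn : n = 4 * k + 2) : SymOrth.B (Fin n) = -2 * (-4) ^ k := by
  subst hn
  exact (SymOrth.AB_val k).2

theorem cc_val' (n k : ℕ) (hn : n = 4 * k + 2) : SymOrth.cc (Fin n) = 1 := by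
  subst hn
  exact SymOrth.cc_val k

theorem cc_Om (k : ℕ) (hm : m = 2 * k + 1) : SymOrth.cc (Om m) = 0 := by
  rw [SymOrth.cc_option, SymOrth.cc_option, cc_val' (2 * m) k (by omega), Fintype.card_option,
    Fintype.card_fin]
  push_cast
  have h2 : (2 : K) = 0 := by decide
  linear_combination (2 * (m : K) + 1) * h2

/-- the action as a monoid homomorphism -/
noncomputable def Tm : Equiv.Perm (Om m) →* Module.End K (U m) where
  toFun := T m
  map_one' := T_one m
  map_mul' σ τ := T_mul m σ τ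

theorem Tm_injective (hm : 2 ≤ m) : Function.Injective (Tm m) := by
  rw [injective_iff_map_eq_one]
  intro σ h
  exact eq_one_of_T m hm σ h

theorem card_Om : Fintype.card (Fin (2 * m + 2)) = Fintype.card (Om m) := by
  rw [Fintype.card_option, Fintype.card_option, Fintype.card_fin, Fintype.card_fin]

/-- the action of the symmetric group of degree `2m+2` -/
noncomputable def rhoN : Equiv.Perm (Fin (2 * m + 2)) →* Module.End K (U m) :=
  (Tm m).comp ((Fintype.equivOfCardEq (card_Om m)).permCongrHom).toMonoidHom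

theorem rhoN_injective (hm : 2 ≤ m) : Function.Injective (rhoN m) := by
  unfold rhoN
  rw [MonoidHom.coe_comp]
  exact (Tm_injective m hm).comp (MulEquiv.injective _)

theorem rhoN_Qw (hc : SymOrth.cc (Om m) = 0) (σ : Equiv.Perm (Fin (2 * m + 2))) (u : U m) :
    Qw m (rhoN m σ u) = Qw m u :=
  Qw_T m hc _ u

theorem finrank_U : finrank K (U m) = 2 * m := by
  simp

theorem main (k : ℕ) (hk : 1 ≤ k) :
    (Odd k → ∃ φ : Equiv.Perm (Fin (2 * (2 * k + 1) + 2)) →*
      ↥(Cfsg.isometryGroup (ZMod 2) (Cfsg.quadFormPlus (2 * k + 1) (ZMod 2))),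
        Function.Injective φ) ∧
    (Even k → ∃ φ : Equiv.Perm (Fin (2 * (2 * k + 1) + 2)) →*
      ↥(Cfsg.isometryGroup (ZMod 2) (Cfsg.quadFormMinus (2 * k + 1 - 1) (ZMod 2) 1 1)),
        Function.Injective φ) := by
  classical
  have hc := cc_Om (2 * k + 1) k rfl
  have hsum : ∑ u : U (2 * k + 1), chi2 (Qw (2 * k + 1) u) = -2 * (-4) ^ k := by
    rw [sum_Qw, B_val _ k (by ring)]
  have htype := type_of_sum (m := 2 * k + 1) (by omega) (finrank_U _) (Qw (2 * k + 1))
    (Qw_nondeg _)
  constructor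
  · intro hodd
    have hneg : ((-4 : ℤ)) ^ k < 0 := Odd.pow_neg hodd (by norm_num)
    obtain ⟨g, hg⟩ := htype.1 (by rw [hsum]; linarith)
    exact exists_embedding_of_isometry (rhoN (2 * k + 1)) (rhoN_injective _ (by omega))
      (Qw (2 * k + 1)) (rhoN_Qw _ hc) _ g hg
  · intro heven
    have hpos : (0 : ℤ) < (-4) ^ k := Even.pow_pos heven (by norm_num)
    obtain ⟨g, hg⟩ := htype.2 (by rw [hsum]; linarith)
    exact exists_embedding_of_isometry (rhoN (2 * k + 1)) (rhoN_injective _ (by omega))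
      (Qw (2 * k + 1)) (rhoN_Qw _ hc) _ g hg

/-- For k ≥ 1 the symmetric group of degree 4k + 4 embeds in a full orthogonal group in dimension 4k + 2 over the field of two elements: in the isometry group of the plus-type form Σ xᵢyᵢ when k is odd, and in that of the minus-type form Σ xᵢyᵢ + (z₁² + z₁z₂ + z₂²) when k is even (through its action on even partitions of a (4k+4)-set, with the form 'half the size of a part, modulo 2'). -/
theorem result (k : ℕ) (hk : 1 ≤ k) :
    (Odd k → ∃ φ : Equiv.Perm (Fin (4 * k + 4)) →* ↥(Cfsg.isometryGroup (ZMod 2) (Cfsg.quadFormPlus (2 * k + 1) (ZMod 2))), Function.Injective φ) ∧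
    (Even k → ∃ φ : Equiv.Perm (Fin (4 * k + 4)) →* ↥(Cfsg.isometryGroup (ZMod 2) (Cfsg.quadFormMinus (2 * k) (ZMod 2) 1 1)), Function.Injective φ) := by
  have h := main k hk
  have e : 2 * (2 * k + 1) + 2 = 4 * k + 4 := by ring
  rw [e] at h
  exact h

end Cfsg.Agent.S2563
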