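import Mathlib
import Cfsg.Statements.S2565
import Cfsg.Agent.S2563
import Cfsg.Agent.S0287

set_option autoImplicit false
open Cfsg

namespace Cfsg.Agent.S2565

open Equiv

abbrev O6 := ↥(Cfsg.isometryGroup (ZMod 2) (Cfsg.quadFormPlus 3 (ZMod 2)))

theorem card_O6 : Nat.card O6 = 40320 := by
  have := Cfsg.Agent.S0287.result (F := ZMod 2) (q := 2) (ZMod.card 2) 3 (by norm_num)
  rw [this]
  norm_num [Finset.prod_range_succ]

theorem exists_iso : Nonempty (Perm (Fin 8) ≃* O6) := by
  obtain ⟨φ, hφ⟩ : ∃ φ : Perm (Fin 8) →* O6, Function.Injective φ :=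
    (Cfsg.Agent.S2563.result 1 le_rfl).1 (by decide)
  have : Finite O6 := Nat.finite_of_card_ne_zero (by rw [card_O6]; norm_num)
  have hbij : Function.Bijective φ := by
    rw [Nat.bijective_iff_injective_and_card]
    refine ⟨hφ, ?_⟩
    rw [card_O6, Nat.card_eq_fintype_card, Fintype.card_perm, Fintype.card_fin]
    rfl
  exact ⟨MulEquiv.ofBijective φ hbij⟩

/-- The commutator subgroup of the full orthogonal group of the plus-type form Σ xᵢyᵢ in dimension 6 over the field of two elements (the group Ω⁺₆(2), of index 2) is isomorphic to the alternating group of degree 8. -/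
theorem result :
    (Cfsg.Omega (ZMod 2) (Cfsg.quadFormPlus 3 (ZMod 2))).index = 2 ∧
    Nonempty (↥(Cfsg.Omega (ZMod 2) (Cfsg.quadFormPlus 3 (ZMod 2))) ≃* alternatingGroup (Fin 8)) := by
  obtain ⟨e⟩ := exists_iso
  have h5 : 5 ≤ Nat.card (Fin 8) := by simp
  have hmap : (alternatingGroup (Fin 8)).map (e : Perm (Fin 8) →* O6) =
      Cfsg.Omega (ZMod 2) (Cfsg.quadFormPlus 3 (ZMod 2)) := by
    rw [← alternatingGroup.commutator_perm_eq h5]
    show Subgroup.map (e : Perm (Fin 8) →* O6) ⁅(⊤ : Subgroup (Perm (Fin 8))), ⊤⁆ = ⁅⊤, ⊤⁆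
    rw [Subgroup.map_commutator, Subgroup.map_top_of_surjective _ e.surjective]
  constructor
  · rw [← hmap, Subgroup.index_map_equiv]
    exact alternatingGroup.index_eq_two
  · rw [← hmap]
    exact ⟨(e.subgroupMap (alternatingGroup (Fin 8))).symm⟩

end Cfsg.Agent.S2565
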