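import Mathlib
import Cfsg.Statements.S2567

set_option autoImplicit false
open Cfsg

namespace Cfsg.Agent.S2567

theorem center_pow {F : Type*} [Field F] [Fintype F] {n : ℕ} (z : GL (Fin n) F)
    (hz : z ∈ Subgroup.center (GL (Fin n) F)) : z ^ (Fintype.card F - 1) = 1 := by
  classical
  rw [Matrix.GeneralLinearGroup.center_eq_range_scalar] at hz
  obtain ⟨a, rfl⟩ := hz
  rw [← map_pow]
  have : a ^ (Fintype.card F - 1) = 1 := by
    rw [← Fintype.card_units]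
    exact pow_card_eq_one
  rw [this, map_one]

theorem unique_lift {G : Type*} [Group G] (Z : Subgroup G) [Z.Normal]
    (hcen : ∀ z ∈ Z, ∀ g : G, g * z = z * g) (m : ℕ) (hcpow : ∀ z ∈ Z, z ^ m = 1)
    (r : ℕ) (hr : r.Prime) (hdiv : ¬ r ∣ m) (x : G ⧸ Z) (hx : orderOf x = r) :
    ∃! g : G, (QuotientGroup.mk g : G ⧸ Z) = x ∧ orderOf g = r := by
  -- Bezout
  have hcop : IsCoprime (r : ℤ) (m : ℤ) := by
    rw [Int.isCoprime_iff_gcd_eq_one]
    exact (Nat.Prime.coprime_iff_not_dvd hr).mpr hdiv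
  obtain ⟨a, b, hab⟩ := hcop
  have hroot : ∀ z ∈ Z, z = (z ^ a) ^ r := by
    intro z hz
    have h1 : z ^ (m : ℤ) = 1 := by
      rw [zpow_natCast]; exact hcpow z hz
    calc z = z ^ (1 : ℤ) := (zpow_one z).symm
      _ = z ^ (a * r + b * (m : ℤ)) := by rw [hab]
      _ = (z ^ a) ^ r := by
        rw [zpow_add, zpow_mul, zpow_natCast, mul_comm b, zpow_mul, h1, one_zpow, mul_one]
  have hpow1 : ∀ z ∈ Z, z ^ r = 1 → z = 1 := by
    intro z hz h
    rw [hroot z hz]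
    have : (z ^ a) ^ r = (z ^ r) ^ a := by
      rw [← zpow_natCast, ← zpow_mul, mul_comm, zpow_mul, zpow_natCast]
    rw [this, h, one_zpow]
  obtain ⟨g0, hg0⟩ := QuotientGroup.mk_surjective x
  have hxr : x ^ r = 1 := by rw [← hx]; exact pow_orderOf_eq_one x
  have hz0 : g0 ^ r ∈ Z := by
    rw [← QuotientGroup.eq_one_iff, QuotientGroup.mk_pow, hg0, hxr]
  set w := (g0 ^ r) ^ a with hw
  have hwZ : w ∈ Z := Z.zpow_mem hz0 a
  have hwr : w ^ r = g0 ^ r := (hroot _ hz0).symm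
  have hcomm : Commute g0 w⁻¹ := hcen _ (Z.inv_mem hwZ) g0
  have hw1 : ((w⁻¹ : G) : G ⧸ Z) = 1 := (QuotientGroup.eq_one_iff _).mpr (Z.inv_mem hwZ)
  have hgx : (QuotientGroup.mk (g0 * w⁻¹) : G ⧸ Z) = x := by
    rw [QuotientGroup.mk_mul, hg0, hw1, mul_one]
  have hgr : (g0 * w⁻¹) ^ r = 1 := by
    rw [hcomm.mul_pow, inv_pow, hwr, mul_inv_cancel]
  refine ⟨g0 * w⁻¹, ⟨hgx, ?_⟩, ?_⟩
  · have hdvd : orderOf (g0 * w⁻¹) ∣ r := orderOf_dvd_of_pow_eq_one hgr
    rcases (Nat.dvd_prime hr).mp hdvd with h1 | h1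
    · exfalso
      rw [orderOf_eq_one_iff] at h1
      have : x = 1 := by
        rw [← hgx, h1]; rfl
      rw [this, orderOf_one] at hx
      exact hr.one_lt.ne hx
    · exact h1
  · rintro g' ⟨hg'x, hg'r⟩
    set g := g0 * w⁻¹ with hg
    have hcZ : g⁻¹ * g' ∈ Z := by
      rw [← QuotientGroup.eq_one_iff, QuotientGroup.mk_mul, QuotientGroup.mk_inv, hgx, hg'x, inv_mul_cancel]
    have hcomm2 : Commute g (g⁻¹ * g') := hcen _ hcZ g
    have hg'r' : g' ^ r = 1 := by rw [← hg'r]; exact pow_orderOf_eq_one g'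
    have hcr : (g⁻¹ * g') ^ r = 1 := by
      have h1 : g' = g * (g⁻¹ * g') := by group
      have h2 : g' ^ r = g ^ r * (g⁻¹ * g') ^ r := by
        conv_lhs => rw [h1]
        exact hcomm2.mul_pow r
      rw [hg'r', hgr, one_mul] at h2
      exact h2.symm
    have := hpow1 _ hcZ hcr
    have h3 : g' = g * (g⁻¹ * g') := by group
    rw [h3, this, mul_one]

theorem result {F : Type*} [Field F] [Fintype F] {q n r : ℕ} (hF : Fintype.card F = q) (hr : r.Prime) (hdiv : ¬ r ∣ q - 1) (x : GL (Fin n) F ⧸ Subgroup.center (GL (Fin n) F)) (hx : orderOf x = r) : ∃! g : GL (Fin n) F, (QuotientGroup.mk g : GL (Fin n) F ⧸ Subgroup.center (GL (Fin n) F)) = x ∧ orderOf g = r := by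
  subst hF
  exact unique_lift (Subgroup.center (GL (Fin n) F))
    (fun z hz g => Subgroup.mem_center_iff.mp hz g) (Fintype.card F - 1)
    (fun z hz => center_pow z hz) r hr hdiv x hx

end Cfsg.Agent.S2567
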