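import Mathlib
import Cfsg.Statements.S2569

set_option autoImplicit false
set_option linter.style.haveILetI false
open Cfsg

namespace Cfsg.Agent.S2569

open Matrix Polynomial Module

/-- the centraliser of a semisimple matrix contains elements of every nonzero determinant. -/
theorem exists_commuting_det {F : Type*} [Field F] [Fintype F] {n : ℕ} (hn : 1 ≤ n)
    (A : Matrix (Fin n) (Fin n) F) (N : ℕ) (hN : (N : F) ≠ 0) (hA : A ^ N = 1) (d : F) :
    ∃ C : Matrix (Fin n) (Fin n) F, C * A = A * C ∧ C.det = d := by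
  classical
  let T : Module.End F (Fin n → F) := Matrix.toLin' A
  have hT : T ^ N = 1 := by
    show (Matrix.toLinAlgEquiv' A) ^ N = 1
    rw [← map_pow, hA, map_one]
  have hss : T.IsSemisimple := by
    apply Module.End.isSemisimple_of_squarefree_aeval_eq_zero
      (p := (X ^ N - C (1 : F) : F[X]))
    · exact (separable_X_pow_sub_C (1 : F) hN one_ne_zero).squarefree
    · simp [hT]
  haveI : IsSemisimpleModule F[X] (AEval' T) := hss
  haveI : Nonempty (Fin n) := ⟨⟨0, hn⟩⟩
  haveI : Nontrivial (AEval' T) := (AEval'.of T).symm.toEquiv.nontrivial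
  haveI : Finite (AEval' T) := Finite.of_equiv (Fin n → F) (AEval'.of T).toEquiv
  obtain ⟨U, hU⟩ := IsSemisimpleModule.exists_simple_submodule F[X] (AEval' T)
  obtain ⟨U', hUU'⟩ := exists_isCompl U
  obtain ⟨I, hI, ⟨ψ⟩⟩ := isSimpleModule_iff_quot_maximal.mp hU
  letI : Field (F[X] ⧸ I) := Ideal.Quotient.field I
  haveI : Finite (F[X] ⧸ I) := Finite.of_equiv ↥U ψ.toEquiv
  obtain ⟨e, he⟩ := FiniteField.norm_surjective F (F[X] ⧸ I) d
  let cU : ↥U →ₗ[F[X]] ↥U :=
    ψ.symm.toLinearMap ∘ₗ (LinearMap.mulLeft F[X] e) ∘ₗ ψ.toLinearMap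
  let P : (↥U × ↥U') ≃ₗ[F[X]] AEval' T := Submodule.prodEquivOfIsCompl U U' hUU'
  let c : AEval' T →ₗ[F[X]] AEval' T :=
    P.toLinearMap ∘ₗ (cU.prodMap LinearMap.id) ∘ₗ P.symm.toLinearMap
  let cF : AEval' T →ₗ[F] AEval' T := c.restrictScalars F
  haveI : Module.Finite F (AEval' T) := Module.Finite.equiv (AEval'.of T)
  haveI : Module.Finite F ↥U :=
    Module.Finite.of_injective ((U.subtype).restrictScalars F) U.injective_subtype
  haveI : Module.Finite F ↥U' :=
    Module.Finite.of_injective ((U'.subtype).restrictScalars F) U'.injective_subtype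
  haveI : Module.Free F ↥U := Module.Free.of_divisionRing F ↥U
  haveI : Module.Free F ↥U' := Module.Free.of_divisionRing F ↥U'
  have hdetU : LinearMap.det (M := ↥U) (cU.restrictScalars F) = d := by
    have h1 : cU.restrictScalars F =
        (ψ.symm.restrictScalars F).toLinearMap ∘ₗ (LinearMap.mulLeft F e) ∘ₗ
          ((ψ.symm.restrictScalars F).symm).toLinearMap := by
      apply LinearMap.ext
      intro u
      rfl
    rw [h1, LinearMap.det_conj, ← he, Algebra.norm_apply]
    rfl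
  have hdet : LinearMap.det cF = d := by
    have h1 : cF = (P.restrictScalars F).toLinearMap ∘ₗ
        ((cU.restrictScalars F).prodMap LinearMap.id) ∘ₗ ((P.restrictScalars F).symm).toLinearMap := by
      apply LinearMap.ext
      intro u
      rfl
    have h2 := LinearMap.det_conj (M := ↥U × ↥U') (N := AEval' T) (A := F)
      ((cU.restrictScalars F).prodMap (LinearMap.id : ↥U' →ₗ[F] ↥U')) (P.restrictScalars F)
    have h3 := LinearMap.det_prodMap (M := ↥U) (M' := ↥U') (R := F)
      (cU.restrictScalars F) (LinearMap.id : ↥U' →ₗ[F] ↥U')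
    rw [h1]
    refine h2.trans ?_
    rw [h3, hdetU, LinearMap.det_id, mul_one]
  let cV : (Fin n → F) →ₗ[F] (Fin n → F) :=
    (AEval'.of T).symm.toLinearMap ∘ₗ cF ∘ₗ (AEval'.of T).toLinearMap
  have hdetV : LinearMap.det cV = d := by
    have h1 : cV = (AEval'.of T).symm.toLinearMap ∘ₗ cF ∘ₗ ((AEval'.of T).symm.symm).toLinearMap := rfl
    rw [h1, LinearMap.det_conj, hdet]
  have hcomm : ∀ v, cV (T v) = T (cV v) := by
    intro v
    show (AEval'.of T).symm (c (AEval'.of T (T v))) = T ((AEval'.of T).symm (c (AEval'.of T v)))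
    rw [← AEval'.X_smul_of, map_smul]
    apply (AEval'.of T).injective
    rw [LinearEquiv.apply_symm_apply, ← AEval'.X_smul_of, LinearEquiv.apply_symm_apply]
  refine ⟨LinearMap.toMatrix' cV, ?_, ?_⟩
  · have h1 : cV ∘ₗ T = T ∘ₗ cV := LinearMap.ext hcomm
    have h2 := congrArg LinearMap.toMatrix' h1
    rw [LinearMap.toMatrix'_comp, LinearMap.toMatrix'_comp] at h2
    have h3 : LinearMap.toMatrix' T = A := LinearMap.toMatrix'_toLin' A
    rw [h3] at h2
    exact h2
  · rw [LinearMap.det_toMatrix', hdetV]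

theorem result {F : Type*} [Field F] [Fintype F] {p : ℕ} [Fact p.Prime] [CharP F p] {n : ℕ} (x g : GL (Fin n) F) (hx : (orderOf x).Coprime p) : ∃ h : GL (Fin n) F, (h : Matrix (Fin n) (Fin n) F).det = 1 ∧ h * x * h⁻¹ = g * x * g⁻¹ := by
  classical
  rcases Nat.eq_zero_or_pos n with rfl | hn
  · exact ⟨g, Matrix.det_isEmpty, rfl⟩
  have hp := (Fact.out : p.Prime)
  have hN : ((orderOf x : ℕ) : F) ≠ 0 := by
    rw [Ne, CharP.cast_eq_zero_iff F p]
    intro hdvd
    have := Nat.Coprime.eq_one_of_dvd hx.symm hdvd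
    exact hp.one_lt.ne' this
  have hA : (x : Matrix (Fin n) (Fin n) F) ^ orderOf x = 1 := by
    rw [← Units.val_pow_eq_pow_val, pow_orderOf_eq_one, Units.val_one]
  have hdg : (g : Matrix (Fin n) (Fin n) F).det ≠ 0 :=
    ((Matrix.isUnit_iff_isUnit_det _).mp g.isUnit).ne_zero
  obtain ⟨C, hC, hdet⟩ := exists_commuting_det hn (x : Matrix (Fin n) (Fin n) F) (orderOf x) hN hA
    (g : Matrix (Fin n) (Fin n) F).det
  let c : GL (Fin n) F := Matrix.GeneralLinearGroup.mkOfDetNeZero C (by rw [hdet]; exact hdg)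
  have hcx : c * x = x * c := by
    apply Units.ext
    exact hC
  refine ⟨g * c⁻¹, ?_, ?_⟩
  · have h1 : ((g * c⁻¹ : GL (Fin n) F) : Matrix (Fin n) (Fin n) F) * (c : Matrix (Fin n) (Fin n) F)
        = (g : Matrix (Fin n) (Fin n) F) := by
      rw [← Units.val_mul, inv_mul_cancel_right]
    have h2 := congrArg Matrix.det h1
    rw [Matrix.det_mul] at h2
    have h3 : (c : Matrix (Fin n) (Fin n) F).det = (g : Matrix (Fin n) (Fin n) F).det := hdet
    rw [h3] at h2
    exact mul_right_cancel₀ hdg (h2.trans (one_mul _).symm)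
  · have h1 : c⁻¹ * x * c = x := by
      rw [mul_assoc, ← hcx, ← mul_assoc, inv_mul_cancel, one_mul]
    calc g * c⁻¹ * x * (g * c⁻¹)⁻¹ = g * (c⁻¹ * x * c) * g⁻¹ := by
          rw [_root_.mul_inv_rev, inv_inv]; group
      _ = g * x * g⁻¹ := by rw [h1]

end Cfsg.Agent.S2569
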