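import Cfsg.Statements.S2570
import Cfsg.Agent.Helper21.Jordan6

set_option autoImplicit false
open Cfsg

namespace Cfsg.Agent.S2570

open Cfsg.Agent.Helper21.Jordan

theorem pow_p_eq_one_iff {F : Type*} [Field F] {p : ℕ} [Fact p.Prime] [CharP F p] {n : ℕ}
    (g : Matrix.GeneralLinearGroup (Fin n) F) : g ^ p = 1 ↔ nilPart g ^ p = 0 := by
  rw [nilPart_pow_eq_zero_iff]
  rcases Nat.eq_zero_or_pos n with rfl | hn
  · constructor
    · intro _
      exact Subsingleton.elim _ _
    · intro _
      exact Units.ext (Subsingleton.elim _ _)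
  · have hne : Nonempty (Fin n) := ⟨⟨0, hn⟩⟩
    constructor
    · intro h
      have h2 := congrArg (fun u : Matrix.GeneralLinearGroup (Fin n) F =>
        (u : Matrix (Fin n) (Fin n) F)) h
      simp only [Units.val_pow_eq_pow_val, Units.val_one] at h2
      have := Cfsg.Agent.Helper12.sub_one_pow_eq_zero_of_pow_eq_one p
        (g : Matrix (Fin n) (Fin n) F) 1 (by rwa [pow_one])
      rwa [pow_one] at this
    · intro h
      apply Units.ext
      rw [Units.val_pow_eq_pow_val, Units.val_one]
      have := Cfsg.Agent.Helper12.pow_eq_one_of_sub_one_pow_eq_zero p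
        (g : Matrix (Fin n) (Fin n) F) 1 (by rwa [pow_one])
      rwa [pow_one] at this

theorem eq_one_iff {F : Type*} [Field F] {n : ℕ}
    (g : Matrix.GeneralLinearGroup (Fin n) F) : g = 1 ↔ nilPart g ^ 1 = 0 := by
  rw [nilPart_pow_eq_zero_iff, pow_one, sub_eq_zero]
  constructor
  · intro h
    rw [h]
    rfl
  · intro h
    exact Units.ext h

theorem orderOf_eq_p_iff {F : Type*} [Field F] {p : ℕ} [Fact p.Prime] [CharP F p] {n : ℕ}
    (g : Matrix.GeneralLinearGroup (Fin n) F) :
    orderOf g = p ↔ (IsNilpotent (nilPart g) ∧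
      ((∀ a ∈ jordanType (nilPart g), a ≤ p) ∧ ¬ ∀ a ∈ jordanType (nilPart g), a ≤ 1)) := by
  have hp : p.Prime := Fact.out
  constructor
  · intro h
    have hnil : IsNilpotent (nilPart g) :=
      (isNilpotent_nilPart_iff p g).mpr ⟨1, by rw [h, pow_one]⟩
    have hJ := jordanType_spec _ hnil
    refine ⟨hnil, ?_, ?_⟩
    · rw [← hJ.pow_eq_zero_iff, ← pow_p_eq_one_iff, ← h]
      exact pow_orderOf_eq_one g
    · rw [← hJ.pow_eq_zero_iff, ← eq_one_iff]
      rintro rfl
      rw [orderOf_one] at h
      exact hp.one_lt.ne h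
  · rintro ⟨hnil, h1, h2⟩
    have hJ := jordanType_spec _ hnil
    rw [← hJ.pow_eq_zero_iff, ← pow_p_eq_one_iff] at h1
    rw [← hJ.pow_eq_zero_iff, ← eq_one_iff] at h2
    exact orderOf_eq_prime h1 h2

/-- the partition into ones -/
def ones (n : ℕ) : Nat.Partition n :=
  ⟨Multiset.replicate n 1, fun {i} hi => by rw [Multiset.eq_of_mem_replicate hi]; exact one_pos,
    by simp⟩

theorem forall_le_one_iff {n : ℕ} (μ : Nat.Partition n) :
    (∀ a ∈ μ.parts, a ≤ 1) ↔ μ = ones n := by
  constructor
  · intro h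
    apply Nat.Partition.ext
    show μ.parts = Multiset.replicate n 1
    have h1 : ∀ a ∈ μ.parts, a = 1 := fun a ha => by
      have := h a ha
      have := μ.parts_pos ha
      omega
    have h2 : μ.parts = Multiset.replicate (Multiset.card μ.parts) 1 :=
      Multiset.eq_replicate_card.mpr h1
    have h3 := μ.parts_sum
    rw [h2, Multiset.sum_replicate, smul_eq_mul, mul_one] at h3
    rw [h2, h3]
  · rintro rfl a ha
    rw [Multiset.eq_of_mem_replicate ha]

theorem card_partitions (n p : ℕ) (hp : 1 ≤ p) :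
    Nat.card {μ : Nat.Partition n // (∀ a ∈ μ.parts, a ≤ p) ∧ ¬ ∀ a ∈ μ.parts, a ≤ 1}
      = (Finset.univ.filter (fun μ : Nat.Partition n => ∀ a ∈ μ.parts, a ≤ p)).card - 1 := by
  classical
  rw [Nat.card_eq_fintype_card, Fintype.card_subtype]
  have hmem : ones n ∈ Finset.univ.filter (fun μ : Nat.Partition n => ∀ a ∈ μ.parts, a ≤ p) := by
    rw [Finset.mem_filter]
    refine ⟨Finset.mem_univ _, fun a ha => ?_⟩
    rw [Multiset.eq_of_mem_replicate ha]
    exact hp
  rw [← Finset.card_erase_of_mem hmem]
  congr 1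
  ext μ
  simp only [Finset.mem_filter, Finset.mem_univ, true_and, Finset.mem_erase, forall_le_one_iff]
  exact and_comm

/-- Number of conjugacy classes of elements of order p in GL_n over a finite field of characteristic p: they correspond to the Jordan types, that is, to the partitions of n with all parts at most p other than the partition into ones, so there are (number of partitions of n with parts ≤ p) − 1 of them. -/
theorem result {F : Type*} [Field F] [Fintype F] {p : ℕ} [Fact p.Prime] [CharP F p] (n : ℕ) : Nat.card {C : ConjClasses (GL (Fin n) F) // ∃ g : GL (Fin n) F, ConjClasses.mk g = C ∧ orderOf g = p} = (Finset.univ.filter (fun μ : Nat.Partition n => ∀ a ∈ μ.parts, a ≤ p)).card - 1 := by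
  have hp : p.Prime := Fact.out
  rw [← card_partitions n p hp.one_lt.le,
    ← card_classes_eq (fun g : Matrix.GeneralLinearGroup (Fin n) F => orderOf g = p)
      (fun μ => (∀ a ∈ μ, a ≤ p) ∧ ¬ ∀ a ∈ μ, a ≤ 1) (fun g => orderOf_eq_p_iff g)]
  exact Nat.card_congr (Equiv.subtypeEquivRight (fun C => exists_congr (fun g => and_comm)))

end Cfsg.Agent.S2570
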