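import Mathlib
import Cfsg.Statements.S2571
import Cfsg.Agent.Helper13.RegUnip

set_option autoImplicit false
open Cfsg

namespace Cfsg.Agent.S2571

open Matrix

/-- the polynomial in `N` with coefficient vector `a` -/
def Pm {F : Type*} [Field F] {n : ℕ} (N : Matrix (Fin n) (Fin n) F) (a : Fin n → F) :
    Matrix (Fin n) (Fin n) F := ∑ i : Fin n, a i • N ^ (i : ℕ)

theorem commute_Pm {F : Type*} [Field F] {n : ℕ} (N A : Matrix (Fin n) (Fin n) F)
    (h : Commute A N) (a : Fin n → F) : Commute A (Pm N a) := by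
  unfold Pm
  apply Commute.sum_right
  intro i _
  exact (h.pow_right _).smul_right _

theorem Pm_sub {F : Type*} [Field F] {n : ℕ} (N : Matrix (Fin n) (Fin n) F) (a b : Fin n → F) :
    Pm N (a - b) = Pm N a - Pm N b := by
  unfold Pm
  rw [← Finset.sum_sub_distrib]
  apply Finset.sum_congr rfl
  intro i _
  rw [Pi.sub_apply, sub_smul]

theorem Pm_mulVec {F : Type*} [Field F] {n : ℕ} (N : Matrix (Fin n) (Fin n) F) (a : Fin n → F)
    (w : Fin n → F) : Pm N a *ᵥ w = ∑ i : Fin n, a i • (N ^ (i : ℕ) *ᵥ w) := by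
  unfold Pm
  rw [Matrix.sum_mulVec]
  apply Finset.sum_congr rfl
  intro i _
  rw [Matrix.smul_mulVec]

theorem pow_mulVec_Pm_mulVec {F : Type*} [Field F] {n : ℕ} (N : Matrix (Fin n) (Fin n) F)
    (a : Fin n → F) (w : Fin n → F) (k : ℕ) :
    N ^ k *ᵥ (Pm N a *ᵥ w) = ∑ i : Fin n, a i • (N ^ (k + (i : ℕ)) *ᵥ w) := by
  rw [Pm_mulVec, Matrix.mulVec_sum]
  apply Finset.sum_congr rfl
  intro i _
  rw [Matrix.mulVec_smul, Matrix.mulVec_mulVec, ← pow_add]

/-- injectivity of `a ↦ Pm N a *ᵥ v` for a cyclic vector `v` -/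
theorem Pm_mulVec_inj {F : Type*} [Field F] {n : ℕ} (N : Matrix (Fin n) (Fin n) F)
    (hnil : N ^ n = 0) (v : Fin n → F) (hv : N ^ (n - 1) *ᵥ v ≠ 0) (a : Fin n → F)
    (ha : Pm N a *ᵥ v = 0) : a = 0 := by
  classical
  by_contra hne
  have hex : (Finset.univ.filter (fun i : Fin n => a i ≠ 0)).Nonempty := by
    by_contra hemp
    rw [Finset.not_nonempty_iff_eq_empty] at hemp
    apply hne
    funext i
    by_contra hi
    have hi' : a i ≠ 0 := hi
    have : i ∈ Finset.univ.filter (fun i : Fin n => a i ≠ 0) := by simp [hi']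
    rw [hemp] at this
    simp at this
  set j := (Finset.univ.filter (fun i : Fin n => a i ≠ 0)).min' hex with hj
  have hjmem := Finset.min'_mem _ hex
  rw [← hj] at hjmem
  have haj : a j ≠ 0 := by simpa using hjmem
  have hlt : ∀ i : Fin n, i < j → a i = 0 := by
    intro i hi
    by_contra hai
    have : i ∈ Finset.univ.filter (fun i : Fin n => a i ≠ 0) := by simp [hai]
    have := Finset.min'_le _ i this
    rw [← hj] at this
    exact absurd hi (not_lt.mpr this)
  have h1 := pow_mulVec_Pm_mulVec N a v (n - 1 - (j : ℕ))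
  rw [ha, Matrix.mulVec_zero] at h1
  rw [Finset.sum_eq_single j] at h1
  · have hexp : n - 1 - (j : ℕ) + (j : ℕ) = n - 1 := by have := j.2; omega
    rw [hexp] at h1
    rcases smul_eq_zero.mp h1.symm with h | h
    · exact haj h
    · exact hv h
  · intro i _ hij
    rcases lt_or_gt_of_ne hij with h | h
    · rw [hlt i h, zero_smul]
    · have hge : n ≤ n - 1 - (j : ℕ) + (i : ℕ) := by
        have h' : (j : ℕ) < (i : ℕ) := h
        have := i.2
        omega
      obtain ⟨d, hd⟩ := Nat.exists_eq_add_of_le hge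
      rw [hd, pow_add, hnil, zero_mul, Matrix.zero_mulVec, smul_zero]
  · intro hj'
    exact absurd (Finset.mem_univ j) hj'

theorem card_first_ne_zero {F : Type*} [Field F] [Fintype F] (k : ℕ) :
    Nat.card {a : Fin (k + 1) → F // a 0 ≠ 0} = (Fintype.card F - 1) * Fintype.card F ^ k := by
  classical
  rw [Nat.card_eq_fintype_card, Fintype.card_subtype]
  have : Finset.univ.filter (fun a : Fin (k + 1) → F => a 0 ≠ 0) =
      Fintype.piFinset (fun i : Fin (k + 1) => if i = 0 then Finset.univ.erase (0 : F)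
        else Finset.univ) := by
    ext a
    simp only [Finset.mem_filter, Finset.mem_univ, true_and, Fintype.mem_piFinset]
    constructor
    · intro h i
      by_cases hi : i = 0
      · subst hi; simp [h]
      · simp [hi]
    · intro h
      have := h 0
      simpa using this
  rw [this, Fintype.card_piFinset, Fin.prod_univ_succ]
  simp [Finset.card_erase_of_mem, Finset.card_univ, Fin.succ_ne_zero]

theorem result {F : Type*} [Field F] [Fintype F] {q n : ℕ} (hF : Fintype.card F = q) (hn : 1 ≤ n) (u : GL (Fin n) F) (hnil : ((u : Matrix (Fin n) (Fin n) F) - 1) ^ n = 0) (hreg : ((u : Matrix (Fin n) (Fin n) F) - 1).rank = n - 1) : Nat.card ↥(Subgroup.centralizer ({u} : Set (GL (Fin n) F))) = (q - 1) * q ^ (n - 1) := by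
  classical
  obtain ⟨k, rfl⟩ : ∃ k, n = k + 1 := ⟨n - 1, by omega⟩
  set N : Matrix (Fin (k + 1)) (Fin (k + 1)) F := (u : Matrix (Fin (k + 1)) (Fin (k + 1)) F) - 1
    with hN
  -- a cyclic vector
  have hpow : ∀ j : ℕ, Matrix.mulVecLin (N ^ j) = (Matrix.mulVecLin N) ^ j := by
    intro j
    rw [← Matrix.toLin'_apply', ← Matrix.toLin'_apply', Matrix.toLin'_pow]
  obtain ⟨v, hv⟩ : ∃ v : Fin (k + 1) → F, N ^ k *ᵥ v ≠ 0 := by
    by_contra hcon
    push Not at hcon
    have hker1 : Module.finrank F (LinearMap.ker (Matrix.mulVecLin N)) ≤ 1 := by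
      have h1 := LinearMap.finrank_range_add_finrank_ker (Matrix.mulVecLin N)
      have h2 : Module.finrank F (LinearMap.range (Matrix.mulVecLin N)) = k + 1 - 1 := hreg
      have h3 : Module.finrank F (Fin (k + 1) → F) = k + 1 := by simp
      omega
    have h4 := Cfsg.Agent.Helper13.finrank_ker_pow_le (Matrix.mulVecLin N) k
    have h5 : LinearMap.ker ((Matrix.mulVecLin N) ^ k) = ⊤ := by
      rw [← hpow, eq_top_iff]
      intro w _
      rw [LinearMap.mem_ker, Matrix.mulVecLin_apply]
      exact hcon w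
    rw [h5, finrank_top] at h4
    have h3 : Module.finrank F (Fin (k + 1) → F) = k + 1 := by simp
    nlinarith
  have hv' : N ^ (k + 1 - 1) *ᵥ v ≠ 0 := by simpa using hv
  -- the linear map T
  set T : (Fin (k + 1) → F) →ₗ[F] (Fin (k + 1) → F) :=
    Fintype.linearCombination F (fun i : Fin (k + 1) => N ^ (i : ℕ) *ᵥ v) with hT
  have hTapp : ∀ a, T a = Pm N a *ᵥ v := by
    intro a
    rw [hT, Fintype.linearCombination_apply, Pm_mulVec]
  have hTinj : Function.Injective T := by
    rw [← LinearMap.ker_eq_bot, LinearMap.ker_eq_bot']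
    intro a ha
    rw [hTapp] at ha
    exact Pm_mulVec_inj N hnil v hv' a ha
  have hTsurj : Function.Surjective T := LinearMap.surjective_of_injective hTinj
  -- elements commuting with N are polynomials in N
  have hcomm : ∀ A : Matrix (Fin (k + 1)) (Fin (k + 1)) F, Commute A N →
      ∃ a, A = Pm N a := by
    intro A hA
    obtain ⟨a, ha⟩ := hTsurj (A *ᵥ v)
    rw [hTapp] at ha
    refine ⟨a, ?_⟩
    apply Matrix.mulVec_injective
    funext w
    obtain ⟨b, hb⟩ := hTsurj w
    rw [hTapp] at hb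
    have hNN : Commute N N := Commute.refl N
    have c1 : Commute A (Pm N b) := commute_Pm N A hA b
    have c2 : Commute (Pm N a) (Pm N b) := commute_Pm N (Pm N a) (commute_Pm N N hNN a).symm b
    rw [← hb, Matrix.mulVec_mulVec, Matrix.mulVec_mulVec, c1.eq, c2.eq, ← Matrix.mulVec_mulVec,
      ← Matrix.mulVec_mulVec, ha]
  -- unit criterion
  have hNnil : IsNilpotent N := ⟨k + 1, hnil⟩
  have hunit_of : ∀ a : Fin (k + 1) → F, a 0 ≠ 0 → IsUnit (Pm N a) := by
    intro a ha
    have hsplit : Pm N a = a 0 • (1 : Matrix (Fin (k + 1)) (Fin (k + 1)) F) +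
        ∑ i : Fin k, a i.succ • N ^ ((i.succ : Fin (k + 1)) : ℕ) := by
      unfold Pm
      rw [Fin.sum_univ_succ]
      simp
    rw [hsplit]
    apply IsNilpotent.isUnit_add_left_of_commute
    · apply Commute.isNilpotent_sum
      · intro i _
        apply IsNilpotent.smul
        exact hNnil.pow_of_pos (by simp)
      · intro i j _ _
        exact (((Commute.refl N).pow_pow _ _).smul_left _).smul_right _
    · have : a 0 • (1 : Matrix (Fin (k + 1)) (Fin (k + 1)) F) =
          algebraMap F (Matrix (Fin (k + 1)) (Fin (k + 1)) F) (a 0) := by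
        rw [Algebra.algebraMap_eq_smul_one]
      rw [this]
      exact (IsUnit.mk0 (a 0) ha).map _
    · apply Commute.sum_left
      intro i _
      exact ((Commute.one_right _).smul_right _).smul_left _
  have hne_of_unit : ∀ a : Fin (k + 1) → F, IsUnit (Pm N a) → a 0 ≠ 0 := by
    intro a hu h0
    have hinj := Matrix.mulVec_injective_iff_isUnit.mpr hu
    have h1 : Pm N a *ᵥ (N ^ k *ᵥ v) = 0 := by
      rw [Pm_mulVec]
      apply Finset.sum_eq_zero
      intro i _
      refine Fin.cases ?_ (fun i => ?_) i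
      · rw [h0, zero_smul]
      · rw [Matrix.mulVec_mulVec, ← pow_add]
        have : ((i.succ : Fin (k + 1)) : ℕ) + k = (k + 1) + (i : ℕ) := by simp; omega
        rw [this, pow_add, hnil, zero_mul, Matrix.zero_mulVec, smul_zero]
    have h2 : Pm N a *ᵥ (N ^ k *ᵥ v) = Pm N a *ᵥ 0 := by rw [h1, Matrix.mulVec_zero]
    exact hv (hinj h2)
  -- the bijection
  have hcommN : ∀ a, Commute (Pm N a) N := fun a => (commute_Pm N N (Commute.refl N) a).symm
  have hmem : ∀ (a : Fin (k + 1) → F) (ha : a 0 ≠ 0),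
      (hunit_of a ha).unit ∈ Subgroup.centralizer ({u} : Set (GL (Fin (k + 1)) F)) := by
    intro a ha
    rw [Subgroup.mem_centralizer_iff]
    intro h hh
    rw [Set.mem_singleton_iff] at hh
    subst hh
    apply Units.ext
    rw [Units.val_mul, Units.val_mul, IsUnit.unit_spec]
    have hu : (h : Matrix (Fin (k + 1)) (Fin (k + 1)) F) = N + 1 := by rw [hN]; simp
    rw [hu, add_mul, mul_add, one_mul, mul_one, (hcommN a).eq]
  rw [← hF]
  have hcard := card_first_ne_zero (F := F) k
  rw [Nat.add_sub_cancel, ← hcard]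
  symm
  apply Nat.card_eq_of_bijective
    (fun a : {a : Fin (k + 1) → F // a 0 ≠ 0} =>
      (⟨(hunit_of a.1 a.2).unit, hmem a.1 a.2⟩ :
        Subgroup.centralizer ({u} : Set (GL (Fin (k + 1)) F))))
  constructor
  · intro a b hab
    have h1 := congrArg (fun g : Subgroup.centralizer ({u} : Set (GL (Fin (k + 1)) F)) =>
      ((g : GL (Fin (k + 1)) F) : Matrix (Fin (k + 1)) (Fin (k + 1)) F)) hab
    simp only [IsUnit.unit_spec] at h1
    apply Subtype.ext
    have h2 : Pm N (a.1 - b.1) *ᵥ v = 0 := by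
      rw [Pm_sub, h1, sub_self, Matrix.zero_mulVec]
    exact sub_eq_zero.mp (Pm_mulVec_inj N hnil v hv' _ h2)
  · rintro ⟨g, hg⟩
    rw [Subgroup.mem_centralizer_iff] at hg
    have hgu := hg u (Set.mem_singleton u)
    have hgu' : (u : Matrix (Fin (k + 1)) (Fin (k + 1)) F) * (g : Matrix _ _ F) =
        (g : Matrix _ _ F) * (u : Matrix _ _ F) := by
      have := congrArg (fun x : GL (Fin (k + 1)) F => (x : Matrix (Fin (k + 1)) (Fin (k + 1)) F)) hgu
      simpa using this
    have hgN : Commute (g : Matrix (Fin (k + 1)) (Fin (k + 1)) F) N := by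
      rw [hN]
      unfold Commute SemiconjBy
      rw [mul_sub, sub_mul, mul_one, one_mul, hgu']
    obtain ⟨a, ha⟩ := hcomm _ hgN
    have hua : IsUnit (Pm N a) := by rw [← ha]; exact g.isUnit
    refine ⟨⟨a, hne_of_unit a hua⟩, ?_⟩
    apply Subtype.ext
    apply Units.ext
    simp only [IsUnit.unit_spec]
    exact ha.symm

end Cfsg.Agent.S2571
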