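import Mathlib
import Cfsg.Statements.S2572

set_option autoImplicit false
open Cfsg

namespace Cfsg.Agent.S2572

open Matrix Module

variable {F : Type*} [Field F]

/-- the index type `1 + m + 1`. -/
abbrev Idx (m : ℕ) := Unit ⊕ (Fin m ⊕ Unit)

/-- the elementary matrix with a single `1` in the top right corner. -/
def E (m : ℕ) : Matrix (Idx m) (Idx m) F :=
  Matrix.single (Sum.inl ()) (Sum.inr (Sum.inr ())) 1

/-- the general matrix commuting with `E`. -/
def Mat {m : ℕ} (l : F) (B : Matrix (Fin m) (Fin m) F) (a b : Fin m → F) (c : F) :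
    Matrix (Idx m) (Idx m) F :=
  fromBlocks (Matrix.of fun _ _ => l) (Matrix.of fun _ j => Sum.elim a (fun _ => c) j) 0
    (fromBlocks B (Matrix.of fun i _ => b i) 0 (Matrix.of fun _ _ => l))

theorem det_Mat {m : ℕ} (l : F) (B : Matrix (Fin m) (Fin m) F) (a b : Fin m → F) (c : F) :
    (Mat l B a b c).det = l * (B.det * l) := by
  have h1 : (Matrix.of fun (_ _ : Unit) => l).det = l := by
    rw [Matrix.det_unique]; rfl
  unfold Mat
  rw [Matrix.det_fromBlocks_zero₂₁, Matrix.det_fromBlocks_zero₂₁, h1]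

theorem Mat_mul_E {m : ℕ} (l : F) (B : Matrix (Fin m) (Fin m) F) (a b : Fin m → F) (c : F) :
    Mat l B a b c * E m = E m * Mat l B a b c := by
  ext x y
  unfold E
  by_cases hy : y = Sum.inr (Sum.inr ())
  · subst hy
    rw [Matrix.mul_single_apply_same]
    by_cases hx : x = Sum.inl ()
    · subst hx
      rw [Matrix.single_mul_apply_same]
      simp [Mat]
    · rw [Matrix.single_mul_apply_of_ne _ _ _ _ _ hx]
      rcases x with ⟨⟨⟩⟩ | ⟨i | ⟨⟨⟩⟩⟩
      · exact absurd rfl hx
      · simp [Mat]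
      · simp [Mat]
  · rw [Matrix.mul_single_apply_of_ne _ _ _ _ _ hy]
    by_cases hx : x = Sum.inl ()
    · subst hx
      rw [Matrix.single_mul_apply_same]
      rcases y with ⟨⟨⟩⟩ | ⟨j | ⟨⟨⟩⟩⟩
      · simp [Mat]
      · simp [Mat]
      · exact absurd rfl hy
    · rw [Matrix.single_mul_apply_of_ne _ _ _ _ _ hx]

theorem eq_Mat_of_commute {m : ℕ} (h : Matrix (Idx m) (Idx m) F) (hc : h * E m = E m * h) :
    h = Mat (h (Sum.inl ()) (Sum.inl ())) (h.toBlocks₂₂.toBlocks₁₁)
      (fun j => h (Sum.inl ()) (Sum.inr (Sum.inl j)))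
      (fun i => h (Sum.inr (Sum.inl i)) (Sum.inr (Sum.inr ())))
      (h (Sum.inl ()) (Sum.inr (Sum.inr ()))) := by
  have f1 : ∀ x, x ≠ Sum.inl () → h x (Sum.inl ()) = 0 := by
    intro x hx
    have := congrFun (congrFun hc x) (Sum.inr (Sum.inr ()))
    unfold E at this
    rw [Matrix.mul_single_apply_same, Matrix.single_mul_apply_of_ne _ _ _ _ _ hx, mul_one] at this
    exact this
  have f2 : h (Sum.inl ()) (Sum.inl ()) = h (Sum.inr (Sum.inr ())) (Sum.inr (Sum.inr ())) := by
    have := congrFun (congrFun hc (Sum.inl ())) (Sum.inr (Sum.inr ()))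
    unfold E at this
    rw [Matrix.mul_single_apply_same, Matrix.single_mul_apply_same, mul_one, one_mul] at this
    exact this
  have f3 : ∀ y, y ≠ Sum.inr (Sum.inr ()) → h (Sum.inr (Sum.inr ())) y = 0 := by
    intro y hy
    have := congrFun (congrFun hc (Sum.inl ())) y
    unfold E at this
    rw [Matrix.mul_single_apply_of_ne _ _ _ _ _ hy, Matrix.single_mul_apply_same, one_mul] at this
    exact this.symm
  ext x y
  rcases x with ⟨⟨⟩⟩ | ⟨i | ⟨⟨⟩⟩⟩ <;> rcases y with ⟨⟨⟩⟩ | ⟨j | ⟨⟨⟩⟩⟩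
  · simp [Mat]
  · simp [Mat]
  · simp [Mat]
  · simpa [Mat] using f1 (Sum.inr (Sum.inl i)) (by simp)
  · simp [Mat, Matrix.toBlocks₂₂, Matrix.toBlocks₁₁]
  · simp [Mat]
  · simpa [Mat] using f1 (Sum.inr (Sum.inr ())) (by simp)
  · simpa [Mat] using f3 (Sum.inr (Sum.inl j)) (by simp)
  · simpa [Mat] using f2.symm

theorem Mat_inj {m : ℕ} {l l' : F} {B B' : Matrix (Fin m) (Fin m) F} {a a' b b' : Fin m → F}
    {c c' : F} (h : Mat l B a b c = Mat l' B' a' b' c') :
    l = l' ∧ B = B' ∧ a = a' ∧ b = b' ∧ c = c' := by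
  refine ⟨?_, ?_, ?_, ?_, ?_⟩
  · have := congrFun (congrFun h (Sum.inl ())) (Sum.inl ())
    simpa [Mat] using this
  · ext i j
    have := congrFun (congrFun h (Sum.inr (Sum.inl i))) (Sum.inr (Sum.inl j))
    simpa [Mat] using this
  · funext j
    have := congrFun (congrFun h (Sum.inl ())) (Sum.inr (Sum.inl j))
    simpa [Mat] using this
  · funext i
    have := congrFun (congrFun h (Sum.inr (Sum.inl i))) (Sum.inr (Sum.inr ()))
    simpa [Mat] using this
  · have := congrFun (congrFun h (Sum.inl ())) (Sum.inr (Sum.inr ()))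
    simpa [Mat] using this

theorem coe_mkOfDetNeZero {ι : Type*} [Fintype ι] [DecidableEq ι] (A : Matrix ι ι F)
    (h : A.det ≠ 0) :
    ((Matrix.GeneralLinearGroup.mkOfDetNeZero A h : GL ι F) : Matrix ι ι F) = A := rfl

theorem card_commute_E [Fintype F] (m : ℕ) :
    Nat.card {h : GL (Idx m) F // (h : Matrix (Idx m) (Idx m) F) * E m = E m * (h : Matrix (Idx m) (Idx m) F)} =
      (Fintype.card F - 1) * (Nat.card (GL (Fin m) F) * (Fintype.card F ^ m *
        (Fintype.card F ^ m * Fintype.card F))) := by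
  classical
  have hdet : ∀ (l : Fˣ) (B : GL (Fin m) F) (a b : Fin m → F) (c : F),
      (Mat (l : F) (B : Matrix (Fin m) (Fin m) F) a b c).det ≠ 0 := by
    intro l B a b c
    rw [det_Mat]
    have hB := Matrix.GeneralLinearGroup.det_ne_zero B
    exact mul_ne_zero l.ne_zero (mul_ne_zero hB l.ne_zero)
  let Ψ : Fˣ × GL (Fin m) F × (Fin m → F) × (Fin m → F) × F →
      {h : GL (Idx m) F // (h : Matrix (Idx m) (Idx m) F) * E m = E m * (h : Matrix (Idx m) (Idx m) F)} :=
    fun p => ⟨Matrix.GeneralLinearGroup.mkOfDetNeZero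
      (Mat (p.1 : F) (p.2.1 : Matrix (Fin m) (Fin m) F) p.2.2.1 p.2.2.2.1 p.2.2.2.2)
      (hdet _ _ _ _ _), Mat_mul_E _ _ _ _ _⟩
  have hbij : Function.Bijective Ψ := by
    constructor
    · rintro ⟨l, B, a, b, c⟩ ⟨l', B', a', b', c'⟩ hp
      have h1 := congrArg (fun x : {h : GL (Idx m) F // (h : Matrix (Idx m) (Idx m) F) * E m =
        E m * (h : Matrix (Idx m) (Idx m) F)} => ((x : GL (Idx m) F) : Matrix (Idx m) (Idx m) F)) hp
      simp only [Ψ, coe_mkOfDetNeZero] at h1
      obtain ⟨e1, e2, e3, e4, e5⟩ := Mat_inj h1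
      have e1' : l = l' := Units.ext e1
      have e2' : B = B' := Units.ext e2
      subst e1' e2' e3 e4 e5
      rfl
    · rintro ⟨h, hc⟩
      have heq := eq_Mat_of_commute _ hc
      have hd := Matrix.GeneralLinearGroup.det_ne_zero h
      rw [heq, det_Mat] at hd
      have hl : (h : Matrix (Idx m) (Idx m) F) (Sum.inl ()) (Sum.inl ()) ≠ 0 := left_ne_zero_of_mul hd
      have hB : ((h : Matrix (Idx m) (Idx m) F).toBlocks₂₂.toBlocks₁₁).det ≠ 0 :=
        left_ne_zero_of_mul (right_ne_zero_of_mul hd)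
      refine ⟨⟨Units.mk0 _ hl, Matrix.GeneralLinearGroup.mkOfDetNeZero _ hB,
        (fun j => (h : Matrix (Idx m) (Idx m) F) (Sum.inl ()) (Sum.inr (Sum.inl j))),
        (fun i => (h : Matrix (Idx m) (Idx m) F) (Sum.inr (Sum.inl i)) (Sum.inr (Sum.inr ()))),
        ((h : Matrix (Idx m) (Idx m) F) (Sum.inl ()) (Sum.inr (Sum.inr ())))⟩, ?_⟩
      apply Subtype.ext
      apply Units.ext
      simp only [Ψ, coe_mkOfDetNeZero, Units.val_mk0]
      exact heq.symm
  rw [← Nat.card_eq_of_bijective Ψ hbij, Nat.card_prod, Nat.card_prod, Nat.card_prod, Nat.card_prod,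
    Nat.card_units, Nat.card_eq_fintype_card (α := F), Nat.card_eq_fintype_card (α := Fin m → F)]
  simp

theorem rank_one_decomp {k : ℕ} (N : Matrix (Fin k) (Fin k) F) (h : N.rank = 1) :
    ∃ u w : Fin k → F, N = vecMulVec u w := by
  unfold Matrix.rank at h
  obtain ⟨v, hv0, hv⟩ := finrank_eq_one_iff'.mp h
  have : ∀ j, ∃ c : F, c • (v : Fin k → F) = N *ᵥ Pi.single j 1 := by
    intro j
    obtain ⟨c, hc⟩ := hv ⟨N *ᵥ Pi.single j 1, ⟨Pi.single j 1, rfl⟩⟩
    exact ⟨c, by simpa using congrArg Subtype.val hc⟩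
  choose w hw using this
  refine ⟨v, w, ?_⟩
  ext i j
  have := congrFun (hw j) i
  rw [Matrix.mulVec_single_one] at this
  simp only [vecMulVec_apply]
  rw [mul_comm]
  simpa using this.symm

/-- the linear functional `x ↦ w ⬝ᵥ x`. -/
def dotL {k : ℕ} (w : Fin k → F) : (Fin k → F) →ₗ[F] F :=
  { toFun := fun x => w ⬝ᵥ x
    map_add' := dotProduct_add w
    map_smul' := fun c x => by simp [dotProduct_smul] }

theorem dotL_apply {k : ℕ} (w x : Fin k → F) : dotL w x = w ⬝ᵥ x := rfl

theorem exists_dotL_eq_one {k : ℕ} (w : Fin k → F) (hw : w ≠ 0) : ∃ x, dotL w x = 1 := by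
  obtain ⟨i₀, hi₀⟩ : ∃ i, w i ≠ 0 := by
    by_contra hcon
    push Not at hcon
    exact hw (funext hcon)
  refine ⟨(w i₀)⁻¹ • Pi.single i₀ 1, ?_⟩
  rw [dotL_apply, dotProduct_smul, dotProduct_single_one, smul_eq_mul, inv_mul_cancel₀ hi₀]

theorem exists_basis {m : ℕ} (M : Matrix (Fin (m + 2)) (Fin (m + 2)) F) (hr : M.rank = 1)
    (hsq : M * M = 0) :
    ∃ b : Basis (Idx m) F (Fin (m + 2) → F), ∀ j, M *ᵥ b j =
      if j = Sum.inr (Sum.inr ()) then b (Sum.inl ()) else 0 := by
  classical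
  obtain ⟨u, w, hN⟩ := rank_one_decomp M hr
  have hM0 : M ≠ 0 := by
    intro h0
    rw [h0, Matrix.rank_zero] at hr
    exact zero_ne_one hr
  have hw0 : w ≠ 0 := by
    rintro rfl
    apply hM0
    rw [hN]
    ext i j
    simp [vecMulVec_apply]
  have hu0 : u ≠ 0 := by
    rintro rfl
    apply hM0
    rw [hN]
    ext i j
    simp [vecMulVec_apply]
  have hwu : w ⬝ᵥ u = 0 := by
    by_contra hne
    apply hM0
    rw [hN, Matrix.vecMulVec_mul_vecMulVec] at hsq
    have : (w ⬝ᵥ u) • vecMulVec u w = 0 := by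
      rw [← hsq]
      ext i j
      simp [vecMulVec_apply]
      ring
    rcases smul_eq_zero.mp this with h | h
    · exact absurd h hne
    · rw [hN]; exact h
  set φ := dotL w with hφ
  have hφu : φ u = 0 := hwu
  obtain ⟨j₀, hj₀⟩ : ∃ i, u i ≠ 0 := by
    by_contra hcon
    push Not at hcon
    exact hu0 (funext hcon)
  set ψ : (Fin (m + 2) → F) →ₗ[F] F := (u j₀)⁻¹ • LinearMap.proj j₀ with hψ
  have hψu : ψ u = 1 := by
    simp [hψ, inv_mul_cancel₀ hj₀]
  obtain ⟨w₀, hw₀⟩ := exists_dotL_eq_one w hw0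
  set w₁ := w₀ - ψ w₀ • u with hw₁
  have hφw₁ : φ w₁ = 1 := by
    rw [hw₁, map_sub, map_smul, hφu, smul_zero, sub_zero]; exact hw₀
  have hψw₁ : ψ w₁ = 0 := by
    rw [hw₁, map_sub, map_smul, hψu, smul_eq_mul, mul_one, sub_self]
  set Φ : (Fin (m + 2) → F) →ₗ[F] F × F := φ.prod ψ with hΦ
  have hΦsurj : LinearMap.range Φ = ⊤ := by
    rw [LinearMap.range_eq_top]
    rintro ⟨a, b⟩
    refine ⟨a • w₁ + b • u, ?_⟩
    simp [hΦ, hφw₁, hψw₁, hφu, hψu]
  obtain ⟨K, hK⟩ : ∃ K : Submodule F (Fin (m + 2) → F), K = LinearMap.ker Φ := ⟨_, rfl⟩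
  have hKφ : ∀ x ∈ K, φ x = 0 := by
    intro x hx
    rw [hK, LinearMap.mem_ker] at hx
    have := congrArg Prod.fst hx
    simpa [hΦ] using this
  have hKψ : ∀ x ∈ K, ψ x = 0 := by
    intro x hx
    rw [hK, LinearMap.mem_ker] at hx
    have := congrArg Prod.snd hx
    simpa [hΦ] using this
  have hfrK : finrank F K = m := by
    have := LinearMap.finrank_range_add_finrank_ker Φ
    rw [hΦsurj, finrank_top, Module.finrank_prod, finrank_self, Module.finrank_fin_fun, ← hK] at this
    omega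
  set bK := Module.finBasisOfFinrankEq F K hfrK with hbK
  set v : Idx m → (Fin (m + 2) → F) :=
    Sum.elim (fun _ => u) (Sum.elim (fun j => (bK j : Fin (m + 2) → F)) (fun _ => w₁)) with hv
  have hw₁0 : w₁ ≠ 0 := by
    intro h0
    rw [h0, map_zero] at hφw₁
    exact zero_ne_one hφw₁
  have hli : LinearIndependent F v := by
    rw [hv]
    apply LinearIndependent.sum_type
    · exact linearIndependent_unique_iff.mpr hu0
    · apply LinearIndependent.sum_type
      · exact bK.linearIndependent.map' K.subtype (Submodule.ker_subtype K)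
      · exact linearIndependent_unique_iff.mpr hw₁0
      · rw [Submodule.disjoint_def]
        intro x hx1 hx2
        have hle : Submodule.span F (Set.range fun j => (bK j : Fin (m + 2) → F)) ≤
            LinearMap.ker φ := by
          rw [Submodule.span_le]
          rintro _ ⟨j, rfl⟩
          exact hKφ _ (bK j).2
        have h1 := hle hx1
        rw [Set.range_const, Submodule.mem_span_singleton] at hx2
        obtain ⟨a, rfl⟩ := hx2
        rw [LinearMap.mem_ker, map_smul, hφw₁, smul_eq_mul, mul_one] at h1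
        rw [h1, zero_smul]
    · rw [Submodule.disjoint_def]
      intro x hx1 hx2
      have hle : Submodule.span F (Set.range (Sum.elim (fun j => (bK j : Fin (m + 2) → F))
          (fun _ : Unit => w₁))) ≤ LinearMap.ker ψ := by
        rw [Submodule.span_le]
        rintro _ ⟨j, rfl⟩
        rcases j with j | j
        · exact hKψ _ (bK j).2
        · exact hψw₁
      have h1 := hle hx2
      rw [Set.range_const, Submodule.mem_span_singleton] at hx1
      obtain ⟨a, rfl⟩ := hx1
      rw [LinearMap.mem_ker, map_smul, hψu, smul_eq_mul, mul_one] at h1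
      rw [h1, zero_smul]
  have hcard : Fintype.card (Idx m) = finrank F (Fin (m + 2) → F) := by
    simp
    omega
  refine ⟨basisOfLinearIndependentOfCardEqFinrank hli hcard, ?_⟩
  rw [coe_basisOfLinearIndependentOfCardEqFinrank]
  have hMx : ∀ x, M *ᵥ x = (w ⬝ᵥ x) • u := by
    intro x
    rw [hN, Matrix.vecMulVec_mulVec]
    funext i
    simp [mul_comm]
  intro j
  rw [hMx]
  rcases j with ⟨⟨⟩⟩ | ⟨i | ⟨⟨⟩⟩⟩
  · have : w ⬝ᵥ u = 0 := hφu
    simp [hv, this]
  · have : w ⬝ᵥ (bK i : Fin (m + 2) → F) = 0 := hKφ _ (bK i).2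
    simp [hv, this]
  · have : w ⬝ᵥ w₁ = 1 := hφw₁
    simp [hv, this]

theorem result {F : Type*} [Field F] [Fintype F] {q n : ℕ} (hF : Fintype.card F = q) (hn : 2 ≤ n) (t : GL (Fin n) F) (ht : Cfsg.IsTransvection (t : Matrix (Fin n) (Fin n) F)) : Nat.card ↥(Subgroup.centralizer ({t} : Set (GL (Fin n) F))) = q ^ (2 * n - 3) * (q - 1) * ∏ i : Fin (n - 2), (q ^ (n - 2) - q ^ (i : ℕ)) := by
  classical
  obtain ⟨m, rfl⟩ : ∃ m, n = m + 2 := ⟨n - 2, by omega⟩
  obtain ⟨hr, hsq⟩ := ht
  set M : Matrix (Fin (m + 2)) (Fin (m + 2)) F := (t : Matrix (Fin (m + 2)) (Fin (m + 2)) F) - 1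
    with hM
  obtain ⟨b, hb⟩ := exists_basis M hr hsq
  set P : Matrix (Fin (m + 2)) (Idx m) F := (Pi.basisFun F (Fin (m + 2))).toMatrix b with hP
  set Q : Matrix (Idx m) (Fin (m + 2)) F := b.toMatrix (Pi.basisFun F (Fin (m + 2))) with hQ
  have hPQ : P * Q = 1 := Basis.toMatrix_mul_toMatrix_flip _ _
  have hQP : Q * P = 1 := Basis.toMatrix_mul_toMatrix_flip _ _
  have hPapp : ∀ i j, P i j = b j i := by
    intro i j
    rw [hP, Basis.toMatrix_apply, Pi.basisFun_repr]
  have hMP : M * P = P * (E m : Matrix (Idx m) (Idx m) F) := by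
    ext i j
    have h1 : (M * P) i j = (M *ᵥ b j) i := by
      rw [Matrix.mul_apply, Matrix.mulVec, dotProduct]
      refine Finset.sum_congr rfl fun l _ => ?_
      rw [hPapp]
    rw [h1, hb]
    unfold E
    by_cases hj : j = Sum.inr (Sum.inr ())
    · subst hj
      rw [Matrix.mul_single_apply_same, if_pos rfl, hPapp, mul_one]
    · rw [Matrix.mul_single_apply_of_ne _ _ _ _ _ hj, if_neg hj]
      rfl
  let R : Matrix (Fin (m + 2)) (Fin (m + 2)) F ≃* Matrix (Idx m) (Idx m) F :=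
    { toFun := fun X => Q * X * P
      invFun := fun Y => P * Y * Q
      left_inv := fun X => by
        show P * (Q * X * P) * Q = X
        calc P * (Q * X * P) * Q = (P * Q) * X * (P * Q) := by simp only [Matrix.mul_assoc]
          _ = X := by rw [hPQ, Matrix.one_mul, Matrix.mul_one]
      right_inv := fun Y => by
        show Q * (P * Y * Q) * P = Y
        calc Q * (P * Y * Q) * P = (Q * P) * Y * (Q * P) := by simp only [Matrix.mul_assoc]
          _ = Y := by rw [hQP, Matrix.one_mul, Matrix.mul_one]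
      map_mul' := fun X Y => by
        show Q * (X * Y) * P = Q * X * P * (Q * Y * P)
        calc Q * (X * Y) * P = Q * X * (P * Q) * Y * P := by
              rw [hPQ, Matrix.mul_one]; simp only [Matrix.mul_assoc]
          _ = Q * X * P * (Q * Y * P) := by simp only [Matrix.mul_assoc] }
  have hRapp : ∀ X, R X = Q * X * P := fun X => rfl
  have hRM : R M = E m := by
    rw [hRapp, Matrix.mul_assoc, hMP, ← Matrix.mul_assoc, hQP, Matrix.one_mul]
  let e : GL (Fin (m + 2)) F ≃* GL (Idx m) F := Units.mapEquiv R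
  have hecoe : ∀ g : GL (Fin (m + 2)) F, ((e g : GL (Idx m) F) : Matrix (Idx m) (Idx m) F) =
      R (g : Matrix (Fin (m + 2)) (Fin (m + 2)) F) := fun g => rfl
  have key : ∀ g : GL (Fin (m + 2)) F, g ∈ Subgroup.centralizer ({t} : Set (GL (Fin (m + 2)) F)) ↔
      ((e g : GL (Idx m) F) : Matrix (Idx m) (Idx m) F) * E m =
        E m * ((e g : GL (Idx m) F) : Matrix (Idx m) (Idx m) F) := by
    intro g
    have h1 : g ∈ Subgroup.centralizer ({t} : Set (GL (Fin (m + 2)) F)) ↔
        (g : Matrix (Fin (m + 2)) (Fin (m + 2)) F) * M = M * (g : Matrix (Fin (m + 2)) (Fin (m + 2)) F) := by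
      rw [Subgroup.mem_centralizer_iff]
      constructor
      · intro h
        have h2 := h t (Set.mem_singleton t)
        have h3 := congrArg (fun x : GL (Fin (m + 2)) F => (x : Matrix (Fin (m + 2)) (Fin (m + 2)) F)) h2
        simp only [Units.val_mul] at h3
        rw [hM, mul_sub, sub_mul, mul_one, one_mul, h3]
      · intro h x hx
        rw [Set.mem_singleton_iff] at hx
        subst hx
        apply Units.ext
        rw [Units.val_mul, Units.val_mul]
        have hx' : (x : Matrix (Fin (m + 2)) (Fin (m + 2)) F) = M + 1 := by rw [hM]; simp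
        rw [hx', add_mul, mul_add, one_mul, mul_one, h]
    rw [h1, hecoe, ← hRM, ← map_mul, ← map_mul, R.injective.eq_iff]
  rw [Nat.card_congr (Equiv.subtypeEquiv
    (p := fun g : GL (Fin (m + 2)) F => g ∈ Subgroup.centralizer ({t} : Set (GL (Fin (m + 2)) F)))
    (q := fun h : GL (Idx m) F => (h : Matrix (Idx m) (Idx m) F) * E m =
      E m * (h : Matrix (Idx m) (Idx m) F)) e.toEquiv key), card_commute_E, Matrix.card_GL_field, hF]
  have h2 : 2 * (m + 2) - 3 = 2 * m + 1 := by omega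
  have h3 : ∀ k, k = m → ∏ i : Fin k, (q ^ k - q ^ (i : ℕ)) = ∏ i : Fin m, (q ^ m - q ^ (i : ℕ)) := by
    intro k hk
    subst hk
    rfl
  rw [h2, h3 (m + 2 - 2) (by omega)]
  rw [pow_succ, two_mul, pow_add]
  ring

end Cfsg.Agent.S2572
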