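import Mathlib
import Cfsg.Statements.S2573
import Cfsg.Agent.Helper13.RegUnip

set_option autoImplicit false
open Cfsg

namespace Cfsg.Agent.S2573

theorem result {F : Type*} [Field F] [Finite F] {n : ℕ} (u : Matrix (Fin n) (Fin n) F) (hnil : (u - 1) ^ n = 0) (hreg : (u - 1).rank = n - 1) (W : Submodule F (Fin n → F)) (hW : ∀ v ∈ W, u.mulVec v ∈ W) : W = LinearMap.ker (Matrix.mulVecLin ((u - 1) ^ Module.finrank F W)) := by
  have hpow : ∀ k : ℕ, Matrix.mulVecLin ((u - 1) ^ k) = (Matrix.mulVecLin (u - 1)) ^ k := by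
    intro k
    rw [← Matrix.toLin'_apply', ← Matrix.toLin'_apply', Matrix.toLin'_pow]
  rw [hpow]
  apply Cfsg.Agent.Helper13.invariant_eq_ker_pow
  · refine ⟨n, ?_⟩
    rw [← hpow, hnil]
    ext v
    simp
  · have h1 := LinearMap.finrank_range_add_finrank_ker (Matrix.mulVecLin (u - 1))
    have h2 : Module.finrank F (LinearMap.range (Matrix.mulVecLin (u - 1))) = n - 1 := hreg
    have h3 : Module.finrank F (Fin n → F) = n := by simp
    omega
  · intro v hv
    have : Matrix.mulVecLin (u - 1) v = u.mulVec v - v := by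
      simp [Matrix.sub_mulVec]
    rw [this]
    exact W.sub_mem (hW v hv) hv

end Cfsg.Agent.S2573
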