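import Mathlib
import Cfsg.Statements.S2574
import Cfsg.Agent.Helper13.RegUnip

set_option autoImplicit false
open Cfsg

namespace Cfsg.Agent.S2574

open Matrix in
theorem result {F : Type*} [Field F] [Finite F] {m : ℕ} (u : Matrix.symplecticGroup (Fin m) F) (hnil : ((u : Matrix (Fin m ⊕ Fin m) (Fin m ⊕ Fin m) F) - 1) ^ (2 * m) = 0) (hreg : ((u : Matrix (Fin m ⊕ Fin m) (Fin m ⊕ Fin m) F) - 1).rank = 2 * m - 1) (W : Submodule F (Fin m ⊕ Fin m → F)) (hW : ∀ v ∈ W, (u : Matrix (Fin m ⊕ Fin m) (Fin m ⊕ Fin m) F).mulVec v ∈ W) (hdim : 2 * Module.finrank F W ≤ 2 * m) : ∀ v ∈ W, ∀ w ∈ W, Cfsg.sympForm m F v w = 0 := by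
  classical
  set A : Matrix (Fin m ⊕ Fin m) (Fin m ⊕ Fin m) F := (u : Matrix (Fin m ⊕ Fin m) (Fin m ⊕ Fin m) F) with hA
  let B : LinearMap.BilinForm F (Fin m ⊕ Fin m → F) := Matrix.toBilin' (Matrix.J (Fin m) F)
  have hBapp : ∀ x y, B x y = Cfsg.sympForm m F x y := by
    intro x y
    simp only [B, Matrix.toBilin'_apply', Cfsg.sympForm]
  have hBnd : B.Nondegenerate := by
    apply LinearMap.BilinForm.nondegenerate_toBilin'_iff_det_ne_zero.mpr
    exact (Matrix.isUnit_det_J (Fin m) F).ne_zero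
  -- A preserves B
  have hAJ : Aᵀ * Matrix.J (Fin m) F * A = Matrix.J (Fin m) F :=
    SymplecticGroup.mem_iff'.mp u.2
  have hpres : ∀ x y, B (A *ᵥ x) (A *ᵥ y) = B x y := by
    intro x y
    simp only [B, Matrix.toBilin'_apply']
    rw [← Matrix.vecMul_transpose, ← Matrix.dotProduct_mulVec, Matrix.mulVec_mulVec, Matrix.mulVec_mulVec,
      hAJ]
  -- A is invertible
  have hinvA : ((u⁻¹ : Matrix.symplecticGroup (Fin m) F) : Matrix (Fin m ⊕ Fin m) (Fin m ⊕ Fin m) F) * A = 1 := by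
    have : ((u⁻¹ * u : Matrix.symplecticGroup (Fin m) F) : Matrix (Fin m ⊕ Fin m) (Fin m ⊕ Fin m) F) = 1 := by
      rw [inv_mul_cancel]; rfl
    exact this
  have hinj : Function.Injective (Matrix.mulVecLin A) := by
    intro x y hxy
    have h1 : A *ᵥ x = A *ᵥ y := hxy
    have := congrArg (fun z => ((u⁻¹ : Matrix.symplecticGroup (Fin m) F) : Matrix (Fin m ⊕ Fin m) (Fin m ⊕ Fin m) F) *ᵥ z) h1
    simpa [Matrix.mulVec_mulVec, hinvA] using this
  -- A W = W
  have hmap : W.map (Matrix.mulVecLin A) = W := by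
    apply Submodule.eq_of_le_of_finrank_le
    · rintro _ ⟨w, hw, rfl⟩
      exact hW w hw
    · exact le_of_eq (Submodule.equivMapOfInjective _ hinj W).finrank_eq
  -- the linear map L
  set L : (Fin m ⊕ Fin m → F) →ₗ[F] (Fin m ⊕ Fin m → F) := Matrix.mulVecLin (A - 1) with hL
  have hpow : ∀ k : ℕ, Matrix.mulVecLin ((A - 1) ^ k) = L ^ k := by
    intro k
    rw [hL, ← Matrix.toLin'_apply', ← Matrix.toLin'_apply', Matrix.toLin'_pow]
  have hLnil : IsNilpotent L := by
    refine ⟨2 * m, ?_⟩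
    rw [← hpow, hnil]
    ext v
    simp
  have hV : Module.finrank F (Fin m ⊕ Fin m → F) = 2 * m := by
    simp; ring
  have hker : Module.finrank F (LinearMap.ker L) ≤ 1 := by
    have h1 := LinearMap.finrank_range_add_finrank_ker L
    have h2 : Module.finrank F (LinearMap.range L) = 2 * m - 1 := hreg
    omega
  have hLapp : ∀ v, L v = A *ᵥ v - v := by
    intro v
    simp [hL, Matrix.sub_mulVec]
  have hWL : ∀ v ∈ W, L v ∈ W := by
    intro v hv
    rw [hLapp]
    exact W.sub_mem (hW v hv) hv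
  -- orthogonal complement is invariant
  have hWoL : ∀ v ∈ B.orthogonal W, L v ∈ B.orthogonal W := by
    intro v hv
    rw [hLapp]
    refine (B.orthogonal W).sub_mem ?_ hv
    rw [LinearMap.BilinForm.mem_orthogonal_iff]
    intro w hw
    have : w ∈ W.map (Matrix.mulVecLin A) := by rw [hmap]; exact hw
    obtain ⟨w', hw', rfl⟩ := this
    show B (A *ᵥ w') (A *ᵥ v) = 0
    rw [hpres]
    exact (LinearMap.BilinForm.mem_orthogonal_iff.mp hv) w' hw'
  have h1 := Cfsg.Agent.Helper13.invariant_eq_ker_pow L hLnil hker W hWL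
  have h2 := Cfsg.Agent.Helper13.invariant_eq_ker_pow L hLnil hker (B.orthogonal W) hWoL
  have h3 : Module.finrank F (B.orthogonal W) = 2 * m - Module.finrank F W := by
    rw [LinearMap.BilinForm.finrank_orthogonal hBnd, hV]
  have hle : Module.finrank F W ≤ Module.finrank F (B.orthogonal W) := by omega
  have hmono : LinearMap.ker (L ^ Module.finrank F W) ≤ LinearMap.ker (L ^ Module.finrank F (B.orthogonal W)) := by
    obtain ⟨j, hj⟩ := Nat.exists_eq_add_of_le hle
    rw [hj, add_comm, pow_add]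
    intro x hx
    rw [LinearMap.mem_ker] at hx ⊢
    rw [Module.End.mul_apply, hx, map_zero]
  have hsub : W ≤ B.orthogonal W := by
    calc W = LinearMap.ker (L ^ Module.finrank F W) := h1
      _ ≤ LinearMap.ker (L ^ Module.finrank F (B.orthogonal W)) := hmono
      _ = B.orthogonal W := h2.symm
  intro v hv w hw
  rw [← hBapp]
  exact (LinearMap.BilinForm.mem_orthogonal_iff.mp (hsub hw)) v hv

end Cfsg.Agent.S2574
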