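import Mathlib
import Cfsg.Statements.S2576
import Cfsg.Agent.Helper13.FiniteFieldPow

set_option autoImplicit false
open Cfsg

namespace Cfsg.Agent.S2576

open Matrix in
theorem det_eq {F : Type*} [Field F] {m : ℕ} (μ c : F) :
    (c • Matrix.blockDiagonal (fun _ : Fin m => !![(0 : F), 1; μ, 0])).det = c ^ (2 * m) * (-μ) ^ m := by
  rw [Matrix.det_smul, Matrix.det_blockDiagonal]
  simp only [Matrix.det_fin_two_of, Finset.prod_const, Finset.card_univ, Fintype.card_fin,
    Fintype.card_prod]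
  congr 1
  ring

/-- arithmetic: if `2^a ∤ m`, `N = 2^a * N'`, `1 ≤ a` then `gcd m N ∣ 2^(a-1) * N'`. -/
theorem gcd_dvd_half {a m N' : ℕ} (ha : 1 ≤ a) (hm : ¬ 2 ^ a ∣ m) :
    Nat.gcd m (2 ^ a * N') ∣ 2 ^ (a - 1) * N' := by
  set g := Nat.gcd m (2 ^ a * N') with hg
  have hgm : g ∣ m := Nat.gcd_dvd_left _ _
  have hgN : g ∣ 2 ^ a * N' := Nat.gcd_dvd_right _ _
  have h1 : g ∣ Nat.gcd g (2 ^ a) * Nat.gcd g N' := by
    have := Nat.gcd_mul_right_dvd_mul_gcd g (2 ^ a) N'
    rwa [Nat.gcd_eq_left hgN] at this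
  have h2 : Nat.gcd g (2 ^ a) ∣ 2 ^ (a - 1) := by
    obtain ⟨j, hj, hjeq⟩ := (Nat.dvd_prime_pow Nat.prime_two).mp (Nat.gcd_dvd_right g (2 ^ a))
    rw [hjeq]
    apply pow_dvd_pow
    by_contra hlt
    have hja : j = a := by omega
    apply hm
    rw [← hja, ← hjeq]
    exact dvd_trans (Nat.gcd_dvd_left _ _) hgm
  exact dvd_trans h1 (Nat.mul_dvd_mul h2 (Nat.gcd_dvd_right _ _))

theorem result {F : Type*} [Field F] [Fintype F] {q : ℕ} (hF : Fintype.card F = q) (hq : Odd q) {m : ℕ} (hm : 1 ≤ m) (μ : F) (hμ : orderOf μ = 2 ^ padicValNat 2 (q - 1)) : (∃ c : F, c ≠ 0 ∧ (c • Matrix.blockDiagonal (fun _ : Fin m => !![(0 : F), 1; μ, 0])).det = 1) ↔ (q % 4 = 3 ∨ padicValNat 2 (q - 1) < padicValNat 2 (2 * m)) := by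
  classical
  subst hF
  simp only [det_eq]
  have hNpos : Fintype.card F - 1 ≠ 0 := by
    have := Fintype.one_lt_card (α := F)
    omega
  obtain ⟨N', hN'odd, hNdecomp⟩ := Cfsg.Agent.Helper13.two_adic_decomp _ hNpos
  set a := padicValNat 2 (Fintype.card F - 1) with ha
  have ha1 : 1 ≤ a := by
    have h2 : 2 ∣ Fintype.card F - 1 := by
      rcases hq with ⟨k, hk⟩
      exact ⟨k, by omega⟩
    exact one_le_padicValNat_of_dvd hNpos h2
  have hv2m : padicValNat 2 (2 * m) = 1 + padicValNat 2 m := by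
    rw [padicValNat.mul (by norm_num) (by omega)]
    simp
  have hμpow : μ ^ (2 ^ a) = 1 := by rw [← hμ]; exact pow_orderOf_eq_one μ
  have hnegμpow : (-μ) ^ (2 ^ a) = 1 := by
    rw [neg_pow, hμpow, mul_one]
    have : Even (2 ^ a) := by
      rw [Nat.even_pow]; exact ⟨even_two, by omega⟩
    exact this.neg_one_pow
  have hq43 : Fintype.card F % 4 = 3 ↔ a = 1 := by
    constructor
    · intro h
      by_contra hne
      have h2 : 2 ≤ a := by omega
      have h4 : 2 ^ 2 ∣ Fintype.card F - 1 :=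
        dvd_trans (pow_dvd_pow 2 h2) pow_padicValNat_dvd
      omega
    · intro h
      rw [h] at hNdecomp
      rcases hN'odd with ⟨k, hk⟩
      rw [hk] at hNdecomp
      omega
  constructor
  · rintro ⟨c, hc0, hc⟩
    by_cases h43 : Fintype.card F % 4 = 3
    · exact Or.inl h43
    · right
      have ha2 : 2 ≤ a := by
        have : a ≠ 1 := fun h => h43 (hq43.mpr h)
        omega
      rw [hv2m]
      suffices h : 2 ^ a ∣ m by
        have := (padicValNat_dvd_iff_le (p := 2) (by omega : m ≠ 0)).mp h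
        omega
      by_contra hndvd
      -- w = c^2 * (-μ)
      set w := c ^ 2 * (-μ) with hw
      have hwm : w ^ m = 1 := by
        rw [hw, mul_pow, ← pow_mul, hc]
      have hμ0 : μ ≠ 0 := by
        rintro rfl
        rw [zero_pow (by positivity)] at hμpow
        exact zero_ne_one hμpow
      have hw0 : w ≠ 0 := mul_ne_zero (pow_ne_zero 2 hc0) (neg_ne_zero.mpr hμ0)
      have hwN : w ^ (2 ^ a * N') = 1 := by
        rw [← hNdecomp]; exact FiniteField.pow_card_sub_one_eq_one w hw0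
      have hwg : w ^ (Nat.gcd m (2 ^ a * N')) = 1 := pow_gcd_eq_one.mpr ⟨hwm, hwN⟩
      have hwhalf : w ^ (2 ^ (a - 1) * N') = 1 := by
        obtain ⟨t, ht⟩ := gcd_dvd_half (N' := N') ha1 hndvd
        rw [ht, pow_mul, hwg, one_pow]
      -- but w^(N/2) = μ^(N/2) ≠ 1
      have h2a : 2 ^ a = 2 * 2 ^ (a - 1) := by
        rw [← pow_succ']; congr 1; omega
      have hcN : (c ^ 2) ^ (2 ^ (a - 1) * N') = 1 := by
        rw [← pow_mul]
        have : 2 * (2 ^ (a - 1) * N') = Fintype.card F - 1 := by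
          rw [hNdecomp, h2a]; ring
        rw [this]; exact FiniteField.pow_card_sub_one_eq_one c hc0
      have hev : Even (2 ^ (a - 1) * N') := by
        apply Even.mul_right
        rw [Nat.even_pow]; exact ⟨even_two, by omega⟩
      have hμhalf : μ ^ (2 ^ (a - 1) * N') = 1 := by
        have := hwhalf
        rw [hw, mul_pow, hcN, one_mul, neg_pow, hev.neg_one_pow, one_mul] at this
        exact this
      have hdvd := orderOf_dvd_of_pow_eq_one hμhalf
      rw [hμ, h2a] at hdvd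
      have h2N' : 2 ∣ N' := by
        have hpos : 0 < 2 ^ (a - 1) := by positivity
        have hdvd' : 2 ^ (a - 1) * 2 ∣ 2 ^ (a - 1) * N' := by
          rw [mul_comm (2 ^ (a - 1)) 2]; exact hdvd
        exact Nat.dvd_of_mul_dvd_mul_left hpos hdvd'
      rcases hN'odd with ⟨k, hk⟩
      omega
  · rintro (h43 | hlt)
    · have ha' : a = 1 := hq43.mp h43
      rw [ha'] at hμ
      have hμ2 : μ ^ 2 = 1 := by
        have := pow_orderOf_eq_one μ
        rwa [hμ] at this
      have hμne : μ ≠ 1 := by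
        intro h
        rw [h, orderOf_one] at hμ
        norm_num at hμ
      have hμneg : μ = -1 := by
        rcases sq_eq_one_iff.mp hμ2 with h | h
        · exact absurd h hμne
        · exact h
      exact ⟨1, one_ne_zero, by rw [hμneg]; simp⟩
    · rw [hv2m] at hlt
      have hle : a ≤ padicValNat 2 m := by omega
      have hdvd : 2 ^ a ∣ m := dvd_trans (pow_dvd_pow 2 hle) pow_padicValNat_dvd
      obtain ⟨t, ht⟩ := hdvd
      refine ⟨1, one_ne_zero, ?_⟩
      rw [one_pow, one_mul, ht, pow_mul, hnegμpow, one_pow]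

end Cfsg.Agent.S2576
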