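import Mathlib
import Cfsg.Statements.S2578
import Cfsg.Agent.S2571
import Cfsg.Agent.Helper13.RegUnip

set_option autoImplicit false
open Cfsg

namespace Cfsg.Agent.S2578

open Matrix
open Cfsg.Agent.S2571 (Pm commute_Pm Pm_sub Pm_mulVec Pm_mulVec_inj)

variable {F : Type*} [Field F]

/-- `det (t + M) = t ^ m` for nilpotent `M`. -/
theorem det_scalar_add_nilpotent {m : ℕ} (t : F) (M : Matrix (Fin m) (Fin m) F)
    (hM : IsNilpotent M) : (Matrix.scalar (Fin m) t + M).det = t ^ m := by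
  have h1 := Matrix.eval_charpoly (-M) t
  have h2 : (-M).charpoly = Polynomial.X ^ m := by
    have := Matrix.isNilpotent_charpoly_sub_pow_of_isNilpotent (M := -M) hM.neg
    have h3 := this.eq_zero
    rw [Fintype.card_fin] at h3
    exact sub_eq_zero.mp h3
  rw [h2, sub_neg_eq_add] at h1
  rw [← h1]
  simp

/-- the lower shift matrix. -/
def J (k : ℕ) : Matrix (Fin (k + 1)) (Fin (k + 1)) F :=
  Matrix.of fun i j => if (i : ℕ) = (j : ℕ) + 1 then 1 else 0

theorem J_apply (k : ℕ) (i j : Fin (k + 1)) :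
    (J k : Matrix _ _ F) i j = if (i : ℕ) = (j : ℕ) + 1 then 1 else 0 := rfl

theorem J_pow_apply (k m : ℕ) (i j : Fin (k + 1)) :
    ((J k : Matrix _ _ F) ^ m) i j = if (i : ℕ) = (j : ℕ) + m then 1 else 0 := by
  induction m generalizing i j with
  | zero =>
    rw [pow_zero, Matrix.one_apply]
    simp [Fin.ext_iff]
  | succ m ih =>
    rw [pow_succ, Matrix.mul_apply]
    by_cases h : (i : ℕ) = (j : ℕ) + (m + 1)
    · rw [if_pos h]
      have hlt : (j : ℕ) + 1 < k + 1 := by have := i.2; omega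
      rw [Finset.sum_eq_single (⟨(j : ℕ) + 1, hlt⟩ : Fin (k + 1))]
      · rw [ih, J_apply]
        have h1 : (i : ℕ) = ((⟨(j : ℕ) + 1, hlt⟩ : Fin (k + 1)) : ℕ) + m := by
          simp only []
          omega
        rw [if_pos h1, if_pos rfl, mul_one]
      · intro l _ hl
        rw [J_apply]
        have : ¬ ((l : ℕ) = (j : ℕ) + 1) := by
          intro h'
          apply hl
          exact Fin.ext h'
        rw [if_neg this, mul_zero]
      · intro h'
        exact absurd (Finset.mem_univ _) h'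
    · rw [if_neg h]
      apply Finset.sum_eq_zero
      intro l _
      rw [ih, J_apply]
      by_cases h1 : (l : ℕ) = (j : ℕ) + 1
      · have : ¬ ((i : ℕ) = (l : ℕ) + m) := by omega
        rw [if_neg this, zero_mul]
      · rw [if_neg h1, mul_zero]

theorem J_pow_eq_zero (k : ℕ) : (J k : Matrix _ _ F) ^ (k + 1) = 0 := by
  ext i j
  rw [J_pow_apply, Matrix.zero_apply, if_neg]
  have := i.2
  omega

theorem J_pow_mulVec_single (k : ℕ) :
    (J k : Matrix _ _ F) ^ k *ᵥ Pi.single 0 1 ≠ 0 := by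
  intro h
  have h1 := congrFun h (Fin.last k)
  rw [Matrix.mulVec_single_one] at h1
  simp only [Matrix.col_apply, Pi.zero_apply] at h1
  rw [J_pow_apply] at h1
  simp at h1

theorem J_rank (k : ℕ) : (J k : Matrix _ _ F).rank = k := by
  have hrn := LinearMap.finrank_range_add_finrank_ker (Matrix.mulVecLin (J k : Matrix _ _ F))
  have h3 : Module.finrank F (Fin (k + 1) → F) = k + 1 := by simp
  have hr : (J k : Matrix _ _ F).rank =
      Module.finrank F (LinearMap.range (Matrix.mulVecLin (J k : Matrix _ _ F))) := rfl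
  have hker_le : LinearMap.ker (Matrix.mulVecLin (J k : Matrix _ _ F)) ≤
      Submodule.span F {(Pi.single (Fin.last k) 1 : Fin (k + 1) → F)} := by
    intro x hx
    rw [LinearMap.mem_ker, Matrix.mulVecLin_apply] at hx
    rw [Submodule.mem_span_singleton]
    refine ⟨x (Fin.last k), ?_⟩
    funext i
    induction i using Fin.lastCases with
    | last => simp
    | cast i =>
      have h1 := congrFun hx i.succ
      rw [Matrix.mulVec, dotProduct, Finset.sum_eq_single (Fin.castSucc i)] at h1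
      · rw [J_apply] at h1
        simp only [Fin.val_succ, Fin.val_castSucc, if_true, one_mul, Pi.zero_apply] at h1
        rw [h1]
        have : (Fin.castSucc i : Fin (k + 1)) ≠ Fin.last k := (Fin.castSucc_lt_last i).ne
        simp [this]
      · intro l _ hl
        rw [J_apply]
        have : ¬ (((i.succ : Fin (k + 1)) : ℕ) = (l : ℕ) + 1) := by
          intro h'
          apply hl
          apply Fin.ext
          simp only [Fin.val_succ] at h'
          simp only [Fin.val_castSucc]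
          omega
        rw [if_neg this, zero_mul]
      · intro h'
        exact absurd (Finset.mem_univ _) h'
  have h1 : Module.finrank F (LinearMap.ker (Matrix.mulVecLin (J k : Matrix _ _ F))) ≤ 1 := by
    refine (Submodule.finrank_mono hker_le).trans ?_
    exact (finrank_span_le_card _).trans (by simp)
  have h2 : 1 ≤ Module.finrank F (LinearMap.ker (Matrix.mulVecLin (J k : Matrix _ _ F))) := by
    rw [Submodule.one_le_finrank_iff]
    intro hbot
    have hmem : (Pi.single (Fin.last k) 1 : Fin (k + 1) → F) ∈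
        LinearMap.ker (Matrix.mulVecLin (J k : Matrix _ _ F)) := by
      rw [LinearMap.mem_ker, Matrix.mulVecLin_apply, Matrix.mulVec_single_one]
      funext i
      simp only [Matrix.col_apply, Pi.zero_apply]
      rw [J_apply, if_neg]
      have := i.2
      simp only [Fin.val_last]
      omega
    rw [hbot, Submodule.mem_bot] at hmem
    have := congrFun hmem (Fin.last k)
    simp at this
  rw [hr]
  omega

theorem mulVecLin_pow {m : ℕ} (N : Matrix (Fin m) (Fin m) F) (j : ℕ) :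
    Matrix.mulVecLin (N ^ j) = (Matrix.mulVecLin N) ^ j := by
  rw [← Matrix.toLin'_apply', ← Matrix.toLin'_apply', Matrix.toLin'_pow]

/-- existence of a cyclic vector. -/
theorem exists_cyclic {k : ℕ} (N : Matrix (Fin (k + 1)) (Fin (k + 1)) F) (hreg : N.rank = k) :
    ∃ v : Fin (k + 1) → F, N ^ k *ᵥ v ≠ 0 := by
  by_contra hcon
  push Not at hcon
  have hker1 : Module.finrank F (LinearMap.ker (Matrix.mulVecLin N)) ≤ 1 := by
    have h1 := LinearMap.finrank_range_add_finrank_ker (Matrix.mulVecLin N)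
    have h2 : Module.finrank F (LinearMap.range (Matrix.mulVecLin N)) = k := hreg
    have h3 : Module.finrank F (Fin (k + 1) → F) = k + 1 := by simp
    omega
  have h4 := Cfsg.Agent.Helper13.finrank_ker_pow_le (Matrix.mulVecLin N) k
  have h5 : LinearMap.ker ((Matrix.mulVecLin N) ^ k) = ⊤ := by
    rw [← mulVecLin_pow, eq_top_iff]
    intro w _
    rw [LinearMap.mem_ker, Matrix.mulVecLin_apply]
    exact hcon w
  rw [h5, finrank_top] at h4
  have h3 : Module.finrank F (Fin (k + 1) → F) = k + 1 := by simp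
  nlinarith

/-- the matrix whose columns are `N ^ j *ᵥ v`. -/
def cycMat {k : ℕ} (N : Matrix (Fin (k + 1)) (Fin (k + 1)) F) (v : Fin (k + 1) → F) :
    Matrix (Fin (k + 1)) (Fin (k + 1)) F :=
  Matrix.of fun i j => (N ^ (j : ℕ) *ᵥ v) i

theorem cycMat_mulVec {k : ℕ} (N : Matrix (Fin (k + 1)) (Fin (k + 1)) F) (v a : Fin (k + 1) → F) :
    cycMat N v *ᵥ a = Pm N a *ᵥ v := by
  rw [Pm_mulVec]
  funext i
  rw [Matrix.mulVec, dotProduct, Finset.sum_apply]
  refine Finset.sum_congr rfl fun j _ => ?_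
  simp [cycMat, mul_comm]

theorem isUnit_cycMat {k : ℕ} (N : Matrix (Fin (k + 1)) (Fin (k + 1)) F) (hnil : N ^ (k + 1) = 0)
    (v : Fin (k + 1) → F) (hv : N ^ k *ᵥ v ≠ 0) : IsUnit (cycMat N v) := by
  rw [← Matrix.mulVec_injective_iff_isUnit]
  intro a b hab
  rw [cycMat_mulVec, cycMat_mulVec] at hab
  have h2 : Pm N (a - b) *ᵥ v = 0 := by
    rw [Pm_sub, Matrix.sub_mulVec, hab, sub_self]
  have hv' : N ^ (k + 1 - 1) *ᵥ v ≠ 0 := by simpa using hv
  exact sub_eq_zero.mp (Pm_mulVec_inj N hnil v hv' _ h2)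

theorem mul_cycMat {k : ℕ} (N : Matrix (Fin (k + 1)) (Fin (k + 1)) F) (hnil : N ^ (k + 1) = 0)
    (v : Fin (k + 1) → F) : N * cycMat N v = cycMat N v * J k := by
  ext i j
  rw [Matrix.mul_apply, Matrix.mul_apply]
  have hL : ∑ l, N i l * cycMat N v l j = (N ^ ((j : ℕ) + 1) *ᵥ v) i := by
    rw [pow_succ', ← Matrix.mulVec_mulVec]
    rfl
  rw [hL]
  by_cases hj : (j : ℕ) + 1 < k + 1
  · rw [Finset.sum_eq_single (⟨(j : ℕ) + 1, hj⟩ : Fin (k + 1))]
    · rw [J_apply, if_pos rfl, mul_one]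
      rfl
    · intro l _ hl
      rw [J_apply, if_neg, mul_zero]
      intro h'
      exact hl (Fin.ext h')
    · intro h'
      exact absurd (Finset.mem_univ _) h'
  · have hjk : (j : ℕ) + 1 = k + 1 := by have := j.2; omega
    rw [hjk, hnil, Matrix.zero_mulVec, Pi.zero_apply]
    symm
    apply Finset.sum_eq_zero
    intro l _
    rw [J_apply, if_neg, mul_zero]
    have := l.2
    omega

/-- matrices commuting with a regular nilpotent `N` are polynomials in `N`. -/
theorem commutant {k : ℕ} (N : Matrix (Fin (k + 1)) (Fin (k + 1)) F) (hnil : N ^ (k + 1) = 0)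
    (v : Fin (k + 1) → F) (hv : N ^ k *ᵥ v ≠ 0) (A : Matrix (Fin (k + 1)) (Fin (k + 1)) F)
    (hA : Commute A N) : ∃ a, A = Pm N a := by
  have hu := isUnit_cycMat N hnil v hv
  have hsurj : ∀ w, ∃ b, Pm N b *ᵥ v = w := by
    intro w
    have hinj := Matrix.mulVec_injective_iff_isUnit.mpr hu
    have hs : Function.Surjective (Matrix.mulVecLin (cycMat N v)) :=
      LinearMap.surjective_of_injective hinj
    obtain ⟨b, hb⟩ := hs w
    exact ⟨b, by rw [← cycMat_mulVec]; exact hb⟩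
  obtain ⟨a, ha⟩ := hsurj (A *ᵥ v)
  refine ⟨a, ?_⟩
  apply Matrix.mulVec_injective
  funext w
  obtain ⟨b, hb⟩ := hsurj w
  have hNN : Commute N N := Commute.refl N
  have c1 : Commute A (Pm N b) := commute_Pm N A hA b
  have c2 : Commute (Pm N a) (Pm N b) := commute_Pm N (Pm N a) (commute_Pm N N hNN a).symm b
  rw [← hb, Matrix.mulVec_mulVec, Matrix.mulVec_mulVec, c1.eq, c2.eq, ← Matrix.mulVec_mulVec,
    ← Matrix.mulVec_mulVec, ha]

theorem det_Pm {k : ℕ} (N : Matrix (Fin (k + 1)) (Fin (k + 1)) F) (hnil : N ^ (k + 1) = 0)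
    (a : Fin (k + 1) → F) : (Pm N a).det = a 0 ^ (k + 1) := by
  have hNnil : IsNilpotent N := ⟨k + 1, hnil⟩
  have hsplit : Pm N a = Matrix.scalar (Fin (k + 1)) (a 0) +
      ∑ i : Fin k, a i.succ • N ^ ((i.succ : Fin (k + 1)) : ℕ) := by
    unfold Pm
    rw [Fin.sum_univ_succ]
    congr 1
    ext i j
    simp [Matrix.one_apply, Matrix.diagonal_apply]
  rw [hsplit]
  apply det_scalar_add_nilpotent
  apply Commute.isNilpotent_sum
  · intro i _
    apply IsNilpotent.smul
    exact hNnil.pow_of_pos (by simp)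
  · intro i j _ _
    exact (((Commute.refl N).pow_pow _ _).smul_left _).smul_right _

/-- regular unipotent matrices. -/
def RU {k : ℕ} (u : Matrix (Fin (k + 1)) (Fin (k + 1)) F) : Prop :=
  (u - 1) ^ (k + 1) = 0 ∧ (u - 1).rank = k

theorem RU.det_eq_one {k : ℕ} {u : Matrix (Fin (k + 1)) (Fin (k + 1)) F} (h : RU u) :
    u.det = 1 := by
  have h1 := det_scalar_add_nilpotent (1 : F) (u - 1) ⟨k + 1, h.1⟩
  rw [map_one, add_sub_cancel, one_pow] at h1
  exact h1

theorem RU_one_add_J (k : ℕ) : RU (1 + J k : Matrix (Fin (k + 1)) (Fin (k + 1)) F) := by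
  unfold RU
  rw [add_sub_cancel_left]
  exact ⟨J_pow_eq_zero k, J_rank k⟩

/-- the standard regular unipotent element. -/
def U₀ (k : ℕ) : GL (Fin (k + 1)) F :=
  Matrix.GeneralLinearGroup.mkOfDetNeZero (1 + J k) (by
    rw [(RU_one_add_J k).det_eq_one]; exact one_ne_zero)

theorem coe_U₀ (k : ℕ) : ((U₀ k : GL (Fin (k + 1)) F) : Matrix (Fin (k + 1)) (Fin (k + 1)) F) = 1 + J k := rfl

theorem RU_conj {k : ℕ} (g u : GL (Fin (k + 1)) F) (h : RU (u : Matrix (Fin (k + 1)) (Fin (k + 1)) F)) :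
    RU ((g * u * g⁻¹ : GL (Fin (k + 1)) F) : Matrix (Fin (k + 1)) (Fin (k + 1)) F) := by
  have h1 : ((g * u * g⁻¹ : GL (Fin (k + 1)) F) : Matrix (Fin (k + 1)) (Fin (k + 1)) F) - 1 =
      (g : Matrix (Fin (k + 1)) (Fin (k + 1)) F) * ((u : Matrix (Fin (k + 1)) (Fin (k + 1)) F) - 1) * ((g⁻¹ : GL (Fin (k + 1)) F) : Matrix (Fin (k + 1)) (Fin (k + 1)) F) := by
    rw [Units.val_mul, Units.val_mul, mul_sub, sub_mul, mul_one, Units.mul_inv]
  unfold RU
  rw [h1, Units.conj_pow, h.1, mul_zero, zero_mul]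
  refine ⟨rfl, ?_⟩
  have hg : IsUnit (g : Matrix (Fin (k + 1)) (Fin (k + 1)) F).det := (Matrix.isUnit_iff_isUnit_det _).mp g.isUnit
  have hg' : IsUnit ((g⁻¹ : GL (Fin (k + 1)) F) : Matrix (Fin (k + 1)) (Fin (k + 1)) F).det :=
    (Matrix.isUnit_iff_isUnit_det _).mp (g⁻¹).isUnit
  rw [Matrix.rank_mul_eq_left_of_isUnit_det _ _ hg', Matrix.rank_mul_eq_right_of_isUnit_det _ _ hg]
  exact h.2

theorem exists_conj_U₀ {k : ℕ} (u : GL (Fin (k + 1)) F) (h : RU (u : Matrix (Fin (k + 1)) (Fin (k + 1)) F)) :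
    ∃ P : GL (Fin (k + 1)) F, u * P = P * U₀ k := by
  obtain ⟨v, hv⟩ := exists_cyclic _ h.2
  refine ⟨(isUnit_cycMat _ h.1 v hv).unit, ?_⟩
  apply Units.ext
  rw [Units.val_mul, Units.val_mul, IsUnit.unit_spec, coe_U₀, mul_add, mul_one,
    ← mul_cycMat _ h.1 v, sub_mul, one_mul]
  abel

theorem det_of_commute_U₀ {k : ℕ} (c : GL (Fin (k + 1)) F) (h : c * U₀ k = U₀ k * c) :
    ∃ a : Fˣ, Matrix.GeneralLinearGroup.det c = a ^ (k + 1) := by
  have h1 : (c : Matrix (Fin (k + 1)) (Fin (k + 1)) F) * (1 + J k) = (1 + J k) * (c : Matrix (Fin (k + 1)) (Fin (k + 1)) F) := by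
    have := congrArg (fun x : GL (Fin (k + 1)) F => (x : Matrix (Fin (k + 1)) (Fin (k + 1)) F)) h
    simpa [coe_U₀] using this
  have hcomm : Commute (c : Matrix (Fin (k + 1)) (Fin (k + 1)) F) (J k) := by
    unfold Commute SemiconjBy
    rw [mul_add, add_mul, mul_one, one_mul] at h1
    exact add_left_cancel h1
  obtain ⟨a, ha⟩ := commutant (J k) (J_pow_eq_zero k) _ (J_pow_mulVec_single k) _ hcomm
  have hdet : (c : Matrix (Fin (k + 1)) (Fin (k + 1)) F).det = a 0 ^ (k + 1) := by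
    rw [ha, det_Pm _ (J_pow_eq_zero k)]
  have hne : a 0 ≠ 0 := by
    intro h0
    have := Matrix.GeneralLinearGroup.det_ne_zero c
    rw [hdet, h0, zero_pow (by omega)] at this
    exact this rfl
  refine ⟨Units.mk0 (a 0) hne, ?_⟩
  apply Units.ext
  simpa using hdet

theorem isConj_iff_GL {m : ℕ} (u u' : Matrix.SpecialLinearGroup (Fin m) F) :
    IsConj u u' ↔ ∃ g : GL (Fin m) F, (g : Matrix (Fin m) (Fin m) F).det = 1 ∧
      g * Matrix.SpecialLinearGroup.toGL u = Matrix.SpecialLinearGroup.toGL u' * g := by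
  rw [isConj_iff]
  constructor
  · rintro ⟨c, hc⟩
    refine ⟨Matrix.SpecialLinearGroup.toGL c, c.2, ?_⟩
    rw [← map_mul, ← map_mul, ← hc]
    congr 1
    group
  · rintro ⟨g, hg, h⟩
    set c : Matrix.SpecialLinearGroup (Fin m) F := ⟨(g : Matrix (Fin m) (Fin m) F), hg⟩ with hc
    refine ⟨c, ?_⟩
    rw [mul_inv_eq_iff_eq_mul]
    apply Subtype.ext
    have := congrArg (fun x : GL (Fin m) F => (x : Matrix (Fin m) (Fin m) F)) h
    simpa using this

theorem result {F : Type*} [Field F] [Fintype F] {q : ℕ} (hF : Fintype.card F = q) {n : ℕ} (hn : 2 ≤ n) : Nat.card {C : ConjClasses (Matrix.SpecialLinearGroup (Fin n) F) // ∃ u : Matrix.SpecialLinearGroup (Fin n) F, ConjClasses.mk u = C ∧ ((u : Matrix (Fin n) (Fin n) F) - 1) ^ n = 0 ∧ ((u : Matrix (Fin n) (Fin n) F) - 1).rank = n - 1} = Nat.gcd n (q - 1) := by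
  classical
  obtain ⟨k, rfl⟩ : ∃ k, n = k + 1 := ⟨n - 1, by omega⟩
  set d : Fˣ → GL (Fin (k + 1)) F :=
    Function.surjInv (Matrix.GeneralLinearGroup.det_surjective (n := Fin (k + 1)) (R := F)) with hd
  have hdet_d : ∀ δ, Matrix.GeneralLinearGroup.det (d δ) = δ := Function.surjInv_eq _
  set uGL : Fˣ → GL (Fin (k + 1)) F := fun δ => d δ * U₀ k * (d δ)⁻¹ with huGL
  have hRU : ∀ δ, RU ((uGL δ : GL (Fin (k + 1)) F) : Matrix (Fin (k + 1)) (Fin (k + 1)) F) :=
    fun δ => RU_conj _ _ (by rw [coe_U₀]; exact RU_one_add_J k)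
  set uSL : Fˣ → Matrix.SpecialLinearGroup (Fin (k + 1)) F :=
    fun δ => ⟨((uGL δ : GL (Fin (k + 1)) F) : Matrix (Fin (k + 1)) (Fin (k + 1)) F),
      (hRU δ).det_eq_one⟩ with huSL
  have htoGL : ∀ δ, Matrix.SpecialLinearGroup.toGL (uSL δ) = uGL δ := fun δ => Units.ext rfl
  set H : Subgroup Fˣ := (powMonoidHom (k + 1) : Fˣ →* Fˣ).range with hH
  have hkey : ∀ δ ε : Fˣ, IsConj (uSL δ) (uSL ε) ↔ δ⁻¹ * ε ∈ H := by
    intro δ ε
    rw [isConj_iff_GL, htoGL, htoGL]
    constructor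
    · rintro ⟨g, hg, h⟩
      have hc : ((d ε)⁻¹ * g * d δ) * U₀ k = U₀ k * ((d ε)⁻¹ * g * d δ) := by
        calc (d ε)⁻¹ * g * d δ * U₀ k = (d ε)⁻¹ * (g * uGL δ) * d δ := by
              simp only [huGL]; group
          _ = (d ε)⁻¹ * (uGL ε * g) * d δ := by rw [h]
          _ = U₀ k * ((d ε)⁻¹ * g * d δ) := by simp only [huGL]; group
      obtain ⟨a, ha⟩ := det_of_commute_U₀ _ hc
      have hg' : Matrix.GeneralLinearGroup.det g = 1 := Units.ext hg
      rw [map_mul, map_mul, map_inv, hdet_d, hdet_d, hg', mul_one] at ha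
      refine ⟨a⁻¹, ?_⟩
      rw [powMonoidHom_apply, inv_pow, ← ha, _root_.mul_inv_rev, inv_inv]
    · rintro ⟨a, ha⟩
      rw [powMonoidHom_apply] at ha
      refine ⟨Matrix.GeneralLinearGroup.scalar (Fin (k + 1)) a⁻¹ * d ε * (d δ)⁻¹, ?_, ?_⟩
      · have : Matrix.GeneralLinearGroup.det
            (Matrix.GeneralLinearGroup.scalar (Fin (k + 1)) a⁻¹ * d ε * (d δ)⁻¹) = 1 := by
          rw [map_mul, map_mul, Matrix.GeneralLinearGroup.det_scalar, map_inv (Matrix.GeneralLinearGroup.det) (d δ),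
            hdet_d, hdet_d, Fintype.card_fin, inv_pow, ha, _root_.mul_inv_rev, inv_inv]
          rw [mul_assoc, mul_assoc, mul_comm ε, ← mul_assoc δ, mul_inv_cancel, one_mul,
            inv_mul_cancel]
        exact congrArg Units.val this
      · have hs := Matrix.GeneralLinearGroup.scalar_commute (n := Fin (k + 1)) (a⁻¹ : Fˣ)
        simp only [huGL]
        calc Matrix.GeneralLinearGroup.scalar (Fin (k + 1)) a⁻¹ * d ε * (d δ)⁻¹ *
              (d δ * U₀ k * (d δ)⁻¹)
            = Matrix.GeneralLinearGroup.scalar (Fin (k + 1)) a⁻¹ * (d ε * U₀ k * (d ε)⁻¹) *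
              (d ε * (d δ)⁻¹) := by group
          _ = (d ε * U₀ k * (d ε)⁻¹) * Matrix.GeneralLinearGroup.scalar (Fin (k + 1)) a⁻¹ *
              (d ε * (d δ)⁻¹) := by rw [hs]
          _ = d ε * U₀ k * (d ε)⁻¹ *
              (Matrix.GeneralLinearGroup.scalar (Fin (k + 1)) a⁻¹ * d ε * (d δ)⁻¹) := by group
  have hRU' : ∀ δ, ((uSL δ : Matrix (Fin (k + 1)) (Fin (k + 1)) F) - 1) ^ (k + 1) = 0 ∧
      ((uSL δ : Matrix (Fin (k + 1)) (Fin (k + 1)) F) - 1).rank = k + 1 - 1 := by
    intro δ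
    have := hRU δ
    unfold RU at this
    simpa using this
  let S := {C : ConjClasses (Matrix.SpecialLinearGroup (Fin (k + 1)) F) //
    ∃ u : Matrix.SpecialLinearGroup (Fin (k + 1)) F, ConjClasses.mk u = C ∧
      ((u : Matrix (Fin (k + 1)) (Fin (k + 1)) F) - 1) ^ (k + 1) = 0 ∧
      ((u : Matrix (Fin (k + 1)) (Fin (k + 1)) F) - 1).rank = k + 1 - 1}
  let f : Fˣ ⧸ H → S := fun x => Quotient.liftOn' x
    (fun δ => (⟨ConjClasses.mk (uSL δ), uSL δ, rfl, hRU' δ⟩ : S)) (fun δ ε h => by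
      rw [QuotientGroup.leftRel_apply] at h
      exact Subtype.ext (ConjClasses.mk_eq_mk_iff_isConj.mpr ((hkey δ ε).mpr h)))
  have hinj : Function.Injective f := by
    intro x y
    induction x using Quotient.inductionOn' with | h δ
    induction y using Quotient.inductionOn' with | h ε
    intro hxy
    have h1 : ConjClasses.mk (uSL δ) = ConjClasses.mk (uSL ε) := congrArg Subtype.val hxy
    rw [ConjClasses.mk_eq_mk_iff_isConj, hkey] at h1
    exact Quotient.sound' (QuotientGroup.leftRel_apply.mpr h1)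
  have hsurj : Function.Surjective f := by
    rintro ⟨C, u, rfl, hu1, hu2⟩
    have hu : RU ((Matrix.SpecialLinearGroup.toGL u : GL (Fin (k + 1)) F) :
        Matrix (Fin (k + 1)) (Fin (k + 1)) F) := by
      refine ⟨hu1, ?_⟩
      simpa using hu2
    obtain ⟨P, hP⟩ := exists_conj_U₀ _ hu
    set δ := Matrix.GeneralLinearGroup.det P with hδ
    have hconj : IsConj (uSL δ) u := by
      rw [isConj_iff_GL, htoGL]
      refine ⟨P * (d δ)⁻¹, ?_, ?_⟩
      · have : Matrix.GeneralLinearGroup.det (P * (d δ)⁻¹) = 1 := by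
          rw [map_mul, map_inv, hdet_d, ← hδ, mul_inv_cancel]
        exact congrArg Units.val this
      · simp only [huGL]
        calc P * (d δ)⁻¹ * (d δ * U₀ k * (d δ)⁻¹) = (P * U₀ k) * (d δ)⁻¹ := by group
          _ = (Matrix.SpecialLinearGroup.toGL u * P) * (d δ)⁻¹ := by rw [hP]
          _ = Matrix.SpecialLinearGroup.toGL u * (P * (d δ)⁻¹) := by group
    refine ⟨QuotientGroup.mk δ, ?_⟩
    apply Subtype.ext
    exact ConjClasses.mk_eq_mk_iff_isConj.mpr hconj
  rw [← Nat.card_congr (Equiv.ofBijective f ⟨hinj, hsurj⟩), ← Subgroup.index_eq_card, hH,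
    IsCyclic.index_powMonoidHom_range, Nat.card_units, Nat.card_eq_fintype_card, hF]
  exact Nat.gcd_comm _ _

end Cfsg.Agent.S2578
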