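import Cfsg.Statements.S2583
import Cfsg.Agent.Helper21.JO6

set_option autoImplicit false
open Cfsg

namespace Cfsg.Agent.S2583

/-- Which unipotent Jordan types occur in a finite orthogonal group in odd characteristic: over a finite field of odd order, a unipotent matrix with Jordan block sizes d_1, …, d_t (sum n, all at least 1) is similar to an isometry of some quadratic form on F^n with non-degenerate polar form if and only if every even block size occurs an even number of times. -/
theorem result {F : Type*} [Field F] [Fintype F] (h2 : (2 : F) ≠ 0) {n t : ℕ} (d : Fin t → ℕ) (hd : ∀ k, 1 ≤ d k) (hsum : ∑ k, d k = n) : (∃ Q : QuadraticForm F (Fin n → F), (QuadraticMap.polarBilin Q).Nondegenerate ∧ ∃ e : ((k : Fin t) × Fin (d k)) ≃ Fin n, ∃ A : ↥(Cfsg.isometryGroup F ⇑Q), IsConj (Matrix.reindex e e (Cfsg.jordanTypeMatrix d F)) ((A : Matrix.GeneralLinearGroup (Fin n) F) : Matrix (Fin n) (Fin n) F)) ↔ ∀ j : ℕ, Even j → 0 < j → Even (Finset.univ.filter (fun k : Fin t => d k = j)).card := by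
  constructor
  · rintro ⟨Q, hQ, e, A, hconj⟩
    have hA : ∀ u, Q (Matrix.mulVec
        ((A : Matrix.GeneralLinearGroup (Fin n) F) : Matrix (Fin n) (Fin n) F) u)
        = Q u := fun u => A.2 u u
    have h1 := Cfsg.Agent.Helper21.JO.goodS_of_isometry Q hQ _ hA
    have h3 := (Cfsg.Agent.Helper21.JO.GoodS.of_isConj hconj h1).reindex e.symm
    have h4 : Matrix.reindex e.symm e.symm (Matrix.reindex e e (Cfsg.jordanTypeMatrix d F))
        = Cfsg.jordanTypeMatrix d F := by
      simp [Matrix.reindex_apply, Matrix.submatrix_submatrix]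
    rw [h4] at h3
    obtain ⟨B, hBu, hBs, hBinv⟩ := h3
    intro j hj hj0
    exact Cfsg.Agent.Helper21.JO.even_of_form_s h2 hd hBu hBs hBinv j hj hj0
  · intro hpar
    have hcard : Fintype.card ((k : Fin t) × Fin (d k)) = n := by
      rw [Fintype.card_sigma, ← hsum]
      apply Finset.sum_congr rfl
      intro k _
      exact Fintype.card_fin _
    exact Cfsg.Agent.Helper21.JO.exists_quadratic_of_goodS h2 hcard _
      (Cfsg.Agent.Helper21.JO.goodS_of_parity h2 hd hpar)

end Cfsg.Agent.S2583
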