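import Cfsg.Statements.S2589
import Cfsg.Agent.Helper12.SympConjJ

set_option autoImplicit false
open Cfsg

namespace Cfsg.Agent.S2589

/-- Two semisimple elements of the finite symplectic group Sp_2m(F) (elements of order prime to the characteristic) are conjugate in Sp_2m(F) if and only if they are conjugate in GL_2m(F). -/
theorem result {F : Type*} [Field F] [Fintype F] {p : ℕ} [Fact p.Prime] [CharP F p] {m : ℕ} (A B : Matrix.symplecticGroup (Fin m) F) (hA : (orderOf A).Coprime p) : IsConj A B ↔ IsConj (A : Matrix (Fin m ⊕ Fin m) (Fin m ⊕ Fin m) F) (B : Matrix (Fin m ⊕ Fin m) (Fin m ⊕ Fin m) F) := by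
  constructor
  · intro hAB
    exact (Matrix.symplecticGroup (Fin m) F).subtype.map_isConj hAB
  · rintro ⟨c, hc⟩
    have hc' : (c : Matrix (Fin m ⊕ Fin m) (Fin m ⊕ Fin m) F) *
        (A : Matrix (Fin m ⊕ Fin m) (Fin m ⊕ Fin m) F) =
        (B : Matrix (Fin m ⊕ Fin m) (Fin m ⊕ Fin m) F) *
          (c : Matrix (Fin m ⊕ Fin m) (Fin m ⊕ Fin m) F) := hc
    have hpowA : (A : Matrix (Fin m ⊕ Fin m) (Fin m ⊕ Fin m) F) ^ orderOf A = 1 := by
      have h1 := pow_orderOf_eq_one A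
      have h2 := congrArg (fun x : ↥(Matrix.symplecticGroup (Fin m) F) =>
        (x : Matrix (Fin m ⊕ Fin m) (Fin m ⊕ Fin m) F)) h1
      simpa only [SubmonoidClass.coe_pow, OneMemClass.coe_one] using h2
    have hpowB : (B : Matrix (Fin m ⊕ Fin m) (Fin m ⊕ Fin m) F) ^ orderOf A = 1 := by
      have h1 : SemiconjBy (c : Matrix (Fin m ⊕ Fin m) (Fin m ⊕ Fin m) F)
          ((A : Matrix (Fin m ⊕ Fin m) (Fin m ⊕ Fin m) F) ^ orderOf A)
          ((B : Matrix (Fin m ⊕ Fin m) (Fin m ⊕ Fin m) F) ^ orderOf A) := hc.pow_right _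
      rw [hpowA] at h1
      have h2 : (c : Matrix (Fin m ⊕ Fin m) (Fin m ⊕ Fin m) F) * 1 =
          (B : Matrix (Fin m ⊕ Fin m) (Fin m ⊕ Fin m) F) ^ orderOf A *
            (c : Matrix (Fin m ⊕ Fin m) (Fin m ⊕ Fin m) F) := h1
      rw [mul_one] at h2
      have h3 : (1 : Matrix (Fin m ⊕ Fin m) (Fin m ⊕ Fin m) F) *
          (c : Matrix (Fin m ⊕ Fin m) (Fin m ⊕ Fin m) F) =
          (B : Matrix (Fin m ⊕ Fin m) (Fin m ⊕ Fin m) F) ^ orderOf A *
            (c : Matrix (Fin m ⊕ Fin m) (Fin m ⊕ Fin m) F) := by rw [one_mul]; exact h2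
      exact (c.mul_left_inj.1 h3).symm
    have hcp : (A : Matrix (Fin m ⊕ Fin m) (Fin m ⊕ Fin m) F).charpoly =
        (B : Matrix (Fin m ⊕ Fin m) (Fin m ⊕ Fin m) F).charpoly := by
      have hB : (B : Matrix (Fin m ⊕ Fin m) (Fin m ⊕ Fin m) F) =
          (c : Matrix (Fin m ⊕ Fin m) (Fin m ⊕ Fin m) F) *
            (A : Matrix (Fin m ⊕ Fin m) (Fin m ⊕ Fin m) F) *
            ((c⁻¹ : (Matrix (Fin m ⊕ Fin m) (Fin m ⊕ Fin m) F)ˣ) :
              Matrix (Fin m ⊕ Fin m) (Fin m ⊕ Fin m) F) := by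
        rw [hc', mul_assoc, Units.mul_inv, mul_one]
      rw [hB, Matrix.coe_units_inv, Matrix.charpoly_units_conj]
    have hne := Cfsg.Agent.Helper12.SympConj.natCast_ne_zero_of_coprime (F := F) p hA
    exact Cfsg.Agent.Helper12.SympConj.sp_isConj_of_semisimple m A B
      (Cfsg.Agent.Helper12.SympConj.isSemisimple_toLin'_of_pow_eq_one _ (orderOf A) hne hpowA)
      (Cfsg.Agent.Helper12.SympConj.isSemisimple_toLin'_of_pow_eq_one _ (orderOf A) hne hpowB) hcp

end Cfsg.Agent.S2589
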