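import Cfsg.Statements.S2590
import Cfsg.Agent.Helper12.OrthConjD

set_option autoImplicit false
open Cfsg

namespace Cfsg.Agent.S2590

/-- Two semisimple elements of odd order of a finite orthogonal group (isometry group of a quadratic form on F^n with non-degenerate polar form, F finite of characteristic p; the elements have odd order prime to p) are conjugate in the orthogonal group if and only if they are conjugate in GL_n(F). -/
theorem result {F : Type*} [Field F] [Fintype F] {p : ℕ} [Fact p.Prime] [CharP F p] {n : ℕ} (Q : QuadraticForm F (Fin n → F)) (hQ : (QuadraticMap.polarBilin Q).Nondegenerate) (A B : ↥(Cfsg.isometryGroup F ⇑Q)) (hodd : Odd (orderOf A)) (hA : (orderOf A).Coprime p) : IsConj A B ↔ IsConj ((A : Matrix.GeneralLinearGroup (Fin n) F) : Matrix (Fin n) (Fin n) F) ((B : Matrix.GeneralLinearGroup (Fin n) F) : Matrix (Fin n) (Fin n) F) := by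
  constructor
  · intro hAB
    exact ((Units.coeHom (Matrix (Fin n) (Fin n) F)).comp
      (Cfsg.isometryGroup F ⇑Q).subtype).map_isConj hAB
  · rintro ⟨c, hc⟩
    have hc' : (c : Matrix (Fin n) (Fin n) F) *
        ((A : Matrix.GeneralLinearGroup (Fin n) F) : Matrix (Fin n) (Fin n) F) =
        ((B : Matrix.GeneralLinearGroup (Fin n) F) : Matrix (Fin n) (Fin n) F) *
          (c : Matrix (Fin n) (Fin n) F) := hc
    have hpowA : ((A : Matrix.GeneralLinearGroup (Fin n) F) : Matrix (Fin n) (Fin n) F) ^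
        orderOf A = 1 := by
      have h1 := pow_orderOf_eq_one A
      have h2 := congrArg (fun x : ↥(Cfsg.isometryGroup F ⇑Q) =>
        ((x : Matrix.GeneralLinearGroup (Fin n) F) : Matrix (Fin n) (Fin n) F)) h1
      simpa only [SubgroupClass.coe_pow, Units.val_pow_eq_pow_val, OneMemClass.coe_one,
        Units.val_one] using h2
    have hpowB : ((B : Matrix.GeneralLinearGroup (Fin n) F) : Matrix (Fin n) (Fin n) F) ^
        orderOf A = 1 := by
      have h1 : SemiconjBy (c : Matrix (Fin n) (Fin n) F)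
          (((A : Matrix.GeneralLinearGroup (Fin n) F) : Matrix (Fin n) (Fin n) F) ^ orderOf A)
          (((B : Matrix.GeneralLinearGroup (Fin n) F) : Matrix (Fin n) (Fin n) F) ^ orderOf A) :=
        hc.pow_right _
      rw [hpowA] at h1
      have h2 : (c : Matrix (Fin n) (Fin n) F) * 1 =
          ((B : Matrix.GeneralLinearGroup (Fin n) F) : Matrix (Fin n) (Fin n) F) ^ orderOf A *
            (c : Matrix (Fin n) (Fin n) F) := h1
      rw [mul_one] at h2
      have h3 : (1 : Matrix (Fin n) (Fin n) F) * (c : Matrix (Fin n) (Fin n) F) =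
          ((B : Matrix.GeneralLinearGroup (Fin n) F) : Matrix (Fin n) (Fin n) F) ^ orderOf A *
            (c : Matrix (Fin n) (Fin n) F) := by rw [one_mul]; exact h2
      exact (c.mul_left_inj.1 h3).symm
    have hkF := Cfsg.Agent.Helper12.SympConj.natCast_ne_zero_of_coprime (F := F) p hA
    have hisoA : ∀ x, Q (Matrix.toLin'
        ((A : Matrix.GeneralLinearGroup (Fin n) F) : Matrix (Fin n) (Fin n) F) x) = Q x := by
      intro x
      rw [Matrix.toLin'_apply]
      exact A.2 x x
    have hisoB : ∀ x, Q (Matrix.toLin'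
        ((B : Matrix.GeneralLinearGroup (Fin n) F) : Matrix (Fin n) (Fin n) F) x) = Q x := by
      intro x
      rw [Matrix.toLin'_apply]
      exact B.2 x x
    let ψ : (Fin n → F) ≃ₗ[F] (Fin n → F) :=
      LinearEquiv.ofLinearMap (Matrix.toLin' (c : Matrix (Fin n) (Fin n) F))
        (Matrix.toLin' ((c⁻¹ : (Matrix (Fin n) (Fin n) F)ˣ) : Matrix (Fin n) (Fin n) F))
        (by rw [← Matrix.toLin'_mul, Units.mul_inv, Matrix.toLin'_one])
        (by rw [← Matrix.toLin'_mul, Units.inv_mul, Matrix.toLin'_one])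
    have hψ : ∀ x, ψ (Matrix.toLin'
        ((A : Matrix.GeneralLinearGroup (Fin n) F) : Matrix (Fin n) (Fin n) F) x) =
        Matrix.toLin' ((B : Matrix.GeneralLinearGroup (Fin n) F) : Matrix (Fin n) (Fin n) F)
          (ψ x) := by
      intro x
      change Matrix.toLin' (c : Matrix (Fin n) (Fin n) F) (Matrix.toLin' _ x) =
        Matrix.toLin' _ (Matrix.toLin' (c : Matrix (Fin n) (Fin n) F) x)
      rw [← Matrix.toLin'_mul_apply, ← Matrix.toLin'_mul_apply, hc']
    obtain ⟨Φ, hΦQ, hΦ⟩ := Cfsg.Agent.Helper12.OrthConj.exists_quadratic_isometry Q hQ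
      (Matrix.toLin' ((A : Matrix.GeneralLinearGroup (Fin n) F) : Matrix (Fin n) (Fin n) F))
      (Matrix.toLin' ((B : Matrix.GeneralLinearGroup (Fin n) F) : Matrix (Fin n) (Fin n) F))
      hisoA hisoB (orderOf A) hodd hkF
      (by rw [← Matrix.toLin'_pow, hpowA, Matrix.toLin'_one]; rfl)
      (by rw [← Matrix.toLin'_pow, hpowB, Matrix.toLin'_one]; rfl) ψ hψ
    have h1 : LinearMap.toMatrix' (Φ : (Fin n → F) →ₗ[F] (Fin n → F)) *
        LinearMap.toMatrix' (Φ.symm : (Fin n → F) →ₗ[F] (Fin n → F)) = 1 := by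
      rw [← LinearMap.toMatrix'_comp, LinearEquiv.comp_coe, LinearEquiv.symm_trans_self,
        LinearEquiv.refl_toLinearMap, LinearMap.toMatrix'_id]
    have h2 : LinearMap.toMatrix' (Φ.symm : (Fin n → F) →ₗ[F] (Fin n → F)) *
        LinearMap.toMatrix' (Φ : (Fin n → F) →ₗ[F] (Fin n → F)) = 1 := by
      rw [← LinearMap.toMatrix'_comp, LinearEquiv.comp_coe, LinearEquiv.self_trans_symm,
        LinearEquiv.refl_toLinearMap, LinearMap.toMatrix'_id]
    let P : Matrix.GeneralLinearGroup (Fin n) F := ⟨_, _, h1, h2⟩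
    have hPmem : P ∈ Cfsg.isometryGroup F ⇑Q := by
      intro u v
      change Q (Matrix.mulVec (LinearMap.toMatrix' (Φ : (Fin n → F) →ₗ[F] (Fin n → F))) u) = Q u
      rw [LinearMap.toMatrix'_mulVec]
      exact hΦQ u
    have hcomm : LinearMap.toMatrix' (Φ : (Fin n → F) →ₗ[F] (Fin n → F)) *
        ((A : Matrix.GeneralLinearGroup (Fin n) F) : Matrix (Fin n) (Fin n) F) =
        ((B : Matrix.GeneralLinearGroup (Fin n) F) : Matrix (Fin n) (Fin n) F) *
          LinearMap.toMatrix' (Φ : (Fin n → F) →ₗ[F] (Fin n → F)) := by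
      have e1 : ((A : Matrix.GeneralLinearGroup (Fin n) F) : Matrix (Fin n) (Fin n) F) =
          LinearMap.toMatrix' (Matrix.toLin'
            ((A : Matrix.GeneralLinearGroup (Fin n) F) : Matrix (Fin n) (Fin n) F)) :=
        (LinearMap.toMatrix'_toLin' _).symm
      have e2 : ((B : Matrix.GeneralLinearGroup (Fin n) F) : Matrix (Fin n) (Fin n) F) =
          LinearMap.toMatrix' (Matrix.toLin'
            ((B : Matrix.GeneralLinearGroup (Fin n) F) : Matrix (Fin n) (Fin n) F)) :=
        (LinearMap.toMatrix'_toLin' _).symm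
      rw [e1, e2, ← LinearMap.toMatrix'_comp, ← LinearMap.toMatrix'_comp]
      congr 1
      apply LinearMap.ext
      intro x
      exact hΦ x
    rw [isConj_iff]
    refine ⟨⟨P, hPmem⟩, ?_⟩
    rw [mul_inv_eq_iff_eq_mul]
    apply Subtype.ext
    apply Units.ext
    exact hcomm

end Cfsg.Agent.S2590
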