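import Cfsg.Statements.S2591
import Cfsg.Agent.Helper21.SpReg10

set_option autoImplicit false
open Cfsg

namespace Cfsg.Agent.S2591

/-- Over a finite field of odd order and for m ≥ 1, the regular unipotent elements of Sp_2m(F) (u − 1 nilpotent of rank 2m − 1, a single Jordan block) form exactly two conjugacy classes of Sp_2m(F) (one class under the similarity group, which splits in two). -/
theorem result {F : Type*} [Field F] [Fintype F] {q : ℕ} (hF : Fintype.card F = q) (hq : Odd q) {m : ℕ} (hm : 1 ≤ m) : Nat.card {C : ConjClasses ↥(Matrix.symplecticGroup (Fin m) F) // ∃ u : Matrix.symplecticGroup (Fin m) F, ConjClasses.mk u = C ∧ ((u : Matrix (Fin m ⊕ Fin m) (Fin m ⊕ Fin m) F) - 1) ^ (2 * m) = 0 ∧ ((u : Matrix (Fin m ⊕ Fin m) (Fin m ⊕ Fin m) F) - 1).rank = 2 * m - 1} = 2 := by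
  classical
  have h2 : (2 : F) ≠ 0 := by
    intro h
    have h3 : ringChar F = 2 := CharP.ringChar_of_prime_eq_zero Nat.prime_two (by exact_mod_cast h)
    have h4 := FiniteField.even_card_of_char_two h3
    rw [hF] at h4
    have := Nat.odd_iff.mp hq
    omega
  obtain ⟨U₀, U₁, hU₀, hU₁, hreg₀, hreg₁, hne, hall⟩ :=
    Cfsg.Agent.Helper21.SpReg.two_classes_mat (F := F) (m := m) h2 hm
  -- coercion of inverses
  have hinv : ∀ k : Matrix.symplecticGroup (Fin m) F,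
      (k : Matrix (Fin m ⊕ Fin m) (Fin m ⊕ Fin m) F) * ((k⁻¹ : Matrix.symplecticGroup (Fin m) F) :
        Matrix (Fin m ⊕ Fin m) (Fin m ⊕ Fin m) F) = 1 ∧
      ((k⁻¹ : Matrix.symplecticGroup (Fin m) F) : Matrix (Fin m ⊕ Fin m) (Fin m ⊕ Fin m) F) *
        (k : Matrix (Fin m ⊕ Fin m) (Fin m ⊕ Fin m) F) = 1 := by
    intro k
    constructor
    · have := congrArg Subtype.val (mul_inv_cancel k)
      exact this
    · have := congrArg Subtype.val (inv_mul_cancel k)
      exact this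
  rw [Nat.card_eq_two_iff]
  refine ⟨⟨ConjClasses.mk ⟨U₀, hU₀⟩, ⟨U₀, hU₀⟩, rfl, hreg₀.1, hreg₀.2⟩,
    ⟨ConjClasses.mk ⟨U₁, hU₁⟩, ⟨U₁, hU₁⟩, rfl, hreg₁.1, hreg₁.2⟩, ?_, ?_⟩
  · intro h
    have h3 := congrArg Subtype.val h
    simp only at h3
    rw [ConjClasses.mk_eq_mk_iff_isConj, isConj_iff] at h3
    obtain ⟨k, hk⟩ := h3
    have h4 := congrArg Subtype.val hk
    exact hne k.1 (k⁻¹ : Matrix.symplecticGroup (Fin m) F).1 (hinv k).1 (hinv k).2
      ((Cfsg.Agent.Helper21.SpReg.mem_iff_sig k.1).mp k.2) h4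
  · apply Set.eq_univ_of_forall
    rintro ⟨C, u, rfl, hu1, hu2⟩
    obtain ⟨k, k', h1, h2', h3, h4⟩ := hall u.1 u.2 hu1 hu2
    have hk : k ∈ Matrix.symplecticGroup (Fin m) F :=
      (Cfsg.Agent.Helper21.SpReg.mem_iff_sig k).mpr h3
    have hk' : ((⟨k, hk⟩ : Matrix.symplecticGroup (Fin m) F)⁻¹ : Matrix.symplecticGroup (Fin m) F).1
        = k' := by
      have h5 := (hinv ⟨k, hk⟩).1
      calc ((⟨k, hk⟩ : Matrix.symplecticGroup (Fin m) F)⁻¹ : Matrix.symplecticGroup (Fin m) F).1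
          = (k' * k) * ((⟨k, hk⟩ : Matrix.symplecticGroup (Fin m) F)⁻¹ :
              Matrix.symplecticGroup (Fin m) F).1 := by rw [h2', one_mul]
        _ = k' * (k * ((⟨k, hk⟩ : Matrix.symplecticGroup (Fin m) F)⁻¹ :
              Matrix.symplecticGroup (Fin m) F).1) := by rw [Matrix.mul_assoc]
        _ = k' := by rw [h5, mul_one]
    rcases h4 with h4 | h4
    · left
      apply Subtype.ext
      show ConjClasses.mk u = ConjClasses.mk ⟨U₀, hU₀⟩
      rw [eq_comm, ConjClasses.mk_eq_mk_iff_isConj, isConj_iff]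
      refine ⟨⟨k, hk⟩, ?_⟩
      apply Subtype.ext
      show k * U₀ * ((⟨k, hk⟩ : Matrix.symplecticGroup (Fin m) F)⁻¹ :
        Matrix.symplecticGroup (Fin m) F).1 = u.1
      rw [hk', h4]
    · right
      apply Subtype.ext
      show ConjClasses.mk u = ConjClasses.mk ⟨U₁, hU₁⟩
      rw [eq_comm, ConjClasses.mk_eq_mk_iff_isConj, isConj_iff]
      refine ⟨⟨k, hk⟩, ?_⟩
      apply Subtype.ext
      show k * U₁ * ((⟨k, hk⟩ : Matrix.symplecticGroup (Fin m) F)⁻¹ :
        Matrix.symplecticGroup (Fin m) F).1 = u.1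
      rw [hk', h4]

end Cfsg.Agent.S2591
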