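import Cfsg.Statements.S2592
import Cfsg.Agent.Helper21.SpReg5

set_option autoImplicit false
open Cfsg

namespace Cfsg.Agent.S2592

/-- Over a finite field with q elements, q odd, the centraliser in Sp_2m(F) (m ≥ 1) of a regular unipotent element (u − 1 nilpotent of rank 2m − 1) has order 2 q^m. -/
theorem result {F : Type*} [Field F] [Fintype F] {q : ℕ} (hF : Fintype.card F = q) (hq : Odd q) {m : ℕ} (hm : 1 ≤ m) (u : Matrix.symplecticGroup (Fin m) F) (hnil : ((u : Matrix (Fin m ⊕ Fin m) (Fin m ⊕ Fin m) F) - 1) ^ (2 * m) = 0) (hreg : ((u : Matrix (Fin m ⊕ Fin m) (Fin m ⊕ Fin m) F) - 1).rank = 2 * m - 1) : Nat.card ↥(Subgroup.centralizer ({u} : Set ↥(Matrix.symplecticGroup (Fin m) F))) = 2 * q ^ m := by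
  classical
  have h2 : (2 : F) ≠ 0 := by
    intro h
    have h3 : ringChar F = 2 := CharP.ringChar_of_prime_eq_zero Nat.prime_two (by exact_mod_cast h)
    have h4 := FiniteField.even_card_of_char_two h3
    rw [hF] at h4
    have := Nat.odd_iff.mp hq
    omega
  have key := Cfsg.Agent.Helper21.SpReg.card_centralizer_mat h2 hm
    (u : Matrix (Fin m ⊕ Fin m) (Fin m ⊕ Fin m) F) u.2 hnil hreg
  rw [Nat.card_eq_fintype_card (α := F), hF] at key
  rw [← key]
  refine Nat.card_congr
    { toFun := fun g => ⟨g.1.1, g.1.2, by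
        have h := Subgroup.mem_centralizer_singleton_iff.mp g.2
        exact congrArg Subtype.val h⟩
      invFun := fun g => ⟨⟨g.1, g.2.1⟩, by
        rw [Subgroup.mem_centralizer_singleton_iff]
        exact Subtype.ext g.2.2⟩
      left_inv := fun g => rfl
      right_inv := fun g => rfl }

end Cfsg.Agent.S2592
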