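import Mathlib
import Cfsg.Statements.S2599

set_option autoImplicit false
open Cfsg

namespace Cfsg.Agent.S2599

theorem result {F : Type*} [Field F] [Fintype F] {p : ℕ} [Fact p.Prime] [CharP F p] {n : ℕ} (Q : QuadraticForm F (Fin n → F)) (hQ : (QuadraticMap.polarBilin Q).Nondegenerate) (x : ↥(Cfsg.isometryGroup F ⇑Q)) (hx : (orderOf x).Coprime p) (U : Submodule F (Fin n → F)) (hU0 : U ≠ ⊥) (hUx : ∀ u ∈ U, ((x : Matrix.GeneralLinearGroup (Fin n) F) : Matrix (Fin n) (Fin n) F).mulVec u ∈ U) (hirr : ∀ W : Submodule F (Fin n → F), W ≤ U → (∀ w ∈ W, ((x : Matrix.GeneralLinearGroup (Fin n) F) : Matrix (Fin n) (Fin n) F).mulVec w ∈ W) → W = ⊥ ∨ W = U) : U ⊓ LinearMap.BilinForm.orthogonal (QuadraticMap.polarBilin Q) U = ⊥ ∨ (∀ u ∈ U, Q u = 0) ∨ (p = 2 ∧ Module.finrank F U = 1 ∧ (∃ u ∈ U, Q u ≠ 0) ∧ ∀ u ∈ U, ((x : Matrix.GeneralLinearGroup (Fin n) F) : Matrix (Fin n) (Fin n) F).mulVec u = u) := by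
  classical
  set X : Matrix (Fin n) (Fin n) F := ((x : Matrix.GeneralLinearGroup (Fin n) F) : Matrix (Fin n) (Fin n) F) with hX
  set B : LinearMap.BilinForm F (Fin n → F) := QuadraticMap.polarBilin Q with hB
  have hiso : ∀ u, Q (X.mulVec u) = Q u := fun u => x.2 u u
  have hBapp : ∀ u v, B u v = Q (u + v) - Q u - Q v := fun u v => rfl
  have hBX : ∀ u v, B (X.mulVec u) (X.mulVec v) = B u v := by
    intro u v
    rw [hBapp, hBapp, ← Matrix.mulVec_add, hiso, hiso, hiso]
  -- X is injective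
  have hXinj : Function.Injective (Matrix.mulVecLin X) := by
    have hinv : ((x : Matrix.GeneralLinearGroup (Fin n) F)⁻¹ : Matrix.GeneralLinearGroup (Fin n) F).1 * X = 1 := by
      rw [hX, ← Units.val_mul, inv_mul_cancel]; rfl
    intro a b hab
    have h1 : X.mulVec a = X.mulVec b := hab
    have := congrArg (fun z => ((x : Matrix.GeneralLinearGroup (Fin n) F)⁻¹ : Matrix.GeneralLinearGroup (Fin n) F).1.mulVec z) h1
    simp only [Matrix.mulVec_mulVec] at this
    rw [hinv, Matrix.one_mulVec, Matrix.one_mulVec] at this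
    exact this
  -- X U = U
  have hmap : U.map (Matrix.mulVecLin X) = U := by
    apply Submodule.eq_of_le_of_finrank_le
    · rintro _ ⟨w, hw, rfl⟩
      exact hUx w hw
    · exact le_of_eq (Submodule.equivMapOfInjective _ hXinj U).finrank_eq
  -- W0 = U ⊓ U^⊥ is invariant
  have hW0inv : ∀ w ∈ U ⊓ B.orthogonal U, X.mulVec w ∈ U ⊓ B.orthogonal U := by
    rintro w ⟨hwU, hwO⟩
    refine ⟨hUx w hwU, ?_⟩
    rw [SetLike.mem_coe, LinearMap.BilinForm.mem_orthogonal_iff]
    intro u hu
    have : u ∈ U.map (Matrix.mulVecLin X) := by rw [hmap]; exact hu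
    obtain ⟨u', hu', rfl⟩ := this
    show B (X.mulVec u') (X.mulVec w) = 0
    rw [hBX]
    exact (LinearMap.BilinForm.mem_orthogonal_iff.mp hwO) u' hu'
  rcases hirr (U ⊓ B.orthogonal U) inf_le_left hW0inv with h0 | h0
  · exact Or.inl h0
  right
  -- U is totally isotropic for B
  have hBU : ∀ u ∈ U, ∀ v ∈ U, B u v = 0 := by
    intro u hu v hv
    have hv' : v ∈ U ⊓ B.orthogonal U := by rw [h0]; exact hv
    exact (LinearMap.BilinForm.mem_orthogonal_iff.mp hv'.2) u hu
  have hQadd : ∀ u ∈ U, ∀ v ∈ U, Q (u + v) = Q u + Q v := by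
    intro u hu v hv
    have := hBU u hu v hv
    rw [hBapp] at this
    linear_combination this
  -- W1 = singular vectors of U
  let W1 : Submodule F (Fin n → F) :=
    { carrier := {u | u ∈ U ∧ Q u = 0}
      add_mem' := by
        rintro a b ⟨haU, ha⟩ ⟨hbU, hb⟩
        exact ⟨U.add_mem haU hbU, by rw [hQadd a haU b hbU, ha, hb, add_zero]⟩
      zero_mem' := ⟨U.zero_mem, by simp⟩
      smul_mem' := by
        rintro c a ⟨haU, ha⟩
        exact ⟨U.smul_mem c haU, by rw [QuadraticMap.map_smul, ha, smul_zero]⟩ }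
  have hW1le : W1 ≤ U := fun u hu => hu.1
  have hW1inv : ∀ w ∈ W1, X.mulVec w ∈ W1 := by
    rintro w ⟨hwU, hw⟩
    exact ⟨hUx w hwU, by rw [hiso, hw]⟩
  rcases hirr W1 hW1le hW1inv with h1 | h1
  swap
  · left
    intro u hu
    have : u ∈ W1 := by rw [h1]; exact hu
    exact this.2
  right
  have hns : ∀ u ∈ U, Q u = 0 → u = 0 := by
    intro u hu hq
    have : u ∈ W1 := ⟨hu, hq⟩
    rw [h1] at this
    exact (Submodule.mem_bot F).mp this
  obtain ⟨u0, hu0U, hu0⟩ := (Submodule.ne_bot_iff U).mp hU0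
  have hQu0 : Q u0 ≠ 0 := fun h => hu0 (hns u0 hu0U h)
  -- p = 2
  have hp2 : p = 2 := by
    by_contra hp
    have h2 : (2 : F) ≠ 0 := by
      intro h
      have : ((2 : ℕ) : F) = 0 := by exact_mod_cast h
      rw [CharP.cast_eq_zero_iff F p 2] at this
      have := (Nat.prime_dvd_prime_iff_eq (Fact.out : p.Prime) Nat.prime_two).mp this
      exact hp this
    have hB00 := hBU u0 hu0U u0 hu0U
    rw [hBapp] at hB00
    have h4 : Q (u0 + u0) = 4 * Q u0 := by
      have : u0 + u0 = (2 : F) • u0 := by rw [two_smul]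
      rw [this, QuadraticMap.map_smul, smul_eq_mul]; ring
    rw [h4] at hB00
    have : (2 : F) * Q u0 = 0 := by linear_combination hB00
    rcases mul_eq_zero.mp this with h | h
    · exact h2 h
    · exact hQu0 h
  subst hp2
  have h2F : (2 : F) = 0 := by
    have := CharP.cast_eq_zero F 2
    exact_mod_cast this
  have hchar : ringChar F = 2 := ringChar.eq F 2
  -- every element of U is a multiple of u0
  have hspan : ∀ v ∈ U, ∃ c : F, c • u0 = v := by
    intro v hv
    obtain ⟨c, hc⟩ := FiniteField.isSquare_of_char_two hchar (Q v / Q u0)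
    refine ⟨c, ?_⟩
    have hmem : v + c • u0 ∈ U := U.add_mem hv (U.smul_mem c hu0U)
    have hq : Q (v + c • u0) = 0 := by
      rw [hQadd v hv (c • u0) (U.smul_mem c hu0U), QuadraticMap.map_smul, smul_eq_mul, ← hc]
      field_simp
      linear_combination (Q v) * h2F
    have := hns _ hmem hq
    have h3 : v = -(c • u0) := eq_neg_of_add_eq_zero_left this
    have hneg : -(c • u0) = c • u0 := by
      have : (c • u0) + (c • u0) = 0 := by
        rw [← two_smul F (c • u0), h2F, zero_smul]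
      exact (eq_neg_of_add_eq_zero_left this).symm
    rw [h3, hneg]
  refine ⟨rfl, ?_, ⟨u0, hu0U, hQu0⟩, ?_⟩
  · rw [finrank_eq_one_iff_of_nonzero' (⟨u0, hu0U⟩ : U) (by
      intro h; exact hu0 (congrArg Subtype.val h))]
    rintro ⟨w, hw⟩
    obtain ⟨c, hc⟩ := hspan w hw
    exact ⟨c, Subtype.ext hc⟩
  · -- X u0 = u0
    obtain ⟨l, hl⟩ := hspan (X.mulVec u0) (hUx u0 hu0U)
    have hl2 : l * l = 1 := by
      have := hiso u0
      rw [← hl, QuadraticMap.map_smul, smul_eq_mul] at this
      have h5 : (l * l - 1) * Q u0 = 0 := by linear_combination this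
      rcases mul_eq_zero.mp h5 with h | h
      · linear_combination h
      · exact absurd h hQu0
    have hl1 : l = 1 := by
      have : (l - 1) * (l - 1) = 0 := by
        linear_combination hl2 - l * h2F + h2F
      have := mul_self_eq_zero.mp this
      linear_combination this
    have hXu0 : X.mulVec u0 = u0 := by rw [← hl, hl1, one_smul]
    intro u hu
    obtain ⟨c, rfl⟩ := hspan u hu
    rw [Matrix.mulVec_smul, hXu0]

end Cfsg.Agent.S2599
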