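import Mathlib
import Cfsg.Statements.S2610
import Cfsg.Agent.Helper28.Spin5

set_option autoImplicit false

namespace Cfsg.Agent.S2610

open Cfsg.Agent.Helper28.Spin

theorem result {F : Type*} [Field F] [Fintype F] (h2 : (2 : F) ≠ 0) {n : ℕ} (hn : 2 ≤ n) (he : Even n) (Q : QuadraticForm F (Fin n → F)) (hQ : (QuadraticMap.polarBilin Q).Nondegenerate) : (∃ g : ↥(Cfsg.isometryGroup F ⇑Q), g ∈ Cfsg.Omega F ⇑Q ∧ ((g : Matrix.GeneralLinearGroup (Fin n) F) : Matrix (Fin n) (Fin n) F) = -1) ↔ IsSquare (Matrix.of (fun i j : Fin n => QuadraticMap.polar ⇑Q (Pi.single i 1) (Pi.single j 1))).det :=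
  neg_one_mem_Omega_iff Q h2 hQ (by rw [Fintype.card_fin]; exact he)

end Cfsg.Agent.S2610
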