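import Mathlib
import Cfsg.Statements.S2612
import Cfsg.Agent.Helper28.QPlus3

set_option autoImplicit false
open Cfsg

namespace Cfsg.Agent.S2612

open Matrix Module Cfsg.Agent.Helper28.QPlus Cfsg.Agent.Helper28
open scoped commutatorElement

variable {F : Type*} [Field F] {m : ℕ}

theorem mem_E_iff (v : Vm m F) : v ∈ E m F ↔ ∀ i, v (Sum.inr i) = 0 := by
  constructor
  · rintro ⟨x, rfl⟩ i
    simp [iotaE]
  · intro h
    refine ⟨fun i => v (Sum.inl i), ?_⟩
    funext s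
    rcases s with i | i
    · rfl
    · simp [iotaE, h i]

theorem mem_E'_iff (v : Vm m F) : v ∈ E' m F ↔ ∀ i, v (Sum.inl i) = 0 := by
  constructor
  · rintro ⟨x, rfl⟩ i
    simp [iotaE']
  · intro h
    refine ⟨fun i => v (Sum.inr i), ?_⟩
    funext s
    rcases s with i | i
    · simp [iotaE', h i]
    · rfl

theorem E_inf_E' : E m F ⊓ E' m F = ⊥ := by
  rw [eq_bot_iff]
  rintro v ⟨h1, h2⟩
  rw [SetLike.mem_coe, mem_E_iff] at h1
  rw [SetLike.mem_coe, mem_E'_iff] at h2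
  rw [Submodule.mem_bot]
  funext s
  rcases s with i | i
  · exact h2 i
  · exact h1 i

/-! ### permutation-like matrices -/

/-- the matrix of `v ↦ v ∘ f` -/
def pm (f : Fin m ⊕ Fin m → Fin m ⊕ Fin m) : Matrix (Fin m ⊕ Fin m) (Fin m ⊕ Fin m) F :=
  Matrix.of fun a b => if f a = b then 1 else 0

theorem pm_mulVec (f : Fin m ⊕ Fin m → Fin m ⊕ Fin m) (v : Vm m F) : pm f *ᵥ v = v ∘ f := by
  funext a
  simp [pm, Matrix.mulVec, dotProduct]

theorem pm_mul (f g : Fin m ⊕ Fin m → Fin m ⊕ Fin m) :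
    (pm f : Matrix _ _ F) * pm g = pm (g ∘ f) := by
  ext a c
  simp only [pm, Matrix.mul_apply, Matrix.of_apply, Function.comp_apply]
  rw [Finset.sum_eq_single (f a)]
  · simp
  · intro b _ hb
    simp [Ne.symm hb]
  · simp

theorem pm_id : (pm id : Matrix (Fin m ⊕ Fin m) (Fin m ⊕ Fin m) F) = 1 := by
  ext a b
  simp [pm, Matrix.one_apply]

/-- the isometry attached to an involutive, form-preserving index map -/
def pmO (f : Fin m ⊕ Fin m → Fin m ⊕ Fin m) (hf : f ∘ f = id)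
    (hQ : ∀ v : Vm m F, Cfsg.quadFormPlus m F (v ∘ f) = Cfsg.quadFormPlus m F v) : OQ m F :=
  ⟨⟨pm f, pm f, by rw [pm_mul, hf, pm_id], by rw [pm_mul, hf, pm_id]⟩,
    (IsoTransport.mem_isometryGroup_iff _ _).mpr (fun u => by
      show Cfsg.quadFormPlus m F (pm f *ᵥ u) = _
      rw [pm_mulVec, hQ])⟩

theorem mat_pmO (f : Fin m ⊕ Fin m → Fin m ⊕ Fin m) (hf : f ∘ f = id)
    (hQ : ∀ v : Vm m F, Cfsg.quadFormPlus m F (v ∘ f) = Cfsg.quadFormPlus m F v) :
    mat (pmO f hf hQ) = pm f := rfl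

theorem pmO_inv (f : Fin m ⊕ Fin m → Fin m ⊕ Fin m) (hf : f ∘ f = id)
    (hQ : ∀ v : Vm m F, Cfsg.quadFormPlus m F (v ∘ f) = Cfsg.quadFormPlus m F v) :
    (pmO f hf hQ)⁻¹ = pmO f hf hQ := by
  apply inv_eq_of_mul_eq_one_right
  apply Subtype.ext
  apply Units.ext
  show pm f * pm f = (1 : Matrix _ _ F)
  rw [pm_mul, hf, pm_id]

/-- partner index -/
def eIdx (hm : Even m) (i : Fin m) : Fin m :=
  if h : i.val % 2 = 0 then ⟨i.val + 1, by
    obtain ⟨k, hk⟩ := hm
    have := i.2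
    omega⟩ else ⟨i.val - 1, by have := i.2; omega⟩

theorem eIdx_val (hm : Even m) (i : Fin m) :
    (eIdx hm i).val = if i.val % 2 = 0 then i.val + 1 else i.val - 1 := by
  unfold eIdx
  split_ifs <;> rfl

theorem eIdx_invol (hm : Even m) (i : Fin m) : eIdx hm (eIdx hm i) = i := by
  apply Fin.ext
  rw [eIdx_val, eIdx_val]
  split_ifs <;> omega

theorem eIdx_parity (hm : Even m) (i : Fin m) : (eIdx hm i).val % 2 = 0 ↔ ¬ i.val % 2 = 0 := by
  rw [eIdx_val]
  split_ifs <;> omega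

/-- half swap -/
def tP : Fin m ⊕ Fin m → Fin m ⊕ Fin m
  | Sum.inl i => if i.val % 2 = 0 then Sum.inr i else Sum.inl i
  | Sum.inr i => if i.val % 2 = 0 then Sum.inl i else Sum.inr i

/-- pairing shift -/
def rP (hm : Even m) : Fin m ⊕ Fin m → Fin m ⊕ Fin m
  | Sum.inl i => Sum.inl (eIdx hm i)
  | Sum.inr i => Sum.inr (eIdx hm i)

theorem tP_invol : (tP : Fin m ⊕ Fin m → Fin m ⊕ Fin m) ∘ tP = id := by
  funext a
  rcases a with i | i <;> by_cases h : i.val % 2 = 0 <;> simp [tP, h]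

theorem rP_invol (hm : Even m) : rP hm ∘ rP hm = id := by
  funext a
  rcases a with i | i <;> simp [rP, eIdx_invol]

theorem tP_Q (v : Vm m F) : Cfsg.quadFormPlus m F (v ∘ tP) = Cfsg.quadFormPlus m F v := by
  unfold Cfsg.quadFormPlus
  apply Finset.sum_congr rfl
  intro i _
  by_cases h : i.val % 2 = 0 <;> simp [tP, h, mul_comm]

theorem rP_Q (hm : Even m) (v : Vm m F) :
    Cfsg.quadFormPlus m F (v ∘ rP hm) = Cfsg.quadFormPlus m F v := by
  unfold Cfsg.quadFormPlus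
  have := Equiv.sum_comp (Function.Involutive.toPerm (eIdx hm) (eIdx_invol hm))
    (fun i => v (Sum.inl i) * v (Sum.inr i))
  rw [← this]
  rfl

theorem comp_eq_swap (hm : Even m) : rP hm ∘ tP ∘ rP hm ∘ tP = Sum.swap := by
  funext a
  rcases a with i | i <;> by_cases h : i.val % 2 = 0
  · have h' : ¬ (eIdx hm i).val % 2 = 0 := by rw [eIdx_parity]; exact not_not.mpr h
    simp [tP, rP, h, h', eIdx_invol]
  · have h' : (eIdx hm i).val % 2 = 0 := by rw [eIdx_parity]; exact h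
    simp [tP, rP, h, h', eIdx_invol]
  · have h' : ¬ (eIdx hm i).val % 2 = 0 := by rw [eIdx_parity]; exact not_not.mpr h
    simp [tP, rP, h, h', eIdx_invol]
  · have h' : (eIdx hm i).val % 2 = 0 := by rw [eIdx_parity]; exact h
    simp [tP, rP, h, h', eIdx_invol]

/-- For the hyperbolic quadratic form Σ x_i y_i on F^(2m) (F finite, m ≥ 1, excluding m = 2 over the field of two elements), Ω⁺_2m(F) (the commutator subgroup of the orthogonal group) contains an element interchanging the two complementary maximal totally singular subspaces {y = 0} and {x = 0} if and only if m is even (dimension divisible by 4). -/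
theorem result {F : Type*} [Field F] [Fintype F] {m : ℕ} (hm : 1 ≤ m) (h : Fintype.card F ≠ 2 ∨ m ≠ 2) : (∃ g : ↥(Cfsg.isometryGroup F (Cfsg.quadFormPlus m F)), g ∈ Cfsg.Omega F (Cfsg.quadFormPlus m F) ∧ (∀ v : Fin m ⊕ Fin m → F, (∀ i, v (Sum.inr i) = 0) → ∀ i, (((g : Matrix.GeneralLinearGroup (Fin m ⊕ Fin m) F) : Matrix (Fin m ⊕ Fin m) (Fin m ⊕ Fin m) F).mulVec v) (Sum.inl i) = 0) ∧ (∀ v : Fin m ⊕ Fin m → F, (∀ i, v (Sum.inl i) = 0) → ∀ i, (((g : Matrix.GeneralLinearGroup (Fin m ⊕ Fin m) F) : Matrix (Fin m ⊕ Fin m) (Fin m ⊕ Fin m) F).mulVec v) (Sum.inr i) = 0)) ↔ Even m := by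
  constructor
  · rintro ⟨g, hgΩ, hg1, _⟩
    have hchi := chi_eq_zero_of_mem_Omega g hgΩ
    have hact : act g (E m F) = E' m F := by
      apply Submodule.eq_of_le_of_finrank_eq
      · rintro _ ⟨v, hv, rfl⟩
        rw [mem_E'_iff]
        intro i
        exact hg1 v ((mem_E_iff v).mp hv) i
      · rw [finrank_act, finrank_E, isMax_E'.1]
    unfold chi at hchi
    rw [hact, E_inf_E', finrank_bot, Nat.sub_zero, zmod2_even] at hchi
    exact hchi
  · intro hme
    set T : OQ m F := pmO tP tP_invol tP_Q with hT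
    set R : OQ m F := pmO (rP hme) (rP_invol hme) (rP_Q hme) with hR
    refine ⟨⁅T, R⁆, ?_, ?_, ?_⟩
    · exact Subgroup.commutator_mem_commutator (Subgroup.mem_top T) (Subgroup.mem_top R)
    all_goals
      intro v hv i
      have hmat : mat ⁅T, R⁆ = pm Sum.swap := by
        rw [commutatorElement_def, hT, hR, pmO_inv, pmO_inv, mat_mul, mat_mul, mat_mul, mat_pmO,
          mat_pmO, pm_mul, pm_mul, pm_mul, ← comp_eq_swap hme]
      show (mat ⁅T, R⁆ *ᵥ v) _ = 0
      rw [hmat, pm_mulVec]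
      exact hv i

end Cfsg.Agent.S2612
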