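import Mathlib
import Cfsg.Statements.S2622

set_option autoImplicit false
open Cfsg

namespace Cfsg.Agent.S2622

open Module LinearMap.BilinForm

theorem two_eq_zero' {F : Type*} [Field F] [CharP F 2] : (2 : F) = 0 := by
  have := CharP.cast_eq_zero F 2
  exact_mod_cast this

/-- a vector of norm one whose orthogonal complement is still non-alternating (if `2 ≤ dim`). -/
theorem good_vector {F : Type*} [Field F] [Finite F] [CharP F 2] {V : Type*} [AddCommGroup V] [Module F V] [FiniteDimensional F V]
    (B : LinearMap.BilinForm F V) (hS : B.IsSymm) (hB : B.Nondegenerate) (hna : ∃ v : V, B v v ≠ 0)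
    (hdim : 2 ≤ finrank F V) :
    ∃ x y : V, B x x = 1 ∧ B x y = 0 ∧ B y y ≠ 0 := by
  have h2F : (2 : F) = 0 := two_eq_zero'
  have hchar : ringChar F = 2 := ringChar.eq F 2
  obtain ⟨v, hv⟩ := hna
  -- normalise
  obtain ⟨c, hc⟩ := FiniteField.isSquare_of_char_two hchar (B v v)⁻¹
  have hc0 : c ≠ 0 := by
    rintro rfl
    rw [mul_zero] at hc
    exact inv_ne_zero hv hc
  set x' := c • v with hx'
  have hx'1 : B x' x' = 1 := by
    simp only [hx', map_smul, LinearMap.smul_apply, smul_eq_mul]
    rw [← mul_assoc, ← hc, inv_mul_cancel₀ hv]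
  by_cases hW : ∃ y, B x' y = 0 ∧ B y y ≠ 0
  · obtain ⟨y, hy1, hy2⟩ := hW
    exact ⟨x', y, hx'1, hy1, hy2⟩
  · push Not at hW
    -- pick e ≠ 0 orthogonal to x'
    have hx'0 : B x' x' ≠ 0 := by rw [hx'1]; exact one_ne_zero
    have hcompl := isCompl_span_singleton_orthogonal hx'0
    have hdimW : finrank F (B.orthogonal (F ∙ x')) ≠ 0 := by
      have h1 := Submodule.finrank_add_eq_of_isCompl hcompl
      have h2 : finrank F (F ∙ x') = 1 := finrank_span_singleton (fun h => by
        rw [h] at hx'0; simp at hx'0)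
      omega
    have hWne : B.orthogonal (F ∙ x') ≠ ⊥ := by
      intro h
      rw [h, finrank_bot] at hdimW
      exact hdimW rfl
    obtain ⟨e, heW, he0⟩ := (Submodule.ne_bot_iff _).mp hWne
    have hx'e : B x' e = 0 := by
      have := (mem_orthogonal_iff.mp heW) x' (Submodule.mem_span_singleton_self x')
      exact this
    have hee : B e e = 0 := hW e hx'e
    -- g with B e g ≠ 0
    obtain ⟨g, hg⟩ : ∃ g, B e g ≠ 0 := by
      by_contra hcon
      push Not at hcon
      exact he0 (hB.1 e hcon)
    set f0 := g - (B x' g) • x' with hf0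
    have hx'f0 : B x' f0 = 0 := by
      simp only [hf0, map_sub, map_smul, smul_eq_mul, hx'1, mul_one, sub_self]
    have hex' : B e x' = 0 := by rw [← hS.eq]; exact hx'e
    have hef0 : B e f0 = B e g := by
      simp only [hf0, map_sub, map_smul, smul_eq_mul, hex', mul_zero, sub_zero]
    set f := (B e g)⁻¹ • f0 with hf
    have hx'f : B x' f = 0 := by
      simp only [hf, map_smul, smul_eq_mul, hx'f0, mul_zero]
    have hef : B e f = 1 := by
      simp only [hf, map_smul, smul_eq_mul, hef0]
      exact inv_mul_cancel₀ hg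
    have hff : B f f = 0 := hW f hx'f
    have hfx' : B f x' = 0 := by rw [← hS.eq]; exact hx'f
    have hfe : B f e = 1 := by rw [← hS.eq]; exact hef
    refine ⟨x' + e, x' + f, ?_, ?_, ?_⟩
    · simp only [map_add, LinearMap.add_apply, hx'1, hx'e, hex', hee]; ring
    · simp only [map_add, LinearMap.add_apply, hx'1, hx'f, hex', hef]
      linear_combination h2F
    · simp only [map_add, LinearMap.add_apply, hx'1, hx'f, hfx', hff]
      simp

theorem normalized_vector {F : Type*} [Field F] [Finite F] [CharP F 2] {V : Type*} [AddCommGroup V] [Module F V]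
    (B : LinearMap.BilinForm F V) (hna : ∃ v : V, B v v ≠ 0) : ∃ x : V, B x x = 1 := by
  have hchar : ringChar F = 2 := ringChar.eq F 2
  obtain ⟨v, hv⟩ := hna
  obtain ⟨c, hc⟩ := FiniteField.isSquare_of_char_two hchar (B v v)⁻¹
  refine ⟨c • v, ?_⟩
  simp only [map_smul, LinearMap.smul_apply, smul_eq_mul]
  rw [← mul_assoc, ← hc, inv_mul_cancel₀ hv]

theorem exists_orthonormal {F : Type*} [Field F] [Finite F] [CharP F 2] {V : Type*} [AddCommGroup V] [Module F V] [FiniteDimensional F V]
    (d : ℕ) (hd : finrank F V = d) (B : LinearMap.BilinForm F V) (hS : B.IsSymm) (hB : B.Nondegenerate)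
    (hna : d ≠ 0 → ∃ v : V, B v v ≠ 0) :
    ∃ b : Module.Basis (Fin d) F V, ∀ i j, B (b i) (b j) = if i = j then 1 else 0 := by
  induction d generalizing V with
  | zero => exact ⟨basisOfFinrankZero hd, fun i => i.elim0⟩
  | succ d ih =>
    -- choose x with B x x = 1 and (d ≠ 0 → non-alternating complement)
    obtain ⟨x, hx1, hxy⟩ : ∃ x : V, B x x = 1 ∧ (d ≠ 0 → ∃ y, B x y = 0 ∧ B y y ≠ 0) := by
      by_cases hd0 : d = 0
      · obtain ⟨x, hx⟩ := normalized_vector B (hna (Nat.succ_ne_zero d))
        exact ⟨x, hx, fun h => absurd hd0 h⟩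
      · obtain ⟨x, y, h1, h2, h3⟩ := good_vector B hS hB (hna (Nat.succ_ne_zero d)) (by omega)
        exact ⟨x, h1, fun _ => ⟨y, h2, h3⟩⟩
    have hx0 : B x x ≠ 0 := by rw [hx1]; exact one_ne_zero
    have hxne : x ≠ 0 := fun h => by rw [h] at hx0; simp at hx0
    have hcompl := isCompl_span_singleton_orthogonal hx0
    have hdW : finrank F (B.orthogonal (F ∙ x)) = d := by
      have h1 := Submodule.finrank_add_eq_of_isCompl hcompl
      have h2 : finrank F (F ∙ x) = 1 := finrank_span_singleton hxne
      omega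
    have hBW := restrict_nondegenerate_orthogonal_spanSingleton B hB hS.isRefl hx0
    have hSW := hS.restrict (B.orthogonal (F ∙ x))
    have hnaW : d ≠ 0 → ∃ w : B.orthogonal (F ∙ x), (B.restrict (B.orthogonal (F ∙ x))) w w ≠ 0 := by
      intro hd0
      obtain ⟨y, hy1, hy2⟩ := hxy hd0
      have hyW : y ∈ B.orthogonal (F ∙ x) := by
        rw [mem_orthogonal_iff]
        intro n hn
        obtain ⟨c, rfl⟩ := Submodule.mem_span_singleton.mp hn
        show B (c • x) y = 0
        rw [map_smul, LinearMap.smul_apply, hy1, smul_zero]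
      exact ⟨⟨y, hyW⟩, hy2⟩
    obtain ⟨v', hv'⟩ := ih hdW (B.restrict (B.orthogonal (F ∙ x))) hSW hBW hnaW
    let b := Basis.mkFinCons x v'
      (by
        rintro c y hy hc
        rw [add_eq_zero_iff_neg_eq] at hc
        rw [← hc, Submodule.neg_mem_iff] at hy
        have := hcompl.disjoint
        rw [Submodule.disjoint_def] at this
        have := this (c • x) (Submodule.smul_mem _ _ <| Submodule.mem_span_singleton_self _) hy
        exact (smul_eq_zero.1 this).resolve_right hxne)
      (by
        intro y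
        refine ⟨-B x y / B x x, fun z hz => ?_⟩
        obtain ⟨c, rfl⟩ := Submodule.mem_span_singleton.1 hz
        show B (c • x) (y + (-B x y / B x x) • x) = 0
        rw [map_smul, LinearMap.smul_apply, map_add, map_smul, smul_eq_mul, smul_eq_mul,
          div_mul_cancel₀ _ hx0, add_neg_cancel, mul_zero])
    refine ⟨b, ?_⟩
    have hbcoe : (b : Fin (d + 1) → V) = Fin.cons x ((↑) ∘ v') := Basis.coe_mkFinCons _ _ _ _
    intro i j
    rw [hbcoe]
    refine Fin.cases ?_ (fun i => ?_) i <;> refine Fin.cases ?_ (fun j => ?_) j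
    · simp [hx1]
    · simp only [Fin.cons_zero, Fin.cons_succ, Function.comp_apply]
      have : B x (v' j : V) = 0 :=
        (mem_orthogonal_iff.mp (v' j).2) x (Submodule.mem_span_singleton_self x)
      rw [this, if_neg (Fin.succ_ne_zero j).symm]
    · simp only [Fin.cons_zero, Fin.cons_succ, Function.comp_apply]
      have : B (v' i : V) x = 0 := by
        rw [← hS.eq]
        exact (mem_orthogonal_iff.mp (v' i).2) x (Submodule.mem_span_singleton_self x)
      rw [this, if_neg (Fin.succ_ne_zero i)]
    · simp only [Fin.cons_succ, Function.comp_apply]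
      have := hv' i j
      simp only [Fin.succ_inj]
      exact this

theorem result {F V : Type*} [Field F] [Finite F] [CharP F 2] [AddCommGroup V] [Module F V] [FiniteDimensional F V] {n : ℕ} (hV : Module.finrank F V = n) (B : LinearMap.BilinForm F V) (hS : B.IsSymm) (hB : B.Nondegenerate) (hna : ∃ v : V, B v v ≠ 0) : ∃ b : Module.Basis (Fin n) F V, ∀ i j, B (b i) (b j) = if i = j then 1 else 0 :=
  exists_orthonormal n hV B hS hB (fun _ => hna)

end Cfsg.Agent.S2622
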