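import Mathlib
import Cfsg.Statements.S2624
import Cfsg.Agent.Helper13.QuadExt
import Cfsg.Agent.S2616

set_option autoImplicit false
open Cfsg

namespace Cfsg.Agent.S2624

open Module Cfsg.Agent.Helper13 Matrix

/-- the binary norm form `s² + s t + ζ t²` -/
noncomputable def Nf {F : Type*} [Field F] (ζ : F) : QuadraticForm F (Fin 2 → F) :=
  LinearMap.BilinMap.toQuadraticMap (Matrix.toBilin' (!![1, 1; 0, ζ] : Matrix (Fin 2) (Fin 2) F))

theorem Nf_apply {F : Type*} [Field F] (ζ : F) (v : Fin 2 → F) :
    Nf ζ v = v 0 ^ 2 + v 0 * v 1 + ζ * v 1 ^ 2 := by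
  rw [Nf, LinearMap.BilinMap.toQuadraticMap_apply, Matrix.toBilin'_apply']
  simp [dotProduct, Matrix.mulVec, Fin.sum_univ_two]
  ring

theorem exists_norm_eq {F : Type*} [Field F] [Finite F] (ζ : F) (hζ : ∀ t : F, t ^ 2 + t + ζ ≠ 0)
    (c : F) : ∃ a b : F, a ^ 2 + a * b + ζ * b ^ 2 = c := by
  have haniso : ∀ v : Fin 2 → F, Nf ζ v = 0 → v = 0 := by
    intro v hv
    rw [Nf_apply] at hv
    have h1 : v 1 = 0 := by
      by_contra hne
      apply hζ (v 0 / v 1)
      field_simp
      linear_combination hv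
    have h0 : v 0 = 0 := by
      rw [h1] at hv
      simpa using hv
    funext k
    fin_cases k
    · exact h0
    · exact h1
  obtain ⟨v, hv⟩ := represents_of_aniso (Nf ζ) (by rw [Module.finrank_fin_fun]) haniso c
  exact ⟨v 0, v 1, by rw [← hv, Nf_apply]⟩

theorem result {F : Type*} [Field F] [Fintype F] {n : ℕ} (hn : 2 ≤ n) (he : Even n) (Q : QuadraticForm F (Fin n → F)) (hQ : (QuadraticMap.polarBilin Q).Nondegenerate) (c : F) (hc : c ≠ 0) : ∃ g : (Fin n → F) ≃ₗ[F] (Fin n → F), ∀ v, Q (g v) = c * Q v := by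
  classical
  obtain ⟨m, rfl⟩ : ∃ m, n = 2 * m := by
    obtain ⟨k, hk⟩ := he
    exact ⟨k, by omega⟩
  have hm : 1 ≤ m := by omega
  have hV : finrank F (Fin (2 * m) → F) = 2 * m := Module.finrank_fin_fun F
  have hQ' : ∀ v : Fin (2 * m) → F, (∀ w, QuadraticMap.polar Q v w = 0) → v = 0 :=
    fun v hv => hQ.1 v hv
  rcases Cfsg.Agent.S2616.result hm hV Q hQ with ⟨b, h1, h2, h3⟩ |
    ⟨b, ζ, hζ, h1, h2, h3, h4, hx, hxy, hy⟩
  · -- hyperbolic
    have hfe : ∀ i j, QuadraticMap.polar Q (b (Sum.inr i)) (b (Sum.inl j)) =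
        if i = j then 1 else 0 := fun i j => by
      rw [QuadraticMap.polar_comm, h2 j i]
      simp only [eq_comm]
    apply exists_similarity_of_basis Q hQ' c hc b
      (Sum.elim (fun i => c • b (Sum.inl i)) (fun i => b (Sum.inr i)))
    · rintro (i | i)
      · simp only [Sum.elim_inl]
        rw [QuadraticMap.map_smul, (h1 i).1]; simp
      · simp only [Sum.elim_inr]
        rw [(h1 i).2]; simp
    · rintro (i | i) (j | j)
      · simp only [Sum.elim_inl]
        rw [QuadraticMap.polar_smul_left, QuadraticMap.polar_smul_right, (h3 i j).1]; simp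
      · simp only [Sum.elim_inl, Sum.elim_inr]
        rw [QuadraticMap.polar_smul_left, smul_eq_mul]
      · simp only [Sum.elim_inl, Sum.elim_inr]
        rw [QuadraticMap.polar_smul_right, smul_eq_mul]
      · simp only [Sum.elim_inr]
        rw [(h3 i j).2]; simp
  · -- elliptic
    obtain ⟨a, d, had⟩ := exists_norm_eq ζ hζ c
    set e := fun i => b (Sum.inl (Sum.inl i)) with he
    set f := fun i => b (Sum.inl (Sum.inr i)) with hf
    set x := b (Sum.inr 0) with hxdef
    set y := b (Sum.inr 1) with hydef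
    have hxx : QuadraticMap.polar Q x x = 2 := by rw [polar_self', hx, mul_one]
    have hyy : QuadraticMap.polar Q y y = 2 * ζ := by rw [polar_self', hy]
    have hyx : QuadraticMap.polar Q y x = 1 := by rw [QuadraticMap.polar_comm]; exact hxy
    set x₁ : Fin (2 * m) → F := a • x + d • y with hx₁
    set y₁ : Fin (2 * m) → F := (-(d * ζ)) • x + (a + d) • y with hy₁
    have hbk : ∀ k : Fin 2, b (Sum.inr k) = ![x, y] k := by
      intro k; fin_cases k <;> rfl
    have hek : ∀ i (k : Fin 2), QuadraticMap.polar Q (e i) (![x, y] k) = 0 := fun i k => by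
      rw [← hbk]; exact (h4 i k).1
    have hfk : ∀ i (k : Fin 2), QuadraticMap.polar Q (f i) (![x, y] k) = 0 := fun i k => by
      rw [← hbk]; exact (h4 i k).2
    have hex : ∀ i, QuadraticMap.polar Q (e i) x = 0 := fun i => hek i 0
    have hey : ∀ i, QuadraticMap.polar Q (e i) y = 0 := fun i => hek i 1
    have hfx : ∀ i, QuadraticMap.polar Q (f i) x = 0 := fun i => hfk i 0
    have hfy : ∀ i, QuadraticMap.polar Q (f i) y = 0 := fun i => hfk i 1
    have hxe : ∀ i, QuadraticMap.polar Q x (e i) = 0 := fun i => by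
      rw [QuadraticMap.polar_comm]; exact hex i
    have hye : ∀ i, QuadraticMap.polar Q y (e i) = 0 := fun i => by
      rw [QuadraticMap.polar_comm]; exact hey i
    have hxf : ∀ i, QuadraticMap.polar Q x (f i) = 0 := fun i => by
      rw [QuadraticMap.polar_comm]; exact hfx i
    have hyf : ∀ i, QuadraticMap.polar Q y (f i) = 0 := fun i => by
      rw [QuadraticMap.polar_comm]; exact hfy i
    have hQx₁ : Q x₁ = c := by
      rw [hx₁, map_smul_add_smul, hx, hxy, hy, ← had]; ring
    have hQy₁ : Q y₁ = c * ζ := by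
      rw [hy₁, map_smul_add_smul, hx, hxy, hy, ← had]; ring
    have hx₁y₁ : QuadraticMap.polar Q x₁ y₁ = c := by
      rw [hx₁, hy₁]
      simp only [QuadraticMap.polar_add_left, QuadraticMap.polar_add_right,
        QuadraticMap.polar_smul_left, QuadraticMap.polar_smul_right, hxx, hxy, hyx, hyy,
        smul_eq_mul]
      rw [← had]; ring
    have hy₁x₁ : QuadraticMap.polar Q y₁ x₁ = c := by
      rw [QuadraticMap.polar_comm]; exact hx₁y₁
    have hk₁ : ∀ (k : Fin 2) (z : Fin (2 * m) → F), QuadraticMap.polar Q x z = 0 →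
        QuadraticMap.polar Q y z = 0 → QuadraticMap.polar Q (![x₁, y₁] k) z = 0 := by
      intro k z hxz hyz
      fin_cases k
      · change QuadraticMap.polar Q x₁ z = 0
        rw [hx₁, QuadraticMap.polar_add_left, QuadraticMap.polar_smul_left,
          QuadraticMap.polar_smul_left, hxz, hyz]; simp
      · change QuadraticMap.polar Q y₁ z = 0
        rw [hy₁, QuadraticMap.polar_add_left, QuadraticMap.polar_smul_left,
          QuadraticMap.polar_smul_left, hxz, hyz]; simp
    have hk₁' : ∀ (k : Fin 2) (z : Fin (2 * m) → F), QuadraticMap.polar Q x z = 0 →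
        QuadraticMap.polar Q y z = 0 → QuadraticMap.polar Q z (![x₁, y₁] k) = 0 := by
      intro k z hxz hyz
      rw [QuadraticMap.polar_comm]; exact hk₁ k z hxz hyz
    apply exists_similarity_of_basis Q hQ' c hc b
      (Sum.elim (Sum.elim (fun i => c • e i) (fun i => f i)) ![x₁, y₁])
    · rintro ((i | i) | k)
      · simp only [Sum.elim_inl]
        rw [QuadraticMap.map_smul, (h1 i).1]; simp
      · simp only [Sum.elim_inl, Sum.elim_inr]
        rw [(h1 i).2]; simp
      · simp only [Sum.elim_inr]
        fin_cases k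
        · change Q x₁ = c * Q x
          rw [hQx₁, hx, mul_one]
        · change Q y₁ = c * Q y
          rw [hQy₁, hy]
    · rintro ((i | i) | k) ((j | j) | l)
      · simp only [Sum.elim_inl]
        rw [QuadraticMap.polar_smul_left, QuadraticMap.polar_smul_right, (h3 i j).1]; simp
      · simp only [Sum.elim_inl, Sum.elim_inr]
        rw [QuadraticMap.polar_smul_left, smul_eq_mul]
      · simp only [Sum.elim_inl, Sum.elim_inr]
        rw [(h4 i l).1, mul_zero, QuadraticMap.polar_smul_left,
          hk₁' l (e i) (hxe i) (hye i), smul_zero]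
      · simp only [Sum.elim_inl, Sum.elim_inr]
        rw [QuadraticMap.polar_smul_right, smul_eq_mul]
      · simp only [Sum.elim_inl, Sum.elim_inr]
        rw [(h3 i j).2]; simp
      · simp only [Sum.elim_inl, Sum.elim_inr]
        rw [(h4 i l).2, mul_zero, hk₁' l (f i) (hxf i) (hyf i)]
      · simp only [Sum.elim_inl, Sum.elim_inr]
        rw [QuadraticMap.polar_smul_right, hk₁ k (e j) (hxe j) (hye j), smul_zero,
          QuadraticMap.polar_comm, (h4 j k).1, mul_zero]
      · simp only [Sum.elim_inl, Sum.elim_inr]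
        rw [hk₁ k (f j) (hxf j) (hyf j), QuadraticMap.polar_comm, (h4 j k).2, mul_zero]
      · simp only [Sum.elim_inr]
        fin_cases k <;> fin_cases l
        · change QuadraticMap.polar Q x₁ x₁ = c * QuadraticMap.polar Q x x
          rw [polar_self', hQx₁, hxx]; ring
        · change QuadraticMap.polar Q x₁ y₁ = c * QuadraticMap.polar Q x y
          rw [hx₁y₁, hxy, mul_one]
        · change QuadraticMap.polar Q y₁ x₁ = c * QuadraticMap.polar Q y x
          rw [hy₁x₁, hyx, mul_one]
        · change QuadraticMap.polar Q y₁ y₁ = c * QuadraticMap.polar Q y y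
          rw [polar_self', hQy₁, hyy]; ring

end Cfsg.Agent.S2624
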