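import Mathlib
import Cfsg.Statements.S2625

set_option autoImplicit false
open Cfsg

namespace Cfsg.Agent.S2625

open Matrix in
theorem result {F : Type*} [Field F] [Fintype F] {n : ℕ} (hn : Odd n) (Q : QuadraticForm F (Fin n → F)) (hQ : (QuadraticMap.polarBilin Q).Nondegenerate) (g : (Fin n → F) ≃ₗ[F] (Fin n → F)) (c : F) (hg : ∀ v, Q (g v) = c * Q v) : IsSquare c := by
  classical
  set B : LinearMap.BilinForm F (Fin n → F) := QuadraticMap.polarBilin Q with hB
  have hBapp : ∀ x y, B x y = Q (x + y) - Q x - Q y := by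
    intro x y
    rfl
  have hcomp : B.comp (g : (Fin n → F) →ₗ[F] (Fin n → F)) (g : (Fin n → F) →ₗ[F] (Fin n → F)) = c • B := by
    apply LinearMap.ext
    intro x
    apply LinearMap.ext
    intro y
    rw [LinearMap.BilinForm.comp_apply, LinearMap.smul_apply, LinearMap.smul_apply, smul_eq_mul, hBapp, hBapp]
    simp only [LinearEquiv.coe_coe]
    rw [← map_add, hg, hg, hg]
    ring
  have hmat := congrArg LinearMap.BilinForm.toMatrix' hcomp
  rw [LinearMap.BilinForm.toMatrix'_comp] at hmat
  have hsmul : LinearMap.BilinForm.toMatrix' (c • B) = c • LinearMap.BilinForm.toMatrix' B := by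
    exact map_smul _ c B
  rw [hsmul] at hmat
  have hdet := congrArg Matrix.det hmat
  rw [Matrix.det_mul, Matrix.det_mul, Matrix.det_transpose, Matrix.det_smul, Fintype.card_fin] at hdet
  have hM : (LinearMap.BilinForm.toMatrix' B).det ≠ 0 := by
    have := (LinearMap.BilinForm.nondegenerate_iff_det_ne_zero (Pi.basisFun F (Fin n))).mp hQ
    rw [LinearMap.BilinForm.toMatrix_basisFun] at this
    exact this
  set d := (LinearMap.toMatrix' (g : (Fin n → F) →ₗ[F] (Fin n → F))).det with hd
  have hcn : c ^ n = d * d := by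
    have : (d * d) * (LinearMap.BilinForm.toMatrix' B).det = c ^ n * (LinearMap.BilinForm.toMatrix' B).det := by
      rw [← hdet]; ring
    exact (mul_right_cancel₀ hM this).symm
  obtain ⟨k, hk⟩ := hn
  by_cases hc : c = 0
  · rw [hc]; exact ⟨0, by simp⟩
  · refine ⟨d / c ^ k, ?_⟩
    have hck : c ^ k ≠ 0 := pow_ne_zero k hc
    field_simp
    rw [hk] at hcn
    calc c * (c ^ k) ^ 2 = c ^ (2 * k + 1) := by ring
      _ = d * d := hcn
      _ = d ^ 2 := by ring

end Cfsg.Agent.S2625
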