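import Mathlib
import Cfsg.Statements.S2626

set_option autoImplicit false
open Cfsg

namespace Cfsg.Agent.S2626

open Matrix

/-- `A ↦ fromBlocks A 0 0 1` as a monoid hom. -/
def blockL (k l : ℕ) (F : Type*) [Field F] :
    Matrix (Fin k) (Fin k) F →* Matrix (Fin k ⊕ Fin l) (Fin k ⊕ Fin l) F where
  toFun A := Matrix.fromBlocks A 0 0 1
  map_one' := Matrix.fromBlocks_one
  map_mul' A B := by
    rw [Matrix.fromBlocks_multiply]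
    simp

/-- `A ↦ fromBlocks 1 0 0 A` as a monoid hom. -/
def blockR (k l : ℕ) (F : Type*) [Field F] :
    Matrix (Fin l) (Fin l) F →* Matrix (Fin k ⊕ Fin l) (Fin k ⊕ Fin l) F where
  toFun A := Matrix.fromBlocks 1 0 0 A
  map_one' := Matrix.fromBlocks_one
  map_mul' A B := by
    rw [Matrix.fromBlocks_multiply]
    simp

theorem map_mem_commutator {G H : Type*} [Group G] [Group H] (f : G →* H) (g : G) (hg : g ∈ commutator G) :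
    f g ∈ commutator H := by
  have h1 : f g ∈ (commutator G).map f := ⟨g, hg, rfl⟩
  rw [commutator_def, Subgroup.map_commutator] at h1
  rw [commutator_def]
  exact Subgroup.commutator_mono le_top le_top h1

theorem result {F : Type*} [Field F] [Fintype F] {k l : ℕ} (Q₁ : QuadraticForm F (Fin k → F)) (Q₂ : QuadraticForm F (Fin l → F)) (h₁ : (QuadraticMap.polarBilin Q₁).Nondegenerate) (h₂ : (QuadraticMap.polarBilin Q₂).Nondegenerate) (g₁ : ↥(Cfsg.isometryGroup F ⇑Q₁)) (g₂ : ↥(Cfsg.isometryGroup F ⇑Q₂)) (hg₁ : g₁ ∈ Cfsg.Omega F ⇑Q₁) (hg₂ : g₂ ∈ Cfsg.Omega F ⇑Q₂) : ∃ g : ↥(Cfsg.isometryGroup F (fun v : Fin k ⊕ Fin l → F => Q₁ (v ∘ Sum.inl) + Q₂ (v ∘ Sum.inr))), g ∈ Cfsg.Omega F (fun v : Fin k ⊕ Fin l → F => Q₁ (v ∘ Sum.inl) + Q₂ (v ∘ Sum.inr)) ∧ ((g : Matrix.GeneralLinearGroup (Fin k ⊕ Fin l) F) : Matrix (Fin k ⊕ Fin l) (Fin k ⊕ Fin l)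 F) = Matrix.fromBlocks ((g₁ : Matrix.GeneralLinearGroup (Fin k) F) : Matrix (Fin k) (Fin k) F) 0 0 ((g₂ : Matrix.GeneralLinearGroup (Fin l) F) : Matrix (Fin l) (Fin l) F) := by
  classical
  set Q : (Fin k ⊕ Fin l → F) → F := fun v => Q₁ (v ∘ Sum.inl) + Q₂ (v ∘ Sum.inr) with hQ
  -- the two homs into GL
  let ΦL : GL (Fin k) F →* GL (Fin k ⊕ Fin l) F := Units.map (blockL k l F)
  let ΦR : GL (Fin l) F →* GL (Fin k ⊕ Fin l) F := Units.map (blockR k l F)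
  have hΦL : ∀ a : GL (Fin k) F, ((ΦL a : GL (Fin k ⊕ Fin l) F) : Matrix (Fin k ⊕ Fin l) (Fin k ⊕ Fin l) F)
      = Matrix.fromBlocks (a : Matrix (Fin k) (Fin k) F) 0 0 1 := fun a => rfl
  have hΦR : ∀ a : GL (Fin l) F, ((ΦR a : GL (Fin k ⊕ Fin l) F) : Matrix (Fin k ⊕ Fin l) (Fin k ⊕ Fin l) F)
      = Matrix.fromBlocks 1 0 0 (a : Matrix (Fin l) (Fin l) F) := fun a => rfl
  have hmemL : ∀ a : ↥(Cfsg.isometryGroup F ⇑Q₁), ΦL (a : GL (Fin k) F) ∈ Cfsg.isometryGroup F Q := by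
    intro a u v
    have ha := a.2 (u ∘ Sum.inl) (u ∘ Sum.inl)
    simp only [Units.coeHom_apply] at ha ⊢
    rw [hΦL]
    simp only [hQ, Matrix.fromBlocks_mulVec]
    have e1 : (Sum.elim ((a : GL (Fin k) F).1 *ᵥ (u ∘ Sum.inl) + (0 : Matrix (Fin k) (Fin l) F) *ᵥ (u ∘ Sum.inr))
        ((0 : Matrix (Fin l) (Fin k) F) *ᵥ (u ∘ Sum.inl) + (1 : Matrix (Fin l) (Fin l) F) *ᵥ (u ∘ Sum.inr))) ∘ Sum.inl
        = (a : GL (Fin k) F).1 *ᵥ (u ∘ Sum.inl) := by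
      ext i; simp
    have e2 : (Sum.elim ((a : GL (Fin k) F).1 *ᵥ (u ∘ Sum.inl) + (0 : Matrix (Fin k) (Fin l) F) *ᵥ (u ∘ Sum.inr))
        ((0 : Matrix (Fin l) (Fin k) F) *ᵥ (u ∘ Sum.inl) + (1 : Matrix (Fin l) (Fin l) F) *ᵥ (u ∘ Sum.inr))) ∘ Sum.inr
        = u ∘ Sum.inr := by
      ext i; simp
    rw [e1, e2, ha]
  have hmemR : ∀ a : ↥(Cfsg.isometryGroup F ⇑Q₂), ΦR (a : GL (Fin l) F) ∈ Cfsg.isometryGroup F Q := by
    intro a u v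
    have ha := a.2 (u ∘ Sum.inr) (u ∘ Sum.inr)
    simp only [Units.coeHom_apply] at ha ⊢
    rw [hΦR]
    simp only [hQ, Matrix.fromBlocks_mulVec]
    have e1 : (Sum.elim ((1 : Matrix (Fin k) (Fin k) F) *ᵥ (u ∘ Sum.inl) + (0 : Matrix (Fin k) (Fin l) F) *ᵥ (u ∘ Sum.inr))
        ((0 : Matrix (Fin l) (Fin k) F) *ᵥ (u ∘ Sum.inl) + (a : GL (Fin l) F).1 *ᵥ (u ∘ Sum.inr))) ∘ Sum.inl
        = u ∘ Sum.inl := by
      ext i; simp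
    have e2 : (Sum.elim ((1 : Matrix (Fin k) (Fin k) F) *ᵥ (u ∘ Sum.inl) + (0 : Matrix (Fin k) (Fin l) F) *ᵥ (u ∘ Sum.inr))
        ((0 : Matrix (Fin l) (Fin k) F) *ᵥ (u ∘ Sum.inl) + (a : GL (Fin l) F).1 *ᵥ (u ∘ Sum.inr))) ∘ Sum.inr
        = (a : GL (Fin l) F).1 *ᵥ (u ∘ Sum.inr) := by
      ext i; simp
    rw [e1, e2, ha]
  let ΨL : ↥(Cfsg.isometryGroup F ⇑Q₁) →* ↥(Cfsg.isometryGroup F Q) :=
    (ΦL.comp (Cfsg.isometryGroup F ⇑Q₁).subtype).codRestrict _ hmemL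
  let ΨR : ↥(Cfsg.isometryGroup F ⇑Q₂) →* ↥(Cfsg.isometryGroup F Q) :=
    (ΦR.comp (Cfsg.isometryGroup F ⇑Q₂).subtype).codRestrict _ hmemR
  refine ⟨ΨL g₁ * ΨR g₂, ?_, ?_⟩
  · exact Subgroup.mul_mem _ (map_mem_commutator ΨL g₁ hg₁) (map_mem_commutator ΨR g₂ hg₂)
  · show ((ΦL (g₁ : GL (Fin k) F) * ΦR (g₂ : GL (Fin l) F) : GL (Fin k ⊕ Fin l) F) : Matrix (Fin k ⊕ Fin l) (Fin k ⊕ Fin l) F) = _
    rw [Units.val_mul, hΦL, hΦR, Matrix.fromBlocks_multiply]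
    simp

end Cfsg.Agent.S2626
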