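import Cfsg.Statements.S2628
import Cfsg.Agent.Helper28.OrthSum

set_option autoImplicit false
open Cfsg

namespace Cfsg.Agent.S2628

open Cfsg.Agent.Helper28.OrthSum Cfsg.Agent.Helper28.Spin in
/-- For the orthogonal direct sum Q ⊕ Q of two copies of a quadratic form Q with non-degenerate polar form on F^k (F finite), every isometry g of Q acting diagonally, diag(g, g), lies in Ω(Q ⊕ Q), the commutator subgroup of the orthogonal group of Q ⊕ Q. (Excluded: k = 2 over the field of two elements, where Q ⊕ Q is the hyperbolic 4-space whose orthogonal group's commutator subgroup is smaller than the group usually called Ω.) -/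
theorem result {F : Type*} [Field F] [Fintype F] {k : ℕ} (h : Fintype.card F ≠ 2 ∨ k ≠ 2) (Q : QuadraticForm F (Fin k → F)) (hQ : (QuadraticMap.polarBilin Q).Nondegenerate) (g : ↥(Cfsg.isometryGroup F ⇑Q)) : ∃ x : ↥(Cfsg.isometryGroup F (fun v : Fin k ⊕ Fin k → F => Q (v ∘ Sum.inl) + Q (v ∘ Sum.inr))), x ∈ Cfsg.Omega F (fun v : Fin k ⊕ Fin k → F => Q (v ∘ Sum.inl) + Q (v ∘ Sum.inr)) ∧ ((x : Matrix.GeneralLinearGroup (Fin k ⊕ Fin k) F) : Matrix (Fin k ⊕ Fin k) (Fin k ⊕ Fin k) F) = Matrix.fromBlocks ((g : Matrix.GeneralLinearGroup (Fin k) F) : Matrix (Fin k) (Fin k) F) 0 0 ((g : Matrix.GeneralLinearGroup (Fin k) F) : Matrix (Fin k) (Fin k) F) := by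
  show ∃ x : ↥(Cfsg.isometryGroup F ⇑(Qs Q Q)), x ∈ Cfsg.Omega F ⇑(Qs Q Q) ∧
    ((x : Matrix.GeneralLinearGroup (Fin k ⊕ Fin k) F) : Matrix (Fin k ⊕ Fin k) (Fin k ⊕ Fin k) F) =
      Matrix.fromBlocks ((g : Matrix.GeneralLinearGroup (Fin k) F) : Matrix (Fin k) (Fin k) F) 0 0
        ((g : Matrix.GeneralLinearGroup (Fin k) F) : Matrix (Fin k) (Fin k) F)
  refine ⟨embL Q Q g * embR Q Q g, ?_, ?_⟩
  · by_cases h2 : (2 : F) = 0
    · have hnd := Qs_nondeg Q Q hQ hQ
      have hc : Fintype.card F ≠ 2 ∨ Fintype.card (Fin k ⊕ Fin k) ≠ 4 := by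
        rcases h with h | h
        · exact Or.inl h
        · right
          simp
          omega
      rw [Cfsg.Agent.Helper28.CD2.mem_Omega_iff_even_rank (Qs Q Q) h2 hnd hc]
      obtain ⟨D, hD⟩ := Cfsg.Agent.Helper28.Dickson.exists_dickson (Qs Q Q) h2 hnd
      have h1 : D (embL Q Q g * embR Q Q g) = 1 := by
        rw [map_mul, hD, hD, rank_embL, rank_embR, ← ofAdd_add]
        have : ∀ z : ZMod 2, z + z = 0 := by decide
        rw [this]
        rfl
      rw [hD, ← ofAdd_zero, Multiplicative.ofAdd.apply_eq_iff_eq,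
        ZMod.natCast_eq_zero_iff_even] at h1
      exact h1
    · obtain ⟨L, rfl⟩ := exists_prodO_eq Q h2 hQ g
      rw [embL_prodO, embR_prodO, ← prodO_append, prodO_mem_Omega_iff _ h2]
      constructor
      · rw [List.length_append, List.length_map, List.length_map]
        exact ⟨_, rfl⟩
      · rw [normProd_append, normProd_liftL, normProd_liftR]
        exact ⟨_, rfl⟩
  · show Matrix.fromBlocks ((g : Matrix.GeneralLinearGroup (Fin k) F) : Matrix (Fin k) (Fin k) F) 0 0 1 *
      Matrix.fromBlocks 1 0 0 ((g : Matrix.GeneralLinearGroup (Fin k) F) : Matrix (Fin k) (Fin k) F) = _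
    rw [Matrix.fromBlocks_multiply]
    simp

end Cfsg.Agent.S2628
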