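import Mathlib
import Cfsg.Statements.S2631
import Cfsg.Agent.Helper28.QPlus6

set_option autoImplicit false
open Cfsg

namespace Cfsg.Agent.S2631

open Module Submodule Matrix Cfsg.Agent.Helper28.Spin Cfsg.Agent.Helper28.QPlus

/-- For the hyperbolic form Σ x_i y_i on F^(2m) over a finite field (m ≥ 1, excluding m = 2 over the field of two elements), Ω (the commutator subgroup of the orthogonal group) acts transitively on each of the two classes of maximal totally singular subspaces: if U and W are m-dimensional totally singular subspaces with m − dim(U ∩ W) even, some element of Ω carries U to W. -/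
theorem result {F : Type*} [Field F] [Fintype F] {m : ℕ} (hm : 1 ≤ m) (h : Fintype.card F ≠ 2 ∨ m ≠ 2) (U W : Submodule F (Fin m ⊕ Fin m → F)) (hU : Module.finrank F U = m) (hW : Module.finrank F W = m) (hU0 : ∀ u ∈ U, Cfsg.quadFormPlus m F u = 0) (hW0 : ∀ w ∈ W, Cfsg.quadFormPlus m F w = 0) (he : Even (m - Module.finrank F ↥(U ⊓ W))) : ∃ g : ↥(Cfsg.isometryGroup F (Cfsg.quadFormPlus m F)), g ∈ Cfsg.Omega F (Cfsg.quadFormPlus m F) ∧ U.map (Matrix.mulVecLin ((g : Matrix.GeneralLinearGroup (Fin m ⊕ Fin m) F) : Matrix (Fin m ⊕ Fin m) (Fin m ⊕ Fin m) F)) = W := by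
  have hUmax : IsMax m U := ⟨hU, hU0⟩
  have hWmax : IsMax m W := ⟨hW, hW0⟩
  obtain ⟨L, hL1, hL2⟩ := exists_path W hWmax _ U hUmax rfl
  have hchi : chi (prodR L) = 0 := by
    apply chi_eq_zero_of_act hUmax
    rw [hL2]
    exact he
  rw [chi_prodR, zmod2_even] at hchi
  refine ⟨prodR L, ?_, hL2⟩
  by_cases h2 : (2 : F) = 0
  · exact prodR_mem_Omega h2 hm h L hchi
  · rw [prodR_eq]
    have hnorm : normProd (QfPlus m F) (L : List (NS (QfPlus m F))) = 1 := by
      unfold normProd
      apply List.prod_eq_one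
      intro x hx
      obtain ⟨v, hv, rfl⟩ := List.mem_map.1 hx
      exact hL1 v hv
    exact (prodO_mem_Omega_iff (QfPlus m F) h2 (L : List (NS (QfPlus m F)))).2
      ⟨hchi, by rw [hnorm]; exact ⟨1, by ring⟩⟩

end Cfsg.Agent.S2631
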