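import Mathlib
import Cfsg.Statements.S2634
import Cfsg.Agent.Helper28.Spin10

set_option autoImplicit false
open Cfsg

namespace Cfsg.Agent.S2634

open Matrix Module Submodule Cfsg.Agent.Helper28.Spin

/-- moving `a` to `b` by an element of `Ω` when they are not orthogonal -/
theorem move {F : Type*} [Field F] [Fintype F] {n : ℕ} (h2 : (2 : F) = 0)
    (hcard : Fintype.card F ≠ 2 ∨ Fintype.card (Fin n) ≠ 4) (Q : QuadraticForm F (Fin n → F))
    (hQ : (QuadraticMap.polarBilin Q).Nondegenerate) (a b : Fin n → F) (ha : Q a ≠ 0)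
    (hab : Q a = Q b) (hB : QuadraticMap.polar ⇑Q a b ≠ 0) :
    ∃ g : ↥(Cfsg.isometryGroup F ⇑Q), g ∈ Cfsg.Omega F ⇑Q ∧
      ((g : GL (Fin n) F) : Matrix (Fin n) (Fin n) F) *ᵥ a = b := by
  have hb : Q b ≠ 0 := by rw [← hab]; exact ha
  have hQ' : Q (a + b) = QuadraticMap.polar ⇑Q a b := by
    rw [QuadraticMap.map_add (⇑Q), ← hab]
    have : Q a + Q a = 0 := by rw [← two_mul, h2, zero_mul]
    rw [this, zero_add]
  have hc : Q (a + b) ≠ 0 := by rw [hQ']; exact hB
  refine ⟨reflO Q b hb * reflO Q (a + b) hc, reflO_mul_reflO_mem Q h2 hQ hcard _ _ hb hc, ?_⟩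
  simp only [Subgroup.coe_mul, Units.val_mul, reflO_val]
  rw [← Matrix.mulVec_mulVec, refl_move' Q hab hc, Matrix.mulVec_neg, refl_self Q hb, neg_neg]

/-- Over a finite field of characteristic two, Ω (the commutator subgroup of the orthogonal group of a quadratic form Q on F^n with non-degenerate polar form; excluding dimension 4 over the field of two elements) acts transitively on the non-singular 1-spaces: for u, v with Q(u) ≠ 0 and Q(v) ≠ 0 some element of Ω carries the line through u to the line through v. -/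
theorem result {F : Type*} [Field F] [Fintype F] [CharP F 2] {n : ℕ} (h : Fintype.card F ≠ 2 ∨ n ≠ 4) (Q : QuadraticForm F (Fin n → F)) (hQ : (QuadraticMap.polarBilin Q).Nondegenerate) (u v : Fin n → F) (hu : Q u ≠ 0) (hv : Q v ≠ 0) : ∃ g : ↥(Cfsg.isometryGroup F ⇑Q), g ∈ Cfsg.Omega F ⇑Q ∧ (F ∙ ((g : Matrix.GeneralLinearGroup (Fin n) F) : Matrix (Fin n) (Fin n) F).mulVec u) = F ∙ v := by
  have h2 : (2 : F) = 0 := by
    have := CharP.cast_eq_zero F 2
    exact_mod_cast this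
  have hcard : Fintype.card F ≠ 2 ∨ Fintype.card (Fin n) ≠ 4 := by
    rw [Fintype.card_fin]; exact h
  obtain ⟨t, ht0, ht1⟩ := exists_scale' Q h2 v hv (Q u) hu
  have hspan : (F ∙ (t • v)) = F ∙ v := Submodule.span_singleton_smul_eq (IsUnit.mk0 t ht0) v
  suffices hmain : ∃ g : ↥(Cfsg.isometryGroup F ⇑Q), g ∈ Cfsg.Omega F ⇑Q ∧
      ((g : GL (Fin n) F) : Matrix (Fin n) (Fin n) F) *ᵥ u = t • v by
    obtain ⟨g, hg, hgu⟩ := hmain
    refine ⟨g, hg, ?_⟩
    rw [← hspan, ← hgu]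
  by_cases hB : QuadraticMap.polar ⇑Q u (t • v) = 0
  · by_cases huv : u = t • v
    · refine ⟨1, Subgroup.one_mem _, ?_⟩
      simp only [Subgroup.coe_one, Units.val_one, Matrix.one_mulVec]
      exact huv
    · obtain ⟨c, hc1, hc2, hc3⟩ := exists_connector Q h2 hQ hcard u (t • v) hu ht1.symm hB huv
      have hc : Q c ≠ 0 := by rw [hc1]; exact hu
      obtain ⟨g₁, hg₁, hg₁u⟩ := move h2 hcard Q hQ u c hu hc1.symm hc2
      obtain ⟨g₂, hg₂, hg₂c⟩ := move h2 hcard Q hQ c (t • v) hc (by rw [hc1, ht1])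
        (by rw [QuadraticMap.polar_comm]; exact hc3)
      refine ⟨g₂ * g₁, Subgroup.mul_mem _ hg₂ hg₁, ?_⟩
      simp only [Subgroup.coe_mul, Units.val_mul]
      rw [← Matrix.mulVec_mulVec, hg₁u, hg₂c]
  · exact move h2 hcard Q hQ u (t • v) hu ht1.symm hB

end Cfsg.Agent.S2634
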