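import Cfsg.Statements.S2637
import Cfsg.Agent.Helper7.SpGU3

set_option autoImplicit false
open Cfsg

namespace Cfsg.Agent.S2637

/-- Centraliser of a fixed-point-free element of order three in Sp_2m(q) when q ≡ 2 (mod 3): if x ∈ Sp_2m(F) (|F| = q, m ≥ 1) satisfies x³ = 1 and x − 1 is invertible, then its centraliser in Sp_2m(F) has the order of the unitary group GU_m(q), namely q^(m(m−1)/2) Π_(i=1)^m (q^i − (−1)^i) (x lies in the centre of a subgroup GU_m(q) of Sp_2m(q)). -/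
theorem result {F : Type*} [Field F] [Fintype F] {q : ℕ} (hF : Fintype.card F = q) (hq : q % 3 = 2) {m : ℕ} (hm : 1 ≤ m) (x : Matrix.symplecticGroup (Fin m) F) (hx3 : x ^ 3 = 1) (hfpf : IsUnit ((x : Matrix (Fin m ⊕ Fin m) (Fin m ⊕ Fin m) F) - 1)) : (Nat.card ↥(Subgroup.centralizer ({x} : Set ↥(Matrix.symplecticGroup (Fin m) F))) : ℤ) = (q : ℤ) ^ (m * (m - 1) / 2) * ∏ i : Fin m, ((q : ℤ) ^ ((i : ℕ) + 1) - (-1) ^ ((i : ℕ) + 1)) := by
  classical
  obtain ⟨p, hp⟩ := CharP.exists F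
  haveI : CharP F p := hp
  haveI : Fact p.Prime := ⟨CharP.char_is_prime F p⟩
  obtain ⟨n, -, hn⟩ := FiniteField.card F p
  have hn0 : 2 * (n : ℕ) ≠ 0 := by
    have := n.pos
    omega
  letI : Fintype (GaloisField p (2 * (n : ℕ))) := Fintype.ofFinite _
  have hK : Fintype.card (GaloisField p (2 * (n : ℕ))) = q ^ 2 := by
    rw [← Nat.card_eq_fintype_card, GaloisField.card p _ hn0, ← hF, hn, ← pow_mul, mul_comm]
  obtain ⟨ι₀⟩ := Cfsg.Agent.Helper13.exists_ringHom_of_card_sq hK hF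
  letI : Algebra F (GaloisField p (2 * (n : ℕ))) := ι₀.toAlgebra
  rw [Cfsg.Agent.Helper7.SpGU.card_centralizer hK hF hq m x hx3 hfpf,
    Cfsg.Agent.S2677.card_GU_int hK m]

end Cfsg.Agent.S2637
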