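import Mathlib
import Cfsg.Statements.S2640
import Cfsg.Agent.Helper13.NormForm
import Cfsg.Agent.Helper13.OrthEmbed

set_option autoImplicit false
set_option linter.style.haveILetI false
open Cfsg

namespace Cfsg.Agent.S2640

open Matrix Module Cfsg.Agent.Helper13

section

variable {K F : Type*} [Field K] [Fintype K] [Field F] [Fintype F] [Algebra F K] {q : ℕ}
  (hK : Fintype.card K = q ^ 2) (hF : Fintype.card F = q)

local notation "ι" => algebraMap F K

/-- `x ↦ (x, ε x)`, whose image is totally singular when `ε` has norm `-1`. -/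
noncomputable def jmap (h : ℕ) (ε : K) : (Fin h → K) →ₗ[F] (Fin (h + h) → K) where
  toFun x := Fin.append x (ε • x)
  map_add' x y := by
    funext i
    induction i using Fin.addCases with
    | left i => simp only [Pi.add_apply, Fin.append_left]
    | right i => simp only [Pi.add_apply, Fin.append_right, Pi.smul_apply, smul_eq_mul, mul_add]
  map_smul' c x := by
    funext i
    induction i using Fin.addCases with
    | left i => simp only [RingHom.id_apply, Pi.smul_apply, Fin.append_left]
    | right i =>
      simp only [RingHom.id_apply, Pi.smul_apply, Fin.append_right, smul_eq_mul]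
      rw [Algebra.smul_def, Algebra.smul_def]
      ring

omit [Fintype K] [Fintype F] in
theorem jmap_apply (h : ℕ) (ε : K) (x : Fin h → K) :
    jmap (F := F) h ε x = Fin.append x (ε • x) := rfl

omit [Fintype K] [Fintype F] in
theorem jmap_injective (h : ℕ) (ε : K) : Function.Injective (jmap (F := F) h ε) := by
  intro x y hxy
  funext i
  have := congrFun hxy (Fin.castAdd h i)
  simpa [jmap_apply, Fin.append_left] using this

omit [Fintype K] [Fintype F] [Algebra F K] in
theorem hermForm_append (h : ℕ) (ε : K) (hε : ε ^ (q + 1) = -1) (x : Fin h → K) :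
    Cfsg.hermForm (h + h) K q (Fin.append x (ε • x)) (Fin.append x (ε • x)) = 0 := by
  unfold Cfsg.hermForm
  rw [Fin.sum_univ_add]
  simp only [Fin.append_left, Fin.append_right, Pi.smul_apply, smul_eq_mul]
  rw [← Finset.sum_add_distrib]
  apply Finset.sum_eq_zero
  intro i _
  have : ε * x i * (ε * x i) ^ q = ε ^ (q + 1) * (x i * x i ^ q) := by ring
  rw [this, hε]
  ring

include hK hF in
theorem main (h : ℕ) :
    ∃ φ : ↥(Cfsg.GU (h + h) K q) →* ↥(Cfsg.isometryGroup F (Cfsg.quadFormPlus (h + h) F)),
      Function.Injective φ := by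
  classical
  obtain ⟨ε, hε⟩ := exists_norm_neg_one (F := F) hK hF
  set W : Submodule F (Fin (h + h) → K) := LinearMap.range (jmap (F := F) h ε) with hWdef
  have hW : ∀ w ∈ W, normForm hK hF (h + h) w = 0 := by
    rintro w ⟨x, rfl⟩
    apply (algebraMap F K).injective
    rw [ι_normForm, jmap_apply, hermForm_append h ε hε, map_zero]
  have hWm : finrank F W = h + h := by
    rw [hWdef, LinearMap.finrank_range_of_inj (jmap_injective h ε), finrank_pi hK hF]
    ring
  obtain ⟨g, hg⟩ := exists_isometry_plus (finrank_pi hK hF (h + h)) (normForm hK hF (h + h))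
    (normForm_nondeg hK hF (h + h)) W hW hWm
  exact exists_embedding_of_isometry
    ((glEnd (F := F) (h + h)).comp (Cfsg.GU (h + h) K q).subtype)
    (fun a b hab => Subtype.ext (glEnd_injective (h + h) hab))
    (normForm hK hF (h + h))
    (fun a v => normForm_GU hK hF (h + h) a.1 a.2 v)
    (Cfsg.quadFormPlus (h + h) F) g hg

end

theorem result {K F : Type*} [Field K] [Fintype K] [Field F] [Fintype F] {q : ℕ} (hK : Fintype.card K = q ^ 2) (hF : Fintype.card F = q) (m : ℕ) (hm : Even m) : ∃ φ : ↥(Cfsg.GU m K q) →* ↥(Cfsg.isometryGroup F (Cfsg.quadFormPlus m F)), Function.Injective φ := by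
  obtain ⟨ι₀⟩ := exists_ringHom_of_card_sq hK hF
  letI : Algebra F K := ι₀.toAlgebra
  obtain ⟨h, rfl⟩ := hm
  exact main hK hF h

end Cfsg.Agent.S2640
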