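import Mathlib
import Cfsg.Statements.S2641
import Cfsg.Agent.Helper13.NormForm
import Cfsg.Agent.Helper13.OrthEmbed
import Cfsg.Agent.S2640

set_option autoImplicit false
set_option linter.style.haveILetI false
open Cfsg

namespace Cfsg.Agent.S2641

open Matrix Module Cfsg.Agent.Helper13 Cfsg.Agent.S2640

section

variable {K F : Type*} [Field K] [Fintype K] [Field F] [Fintype F] [Algebra F K] {q : ℕ}
  (hK : Fintype.card K = q ^ 2) (hF : Fintype.card F = q)

local notation "ι" => algebraMap F K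

include hK hF in
/-- in even dimension the norm form is hyperbolic. -/
theorem isoEven (h : ℕ) :
    ∃ g : (Fin (h + h) → K) ≃ₗ[F] (Fin (h + h) ⊕ Fin (h + h) → F),
      ∀ v, Cfsg.quadFormPlus (h + h) F (g v) = normForm hK hF (h + h) v := by
  classical
  obtain ⟨ε, hε⟩ := exists_norm_neg_one (F := F) hK hF
  set W : Submodule F (Fin (h + h) → K) := LinearMap.range (jmap (F := F) h ε) with hWdef
  have hW : ∀ w ∈ W, normForm hK hF (h + h) w = 0 := by
    rintro w ⟨x, rfl⟩
    apply (algebraMap F K).injective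
    rw [ι_normForm, jmap_apply, hermForm_append h ε hε, map_zero]
  have hWm : finrank F W = h + h := by
    rw [hWdef, LinearMap.finrank_range_of_inj (jmap_injective h ε), finrank_pi hK hF]
    ring
  exact exists_isometry_plus (finrank_pi hK hF (h + h)) (normForm hK hF (h + h))
    (normForm_nondeg hK hF (h + h)) W hW hWm

include hK hF in
/-- the roots of the anisotropic binary form in the quadratic extension are conjugate. -/
theorem exists_conj_root (a c : F)
    (hac : ∀ z₁ z₂ : F, z₁ ^ 2 + a * z₁ * z₂ + c * z₂ ^ 2 = 0 → z₁ = 0 ∧ z₂ = 0) :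
    ∃ r : K, r ≠ r ^ q ∧ ι a = -(r + r ^ q) ∧ ι c = r * r ^ q := by
  classical
  have hac' : ∀ z : F, z ^ 2 + a * z + c ≠ 0 := by
    intro z hz
    have := hac z 1 (by rw [← hz]; ring)
    exact one_ne_zero this.2
  obtain ⟨r₁, hr₁⟩ := exists_root_quadratic ι hK hF a c hac'
  have hq0 : q ≠ 0 := by rw [← hF]; exact Fintype.card_ne_zero
  have hr₂ : (r₁ ^ q) ^ 2 + ι a * r₁ ^ q + ι c = 0 := by
    have h1 : (r₁ ^ 2 + ι a * r₁ + ι c) ^ q = 0 := by
      rw [hr₁, zero_pow hq0]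
    rw [add_pow_card_of_ringHom ι hF, add_pow_card_of_ringHom ι hF, mul_pow,
      ringHom_pow_card ι hF, ringHom_pow_card ι hF, ← pow_mul, mul_comm 2 q, pow_mul] at h1
    exact h1
  have hne : r₁ ≠ r₁ ^ q := by
    intro h
    obtain ⟨x, hx⟩ := exists_of_pow_card_eq ι hF r₁ h.symm
    apply hac' x
    apply (algebraMap F K).injective
    rw [map_add, map_add, map_pow, map_mul, hx, map_zero]
    exact hr₁
  have hsum : ι a = -(r₁ + r₁ ^ q) := by
    have h1 : (r₁ - r₁ ^ q) * (r₁ + r₁ ^ q + ι a) = 0 := by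
      have : r₁ ^ 2 + ι a * r₁ + ι c - ((r₁ ^ q) ^ 2 + ι a * r₁ ^ q + ι c) = 0 := by
        rw [hr₁, hr₂, sub_zero]
      rw [← this]; ring
    rcases mul_eq_zero.mp h1 with h | h
    · exact absurd (sub_eq_zero.mp h) hne
    · linear_combination h
  have hprod : ι c = r₁ * r₁ ^ q := by
    have : ι c = -(r₁ ^ 2) - ι a * r₁ := by linear_combination hr₁
    rw [this, hsum]; ring
  exact ⟨r₁, hne, hsum, hprod⟩

include hK hF in
/-- `K` with the norm is the given anisotropic binary form in suitable coordinates. -/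
theorem isoBinary (a c : F)
    (hac : ∀ z₁ z₂ : F, z₁ ^ 2 + a * z₁ * z₂ + c * z₂ ^ 2 = 0 → z₁ = 0 ∧ z₂ = 0) :
    ∃ g : K ≃ₗ[F] (Fin 2 → F), ∀ x : K,
      ι ((g x 0) ^ 2 + a * g x 0 * g x 1 + c * (g x 1) ^ 2) = x * x ^ q := by
  classical
  obtain ⟨r, hne, hsum, hprod⟩ := exists_conj_root hK hF a c hac
  have hrF : ∀ x : F, ι x ≠ r := by
    intro x hx
    apply hne
    rw [← hx, ringHom_pow_card ι hF]
  have hli : LinearIndependent F ![(1 : K), -r] := by
    rw [LinearIndependent.pair_iff]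
    intro s t hst
    rw [Algebra.smul_def, Algebra.smul_def, mul_one] at hst
    have ht : t = 0 := by
      by_contra ht
      apply hrF (s / t)
      have hιt : ι t ≠ 0 := (map_ne_zero _).mpr ht
      have h1 : ι t * r = ι s := by linear_combination -hst
      rw [map_div₀, ← h1]
      field_simp
    subst ht
    rw [map_zero, zero_mul, add_zero] at hst
    exact ⟨(map_eq_zero _).mp hst, rfl⟩
  have hfr : finrank F K = 2 := finrank_eq_two_of_card hK hF
  let bK : Basis (Fin 2) F K := basisOfLinearIndependentOfCardEqFinrank hli (by simp [hfr])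
  have hbK : ⇑bK = ![(1 : K), -r] := coe_basisOfLinearIndependentOfCardEqFinrank _ _
  refine ⟨bK.equivFun, ?_⟩
  intro x
  have hx : x = ι (bK.equivFun x 0) - ι (bK.equivFun x 1) * r := by
    conv_lhs => rw [← bK.sum_equivFun x]
    rw [Fin.sum_univ_two, hbK, Algebra.smul_def, Algebra.smul_def]
    simp
    ring
  set z₁ := bK.equivFun x 0
  set z₂ := bK.equivFun x 1
  have hxq : x ^ q = ι z₁ - ι z₂ * r ^ q := by
    rw [hx, sub_pow_card_of_ringHom ι hF, mul_pow, ringHom_pow_card ι hF, ringHom_pow_card ι hF]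
  rw [hxq]
  conv_rhs => rw [hx]
  simp only [map_add, map_mul, map_pow, hsum, hprod]
  ring

include hK hF in
theorem main (h : ℕ) (a c : F)
    (hac : ∀ z₁ z₂ : F, z₁ ^ 2 + a * z₁ * z₂ + c * z₂ ^ 2 = 0 → z₁ = 0 ∧ z₂ = 0) :
    ∃ φ : ↥(Cfsg.GU (h + h + 1) K q) →*
      ↥(Cfsg.isometryGroup F (Cfsg.quadFormMinus (h + h) F a c)), Function.Injective φ := by
  classical
  obtain ⟨g₁, hg₁⟩ := isoEven hK hF h
  obtain ⟨g₂, hg₂⟩ := isoBinary hK hF a c hac
  let g : (Fin (h + h + 1) → K) ≃ₗ[F] ((Fin (h + h) ⊕ Fin (h + h)) ⊕ Fin 2 → F) :=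
    ((Fin.consLinearEquiv F (fun _ : Fin (h + h + 1) => K)).symm.trans
      ((LinearEquiv.prodCongr g₂ g₁).trans (LinearEquiv.prodComm F _ _))).trans
      (LinearEquiv.sumArrowLequivProdArrow (Fin (h + h) ⊕ Fin (h + h)) (Fin 2) F F).symm
  have hgl : ∀ (u : Fin (h + h + 1) → K) (x : Fin (h + h) ⊕ Fin (h + h)),
      g u (Sum.inl x) = g₁ (Fin.tail u) x := fun u x => rfl
  have hgr : ∀ (u : Fin (h + h + 1) → K) (j : Fin 2), g u (Sum.inr j) = g₂ (u 0) j :=
    fun u j => rfl
  have hg : ∀ u, Cfsg.quadFormMinus (h + h) F a c (g u) = normForm hK hF (h + h + 1) u := by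
    intro u
    apply (algebraMap F K).injective
    have e1 : Cfsg.quadFormMinus (h + h) F a c (g u) =
        Cfsg.quadFormPlus (h + h) F (g₁ (Fin.tail u)) +
          ((g₂ (u 0) 0) ^ 2 + a * g₂ (u 0) 0 * g₂ (u 0) 1 + c * (g₂ (u 0) 1) ^ 2) := by
      simp only [Cfsg.quadFormMinus, Cfsg.quadFormPlus, hgl, hgr]
    rw [e1, map_add, hg₂, hg₁, ι_normForm, ι_normForm]
    unfold Cfsg.hermForm
    rw [Fin.sum_univ_succ]
    simp only [Fin.tail]
    ring
  exact exists_embedding_of_isometry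
    ((glEnd (F := F) (h + h + 1)).comp (Cfsg.GU (h + h + 1) K q).subtype)
    (fun x y hxy => Subtype.ext (glEnd_injective (h + h + 1) hxy))
    (normForm hK hF (h + h + 1))
    (fun x v => normForm_GU hK hF (h + h + 1) x.1 x.2 v)
    (Cfsg.quadFormMinus (h + h) F a c) g hg

end

theorem result {K F : Type*} [Field K] [Fintype K] [Field F] [Fintype F] {q : ℕ} (hK : Fintype.card K = q ^ 2) (hF : Fintype.card F = q) (m : ℕ) (hm : Odd m) (a b : F) (hab : ∀ z₁ z₂ : F, z₁ ^ 2 + a * z₁ * z₂ + b * z₂ ^ 2 = 0 → z₁ = 0 ∧ z₂ = 0) : ∃ φ : ↥(Cfsg.GU m K q) →* ↥(Cfsg.isometryGroup F (Cfsg.quadFormMinus (m - 1) F a b)), Function.Injective φ := by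
  obtain ⟨ι₀⟩ := exists_ringHom_of_card_sq hK hF
  letI : Algebra F K := ι₀.toAlgebra
  obtain ⟨k, hk⟩ := hm
  have hm' : m = k + k + 1 := by omega
  subst hm'
  exact main hK hF k a b hab

end Cfsg.Agent.S2641
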