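import Cfsg.Statements.S2642
import Cfsg.Agent.Helper21.UJ2
import Cfsg.Agent.S2570
import Cfsg.Agent.S2587

set_option autoImplicit false
open Cfsg

namespace Cfsg.Agent.S2642

/-- Number of conjugacy classes of elements of order p in the general unitary group GU_n(q), q a power of p: every unipotent Jordan type occurs and the classes correspond to the partitions of n with all parts at most p other than the all-ones partition, exactly as in GL_n; so there are (number of partitions of n with parts ≤ p) − 1 classes. -/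
theorem result {K : Type*} [Field K] [Fintype K] {p q n : ℕ} [Fact p.Prime] [CharP K p] (hK : Fintype.card K = q ^ 2) : Nat.card {C : ConjClasses ↥(Cfsg.GU n K q) // ∃ g : ↥(Cfsg.GU n K q), ConjClasses.mk g = C ∧ orderOf g = p} = (Finset.univ.filter (fun μ : Nat.Partition n => ∀ a ∈ μ.parts, a ≤ p)).card - 1 := by
  classical
  obtain ⟨σ, hσ, hσ2⟩ := Cfsg.Agent.Helper28.exists_frob hK
  obtain ⟨ξ0, hξ0⟩ := Cfsg.Agent.Helper21.NS.exists_pow_ne hK
  have hξ0' : σ ξ0 ≠ ξ0 := by rw [hσ]; exact hξ0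
  rw [← Cfsg.Agent.S2570.result (F := K) (p := p) n]
  have hord : ∀ g : ↥(Cfsg.GU n K q), orderOf (g : GL (Fin n) K) = orderOf g :=
    fun g => Subgroup.orderOf_coe g
  let f : {C : ConjClasses ↥(Cfsg.GU n K q) // ∃ g : ↥(Cfsg.GU n K q),
        ConjClasses.mk g = C ∧ orderOf g = p} →
      {C : ConjClasses (GL (Fin n) K) // ∃ g : GL (Fin n) K,
        ConjClasses.mk g = C ∧ orderOf g = p} := fun C =>
    ⟨ConjClasses.map (Cfsg.GU n K q).subtype C.1, by
      obtain ⟨g, hg, hgo⟩ := C.2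
      refine ⟨(g : GL (Fin n) K), ?_, ?_⟩
      · rw [← hg]
        rfl
      · rw [hord, hgo]⟩
  apply Nat.card_congr
  refine Equiv.ofBijective f ⟨?_, ?_⟩
  · rintro ⟨C, g, rfl, hg⟩ ⟨C', g', rfl, hg'⟩ h
    have h1 : ConjClasses.mk (g : GL (Fin n) K) = ConjClasses.mk (g' : GL (Fin n) K) :=
      congrArg Subtype.val h
    rw [ConjClasses.mk_eq_mk_iff_isConj] at h1
    apply Subtype.ext
    show ConjClasses.mk g = ConjClasses.mk g'
    rw [ConjClasses.mk_eq_mk_iff_isConj]
    exact (Cfsg.Agent.S2587.result hK g g').2 h1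
  · rintro ⟨D, h, rfl, hh⟩
    have hnil : IsNilpotent (Cfsg.Agent.Helper21.Jordan.nilPart h) :=
      (Cfsg.Agent.Helper21.Jordan.isNilpotent_nilPart_iff p h).2 ⟨1, by rw [hh, pow_one]⟩
    have hJ := Cfsg.Agent.Helper21.Jordan.jordanType_spec _ hnil
    have hpos : ∀ b ∈ Cfsg.Agent.Helper21.Jordan.jordanType (Cfsg.Agent.Helper21.Jordan.nilPart h),
        0 < b := by
      intro b hb
      rcases Nat.eq_zero_or_pos b with rfl | hb0
      · exact absurd hb hJ.zero_notMem
      · exact hb0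
    have hsum : (Cfsg.Agent.Helper21.Jordan.jordanType
        (Cfsg.Agent.Helper21.Jordan.nilPart h)).sum = n := by
      rw [hJ.sum_eq, Module.finrank_fin_fun]
    obtain ⟨X, hX, hXJ⟩ := Cfsg.Agent.Helper21.UJ.exists_unitary_of_type σ hσ2 ξ0 hξ0' _ hpos n hsum
    obtain ⟨x, hx⟩ : ∃ x : ↥(Cfsg.GU n K q), x = Cfsg.Agent.Helper28.GUlib.mkGU σ hσ X hX := ⟨_, rfl⟩
    have hxX : ((x : GL (Fin n) K) : Matrix (Fin n) (Fin n) K) = X := by rw [hx]; rfl
    have hnx : Cfsg.Agent.Helper21.Jordan.nilPart (x : GL (Fin n) K) = Matrix.toLin' (X - 1) := by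
      rw [Cfsg.Agent.Helper21.Jordan.nilPart, hxX]
    rw [← hnx] at hXJ
    obtain ⟨φ, hφ⟩ := hJ.exists_conj hXJ
    have hconj : IsConj h (x : GL (Fin n) K) :=
      Cfsg.Agent.Helper21.Jordan.isConj_of_nilPart h _ φ hφ
    have hxo : orderOf x = p := by
      rw [← hord, ← hh]
      obtain ⟨c, hc⟩ := isConj_iff.1 hconj
      rw [← hc]
      exact orderOf_injective (MulAut.conj c).toMonoidHom (MulAut.conj c).injective h
    refine ⟨⟨ConjClasses.mk x, x, rfl, hxo⟩, ?_⟩
    apply Subtype.ext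
    show ConjClasses.mk (x : GL (Fin n) K) = ConjClasses.mk h
    rw [ConjClasses.mk_eq_mk_iff_isConj]
    exact hconj.symm

end Cfsg.Agent.S2642
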