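import Cfsg.Statements.S2643
import Cfsg.Agent.Helper21.SUReg3

set_option autoImplicit false
open Cfsg

namespace Cfsg.Agent.S2643

/-- Regular unipotent classes of SU_n(q), n ≥ 2: the elements u of the special unitary group (isometries of Σ u_i v_i^q of determinant one over the field with q² elements) with (u − 1)^n = 0 and rank(u − 1) = n − 1 form exactly gcd(n, q + 1) conjugacy classes of SU_n(q). -/
theorem result {K : Type*} [Field K] [Fintype K] {q n : ℕ} (hK : Fintype.card K = q ^ 2) (hn : 2 ≤ n) : Nat.card {C : ConjClasses ↥(Cfsg.SU n K q) // ∃ u : ↥(Cfsg.SU n K q), ConjClasses.mk u = C ∧ (((u : GL (Fin n) K) : Matrix (Fin n) (Fin n) K) - 1) ^ n = 0 ∧ (((u : GL (Fin n) K) : Matrix (Fin n) (Fin n) K) - 1).rank = n - 1} = Nat.gcd n (q + 1) := by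
  have hn0 : 0 < n := by omega
  obtain ⟨x0, hx0⟩ := Cfsg.Agent.Helper21.SUReg.exists_reg_SU (K := K) (q := q) hK hn0
  have key := Cfsg.Agent.Helper21.SUReg.card_classes_of_normal
    (Cfsg.Agent.Helper21.SUReg.suToGU K q n) Cfsg.Agent.Helper21.SUReg.suToGU_injective
    (Cfsg.Agent.Helper21.SUReg.detA hK n) (Cfsg.Agent.Helper21.SUReg.detA_surjective hK hn0)
    (Cfsg.Agent.Helper21.SUReg.detA_eq_one_iff hK) x0
    (fun s => Cfsg.Agent.Helper21.SUReg.IsReg
      ((s : Matrix.SpecialLinearGroup (Fin n) K) : Matrix (Fin n) (Fin n) K))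
    (fun s => Cfsg.Agent.Helper21.SUReg.isReg_iff_isConj hK hn0 x0 s hx0)
  rw [Cfsg.Agent.Helper21.SUReg.map_centralizer_eq hK hn0 x0 hx0] at key
  have hcyc : IsCyclic ↥(Cfsg.Agent.Helper21.SUReg.normOne K q) := inferInstance
  rw [IsCyclic.index_powMonoidHom_range, Cfsg.Agent.Helper21.SUReg.card_normOne hK,
    Nat.gcd_comm] at key
  rw [← key]
  apply Nat.card_congr
  refine Equiv.subtypeEquivRight (fun C => ?_)
  constructor
  · rintro ⟨u, hu, h1, h2⟩
    refine ⟨u, hu, h1, ?_⟩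
    show (((u : Matrix.SpecialLinearGroup (Fin n) K) : Matrix (Fin n) (Fin n) K) - 1).rank + 1 = n
    have h3 : (((u : Matrix.SpecialLinearGroup (Fin n) K) : Matrix (Fin n) (Fin n) K) - 1).rank
        = n - 1 := h2
    omega
  · rintro ⟨u, hu, h1, h2⟩
    refine ⟨u, hu, h1, ?_⟩
    show (((u : Matrix.SpecialLinearGroup (Fin n) K) : Matrix (Fin n) (Fin n) K) - 1).rank = n - 1
    have h3 : (((u : Matrix.SpecialLinearGroup (Fin n) K) : Matrix (Fin n) (Fin n) K) - 1).rank + 1
        = n := h2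
    omega

end Cfsg.Agent.S2643
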