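import Cfsg.Statements.S2646
import Cfsg.Agent.Helper21.UC6
import Cfsg.Agent.Helper21.JC6

set_option autoImplicit false
open Cfsg

namespace Cfsg.Agent.S2646

theorem cast_factor (q i : ℕ) (hq : 1 ≤ q) :
    (((if Even i then q ^ (i + 1) + 1 else q ^ (i + 1) - 1 : ℕ)) : ℤ)
      = (q : ℤ) ^ (i + 1) - (-1) ^ (i + 1) := by
  split_ifs with h
  · rw [(h.add_one).neg_one_pow]
    push_cast
    ring
  · have h' : Even (i + 1) := by
      rcases Nat.even_or_odd i with h1 | h1
      · exact absurd h1 h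
      · exact h1.add_one
    have h1 : 1 ≤ q ^ (i + 1) := Nat.one_le_pow _ _ hq
    rw [h'.neg_one_pow, Nat.cast_sub h1]
    push_cast
    ring

theorem card_GU_int {K : Type*} [Field K] [Fintype K] {q : ℕ} (hK : Fintype.card K = q ^ 2)
    (hq : 1 ≤ q) (m : ℕ) :
    (Nat.card ↥(Cfsg.GU m K q) : ℤ) = (q : ℤ) ^ (m * (m - 1) / 2) *
      ∏ j : Fin m, ((q : ℤ) ^ ((j : ℕ) + 1) - (-1) ^ ((j : ℕ) + 1)) := by
  rw [Cfsg.Agent.Helper2.Herm.card_GU_closed hK m]
  push_cast
  congr 1
  rw [← Finset.prod_range (fun j => ((q : ℤ) ^ (j + 1) - (-1) ^ (j + 1)))]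
  apply Finset.prod_congr rfl
  intro j _
  have := cast_factor q j hq
  rw [← this]
  split_ifs <;> push_cast <;> rfl

/-- Order of the centraliser in the general unitary group GU_n(q) of a unipotent element of given Jordan type: if u ∈ GU_n(q) (isometries of Σ u_i v_i^q over the field with q² elements) is similar to the unipotent matrix with a_i Jordan blocks of size i (all sizes at least 1), then its centraliser in GU_n(q) has order q^γ · Π_i |GU_(a_i)(q)| with γ = 2 Σ_(i<j) i a_i a_j + Σ_i (i − 1) a_i², the same exponent as in GL_n(q), where |GU_a(q)| = q^(a(a−1)/2) Π_(k=1)^a (q^k − (−1)^k). -/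
theorem result {K : Type*} [Field K] [Fintype K] {q n t : ℕ} (hK : Fintype.card K = q ^ 2) (d : Fin t → ℕ) (hd : ∀ k, 1 ≤ d k) (e : ((k : Fin t) × Fin (d k)) ≃ Fin n) (u : ↥(Cfsg.GU n K q)) (hu : IsConj (Matrix.reindex e e (Cfsg.jordanTypeMatrix d K)) ((u : GL (Fin n) K) : Matrix (Fin n) (Fin n) K)) : (Nat.card ↥(Subgroup.centralizer ({u} : Set ↥(Cfsg.GU n K q))) : ℤ) = (q : ℤ) ^ (2 * (∑ i ∈ Finset.range (Finset.univ.sup d + 1), ∑ j ∈ Finset.range (Finset.univ.sup d + 1), if i < j then i * (Finset.univ.filter (fun k : Fin t => d k = i)).card * (Finset.univ.filter (fun k : Fin t => d k = j)).card else 0) + ∑ i ∈ Finset.range (Finset.univ.sup d + 1), (i - 1) * (Finset.univ.filter (fun k : Fin t => d k = i)).card ^ 2) * ∏ i ∈ Finset.range (Finset.univ.sup d + 1), ((q : ℤ) ^ ((Finset.univ.filter (fun k : Fin t => d k = i)).card * ((Finset.univ.filter (fun k : Fin t => d k = i)).card - 1) / 2) * ∏ j : Fin (Finset.univ.filter (fun k : Fin t => d k = i)).card,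 ((q : ℤ) ^ ((j : ℕ) + 1) - (-1) ^ ((j : ℕ) + 1))) := by
  have hq : 1 ≤ q := by
    rcases Nat.eq_zero_or_pos q with rfl | h
    · rw [zero_pow two_ne_zero] at hK
      exact absurd hK Fintype.card_ne_zero
    · exact h
  rw [Cfsg.Agent.Helper21.UC.card_centralizer_GU hK d hd e u hu,
    Cfsg.Agent.Helper21.JC.exponent_eq d hd]
  push_cast
  rw [mul_comm]
  congr 1
  rw [← Fin.prod_univ_eq_prod_range (fun i => ((q : ℤ) ^ ((Finset.univ.filter (fun k : Fin t => d k = i)).card * ((Finset.univ.filter (fun k : Fin t => d k = i)).card - 1) / 2) * ∏ j : Fin (Finset.univ.filter (fun k : Fin t => d k = i)).card, ((q : ℤ) ^ ((j : ℕ) + 1) - (-1) ^ ((j : ℕ) + 1))))]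
  apply Finset.prod_congr rfl
  intro a _
  rw [Cfsg.Agent.Helper21.JC.card_block d (a : ℕ), card_GU_int hK hq]
  rfl

end Cfsg.Agent.S2646
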