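import Mathlib
import Cfsg.Statements.S2665

set_option autoImplicit false
set_option linter.style.haveILetI false
open Cfsg

namespace Cfsg.Agent.S2665

open Matrix Polynomial

section poly

variable {K : Type*} [Field K]

/-- polynomials computing the coefficients of a fixed vector. -/
noncomputable def Cpoly (Q : ℕ) (a : ℕ → K) : ℕ → K[X]
  | 0 => C (a 0) * X
  | (i + 1) => (Cpoly Q a i) ^ Q + C (a (i + 1)) * X

theorem Cpoly_eval_zero {Q : ℕ} (hQ : 2 ≤ Q) (a : ℕ → K) (i : ℕ) : (Cpoly Q a i).eval 0 = 0 := by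
  induction i with
  | zero => simp [Cpoly]
  | succ i ih =>
    simp only [Cpoly, eval_add, eval_pow, ih, eval_mul, eval_C, eval_X, mul_zero, add_zero]
    exact zero_pow (by omega)

theorem natDegree_pos_of_eval_zero {p : K[X]} (hp : p ≠ 0) (h0 : p.eval 0 = 0) :
    1 ≤ p.natDegree := by
  by_contra hlt
  have h1 : p.natDegree = 0 := by omega
  have h2 := Polynomial.eq_C_of_natDegree_eq_zero h1
  rw [h2, eval_C] at h0
  rw [h0, map_zero] at h2
  exact hp h2

theorem natDegree_C_mul_X_le (c : K) : (C c * X : K[X]).natDegree ≤ 1 := by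
  calc (C c * X : K[X]).natDegree ≤ (C c).natDegree + (X : K[X]).natDegree := natDegree_mul_le
    _ ≤ 0 + 1 := by
      apply Nat.add_le_add
      · rw [natDegree_C]
      · exact natDegree_X_le
    _ = 1 := by ring

theorem Cpoly_ne_zero {Q : ℕ} (hQ : 2 ≤ Q) (a : ℕ → K) (i : ℕ) (h : ∃ j ≤ i, a j ≠ 0) :
    Cpoly Q a i ≠ 0 := by
  induction i with
  | zero =>
    obtain ⟨j, hj, haj⟩ := h
    have : j = 0 := by omega
    subst this
    simp only [Cpoly]
    exact mul_ne_zero (C_ne_zero.mpr haj) X_ne_zero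
  | succ i ih =>
    by_cases hCi : Cpoly Q a i = 0
    · have hai : a (i + 1) ≠ 0 := by
        obtain ⟨j, hj, haj⟩ := h
        by_cases hji : j ≤ i
        · exact absurd hCi (ih ⟨j, hji, haj⟩)
        · have : j = i + 1 := by omega
          rwa [this] at haj
      simp only [Cpoly, hCi, zero_pow (by omega : Q ≠ 0), zero_add]
      exact mul_ne_zero (C_ne_zero.mpr hai) X_ne_zero
    · have h1 := natDegree_pos_of_eval_zero hCi (Cpoly_eval_zero hQ a i)
      have h2 : ((Cpoly Q a i) ^ Q).natDegree = Q * (Cpoly Q a i).natDegree := natDegree_pow _ _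
      have h3 : (C (a (i + 1)) * X : K[X]).natDegree < ((Cpoly Q a i) ^ Q).natDegree := by
        have := natDegree_C_mul_X_le (a (i + 1))
        rw [h2]
        nlinarith
      have h4 := natDegree_add_eq_left_of_natDegree_lt h3
      intro h0
      simp only [Cpoly] at h0
      rw [h0, natDegree_zero, h2] at h4
      nlinarith

/-- a nonzero root of `C ^ Q - X`. -/
theorem exists_root_ne_zero [IsAlgClosed K] {Q : ℕ} (hQ : 2 ≤ Q) (hQ0 : (Q : K) = 0) (p : K[X])
    (hp : p ≠ 0) (h0 : p.eval 0 = 0) : ∃ t : K, t ≠ 0 ∧ (p.eval t) ^ Q = t := by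
  classical
  set P : K[X] := p ^ Q - X with hP
  have h1 := natDegree_pos_of_eval_zero hp h0
  have h2 : (p ^ Q).natDegree = Q * p.natDegree := natDegree_pow _ _
  have h3 : (X : K[X]).natDegree < (p ^ Q).natDegree := by
    rw [natDegree_X, h2]; nlinarith
  have hdeg : P.natDegree = Q * p.natDegree := by
    rw [hP, natDegree_sub_eq_left_of_natDegree_lt h3, h2]
  have hsep : P.Separable := by
    rw [separable_def]
    have hd : derivative P = -1 := by
      rw [hP, derivative_sub, derivative_pow, derivative_X, hQ0, map_zero,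
        zero_mul, zero_mul, zero_sub]
    rw [hd]
    exact isCoprime_one_right.neg_right
  have hcard : P.roots.card = P.natDegree := splits_iff_card_roots.mp (IsAlgClosed.splits P)
  have hnd : P.roots.Nodup := nodup_roots hsep
  have hfin : 1 < P.roots.toFinset.card := by
    rw [Multiset.toFinset_card_of_nodup hnd, hcard, hdeg]
    nlinarith
  obtain ⟨t, ht, ht0⟩ := Finset.exists_mem_ne hfin 0
  refine ⟨t, ht0, ?_⟩
  rw [Multiset.mem_toFinset] at ht
  have := (mem_roots'.mp ht).2
  rw [IsRoot.def, hP, eval_sub, eval_pow, eval_X, sub_eq_zero] at this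
  exact this

end poly

section FV

variable {K : Type*} [Field K] (σ : K →+* K) {ι : Type*} [Fintype ι]

/-- the semilinear map `v ↦ g σ(v)`. -/
def T (g : Matrix ι ι K) (v : ι → K) : ι → K := g *ᵥ (fun i => σ (v i))

theorem T_add (g : Matrix ι ι K) (u v : ι → K) : T σ g (u + v) = T σ g u + T σ g v := by
  unfold T
  rw [← Matrix.mulVec_add]
  congr 1
  funext i
  simp

theorem T_smul (g : Matrix ι ι K) (c : K) (v : ι → K) : T σ g (c • v) = σ c • T σ g v := by
  unfold T
  rw [← Matrix.mulVec_smul]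
  congr 1
  funext i
  simp

theorem T_zero (g : Matrix ι ι K) : T σ g 0 = 0 := by
  unfold T
  have : (fun i : ι => σ ((0 : ι → K) i)) = 0 := by
    funext i; simp
  rw [this, Matrix.mulVec_zero]

theorem T_sum (g : Matrix ι ι K) (s : Finset ℕ) (f : ℕ → ι → K) :
    T σ g (∑ i ∈ s, f i) = ∑ i ∈ s, T σ g (f i) := by
  classical
  induction s using Finset.induction_on with
  | empty => simp [T_zero]
  | insert a s ha ih => rw [Finset.sum_insert ha, Finset.sum_insert ha, T_add, ih]

theorem T_injective [DecidableEq ι] (g : Matrix ι ι K) (hg : IsUnit g) : Function.Injective (T σ g) := by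
  intro u v huv
  have h1 := (Matrix.mulVec_injective_iff_isUnit.mpr hg) huv
  funext i
  exact σ.injective (congrFun h1 i)

variable [IsAlgClosed K] {Q : ℕ} [DecidableEq ι]

include σ in
theorem exists_fixed (hQ : 2 ≤ Q) (hQ0 : (Q : K) = 0) (hσ : ∀ x, σ x = x ^ Q) [Nonempty ι]
    (g : Matrix ι ι K) (hg : IsUnit g) : ∃ v : ι → K, v ≠ 0 ∧ T σ g v = v := by
  classical
  obtain ⟨i₀⟩ := ‹Nonempty ι›
  set w : ι → K := Pi.single i₀ 1 with hwdef
  have hw : w ≠ 0 := by
    intro h
    have := congrFun h i₀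
    simp [hwdef] at this
  set W : ℕ → (ι → K) := fun i => (T σ g)^[i] w with hWdef
  have hW0 : W 0 = w := rfl
  have hWs : ∀ i, W (i + 1) = T σ g (W i) := fun i => Function.iterate_succ_apply' _ _ _
  have hex : ∃ d, ¬ LinearIndependent K (fun i : Fin d => W i) := by
    refine ⟨Fintype.card ι + 1, fun h => ?_⟩
    have := h.fintype_card_le_finrank
    simp at this
  set D := Nat.find hex with hDdef
  have hD : ¬ LinearIndependent K (fun i : Fin D => W i) := Nat.find_spec hex
  have hDmin : ∀ d < D, LinearIndependent K (fun i : Fin d => W i) :=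
    fun d hd => not_not.mp (Nat.find_min hex hd)
  have hD1 : 2 ≤ D := by
    by_contra hlt
    have h01 : D = 0 ∨ D = 1 := by omega
    rcases h01 with h | h
    · apply hD
      rw [h]
      exact linearIndependent_empty_type
    · apply hD
      rw [h]
      rw [linearIndependent_unique_iff]
      exact hw
  obtain ⟨e, he⟩ : ∃ e, D = e + 1 + 1 := ⟨D - 2, by omega⟩
  have hind : LinearIndependent K (fun i : Fin (e + 1) => W i) := hDmin (e + 1) (by omega)
  have hdep : ¬ LinearIndependent K (fun i : Fin (e + 1 + 1) => W i) := by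
    rw [← he]; exact hD
  rw [linearIndependent_finSucc'] at hdep
  have hinit : (Fin.init fun i : Fin (e + 1 + 1) => W i) = fun i : Fin (e + 1) => W i := by
    funext i
    simp [Fin.init]
  rw [hinit] at hdep
  have hmem : W (e + 1) ∈ Submodule.span K (Set.range fun i : Fin (e + 1) => W i) := by
    by_contra hcon
    exact hdep ⟨hind, by simpa using hcon⟩
  obtain ⟨a, ha⟩ := (Submodule.mem_span_range_iff_exists_fun K).mp hmem
  set a' : ℕ → K := fun i => if h : i < e + 1 then a ⟨i, h⟩ else 0 with ha'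
  have hsum : W (e + 1) = ∑ i ∈ Finset.range (e + 1), a' i • W i := by
    rw [← Fin.sum_univ_eq_sum_range (fun i => a' i • W i) (e + 1), ← ha]
    apply Finset.sum_congr rfl
    intro i _
    simp only [ha']
    rw [dif_pos i.2]
  have hWne : ∀ i, W i ≠ 0 := by
    intro i
    induction i with
    | zero => exact hw
    | succ i ih =>
      rw [hWs]
      intro h0
      rw [← T_zero σ g] at h0
      exact ih (T_injective σ g hg h0)
  have hsome : ∃ j ≤ e, a' j ≠ 0 := by
    by_contra hcon
    push Not at hcon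
    apply hWne (e + 1)
    rw [hsum]
    apply Finset.sum_eq_zero
    intro i hi
    rw [hcon i (by simpa [Nat.lt_succ_iff] using hi), zero_smul]
  have hCne := Cpoly_ne_zero hQ a' e hsome
  obtain ⟨t, ht0, ht⟩ := exists_root_ne_zero hQ hQ0 (Cpoly Q a' e) hCne (Cpoly_eval_zero hQ a' e)
  set c : ℕ → K := fun i => (Cpoly Q a' i).eval t with hc
  have hc0 : c 0 = a' 0 * t := by simp [hc, Cpoly]
  have hcs : ∀ i, c (i + 1) = (c i) ^ Q + a' (i + 1) * t := by
    intro i
    simp [hc, Cpoly]
  have hce : (c e) ^ Q = t := ht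
  refine ⟨∑ i ∈ Finset.range (e + 1), c i • W i, ?_, ?_⟩
  · intro h0
    rw [← Fin.sum_univ_eq_sum_range (fun i => c i • W i) (e + 1)] at h0
    have := Fintype.linearIndependent_iff.mp hind (fun i => c i) h0 (Fin.last e)
    simp only [Fin.val_last] at this
    rw [this, zero_pow (by omega)] at hce
    exact ht0 hce.symm
  · rw [T_sum]
    simp only [T_smul, hσ, ← hWs]
    rw [Finset.sum_range_succ, hce, hsum, Finset.sum_range_succ' (fun i => c i • W i),
      Finset.sum_range_succ' (fun i => a' i • W i), hc0]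
    simp only [hcs, add_smul, Finset.sum_add_distrib, smul_add, Finset.smul_sum, mul_smul]
    rw [add_assoc]
    congr 1
    congr 1
    · apply Finset.sum_congr rfl
      intro i _
      rw [smul_comm]
    · rw [smul_comm]

end FV

section LS

variable {K : Type*} [Field K] [IsAlgClosed K] {Q : ℕ} (σ : K →+* K)

theorem exists_artin_schreier (hQ : 2 ≤ Q) (hσ : ∀ x, σ x = x ^ Q) (l : K) :
    ∃ μ : K, σ μ + l = μ := by
  have h1 : (X ^ Q - X : K[X]).natDegree = Q :=
    FiniteField.X_pow_card_sub_X_natDegree_eq K (by omega)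
  have h2 : (X ^ Q - X + C l : K[X]).natDegree = Q := by rw [natDegree_add_C, h1]
  have hdeg : (X ^ Q - X + C l : K[X]).degree ≠ 0 := by
    have := degree_ne_of_natDegree_ne (p := (X ^ Q - X + C l : K[X])) (n := 0)
      (by rw [h2]; omega)
    simpa using this
  obtain ⟨μ, hμ⟩ := IsAlgClosed.exists_root _ hdeg
  refine ⟨μ, ?_⟩
  rw [IsRoot.def, eval_add, eval_sub, eval_pow, eval_X, eval_C] at hμ
  rw [hσ]
  linear_combination hμ

/-- the Lang–Steinberg property of a matrix. -/
def LSat {ι : Type*} [Fintype ι] [DecidableEq ι] (g : Matrix ι ι K) : Prop :=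
  ∃ x : Matrix ι ι K, IsUnit x ∧ g * x.map σ = x

theorem LSat_submatrix {α β : Type*} [Fintype α] [DecidableEq α] [Fintype β] [DecidableEq β]
    (e : α ≃ β) (g : Matrix β β K) (h : LSat σ (g.submatrix e e)) : LSat σ g := by
  obtain ⟨x', hx', hgx'⟩ := h
  refine ⟨x'.submatrix e.symm e.symm, (Matrix.isUnit_submatrix_equiv e.symm e.symm).mpr hx', ?_⟩
  have h1 : (g.submatrix e e * x'.map σ).submatrix e.symm e.symm =
      x'.submatrix e.symm e.symm := by rw [hgx']
  rw [← Matrix.submatrix_mul_equiv _ _ e.symm e.symm e.symm, Matrix.submatrix_submatrix,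
    Matrix.submatrix_map] at h1
  simpa using h1

theorem step {α : Type} [Fintype α] [DecidableEq α] (hQ : 2 ≤ Q) (hσ : ∀ x, σ x = x ^ Q)
    (IH : ∀ h : Matrix α α K, IsUnit h → LSat σ h)
    (g : Matrix (Unit ⊕ α) (Unit ⊕ α) K) (hg : IsUnit g) (v : Unit ⊕ α → K)
    (hv0 : v (Sum.inl ()) ≠ 0) (hv : T σ g v = v) : LSat σ g := by
  classical
  set e₀ : Unit ⊕ α → K := Pi.single (Sum.inl ()) 1 with he₀
  set P : Matrix (Unit ⊕ α) (Unit ⊕ α) K :=
    Matrix.fromBlocks (Matrix.of fun _ _ => v (Sum.inl ())) 0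
      (Matrix.of fun i _ => v (Sum.inr i)) 1 with hP
  have hPdet : P.det = v (Sum.inl ()) := by
    rw [hP, Matrix.det_fromBlocks_zero₁₂, Matrix.det_unique, Matrix.det_one, mul_one]
    rfl
  have hPunit : IsUnit P := by
    rw [Matrix.isUnit_iff_isUnit_det, hPdet]
    exact IsUnit.mk0 _ hv0
  have hPσunit : IsUnit (P.map σ) := hPunit.map σ.mapMatrix
  have hPinv : P⁻¹ * P = 1 := Matrix.nonsing_inv_mul P ((Matrix.isUnit_iff_isUnit_det _).mp hPunit)
  have hPinv' : P * P⁻¹ = 1 := Matrix.mul_nonsing_inv P ((Matrix.isUnit_iff_isUnit_det _).mp hPunit)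
  have hPcol : P *ᵥ e₀ = v := by
    rw [he₀, Matrix.mulVec_single_one]
    funext i
    rcases i with u | i
    · simp [hP, Matrix.col]
    · simp [hP, Matrix.col]
  have hσPcol : (P.map σ) *ᵥ e₀ = fun i => σ (v i) := by
    rw [he₀, Matrix.mulVec_single_one]
    funext i
    rcases i with u | i
    · simp [hP, Matrix.col]
    · simp [hP, Matrix.col]
  set g' : Matrix (Unit ⊕ α) (Unit ⊕ α) K := P⁻¹ * g * P.map σ with hg'
  have hg'col : g' *ᵥ e₀ = e₀ := by
    rw [hg', ← Matrix.mulVec_mulVec, ← Matrix.mulVec_mulVec, hσPcol]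
    have : g *ᵥ (fun i => σ (v i)) = v := hv
    rw [this, ← hPcol, Matrix.mulVec_mulVec, hPinv, Matrix.one_mulVec]
  have hg'unit : IsUnit g' := by
    rw [hg']
    exact ((Matrix.isUnit_nonsing_inv_iff.mpr hPunit).mul hg).mul hPσunit
  have hPg' : P * g' = g * P.map σ := by
    rw [hg', ← Matrix.mul_assoc, ← Matrix.mul_assoc, hPinv', Matrix.one_mul]
  -- block form of g'
  have hcol : ∀ i, g' i (Sum.inl ()) = e₀ i := by
    intro i
    have := congrFun hg'col i
    rw [he₀, Matrix.mulVec_single_one] at this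
    exact this
  set b : Matrix Unit α K := g'.toBlocks₁₂ with hb
  set h : Matrix α α K := g'.toBlocks₂₂ with hh
  have hblocks : g' = Matrix.fromBlocks 1 b 0 h := by
    rw [← Matrix.fromBlocks_toBlocks g']
    congr 1
    · ext i j
      simp [Matrix.toBlocks₁₁, hcol, he₀]
    · ext i j
      simp [Matrix.toBlocks₂₁, hcol, he₀]
  have hhunit : IsUnit h := by
    have h1 := (Matrix.isUnit_iff_isUnit_det _).mp hg'unit
    rw [hblocks, Matrix.det_fromBlocks_zero₂₁, Matrix.det_one, one_mul] at h1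
    exact (Matrix.isUnit_iff_isUnit_det _).mpr h1
  obtain ⟨y, hyunit, hy⟩ := IH h hhunit
  choose μ hμ using fun j : α => exists_artin_schreier σ hQ hσ ((b * y.map σ) () j)
  set c : Matrix Unit α K := Matrix.of fun _ j => μ j with hc
  have hcσ : c.map σ + b * y.map σ = c := by
    ext i j
    simp only [Matrix.add_apply, Matrix.map_apply, hc, Matrix.of_apply]
    exact hμ j
  set x' : Matrix (Unit ⊕ α) (Unit ⊕ α) K := Matrix.fromBlocks 1 c 0 y with hx'
  have hx'unit : IsUnit x' := by
    rw [Matrix.isUnit_iff_isUnit_det, hx', Matrix.det_fromBlocks_zero₂₁, Matrix.det_one, one_mul]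
    exact (Matrix.isUnit_iff_isUnit_det _).mp hyunit
  have hgx' : g' * x'.map σ = x' := by
    rw [hblocks, hx', Matrix.fromBlocks_map, Matrix.fromBlocks_multiply]
    have h1 : (1 : Matrix Unit Unit K).map σ = 1 := by
      ext i j
      simp
    have h0 : (0 : Matrix α Unit K).map σ = 0 := by
      ext i j
      simp
    rw [h1, h0]
    simp only [Matrix.mul_one, Matrix.mul_zero, add_zero, Matrix.one_mul, Matrix.zero_mul, zero_add]
    rw [hcσ, hy]
  refine ⟨P * x', hPunit.mul hx'unit, ?_⟩
  rw [Matrix.map_mul, ← Matrix.mul_assoc, ← hPg', Matrix.mul_assoc, hgx']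

theorem LS_all (hQ : 2 ≤ Q) (hQ0 : (Q : K) = 0) (hσ : ∀ x, σ x = x ^ Q) (n : ℕ) :
    ∀ (ι : Type) [Fintype ι] [DecidableEq ι], Fintype.card ι = n →
      ∀ g : Matrix ι ι K, IsUnit g → LSat σ g := by
  induction n with
  | zero =>
    intro ι _ _ hcard g hg
    haveI : IsEmpty ι := Fintype.card_eq_zero_iff.mp hcard
    exact ⟨g, hg, Subsingleton.elim _ _⟩
  | succ n ih =>
    intro ι _ _ hcard g hg
    classical
    haveI : Nonempty ι := by
      rw [← Fintype.card_pos_iff]; omega
    obtain ⟨v, hv0, hv⟩ := exists_fixed σ hQ hQ0 hσ g hg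
    obtain ⟨j₀, hj₀⟩ : ∃ j₀, v j₀ ≠ 0 := by
      by_contra hcon
      push Not at hcon
      exact hv0 (funext hcon)
    let α := {j : ι // j ≠ j₀}
    have hα : Fintype.card α = n := by
      have := Fintype.card_subtype_compl (fun j : ι => j = j₀)
      simp only [Fintype.card_subtype_eq] at this
      show Fintype.card {j : ι // ¬ j = j₀} = n
      rw [this, hcard]
      rfl
    let e : Unit ⊕ α ≃ ι :=
      (Equiv.sumComm _ _).trans ((Equiv.optionEquivSumPUnit α).symm.trans (Equiv.optionSubtypeNe j₀))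
    have he0 : e (Sum.inl ()) = j₀ := by
      simp only [e, Equiv.trans_apply, Equiv.sumComm_apply, Sum.swap_inl,
        Equiv.optionEquivSumPUnit_symm_inr]
      convert Equiv.optionSubtypeNe_none j₀
    apply LSat_submatrix σ e g
    apply step σ hQ hσ (ih α hα) (g.submatrix e e) ((Matrix.isUnit_submatrix_equiv e e).mpr hg)
      (v ∘ e)
    · simp only [Function.comp_apply, he0]
      exact hj₀
    · unfold T
      rw [Matrix.submatrix_mulVec_equiv]
      have h1 : ((fun i => σ ((v ∘ e) i)) ∘ e.symm) = fun i => σ (v i) := by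
        funext i
        simp
      rw [h1]
      have : g *ᵥ (fun i => σ (v i)) = v := hv
      rw [this]

end LS

theorem result {K : Type*} [Field K] [IsAlgClosed K] (p : ℕ) [Fact p.Prime] [CharP K p]
    (f : ℕ) (hf : 1 ≤ f) (n : ℕ) (g : GL (Fin n) K) :
    ∃ x : GL (Fin n) K, g = x * (Matrix.GeneralLinearGroup.map (iterateFrobenius K p f) x)⁻¹ := by
  classical
  have hp := (Fact.out : p.Prime)
  have hQ : 2 ≤ p ^ f := by
    calc 2 ≤ p := hp.two_le
      _ = p ^ 1 := (pow_one p).symm
      _ ≤ p ^ f := Nat.pow_le_pow_right hp.pos hf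
  have hQ0 : ((p ^ f : ℕ) : K) = 0 := by
    rw [Nat.cast_pow, CharP.cast_eq_zero K p, zero_pow (by omega)]
  have hσ : ∀ x : K, iterateFrobenius K p f x = x ^ p ^ f := fun x => iterateFrobenius_def p f x
  obtain ⟨x, hx, hgx⟩ := LS_all (iterateFrobenius K p f) hQ hQ0 hσ n (Fin n) (Fintype.card_fin n)
    (g : Matrix (Fin n) (Fin n) K) g.isUnit
  obtain ⟨xu, rfl⟩ := hx
  refine ⟨xu, ?_⟩
  rw [eq_mul_inv_iff_mul_eq]
  apply Units.ext
  have hmap : ((Matrix.GeneralLinearGroup.map (iterateFrobenius K p f) xu : GL (Fin n) K) :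
      Matrix (Fin n) (Fin n) K) = (xu : Matrix (Fin n) (Fin n) K).map (iterateFrobenius K p f) := by
    ext i j
    exact Matrix.GeneralLinearGroup.map_apply _ i j xu
  rw [Units.val_mul, hmap]
  exact hgx

end Cfsg.Agent.S2665
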