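import Mathlib
import Cfsg.Statements.S2666

set_option autoImplicit false
open Cfsg

namespace Cfsg.Agent.S2666

theorem pow_fix {X : Type*} [Group X] (σ : MulAut X) (h : X) (hh : σ h = h) (n : ℕ) : (σ ^ n) h = h := by
  induction n with
  | zero => simp
  | succ n ih => rw [pow_succ, MulAut.mul_apply, hh, ih]

theorem prod_telescope {X : Type*} [Group X] (σ : MulAut X) (g a : X) (ha : g = a * (σ a)⁻¹) (d : ℕ) :
    ((List.range d).map (fun i => (σ ^ i) g)).prod = a * ((σ ^ d) a)⁻¹ := by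
  induction d with
  | zero => simp
  | succ d ih =>
    rw [List.range_succ, List.map_append, List.prod_append, ih]
    simp only [List.map_cons, List.map_nil, List.prod_cons, List.prod_nil, mul_one]
    rw [ha, map_mul, map_inv]
    have : (σ ^ d) (σ a) = (σ ^ (d + 1)) a := by
      rw [pow_succ, MulAut.mul_apply]
    rw [this]
    group

/-- if `g = a σ(a)⁻¹` is fixed by `τ` commuting with `σ`, then `τ(a)⁻¹ a` is fixed by `σ`. -/
theorem x_fixed {X : Type*} [Group X] (σ τ : MulAut X) (hcomm : Commute σ τ) (g a : X)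
    (ha : g = a * (σ a)⁻¹) (hg : τ g = g) : σ ((τ a)⁻¹ * a) = (τ a)⁻¹ * a := by
  have h1 : τ a * (τ (σ a))⁻¹ = a * (σ a)⁻¹ := by
    have := hg
    rw [ha, map_mul, map_inv] at this
    exact this
  have h2 : τ (σ a) = σ (τ a) := by
    calc τ (σ a) = (τ * σ) a := rfl
      _ = (σ * τ) a := by rw [hcomm.eq]
      _ = σ (τ a) := rfl
  rw [h2] at h1
  rw [map_mul, map_inv]
  calc (σ (τ a))⁻¹ * σ a = ((τ a)⁻¹ * (τ a * (σ (τ a))⁻¹)) * σ a := by group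
    _ = ((τ a)⁻¹ * (a * (σ a)⁻¹)) * σ a := by rw [h1]
    _ = (τ a)⁻¹ * a := by group

theorem result {X : Type*} [Group X] (σ : MulAut X) (e : ℕ) (he : 1 ≤ e)
    (hL : ∀ g : X, ∃ a : X, g = a * (σ a)⁻¹) (hLe : ∀ g : X, ∃ a : X, g = a * ((σ ^ e) a)⁻¹) :
    (∀ g ∈ (MulEquiv.toMonoidHom (σ ^ e)).eqLocus (MonoidHom.id X), ∀ a : X, g = a * (σ a)⁻¹ →
        ((σ ^ e) a)⁻¹ * a ∈ (MulEquiv.toMonoidHom σ).eqLocus (MonoidHom.id X) ∧
          a⁻¹ * ((List.range e).map (fun i => (σ ^ i) g)).prod * a = ((σ ^ e) a)⁻¹ * a) ∧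
    (∀ g ∈ (MulEquiv.toMonoidHom (σ ^ e)).eqLocus (MonoidHom.id X), ∀ g' ∈ (MulEquiv.toMonoidHom (σ ^ e)).eqLocus (MonoidHom.id X), ∀ a b : X,
        g = a * (σ a)⁻¹ → g' = b * (σ b)⁻¹ →
          ((∃ k ∈ (MulEquiv.toMonoidHom (σ ^ e)).eqLocus (MonoidHom.id X), g' = k * g * (σ k)⁻¹) ↔
            (∃ h ∈ (MulEquiv.toMonoidHom σ).eqLocus (MonoidHom.id X), ((σ ^ e) b)⁻¹ * b = h * (((σ ^ e) a)⁻¹ * a) * h⁻¹))) ∧
    (∀ x ∈ (MulEquiv.toMonoidHom σ).eqLocus (MonoidHom.id X), ∃ g ∈ (MulEquiv.toMonoidHom (σ ^ e)).eqLocus (MonoidHom.id X), ∃ a : X,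
        g = a * (σ a)⁻¹ ∧ ((σ ^ e) a)⁻¹ * a = x) := by
  have mem_iff : ∀ (τ : MulAut X) (y : X), y ∈ (MulEquiv.toMonoidHom τ).eqLocus (MonoidHom.id X) ↔ τ y = y := by
    intro τ y
    rfl
  simp only [mem_iff]
  have hcomm : Commute σ (σ ^ e) := (Commute.refl σ).pow_right e
  have hfixτ : ∀ h : X, σ h = h → (σ ^ e) h = h := fun h hh => pow_fix σ h hh e
  have htel := fun g a ha => prod_telescope σ g a ha e
  have hLe' := hLe
  clear hLe
  generalize σ ^ e = τ at *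
  refine ⟨?_, ?_, ?_⟩
  · intro g hg a ha
    refine ⟨x_fixed σ τ hcomm g a ha hg, ?_⟩
    rw [htel g a ha]
    group
  · intro g hg g' hg' a b ha hb
    constructor
    · rintro ⟨k, hk, hkg⟩
      -- h = b⁻¹ k a
      have h1 : σ (b⁻¹ * k * a) = b⁻¹ * k * a := by
        rw [ha, hb] at hkg
        simp only [map_mul, map_inv]
        calc (σ b)⁻¹ * σ k * σ a = b⁻¹ * (b * (σ b)⁻¹) * σ k * σ a := by group
          _ = b⁻¹ * (k * (a * (σ a)⁻¹) * (σ k)⁻¹) * σ k * σ a := by rw [hkg]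
          _ = b⁻¹ * k * a := by group
      refine ⟨b⁻¹ * k * a, h1, ?_⟩
      have h2 : τ (b⁻¹ * k * a) = b⁻¹ * k * a := hfixτ _ h1
      simp only [map_mul, map_inv, hk] at h2
      calc (τ b)⁻¹ * b = ((τ b)⁻¹ * k * τ a) * (τ a)⁻¹ * k⁻¹ * b := by group
        _ = (b⁻¹ * k * a) * (τ a)⁻¹ * k⁻¹ * b := by rw [h2]
        _ = b⁻¹ * k * a * ((τ a)⁻¹ * a) * (b⁻¹ * k * a)⁻¹ := by group
    · rintro ⟨h, hh, hx⟩
      have hτh : τ h = h := hfixτ h hh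
      refine ⟨b * h * a⁻¹, ?_, ?_⟩
      · simp only [map_mul, map_inv, hτh]
        calc τ b * h * (τ a)⁻¹ = τ b * (h * ((τ a)⁻¹ * a) * h⁻¹) * h * a⁻¹ := by group
          _ = τ b * ((τ b)⁻¹ * b) * h * a⁻¹ := by rw [hx]
          _ = b * h * a⁻¹ := by group
      · rw [ha, hb]
        simp only [map_mul, map_inv, hh]
        group
  · intro x hx
    obtain ⟨c, hc⟩ := hLe' x⁻¹
    have hxinv : σ x⁻¹ = x⁻¹ := by rw [map_inv, hx]
    refine ⟨c⁻¹ * (σ c⁻¹)⁻¹, ?_, c⁻¹, rfl, ?_⟩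
    · -- τ-fixed
      have h2 : τ (σ c) = σ (τ c) := by
        calc τ (σ c) = (τ * σ) c := rfl
          _ = (σ * τ) c := by rw [hcomm.eq]
          _ = σ (τ c) := rfl
      have h3 : σ c * (σ (τ c))⁻¹ = c * (τ c)⁻¹ := by
        have := hxinv
        rw [hc, map_mul, map_inv] at this
        exact this
      simp only [map_mul, map_inv, inv_inv, h2]
      calc (τ c)⁻¹ * σ (τ c) = (τ c)⁻¹ * (σ c * (σ (τ c))⁻¹)⁻¹ * σ c := by group
        _ = (τ c)⁻¹ * (c * (τ c)⁻¹)⁻¹ * σ c := by rw [h3]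
        _ = c⁻¹ * σ c := by group
    · rw [map_inv, inv_inv]
      calc τ c * c⁻¹ = (c * (τ c)⁻¹)⁻¹ := by group
        _ = x := by rw [← hc, inv_inv]

end Cfsg.Agent.S2666
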