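import Mathlib
import Cfsg.Statements.S2668

set_option autoImplicit false
open Cfsg

namespace Cfsg.Agent.S2668

theorem pow_fix {X : Type*} [Group X] (σ : MulAut X) (h : X) (hh : σ h = h) (n : ℕ) : (σ ^ n) h = h := by
  induction n with
  | zero => simp
  | succ n ih => rw [pow_succ, MulAut.mul_apply, hh, ih]

theorem prod_telescope {X : Type*} [Group X] (σ : MulAut X) (g a : X) (ha : g = a * (σ a)⁻¹) (d : ℕ) :
    ((List.range d).map (fun i => (σ ^ i) g)).prod = a * ((σ ^ d) a)⁻¹ := by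
  induction d with
  | zero => simp
  | succ d ih =>
    rw [List.range_succ, List.map_append, List.prod_append, ih]
    simp only [List.map_cons, List.map_nil, List.prod_cons, List.prod_nil, mul_one]
    rw [ha, map_mul, map_inv]
    have : (σ ^ d) (σ a) = (σ ^ (d + 1)) a := by
      rw [pow_succ, MulAut.mul_apply]
    rw [this]
    group

theorem prod_fixed {X : Type*} [Group X] (σ τ : MulAut X) (hcomm : Commute σ τ) (g : X) (hg : τ g = g) (d : ℕ) :
    τ (((List.range d).map (fun i => (σ ^ i) g)).prod) = ((List.range d).map (fun i => (σ ^ i) g)).prod := by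
  induction d with
  | zero => simp
  | succ d ih =>
    rw [List.range_succ, List.map_append, List.prod_append, map_mul, ih]
    simp only [List.map_cons, List.map_nil, List.prod_cons, List.prod_nil, mul_one]
    congr 1
    have h1 : τ * σ ^ d = σ ^ d * τ := ((hcomm.pow_left d).eq).symm
    calc τ ((σ ^ d) g) = (τ * σ ^ d) g := rfl
      _ = (σ ^ d * τ) g := by rw [h1]
      _ = (σ ^ d) (τ g) := rfl
      _ = (σ ^ d) g := by rw [hg]

theorem result {X : Type*} [Group X] (σ : MulAut X) (e d : ℕ) (he : 1 ≤ e) (hd : 1 ≤ d)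
    (g : X) (hg : g ∈ (MulEquiv.toMonoidHom (σ ^ e)).eqLocus (MonoidHom.id X)) (a : X) (ha : g = a * (σ a)⁻¹) :
    ((List.range d).map (fun i => (σ ^ i) g)).prod = a * ((σ ^ d) a)⁻¹ ∧
      ((List.range d).map (fun i => (σ ^ i) g)).prod ∈ (MulEquiv.toMonoidHom ((σ ^ d) ^ e)).eqLocus (MonoidHom.id X) ∧
      (((σ ^ d) ^ e) a)⁻¹ * a = (((σ ^ e) a)⁻¹ * a) ^ d := by
  have mem_iff : ∀ (τ : MulAut X) (y : X), y ∈ (MulEquiv.toMonoidHom τ).eqLocus (MonoidHom.id X) ↔ τ y = y := by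
    intro τ y
    rfl
  rw [mem_iff] at hg
  rw [mem_iff]
  have hpow : (σ ^ d) ^ e = (σ ^ e) ^ d := pow_right_comm σ d e
  rw [hpow]
  set τ := σ ^ e with hτ
  have hcomm : Commute σ τ := (Commute.refl σ).pow_right e
  refine ⟨prod_telescope σ g a ha d, ?_, ?_⟩
  · have h1 := prod_fixed σ τ hcomm g hg d
    exact pow_fix τ _ h1 d
  · -- x = (τ a)⁻¹ a is fixed by σ hence τ
    have hx : σ ((τ a)⁻¹ * a) = (τ a)⁻¹ * a := by
      have h1 : τ a * (τ (σ a))⁻¹ = a * (σ a)⁻¹ := by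
        have := hg
        rw [ha, map_mul, map_inv] at this
        exact this
      have h2 : τ (σ a) = σ (τ a) := by
        calc τ (σ a) = (τ * σ) a := rfl
          _ = (σ * τ) a := by rw [hcomm.eq]
          _ = σ (τ a) := rfl
      rw [h2] at h1
      rw [map_mul, map_inv]
      calc (σ (τ a))⁻¹ * σ a = ((τ a)⁻¹ * (τ a * (σ (τ a))⁻¹)) * σ a := by group
        _ = ((τ a)⁻¹ * (a * (σ a)⁻¹)) * σ a := by rw [h1]
        _ = (τ a)⁻¹ * a := by group
    have hxτ : τ ((τ a)⁻¹ * a) = (τ a)⁻¹ * a := pow_fix σ _ hx e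
    have claim : ∀ j : ℕ, ((τ ^ j) a)⁻¹ * a = ((τ a)⁻¹ * a) ^ j := by
      intro j
      induction j with
      | zero => simp
      | succ j ih =>
        have h3 : (τ ^ j) ((τ a)⁻¹ * a) = (τ a)⁻¹ * a := pow_fix τ _ hxτ j
        rw [map_mul, map_inv] at h3
        have h4 : (τ ^ j) (τ a) = (τ ^ (j + 1)) a := by
          rw [pow_succ, MulAut.mul_apply]
        rw [h4] at h3
        rw [pow_succ' ((τ a)⁻¹ * a) j, ← ih]
        calc ((τ ^ (j + 1)) a)⁻¹ * a = (((τ ^ (j + 1)) a)⁻¹ * (τ ^ j) a) * (((τ ^ j) a)⁻¹ * a) := by group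
          _ = ((τ a)⁻¹ * a) * (((τ ^ j) a)⁻¹ * a) := by rw [h3]
    exact claim d

end Cfsg.Agent.S2668
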