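import Mathlib
import Cfsg.Statements.S2669

set_option autoImplicit false
open Cfsg

namespace Cfsg.Agent.S2669

theorem pow_fix {X : Type*} [Group X] (σ : MulAut X) (h : X) (hh : σ h = h) (n : ℕ) : (σ ^ n) h = h := by
  induction n with
  | zero => simp
  | succ n ih => rw [pow_succ, MulAut.mul_apply, hh, ih]

theorem pow_stable {X : Type*} [Group X] (σ : MulAut X) (Y : Subgroup X) (hY : ∀ y : X, y ∈ Y ↔ σ y ∈ Y)
    (n : ℕ) (y : X) : y ∈ Y ↔ (σ ^ n) y ∈ Y := by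
  induction n generalizing y with
  | zero => simp
  | succ n ih => rw [pow_succ, MulAut.mul_apply, ← ih, ← hY]

/-- General double counting: two subgroups `G H` of `X`, a subgroup `Y`, an element `a`, and the relation
`k⁻¹ a h ∈ Y`. -/
theorem double_count {X : Type*} [Group X] (G H Y : Subgroup X) (a : X)
    (PA : G → Prop) (PB : H → Prop)
    (hA : ∀ k : G, PA k ↔ ∃ h : H, (k : X)⁻¹ * a * (h : X) ∈ Y)
    (hB : ∀ h : H, PB h ↔ ∃ k : G, (k : X)⁻¹ * a * (h : X) ∈ Y) :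
    Nat.card {k : G // PA k} * Nat.card ↥(Y ⊓ H) = Nat.card {h : H // PB h} * Nat.card ↥(Y ⊓ G) := by
  classical
  let S := {p : G × H // (p.1 : X)⁻¹ * a * (p.2 : X) ∈ Y}
  -- choice functions
  have hA' : ∀ k : G, ∃ h0 : H, (∃ h : H, (k : X)⁻¹ * a * (h : X) ∈ Y) → (k : X)⁻¹ * a * (h0 : X) ∈ Y := by
    intro k
    by_cases hk : ∃ h : H, (k : X)⁻¹ * a * (h : X) ∈ Y
    · obtain ⟨h, hh⟩ := hk
      exact ⟨h, fun _ => hh⟩
    · exact ⟨1, fun h => absurd h hk⟩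
  have hB' : ∀ h : H, ∃ k0 : G, (∃ k : G, (k : X)⁻¹ * a * (h : X) ∈ Y) → (k0 : X)⁻¹ * a * (h : X) ∈ Y := by
    intro h
    by_cases hh : ∃ k : G, (k : X)⁻¹ * a * (h : X) ∈ Y
    · obtain ⟨k, hk⟩ := hh
      exact ⟨k, fun _ => hk⟩
    · exact ⟨1, fun k => absurd k hh⟩
  choose h0 hh0 using hA'
  choose k0 hk0 using hB'
  have e1 : S ≃ {k : G // PA k} × ↥(Y ⊓ H) :=
    { toFun := fun p =>
        (⟨p.1.1, (hA p.1.1).mpr ⟨p.1.2, p.2⟩⟩,
         ⟨((h0 p.1.1 : H) : X)⁻¹ * (p.1.2 : X), by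
            refine ⟨?_, H.mul_mem (H.inv_mem (h0 p.1.1).2) p.1.2.2⟩
            have h1 := hh0 p.1.1 ⟨p.1.2, p.2⟩
            have h2 := p.2
            have : ((h0 p.1.1 : H) : X)⁻¹ * (p.1.2 : X)
                = ((p.1.1 : X)⁻¹ * a * ((h0 p.1.1 : H) : X))⁻¹ * ((p.1.1 : X)⁻¹ * a * (p.1.2 : X)) := by group
            rw [this]
            exact Y.mul_mem (Y.inv_mem h1) h2⟩)
      invFun := fun q =>
        ⟨(q.1.1, ⟨((h0 q.1.1 : H) : X) * (q.2 : X), H.mul_mem (h0 q.1.1).2 q.2.2.2⟩), by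
          have h1 := hh0 q.1.1 ((hA q.1.1).mp q.1.2)
          have : (q.1.1 : X)⁻¹ * a * (((h0 q.1.1 : H) : X) * (q.2 : X))
              = ((q.1.1 : X)⁻¹ * a * ((h0 q.1.1 : H) : X)) * (q.2 : X) := by group
          show (q.1.1 : X)⁻¹ * a * (((h0 q.1.1 : H) : X) * (q.2 : X)) ∈ Y
          rw [this]
          exact Y.mul_mem h1 q.2.2.1⟩
      left_inv := by
        intro p
        apply Subtype.ext
        apply Prod.ext
        · rfl
        · apply Subtype.ext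
          show ((h0 p.1.1 : H) : X) * (((h0 p.1.1 : H) : X)⁻¹ * (p.1.2 : X)) = (p.1.2 : X)
          group
      right_inv := by
        intro q
        apply Prod.ext
        · rfl
        · apply Subtype.ext
          show ((h0 q.1.1 : H) : X)⁻¹ * (((h0 q.1.1 : H) : X) * (q.2 : X)) = (q.2 : X)
          group }
  have e2 : S ≃ {h : H // PB h} × ↥(Y ⊓ G) :=
    { toFun := fun p =>
        (⟨p.1.2, (hB p.1.2).mpr ⟨p.1.1, p.2⟩⟩,
         ⟨((k0 p.1.2 : G) : X)⁻¹ * (p.1.1 : X), by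
            refine ⟨?_, G.mul_mem (G.inv_mem (k0 p.1.2).2) p.1.1.2⟩
            have h1 := hk0 p.1.2 ⟨p.1.1, p.2⟩
            have h2 := p.2
            have : ((k0 p.1.2 : G) : X)⁻¹ * (p.1.1 : X)
                = (((k0 p.1.2 : G) : X)⁻¹ * a * (p.1.2 : X)) * ((p.1.1 : X)⁻¹ * a * (p.1.2 : X))⁻¹ := by group
            rw [this]
            exact Y.mul_mem h1 (Y.inv_mem h2)⟩)
      invFun := fun q =>
        ⟨(⟨((k0 q.1.1 : G) : X) * (q.2 : X), G.mul_mem (k0 q.1.1).2 q.2.2.2⟩, q.1.1), by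
          have h1 := hk0 q.1.1 ((hB q.1.1).mp q.1.2)
          have : (((k0 q.1.1 : G) : X) * (q.2 : X))⁻¹ * a * (q.1.1 : X)
              = (q.2 : X)⁻¹ * (((k0 q.1.1 : G) : X)⁻¹ * a * (q.1.1 : X)) := by group
          show (((k0 q.1.1 : G) : X) * (q.2 : X))⁻¹ * a * (q.1.1 : X) ∈ Y
          rw [this]
          exact Y.mul_mem (Y.inv_mem q.2.2.1) h1⟩
      left_inv := by
        intro p
        apply Subtype.ext
        apply Prod.ext
        · apply Subtype.ext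
          show ((k0 p.1.2 : G) : X) * (((k0 p.1.2 : G) : X)⁻¹ * (p.1.1 : X)) = (p.1.1 : X)
          group
        · rfl
      right_inv := by
        intro q
        apply Prod.ext
        · rfl
        · apply Subtype.ext
          show ((k0 q.1.1 : G) : X)⁻¹ * (((k0 q.1.1 : G) : X) * (q.2 : X)) = (q.2 : X)
          group }
  rw [← Nat.card_prod, ← Nat.card_prod]
  exact (Nat.card_congr e1).symm.trans (Nat.card_congr e2)

theorem result {X : Type*} [Group X] (σ : MulAut X) (e : ℕ) (he : 1 ≤ e)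
    [Finite ↥((MulEquiv.toMonoidHom (σ ^ e)).eqLocus (MonoidHom.id X))]
    (Y : Subgroup X) (hY : ∀ y : X, y ∈ Y ↔ σ y ∈ Y)
    (hYL : ∀ y ∈ Y, ∃ a ∈ Y, y = a * (σ a)⁻¹) (hYLe : ∀ y ∈ Y, ∃ a ∈ Y, y = a * ((σ ^ e) a)⁻¹)
    (g : X) (hg : g ∈ (MulEquiv.toMonoidHom (σ ^ e)).eqLocus (MonoidHom.id X)) (a : X) (ha : g = a * (σ a)⁻¹) :
    Nat.card {k : ↥((MulEquiv.toMonoidHom (σ ^ e)).eqLocus (MonoidHom.id X)) // (k : X)⁻¹ * g * σ k ∈ Y} *
        Nat.card ↥(Y ⊓ (MulEquiv.toMonoidHom σ).eqLocus (MonoidHom.id X)) =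
      Nat.card {h : ↥((MulEquiv.toMonoidHom σ).eqLocus (MonoidHom.id X)) // (h : X)⁻¹ * (((σ ^ e) a)⁻¹ * a) * h ∈ Y} *
        Nat.card ↥(Y ⊓ (MulEquiv.toMonoidHom (σ ^ e)).eqLocus (MonoidHom.id X)) := by
  have mem_iff : ∀ (τ : MulAut X) (y : X), y ∈ (MulEquiv.toMonoidHom τ).eqLocus (MonoidHom.id X) ↔ τ y = y := by
    intro τ y
    rfl
  have hYτ : ∀ y : X, y ∈ Y ↔ (σ ^ e) y ∈ Y := pow_stable σ Y hY e
  have hfixτ : ∀ h : X, σ h = h → (σ ^ e) h = h := fun h hh => pow_fix σ h hh e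
  apply double_count ((MulEquiv.toMonoidHom (σ ^ e)).eqLocus (MonoidHom.id X))
    ((MulEquiv.toMonoidHom σ).eqLocus (MonoidHom.id X)) Y a
  · -- characterisation of A
    intro k
    have hk : (σ ^ e) (k : X) = k := (mem_iff _ _).mp k.2
    constructor
    · intro hkA
      -- (k⁻¹ a) σ(k⁻¹ a)⁻¹ ∈ Y
      obtain ⟨y, hyY, hy⟩ := hYL _ hkA
      -- h = a⁻¹ k y
      have hfix : σ (a⁻¹ * (k : X) * y) = a⁻¹ * (k : X) * y := by
        rw [ha] at hy
        simp only [map_mul, map_inv]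
        calc (σ a)⁻¹ * σ (k : X) * σ y
            = a⁻¹ * (k : X) * ((k : X)⁻¹ * (a * (σ a)⁻¹) * σ (k : X)) * σ y := by group
          _ = a⁻¹ * (k : X) * (y * (σ y)⁻¹) * σ y := by rw [hy]
          _ = a⁻¹ * (k : X) * y := by group
      refine ⟨⟨a⁻¹ * (k : X) * y, (mem_iff _ _).mpr hfix⟩, ?_⟩
      have : (k : X)⁻¹ * a * (a⁻¹ * (k : X) * y) = y := by group
      show (k : X)⁻¹ * a * (a⁻¹ * (k : X) * y) ∈ Y
      rw [this]
      exact hyY
    · rintro ⟨h, hh⟩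
      have hσh : σ (h : X) = h := (mem_iff _ _).mp h.2
      have : (k : X)⁻¹ * g * σ (k : X)
          = ((k : X)⁻¹ * a * (h : X)) * (σ ((k : X)⁻¹ * a * (h : X)))⁻¹ := by
        rw [ha]
        simp only [map_mul, map_inv, hσh]
        group
      rw [this]
      exact Y.mul_mem hh (Y.inv_mem ((hY _).mp hh))
  · -- characterisation of B
    intro h
    have hσh : σ (h : X) = h := (mem_iff _ _).mp h.2
    have hτh : (σ ^ e) (h : X) = h := hfixτ _ hσh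
    constructor
    · intro hhB
      -- (h⁻¹ x h)⁻¹ = c τ(c)⁻¹
      obtain ⟨c, hcY, hc⟩ := hYLe _ (Y.inv_mem hhB)
      have hkfix : (σ ^ e) (a * (h : X) * c) = a * (h : X) * c := by
        simp only [map_mul, hτh]
        have h1 : ((σ ^ e) a)⁻¹ * a * (h : X) = (h : X) * (c * ((σ ^ e) c)⁻¹)⁻¹ := by
          rw [← hc]; group
        calc (σ ^ e) a * (h : X) * (σ ^ e) c
            = (σ ^ e) a * ((h : X) * (c * ((σ ^ e) c)⁻¹)⁻¹) * c := by group
          _ = (σ ^ e) a * (((σ ^ e) a)⁻¹ * a * (h : X)) * c := by rw [h1]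
          _ = a * (h : X) * c := by group
      refine ⟨⟨a * (h : X) * c, (mem_iff _ _).mpr hkfix⟩, ?_⟩
      have : (a * (h : X) * c)⁻¹ * a * (h : X) = c⁻¹ := by group
      show (a * (h : X) * c)⁻¹ * a * (h : X) ∈ Y
      rw [this]
      exact Y.inv_mem hcY
    · rintro ⟨k, hk⟩
      have hτk : (σ ^ e) (k : X) = k := (mem_iff _ _).mp k.2
      have : (h : X)⁻¹ * (((σ ^ e) a)⁻¹ * a) * (h : X)
          = ((σ ^ e) ((k : X)⁻¹ * a * (h : X)))⁻¹ * ((k : X)⁻¹ * a * (h : X)) := by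
        simp only [map_mul, map_inv, hτh, hτk]
        group
      rw [this]
      exact Y.mul_mem (Y.inv_mem ((hYτ _).mp hk)) hk

end Cfsg.Agent.S2669
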