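import Cfsg.Statements.S2676
import Cfsg.Agent.Helper7.S2676Defs
import Cfsg.Agent.Helper25.S5955TRANSPORT
import Cfsg.Agent.Helper24.S2676CAY1
import Cfsg.Agent.Helper24.S2676CAY2
import Cfsg.Agent.Helper24.S2676CAYUNIQ
import Cfsg.Agent.Helper24.S2676FRAMETRANS
import Cfsg.Agent.Helper24.S2676COUNTABS
import Cfsg.Agent.Helper7.S2676FRAMEND
import Cfsg.Agent.Helper7.S2676STRUCT
import Cfsg.Agent.Helper7.S2676ISOTYPE
import Cfsg.Agent.Helper19.S2676TYPEUNIQ
import Cfsg.Agent.Helper19.S2676MODEL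
import Cfsg.Agent.Helper9.S2676CANON

/-! S2676 (driver helper7): final assembly; see departures/helper7_s2676_pieces.md. -/

set_option autoImplicit false

namespace Cfsg.Agent.S2676P.FINAL

open Cfsg.Agent.Helper2.SympInvol Cfsg.Agent.Helper2.SympUnits Cfsg.Agent.S5961P
  Cfsg.Agent.S5956P Cfsg.Agent.S5955P Cfsg.Agent.S2676P

open scoped Classical

/-- the condition on the partitions -/
def Good (p m : ℕ) (μ : Nat.Partition (2 * m)) : Prop :=
  (∀ a ∈ μ.parts, a ≤ p) ∧ ∀ j : ℕ, Odd j → Even (μ.parts.count j)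

/-- the even part sizes -/
def evp {n : ℕ} (μ : Nat.Partition n) : Finset ℕ := μ.parts.toFinset.filter (fun j : ℕ => Even j)

/-- signed partitions -/
def SP (p m : ℕ) : Type := (μ : {μ : Nat.Partition (2 * m) // Good p m μ}) × (↥(evp μ.1) → Bool)

noncomputable instance (p m : ℕ) : Fintype (SP p m) := by
  unfold SP; infer_instance

theorem card_SP (p m : ℕ) :
    Fintype.card (SP p m) =
      ∑ μ ∈ Finset.univ.filter (fun μ : Nat.Partition (2 * m) =>
        (∀ a ∈ μ.parts, a ≤ p) ∧ ∀ j : ℕ, Odd j → Even (μ.parts.count j)),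
        2 ^ ((μ.parts.toFinset.filter (fun j : ℕ => Even j)).card) := by
  unfold SP
  rw [Fintype.card_sigma]
  have h1 : ∀ μ : {μ : Nat.Partition (2 * m) // Good p m μ},
      Fintype.card (↥(evp μ.1) → Bool) = 2 ^ (evp μ.1).card := by
    intro μ
    rw [Fintype.card_fun, Fintype.card_bool, Fintype.card_coe]
  simp_rw [h1]
  rw [← Finset.sum_subtype (Finset.univ.filter (fun μ : Nat.Partition (2 * m) => Good p m μ))
    (fun μ => by simp) (fun μ => 2 ^ (evp μ).card)]
  refine Finset.sum_congr ?_ (fun μ _ => rfl)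
  ext μ
  rw [Finset.mem_filter, Finset.mem_filter]
  simp only [Finset.mem_univ, true_and]
  exact Iff.rfl

theorem count_map_univ {ι : Type} [Fintype ι] (a : ι → ℕ) (s : ℕ) :
    Multiset.count s (Multiset.map a Finset.univ.val) = Fintype.card {j // a j = s} := by
  rw [Multiset.count_map, Fintype.card_subtype]
  rw [← Finset.filter_val, Finset.card_def]
  congr 2
  ext j
  simp [eq_comm]

variable {F : Type*} [Field F] 

/-- the classifying relation -/
def Rel (p m : ℕ) (g : Matrix.symplecticGroup (Fin m) F) (t : SP p m) : Prop :=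
  ∃ X : Module.End F (Fin m ⊕ Fin m → F), Skew (sB m F) X ∧ X ^ p = 0 ∧
    Matrix.toLin' (g : Matrix (Fin m ⊕ Fin m) (Fin m ⊕ Fin m) F) * (1 - X) = 1 + X ∧
    ∃ (ι : Type) (_ : Fintype ι) (_ : DecidableEq ι) (a : ι → ℕ) (K : Matrix ι ι F)
      (gen : ι → (Fin m ⊕ Fin m → F)), IsFrame (sB m F) X ⊤ a K gen ∧
        Multiset.map a Finset.univ.val = t.1.1.parts ∧
        ∀ (s : ℕ) (hs : s ∈ evp t.1.1), (t.2 ⟨s, hs⟩ = true ↔
          IsSquare (K.toSquareBlock a s).det)

theorem toLin_pow (m : ℕ) (g : Matrix.symplecticGroup (Fin m) F) (n : ℕ) :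
    Matrix.toLin' ((g ^ n : Matrix.symplecticGroup (Fin m) F) :
      Matrix (Fin m ⊕ Fin m) (Fin m ⊕ Fin m) F) =
      (Matrix.toLin' (g : Matrix (Fin m ⊕ Fin m) (Fin m ⊕ Fin m) F)) ^ n := by
  rw [SubmonoidClass.coe_pow]
  exact map_pow (Matrix.toLinAlgEquiv' (R := F) (n := Fin m ⊕ Fin m)) _ n

theorem finrank_V (m : ℕ) : Module.finrank F (Fin m ⊕ Fin m → F) = 2 * m := by
  rw [Module.finrank_fintype_fun_eq_card, Fintype.card_sum, Fintype.card_fin]
  ring

theorem rel1 {p : ℕ} [Fact p.Prime] [CharP F p] (hp : p ≠ 2) (m : ℕ)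
    (g : Matrix.symplecticGroup (Fin m) F) (hg : g ^ p = 1) : ∃ t : SP p m, Rel p m g t := by
  have h2 : (2 : F) ≠ 0 := by
    intro h
    have := (CharP.cast_eq_zero_iff F p 2).mp (by exact_mod_cast h)
    have hp' := (Fact.out : p.Prime)
    exact hp ((Nat.prime_dvd_prime_iff_eq hp' Nat.prime_two).mp this)
  set y : Module.End F (Fin m ⊕ Fin m → F) :=
    Matrix.toLin' (g : Matrix (Fin m ⊕ Fin m) (Fin m ⊕ Fin m) F) with hy
  have hyp : y ^ p = 1 := by
    rw [hy, ← toLin_pow, hg]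
    simp
    rfl
  obtain ⟨X, hXs, hXp, hrel⟩ := cayley_of_isometry hp (sB m F) y (sB_isometry m F g) hyp
  obtain ⟨ι, _, _, a, K, gen, hf, haN, hodd⟩ := exists_frame h2 (sB m F) (sB_alt m F) X hXs p hXp ⊤
    (sB_nondeg m F) (fun v _ => Submodule.mem_top)
  have hnd := frame_nondeg (sB m F) X ⊤ a K gen hf
  have hsum : ∑ j, a j = 2 * m := by
    rw [← hnd.2.2, finrank_top, finrank_V]
  let μ : Nat.Partition (2 * m) :=
    { parts := Multiset.map a Finset.univ.val
      parts_pos := by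
        intro i hi
        rw [Multiset.mem_map] at hi
        obtain ⟨j, -, rfl⟩ := hi
        exact hf.pos j
      parts_sum := by
        rw [← hsum]
        rfl }
  have hμ : Good p m μ := by
    refine ⟨?_, ?_⟩
    · intro x hx
      rw [show μ.parts = Multiset.map a Finset.univ.val from rfl, Multiset.mem_map] at hx
      obtain ⟨j, -, rfl⟩ := hx
      exact haN j
    · intro s hs
      rw [show μ.parts = Multiset.map a Finset.univ.val from rfl, count_map_univ]
      exact hodd s hs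
  refine ⟨⟨⟨μ, hμ⟩, fun s => decide (IsSquare (K.toSquareBlock a s.1).det)⟩, X, hXs, hXp, hrel, ι,
    inferInstance, inferInstance, a, K, gen, hf, rfl, ?_⟩
  intro s hs
  simp

theorem two_ne_zero' {p : ℕ} [Fact p.Prime] [CharP F p] (hp : p ≠ 2) : (2 : F) ≠ 0 := by
  intro h
  have := (CharP.cast_eq_zero_iff F p 2).mp (by exact_mod_cast h)
  have hp' := (Fact.out : p.Prime)
  exact hp ((Nat.prime_dvd_prime_iff_eq hp' Nat.prime_two).mp this)

theorem rel2 {p : ℕ} [Fact p.Prime] [CharP F p] (hp : p ≠ 2) (m : ℕ)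
    (g : Matrix.symplecticGroup (Fin m) F) (t t' : SP p m) (h : Rel p m g t)
    (h' : Rel p m g t') : t = t' := by
  have h2 : (2 : F) ≠ 0 := two_ne_zero' hp
  obtain ⟨X, hXs, hXp, hrel, ι, _, _, a, K, gen, hf, hμ, hε⟩ := h
  obtain ⟨X', hXs', hXp', hrel', ι', _, _, a', K', gen', hf', hμ', hε'⟩ := h'
  have hXX : X = X' := cayley_unique h2 _ X X' hrel hrel'
  subst hXX
  obtain ⟨hm, hsq⟩ := type_unique (sB m F) X ⊤ a K gen a' K' gen' hf hf'
  obtain ⟨⟨μ, hG⟩, ε⟩ := t
  obtain ⟨⟨μ', hG'⟩, ε'⟩ := t'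
  have hparts : μ = μ' := by
    apply Nat.Partition.ext
    show μ.parts = μ'.parts
    rw [← hμ, ← hμ', hm]
  subst hparts
  have hεε : ε = ε' := by
    funext ⟨s, hs⟩
    rw [Bool.eq_iff_iff, hε s hs, hε' s hs, hsq s]
  subst hεε
  rfl

theorem isSquare_det_of_not_mem {ι : Type} [Fintype ι] [DecidableEq ι] (a : ι → ℕ)
    (K : Matrix ι ι F) (s : ℕ) (hs : s ∉ Multiset.map a Finset.univ.val) :
    IsSquare (K.toSquareBlock a s).det := by
  have : IsEmpty {j // a j = s} := by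
    constructor
    rintro ⟨j, hj⟩
    exact hs (Multiset.mem_map.mpr ⟨j, Finset.mem_univ_val j, hj⟩)
  rw [Matrix.det_isEmpty]
  exact ⟨1, by ring⟩

theorem rel3 [Fintype F] {p : ℕ} [Fact p.Prime] [CharP F p] (hp : p ≠ 2) (m : ℕ)
    (g g' : Matrix.symplecticGroup (Fin m) F) (t : SP p m) (h : Rel p m g t)
    (h' : Rel p m g' t) : IsConj g g' := by
  have h2 : (2 : F) ≠ 0 := two_ne_zero' hp
  obtain ⟨X, hXs, hXp, hrel, ι, _, _, a, K, gen, hf, hμ, hε⟩ := h
  obtain ⟨X', hXs', hXp', hrel', ι', _, _, a', K', gen', hf', hμ', hε'⟩ := h'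
  have hsq : ∀ s : ℕ, Even s →
      (IsSquare (K.toSquareBlock a s).det ↔ IsSquare (K'.toSquareBlock a' s).det) := by
    intro s hse
    by_cases hs : s ∈ t.1.1.parts
    · have hs' : s ∈ evp t.1.1 := by
        unfold evp
        rw [Finset.mem_filter, Multiset.mem_toFinset]
        exact ⟨hs, hse⟩
      rw [← hε s hs', ← hε' s hs']
    · have h1 := isSquare_det_of_not_mem a K s (by rw [hμ]; exact hs)
      have h1' := isSquare_det_of_not_mem a' K' s (by rw [hμ']; exact hs)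
      exact ⟨fun _ => h1', fun _ => h1⟩
  obtain ⟨φ, hφB, hφX⟩ := iso_of_same_type h2 (sB m F) (sB_alt m F) X hXs (sB m F) (sB_alt m F)
    X' hXs' a K gen a' K' gen' hf hf' (hμ.trans hμ'.symm) hsq
  have hφy := cayley_conj h2 φ _ X _ X' hrel hrel' hφX
  set hM : Matrix (Fin m ⊕ Fin m) (Fin m ⊕ Fin m) F :=
    LinearMap.toMatrix' (φ : (Fin m ⊕ Fin m → F) →ₗ[F] (Fin m ⊕ Fin m → F)) with hMdef
  have hmem : hM ∈ Matrix.symplecticGroup (Fin m) F := by
    apply mem_symplectic_of_isometry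
    intro u v
    rw [hMdef, Matrix.toLin'_toMatrix']
    exact hφB u v
  rw [isConj_iff]
  refine ⟨⟨hM, hmem⟩, ?_⟩
  rw [mul_inv_eq_iff_eq_mul]
  apply Subtype.ext
  show hM * (g : Matrix (Fin m ⊕ Fin m) (Fin m ⊕ Fin m) F)
    = (g' : Matrix (Fin m ⊕ Fin m) (Fin m ⊕ Fin m) F) * hM
  apply Matrix.toLin'.injective
  rw [Matrix.toLin'_mul, Matrix.toLin'_mul, hMdef, Matrix.toLin'_toMatrix']
  apply LinearMap.ext
  intro v
  exact hφy v

/-- transport of all the data along an isometry `φ` of `(V, sB)` -/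
theorem rel_transport {p : ℕ} (m : ℕ) (g g' : Matrix.symplecticGroup (Fin m) F)
    (φ : (Fin m ⊕ Fin m → F) ≃ₗ[F] (Fin m ⊕ Fin m → F))
    (hφB : ∀ u v, sB m F (φ u) (φ v) = sB m F u v)
    (hφy : ∀ v, φ (Matrix.toLin' (g : Matrix (Fin m ⊕ Fin m) (Fin m ⊕ Fin m) F) v) =
      Matrix.toLin' (g' : Matrix (Fin m ⊕ Fin m) (Fin m ⊕ Fin m) F) (φ v))
    (t : SP p m) (h : Rel p m g t) : Rel p m g' t := by
  obtain ⟨X, hXs, hXp, hrel, ι, _, _, a, K, gen, hf, hμ, hε⟩ := h
  refine ⟨φ.conjRingEquiv X, ?_, ?_, ?_, ι, inferInstance, inferInstance, a, K,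
    fun j => φ (gen j), ?_, hμ, hε⟩
  · intro u v
    have hu : u = φ (φ.symm u) := (φ.apply_symm_apply u).symm
    have hv : v = φ (φ.symm v) := (φ.apply_symm_apply v).symm
    rw [LinearEquiv.conjRingEquiv_apply_apply, LinearEquiv.conjRingEquiv_apply_apply]
    conv_lhs => rw [hv]
    conv_rhs => rw [hu]
    rw [hφB, hφB]
    exact hXs _ _
  · rw [← map_pow, hXp, map_zero]
  · have hy : Matrix.toLin' (g' : Matrix (Fin m ⊕ Fin m) (Fin m ⊕ Fin m) F) =
        φ.conjRingEquiv (Matrix.toLin' (g : Matrix (Fin m ⊕ Fin m) (Fin m ⊕ Fin m) F)) := by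
      apply LinearMap.ext
      intro v
      rw [LinearEquiv.conjRingEquiv_apply_apply, hφy, φ.apply_symm_apply]
    rw [hy, ← map_one φ.conjRingEquiv, ← map_sub, ← map_mul, hrel, map_add]
  · apply frame_transport φ (sB m F) X (sB m F) (φ.conjRingEquiv X) hφB _ a K gen hf
    intro v
    rw [LinearEquiv.conjRingEquiv_apply_apply, φ.symm_apply_apply]

theorem rel4 {p : ℕ} (m : ℕ) (g g' : Matrix.symplecticGroup (Fin m) F) (t : SP p m)
    (hc : IsConj g g') (h : Rel p m g t) : Rel p m g' t := by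
  obtain ⟨c, hc⟩ := isConj_iff.mp hc
  have h1 : Matrix.toLin' ((c⁻¹ : Matrix.symplecticGroup (Fin m) F) :
      Matrix (Fin m ⊕ Fin m) (Fin m ⊕ Fin m) F) ∘ₗ
      Matrix.toLin' (c : Matrix (Fin m ⊕ Fin m) (Fin m ⊕ Fin m) F) = LinearMap.id := by
    rw [← Matrix.toLin'_mul, ← Submonoid.coe_mul, inv_mul_cancel]
    simp
  have h2 : Matrix.toLin' (c : Matrix (Fin m ⊕ Fin m) (Fin m ⊕ Fin m) F) ∘ₗ
      Matrix.toLin' ((c⁻¹ : Matrix.symplecticGroup (Fin m) F) :
      Matrix (Fin m ⊕ Fin m) (Fin m ⊕ Fin m) F) = LinearMap.id := by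
    rw [← Matrix.toLin'_mul, ← Submonoid.coe_mul, mul_inv_cancel]
    simp
  set φ : (Fin m ⊕ Fin m → F) ≃ₗ[F] (Fin m ⊕ Fin m → F) :=
    LinearEquiv.ofLinearMap (Matrix.toLin' (c : Matrix (Fin m ⊕ Fin m) (Fin m ⊕ Fin m) F))
      (Matrix.toLin' ((c⁻¹ : Matrix.symplecticGroup (Fin m) F) :
      Matrix (Fin m ⊕ Fin m) (Fin m ⊕ Fin m) F)) h2 h1 with hφ
  have hφa : ∀ v, φ v = Matrix.toLin' (c : Matrix (Fin m ⊕ Fin m) (Fin m ⊕ Fin m) F) v :=
    fun v => rfl
  apply rel_transport m g g' φ _ _ t h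
  · intro u v
    rw [hφa, hφa]
    exact sB_isometry m F c u v
  · intro v
    rw [hφa, hφa]
    have hcg : c * g = g' * c := by
      rw [← hc]
      group
    have := congrArg (fun z : Matrix.symplecticGroup (Fin m) F =>
      Matrix.toLin' (z : Matrix (Fin m ⊕ Fin m) (Fin m ⊕ Fin m) F) v) hcg
    simp only [Submonoid.coe_mul, Matrix.toLin'_mul, LinearMap.comp_apply] at this
    exact this

theorem rel5 [Fintype F] {p : ℕ} [Fact p.Prime] [CharP F p] (hp : p ≠ 2) (m : ℕ)
    (t : SP p m) : ∃ g : Matrix.symplecticGroup (Fin m) F, g ^ p = 1 ∧ Rel p m g t := by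
  have h2 : (2 : F) ≠ 0 := two_ne_zero' hp
  obtain ⟨⟨μ, hG⟩, ε⟩ := t
  obtain ⟨ι, _, _, a, K, hmap, hoff, hsymm, hunit, hsq⟩ := exists_canon (F := F) h2 μ.parts
    (fun s hs => μ.parts_pos hs) hG.2 (fun s => ∃ hs : s ∈ evp μ, ε ⟨s, hs⟩ = true)
  have hpos : ∀ j, 0 < a j := by
    intro j
    apply μ.parts_pos
    rw [← hmap]
    exact Multiset.mem_map.mpr ⟨j, Finset.mem_univ_val j, rfl⟩
  have hN : ∀ j, a j ≤ p := by
    intro j
    apply hG.1
    rw [← hmap]
    exact Multiset.mem_map.mpr ⟨j, Finset.mem_univ_val j, rfl⟩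
  obtain ⟨V', _, _, _, B', X', g', halt', hskew', hXp', hf'⟩ :=
    exists_model h2 a K hpos hoff hsymm hunit p hN
  have hnd := frame_nondeg B' X' ⊤ a K g' hf'
  have hdim : Module.finrank F V' = 2 * m := by
    rw [← finrank_top F V', hnd.2.2, ← μ.parts_sum, ← hmap]
    rfl
  obtain ⟨y', hrel', hisom', hyp'⟩ := isometry_of_cayley hp B' X' hskew' hXp'
  have hY : IsYSp B' y' p := ⟨halt', hnd.2.1, hisom', hyp'⟩
  obtain ⟨x, e, heB, hey⟩ := exists_sp_of_ysp B' y' p hY m hdim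
  have hxy : Matrix.toLin' (x : Matrix (Fin m ⊕ Fin m) (Fin m ⊕ Fin m) F) =
      e.conjRingEquiv y' := by
    apply LinearMap.ext
    intro v
    rw [LinearEquiv.conjRingEquiv_apply_apply, hey, e.apply_symm_apply]
  refine ⟨x, ?_, e.conjRingEquiv X', ?_, ?_, ?_, ι, inferInstance, inferInstance, a, K,
    fun j => e (g' j), ?_, hmap, ?_⟩
  · apply Subtype.ext
    apply Matrix.toLin'.injective
    rw [toLin_pow, hxy, ← map_pow, hyp', map_one]
    simp
    rfl
  · intro u v
    have hu : u = e (e.symm u) := (e.apply_symm_apply u).symm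
    have hv : v = e (e.symm v) := (e.apply_symm_apply v).symm
    rw [LinearEquiv.conjRingEquiv_apply_apply, LinearEquiv.conjRingEquiv_apply_apply]
    conv_lhs => rw [hv]
    conv_rhs => rw [hu]
    rw [sB_apply, sB_apply, heB, heB]
    exact hskew' _ _
  · rw [← map_pow, hXp', map_zero]
  · rw [hxy, ← map_one e.conjRingEquiv, ← map_sub, ← map_mul, hrel', map_add]
  · apply frame_transport e B' X' (sB m F) (e.conjRingEquiv X') _ _ a K g' hf'
    · intro u v
      rw [sB_apply, heB]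
    · intro v
      rw [LinearEquiv.conjRingEquiv_apply_apply, e.symm_apply_apply]
  · intro s hs
    have hs' := hs
    unfold evp at hs'
    rw [Finset.mem_filter, Multiset.mem_toFinset] at hs'
    rw [hsq s hs'.2 hs'.1]
    constructor
    · intro h
      exact ⟨hs, h⟩
    · rintro ⟨_, h⟩
      exact h

end Cfsg.Agent.S2676P.FINAL

set_option autoImplicit false
open Classical
open Cfsg

namespace Cfsg.Agent.S2676

open Cfsg.Agent.S2676P Cfsg.Agent.S2676P.FINAL

/-- Number of conjugacy classes of elements of order p in Sp_2m(q), q a power of the odd prime p: the classes correspond to the signed partitions of 2m — partitions with all parts at most p in which every odd part has even multiplicity, each even part size that occurs carrying a sign — other than the all-ones partition; so the count is the sum over such partitions of 2^(number of distinct even parts), minus one. -/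
theorem result {F : Type*} [Field F] [Fintype F] {p : ℕ} [Fact p.Prime] [CharP F p] (hp : p ≠ 2) (m : ℕ) : Nat.card {C : ConjClasses ↥(Matrix.symplecticGroup (Fin m) F) // ∃ g : Matrix.symplecticGroup (Fin m) F, ConjClasses.mk g = C ∧ orderOf g = p} = (∑ μ ∈ Finset.univ.filter (fun μ : Nat.Partition (2 * m) => (∀ a ∈ μ.parts, a ≤ p) ∧ ∀ j : ℕ, Odd j → Even (μ.parts.count j)), 2 ^ ((μ.parts.toFinset.filter (fun j : ℕ => Even j)).card)) - 1 := by
  rw [card_classes_of_rel (T := SP p m) p (Rel p m) (fun g hg => rel1 hp m g hg)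
    (fun g t t' h h' => rel2 hp m g t t' h h') (fun g g' t h h' => rel3 hp m g g' t h h')
    (fun g g' t hc h => rel4 m g g' t hc h) (fun t => rel5 hp m t), card_SP]

end Cfsg.Agent.S2676
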