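import Mathlib
import Cfsg.Statements.S2678
import Cfsg.Agent.Helper13.FqExt

set_option autoImplicit false
set_option linter.style.haveILetI false
open Cfsg

namespace Cfsg.Agent.S2678

open Matrix Cfsg.Agent.Helper13 Module

/-- A finite family whose Gram matrix with respect to some bilinear form is invertible is
linearly independent. -/
theorem linearIndependent_of_gram {F V I : Type*} [Field F] [AddCommGroup V] [Module F V]
    [Fintype I] [DecidableEq I]
    (f : LinearMap.BilinForm F V) (v : I → V) (G : Matrix I I F)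
    (hG : ∀ i j, f (v i) (v j) = G i j) (hdet : IsUnit G) : LinearIndependent F v := by
  rw [Fintype.linearIndependent_iff]
  intro c hc
  have h1 : c ᵥ* G = 0 ᵥ* G := by
    funext j
    have := congrArg (fun w => f w (v j)) hc
    simp only [map_sum, map_smul, LinearMap.sum_apply, LinearMap.smul_apply, map_zero,
      LinearMap.zero_apply, hG] at this
    simpa [Matrix.vecMul, dotProduct] using this
  have h2 := (Matrix.vecMul_injective_iff_isUnit.mpr hdet) h1
  intro i
  rw [h2]; rfl

section

variable {K F : Type*} [Field K] [Fintype K] [Field F] [Fintype F] [Algebra F K] {q : ℕ}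
  (hK : Fintype.card K = q ^ 2) (hF : Fintype.card F = q)

local notation "ι" => algebraMap F K

/-- the symplectic form twisted by `lam` and traced down to `F`, as an `F`-bilinear form. -/
noncomputable def fS (a : ℕ) (lam : K) : LinearMap.BilinForm F (Fin a ⊕ Fin a → K) :=
  LinearMap.mk₂ F (fun u v => trF ι hK hF (lam * (u ⬝ᵥ (Matrix.J (Fin a) K *ᵥ v))))
    (by
      intro u u' v
      rw [← trF_add]
      congr 1
      rw [add_dotProduct, mul_add])
    (by
      intro c u v
      rw [smul_eq_mul, ← trF_smul]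
      congr 1
      rw [smul_dotProduct, Algebra.smul_def]
      ring)
    (by
      intro u v v'
      rw [← trF_add]
      congr 1
      rw [mulVec_add, dotProduct_add, mul_add])
    (by
      intro c u v
      rw [smul_eq_mul, ← trF_smul]
      congr 1
      rw [mulVec_smul, dotProduct_smul, Algebra.smul_def]
      ring)

theorem fS_apply (a : ℕ) (lam : K) (u v : Fin a ⊕ Fin a → K) :
    fS hK hF a lam u v = trF ι hK hF (lam * (u ⬝ᵥ (Matrix.J (Fin a) K *ᵥ v))) := rfl

theorem fS_single (a : ℕ) (lam : K) (s t : Fin a ⊕ Fin a) (x y : K) :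
    fS hK hF a lam (Pi.single s x) (Pi.single t y) =
      Matrix.J (Fin a) F s t * trF ι hK hF (lam * (x * y)) := by
  classical
  rw [fS_apply, ← trF_smul]
  congr 1
  rw [single_dotProduct, mulVec_single]
  have hJ : Matrix.J (Fin a) K s t = ι (Matrix.J (Fin a) F s t) := by
    rcases s with i | i <;> rcases t with j | j <;>
      simp [Matrix.J, Matrix.one_apply, apply_ite]
  simp only [Pi.smul_apply, Matrix.col_apply, MulOpposite.smul_eq_mul_unop, MulOpposite.unop_op]
  rw [hJ]
  ring

set_option maxHeartbeats 1000000 in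
include hK hF in
theorem main (a : ℕ) :
    ∃ φ : ↥(Matrix.symplecticGroup (Fin a) K) →* ↥(Matrix.symplecticGroup (Fin (2 * a)) F),
      Function.Injective φ := by
  classical
  rcases Nat.eq_zero_or_pos a with rfl | ha
  · refine ⟨1, ?_⟩
    intro g h _
    apply Subtype.ext
    exact Subsingleton.elim _ _
  haveI : Nonempty (Fin (2 * a) ⊕ Fin (2 * a)) := ⟨Sum.inl ⟨0, by omega⟩⟩
  have hq0 : q ≠ 0 := by rw [← hF]; exact Fintype.card_ne_zero
  obtain ⟨θ, hθ⟩ := exists_not_mem_range ι hK hF
  set lam : K := θ - θ ^ q with hlam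
  have hlamq : lam ^ q = -lam := by
    rw [hlam, sub_pow_card_of_ringHom ι hF, pow_card_sq hK]; ring
  have hlam0 : lam ≠ 0 := by
    intro h
    rw [hlam, sub_eq_zero] at h
    obtain ⟨x, hx⟩ := exists_of_pow_card_eq ι hF θ h.symm
    exact hθ x hx
  obtain ⟨δ, hδ⟩ : ∃ δ : F, ι δ = lam * lam :=
    exists_of_pow_card_eq ι hF _ (by rw [mul_pow, hlamq]; ring)
  have hδ0 : δ ≠ 0 := by
    rintro rfl
    rw [map_zero] at hδ
    exact hlam0 (mul_self_eq_zero.mp hδ.symm)
  have hfr : finrank F K = 2 := finrank_eq_two_of_card hK hF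
  let bb : Fin 2 → K := ![1, θ]
  let bb' : Fin 2 → K := ![-θ ^ q, 1]
  have hT : ∀ k l, trF ι hK hF (lam * (bb k * bb' l)) = if k = l then δ else 0 := by
    intro k l
    apply (algebraMap F K).injective
    rw [ι_trF]
    fin_cases k <;> fin_cases l
    · simp only [bb, bb', Fin.zero_eta, Matrix.cons_val_zero, if_true, hδ]
      rw [mul_pow, mul_pow, hlamq, neg_pow_card_of_ringHom ι hF, pow_card_sq hK, one_pow, hlam]
      ring
    · simp only [bb, bb', Fin.zero_eta, Fin.mk_one, Matrix.cons_val_zero, Matrix.cons_val_one,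
        Fin.isValue, zero_ne_one, if_false, map_zero]
      rw [mul_pow, mul_pow, hlamq, one_pow]
      ring
    · simp only [bb, bb', Fin.zero_eta, Fin.mk_one, Matrix.cons_val_zero, Matrix.cons_val_one,
        Fin.isValue, one_ne_zero, if_false, map_zero]
      rw [mul_pow, mul_pow, hlamq, neg_pow_card_of_ringHom ι hF, pow_card_sq hK]
      ring
    · simp only [bb, bb', Fin.mk_one, Matrix.cons_val_one, Fin.isValue, if_true, hδ,
        Matrix.cons_val_fin_one]
      rw [mul_pow, mul_pow, hlamq, one_pow, hlam]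
      ring
  have hT' : ∀ k l, trF ι hK hF (lam * (bb' k * bb l)) = if l = k then δ else 0 := by
    intro k l
    rw [mul_comm (bb' k)]
    exact hT l k
  let E := (finProdFinEquiv : Fin 2 × Fin a ≃ Fin (2 * a))
  let v : Fin (2 * a) ⊕ Fin (2 * a) → (Fin a ⊕ Fin a → K) := fun x =>
    Sum.elim (fun p => Pi.single (Sum.inl (E.symm p).2) (bb (E.symm p).1))
      (fun p => Pi.single (Sum.inr (E.symm p).2) (bb' (E.symm p).1)) x
  have hpp : ∀ p p' : Fin (2 * a), p = p' ↔ ((E.symm p).2 = (E.symm p').2 ∧
      (E.symm p).1 = (E.symm p').1) := by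
    intro p p'
    constructor
    · rintro rfl; exact ⟨rfl, rfl⟩
    · rintro ⟨h1, h2⟩
      exact E.symm.injective (Prod.ext h2 h1)
  have hGv : ∀ x y, fS hK hF a lam (v x) (v y) = (δ • Matrix.J (Fin (2 * a)) F) x y := by
    intro x y
    rw [Matrix.smul_apply, smul_eq_mul]
    rcases x with p | p <;> rcases y with p' | p'
    · simp only [v, Sum.elim_inl]
      rw [fS_single]
      simp [Matrix.J]
    · simp only [v, Sum.elim_inl, Sum.elim_inr]
      rw [fS_single, hT]
      by_cases h : p = p'
      · subst h; simp [Matrix.J]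
      · have h' := h
        rw [hpp] at h'
        by_cases h1 : (E.symm p).2 = (E.symm p').2
        · have h2 : ¬ (E.symm p).1 = (E.symm p').1 := fun h2 => h' ⟨h1, h2⟩
          simp [Matrix.J, h, h2]
        · simp [Matrix.J, h, h1]
    · simp only [v, Sum.elim_inl, Sum.elim_inr]
      rw [fS_single, hT']
      by_cases h : p = p'
      · subst h; simp [Matrix.J]
      · have h' := h
        rw [hpp] at h'
        by_cases h1 : (E.symm p).2 = (E.symm p').2
        · have h2 : ¬ (E.symm p').1 = (E.symm p).1 := fun h2 => h' ⟨h1, h2.symm⟩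
          simp [Matrix.J, h, h2]
        · simp [Matrix.J, h, h1]
    · simp only [v, Sum.elim_inr]
      rw [fS_single]
      simp [Matrix.J]
  have hGunit : IsUnit (δ • Matrix.J (Fin (2 * a)) F) := by
    rw [Matrix.isUnit_iff_isUnit_det, Matrix.det_smul]
    exact ((IsUnit.mk0 δ hδ0).pow _).mul (Matrix.isUnit_det_J _ _)
  have hli : LinearIndependent F v :=
    linearIndependent_of_gram (fS hK hF a lam) v _ hGv hGunit
  have hcard : Fintype.card (Fin (2 * a) ⊕ Fin (2 * a)) = finrank F (Fin a ⊕ Fin a → K) := by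
    rw [Module.finrank_pi_fintype]
    simp [hfr]
    ring
  let B : Basis (Fin (2 * a) ⊕ Fin (2 * a)) F (Fin a ⊕ Fin a → K) :=
    basisOfLinearIndependentOfCardEqFinrank hli hcard
  have hB : ⇑B = v := coe_basisOfLinearIndependentOfCardEqFinrank _ _
  have hG : LinearMap.BilinForm.toMatrix B (fS hK hF a lam) = δ • Matrix.J (Fin (2 * a)) F := by
    ext x y
    rw [LinearMap.BilinForm.toMatrix_apply, hB, hGv]
  -- the F-linear maps
  let L : Matrix (Fin a ⊕ Fin a) (Fin a ⊕ Fin a) K →
      ((Fin a ⊕ Fin a → K) →ₗ[F] (Fin a ⊕ Fin a → K)) :=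
    fun g => (Matrix.toLin' g).restrictScalars F
  have hLapp : ∀ g u, L g u = g *ᵥ u := fun g u => rfl
  let N : Matrix (Fin a ⊕ Fin a) (Fin a ⊕ Fin a) K →
      Matrix (Fin (2 * a) ⊕ Fin (2 * a)) (Fin (2 * a) ⊕ Fin (2 * a)) F :=
    fun g => LinearMap.toMatrix B B (L g)
  have hNone : N 1 = 1 := by
    have : L 1 = LinearMap.id := by
      apply LinearMap.ext
      intro u
      rw [hLapp]; simp
    show LinearMap.toMatrix B B (L 1) = 1
    rw [this, LinearMap.toMatrix_id]
  have hNmul : ∀ g h, N (g * h) = N g * N h := by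
    intro g h
    have : L (g * h) = (L g).comp (L h) := by
      apply LinearMap.ext
      intro u
      rw [LinearMap.comp_apply, hLapp, hLapp, hLapp, Matrix.mulVec_mulVec]
    show LinearMap.toMatrix B B (L (g * h)) = _
    rw [this, LinearMap.toMatrix_comp B B B]
  have hNmem : ∀ g ∈ Matrix.symplecticGroup (Fin a) K,
      N g ∈ Matrix.symplecticGroup (Fin (2 * a)) F := by
    intro g hg
    rw [SymplecticGroup.mem_iff'] at hg
    have hpres : (fS hK hF a lam).comp (L g) (L g) = fS hK hF a lam := by
      apply LinearMap.ext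
      intro u
      apply LinearMap.ext
      intro w
      rw [LinearMap.BilinForm.comp_apply, fS_apply, fS_apply, hLapp, hLapp]
      congr 2
      rw [Matrix.mulVec_mulVec, Matrix.dotProduct_mulVec, Matrix.vecMul_mulVec,
        ← Matrix.dotProduct_mulVec, ← Matrix.mul_assoc, hg]
    have h1 := LinearMap.BilinForm.toMatrix_comp B B (fS hK hF a lam) (L g) (L g)
    rw [hpres, hG] at h1
    rw [SymplecticGroup.mem_iff']
    have h2 : δ • ((N g)ᵀ * Matrix.J (Fin (2 * a)) F * N g) = δ • Matrix.J (Fin (2 * a)) F := by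
      rw [h1]
      simp only [Matrix.mul_smul, Matrix.smul_mul]
      rfl
    exact smul_right_injective _ hδ0 h2
  let φ : ↥(Matrix.symplecticGroup (Fin a) K) →* ↥(Matrix.symplecticGroup (Fin (2 * a)) F) :=
    { toFun := fun g => ⟨N g.1, hNmem g.1 g.2⟩
      map_one' := Subtype.ext hNone
      map_mul' := fun g h => Subtype.ext (hNmul g.1 h.1) }
  refine ⟨φ, ?_⟩
  intro g h hgh
  have h1 : N g.1 = N h.1 := congrArg Subtype.val hgh
  have h2 : L g.1 = L h.1 := (LinearMap.toMatrix B B).injective h1
  apply Subtype.ext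
  apply Matrix.mulVec_injective
  funext u
  have := congrArg (fun f => f u) h2
  simpa [hLapp] using this

end

theorem result {K F : Type*} [Field K] [Fintype K] [Field F] [Fintype F] {q : ℕ} (hK : Fintype.card K = q ^ 2) (hF : Fintype.card F = q) (a : ℕ) : ∃ φ : ↥(Matrix.symplecticGroup (Fin a) K) →* ↥(Matrix.symplecticGroup (Fin (2 * a)) F), Function.Injective φ := by
  obtain ⟨ι₀⟩ := exists_ringHom_of_card_sq hK hF
  letI : Algebra F K := ι₀.toAlgebra
  exact main hK hF a

end Cfsg.Agent.S2678
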