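import Mathlib
import Cfsg.Statements.S2679
import Cfsg.Agent.Helper13.FqExt
import Cfsg.Agent.Helper13.QuadExt
import Cfsg.Agent.S2562

set_option autoImplicit false
set_option linter.style.haveILetI false
open Cfsg

namespace Cfsg.Agent.S2679

open Matrix Cfsg.Agent.Helper13

section Psi

variable {K : Type*} [Field K] (k : ℕ) (r₁ r₂ : K)

/-- change of coordinates from the hyperbolic form to the elliptic form (which splits over `K`). -/
noncomputable def Ψfun (v : Fin (k + 1) ⊕ Fin (k + 1) → K) : (Fin k ⊕ Fin k) ⊕ Fin 2 → K :=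
  Sum.elim (Sum.elim (fun i => v (Sum.inl i.castSucc)) (fun i => v (Sum.inr i.castSucc)))
    ![(r₂ - r₁)⁻¹ * (r₂ * v (Sum.inl (Fin.last k)) - r₁ * v (Sum.inr (Fin.last k))),
      (r₂ - r₁)⁻¹ * (v (Sum.inl (Fin.last k)) - v (Sum.inr (Fin.last k)))]

/-- the inverse change of coordinates. -/
noncomputable def Ψinv (w : (Fin k ⊕ Fin k) ⊕ Fin 2 → K) : Fin (k + 1) ⊕ Fin (k + 1) → K :=
  Sum.elim
    (Fin.lastCases (w (Sum.inr 0) - r₁ * w (Sum.inr 1)) (fun i => w (Sum.inl (Sum.inl i))))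
    (Fin.lastCases (w (Sum.inr 0) - r₂ * w (Sum.inr 1)) (fun i => w (Sum.inl (Sum.inr i))))

/-- the change of coordinates as a linear equivalence. -/
noncomputable def Ψ (hr : r₁ ≠ r₂) :
    (Fin (k + 1) ⊕ Fin (k + 1) → K) ≃ₗ[K] ((Fin k ⊕ Fin k) ⊕ Fin 2 → K) where
  toFun := Ψfun k r₁ r₂
  invFun := Ψinv k r₁ r₂
  map_add' := by
    intro v w
    funext x
    rcases x with (i | i) | j
    · simp [Ψfun]
    · simp [Ψfun]
    · fin_cases j
      · simp [Ψfun]; ring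
      · simp [Ψfun]; ring
  map_smul' := by
    intro c v
    funext x
    rcases x with (i | i) | j
    · simp [Ψfun]
    · simp [Ψfun]
    · fin_cases j
      · simp [Ψfun]; ring
      · simp [Ψfun]; ring
  left_inv := by
    intro v
    have hne : r₂ - r₁ ≠ 0 := sub_ne_zero.mpr hr.symm
    funext x
    rcases x with i | i
    · induction i using Fin.lastCases with
      | last => simp [Ψfun, Ψinv]; field_simp; ring
      | cast i => simp [Ψfun, Ψinv]
    · induction i using Fin.lastCases with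
      | last => simp [Ψfun, Ψinv]; field_simp; ring
      | cast i => simp [Ψfun, Ψinv]
  right_inv := by
    intro w
    have hne : r₂ - r₁ ≠ 0 := sub_ne_zero.mpr hr.symm
    funext x
    rcases x with (i | i) | j
    · simp [Ψfun, Ψinv]
    · simp [Ψfun, Ψinv]
    · fin_cases j
      · simp [Ψfun, Ψinv]; field_simp; ring
      · simp [Ψfun, Ψinv]; field_simp

theorem Ψ_apply (hr : r₁ ≠ r₂) (v : Fin (k + 1) ⊕ Fin (k + 1) → K) :
    Ψ k r₁ r₂ hr v = Ψfun k r₁ r₂ v := rfl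

theorem quadFormMinus_Ψ (hr : r₁ ≠ r₂) (a c : K) (ha : a = -(r₁ + r₂)) (hc : c = r₁ * r₂)
    (v : Fin (k + 1) ⊕ Fin (k + 1) → K) :
    Cfsg.quadFormMinus k K a c (Ψ k r₁ r₂ hr v) = Cfsg.quadFormPlus (k + 1) K v := by
  have hne : r₂ - r₁ ≠ 0 := sub_ne_zero.mpr hr.symm
  rw [Ψ_apply, Cfsg.quadFormMinus, Cfsg.quadFormPlus, Fin.sum_univ_castSucc, ha, hc]
  simp only [Ψfun, Sum.elim_inl, Sum.elim_inr, Matrix.cons_val_zero, Matrix.cons_val_one]
  congr 1
  field_simp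
  ring

end Psi

/-- an isometry over `F` remains an isometry after extending scalars along `ι : F →+* K`. -/
theorem isometry_map {F K : Type*} [Field F] [Field K] (ι : F →+* K) {I : Type} [Fintype I]
    [DecidableEq I] (QF : QuadraticForm F (I → F)) (QK : QuadraticForm K (I → K))
    (hcompat : ∀ u : I → F, QK (fun i => ι (u i)) = ι (QF u))
    (g : Matrix I I F) (hg : ∀ u, QF (g *ᵥ u) = QF u) :
    ∀ w : I → K, QK ((g.map ι) *ᵥ w) = QK w := by
  have hmv : ∀ u : I → F, (g.map ι) *ᵥ (fun i => ι (u i)) = fun i => ι ((g *ᵥ u) i) := by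
    intro u
    funext i
    exact (RingHom.map_mulVec ι g u i).symm
  have hsingle : ∀ i : I, (Pi.single i 1 : I → K) = fun j => ι ((Pi.single i 1 : I → F) j) := by
    intro i
    funext j
    by_cases h : j = i
    · subst h; simp
    · simp [h]
  have hval : ∀ u : I → F, QK ((g.map ι) *ᵥ (fun i => ι (u i))) = QK (fun i => ι (u i)) := by
    intro u
    rw [hmv, hcompat, hg, hcompat]
  have hadd : ∀ u v : I → F, ((fun i => ι (u i)) + (fun i => ι (v i)) : I → K) =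
      fun i => ι ((u + v) i) := by
    intro u v
    funext i
    simp
  have heq : QK.comp (Matrix.toLin' (g.map ι)) = QK := by
    apply quadraticForm_ext_basis (Pi.basisFun K I)
    · intro i
      rw [QuadraticMap.comp_apply, Pi.basisFun_apply, Matrix.toLin'_apply, hsingle, hval]
    · intro i j
      simp only [QuadraticMap.polar, QuadraticMap.comp_apply, Pi.basisFun_apply,
        Matrix.toLin'_apply]
      rw [hsingle i, hsingle j, hadd, hval, hval, hval]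
  intro w
  have := congrArg (fun q : QuadraticForm K (I → K) => q w) heq
  simpa [QuadraticMap.comp_apply] using this

theorem Qm_compat {F K : Type*} [Field F] [Field K] (ι : F →+* K) (k : ℕ) (a c : F)
    (u : (Fin k ⊕ Fin k) ⊕ Fin 2 → F) :
    Cfsg.quadFormMinus k K (ι a) (ι c) (fun i => ι (u i)) = ι (Cfsg.quadFormMinus k F a c u) := by
  simp [Cfsg.quadFormMinus, map_add, map_mul, map_sum, map_pow]

/-- extension of scalars for isometries of the elliptic form. -/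
theorem isometry_ext {F K : Type*} [Field F] [Field K] (ι : F →+* K) (k : ℕ) (a c : F)
    (g : Matrix ((Fin k ⊕ Fin k) ⊕ Fin 2) ((Fin k ⊕ Fin k) ⊕ Fin 2) F)
    (hg : ∀ u, Cfsg.quadFormMinus k F a c (g *ᵥ u) = Cfsg.quadFormMinus k F a c u)
    (w : (Fin k ⊕ Fin k) ⊕ Fin 2 → K) :
    Cfsg.quadFormMinus k K (ι a) (ι c) ((g.map ι) *ᵥ w) = Cfsg.quadFormMinus k K (ι a) (ι c) w := by
  have hg' : ∀ u, Cfsg.Agent.S2562.Qm k F a c (g *ᵥ u) = Cfsg.Agent.S2562.Qm k F a c u := by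
    intro u
    rw [Cfsg.Agent.S2562.Qm_apply, Cfsg.Agent.S2562.Qm_apply]
    exact hg u
  have h1 := isometry_map ι (Cfsg.Agent.S2562.Qm k F a c) (Cfsg.Agent.S2562.Qm k K (ι a) (ι c))
    (by
      intro u
      rw [Cfsg.Agent.S2562.Qm_apply, Cfsg.Agent.S2562.Qm_apply]
      exact Qm_compat ι k a c u) g hg' w
  rw [Cfsg.Agent.S2562.Qm_apply, Cfsg.Agent.S2562.Qm_apply] at h1
  exact h1

/-- conjugation of matrices by a linear equivalence of coordinate spaces. -/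
noncomputable def conjEquiv {K : Type*} [Field K] {I J : Type} [Fintype I] [DecidableEq I]
    [Fintype J] [DecidableEq J] (Ψ : (J → K) ≃ₗ[K] (I → K)) : Matrix I I K ≃+* Matrix J J K :=
  (Matrix.toLinAlgEquiv' (R := K) (n := I)).toRingEquiv.trans
    (Ψ.symm.conjRingEquiv.trans (Matrix.toLinAlgEquiv' (R := K) (n := J)).symm.toRingEquiv)

theorem conjEquiv_mulVec {K : Type*} [Field K] {I J : Type} [Fintype I] [DecidableEq I]
    [Fintype J] [DecidableEq J] (Ψ : (J → K) ≃ₗ[K] (I → K)) (X : Matrix I I K) (v : J → K) :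
    (conjEquiv Ψ X) *ᵥ v = Ψ.symm (X *ᵥ Ψ v) := by
  have h1 : Matrix.toLinAlgEquiv' (conjEquiv Ψ X) =
      Ψ.symm.conjRingEquiv (Matrix.toLinAlgEquiv' X) := by
    simp [conjEquiv]
  have h2 := congrArg (fun f => f v) h1
  simp only [Matrix.toLinAlgEquiv'_apply] at h2
  rw [h2]
  simp [LinearEquiv.conjRingEquiv]

/-- the roots of the anisotropic binary form in the quadratic extension. -/
theorem exists_roots {F K : Type*} [Field F] [Fintype F] [Field K] [Fintype K] {q : ℕ}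
    (ι : F →+* K) (hF : Fintype.card F = q) (hK : Fintype.card K = q ^ 2) (a c : F)
    (hac : ∀ z₁ z₂ : F, z₁ ^ 2 + a * z₁ * z₂ + c * z₂ ^ 2 = 0 → z₁ = 0 ∧ z₂ = 0) :
    ∃ r₁ r₂ : K, r₁ ≠ r₂ ∧ ι a = -(r₁ + r₂) ∧ ι c = r₁ * r₂ := by
  classical
  have hac' : ∀ z : F, z ^ 2 + a * z + c ≠ 0 := by
    intro z hz
    have := hac z 1 (by rw [← hz]; ring)
    exact one_ne_zero this.2
  obtain ⟨r₁, hr₁⟩ := exists_root_quadratic ι hK hF a c hac'
  obtain ⟨p, hp⟩ := CharP.exists F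
  haveI : CharP F p := hp
  haveI : Fact p.Prime := ⟨CharP.char_is_prime F p⟩
  haveI : CharP K p := charP_of_injective_ringHom ι.injective p
  obtain ⟨n, -, hn⟩ := FiniteField.card F p
  have hq : q = p ^ (n : ℕ) := by rw [← hF, hn]
  have hr₂ : (r₁ ^ q) ^ 2 + ι a * r₁ ^ q + ι c = 0 := by
    have h1 : (r₁ ^ 2 + ι a * r₁ + ι c) ^ q = 0 := by
      rw [hr₁, zero_pow (by rw [← hF]; exact Fintype.card_ne_zero)]
    rw [hq, add_pow_char_pow, add_pow_char_pow, ← hq, mul_pow, ringHom_pow_card ι hF,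
      ringHom_pow_card ι hF, ← pow_mul, mul_comm 2 q, pow_mul] at h1
    exact h1
  have hne : r₁ ≠ r₁ ^ q := by
    intro h
    obtain ⟨x, hx⟩ := exists_of_pow_card_eq ι hF r₁ h.symm
    apply hac' x
    apply ι.injective
    rw [map_add, map_add, map_pow, map_mul, hx, map_zero]
    exact hr₁
  have hsum : ι a = -(r₁ + r₁ ^ q) := by
    have h1 : (r₁ - r₁ ^ q) * (r₁ + r₁ ^ q + ι a) = 0 := by
      have : r₁ ^ 2 + ι a * r₁ + ι c - ((r₁ ^ q) ^ 2 + ι a * r₁ ^ q + ι c) = 0 := by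
        rw [hr₁, hr₂, sub_zero]
      rw [← this]; ring
    rcases mul_eq_zero.mp h1 with h | h
    · exact absurd (sub_eq_zero.mp h) hne
    · linear_combination h
  have hprod : ι c = r₁ * r₁ ^ q := by
    have : ι c = -(r₁ ^ 2) - ι a * r₁ := by linear_combination hr₁
    rw [this, hsum]; ring
  exact ⟨r₁, r₁ ^ q, hne, hsum, hprod⟩

theorem main {F K : Type*} [Field F] [Fintype F] [Field K] [Fintype K] {q : ℕ}
    (hF : Fintype.card F = q) (hK : Fintype.card K = q ^ 2) (k : ℕ) (a c : F)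
    (hac : ∀ z₁ z₂ : F, z₁ ^ 2 + a * z₁ * z₂ + c * z₂ ^ 2 = 0 → z₁ = 0 ∧ z₂ = 0) :
    ∃ φ : ↥(Cfsg.isometryGroup F (Cfsg.quadFormMinus k F a c)) →*
      ↥(Cfsg.isometryGroup K (Cfsg.quadFormPlus (k + 1) K)), Function.Injective φ := by
  classical
  obtain ⟨ι⟩ := exists_ringHom_of_card_sq hK hF
  obtain ⟨r₁, r₂, hne, hsum, hprod⟩ := exists_roots ι hF hK a c hac
  set Ψ₀ := Ψ k r₁ r₂ hne with hΨ₀
  have hΨ : ∀ v, Cfsg.quadFormMinus k K (ι a) (ι c) (Ψ₀ v) = Cfsg.quadFormPlus (k + 1) K v :=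
    fun v => quadFormMinus_Ψ k r₁ r₂ hne _ _ hsum hprod v
  let φ₀ : GL ((Fin k ⊕ Fin k) ⊕ Fin 2) F →* GL (Fin (k + 1) ⊕ Fin (k + 1)) K :=
    (Units.map (conjEquiv Ψ₀).toMonoidHom).comp (Matrix.GeneralLinearGroup.map ι)
  have hφ₀coe : ∀ g : GL ((Fin k ⊕ Fin k) ⊕ Fin 2) F,
      ((φ₀ g : GL (Fin (k + 1) ⊕ Fin (k + 1)) K) :
        Matrix (Fin (k + 1) ⊕ Fin (k + 1)) (Fin (k + 1) ⊕ Fin (k + 1)) K) =
        conjEquiv Ψ₀ ((g : Matrix ((Fin k ⊕ Fin k) ⊕ Fin 2) ((Fin k ⊕ Fin k) ⊕ Fin 2) F).map ι) := by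
    intro g
    rfl
  have hφ₀inj : Function.Injective φ₀ := by
    intro g h hgh
    have h1 := congrArg (fun x : GL (Fin (k + 1) ⊕ Fin (k + 1)) K =>
      (x : Matrix (Fin (k + 1) ⊕ Fin (k + 1)) (Fin (k + 1) ⊕ Fin (k + 1)) K)) hgh
    simp only [hφ₀coe] at h1
    have h2 := (conjEquiv Ψ₀).injective h1
    apply Units.ext
    ext i j
    have h3 := congrFun (congrFun h2 i) j
    simp only [Matrix.map_apply] at h3
    exact ι.injective h3
  have hmem : ∀ g : ↥(Cfsg.isometryGroup F (Cfsg.quadFormMinus k F a c)),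
      φ₀ (g : GL ((Fin k ⊕ Fin k) ⊕ Fin 2) F) ∈
        Cfsg.isometryGroup K (Cfsg.quadFormPlus (k + 1) K) := by
    rintro ⟨g, hg⟩
    intro u v
    show Cfsg.quadFormPlus (k + 1) K (((φ₀ g : GL (Fin (k + 1) ⊕ Fin (k + 1)) K) :
      Matrix (Fin (k + 1) ⊕ Fin (k + 1)) (Fin (k + 1) ⊕ Fin (k + 1)) K) *ᵥ u) =
      Cfsg.quadFormPlus (k + 1) K u
    have hg' : ∀ w, Cfsg.quadFormMinus k F a c
        ((g : Matrix ((Fin k ⊕ Fin k) ⊕ Fin 2) ((Fin k ⊕ Fin k) ⊕ Fin 2) F) *ᵥ w) =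
        Cfsg.quadFormMinus k F a c w := fun w => hg w w
    rw [hφ₀coe, conjEquiv_mulVec, ← hΨ, LinearEquiv.apply_symm_apply,
      isometry_ext ι k a c
        (g : Matrix ((Fin k ⊕ Fin k) ⊕ Fin 2) ((Fin k ⊕ Fin k) ⊕ Fin 2) F) hg', hΨ]
  refine ⟨(φ₀.comp (Cfsg.isometryGroup F (Cfsg.quadFormMinus k F a c)).subtype).codRestrict
    (Cfsg.isometryGroup K (Cfsg.quadFormPlus (k + 1) K)) hmem, ?_⟩
  intro g h hgh
  have h1 := congrArg Subtype.val hgh
  exact Subtype.ext (hφ₀inj h1)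

theorem result {F K : Type*} [Field F] [Fintype F] [Field K] [Fintype K] {q : ℕ} (hF : Fintype.card F = q) (hK : Fintype.card K = q ^ 2) {m : ℕ} (hm : 1 ≤ m) (a c : F) (hac : ∀ z₁ z₂ : F, z₁ ^ 2 + a * z₁ * z₂ + c * z₂ ^ 2 = 0 → z₁ = 0 ∧ z₂ = 0) : ∃ φ : ↥(Cfsg.isometryGroup F (Cfsg.quadFormMinus (m - 1) F a c)) →* ↥(Cfsg.isometryGroup K (Cfsg.quadFormPlus m K)), Function.Injective φ := by
  obtain ⟨k, rfl⟩ : ∃ k, m = k + 1 := ⟨m - 1, by omega⟩
  exact main hF hK k a c hac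

end Cfsg.Agent.S2679
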