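import Cfsg.Statements.S2691
import Cfsg.Agent.Helper7.AutPSU27
import Cfsg.Agent.Helper7.FieldPSL10

set_option autoImplicit false
open Cfsg

namespace Cfsg.Agent.S2691

/-- The automorphism group of a simple projective special unitary group PSU_n(q), n ≥ 3, (n, q) ≠ (3, 2), realised over the field F with q² elements through the Hermitian form Σ uᵢ vᵢ^q, is generated by the automorphisms induced by the semilinear maps v ↦ g σ(v) with g a general unitary matrix and σ an automorphism of F (the image of the projective semilinear unitary group). -/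
theorem result {F : Type*} [Field F] [Fintype F] {p f q : ℕ} [Fact p.Prime] (hq : q = p ^ f) (hf : 1 ≤ f) (hF : Fintype.card F = q ^ 2) {n : ℕ} (hn : 3 ≤ n) (hs : ¬ (n = 3 ∧ q = 2)) :
    Cfsg.gammaPSU n F q = ⊤ := by
  obtain ⟨U⟩ := Cfsg.Agent.Helper7.FieldPSL.exists_UData hF
  have hNZ : NeZero n := ⟨by omega⟩
  rw [eq_top_iff]
  intro β _
  unfold Cfsg.gammaPSU Cfsg.autSubgroupOf
  apply Subgroup.subset_closure
  obtain ⟨x, τ, hβ⟩ := Cfsg.Agent.Helper7.AutPSU.aut_PSU U hF hn hs β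
  obtain ⟨ν, hν⟩ := Cfsg.Agent.Helper7.GraphPSU.exists_unitary_mul U x.2
  have hβ' : β = Cfsg.Agent.Helper7.GraphPSU.cU U (Cfsg.Agent.Helper7.GraphPSU.scalarHS U ν * x)
      * Cfsg.Agent.Helper7.GraphPSU.phiU U τ := by
    rw [map_mul, Cfsg.Agent.Helper7.GraphPSU.cU_scalarHS, one_mul]
    exact hβ
  refine ⟨((Cfsg.Agent.Helper7.GraphPSU.scalarHS U ν * x : ↥(Cfsg.Agent.Helper7.GraphPSU.HS U n)) :
      GL (Fin n) F), τ, ?_, ?_⟩
  · exact (Cfsg.Agent.Helper7.GraphPSU.mem_GU_iff U _).2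
      ((Cfsg.Agent.Helper7.GraphPSU.isUG_iff U _).1 hν)
  · intro s s' hs'
    rw [hβ', MulAut.mul_apply, Cfsg.Agent.Helper7.GraphPSU.phiU_mk,
      Cfsg.Agent.Helper7.GraphPSU.cU_mk]
    congr 1
    apply Cfsg.Agent.Helper7.GraphPSU.suMat_injective
    rw [Cfsg.Agent.Helper7.GraphPSU.suMat_conjSU, Cfsg.Agent.Helper7.GraphPSU.suMat_phiSU]
    exact hs'.symm

end Cfsg.Agent.S2691
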