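import Cfsg.Statements.S2693
import Cfsg.Agent.Helper7.AutPSp19

set_option autoImplicit false
open Cfsg

namespace Cfsg.Agent.S2693

/-- The automorphism group of a simple projective symplectic group PSp_{2m}(F) over a finite field of characteristic p, with m ≥ 2 and (2m, p) ≠ (4, 2), is generated by the automorphisms induced by the semilinear maps v ↦ g σ(v) with g conformal symplectic and σ an automorphism of F (the image of the projective semilinear symplectic group). For (2m, p) = (4, 2) the statement fails: a duality of the underlying polar space gives a further automorphism. -/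
theorem result {F : Type*} [Field F] [Fintype F] {p : ℕ} [Fact p.Prime] [CharP F p] {m : ℕ} (hm : 2 ≤ m) (h4 : m = 2 → p ≠ 2) :
    Cfsg.gammaPSp m F = ⊤ := by
  rw [eq_top_iff]
  intro α _
  obtain ⟨x, τ, rfl⟩ := Cfsg.Agent.Helper7.AutPSp.aut_PSp_all (p := p) hm h4 α
  unfold Cfsg.gammaPSp Cfsg.autSubgroupOf
  apply Subgroup.mul_mem
  · apply Subgroup.subset_closure
    exact ⟨(x : GL (Fin m ⊕ Fin m) F), RingEquiv.refl F, x.2,
      (Cfsg.Agent.Helper7.AutPSp.isInducedRefl_iff x _).2 rfl⟩
  · apply Subgroup.subset_closure
    refine ⟨1, τ, Subgroup.one_mem _, ?_⟩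
    intro s s' hs'
    rw [inv_one, Units.val_one, Matrix.one_mul, Matrix.mul_one] at hs'
    exact (Cfsg.Agent.Helper7.AutPSp.isStdFieldAutPSp_iff τ _).2 rfl s s' hs'

end Cfsg.Agent.S2693
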