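import Cfsg.Statements.S2699
import Cfsg.Agent.Helper7.GraphPSL13

set_option autoImplicit false
open Cfsg

namespace Cfsg.Agent.S2699

/-- Let T = PSL_n(F) over the field with p^f elements with n ≥ 3 odd, n = 2m + 1, and G = Inndiag(T) the image of PGL_n(F). Every involutory graph automorphism γ of T (an inner-diagonal automorphism followed by inverse-transpose, of order 2) has centralizer C_G(γ) isomorphic to the projective conformal orthogonal group of the form x₀² + Σ xᵢ yᵢ in dimension n (for q even this group is isomorphic to Sp_{n−1}(q)), and any two involutory graph automorphisms are G-conjugate. -/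
theorem result {F : Type*} [Field F] [Fintype F] {p f : ℕ} [Fact p.Prime] (hF : Fintype.card F = p ^ f) (hf : 1 ≤ f) {n : ℕ} (hn : 3 ≤ n) {m : ℕ} (hnm : n = 2 * m + 1) (γ γ' : MulAut (Matrix.ProjectiveSpecialLinearGroup (Fin n) F)) (hγ : Cfsg.IsGraphAutClassPSL γ) (hγ2 : orderOf γ = 2) (hγ' : Cfsg.IsGraphAutClassPSL γ') (hγ'2 : orderOf γ' = 2) :
    Nonempty (↥(Cfsg.inndiagPSL n F ⊓ Subgroup.centralizer {γ}) ≃* Cfsg.PGO F (Cfsg.quadFormOdd m F)) ∧ Cfsg.IsConjUnder (Cfsg.inndiagPSL n F) γ γ' := by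
  classical
  subst hnm
  obtain ⟨g, rfl⟩ := (Cfsg.Agent.Helper7.GraphPSL.isGraphAutClassPSL_iff hn γ).1 hγ
  obtain ⟨g', rfl⟩ := (Cfsg.Agent.Helper7.GraphPSL.isGraphAutClassPSL_iff hn γ').1 hγ'
  have hs := (Cfsg.Agent.Helper7.GraphPSL.orderOf_graphAut_eq_two_iff hn g).1 hγ2
  have hs' := (Cfsg.Agent.Helper7.GraphPSL.orderOf_graphAut_eq_two_iff hn g').1 hγ'2
  by_cases h2 : (2 : F) = 0
  · have : CharP F 2 := CharTwo.of_one_ne_zero_of_two_eq_zero one_ne_zero h2
    have hneg : ∀ M : Matrix (Fin (2 * m + 1)) (Fin (2 * m + 1)) F, -M = M := by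
      intro M
      ext i j
      rw [Matrix.neg_apply, CharTwo.neg_eq]
    have hsym : (g : Matrix (Fin (2 * m + 1)) (Fin (2 * m + 1)) F).transpose
        = (g : Matrix (Fin (2 * m + 1)) (Fin (2 * m + 1)) F) := by
      rcases hs with h | h
      · exact h
      · rw [h, hneg]
    have hsym' : (g' : Matrix (Fin (2 * m + 1)) (Fin (2 * m + 1)) F).transpose
        = (g' : Matrix (Fin (2 * m + 1)) (Fin (2 * m + 1)) F) := by
      rcases hs' with h | h
      · exact h
      · rw [h, hneg]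
    exact ⟨Cfsg.Agent.Helper7.GraphPSL.centralizer_odd_dim_two g hsym,
      Cfsg.Agent.Helper7.GraphPSL.isConjUnder_odd_dim_two g g' hsym hsym'⟩
  · have hodd : Odd (2 * m + 1) := ⟨m, rfl⟩
    have hsym : (g : Matrix (Fin (2 * m + 1)) (Fin (2 * m + 1)) F).transpose
        = (g : Matrix (Fin (2 * m + 1)) (Fin (2 * m + 1)) F) := by
      rcases hs with h | h
      · exact h
      · exact (Cfsg.Agent.Helper7.GraphPSL.not_skew_of_odd h2 hodd g h).elim
    have hsym' : (g' : Matrix (Fin (2 * m + 1)) (Fin (2 * m + 1)) F).transpose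
        = (g' : Matrix (Fin (2 * m + 1)) (Fin (2 * m + 1)) F) := by
      rcases hs' with h | h
      · exact h
      · exact (Cfsg.Agent.Helper7.GraphPSL.not_skew_of_odd h2 hodd g' h).elim
    exact ⟨Cfsg.Agent.Helper7.GraphPSL.centralizer_odd_dim h2 rfl g hsym,
      Cfsg.Agent.Helper7.GraphPSL.isConjUnder_of_symm_odd h2 rfl g g' hsym hsym'⟩

end Cfsg.Agent.S2699
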