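import Cfsg.Statements.S2700
import Cfsg.Agent.Helper7.GraphPSL9

set_option autoImplicit false
open Cfsg

namespace Cfsg.Agent.S2700

/-- Let T = PSL_n(F) over a finite field of odd order with n = 2m ≥ 4 even, and G = Inndiag(T) the image of PGL_n(F). The involutory graph automorphisms of T fall into exactly three G-classes, with representatives γ₁, γ₂, γ₃ whose centralizers in G are isomorphic respectively to the projective conformal symplectic group PGSp_n(F), the projective conformal orthogonal group of the plus-type form Σ xᵢ yᵢ, and that of a minus-type form Σ xᵢ yᵢ + z₁² + a z₁ z₂ + b z₂² (anisotropic binary part) in dimension n. -/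
theorem result {F : Type*} [Field F] [Fintype F] (hodd : Odd (Fintype.card F)) {n m : ℕ} (hm : 2 ≤ m) (hnm : n = 2 * m) :
    ∃ (γ₁ γ₂ γ₃ : MulAut (Matrix.ProjectiveSpecialLinearGroup (Fin n) F)) (a b : F), (∀ z₁ z₂ : F, z₁ ^ 2 + a * z₁ * z₂ + b * z₂ ^ 2 = 0 → z₁ = 0 ∧ z₂ = 0) ∧ Cfsg.IsGraphAutClassPSL γ₁ ∧ orderOf γ₁ = 2 ∧ Cfsg.IsGraphAutClassPSL γ₂ ∧ orderOf γ₂ = 2 ∧ Cfsg.IsGraphAutClassPSL γ₃ ∧ orderOf γ₃ = 2 ∧ ¬ Cfsg.IsConjUnder (Cfsg.inndiagPSL n F) γ₁ γ₂ ∧ ¬ Cfsg.IsConjUnder (Cfsg.inndiagPSL n F) γ₁ γ₃ ∧ ¬ Cfsg.IsConjUnder (Cfsg.inndiagPSL n F) γ₂ γ₃ ∧ (∀ γ : MulAut (Matrix.ProjectiveSpecialLinearGroup (Fin n) F), Cfsg.IsGraphAutClassPSL γ → orderOf γ = 2 → Cfsg.IsConjUnder (Cfsg.inndiagPSL n F) γ₁ γ ∨ Cfsg.IsConjUnder (Cfsg.inndiagPSL n F) γ₂ γ ∨ Cfsg.IsConjUnder (Cfsg.inndiagPSL n F) γ₃ γ) ∧ Nonempty (↥(Cfsg.inndiagPSL n F ⊓ Subgroup.centralizer {γ₁}) ≃* Cfsg.PGSp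 m F) ∧ Nonempty (↥(Cfsg.inndiagPSL n F ⊓ Subgroup.centralizer {γ₂}) ≃* Cfsg.PGO F (Cfsg.quadFormPlus m F)) ∧ Nonempty (↥(Cfsg.inndiagPSL n F ⊓ Subgroup.centralizer {γ₃}) ≃* Cfsg.PGO F (Cfsg.quadFormMinus (m - 1) F a b)) := by
  classical
  subst hnm
  have h2 : (2 : F) ≠ 0 := Cfsg.Agent.Helper7.GraphPSL.two_ne_zero_of_odd_card hodd
  have hn : 3 ≤ 2 * m := by omega
  obtain ⟨ν, hν⟩ := Cfsg.Agent.Helper7.GraphPSL.exists_nonsquare_of_two_ne_zero h2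
  have hν0 : ν ≠ 0 := by
    rintro rfl
    exact hν ⟨0, by ring⟩
  obtain ⟨a, b, hab, hab'⟩ := Cfsg.Agent.Helper7.GraphPSL.exists_anisotropic h2
  set ev : Prop := Even (m * (Fintype.card F - 1) / 2) with hev
  -- the two symmetric discriminants
  obtain ⟨x₂, x₃, hx₂, hx₃⟩ : ∃ x₂ x₃ : Fˣ, (IsSquare (x₂ : F) ↔ ev) ∧ (IsSquare (x₃ : F) ↔ ¬ ev) := by
    by_cases h : ev
    · refine ⟨1, Units.mk0 ν hν0, ?_, ?_⟩
      · rw [Units.val_one]
        exact ⟨fun _ => h, fun _ => ⟨1, by ring⟩⟩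
      · rw [Units.val_mk0]
        exact ⟨fun h' => absurd h' hν, fun h' => absurd h h'⟩
    · refine ⟨Units.mk0 ν hν0, 1, ?_, ?_⟩
      · rw [Units.val_mk0]
        exact ⟨fun h' => absurd h' hν, fun h' => absurd h' h⟩
      · rw [Units.val_one]
        exact ⟨fun _ => h, fun _ => ⟨1, by ring⟩⟩
  set i₀ : Fin (2 * m) := ⟨0, by omega⟩ with hi₀
  set G₁ : GL (Fin (2 * m)) F := Cfsg.Agent.Helper7.GraphPSL.skewRep m F with hG₁
  set G₂ : GL (Fin (2 * m)) F := Cfsg.Agent.Helper7.GraphPSL.diagRep i₀ x₂ with hG₂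
  set G₃ : GL (Fin (2 * m)) F := Cfsg.Agent.Helper7.GraphPSL.diagRep i₀ x₃ with hG₃
  have hs₁ := Cfsg.Agent.Helper7.GraphPSL.skewRep_transpose (F := F) m
  have hs₂ := Cfsg.Agent.Helper7.GraphPSL.diagRep_transpose i₀ x₂
  have hs₃ := Cfsg.Agent.Helper7.GraphPSL.diagRep_transpose i₀ x₃
  have hd₂ := Cfsg.Agent.Helper7.GraphPSL.diagRep_det i₀ x₂
  have hd₃ := Cfsg.Agent.Helper7.GraphPSL.diagRep_det i₀ x₃
  refine ⟨Cfsg.Agent.Helper7.GraphPSL.graphAut G₁, Cfsg.Agent.Helper7.GraphPSL.graphAut G₂,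
    Cfsg.Agent.Helper7.GraphPSL.graphAut G₃, a, b, hab, ?_, ?_, ?_, ?_, ?_, ?_, ?_, ?_, ?_, ?_,
    ?_, ?_, ?_⟩
  · exact (Cfsg.Agent.Helper7.GraphPSL.isGraphAutClassPSL_iff hn _).2 ⟨G₁, rfl⟩
  · exact (Cfsg.Agent.Helper7.GraphPSL.orderOf_graphAut_eq_two_iff hn G₁).2 (Or.inr hs₁)
  · exact (Cfsg.Agent.Helper7.GraphPSL.isGraphAutClassPSL_iff hn _).2 ⟨G₂, rfl⟩
  · exact (Cfsg.Agent.Helper7.GraphPSL.orderOf_graphAut_eq_two_iff hn G₂).2 (Or.inl hs₂)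
  · exact (Cfsg.Agent.Helper7.GraphPSL.isGraphAutClassPSL_iff hn _).2 ⟨G₃, rfl⟩
  · exact (Cfsg.Agent.Helper7.GraphPSL.orderOf_graphAut_eq_two_iff hn G₃).2 (Or.inl hs₃)
  · exact Cfsg.Agent.Helper7.GraphPSL.not_isConjUnder_skew_symm h2 (by omega) G₁ G₂ hs₁ hs₂
  · exact Cfsg.Agent.Helper7.GraphPSL.not_isConjUnder_skew_symm h2 (by omega) G₁ G₃ hs₁ hs₃
  · intro hconj
    have := Cfsg.Agent.Helper7.GraphPSL.isSquare_det_iff_of_isConjUnder G₂ G₃ hconj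
    rw [hd₂, hd₃, hx₂, hx₃] at this
    by_cases h : ev
    · exact (this.1 h) h
    · exact h (this.2 h)
  · intro γ hγ hγ2
    obtain ⟨g, rfl⟩ := (Cfsg.Agent.Helper7.GraphPSL.isGraphAutClassPSL_iff hn γ).1 hγ
    rcases (Cfsg.Agent.Helper7.GraphPSL.orderOf_graphAut_eq_two_iff hn g).1 hγ2 with hg | hg
    · have hdet : (g : Matrix (Fin (2 * m)) (Fin (2 * m)) F).det ≠ 0 :=
        ((Matrix.isUnit_iff_isUnit_det _).1 g.isUnit).ne_zero
      by_cases hsq : (IsSquare (g : Matrix (Fin (2 * m)) (Fin (2 * m)) F).det ↔ ev)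
      · right; left
        apply Cfsg.Agent.Helper7.GraphPSL.isConjUnder_of_symm h2 g G₂ hg hs₂
        rw [hd₂]
        by_cases h : IsSquare (g : Matrix (Fin (2 * m)) (Fin (2 * m)) F).det
        · exact h.mul (hx₂.2 (hsq.1 h))
        · exact Cfsg.Agent.Helper7.OrthUni.isSquare_mul_of_not h2 hdet x₂.ne_zero h
            (fun h' => h (hsq.2 (hx₂.1 h')))
      · right; right
        have hsq' : (IsSquare (g : Matrix (Fin (2 * m)) (Fin (2 * m)) F).det ↔ ¬ ev) := by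
          by_cases h : IsSquare (g : Matrix (Fin (2 * m)) (Fin (2 * m)) F).det
          · exact ⟨fun _ hev' => hsq ⟨fun _ => hev', fun _ => h⟩, fun _ => h⟩
          · exact ⟨fun h' => absurd h' h, fun hev' => by
              exfalso
              exact hsq ⟨fun h' => absurd h' h, fun h' => absurd h' hev'⟩⟩
        apply Cfsg.Agent.Helper7.GraphPSL.isConjUnder_of_symm h2 g G₃ hg hs₃
        rw [hd₃]
        by_cases h : IsSquare (g : Matrix (Fin (2 * m)) (Fin (2 * m)) F).det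
        · exact h.mul (hx₃.2 (hsq'.1 h))
        · exact Cfsg.Agent.Helper7.OrthUni.isSquare_mul_of_not h2 hdet x₃.ne_zero h
            (fun h' => h (hsq'.2 (hx₃.1 h')))
    · left
      exact Cfsg.Agent.Helper7.GraphPSL.isConjUnder_of_skew m h2 g hg
  · exact Cfsg.Agent.Helper7.GraphPSL.centralizer_skewRep m
  · exact Cfsg.Agent.Helper7.GraphPSL.centralizer_plus hodd (by omega) G₂ hs₂ (by rw [hd₂, hx₂])
  · exact Cfsg.Agent.Helper7.GraphPSL.centralizer_minus hodd (by omega) G₃ hs₃ (by rw [hd₃, hx₃])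
      a b hab hab'

end Cfsg.Agent.S2700
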