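import Cfsg.Statements.S2701
import Cfsg.Agent.Helper7.GraphPSL16

set_option autoImplicit false
open Cfsg

namespace Cfsg.Agent.S2701

/-- Let T = PSL_n(F) over a finite field of characteristic 2 with n = 2m ≥ 4 even, and G = Inndiag(T) the image of PGL_n(F). The involutory graph automorphisms of T fall into exactly two G-classes, with representatives γ₁ and γ₃ whose centralizers in G are isomorphic respectively to the symplectic group Sp_n(F) and to the centralizer in Sp_n(F) of a symplectic transvection. -/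
theorem result {F : Type*} [Field F] [Fintype F] [CharP F 2] {n m : ℕ} (hm : 2 ≤ m) (hnm : n = 2 * m) :
    ∃ (γ₁ γ₃ : MulAut (Matrix.ProjectiveSpecialLinearGroup (Fin n) F)) (t : ↥(Matrix.symplecticGroup (Fin m) F)), Cfsg.IsTransvection (t : Matrix (Fin m ⊕ Fin m) (Fin m ⊕ Fin m) F) ∧ Cfsg.IsGraphAutClassPSL γ₁ ∧ orderOf γ₁ = 2 ∧ Cfsg.IsGraphAutClassPSL γ₃ ∧ orderOf γ₃ = 2 ∧ ¬ Cfsg.IsConjUnder (Cfsg.inndiagPSL n F) γ₁ γ₃ ∧ (∀ γ : MulAut (Matrix.ProjectiveSpecialLinearGroup (Fin n) F), Cfsg.IsGraphAutClassPSL γ → orderOf γ = 2 → Cfsg.IsConjUnder (Cfsg.inndiagPSL n F) γ₁ γ ∨ Cfsg.IsConjUnder (Cfsg.inndiagPSL n F) γ₃ γ) ∧ Nonempty (↥(Cfsg.inndiagPSL n F ⊓ Subgroup.centralizer {γ₁}) ≃* ↥(Matrix.symplecticGroup (Fin m) F)) ∧ Nonempty (↥(Cfsg.inndiagPSL n F ⊓ Subgroup.centralizer {γ₃}) ≃* ↥(Subgroup.centralizer ({t} : Set ↥(Matrix.symplecticGroup (Fin m) F)))) := by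
  classical
  subst hnm
  have hn : 3 ≤ 2 * m := by omega
  have hm1 : 1 ≤ m := by omega
  set w₀ : Fin m ⊕ Fin m → F := Pi.single (Sum.inl ⟨0, hm1⟩) 1 with hw₀
  have hw₀0 : w₀ ≠ 0 := by
    intro h
    have := congrFun h (Sum.inl ⟨0, hm1⟩)
    simp [hw₀] at this
  have hneg : ∀ M : Matrix (Fin (2 * m)) (Fin (2 * m)) F, -M = M := by
    intro M
    ext i j
    rw [Matrix.neg_apply, CharTwo.neg_eq]
  refine ⟨Cfsg.Agent.Helper7.GraphPSL.graphAut (Cfsg.Agent.Helper7.GraphPSL.skewRep m F),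
    Cfsg.Agent.Helper7.GraphPSL.graphAut (Cfsg.Agent.Helper7.GraphPSL.g3 w₀),
    Cfsg.Agent.Helper7.GraphPSL.tw w₀, Cfsg.Agent.Helper7.GraphPSL.isTransvection_tw w₀ hw₀0,
    ?_, ?_, ?_, ?_, ?_, ?_, ?_, ?_⟩
  · exact (Cfsg.Agent.Helper7.GraphPSL.isGraphAutClassPSL_iff hn _).2 ⟨_, rfl⟩
  · exact (Cfsg.Agent.Helper7.GraphPSL.orderOf_graphAut_eq_two_iff hn _).2
      (Or.inr (Cfsg.Agent.Helper7.GraphPSL.skewRep_transpose m))
  · exact (Cfsg.Agent.Helper7.GraphPSL.isGraphAutClassPSL_iff hn _).2 ⟨_, rfl⟩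
  · exact (Cfsg.Agent.Helper7.GraphPSL.orderOf_graphAut_eq_two_iff hn _).2
      (Or.inl (Cfsg.Agent.Helper7.GraphPSL.g3_transpose w₀))
  · intro hconj
    obtain ⟨v, hv⟩ := Cfsg.Agent.Helper7.GraphPSL.g3_not_alt w₀ hw₀0
    exact hv (Cfsg.Agent.Helper7.GraphPSL.alt_of_isConjUnder _ _ hconj
      (Cfsg.Agent.Helper7.GraphPSL.skewRep_alt m) v)
  · intro γ hγ hγ2
    obtain ⟨g, rfl⟩ := (Cfsg.Agent.Helper7.GraphPSL.isGraphAutClassPSL_iff hn γ).1 hγ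
    have hsym : (g : Matrix (Fin (2 * m)) (Fin (2 * m)) F).transpose
        = (g : Matrix (Fin (2 * m)) (Fin (2 * m)) F) := by
      rcases (Cfsg.Agent.Helper7.GraphPSL.orderOf_graphAut_eq_two_iff hn g).1 hγ2 with h | h
      · exact h
      · rw [h, hneg]
    by_cases halt : ∀ v : Fin (2 * m) → F,
        dotProduct v (Matrix.mulVec (g : Matrix (Fin (2 * m)) (Fin (2 * m)) F) v) = 0
    · left
      exact Cfsg.Agent.Helper7.GraphPSL.isConjUnder_of_alt m g halt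
    · right
      push Not at halt
      exact Cfsg.Agent.Helper7.GraphPSL.isConjUnder_of_nonalt w₀ hw₀0 g hsym halt
  · obtain ⟨e1⟩ := Cfsg.Agent.Helper7.GraphPSL.centralizer_skewRep (F := F) m
    obtain ⟨e2⟩ := Cfsg.Agent.Helper7.GraphPSL.symplectic_equiv_PGSp (F := F) m hm1
    exact ⟨e1.trans e2.symm⟩
  · exact Cfsg.Agent.Helper7.GraphPSL.centralizer_g3 hm1 w₀ hw₀0

end Cfsg.Agent.S2701
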