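import Cfsg.Statements.S2702
import Cfsg.Agent.Helper7.GraphSplit7

set_option autoImplicit false
open Cfsg

namespace Cfsg.Agent.S2702

/-- Let T = PSL_n(F) over the field with q = p^f elements, n ≥ 3, G = Inndiag(T) the image of PGL_n(F), and γ an involutory graph automorphism of T. The G-class of γ is the union of exactly c T-classes, where: if n is even and q is odd, c = gcd(n/2, q − 1) when C_G(γ) is isomorphic to the projective conformal symplectic group PGSp_n(F) (symplectic type) and c = gcd(n, q − 1)/2 otherwise; and c = gcd(n, q − 1) when n is odd or q is even. -/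
theorem result {F : Type*} [Field F] [Fintype F] {p f : ℕ} [Fact p.Prime] (hF : Fintype.card F = p ^ f) (hf : 1 ≤ f) {n : ℕ} (hn : 3 ≤ n) (γ : MulAut (Matrix.ProjectiveSpecialLinearGroup (Fin n) F)) (hγ : Cfsg.IsGraphAutClassPSL γ) (hγ2 : orderOf γ = 2) :
    ((Even n ∧ Odd p ∧ Nonempty (↥(Cfsg.inndiagPSL n F ⊓ Subgroup.centralizer {γ}) ≃* Cfsg.PGSp (n / 2) F)) → Cfsg.splitClassCount (Cfsg.inndiagPSL n F) (Cfsg.Inn (Matrix.ProjectiveSpecialLinearGroup (Fin n) F)) γ = Nat.gcd (n / 2) (p ^ f - 1)) ∧ ((Even n ∧ Odd p ∧ ¬ Nonempty (↥(Cfsg.inndiagPSL n F ⊓ Subgroup.centralizer {γ}) ≃* Cfsg.PGSp (n / 2) F)) → Cfsg.splitClassCount (Cfsg.inndiagPSL n F) (Cfsg.Inn (Matrix.ProjectiveSpecialLinearGroup (Fin n) F)) γ = Nat.gcd n (p ^ f - 1) / 2) ∧ (¬ (Even n ∧ Odd p) → Cfsg.splitClassCount (Cfsg.inndiagPSL n F) (Cfsg.Inn (Matrix.ProjectiveSpecialLinearGroup (Fin n) F)) γ = Nat.gcd n (p ^ f - 1)) := by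
  classical
  obtain ⟨A, rfl⟩ := (Cfsg.Agent.Helper7.GraphPSL.isGraphAutClassPSL_iff hn γ).1 hγ
  have hs := (Cfsg.Agent.Helper7.GraphPSL.orderOf_graphAut_eq_two_iff hn A).1 hγ2
  rw [← hF]
  have hoddF : Odd p → Odd (Fintype.card F) := fun h => by rw [hF]; exact h.pow
  refine ⟨?_, ?_, ?_⟩
  · rintro ⟨⟨m, hm⟩, hodd, hiso⟩
    rw [← two_mul] at hm
    subst hm
    rw [Nat.mul_div_cancel_left m (by norm_num : 0 < 2)] at hiso ⊢
    have h2 := Cfsg.Agent.Helper7.GraphPSL.two_ne_zero_of_odd_card (hoddF hodd)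
    rcases hs with hs | hs
    · exact absurd hiso
        (Cfsg.Agent.Helper7.GraphSplit.not_equiv_PGSp_of_symm A (hoddF hodd) (by omega) hs)
    · exact Cfsg.Agent.Helper7.GraphSplit.count_skew h2 (by omega) A hs
  · rintro ⟨⟨m, hm⟩, hodd, hniso⟩
    rw [← two_mul] at hm
    subst hm
    rw [Nat.mul_div_cancel_left m (by norm_num : 0 < 2)] at hniso
    have h2 := Cfsg.Agent.Helper7.GraphPSL.two_ne_zero_of_odd_card (hoddF hodd)
    rcases hs with hs | hs
    · exact Cfsg.Agent.Helper7.GraphSplit.count_symm (hoddF hodd) (by omega) A hs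
    · exact absurd (Cfsg.Agent.Helper7.GraphSplit.equiv_PGSp_of_skew h2 A hs) hniso
  · intro hne
    by_cases heven : Even n
    · obtain ⟨m, hm⟩ := heven
      rw [← two_mul] at hm
      subst hm
      have hp2 : p = 2 := by
        have hp : ¬ Odd p := fun h => hne ⟨⟨m, two_mul m⟩, h⟩
        rcases (Fact.out : p.Prime).eq_two_or_odd' with h | h
        · exact h
        · exact absurd h hp
      subst hp2
      have h20 : (2 : F) = 0 := by
        have h1 : ((Fintype.card F : ℕ) : F) = 0 := Nat.cast_card_eq_zero F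
        rw [hF, Nat.cast_pow, Nat.cast_ofNat] at h1
        exact pow_eq_zero_iff (by omega) |>.1 h1
      have hchar : CharP F 2 := CharTwo.of_one_ne_zero_of_two_eq_zero one_ne_zero h20
      exact Cfsg.Agent.Helper7.GraphSplit.count_even_char_two (by omega) A
    · obtain ⟨m, hm⟩ := Nat.not_even_iff_odd.1 heven
      subst hm
      exact Cfsg.Agent.Helper7.GraphSplit.count_odd A

end Cfsg.Agent.S2702
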