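import Cfsg.Statements.S2703
import Cfsg.Agent.Helper7.GraphPSL6

set_option autoImplicit false
open Cfsg

namespace Cfsg.Agent.S2703

/-- Let T = PSL_n(F) over the field with q elements, q odd, n = 2m ≥ 4 even, and ι the inverse-transpose automorphism. Its centralizer in G = Inndiag(T) (the image of PGL_n(F)) is isomorphic to the projective conformal orthogonal group of the plus-type form Σ xᵢ yᵢ in dimension n when n(q − 1)/4 is even, and to that of a minus-type form (Σ xᵢ yᵢ + z₁² + a z₁ z₂ + b z₂² with anisotropic binary part) when n(q − 1)/4 is odd. -/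
theorem result {F : Type*} [Field F] [Fintype F] (hodd : Odd (Fintype.card F)) {n m : ℕ} (hm : 2 ≤ m) (hnm : n = 2 * m) (ι : MulAut (Matrix.ProjectiveSpecialLinearGroup (Fin n) F)) (hι : Cfsg.IsInverseTransposeAutPSL ι) :
    (Even (n * (Fintype.card F - 1) / 4) → Nonempty (↥(Cfsg.inndiagPSL n F ⊓ Subgroup.centralizer {ι}) ≃* Cfsg.PGO F (Cfsg.quadFormPlus m F))) ∧ (¬ Even (n * (Fintype.card F - 1) / 4) → ∃ a b : F, (∀ z₁ z₂ : F, z₁ ^ 2 + a * z₁ * z₂ + b * z₂ ^ 2 = 0 → z₁ = 0 ∧ z₂ = 0) ∧ Nonempty (↥(Cfsg.inndiagPSL n F ⊓ Subgroup.centralizer {ι}) ≃* Cfsg.PGO F (Cfsg.quadFormMinus (m - 1) F a b))) := by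
  classical
  open Cfsg.Agent.Helper7.GraphPSL in
  have h2 := two_ne_zero_of_odd_card hodd
  open Cfsg.Agent.Helper7.GraphPSL in
  rw [isInverseTransposeAutPSL_iff] at hι
  subst hnm
  have hγ : ι = Cfsg.Agent.Helper7.GraphPSL.graphAut (1 : GL (Fin (2 * m)) F) := by
    rw [hι, Cfsg.Agent.Helper7.GraphPSL.graphAut, map_one, one_mul]
  have hpar : 2 * m * (Fintype.card F - 1) / 4 = m * (Fintype.card F - 1) / 2 := by
    rw [mul_assoc, show 4 = 2 * 2 from rfl, Nat.mul_div_mul_left _ _ (by norm_num)]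
  rw [hpar, hγ]
  have hone : ((1 : GL (Fin (2 * m)) F) : Matrix (Fin (2 * m)) (Fin (2 * m)) F).transpose
      = ((1 : GL (Fin (2 * m)) F) : Matrix (Fin (2 * m)) (Fin (2 * m)) F) := by
    rw [Units.val_one, Matrix.transpose_one]
  have hdet : IsSquare ((1 : GL (Fin (2 * m)) F) : Matrix (Fin (2 * m)) (Fin (2 * m)) F).det := by
    rw [Units.val_one, Matrix.det_one]
    exact ⟨1, by ring⟩
  constructor
  · intro hev
    exact Cfsg.Agent.Helper7.GraphPSL.centralizer_plus hodd (by omega) 1 hone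
      ⟨fun _ => hev, fun _ => hdet⟩
  · intro hnev
    obtain ⟨a, b, hab, hab'⟩ := Cfsg.Agent.Helper7.GraphPSL.exists_anisotropic h2
    exact ⟨a, b, hab, Cfsg.Agent.Helper7.GraphPSL.centralizer_minus hodd (by omega) 1 hone
      ⟨fun _ => hnev, fun _ => hdet⟩ a b hab hab'⟩

end Cfsg.Agent.S2703
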