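import Cfsg.Statements.S2708
import Cfsg.Agent.Helper7.GraphPSU13
import Cfsg.Agent.S2701

set_option autoImplicit false
open Cfsg

namespace Cfsg.Agent.S2708

/-- Let T = PSU_n(q) with n = 2m ≥ 4 even and q even, realised over the field F (of characteristic 2) with q² elements, and G = Inndiag(T) the image of PGU_n(q). The involutory graph automorphisms of T fall into exactly two G-classes, with representatives whose centralizers in G are isomorphic respectively to the symplectic group Sp_n(F₀) and to the centralizer in Sp_n(F₀) of a symplectic transvection, F₀ a field with q elements. -/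
theorem result {F : Type*} [Field F] [Fintype F] [CharP F 2] {q : ℕ} (hF : Fintype.card F = q ^ 2) {n m : ℕ} (hm : 2 ≤ m) (hnm : n = 2 * m) (F₀ : Type*) [Field F₀] [Fintype F₀] (hF₀ : Fintype.card F₀ = q) :
    ∃ (γ₁ γ₃ : MulAut (Cfsg.PSU n F q)) (t : ↥(Matrix.symplecticGroup (Fin m) F₀)), Cfsg.IsTransvection (t : Matrix (Fin m ⊕ Fin m) (Fin m ⊕ Fin m) F₀) ∧ Cfsg.IsGraphAutClassPSU γ₁ ∧ orderOf γ₁ = 2 ∧ Cfsg.IsGraphAutClassPSU γ₃ ∧ orderOf γ₃ = 2 ∧ ¬ Cfsg.IsConjUnder (Cfsg.inndiagPSU n F q) γ₁ γ₃ ∧ (∀ γ : MulAut (Cfsg.PSU n F q), Cfsg.IsGraphAutClassPSU γ → orderOf γ = 2 → Cfsg.IsConjUnder (Cfsg.inndiagPSU n F q) γ₁ γ ∨ Cfsg.IsConjUnder (Cfsg.inndiagPSU n F q) γ₃ γ) ∧ Nonempty (↥(Cfsg.inndiagPSU n F q ⊓ Subgroup.centralizer {γ₁}) ≃* ↥(Matrix.symplecticGroup (Fin m) F₀)) ∧ Nonempty (↥(Cfsg.inndiagPSU n F q ⊓ Subgroup.centralizer {γ₃}) ≃* ↥(Subgroup.centralizer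 ({t} : Set ↥(Matrix.symplecticGroup (Fin m) F₀)))) := by
  obtain ⟨E⟩ := Cfsg.Agent.Helper7.GraphPSU.exists_UDesc hF hF₀
  have hn : 3 ≤ n := by omega
  have hne : NeZero n := ⟨by omega⟩
  have hchar : CharP F₀ 2 := RingHom.charP E.j E.j.injective 2
  obtain ⟨γ₁', γ₃', t, ht, hg1, ho1, hg3, ho3, hn13, hex, ⟨e1⟩, ⟨e3⟩⟩ :=
    Cfsg.Agent.S2701.result (F := F₀) hm hnm
  obtain ⟨γ₁, A₁, rfl, hG1, hO1, hr1⟩ :=
    Cfsg.Agent.Helper7.GraphPSU.exists_rel_of_graphClassPSL E hn γ₁' hg1 ho1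
  obtain ⟨γ₃, A₃, rfl, hG3, hO3, hr3⟩ :=
    Cfsg.Agent.Helper7.GraphPSU.exists_rel_of_graphClassPSL E hn γ₃' hg3 ho3
  obtain ⟨f1⟩ := Cfsg.Agent.Helper7.GraphPSU.centralizer_equiv_of_rel E hn hr1
  obtain ⟨f3⟩ := Cfsg.Agent.Helper7.GraphPSU.centralizer_equiv_of_rel E hn hr3
  refine ⟨γ₁, γ₃, t, ht, hG1, hO1, hG3, hO3, ?_, ?_, ⟨f1.trans e1⟩, ⟨f3.trans e3⟩⟩
  · intro h
    exact hn13 ((Cfsg.Agent.Helper7.GraphPSU.isConjUnder_iff_of_rel E hn hr1 hr3).1 h)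
  · intro γ hγ hγ2
    obtain ⟨A, hr⟩ := Cfsg.Agent.Helper7.GraphPSU.exists_rel E hn γ hγ hγ2
    have hg := Cfsg.Agent.Helper7.GraphPSU.rel_graphAut E hn hr
    rcases hex _ hg.1 hg.2 with h | h
    · exact Or.inl ((Cfsg.Agent.Helper7.GraphPSU.isConjUnder_iff_of_rel E hn hr1 hr).2 h)
    · exact Or.inr ((Cfsg.Agent.Helper7.GraphPSU.isConjUnder_iff_of_rel E hn hr3 hr).2 h)

end Cfsg.Agent.S2708
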