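import Cfsg.Statements.S2709
import Cfsg.Agent.Helper7.GraphSplitU5

set_option autoImplicit false
open Cfsg

namespace Cfsg.Agent.S2709

/-- Let T = PSU_n(q) be simple (n ≥ 3, (n,q) ≠ (3,2), q = p^f), realised over the field F with q² elements, G = Inndiag(T) the image of PGU_n(q), and γ an involutory graph automorphism of T. The G-class of γ is the union of exactly c T-classes, where: if n is even and q is odd, c = gcd(n/2, q + 1) when C_G(γ) is isomorphic to PGSp_n(F₀) for a field F₀ with q elements (symplectic type) and c = gcd(n, q + 1)/2 otherwise; and c = gcd(n, q + 1) when n is odd or q is even. -/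
theorem result {F : Type*} [Field F] [Fintype F] {p f q : ℕ} [Fact p.Prime] (hq : q = p ^ f) (hf : 1 ≤ f) (hF : Fintype.card F = q ^ 2) {n : ℕ} (hn : 3 ≤ n) (hs : ¬ (n = 3 ∧ q = 2)) (F₀ : Type*) [Field F₀] [Fintype F₀] (hF₀ : Fintype.card F₀ = q) (γ : MulAut (Cfsg.PSU n F q)) (hγ : Cfsg.IsGraphAutClassPSU γ) (hγ2 : orderOf γ = 2) :
    ((Even n ∧ Odd q ∧ Nonempty (↥(Cfsg.inndiagPSU n F q ⊓ Subgroup.centralizer {γ}) ≃* Cfsg.PGSp (n / 2) F₀)) → Cfsg.splitClassCount (Cfsg.inndiagPSU n F q) (Cfsg.Inn (Cfsg.PSU n F q)) γ = Nat.gcd (n / 2) (q + 1)) ∧ ((Even n ∧ Odd q ∧ ¬ Nonempty (↥(Cfsg.inndiagPSU n F q ⊓ Subgroup.centralizer {γ}) ≃* Cfsg.PGSp (n / 2) F₀)) → Cfsg.splitClassCount (Cfsg.inndiagPSU n F q) (Cfsg.Inn (Cfsg.PSU n F q)) γ = Nat.gcd n (q + 1) / 2) ∧ (¬ (Even n ∧ Odd q) → Cfsg.splitClassCount (Cfsg.inndiagPSU n F q) (Cfsg.Inn (Cfsg.PSU n F q)) γ = Nat.gcd n (q + 1)) := by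
  classical
  obtain ⟨E⟩ := Cfsg.Agent.Helper7.GraphPSU.exists_UDesc hF hF₀
  have hne : NeZero n := ⟨by omega⟩
  obtain ⟨A₀, hr⟩ := Cfsg.Agent.Helper7.GraphPSU.exists_rel E hn γ hγ hγ2
  have hsk := Cfsg.Agent.Helper7.GraphPSU.rel_symm_or_skew E hr
  obtain ⟨ec⟩ := Cfsg.Agent.Helper7.GraphPSU.centralizer_equiv_of_rel E hn hr
  obtain ⟨R, rfl⟩ := Cfsg.Agent.Helper7.GraphSplit.exists_relData hr
  have hoddF₀ : Odd q → Odd (Fintype.card F₀) := fun h => by rw [hF₀]; exact h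
  refine ⟨?_, ?_, ?_⟩
  · rintro ⟨⟨k, hk⟩, hodd, hiso⟩
    rw [← two_mul] at hk
    subst hk
    rw [Nat.mul_div_cancel_left k (by norm_num : 0 < 2)] at hiso ⊢
    have h2 := Cfsg.Agent.Helper7.GraphPSL.two_ne_zero_of_odd_card (hoddF₀ hodd)
    obtain ⟨e⟩ := hiso
    rcases hsk with hs | hs
    · exact absurd ⟨ec.symm.trans e⟩
        (Cfsg.Agent.Helper7.GraphSplit.not_equiv_PGSp_of_symm A₀ (hoddF₀ hodd) (by omega) hs)
    · exact Cfsg.Agent.Helper7.GraphSplit.countU_skew hF h2 (by omega) hs R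
  · rintro ⟨⟨k, hk⟩, hodd, hniso⟩
    rw [← two_mul] at hk
    subst hk
    rw [Nat.mul_div_cancel_left k (by norm_num : 0 < 2)] at hniso
    have h2 := Cfsg.Agent.Helper7.GraphPSL.two_ne_zero_of_odd_card (hoddF₀ hodd)
    rcases hsk with hs | hs
    · exact Cfsg.Agent.Helper7.GraphSplit.countU_symm hF hodd h2 (by omega) hs R
    · obtain ⟨e⟩ := Cfsg.Agent.Helper7.GraphSplit.equiv_PGSp_of_skew h2 A₀ hs
      exact absurd ⟨ec.trans e⟩ hniso
  · intro hne'
    by_cases heven : Even n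
    · obtain ⟨k, hk⟩ := heven
      rw [← two_mul] at hk
      subst hk
      have hq2 : ¬ Odd q := fun h => hne' ⟨⟨k, two_mul k⟩, h⟩
      have hchar : CharP F₀ 2 := by
        apply ringChar.of_eq
        rw [FiniteField.even_card_iff_char_two, hF₀]
        exact Nat.even_iff.1 (Nat.not_odd_iff_even.1 hq2)
      exact Cfsg.Agent.Helper7.GraphSplit.countU_even_char_two hF (by omega) R
    · obtain ⟨k, hk⟩ := Nat.not_even_iff_odd.1 heven
      subst hk
      exact Cfsg.Agent.Helper7.GraphSplit.countU_odd hF (by omega) R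

end Cfsg.Agent.S2709
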