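import Cfsg.Statements.S2710
import Cfsg.Agent.Helper7.GraphPSU13
import Cfsg.Agent.S2703

set_option autoImplicit false
open Cfsg

namespace Cfsg.Agent.S2710

/-- Let T = PSU_n(q) with n ≥ 4 divisible by 4 (n = 2m) and q odd, realised over the field F with q² elements, G = Inndiag(T) the image of PGU_n(q), and φ the standard field automorphism of T attached to the q-th power map of F (it induces inverse-transpose on the unitary matrices and is a graph automorphism). Its centralizer in G is isomorphic to the projective conformal orthogonal group of the plus-type form Σ xᵢ yᵢ in dimension n over a field F₀ with q elements. (Dimensions n ≡ 2 (mod 4) are not covered.) -/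
theorem result {F : Type*} [Field F] [Fintype F] {q : ℕ} (hodd : Odd q) (hF : Fintype.card F = q ^ 2) {n m : ℕ} (hm : 2 ≤ m) (hnm : n = 2 * m) (h4 : 4 ∣ n) (F₀ : Type*) [Field F₀] [Fintype F₀] (hF₀ : Fintype.card F₀ = q) (σ : F ≃+* F) (hσ : ∀ a : F, σ a = a ^ q) (φ : MulAut (Cfsg.PSU n F q)) (hφ : Cfsg.IsFieldAutPSUOf σ φ) :
    Nonempty (↥(Cfsg.inndiagPSU n F q ⊓ Subgroup.centralizer {φ}) ≃* Cfsg.PGO F₀ (Cfsg.quadFormPlus m F₀)) := by
  classical
  obtain ⟨E⟩ := Cfsg.Agent.Helper7.GraphPSU.exists_UDesc hF hF₀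
  have hn : 3 ≤ n := by omega
  have hne : NeZero n := ⟨by omega⟩
  have hσ' : σ = E.bar := RingEquiv.ext (fun a => by rw [hσ, E.bar_apply])
  subst hσ'
  rw [Cfsg.Agent.Helper7.GraphPSU.isFieldAutPSUOf_iff E.toUData] at hφ
  have hone : (1 : GL (Fin n) F) * (Cfsg.Agent.Helper7.GraphPSU.barGL E.toUData 1)⁻¹ = 1 := by
    rw [map_one, inv_one, mul_one]
  have hT1 : Cfsg.Agent.Helper7.GraphPSL.gT (1 : GL (Fin n) F) = 1 := by
    apply Units.ext
    rw [Cfsg.Agent.Helper7.GraphPSL.gT_coe, Units.val_one, Matrix.transpose_one]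
  have hrel : Cfsg.Agent.Helper7.GraphPSU.Rel E φ (1 : GL (Fin n) F₀) := by
    refine ⟨1, 1, ?_, ?_, ?_⟩
    · rw [hone]; exact one_mem _
    · rw [hφ]
      unfold Cfsg.Agent.Helper7.GraphPSU.gammaU
      have h1 : (⟨(1 : GL (Fin n) F) * (Cfsg.Agent.Helper7.GraphPSU.barGL E.toUData 1)⁻¹,
          by rw [hone]; exact one_mem _⟩ : ↥(Cfsg.Agent.Helper7.GraphPSU.HS E.toUData n)) = 1 :=
        Subtype.ext hone
      rw [h1, map_one, one_mul]
      rfl
    · rw [hT1, map_one, map_one, Cfsg.Agent.Helper7.GraphPSU.scalarGL_one]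
  obtain ⟨f⟩ := Cfsg.Agent.Helper7.GraphPSU.centralizer_equiv_of_rel E hn hrel
  have hodd' : Odd (Fintype.card F₀) := by rw [hF₀]; exact hodd
  have hι : Cfsg.IsInverseTransposeAutPSL
      (Cfsg.Agent.Helper7.GraphPSL.graphAut (1 : GL (Fin n) F₀)) := by
    rw [Cfsg.Agent.Helper7.GraphPSL.isInverseTransposeAutPSL_iff,
      Cfsg.Agent.Helper7.GraphPSL.graphAut, map_one, one_mul]
  have hev : Even (n * (Fintype.card F₀ - 1) / 4) := by
    rw [hF₀]
    obtain ⟨k, rfl⟩ := h4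
    obtain ⟨l, rfl⟩ := hodd
    rw [mul_assoc, Nat.mul_div_cancel_left _ (by norm_num : 0 < 4)]
    rw [Nat.add_sub_cancel]
    exact ⟨k * l, by ring⟩
  obtain ⟨e⟩ := (Cfsg.Agent.S2703.result hodd' hm hnm _ hι).1 hev
  exact ⟨f.trans e⟩

end Cfsg.Agent.S2710
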