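import Cfsg.Statements.S2715
import Cfsg.Agent.Helper7.FieldPlus3
import Cfsg.Agent.Helper7.FieldPlusA
import Cfsg.Agent.Helper7.FieldPlusD
import Cfsg.Agent.Helper7.S2715C
import Cfsg.Agent.Helper7.S2715E
import Cfsg.Agent.Helper28.S2715N4c

set_option autoImplicit false
open Cfsg

namespace Cfsg.Agent.S2715

/-- Let T = PΩ⁺_{2m}(F) (m ≥ 4, |F| = p^f; the form Σ xᵢ yᵢ), G = Inndiag(T) the image of the class-preserving similarities in Aut(T), and x a field automorphism of T of prime order r. Then r divides f; C_G(x) is isomorphic to Inndiag(PΩ⁺_{2m}(F₀)) for a field F₀ with p^(f/r) elements; and the G-class of x is the union of exactly c T-classes, where c = 1 if r is odd or p = 2, and otherwise (r = 2, p odd) c = 2 when m is odd and p^(f/2) ≡ 1 (mod 4), and c = 4 in the remaining cases. -/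
theorem result {F : Type*} [Field F] [Fintype F] {p f : ℕ} [Fact p.Prime] (hF : Fintype.card F = p ^ f) (hf : 1 ≤ f) {m : ℕ} (hm : 4 ≤ m) (x : MulAut (Cfsg.POmega F (Cfsg.quadFormPlus m F))) (hx : Cfsg.IsFieldAutClassPOmega (Cfsg.quadFormPlus m F) x) {r : ℕ} (hr : r.Prime) (hxr : orderOf x = r) (F₀ : Type*) [Field F₀] [Fintype F₀] (hF₀ : Fintype.card F₀ = p ^ (f / r)) :
    r ∣ f ∧ Nonempty (↥(Cfsg.inndiagPOmegaPlus m F ⊓ Subgroup.centralizer {x}) ≃* ↥(Cfsg.inndiagPOmegaPlus m F₀)) ∧ ((Odd r ∨ p = 2) → Cfsg.splitClassCount (Cfsg.inndiagPOmegaPlus m F) (Cfsg.Inn (Cfsg.POmega F (Cfsg.quadFormPlus m F))) x = 1) ∧ ((r = 2 ∧ p ≠ 2 ∧ Odd m ∧ p ^ (f / 2) % 4 = 1) → Cfsg.splitClassCount (Cfsg.inndiagPOmegaPlus m F) (Cfsg.Inn (Cfsg.POmega F (Cfsg.quadFormPlus m F))) x = 2) ∧ ((r = 2 ∧ p ≠ 2 ∧ ¬ (Odd m ∧ p ^ (f / 2) % 4 = 1)) → Cfsg.splitClassCount (Cfsg.inndiagPOmegaPlus m F) (Cfsg.Inn (Cfsg.POmega F (Cfsg.quadFormPlus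 m F))) x = 4) := by
  have hDn : (Cfsg.Agent.Helper7.PlusF.innD m F).Normal := by
    rcases Nat.lt_or_ge m 5 with h | h
    · obtain rfl : m = 4 := by omega
      exact Cfsg.Agent.Helper28.N4.inndiag_normal4
    · exact Cfsg.Agent.Helper7.PlusF.inndiag_normal h
  exact Cfsg.Agent.Helper7.FieldPlus.field_aut_main_plus' hF hf (by omega : 3 ≤ m) hDn
    (fun E k => Cfsg.Agent.Helper7.FieldPlus.cls_jGO' E k)
    (fun E h2F hodd g hg => Cfsg.Agent.S2715P.cover_phi_odd E h2F (by omega) hodd g hg)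
    (fun E h2F hcard k hk hsq =>
      Cfsg.Agent.Helper7.FieldPlus.jGO_mem_Inn_of_isSquare' E h2F (by omega) hcard k hk hsq)
    (fun E h2F hcard ν₀ hν₀ d hd =>
      Cfsg.Agent.S2715P.diag_mem_Inn_iff E h2F (by omega) hcard ν₀ hν₀ d hd)
    x hx hxr hF₀

end Cfsg.Agent.S2715
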