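import Cfsg.Statements.S2718
import Cfsg.Agent.Helper28.GraphInvPlus
import Cfsg.Agent.S2613
import Cfsg.Agent.S0790
import Cfsg.Agent.S2723

set_option autoImplicit false
open Cfsg
open Matrix Cfsg.Agent.Helper28.Spin Cfsg.Agent.Helper28.Sg Cfsg.Agent.Helper28.PG

namespace Cfsg.Agent.S2718

/-- Let T = PΩ⁺_{2m}(F) with m ≥ 4 and |F| = q odd, G = Inndiag(T), and γ an involutory graph automorphism of T induced by a similarity (one interchanging the two classes of maximal totally singular subspaces). Then the G-class of γ is either a single T-class or the union of exactly two T-classes, and it is the union of two unless m is odd and q ≡ 3 (mod 4). -/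
theorem result {F : Type*} [Field F] [Fintype F] (hodd : Odd (Fintype.card F)) {m : ℕ} (hm : 4 ≤ m) (γ : MulAut (Cfsg.POmega F (Cfsg.quadFormPlus m F))) (hγ : Cfsg.IsSimilarityGraphAutPOmegaPlus m γ) (hγ2 : orderOf γ = 2) :
    (Cfsg.splitClassCount (Cfsg.inndiagPOmegaPlus m F) (Cfsg.Inn (Cfsg.POmega F (Cfsg.quadFormPlus m F))) γ = 1 ∨ Cfsg.splitClassCount (Cfsg.inndiagPOmegaPlus m F) (Cfsg.Inn (Cfsg.POmega F (Cfsg.quadFormPlus m F))) γ = 2) ∧ (¬ (Odd m ∧ Fintype.card F % 4 = 3) → Cfsg.splitClassCount (Cfsg.inndiagPOmegaPlus m F) (Cfsg.Inn (Cfsg.POmega F (Cfsg.quadFormPlus m F))) γ = 2) := by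
  classical
  have h2 : (2 : F) ≠ 0 := by
    apply Ring.two_ne_zero
    intro h
    rw [FiniteField.even_card_iff_char_two] at h
    rcases hodd with ⟨k, hk⟩
    omega
  have hQ := QfPlus_nondeg (F := F) m
  have hcardι : Fintype.card (Fin m ⊕ Fin m) = 2 * m := by
    rw [Fintype.card_sum, Fintype.card_fin]; omega
  let a : Fin 3 → Fin m ⊕ Fin m := fun j => Sum.inl (Fin.castLE (by omega) j)
  let b : Fin 3 → Fin m ⊕ Fin m := fun j => Sum.inr (Fin.castLE (by omega) j)
  have hinj : Function.Injective (Sum.elim a b) := by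
    intro x y h
    rcases x with x | x <;> rcases y with y | y <;>
      simp only [Sum.elim_inl, Sum.elim_inr, a, b, Sum.inl.injEq, Sum.inr.injEq, reduceCtorEq,
        Fin.castLE_inj] at h
    · rw [h]
    · rw [h]
  let fr : Frame3 (QfPlus m F) := frameOf a b hinj
    (fun j => Cfsg.Agent.S2613.hypPair_plus m _)
  have hperf := Omega_perfect' hQ fr (hgen_odd h2 hQ)
  have hex := Cfsg.Agent.Helper28.IDP.hex_plus (F := F) (m := m) (by omega)
  obtain ⟨ν, hν⟩ := FiniteField.exists_nonsquare (F := F) (by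
    intro h
    apply h2
    have := ringChar.Nat.cast_ringChar (R := F)
    rw [h] at this
    exact_mod_cast this)
  obtain ⟨d, hdchi, -⟩ := Cfsg.Agent.Helper28.IDP.exists_diag (F := F) (m := m) (by omega) ν hν
  obtain ⟨g, hgsgn, hgγ, hg2⟩ := Cfsg.Agent.Helper28.GInv.exists_graph_data h2 (by omega) γ hγ hγ2
  have hDD := Cfsg.Agent.Helper28.GInv.inndiag_eq_DD (F := F) (m := m) h2 (by omega)
  by_cases hcase : Odd m ∧ Fintype.card F % 4 = 3
  · have hrel := (Cfsg.Agent.S2723.result hodd hm).1 hcase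
    have key := Cfsg.Agent.Helper28.GInv.count_le_gen (QfPlus m F) hQ fr hex hperf hcardι h2 d hdchi
      hrel γ
    rw [← hDD] at key
    exact ⟨key, fun h => absurd hcase h⟩
  · have hcrit := Cfsg.Agent.S0790.result (F := F) rfl hodd m (by omega)
    have hpow := Cfsg.Agent.S2723.pow_mod_four hodd m
    have hneg := hcrit.2 (by rw [hpow, if_neg (fun hh => hcase ⟨hh.2, hh.1⟩)])
    have key := Cfsg.Agent.Helper28.GInv.count_two_gen (QfPlus m F) hQ fr hex hperf hcardι h2
      (by rw [hcardι]; omega) hneg d hdchi g hgsgn hg2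
    rw [← hDD, hgγ] at key
    exact ⟨Or.inr key, fun _ => key⟩

end Cfsg.Agent.S2718
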