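import Cfsg.Statements.S2719
import Cfsg.Agent.Helper28.GraphInvMinus
import Cfsg.Agent.S2615
import Cfsg.Agent.S2171
import Cfsg.Agent.S0791
import Cfsg.Agent.S2723
import Cfsg.Agent.S2727

set_option autoImplicit false
open Cfsg
open Matrix Cfsg.Agent.Helper28.Spin Cfsg.Agent.Helper28.Sg Cfsg.Agent.Helper28.PG

namespace Cfsg.Agent.S2719

/-- Let T = PΩ⁻_{2m+2}(F) with m ≥ 3 and |F| = q odd (form with anisotropic binary part z₁² + a z₁ z₂ + b z₂²), G = Inndiag(T), and γ an involutory graph automorphism of T (an automorphism in the image of the semisimilarity group, not inner-diagonal, of order 2). Then the G-class of γ is either a single T-class or the union of exactly two T-classes, and it is the union of two unless m is even and q ≡ 1 (mod 4). -/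
theorem result {F : Type*} [Field F] [Fintype F] (hodd : Odd (Fintype.card F)) {m : ℕ} (hm : 3 ≤ m) (a b : F) (hab : (∀ z₁ z₂ : F, z₁ ^ 2 + a * z₁ * z₂ + b * z₂ ^ 2 = 0 → z₁ = 0 ∧ z₂ = 0)) (γ : MulAut (Cfsg.POmega F (Cfsg.quadFormMinus m F a b))) (hγ : Cfsg.IsGraphAutClassPOmegaMinus m a b γ) (hγ2 : orderOf γ = 2) :
    (Cfsg.splitClassCount (Cfsg.inndiagPOmegaMinus m F a b) (Cfsg.Inn (Cfsg.POmega F (Cfsg.quadFormMinus m F a b))) γ = 1 ∨ Cfsg.splitClassCount (Cfsg.inndiagPOmegaMinus m F a b) (Cfsg.Inn (Cfsg.POmega F (Cfsg.quadFormMinus m F a b))) γ = 2) ∧ (¬ (Even m ∧ Fintype.card F % 4 = 1) → Cfsg.splitClassCount (Cfsg.inndiagPOmegaMinus m F a b) (Cfsg.Inn (Cfsg.POmega F (Cfsg.quadFormMinus m F a b))) γ = 2) := by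
  classical
  have h2 : (2 : F) ≠ 0 := by
    apply Ring.two_ne_zero
    intro h
    rw [FiniteField.even_card_iff_char_two] at h
    rcases hodd with ⟨k, hk⟩
    omega
  have hδ := Cfsg.Agent.S2621.not_isSquare_disc h2 a b hab
  have hdisc : 4 * b - a ^ 2 ≠ 0 := by
    intro h
    apply hδ
    have : a ^ 2 - 4 * b = 0 := by linear_combination -h
    rw [this]
    exact ⟨0, by simp⟩
  have hQ : (QuadraticMap.polarBilin (QfMinus m F a b)).Nondegenerate :=
    Cfsg.Agent.S2171.QfMinus_nondeg_of m a b hdisc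
  have hcardι : Fintype.card ((Fin m ⊕ Fin m) ⊕ Fin 2) = 2 * (m + 1) := by
    rw [Fintype.card_sum, Fintype.card_sum, Fintype.card_fin, Fintype.card_fin]; omega
  let a' : Fin 3 → (Fin m ⊕ Fin m) ⊕ Fin 2 :=
    fun j => Sum.inl (Sum.inl (Fin.castLE (by omega) j))
  let b' : Fin 3 → (Fin m ⊕ Fin m) ⊕ Fin 2 :=
    fun j => Sum.inl (Sum.inr (Fin.castLE (by omega) j))
  have hinj : Function.Injective (Sum.elim a' b') := by
    intro x y h
    rcases x with x | x <;> rcases y with y | y <;>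
      simp only [Sum.elim_inl, Sum.elim_inr, a', b', Sum.inl.injEq, Sum.inr.injEq, reduceCtorEq,
        Fin.castLE_inj] at h
    · rw [h]
    · rw [h]
  let fr : Frame3 (QfMinus m F a b) := frameOf a' b' hinj
    (fun j => Cfsg.Agent.S2615.hypPair_minus m a b _)
  have hperf := Omega_perfect' hQ fr (hgen_odd h2 hQ)
  have hex := Cfsg.Agent.Helper28.IDM.hex_minus (m := m) a b
  obtain ⟨d, hdchi⟩ := Cfsg.Agent.Helper28.IDM.exists_chi_neg (m := m) h2 a b hab hQ
  obtain ⟨g, hgsgn, hgγ, hg2⟩ :=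
    Cfsg.Agent.Helper28.GInv.exists_graph_data_minus hodd h2 hm a b hab γ hγ hγ2
  have hDD := Cfsg.Agent.Helper28.IDM.inndiagM_eq (m := m) hodd h2 a b hab
  have hrelres := Cfsg.Agent.S2727.result hodd hm a b hab
  have h13 : Fintype.card F % 4 = 1 ∨ Fintype.card F % 4 = 3 := by
    obtain ⟨k, hk⟩ := hodd
    omega
  by_cases hcase : Even m ∧ Fintype.card F % 4 = 3
  · have hcrit := Cfsg.Agent.S0791.result (F := F) rfl hodd (m + 1) (by omega) a b hab
    rw [Nat.add_sub_cancel] at hcrit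
    have hpow := Cfsg.Agent.S2723.pow_mod_four hodd (m + 1)
    have hneg := hcrit.2 (by rw [hpow, if_pos ⟨hcase.2, hcase.1.add_one⟩])
    have key := Cfsg.Agent.Helper28.GInv.count_two_gen (QfMinus m F a b) hQ fr hex hperf hcardι h2
      (by rw [hcardι]; omega) hneg d hdchi g hgsgn hg2
    rw [← hDD, hgγ] at key
    exact ⟨Or.inr key, fun _ => key⟩
  · have hrel := hrelres.2 hcase
    rcases Nat.even_or_odd m with hme | hmo
    · have hq1 : Fintype.card F % 4 = 1 := by
        rcases h13 with h | h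
        · exact h
        · exact absurd ⟨hme, h⟩ hcase
      have key := Cfsg.Agent.Helper28.GInv.count_le_gen (QfMinus m F a b) hQ fr hex hperf hcardι h2
        d hdchi hrel γ
      rw [← hDD] at key
      exact ⟨key, fun h => absurd ⟨hme, hq1⟩ h⟩
    · have key := Cfsg.Agent.Helper28.GInv.count_two_even (QfMinus m F a b) hQ fr hex hperf hcardι
        h2 hmo.add_one d hdchi hrel g hgsgn hg2
      rw [← hDD, hgγ] at key
      exact ⟨Or.inr key, fun _ => key⟩

end Cfsg.Agent.S2719
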