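import Cfsg.Statements.S2729
import Cfsg.Agent.Helper28.MinusInndiag6
import Cfsg.Agent.S0791
import Cfsg.Agent.S2723
import Cfsg.Agent.S2727

set_option autoImplicit false
open Cfsg

namespace Cfsg.Agent.S2729

/-- Let T = PΩ⁻_{2m+2}(F) with m ≥ 3 and |F| = q odd (form with anisotropic binary part). The inner-diagonal group G = Inndiag(T) (image of the class-preserving similarities) taken modulo the inner automorphism group T is cyclic of order 4 when m is even and q ≡ 3 (mod 4), and of order 2 otherwise. -/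
theorem result {F : Type*} [Field F] [Fintype F] (hodd : Odd (Fintype.card F)) {m : ℕ} (hm : 3 ≤ m) (a b : F) (hab : (∀ z₁ z₂ : F, z₁ ^ 2 + a * z₁ * z₂ + b * z₂ ^ 2 = 0 → z₁ = 0 ∧ z₂ = 0)) :
    ((Even m ∧ Fintype.card F % 4 = 3) → (∃ φ : ↥(Cfsg.inndiagPOmegaMinus m F a b) →* Multiplicative (ZMod 4), Function.Surjective φ ∧ φ.ker = (Cfsg.Inn (Cfsg.POmega F (Cfsg.quadFormMinus m F a b))).subgroupOf (Cfsg.inndiagPOmegaMinus m F a b))) ∧ (¬ (Even m ∧ Fintype.card F % 4 = 3) → (∃ φ : ↥(Cfsg.inndiagPOmegaMinus m F a b) →* Multiplicative (ZMod 2), Function.Surjective φ ∧ φ.ker = (Cfsg.Inn (Cfsg.POmega F (Cfsg.quadFormMinus m F a b))).subgroupOf (Cfsg.inndiagPOmegaMinus m F a b))) := by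
  classical
  have h2 : (2 : F) ≠ 0 := by
    apply Ring.two_ne_zero
    intro h
    rw [FiniteField.even_card_iff_char_two] at h
    rcases hodd with ⟨k, hk⟩
    omega
  have hrelres := Cfsg.Agent.S2727.result hodd hm a b hab
  have hcrit := Cfsg.Agent.S0791.result (F := F) rfl hodd (m + 1) (by omega) a b hab
  rw [Nat.add_sub_cancel] at hcrit
  have hpow := Cfsg.Agent.S2723.pow_mod_four hodd (m + 1)
  have hfinal := Cfsg.Agent.Helper28.IDM.minus_final hodd h2 hm a b hab
  constructor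
  · rintro ⟨hmeven, hq3⟩
    refine hfinal.1 ⟨hmeven, hrelres.1 ⟨hmeven, hq3⟩, ?_⟩
    apply hcrit.2
    rw [hpow, if_pos ⟨hq3, hmeven.add_one⟩]
  · intro hnot
    exact hfinal.2 (hrelres.2 hnot)

end Cfsg.Agent.S2729
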