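import Cfsg.Statements.S2721
import Cfsg.Agent.Helper28.SemiCls5
import Cfsg.Agent.Helper28.MinusInndiag6
import Cfsg.Agent.S2615
import Cfsg.Agent.S2171
import Cfsg.Agent.S2727
import Cfsg.Agent.S2729

set_option autoImplicit false
open Cfsg
open Matrix Cfsg.Agent.Helper28.Spin Cfsg.Agent.Helper28.Sg Cfsg.Agent.Helper28.PG

namespace Cfsg.Agent.S2721

/-- Let T = PΩ⁻_{2m+2}(F) (m ≥ 3, F finite of odd characteristic p), G = Inndiag(T), and let x be an automorphism of T induced by a similarity of the form (an element of the image G̃ of the conformal orthogonal group) of odd prime order r ≠ p. Then the T-class, the PSO-class and the G-class of x coincide (conjugacy under inner automorphisms, under the image of the special orthogonal group, and under G), and the PO-class of x coincides with its G̃-class. (In characteristic 2 the first equality fails: there the special orthogonal group is the full orthogonal group and some such classes split.) -/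
theorem result {F : Type*} [Field F] [Fintype F] {p : ℕ} [Fact p.Prime] [CharP F p] (hp : p ≠ 2) {m : ℕ} (hm : 3 ≤ m) (a b : F) (hab : (∀ z₁ z₂ : F, z₁ ^ 2 + a * z₁ * z₂ + b * z₂ ^ 2 = 0 → z₁ = 0 ∧ z₂ = 0)) (x : MulAut (Cfsg.POmega F (Cfsg.quadFormMinus m F a b))) (hx : x ∈ Cfsg.pgoAut F (Cfsg.quadFormMinus m F a b)) {r : ℕ} (hr : r.Prime) (hro : Odd r) (hrp : r ≠ p) (hxr : orderOf x = r) :
    (∀ y : MulAut (Cfsg.POmega F (Cfsg.quadFormMinus m F a b)), (Cfsg.IsConjUnder (Cfsg.Inn (Cfsg.POmega F (Cfsg.quadFormMinus m F a b))) x y ↔ Cfsg.IsConjUnder (Cfsg.inndiagPOmegaMinus m F a b) x y) ∧ (Cfsg.IsConjUnder (Cfsg.psoAut F (Cfsg.quadFormMinus m F a b)) x y ↔ Cfsg.IsConjUnder (Cfsg.inndiagPOmegaMinus m F a b) x y)) ∧ (∀ y : MulAut (Cfsg.POmega F (Cfsg.quadFormMinus m F a b)), Cfsg.IsConjUnder (Cfsg.poAut F (Cfsg.quadFormMinus m F a b)) x y ↔ Cfsg.IsConjUnder (Cfsg.pgoAut F (Cfsg.quadFormMinus m F a b)) x y) := by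
  classical
  have hchar : ringChar F ≠ 2 := by
    rw [ringChar.eq F p]
    exact hp
  have hodd : Odd (Fintype.card F) := Nat.odd_iff.2 (FiniteField.odd_card_of_char_ne_two hchar)
  have h2 : (2 : F) ≠ 0 := by
    apply Ring.two_ne_zero
    intro h
    rw [FiniteField.even_card_iff_char_two] at h
    rcases hodd with ⟨k, hk⟩
    omega
  have hδ := Cfsg.Agent.S2621.not_isSquare_disc h2 a b hab
  have hdisc : 4 * b - a ^ 2 ≠ 0 := by
    intro h
    apply hδ
    have : a ^ 2 - 4 * b = 0 := by linear_combination -h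
    rw [this]
    exact ⟨0, by simp⟩
  have hQ : (QuadraticMap.polarBilin (QfMinus m F a b)).Nondegenerate :=
    Cfsg.Agent.S2171.QfMinus_nondeg_of m a b hdisc
  have hcardι : Fintype.card ((Fin m ⊕ Fin m) ⊕ Fin 2) = 2 * (m + 1) := by
    rw [Fintype.card_sum, Fintype.card_sum, Fintype.card_fin, Fintype.card_fin]; omega
  let a' : Fin 3 → (Fin m ⊕ Fin m) ⊕ Fin 2 :=
    fun j => Sum.inl (Sum.inl (Fin.castLE (by omega) j))
  let b' : Fin 3 → (Fin m ⊕ Fin m) ⊕ Fin 2 :=
    fun j => Sum.inl (Sum.inr (Fin.castLE (by omega) j))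
  have hinj : Function.Injective (Sum.elim a' b') := by
    intro x y h
    rcases x with x | x <;> rcases y with y | y <;>
      simp only [Sum.elim_inl, Sum.elim_inr, a', b', Sum.inl.injEq, Sum.inr.injEq, reduceCtorEq,
        Fin.castLE_inj] at h
    · rw [h]
    · rw [h]
  let fr : Frame3 (QfMinus m F a b) := frameOf a' b' hinj
    (fun j => Cfsg.Agent.S2615.hypPair_minus m a b _)
  have hperf := Omega_perfect' hQ fr (hgen_odd h2 hQ)
  have hex := Cfsg.Agent.Helper28.IDM.hex_minus (m := m) a b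
  have hDD := Cfsg.Agent.Helper28.IDM.inndiagM_eq (m := m) hodd h2 a b hab
  have hrelres := Cfsg.Agent.S2727.result hodd hm a b hab
  have hstr := Cfsg.Agent.S2729.result hodd hm a b hab
  have hrF : (r : F) ≠ 0 := by
    intro h
    rw [CharP.cast_eq_zero_iff F p r] at h
    rcases (Nat.dvd_prime hr).1 h with h1 | h1
    · exact (Fact.out : p.Prime).one_lt.ne' h1
    · exact hrp h1.symm
  have hxr' : x ^ r = 1 := by rw [← hxr]; exact pow_orderOf_eq_one x
  refine Cfsg.Agent.Helper28.SSC.fusion_cyclic' (QfMinus m F a b) (Cfsg.quadFormMinus m F a b) rfl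
    hQ fr h2 hex hperf hcardι
    (by rw [hcardι]; omega) (Cfsg.inndiagPOmegaMinus m F a b) (heq_of_eq hDD) ?_ x hx hr.two_le
    hro hrF hxr'
  by_cases hcase : Even m ∧ Fintype.card F % 4 = 3
  · right
    obtain ⟨φ, -, hker⟩ := hstr.1 hcase
    exact ⟨⟨φ, hker⟩, hrelres.1 hcase⟩
  · left
    obtain ⟨φ, -, hker⟩ := hstr.2 hcase
    exact ⟨φ, hker⟩

end Cfsg.Agent.S2721
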