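import Cfsg.Statements.S2725
import Cfsg.Agent.Helper28.InndiagPlus7
import Cfsg.Agent.S0790
import Cfsg.Agent.S2723

set_option autoImplicit false
open Cfsg

namespace Cfsg.Agent.S2725

/-- Let T = PΩ⁺_{2m}(F) with m ≥ 4 and |F| = q odd. The inner-diagonal group G = Inndiag(T) (image of the class-preserving similarities) taken modulo the inner automorphism group T is cyclic of order 2 when m is odd and q ≡ 3 (mod 4), cyclic of order 4 when m is odd and q ≡ 1 (mod 4), and elementary abelian of order 4 when m is even. -/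
theorem result {F : Type*} [Field F] [Fintype F] (hodd : Odd (Fintype.card F)) {m : ℕ} (hm : 4 ≤ m) :
    ((Odd m ∧ Fintype.card F % 4 = 3) → (∃ φ : ↥(Cfsg.inndiagPOmegaPlus m F) →* Multiplicative (ZMod 2), Function.Surjective φ ∧ φ.ker = (Cfsg.Inn (Cfsg.POmega F (Cfsg.quadFormPlus m F))).subgroupOf (Cfsg.inndiagPOmegaPlus m F))) ∧ ((Odd m ∧ Fintype.card F % 4 = 1) → (∃ φ : ↥(Cfsg.inndiagPOmegaPlus m F) →* Multiplicative (ZMod 4), Function.Surjective φ ∧ φ.ker = (Cfsg.Inn (Cfsg.POmega F (Cfsg.quadFormPlus m F))).subgroupOf (Cfsg.inndiagPOmegaPlus m F))) ∧ (Even m → (∃ φ : ↥(Cfsg.inndiagPOmegaPlus m F) →* Multiplicative (ZMod 2 × ZMod 2), Function.Surjective φ ∧ φ.ker = (Cfsg.Inn (Cfsg.POmega F (Cfsg.quadFormPlus m F))).subgroupOf (Cfsg.inndiagPOmegaPlus m F))) := by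
  classical
  have h2 : (2 : F) ≠ 0 := by
    apply Ring.two_ne_zero
    intro h
    rw [FiniteField.even_card_iff_char_two] at h
    rcases hodd with ⟨k, hk⟩
    omega
  have hrelres := Cfsg.Agent.S2723.result hodd hm
  have hcrit := Cfsg.Agent.S0790.result (F := F) rfl hodd m (by omega)
  have hpow := Cfsg.Agent.S2723.pow_mod_four hodd m
  have h13 : Fintype.card F % 4 = 1 ∨ Fintype.card F % 4 = 3 := by
    obtain ⟨k, hk⟩ := hodd
    omega
  refine ⟨?_, ?_, ?_⟩
  · intro hcase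
    exact Cfsg.Agent.Helper28.IDP.caseA h2 (by omega) (hrelres.1 hcase)
  · rintro ⟨hmodd, hq1⟩
    have hcase : ¬ (Odd m ∧ Fintype.card F % 4 = 3) := by
      rintro ⟨-, h3⟩
      omega
    have hneg := hcrit.2 (by rw [hpow, if_neg (fun hh => hcase ⟨hh.2, hh.1⟩)])
    exact Cfsg.Agent.Helper28.IDP.caseB h2 (by omega) hmodd (hrelres.2 hcase) hneg
  · intro heven
    have hcase : ¬ (Odd m ∧ Fintype.card F % 4 = 3) := by
      rintro ⟨hmo, -⟩
      exact (Nat.not_even_iff_odd.2 hmo) heven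
    have hneg := hcrit.2 (by rw [hpow, if_neg (fun hh => hcase ⟨hh.2, hh.1⟩)])
    exact Cfsg.Agent.Helper28.IDP.caseC h2 (by omega) heven (hrelres.2 hcase) hneg

end Cfsg.Agent.S2725
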