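import Cfsg.Statements.S2787
import Cfsg.Agent.Helper18.QuadGen
import Cfsg.Agent.Helper14.PCore
import Cfsg.Agent.Lead.S2787SEC
import Cfsg.Agent.Helper3.S2787SL2P
import Cfsg.Agent.Helper18.S2787DIHPSL
import Cfsg.Agent.Helper18.S2787OPPSL
import Cfsg.Agent.Helper20.S2787DIHREE
import Cfsg.Agent.Helper20.S2787OPREE

set_option autoImplicit false
open Cfsg

namespace Cfsg.Agent.S2787P.FIN

theorem dihLike_of_equiv {G H : Type*} [Group G] [Group H] (e : G ≃* H) (h : DihLike H) :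
    DihLike G := by
  intro S hS
  obtain ⟨c, hc⟩ := h (S.map e.toMonoidHom) (hS.map _)
  refine ⟨e.symm c, ?_⟩
  intro x hx hxc
  have h1 : e x ∉ Subgroup.zpowers c := by
    intro hmem
    apply hxc
    obtain ⟨k, hk⟩ := Subgroup.mem_zpowers_iff.1 hmem
    rw [Subgroup.mem_zpowers_iff]
    refine ⟨k, ?_⟩
    rw [← map_zpow, hk]
    simp
  have h2 := hc (e x) ⟨x, hx, rfl⟩ h1
  apply e.injective
  rw [map_mul, h2, map_one]

theorem pCore_eq_bot_of_equiv {G H : Type*} [Group G] [Group H] (p : ℕ) (e : G ≃* H)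
    (h : Cfsg.pCore p H = ⊥) : Cfsg.pCore p G = ⊥ := by
  have h1 := Cfsg.Agent.Helper14.pCore_map_equiv p e
  rw [h] at h1
  rw [eq_bot_iff]
  intro x hx
  have : e x ∈ (⊥ : Subgroup H) := by
    rw [← h1]
    exact ⟨x, hx, rfl⟩
  rw [Subgroup.mem_bot] at this ⊢
  exact e.injective (by rw [this, map_one])

end Cfsg.Agent.S2787P.FIN

namespace Cfsg.Agent.S2787

open Cfsg.Agent.S2787P Cfsg.Agent.S2787P.FIN Cfsg.Agent.Helper26 Cfsg.Agent.Helper18.QuadPS
open scoped IsMulCommutative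
set_option linter.style.haveILetI false

theorem result {G : Type*} [Group G] [Finite G] {p : ℕ} [Fact p.Prime] (V H : Subgroup G) (hV : Cfsg.IsElementaryAbelian p V) (hHV : H ≤ Subgroup.normalizer (V : Set G)) (hirr : ∀ U : Subgroup G, U ≤ V → H ≤ Subgroup.normalizer (U : Set G) → U = ⊥ ∨ U = V) (hnt : ¬ H ≤ Subgroup.centralizer (V : Set G)) [hn : ((Subgroup.centralizer (V : Set G)).subgroupOf H).Normal] (hq : (∃ (F : Type) (_ : Field F) (_ : Fintype F) (n : ℕ), Fintype.card F = p ^ n ∧ Odd (Fintype.card F) ∧ Nonempty (↥H ⧸ (Subgroup.centralizer (V : Set G)).subgroupOf H ≃* Matrix.ProjectiveSpecialLinearGroup (Fin 2) F)) ∨ (p = 3 ∧ Cfsg.Lie.IsoRee (↥H ⧸ (Subgroup.centralizer (V : Set G)).subgroupOf H))) (A : Subgroup G) (hA : A ≤ H) (hquad : ⁅⁅V, A⁆, A⁆ = ⊥) : ⁅V, A⁆ = ⊥ := by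
  classical
  by_contra hne
  -- `p` is odd
  have hp2 : p ≠ 2 := by
    rcases hq with ⟨F, _, _, n, hc, hodd, _⟩ | ⟨h3, _⟩
    · intro h2
      rw [hc, h2] at hodd
      have hn0 : n ≠ 0 := by
        intro h0
        rw [h0, pow_zero] at hc
        have := Fintype.one_lt_card (α := F)
        omega
      exact (Nat.not_even_iff_odd.2 hodd) ((Nat.even_pow.2 ⟨even_two, hn0⟩))
    · omega
  -- the two structural facts about the quotient
  have hstruct : DihLike (↥H ⧸ (Subgroup.centralizer (V : Set G)).subgroupOf H) ∧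
      Cfsg.pCore p (↥H ⧸ (Subgroup.centralizer (V : Set G)).subgroupOf H) = ⊥ := by
    rcases hq with ⟨F, _, _, n, hc, hodd, ⟨e⟩⟩ | ⟨h3, K, _, _, m, hm, hK, ⟨e⟩⟩
    · exact ⟨dihLike_of_equiv e (dihLike_psl2 hodd),
        pCore_eq_bot_of_equiv p e (pCore_psl2 p n hc hodd)⟩
    · subst h3
      exact ⟨dihLike_of_equiv e (dihLike_ree m hm hK),
        pCore_eq_bot_of_equiv 3 e (pCore_ree m hm hK)⟩
  obtain ⟨hdih, hcore⟩ := hstruct
  -- an element of `A` acting nontrivially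
  obtain ⟨a, haA, hac⟩ : ∃ a ∈ A, a ∉ Subgroup.centralizer (V : Set G) := by
    by_contra hcon
    push Not at hcon
    apply hne
    rw [Subgroup.commutator_comm, Subgroup.commutator_eq_bot_iff_le_centralizer]
    exact hcon
  have haH : a ∈ H := hA haA
  have hqa : ⁅⁅V, Subgroup.zpowers a⁆, Subgroup.zpowers a⁆ = ⊥ := by
    rw [eq_bot_iff, ← hquad]
    have hz : Subgroup.zpowers a ≤ A := by
      rw [Subgroup.zpowers_le]; exact haA
    exact Subgroup.commutator_mono (Subgroup.commutator_mono le_rfl hz) hz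
  obtain ⟨hVc, hVp⟩ := hV
  haveI := hVc
  have hV' : ∀ v : V, v ^ p = 1 := by
    intro v
    apply Subtype.ext
    rw [Subgroup.coe_pow]
    exact hVp v v.2
  -- the representation of the quotient
  have hker : (conjRep V H hHV).ker = (Subgroup.centralizer (V : Set G)).subgroupOf H := by
    ext h
    rw [mem_conjRep_ker, Subgroup.mem_subgroupOf]
  let ρ' : (↥H ⧸ (Subgroup.centralizer (V : Set G)).subgroupOf H) →* MulAut V :=
    QuotientGroup.lift _ (conjRep V H hHV) (fun x hx => by rw [← hker] at hx; exact hx)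
  have hρ' : ∀ h : H, ρ' (QuotientGroup.mk h) = conjRep V H hHV h := fun h => rfl
  have hinj : ∀ h, ρ' h = 1 → h = 1 := by
    intro h
    induction h using QuotientGroup.induction_on with
    | H h =>
      intro hh
      rw [hρ'] at hh
      have : h ∈ (conjRep V H hHV).ker := hh
      rw [hker] at this
      exact (QuotientGroup.eq_one_iff h).2 this
  have hquad' := Cfsg.Agent.Helper18.QuadSL23.quad_conjRep V H hHV a haH hqa
  have hna : ((⟨a, haH⟩ : H) : ↥H ⧸ (Subgroup.centralizer (V : Set G)).subgroupOf H) ∉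
      Cfsg.pCore p (↥H ⧸ (Subgroup.centralizer (V : Set G)).subgroupOf H) := by
    rw [hcore, Subgroup.mem_bot, QuotientGroup.eq_one_iff, Subgroup.mem_subgroupOf]
    exact hac
  have hquad'' : ∀ v : V, ρ' (QuotientGroup.mk (⟨a, haH⟩ : H)) (ρ' (QuotientGroup.mk (⟨a, haH⟩ : H)) v / v) =
      ρ' (QuotientGroup.mk (⟨a, haH⟩ : H)) v / v := hquad'
  obtain ⟨M, N, hN, ⟨e⟩⟩ := Cfsg.Agent.Helper18.QuadGen.mul_gen (p := p)
    (H := ↥H ⧸ (Subgroup.centralizer (V : Set G)).subgroupOf H) (V := V) hp2 hV' ρ' hinj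
    (QuotientGroup.mk (⟨a, haH⟩ : H)) hquad'' hna
  obtain ⟨T, hT, x, hx, y, hy, hx2, hy2, hxy⟩ := sl2_witness p hp2
  haveI := hN
  exact no_section hdih T hT x y hx hy hx2 hy2 hxy M N e

end Cfsg.Agent.S2787
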