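import Cfsg.Statements.S2788
import Cfsg.Agent.Helper7.S2788CORE

set_option autoImplicit false
open Cfsg

namespace Cfsg.Agent.S2788

/-- Let H act faithfully by conjugation on the elementary abelian p-subgroup V of a finite group with H ≅ SL₂(F), F a field with p^n elements, S a Sylow p-subgroup of H, and A ≤ S a subgroup of order at least 3 acting quadratically on V ([V, A, A] = 1). Then |V/C_V(a)| ≥ p^n for every nonidentity a ∈ A. -/
theorem result {G : Type*} [Group G] [Finite G] {p : ℕ} [Fact p.Prime] (V H : Subgroup G) (hV : Cfsg.IsElementaryAbelian p V) (hHV : H ≤ Subgroup.normalizer (V : Set G)) (hf : H ⊓ Subgroup.centralizer (V : Set G) = ⊥) {F : Type*} [Field F] [Fintype F] (n : ℕ) (hF : Fintype.card F = p ^ n) (hiso : Nonempty (↥H ≃* Matrix.SpecialLinearGroup (Fin 2) F)) (S : Sylow p ↥H) (T : Subgroup G) (hT : T = ((S : Subgroup ↥H).map H.subtype)) (A : Subgroup G) (hA : A ≤ T) (hA3 : 3 ≤ Nat.card A) (hquad : ⁅⁅V, A⁆, A⁆ = ⊥) : ∀ a ∈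 A, a ≠ 1 → p ^ n ≤ ((V ⊓ Subgroup.centralizer ({a} : Set G))).relIndex V := by
  intro a haA ha1
  obtain ⟨Φ⟩ := hiso
  have haT : a ∈ ((S : Subgroup ↥H).map H.subtype) := hT ▸ hA haA
  obtain ⟨s, hsS, rfl⟩ := Subgroup.mem_map.1 haT
  have hs1 : s ≠ 1 := fun h => ha1 (by rw [h]; simp)
  obtain ⟨k, hk⟩ := S.isPGroup' ⟨s, hsS⟩
  have hsk : s ^ (p ^ k) = 1 := by simpa using congrArg Subtype.val hk
  exact Cfsg.Agent.S2788P.FINAL.core_bound V H hV hHV hf n hF Φ.toMonoidHom Φ.surjective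
    (MonoidHom.id _) Function.surjective_id (fun g hg => Or.inl hg) s
    (fun h => hs1 (Φ.injective (by rw [map_one]; exact h))) k hsk

end Cfsg.Agent.S2788
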