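import Cfsg.Statements.S2794
import Cfsg.Agent.Helper26.QdNoControl

set_option autoImplicit false
open Cfsg

namespace Cfsg.Agent.S2794

/-- For an odd prime p and a finite group G, the group Qd(p) is not involved in G if and only if in every section K/R of G, for every Sylow p-subgroup S* of K/R, the centre of J(S*) (J generated by the abelian subgroups of largest order) controls strong fusion in K/R. -/
theorem result {G : Type*} [Group G] [Finite G] {p : ℕ} [Fact p.Prime] (hp : p ≠ 2) : ¬ Cfsg.Involves ↥(Cfsg.qd p) G ↔ ∀ (K R : Subgroup G) [hR : (R.subgroupOf K).Normal], ∀ T : Sylow p (K ⧸ R.subgroupOf K), Cfsg.ControlsStrongFusion p (Cfsg.centerThompsonAOf (T : Subgroup (K ⧸ R.subgroupOf K))) := by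
  constructor
  · intro hfree K R hR T
    have hfreeY := Cfsg.Agent.Helper26.QdStab.not_involves_section hfree K R
    have hS : Cfsg.Agent.Helper10.SecStab p (↥K ⧸ R.subgroupOf K) :=
      Cfsg.Agent.Helper10.secStab_of_sections (fun K' R' hR' =>
        Cfsg.Agent.Helper26.QdStab.isNormalizerPStable_of_qd_free hp
          (Cfsg.Agent.Helper26.QdStab.not_involves_section hfreeY K' R'))
    have h1 := Cfsg.Agent.Helper10.controls_of_secStab_normal
      (Cfsg.Agent.Helper15.SL2Free.toW (Cfsg.Agent.Lead.TNC.zjAFunctor p))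
      (Cfsg.Agent.Helper15.SL2Free.toW_isCharPFunctor _)
      (fun Y _ _ hY hc T' => by
        rw [Cfsg.Agent.Helper15.SL2Free.inducedFunctor_toW]
        have hst : Cfsg.Agent.Helper26.StabHypSub p Y :=
          (hY Y Cfsg.Agent.Helper10.IsSec.refl).toSub
        have hn : (sInf (Cfsg.Agent.Helper26.famEl 0 (T' : Subgroup Y))).Normal :=
          (Cfsg.Agent.Helper26.zjFamily_famEl hp 0 (Or.inl rfl)).normal_sInf' hst hc T'
        rw [← Cfsg.Agent.Helper26.centerThompsonAOf_eq] at hn
        exact hn) hS T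
    rw [Cfsg.Agent.Helper15.SL2Free.inducedFunctor_toW] at h1
    exact h1
  · intro h hinv
    obtain ⟨K, R, hR, ⟨e⟩⟩ := hinv
    haveI := hR
    have e' : (↥K ⧸ R.subgroupOf K) ≃* ↥(Cfsg.Agent.Helper17.affSub (ZMod p)) :=
      e.trans (MulEquiv.subgroupCongr (Cfsg.Agent.Helper14.qd_eq_affSub p))
    obtain ⟨T₀⟩ : Nonempty (Sylow p (↥K ⧸ R.subgroupOf K)) := inferInstance
    exact Cfsg.Agent.Helper26.QdNoControl.not_controls_of_equiv e' T₀ (h K R T₀)

end Cfsg.Agent.S2794
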