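import Cfsg.Statements.S2806
import Cfsg.Agent.Helper7.S2806FIN

set_option autoImplicit false
open Cfsg

namespace Cfsg.Agent.S2806

/-- Let H be a finite group of local characteristic p, T a Sylow p-subgroup, and L₁, L₂ subnormal subgroups of H generating the subgroup L. Then the point stabilizer of L with respect to T ∩ L is generated by the point stabilizers of L₁ and L₂ with respect to T ∩ L₁ and T ∩ L₂ (point stabilizer of X w.r.t. R: the subgroup generated by the p-elements of X centralizing Ω₁(Z(R))). -/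
theorem result {H : Type*} [Group H] [Finite H] {p : ℕ} [Fact p.Prime] (hH : Cfsg.IsOfLocalCharacteristic p H) (T : Sylow p H) (L₁ L₂ : Subgroup H) (h₁ : L₁.IsSubnormal) (h₂ : L₂.IsSubnormal) : Cfsg.pointStabilizer p (L₁ ⊔ L₂) ((T : Subgroup H) ⊓ (L₁ ⊔ L₂)) = Cfsg.pointStabilizer p L₁ ((T : Subgroup H) ⊓ L₁) ⊔ Cfsg.pointStabilizer p L₂ ((T : Subgroup H) ⊓ L₂) := by
  have hL : (L₁ ⊔ L₂).IsSubnormal := Cfsg.Agent.S0538.result L₁ L₂ h₁ h₂
  apply le_antisymm
  · exact Cfsg.Agent.S2806P.le_ps hH T h₁ h₂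
  · exact sup_le (Cfsg.Agent.S2806P.ps_le hH T hL h₁ le_sup_left)
      (Cfsg.Agent.S2806P.ps_le hH T hL h₂ le_sup_right)

end Cfsg.Agent.S2806
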