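import Cfsg.Statements.S2807
import Cfsg.Agent.S2792
import Cfsg.Agent.Helper10.YoshidaWreath

set_option autoImplicit false
open Cfsg

namespace Cfsg.Agent.S2807

/-- Let S be a Sylow p-subgroup of the finite group G. If S ∩ G' ≠ S ∩ (N_G(S))' (derived subgroups), then the wreath product Z_p ≀ Z_p — realised as a Sylow p-subgroup of the symmetric group of degree p² — is a homomorphic image of S. -/
theorem result {G : Type*} [Group G] [Finite G] {p : ℕ} [Fact p.Prime] (S : Sylow p G) (h : (S : Subgroup G) ⊓ commutator G ≠ (S : Subgroup G) ⊓ ⁅Subgroup.normalizer ((S : Subgroup G) : Set G), Subgroup.normalizer ((S : Subgroup G) : Set G)⁆) : ∃ (P : Sylow p (Equiv.Perm (Fin (p ^ 2)))) (f : ↥(S : Subgroup G) →* ↥(P : Subgroup (Equiv.Perm (Fin (p ^ 2))))), Function.Surjective f := by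
  classical
  have hW : Cfsg.IsWeaklyClosed (S : Subgroup G) (S : Subgroup G) := by
    refine ⟨le_rfl, ?_⟩
    intro g hg
    apply Subgroup.eq_of_le_of_card_ge hg
    rw [Subgroup.card_map_of_injective (MulAut.conj g).injective]
  obtain ⟨x, hx, z, hz, W₀, hco, hc1, hc2⟩ := Cfsg.Agent.S2792.result S (S : Subgroup G) hW h
  have hcoe := Cfsg.Agent.Helper10.cw_iterate_coe (S : Subgroup G) ⟨z, hz⟩ ⟨x, hx⟩ (p - 1)
  apply Cfsg.Agent.Helper10.wreath_quotient_of_commutator S.2 W₀ hco ⟨x, hx⟩ ⟨z, hz⟩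
  intro hmem
  apply hc2
  exact ⟨_, hmem, hcoe⟩

end Cfsg.Agent.S2807
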