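import Cfsg.Statements.S2815
import Cfsg.Agent.Helper15.PMinComp
import Cfsg.Agent.Helper7.FStar2

set_option autoImplicit false
set_option linter.style.haveILetI false
open scoped commutatorElement
open Cfsg

namespace Cfsg.Agent.S2815

open Cfsg.Agent.Helper14 Cfsg.Agent.Helper7 in
/-- a nilpotent normal subgroup of a group with `O_p = 1` is a `p'`-group -/
theorem coprime_of_nilpotent_normal {H : Type*} [Group H] [Finite H] {p : ℕ} [Fact p.Prime]
    (hO : Cfsg.pCore p H = ⊥) (N : Subgroup H) [hN : N.Normal] (hnil : Group.IsNilpotent ↥N) :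
    (Nat.card ↥N).Coprime p := by
  have hpp : p.Prime := Fact.out
  obtain ⟨P⟩ : Nonempty (Sylow p ↥N) := inferInstance
  have h0 := (Group.isNilpotent_of_finite_tfae (G := ↥N)).out 0 3
  have h1 : (P : Subgroup ↥N).Normal := h0.mp hnil p inferInstance P
  have h2 : (P : Subgroup ↥N).Characteristic := Sylow.characteristic_of_normal _ h1
  have h3 : ((P : Subgroup ↥N).map N.subtype).Normal := inferInstance
  have h4 : (P : Subgroup ↥N).map N.subtype ≤ Cfsg.pCore p H :=
    Cfsg.Agent.Helper14.le_pCore p h3 (P.isPGroup'.map _)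
  rw [hO, le_bot_iff, Subgroup.map_eq_bot_iff_of_injective _ N.subtype_injective] at h4
  have h5 : Nat.card (P : Subgroup ↥N) = 1 := by rw [h4]; exact Subgroup.card_bot
  rw [P.card_eq_multiplicity] at h5
  rw [Nat.coprime_comm, Nat.Prime.coprime_iff_not_dvd hpp]
  intro hd
  have h6 := hpp.factorization_pos_of_dvd Nat.card_pos.ne' hd
  have : 1 < p ^ (Nat.card ↥N).factorization p := Nat.one_lt_pow h6.ne' hpp.one_lt
  omega

/-- Let H be a finite group and p a prime dividing its order with O_p(H) = 1, and suppose K = O^p(H) (generated by the elements of order prime to p) is quasisimple. Then K = F*(H); for every nontrivial p-subgroup Y of H, K = [K, Y] and K lies in the subgroup generated by the K-conjugates of Y; every normal subgroup of H not containing K has order prime to p; and H is p-irreducible. -/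
theorem result {H : Type*} [Group H] [Finite H] {p : ℕ} [Fact p.Prime] (hp : p ∣ Nat.card H) (hO : Cfsg.pCore p H = ⊥) (hq : Cfsg.IsQuasisimple ↥(Cfsg.pResidual p H)) : Cfsg.pResidual p H = Cfsg.generalizedFittingSubgroup H ∧ (∀ Y : Subgroup H, IsPGroup p ↥Y → Y ≠ ⊥ → ⁅Cfsg.pResidual p H, Y⁆ = Cfsg.pResidual p H ∧ Cfsg.pResidual p H ≤ ⨆ k : ↥(Cfsg.pResidual p H), Y.map (MulAut.conj (k : H)).toMonoidHom) ∧ (∀ C : Subgroup H, C.Normal → ¬ Cfsg.pResidual p H ≤ C → (Nat.card ↥C).Coprime p) ∧ Cfsg.IsPIrreducible p H := by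
  classical
  have hpp : p.Prime := Fact.out
  set R := Cfsg.pResidual p H with hR
  have hRn : R.Normal := Cfsg.Agent.Helper14.pResidual_normal
  have hcomp : Cfsg.IsComponent R := ⟨Subgroup.Normal.isSubnormal hRn, hq⟩
  have hperf : ⁅R, R⁆ = R := Cfsg.Agent.Helper7.IsComponent.commutator_eq hcomp
  have hlayer : Cfsg.layer H = R :=
    le_antisymm (Cfsg.Agent.Helper15.PMinComp.perfect_le_pResidual
      Cfsg.Agent.Helper7.layer_commutator_eq) (Cfsg.Agent.Helper7.IsComponent.le_layer hcomp)
  have hfit : Cfsg.fittingSubgroup H ≤ R :=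
    Cfsg.Agent.Helper15.PMinComp.fitting_le_pResidual hO
  have hFs : Cfsg.generalizedFittingSubgroup H = R := by
    unfold Cfsg.generalizedFittingSubgroup
    rw [hlayer]
    exact sup_eq_left.mpr hfit
  have hcent : Subgroup.centralizer (R : Set H) ≤ R := by
    have := Cfsg.Agent.Helper7.centralizer_generalizedFitting_le (G := H)
    rwa [hFs] at this
  -- normal subgroups of R
  have hdich : ∀ N : Subgroup H, N ≤ R → R ≤ Subgroup.normalizer (N : Set H) →
      R ≤ N ∨ N ≤ Subgroup.centralizer (R : Set H) := by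
    intro N hNR hRN
    haveI : (N.subgroupOf R).Normal :=
      (Subgroup.normal_subgroupOf_iff_le_normalizer hNR).mpr hRN
    rcases Cfsg.Agent.Helper7.IsQuasisimple.normal_eq_top_or_le_center hq (N.subgroupOf R)
      with h | h
    · left; exact Subgroup.subgroupOf_eq_top.mp h
    · right
      intro n hn
      rw [Subgroup.mem_centralizer_iff]
      intro r hr
      have h1 : (⟨n, hNR hn⟩ : ↥R) ∈ Subgroup.center ↥R := h (by
        rw [Subgroup.mem_subgroupOf]; exact hn)
      have h2 := Subgroup.mem_center_iff.mp h1 ⟨r, hr⟩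
      exact congrArg Subtype.val h2
  -- three subgroups
  have hts : ∀ X : Subgroup H, ⁅R, X⁆ ≤ Subgroup.centralizer (R : Set H) → ⁅R, X⁆ = ⊥ := by
    intro X hX
    have h1 : ⁅⁅R, X⁆, R⁆ = ⊥ := Subgroup.commutator_eq_bot_iff_le_centralizer.mpr hX
    have h2 : ⁅⁅X, R⁆, R⁆ = ⊥ := by rw [Subgroup.commutator_comm X R]; exact h1
    have h3 := Subgroup.commutator_commutator_eq_bot_of_rotate h1 h2
    rwa [hperf] at h3
  -- the centre of R
  set Z := R ⊓ Subgroup.centralizer (R : Set H) with hZ
  have hZn : Z.Normal := inferInstance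
  have hZc : IsMulCommutative ↥Z := by
    refine ⟨⟨fun a b => ?_⟩⟩
    apply Subtype.ext
    have := Subgroup.mem_centralizer_iff.mp a.2.2 b.1 b.2.1
    exact this.symm
  have hZnil : Group.IsNilpotent ↥Z := Cfsg.Agent.Helper7.isNilpotent_of_isMulCommutative ↥Z
  have hZcop : (Nat.card ↥Z).Coprime p := coprime_of_nilpotent_normal hO Z hZnil
  refine ⟨hFs.symm, ?_, ?_, ?_⟩
  · -- part 2
    intro Y hY hY1
    have hRY : ⁅R, Y⁆ = R := by
      have h1 : ⁅R, Y⁆ ≤ R := Subgroup.commutator_le_left R Y
      rcases hdich ⁅R, Y⁆ h1 (Cfsg.Agent.Helper7.le_normalizer_commutator_left R Y) with h | h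
      · exact le_antisymm h1 h
      · exfalso
        have h2 := hts Y h
        have h3 : Y ≤ Subgroup.centralizer (R : Set H) := by
          rw [Subgroup.commutator_comm] at h2
          exact Subgroup.commutator_eq_bot_iff_le_centralizer.mp h2
        have h4 : Y ≤ Z := le_inf (h3.trans hcent) h3
        have h5 : Nat.card ↥Y ∣ Nat.card ↥Z := Subgroup.card_dvd_of_le h4
        obtain ⟨k, hk⟩ := IsPGroup.iff_card.mp hY
        have h6 : Nat.card ↥Y = 1 := by
          have h7 : (Nat.card ↥Y).Coprime p := Nat.Coprime.coprime_dvd_left h5 hZcop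
          rw [hk] at h7 ⊢
          rcases Nat.eq_zero_or_pos k with h0 | h0
          · rw [h0, pow_zero]
          · exfalso
            have : p ∣ Nat.gcd (p ^ k) p := Nat.dvd_gcd (dvd_pow_self p h0.ne') dvd_rfl
            rw [h7] at this
            exact hpp.one_lt.ne' (Nat.dvd_one.mp this)
        exact hY1 (Subgroup.card_eq_one.mp h6)
    refine ⟨hRY, ?_⟩
    refine hRY.symm.le.trans ?_
    rw [Subgroup.commutator_le]
    intro r hr y hy
    have e : ⁅r, y⁆ = (MulAut.conj r).toMonoidHom y * y⁻¹ := by
      rw [commutatorElement_def]; rfl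
    rw [e]
    apply Subgroup.mul_mem
    · exact (le_iSup (fun k : ↥R => Y.map (MulAut.conj (k : H)).toMonoidHom) ⟨r, hr⟩)
        (Subgroup.mem_map_of_mem _ hy)
    · apply Subgroup.inv_mem
      have := (le_iSup (fun k : ↥R => Y.map (MulAut.conj (k : H)).toMonoidHom) ⟨1, R.one_mem⟩)
        (Subgroup.mem_map_of_mem _ hy)
      simpa using this
  · -- part 3
    intro C hC hRC
    haveI := hC
    have hCR : (C ⊓ R).Normal := inferInstance
    rcases hdich (C ⊓ R) inf_le_right (by rw [Subgroup.normalizer_eq_top]; exact le_top)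
      with h | h
    · exact absurd (h.trans inf_le_left) hRC
    · have h1 : ⁅R, C⁆ ≤ C ⊓ R :=
        le_inf (Subgroup.commutator_le_right R C) (Subgroup.commutator_le_left R C)
      have h2 := hts C (h1.trans h)
      have h3 : C ≤ Subgroup.centralizer (R : Set H) := by
        rw [Subgroup.commutator_comm] at h2
        exact Subgroup.commutator_eq_bot_iff_le_centralizer.mp h2
      have h4 : C ≤ Z := le_inf (h3.trans hcent) h3
      exact Nat.Coprime.coprime_dvd_left (Subgroup.card_dvd_of_le h4) hZcop
  · -- part 4: need part 3 again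
    have part3 : ∀ C : Subgroup H, C.Normal → ¬ R ≤ C → (Nat.card ↥C).Coprime p := by
      intro C hC hRC
      haveI := hC
      rcases hdich (C ⊓ R) inf_le_right (by rw [Subgroup.normalizer_eq_top]; exact le_top)
        with h | h
      · exact absurd (h.trans inf_le_left) hRC
      · have h1 : ⁅R, C⁆ ≤ C ⊓ R :=
          le_inf (Subgroup.commutator_le_right R C) (Subgroup.commutator_le_left R C)
        have h2 := hts C (h1.trans h)
        have h3 : C ≤ Subgroup.centralizer (R : Set H) := by
          rw [Subgroup.commutator_comm] at h2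
          exact Subgroup.commutator_eq_bot_iff_le_centralizer.mp h2
        have h4 : C ≤ Z := le_inf (h3.trans hcent) h3
        exact Nat.Coprime.coprime_dvd_left (Subgroup.card_dvd_of_le h4) hZcop
    constructor
    · intro hcl
      obtain ⟨S⟩ : Nonempty (Sylow p H) := inferInstance
      have h1 : (S : Subgroup H) ≤ Cfsg.pCore p H :=
        Cfsg.Agent.Helper14.le_pCore p (hcl S) S.isPGroup'
      rw [hO, le_bot_iff] at h1
      have h2 : Nat.card (S : Subgroup H) = 1 := by rw [h1]; exact Subgroup.card_bot
      rw [S.card_eq_multiplicity] at h2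
      have h3 := hpp.factorization_pos_of_dvd Nat.card_pos.ne' hp
      have : 1 < p ^ (Nat.card H).factorization p := Nat.one_lt_pow h3.ne' hpp.one_lt
      omega
    · intro N hN hNcl
      by_contra hRN
      apply hNcl
      have hcop := part3 N hN hRN
      intro P
      have h1 : Nat.card (P : Subgroup ↥N) = 1 := by
        rw [P.card_eq_multiplicity]
        have : (Nat.card ↥N).factorization p = 0 := by
          apply Nat.factorization_eq_zero_of_not_dvd
          exact (Nat.Prime.coprime_iff_not_dvd hpp).mp hcop.symm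
        rw [this, pow_zero]
      rw [Subgroup.card_eq_one.mp h1]
      infer_instance

end Cfsg.Agent.S2815
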