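import Cfsg.Statements.S2821
import Cfsg.Agent.Helper14.PReduced4

set_option autoImplicit false
open Cfsg

namespace Cfsg.Agent.S2821

/-- Let H be a finite group, p a prime, T a Sylow p-subgroup and L a subgroup of characteristic p containing T; let Y_L be the largest p-reduced normal subgroup of L (the join of the normal elementary abelian p-subgroups V of L with O_p(L/C_L(V)) = 1). Then T₀ := C_T(Y_L) is a Sylow p-subgroup of C_H(Y_L); moreover O_p(L) ≤ T₀ ≤ C_L(Y_L) and Ω₁(Z(T)) ≤ Z_L ≤ Y_L ≤ Ω₁(Z(O_p(L))), where Z_L is generated by the Ω₁(Z(S)) over the Sylow p-subgroups S of L. -/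
theorem result {H : Type*} [Group H] [Finite H] {p : ℕ} [Fact p.Prime] (T : Sylow p H) (L : Subgroup H) (hTL : (T : Subgroup H) ≤ L) (hL : Subgroup.centralizer (Cfsg.pCore p ↥L : Set ↥L) ≤ Cfsg.pCore p ↥L) (T₀ : Subgroup H) (hT₀ : T₀ = (T : Subgroup H) ⊓ Subgroup.centralizer (((Cfsg.largestPReducedOf p L) : Subgroup H) : Set H)) : (∃ P : Sylow p ↥(Subgroup.centralizer (((Cfsg.largestPReducedOf p L) : Subgroup H) : Set H)), (P : Subgroup ↥(Subgroup.centralizer (((Cfsg.largestPReducedOf p L) : Subgroup H) : Set H))) = T₀.subgroupOf (Subgroup.centralizer (((Cfsg.largestPReducedOf p L) : Subgroup H) : Set H))) ∧ (Cfsg.pCoreOf p L) ≤ T₀ ∧ T₀ ≤ L ⊓ Subgroup.centralizer (((Cfsg.largestPReducedOf p L) : Subgroup H) : Set H) ∧ (Cfsg.omegaOne p ((T : Subgroup H) ⊓ Subgroup.centralizer (((T : Subgroup H) : Subgroup H) : Set H))) ≤ Cfsg.sylowCenterClosure p L ∧ Cfsg.sylowCenterClosure p L ≤ (Cfsg.largestPReducedOf p L) ∧ (Cfsg.largestPReducedOf p L) ≤ (Cfsg.omegaOne p ((Cfsg.pCoreOf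 p L) ⊓ Subgroup.centralizer (((Cfsg.pCoreOf p L) : Subgroup H) : Set H))) := by
  open Cfsg.Agent.Helper14 in
  subst hT₀
  have hchar := charP_ambient p hL
  have hTS : IsSylowIn p (T : Subgroup H) L := isSylowIn_of_sylow_le T hTL
  have hYred := largestPReducedOf_isPReducedIn (p := p) L
  have hTC : (T : Subgroup H) ≤ Subgroup.normalizer
      ((Subgroup.centralizer ((Cfsg.largestPReducedOf p L : Subgroup H) : Set H) : Subgroup H) : Set H) :=
    hTL.trans (hYred.2.1.trans (normalizer_le_normalizer_centralizer' _))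
  refine ⟨?_, ?_, ?_, ?_, ?_, ?_⟩
  · have h1 : IsSylowIn p (T : Subgroup H) ((T : Subgroup H) ⊔
        Subgroup.centralizer ((Cfsg.largestPReducedOf p L : Subgroup H) : Set H)) :=
      isSylowIn_of_sylow_le T le_sup_left
    have h2 := sylow_inf_isSylowIn h1 le_sup_right (sup_le hTC Subgroup.le_normalizer)
    exact ⟨h2.toSylow, rfl⟩
  · exact le_inf (pCoreOf_le_of_isSylowIn hTS) (pCoreOf_le_centralizer_largestPReducedOf L)
  · exact inf_le_inf_right _ hTL
  · exact ozc_le_sylowCenterClosure' hTS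
  · exact le_largestPReducedOf (isPReducedIn_sylowCenterClosure hchar)
  · intro y hy
    have h3 := pCoreOf_le_centralizer_largestPReducedOf (p := p) L
    rw [Subgroup.le_centralizer_iff] at h3
    exact Subgroup.subset_closure ⟨⟨largestPReducedOf_le_pCoreOf L hy, h3 hy⟩, hYred.2.2.1.2 y hy⟩

end Cfsg.Agent.S2821
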