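import Cfsg.Statements.S2825
import Cfsg.Agent.Helper14.PReducedSub2

set_option autoImplicit false
open Cfsg

namespace Cfsg.Agent.S2825

/-- Let L be a subnormal subgroup of the finite group H, p a prime, Y_H and Y_L the largest p-reduced normal subgroups. Then Y_H ∩ L = Y_H ∩ Y_L and this subgroup is a p-reduced normal subgroup of L; C_L(Y_L) = C_L(Y_H) = C_L(Y_H ∩ L); and if O^p(H) ≤ L, then [Y_L, L] = 1 if and only if [Y_H, H] = 1. -/
theorem result {H : Type*} [Group H] [Finite H] {p : ℕ} [Fact p.Prime] (L : Subgroup H) (hL : L.IsSubnormal) : Cfsg.largestPReduced p H ⊓ L = Cfsg.largestPReduced p H ⊓ (Cfsg.largestPReducedOf p L) ∧ Cfsg.IsPReducedNormal p ((Cfsg.largestPReduced p H ⊓ L).subgroupOf L) ∧ L ⊓ Subgroup.centralizer ((Cfsg.largestPReducedOf p L : Subgroup H) : Set H) = L ⊓ Subgroup.centralizer (Cfsg.largestPReduced p H : Set H) ∧ L ⊓ Subgroup.centralizer (Cfsg.largestPReduced p H : Set H) = L ⊓ Subgroup.centralizer ((Cfsg.largestPReduced p H ⊓ L : Subgroup H) : Set H) ∧ (Cfsg.pResidual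 p H ≤ L → (⁅(Cfsg.largestPReducedOf p L), L⁆ = ⊥ ↔ ⁅Cfsg.largestPReduced p H, (⊤ : Subgroup H)⁆ = ⊥)) := by
  have hV : Cfsg.IsPReducedNormal p (Cfsg.largestPReduced p H) :=
    Cfsg.Agent.Helper14.pReducedJoin_isPReducedNormal
  have h2 := Cfsg.Agent.Helper14.inf_isPReducedIn hV hL
  have h1 : Cfsg.largestPReduced p H ⊓ L = Cfsg.largestPReduced p H ⊓ Cfsg.largestPReducedOf p L := by
    apply le_antisymm
    · exact le_inf inf_le_left (Cfsg.Agent.Helper14.le_largestPReducedOf h2)
    · exact le_inf inf_le_left (inf_le_right.trans (Cfsg.Agent.Helper14.largestPReducedOf_le L))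
  have h4 : L ⊓ Subgroup.centralizer (Cfsg.largestPReduced p H : Set H) =
      L ⊓ Subgroup.centralizer ((Cfsg.largestPReduced p H ⊓ L : Subgroup H) : Set H) := by
    apply le_antisymm
    · exact le_inf inf_le_left (inf_le_right.trans (Subgroup.centralizer_le inf_le_left))
    · exact le_inf inf_le_left (Cfsg.Agent.Helper14.inf_centralizer_inf_le hV hL)
  have h3 : L ⊓ Subgroup.centralizer ((Cfsg.largestPReducedOf p L : Subgroup H) : Set H) =
      L ⊓ Subgroup.centralizer (Cfsg.largestPReduced p H : Set H) := by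
    apply le_antisymm
    · rw [h4]
      refine le_inf inf_le_left (inf_le_right.trans (Subgroup.centralizer_le ?_))
      rw [h1]; exact inf_le_right
    · exact le_inf inf_le_left (Cfsg.Agent.Helper14.inf_centralizer_largestPReduced_le hL)
  refine ⟨h1, (Cfsg.Agent.Helper14.isPReducedNormal_subgroupOf_iff inf_le_right).2 h2, h3, h4, ?_⟩
  intro hres
  rw [Subgroup.commutator_eq_bot_iff_le_centralizer, Subgroup.commutator_eq_bot_iff_le_centralizer]
  constructor
  · intro h
    -- L centralizes Y_L, hence Y_H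
    have hLc : L ≤ Subgroup.centralizer (Cfsg.largestPReduced p H : Set H) := by
      have : L ≤ L ⊓ Subgroup.centralizer ((Cfsg.largestPReducedOf p L : Subgroup H) : Set H) :=
        le_inf le_rfl (Subgroup.le_centralizer_iff.1 h)
      rw [h3] at this
      exact this.trans inf_le_right
    have htop : (⊤ : Subgroup H) ≤ Subgroup.centralizer (Cfsg.largestPReduced p H : Set H) := by
      apply ((Cfsg.Agent.Helper14.isPReducedNormal_iff).1 hV).2.2 ⊤ inferInstance
      intro d _
      obtain ⟨n, hn⟩ := Cfsg.Agent.Helper14.exists_pow_mem_pResidual (p := p) d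
      exact ⟨n, hLc (hres hn)⟩
    exact Subgroup.le_centralizer_iff.1 htop
  · intro h
    have hLc : L ≤ L ⊓ Subgroup.centralizer (Cfsg.largestPReduced p H : Set H) :=
      le_inf le_rfl (le_top.trans (Subgroup.le_centralizer_iff.1 h))
    rw [← h3] at hLc
    exact Subgroup.le_centralizer_iff.1 (hLc.trans inf_le_right)

end Cfsg.Agent.S2825
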