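import Cfsg.Statements.S2842
import Cfsg.Agent.Helper14.WcsCharP

set_option autoImplicit false
open Cfsg

namespace Cfsg.Agent.S2842

/-- Let Q be a nontrivial p-subgroup of the finite group H that is a weakly closed subgroup with C_H(Q) ≤ Q, and Q ≤ L ≤ H. Suppose H has characteristic p, or more generally that C_H(y) has characteristic p for some nonidentity y ∈ C_{O_p(L)}(Q). Then [Q, C_H(O_p(L))] ≤ Q ∩ O_p(L), C_H(O_p(L)) is a p-group, and L has characteristic p. -/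
theorem result {H : Type*} [Group H] [Finite H] {p : ℕ} [Fact p.Prime] (Q : Subgroup H) (hQp : IsPGroup p ↥Q) (hQ1 : Q ≠ ⊥) (hwc : Cfsg.IsWeaklyClosedSubgroup p Q) (hCQ : Subgroup.centralizer ((Q : Subgroup H) : Set H) ≤ Q) (L : Subgroup H) (hQL : Q ≤ L) (hyp : Subgroup.centralizer (Cfsg.pCore p H : Set H) ≤ Cfsg.pCore p H ∨ ∃ y : H, y ≠ 1 ∧ y ∈ (Cfsg.pCoreOf p L) ⊓ Subgroup.centralizer ((Q : Subgroup H) : Set H) ∧ Subgroup.centralizer (Cfsg.pCore p ↥(Subgroup.centralizer ({y} : Set H)) : Set ↥(Subgroup.centralizer ({y} : Set H))) ≤ Cfsg.pCore p ↥(Subgroup.centralizer ({y} : Set H))) : ⁅Q, Subgroup.centralizer (((Cfsg.pCoreOf p L) : Subgroup H) : Set H)⁆ ≤ Q ⊓ (Cfsg.pCoreOf p L) ∧ IsPGroup p ↥(Subgroup.centralizer (((Cfsg.pCoreOf p L) : Subgroup H) : Set H)) ∧ Subgroup.centralizer (Cfsg.pCore p ↥L : Set ↥L) ≤ Cfsg.pCore p ↥L := by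
  have main : ∃ K : Subgroup H, Subgroup.centralizer (Cfsg.pCore p ↥K : Set ↥K) ≤ Cfsg.pCore p ↥K ∧
      Q ≤ K ∧ Subgroup.centralizer ((Cfsg.pCoreOf p L : Subgroup H) : Set H) ≤ K := by
    rcases hyp with h | ⟨y, -, hy, hyc⟩
    · exact ⟨⊤, Cfsg.Agent.Helper15.charP_of_mulEquiv p Subgroup.topEquiv.symm h, le_top, le_top⟩
    · refine ⟨Subgroup.centralizer ({y} : Set H), hyc, ?_, ?_⟩
      · intro q hq
        rw [Subgroup.mem_centralizer_iff]
        intro z hz
        rw [Set.mem_singleton_iff] at hz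
        subst hz
        exact (Subgroup.mem_centralizer_iff.1 hy.2 q hq).symm
      · intro d hd
        rw [Subgroup.mem_centralizer_iff]
        intro z hz
        rw [Set.mem_singleton_iff] at hz
        subst hz
        exact Subgroup.mem_centralizer_iff.1 hd z hy.1
  obtain ⟨K, hK, hQK, hDK⟩ := main
  obtain ⟨h1, h2, h3⟩ := Cfsg.Agent.Helper14.wcs_centralizer_structure hQp hwc hCQ hK hQK hQL hDK
  exact ⟨h1, h2, Cfsg.Agent.Helper14.charP_of_ambient h3⟩

end Cfsg.Agent.S2842
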