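import Cfsg.Statements.S2859
import Cfsg.Agent.Helper14.WcFactor

set_option autoImplicit false
open Cfsg

namespace Cfsg.Agent.S2859

/-- Let Q be a nontrivial p-subgroup of the finite group H that is a weakly closed subgroup, H° the weak closure of Q in H (generated by the conjugates of Q) and H_∘ = O^p(H°). Suppose H₁, H₂ are normal subgroups of H° with H° = H₁H₂ and [H₁, H₂] ≤ N_H(Q), and put Kᵢ = O^p of the weak closure of Q in HᵢQ. Then for i = 1, 2: Kᵢ = [Kᵢ, Q] = [Kᵢ, Hᵢ] ≤ Hᵢ′ and Kᵢ is normal in H°; H_∘ = K₁K₂; and [K₁, K₂] ≤ O_p(H°). -/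
theorem result {G : Type*} [Group G] [Finite G] {p : ℕ} [Fact p.Prime] (Q : Subgroup G) (hQp : IsPGroup p ↥Q) (hQ1 : Q ≠ ⊥) (hwc : Cfsg.IsWeaklyClosedSubgroup p Q) (Hc : Subgroup G) (hHc : Hc = Cfsg.weakClosure Q ⊤) (H₁ H₂ : Subgroup G) (hn₁ : H₁ ≤ Hc ∧ Hc ≤ Subgroup.normalizer ((H₁ : Subgroup G) : Set G)) (hn₂ : H₂ ≤ Hc ∧ Hc ≤ Subgroup.normalizer ((H₂ : Subgroup G) : Set G)) (hprod : H₁ ⊔ H₂ = Hc) (hcomm : ⁅H₁, H₂⁆ ≤ Subgroup.normalizer ((Q : Subgroup G) : Set G)) (K₁ K₂ : Subgroup G) (hK₁ : K₁ = ((Cfsg.pResidual p ↥(Cfsg.weakClosure Q (H₁ ⊔ Q))).map ((Cfsg.weakClosure Q (H₁ ⊔ Q))).subtype)) (hK₂ : K₂ = ((Cfsg.pResidual p ↥(Cfsg.weakClosure Q (H₂ ⊔ Q))).map ((Cfsg.weakClosure Q (H₂ ⊔ Q))).subtype)) : (⁅K₁, Q⁆ = K₁ ∧ ⁅K₁, H₁⁆ = K₁ ∧ K₁ ≤ ⁅H₁, H₁⁆ ∧ Hc ≤ Subgroup.normalizer ((K₁ : Subgroup G) : Set G)) ∧ (⁅K₂, Q⁆ = K₂ ∧ ⁅K₂, H₂⁆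 = K₂ ∧ K₂ ≤ ⁅H₂, H₂⁆ ∧ Hc ≤ Subgroup.normalizer ((K₂ : Subgroup G) : Set G)) ∧ K₁ ⊔ K₂ = ((Cfsg.pResidual p ↥Hc).map (Hc).subtype) ∧ ⁅K₁, K₂⁆ ≤ (Cfsg.pCoreOf p Hc) := by
  have hprod' : H₂ ⊔ H₁ = Hc := by rw [sup_comm]; exact hprod
  have hcomm' : ⁅H₂, H₁⁆ ≤ Subgroup.normalizer ((Q : Subgroup G) : Set G) := by
    rw [Subgroup.commutator_comm]; exact hcomm
  obtain ⟨a1, a2, a3, a4, a5, a6, a7, a8⟩ :=
    Helper14.wc_factor_half Q hQp hwc Hc hHc H₁ H₂ hn₁ hn₂ hprod hcomm K₁ hK₁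
  obtain ⟨b1, b2, b3, b4, b5, b6, b7, b8⟩ :=
    Helper14.wc_factor_half Q hQp hwc Hc hHc H₂ H₁ hn₂ hn₁ hprod' hcomm' K₂ hK₂
  refine ⟨⟨a1, a2, a3, a4⟩, ⟨b1, b2, b3, b4⟩, ?_, ?_⟩
  · apply le_antisymm (sup_le a8 b8)
    obtain ⟨hQHc, -, -, -, -, -, -, -⟩ :=
      Helper14.wcs_closure_structure hQp hwc (le_top : Q ≤ ⊤) Hc _ hHc rfl
    have hHc1 : Hc = ⨆ k : ↥(⊤ : Subgroup G), Q.map (Helper14.cj (k : G)) := by
      rw [hHc]; exact Helper14.weakClosure_eq_iSup_conj hQp hwc le_top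
    have hQM : Q ≤ Subgroup.normalizer ((K₁ ⊔ K₂ : Subgroup G) : Set G) :=
      Helper14.le_normalizer_sup (hQHc.trans a4) (hQHc.trans b4)
    -- `Hc` normalizes `(K₁ ⊔ K₂) ⊔ Q`
    have key : ∀ (Ha Ka : Subgroup G), Ka ≤ K₁ ⊔ K₂ → Ha ≤ Hc →
        (∀ h ∈ Ha, ∃ k ∈ Ka, ∃ n ∈ Subgroup.normalizer ((Q : Subgroup G) : Set G), h = k * n) →
        Ha ≤ Subgroup.normalizer (((K₁ ⊔ K₂) ⊔ Q : Subgroup G) : Set G) := by
      intro Ha Ka hKa hHa hfac h hh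
      obtain ⟨k, hk, n, hn, rfl⟩ := hfac h hh
      have hkHc : k ∈ Hc := by
        have : K₁ ⊔ K₂ ≤ Hc := sup_le (a6.trans hn₁.1) (b6.trans hn₂.1)
        exact this (hKa hk)
      have hnHc : n ∈ Hc := by
        have : n = k⁻¹ * (k * n) := by group
        rw [this]
        exact Hc.mul_mem (Hc.inv_mem hkHc) (hHa hh)
      have hnM : n ∈ Subgroup.normalizer ((K₁ ⊔ K₂ : Subgroup G) : Set G) :=
        Helper14.le_normalizer_sup a4 b4 hnHc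
      rw [Helper14.mem_normalizer_iff_map_cj, ← Helper14.map_cj_mul, Subgroup.map_sup,
        Helper14.mem_normalizer_iff_map_cj.1 hnM, Helper14.mem_normalizer_iff_map_cj.1 hn]
      exact Helper14.map_cj_eq_self_of_mem (Subgroup.mem_sup_left (hKa hk))
    have hHcN : Hc ≤ Subgroup.normalizer (((K₁ ⊔ K₂) ⊔ Q : Subgroup G) : Set G) := by
      rw [← hprod]
      exact sup_le (key H₁ K₁ le_sup_left hn₁.1 a7) (key H₂ K₂ le_sup_right hn₂.1 b7)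
    have hHcle : Hc ≤ (K₁ ⊔ K₂) ⊔ Q := by
      conv_lhs => rw [hHc1]
      apply iSup_le
      intro g
      have hg : Q.map (Helper14.cj (g : G)) ≤ Hc := by
        conv_rhs => rw [hHc1]
        exact le_iSup (fun k : ↥(⊤ : Subgroup G) => Q.map (Helper14.cj (k : G))) g
      obtain ⟨k, hk, hgk⟩ := Helper14.wcs_conj_in_subgroup hQp hwc hQHc (g : G) hg
      rw [hgk]
      have := Subgroup.map_mono (f := Helper14.cj k) (le_sup_right : Q ≤ (K₁ ⊔ K₂) ⊔ Q)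
      rwa [Helper14.mem_normalizer_iff_map_cj.1 (hHcN hk)] at this
    exact Helper14.pResidualOf_le_of_le_sup (K₁ ⊔ K₂) Q Hc hQM hQp hHcle
  · exact (Subgroup.commutator_mono le_rfl b6).trans a5

end Cfsg.Agent.S2859
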