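import Cfsg.Statements.S2872
import Cfsg.Agent.Helper14.TransferInv
import Cfsg.Agent.Helper1.PGroup

set_option autoImplicit false
open Cfsg

namespace Cfsg.Agent.S2872

/-- Let S be a Sylow 2-subgroup of the finite group G. Then G has a proper normal subgroup of 2-power index (O²(G) ≠ G), or Ω₁(Z(S)) is contained in the Frattini subgroup of S, or N_G(S) acts nontrivially on Ω₁(Z(S)) by conjugation. -/
theorem result {G : Type*} [Group G] [Finite G] (S : Sylow 2 G) : Cfsg.pResidual 2 G ≠ ⊤ ∨ Cfsg.omegaOne 2 ((S : Subgroup G) ⊓ Subgroup.centralizer ((S : Subgroup G) : Set G)) ≤ (frattini ↥(S : Subgroup G)).map (S : Subgroup G).subtype ∨ ∃ g ∈ Subgroup.normalizer ((S : Subgroup G) : Set G), ∃ z ∈ Cfsg.omegaOne 2 ((S : Subgroup G) ⊓ Subgroup.centralizer ((S : Subgroup G) : Set G)), g * z * g⁻¹ ≠ z := by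
  classical
  by_contra hcon
  push Not at hcon
  obtain ⟨hres, hfr, hN⟩ := hcon
  have : Fact (Nat.Prime 2) := ⟨Nat.prime_two⟩
  -- a generator outside the Frattini subgroup
  have hex : ∃ z : G, (z ∈ (S : Subgroup G) ⊓ Subgroup.centralizer ((S : Subgroup G) : Set G) ∧ z ^ 2 = 1) ∧
      z ∉ (frattini ↥(S : Subgroup G)).map (S : Subgroup G).subtype := by
    by_contra hno
    push Not at hno
    apply hfr
    unfold Cfsg.omegaOne
    rw [Subgroup.closure_le]
    intro x hx
    exact hno x hx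
  obtain ⟨z, ⟨hz, hz2⟩, hzF⟩ := hex
  have hzS : z ∈ (S : Subgroup G) := hz.1
  have hzc : z ∈ Subgroup.centralizer ((S : Subgroup G) : Set G) := hz.2
  have hzF' : (⟨z, hzS⟩ : ↥(S : Subgroup G)) ∉ frattini ↥(S : Subgroup G) := by
    intro h
    apply hzF
    exact ⟨⟨z, hzS⟩, h, rfl⟩
  rw [Cfsg.Agent.Helper1.mem_frattini_iff] at hzF'
  push Not at hzF'
  obtain ⟨M, hMco, hzM⟩ := hzF'
  have hM : M.index = 2 := Cfsg.Agent.Helper1.IsPGroup.coatom_index S.2 hMco
  have hzΩ : z ∈ Cfsg.omegaOne 2 ((S : Subgroup G) ⊓ Subgroup.centralizer ((S : Subgroup G) : Set G)) :=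
    Subgroup.subset_closure ⟨hz, hz2⟩
  have htr := Cfsg.Agent.Helper14.transfer_central_involution S M hM z hzS hzc hz2 hzM
    (fun g hg => hN g hg z hzΩ)
  -- the residual lies in the kernel
  have hker : Cfsg.pResidual 2 G ≤ (MonoidHom.transfer (Cfsg.Agent.Helper16.indexTwoHom M hM)).ker := by
    unfold Cfsg.pResidual
    rw [Subgroup.closure_le]
    intro g hg
    rw [Set.mem_ofPred_eq] at hg
    rw [SetLike.mem_coe, MonoidHom.mem_ker]
    set u := MonoidHom.transfer (Cfsg.Agent.Helper16.indexTwoHom M hM) g with hu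
    have h1 : u ^ orderOf g = 1 := by
      rw [hu, ← map_pow, pow_orderOf_eq_one, map_one]
    have h2 : u ^ 2 = 1 := by
      rcases Int.units_eq_one_or u with h | h <;> rw [h] <;> decide
    have h3 : orderOf u ∣ Nat.gcd (orderOf g) 2 :=
      Nat.dvd_gcd (orderOf_dvd_of_pow_eq_one h1) (orderOf_dvd_of_pow_eq_one h2)
    rw [Nat.Coprime] at hg
    rw [hg, Nat.dvd_one, orderOf_eq_one_iff] at h3
    exact h3
  rw [hres] at hker
  have : z ∈ (MonoidHom.transfer (Cfsg.Agent.Helper16.indexTwoHom M hM)).ker := hker (Subgroup.mem_top z)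
  rw [MonoidHom.mem_ker, htr] at this
  exact absurd this (by decide)

end Cfsg.Agent.S2872
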