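import Cfsg.Statements.S2873
import Cfsg.Agent.Helper14.DihQuot3

set_option autoImplicit false
open Cfsg

namespace Cfsg.Agent.S2873

/-- Let G be a finite group and r an odd prime such that G ⧸ O₂(G) is dihedral of order 2r, and let R be a Sylow r-subgroup of G with C_{O₂(G)}(R) = 1. Then N_G(R) is dihedral of order 2r; for any involution a of N_G(R), every involution of G outside O₂(G) is conjugate to a; and |C_{O₂(G)}(a)|² = |O₂(G)|. -/
theorem result {G : Type*} [Group G] [Finite G] {r : ℕ} [Fact r.Prime] (hr : r ≠ 2) [hN : (Cfsg.pCore 2 G).Normal] (hquot : Nonempty (G ⧸ Cfsg.pCore 2 G ≃* DihedralGroup r)) (R : Sylow r G) (hC : Cfsg.pCore 2 G ⊓ Subgroup.centralizer ((R : Subgroup G) : Set G) = ⊥) : Nonempty (↥(Subgroup.normalizer ((R : Subgroup G) : Set G)) ≃* DihedralGroup r) ∧ ∀ a : G, a ∈ Subgroup.normalizer ((R : Subgroup G) : Set G) → orderOf a = 2 → (∀ b : G, orderOf b = 2 → b ∉ Cfsg.pCore 2 G → ∃ g : G, g * a * g⁻¹ = b) ∧ Nat.card ↥(Cfsg.pCore 2 G ⊓ Subgroup.centralizer ({a} : Set G))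 ^ 2 = Nat.card ↥(Cfsg.pCore 2 G) := by
  obtain ⟨e⟩ := hquot
  have D : Helper14.DihQuotData r (Cfsg.pCore 2 G) R :=
    { hr := hr
      normal := hN
      two := Helper14.pCore_isPGroup 2
      φ := e.toMonoidHom.comp (QuotientGroup.mk' (Cfsg.pCore 2 G))
      surj := e.surjective.comp (QuotientGroup.mk'_surjective _)
      ker := by
        ext x
        rw [MonoidHom.mem_ker, MonoidHom.comp_apply]
        constructor
        · intro h
          have h1 : QuotientGroup.mk' (Cfsg.pCore 2 G) x = 1 :=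
            e.injective (by rw [map_one]; exact h)
          exact (QuotientGroup.eq_one_iff x).1 h1
        · intro h
          have h1 : QuotientGroup.mk' (Cfsg.pCore 2 G) x = 1 := (QuotientGroup.eq_one_iff x).2 h
          rw [h1]; exact map_one _
      cent := hC }
  refine ⟨D.nonempty_equiv, fun a haN hord => ?_⟩
  have ha : a * a = 1 := by rw [← sq, ← hord, pow_orderOf_eq_one]
  have ha1 : a ≠ 1 := by
    rintro rfl
    rw [orderOf_one] at hord
    exact absurd hord (by decide)
  refine ⟨fun b hb hbQ => D.conj_involution a b haN ha ha1 ?_ hbQ, D.card_sq a haN ha ha1⟩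
  rw [← sq, ← hb, pow_orderOf_eq_one]

end Cfsg.Agent.S2873
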