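import Cfsg.Statements.S2898
import Cfsg.Agent.Helper15.Cores

set_option autoImplicit false
open Cfsg

namespace Cfsg.Agent.S2898

/-- Let G be a finite group of even order with parabolic characteristic 2. If the centre of G ⧸ O(G) is trivial, then O(G) = 1. -/
theorem result {G : Type*} [Group G] [Finite G] (h2 : 2 ∣ Nat.card G) (hG : Cfsg.IsOfParabolicCharacteristic 2 G) [hN : (Cfsg.oddCore G).Normal] (hZ : Subgroup.center (G ⧸ Cfsg.oddCore G) = ⊥) : Cfsg.oddCore G = ⊥ := by
  have : Fact (Nat.Prime 2) := ⟨Nat.prime_two⟩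
  have hRodd : (Nat.card (Cfsg.oddCore G)).Coprime 2 := Cfsg.Agent.Helper19.pPrimeCore_coprime 2
  -- a Sylow 2-subgroup and a central involution
  obtain ⟨S⟩ : Nonempty (Sylow 2 G) := inferInstance
  have hS2 : IsPGroup 2 S := S.isPGroup'
  have hcS : 2 ∣ Nat.card S := S.dvd_card_of_dvd_card h2
  have hSnt : Nontrivial S := by
    rw [← Finite.one_lt_card_iff_nontrivial]
    have := Nat.le_of_dvd Nat.card_pos hcS
    omega
  have hZnt : Nontrivial (Subgroup.center S) := hS2.center_nontrivial
  have hZ2 : 2 ∣ Nat.card (Subgroup.center S) := by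
    obtain ⟨n, hn⟩ := IsPGroup.iff_card.mp (hS2.to_subgroup (Subgroup.center S))
    have h1 : 1 < Nat.card (Subgroup.center S) := Finite.one_lt_card_iff_nontrivial.mpr hZnt
    rw [hn] at h1 ⊢
    cases n with
    | zero => simp at h1
    | succ n => exact dvd_pow_self 2 (Nat.succ_ne_zero n)
  obtain ⟨c, hc⟩ := exists_prime_orderOf_dvd_card' 2 hZ2
  set z : G := ((c : S) : G) with hzdef
  have hzord : orderOf z = 2 := by
    rw [hzdef, Subgroup.orderOf_coe, Subgroup.orderOf_coe]; exact hc
  have hzz : z * z = 1 := by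
    have := pow_orderOf_eq_one z
    rw [hzord, pow_two] at this
    exact this
  have hz1 : z ≠ 1 := by
    intro h
    rw [h, orderOf_one] at hzord
    omega
  have hzS : ∀ s ∈ (S : Subgroup G), s * z = z * s := by
    intro s hs
    have := Subgroup.mem_center_iff.mp c.2 ⟨s, hs⟩
    exact congrArg Subtype.val this
  -- Step (a): C_R(z) = 1
  have hfix : ∀ r ∈ Cfsg.oddCore G, z * r = r * z → r = 1 := by
    set Z : Subgroup G := Subgroup.zpowers z with hZdef
    have hZp : IsPGroup 2 Z := by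
      apply IsPGroup.of_card (n := 1)
      rw [hZdef, Nat.card_zpowers, hzord, pow_one]
    have hZ1 : Z ≠ ⊥ := Subgroup.zpowers_ne_bot.mpr hz1
    have hcz : Subgroup.centralizer (Z : Set G) = Subgroup.centralizer {z} := by
      rw [hZdef, Subgroup.zpowers_eq_closure, Subgroup.centralizer_closure]
    have hSN : (S : Subgroup G) ≤ Subgroup.normalizer (Z : Set G) := by
      refine le_trans ?_ (Subgroup.centralizer_le_normalizer _)
      rw [hcz]
      intro s hs
      rw [Subgroup.mem_centralizer_singleton_iff]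
      exact hzS s hs
    set K : Subgroup G := Cfsg.oddCore G ⊓ Subgroup.centralizer (Z : Set G) with hKdef
    have hKN : K ≤ Subgroup.normalizer (Z : Set G) :=
      inf_le_right.trans (Subgroup.centralizer_le_normalizer _)
    have hNK : Subgroup.normalizer (Z : Set G) ≤ Subgroup.normalizer (K : Set G) := by
      have h1 : Subgroup.normalizer (Z : Set G) ≤
          Subgroup.normalizer ((Subgroup.centralizer (Z : Set G) : Subgroup G) : Set G) :=
        (Subgroup.normal_subgroupOf_iff_le_normalizer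
          (Subgroup.centralizer_le_normalizer _)).mp inferInstance
      intro n hn
      have hn1 := h1 hn
      rw [Subgroup.mem_normalizer_iff] at hn1 ⊢
      intro h
      rw [hKdef, Subgroup.mem_inf, Subgroup.mem_inf]
      constructor
      · rintro ⟨ha, hb⟩
        exact ⟨hN.conj_mem h ha n, (hn1 h).mp hb⟩
      · rintro ⟨ha, hb⟩
        refine ⟨?_, (hn1 h).mpr hb⟩
        have := hN.conj_mem _ ha n⁻¹
        simpa [mul_assoc] using this
    have hKodd : (Nat.card K).Coprime 2 :=
      Nat.Coprime.coprime_dvd_left (Subgroup.card_dvd_of_le inf_le_left) hRodd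
    have hKbot := Cfsg.Agent.Helper15.eq_bot_of_parabolic 2 hG Z hZp hZ1 S hSN K hKN hNK hKodd
    intro r hr hrz
    have : r ∈ K := by
      rw [hKdef, Subgroup.mem_inf, hcz, Subgroup.mem_centralizer_singleton_iff]
      exact ⟨hr, hrz.symm⟩
    rw [hKbot] at this
    exact Subgroup.mem_bot.mp this
  -- Step (b): z inverts R
  have hinv := Cfsg.Agent.Helper15.inverts_of_fixedPointFree (Cfsg.oddCore G) z hzz hfix
  have hzinv : z⁻¹ = z := inv_eq_of_mul_eq_one_left hzz
  -- Step (c): commutators [z,g] centralize R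
  set C : Subgroup G := Subgroup.centralizer (Cfsg.oddCore G : Set G) with hCdef
  have hcomm : ∀ g : G, z * g * z⁻¹ * g⁻¹ ∈ C := by
    intro g
    rw [hCdef, Subgroup.mem_centralizer_iff]
    intro r hr
    -- conjugating r by z g z⁻¹ g⁻¹ gives r
    have h1 : g⁻¹ * r * g ∈ Cfsg.oddCore G := by
      have := hN.conj_mem r hr g⁻¹
      simpa using this
    have h2 := hinv _ h1
    -- z g⁻¹ r g z⁻¹ = g⁻¹ r⁻¹ g
    have h3 : z * (g⁻¹ * r⁻¹ * g) * z⁻¹ = g⁻¹ * r * g := by
      have h1' : g⁻¹ * r⁻¹ * g ∈ Cfsg.oddCore G := by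
        have := hN.conj_mem r⁻¹ ((Cfsg.oddCore G).inv_mem hr) g⁻¹
        simpa using this
      have := hinv _ h1'
      rw [this]; group
    have h4 : z * r * z⁻¹ = r⁻¹ := hinv r hr
    -- (z g z⁻¹ g⁻¹) r (z g z⁻¹ g⁻¹)⁻¹ = z g z⁻¹ (g⁻¹ r g) z g⁻¹ z⁻¹
    have h5 : (z * g * z⁻¹ * g⁻¹) * r * (z * g * z⁻¹ * g⁻¹)⁻¹ = r := by
      have e : (z * g * z⁻¹ * g⁻¹) * r * (z * g * z⁻¹ * g⁻¹)⁻¹ =
          z * (g * (z⁻¹ * (g⁻¹ * r * g) * z) * g⁻¹) * z⁻¹ := by group
      rw [e]
      have e2 : z⁻¹ * (g⁻¹ * r * g) * z = (g⁻¹ * r * g)⁻¹ := by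
        have := h2
        rw [hzinv] at this ⊢
        exact this
      rw [e2]
      have e3 : g * (g⁻¹ * r * g)⁻¹ * g⁻¹ = r⁻¹ := by group
      rw [e3]
      have := hinv r⁻¹ ((Cfsg.oddCore G).inv_mem hr)
      rw [this, inv_inv]
    calc r * (z * g * z⁻¹ * g⁻¹) = ((z * g * z⁻¹ * g⁻¹) * r * (z * g * z⁻¹ * g⁻¹)⁻¹) * (z * g * z⁻¹ * g⁻¹) := by rw [h5]
      _ = (z * g * z⁻¹ * g⁻¹) * r := by group
  have hCn : C.Normal := by rw [hCdef]; infer_instance
  by_cases hCodd : (Nat.card C).Coprime 2
  · -- C ≤ R, so z is central mod R: contradiction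
    exfalso
    have hCR : C ≤ Cfsg.oddCore G := le_sSup ⟨hCn, hCodd⟩
    have hzc : (QuotientGroup.mk z : G ⧸ Cfsg.oddCore G) ∈ Subgroup.center (G ⧸ Cfsg.oddCore G) := by
      rw [Subgroup.mem_center_iff]
      intro q
      obtain ⟨g, rfl⟩ := QuotientGroup.mk_surjective q
      have h1 := hCR (hcomm g)
      rw [← QuotientGroup.eq_one_iff (N := Cfsg.oddCore G)] at h1
      have h2 : (QuotientGroup.mk z : G ⧸ Cfsg.oddCore G) * QuotientGroup.mk g *
          (QuotientGroup.mk z)⁻¹ * (QuotientGroup.mk g)⁻¹ = 1 := by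
        simpa using h1
      have h3 : (QuotientGroup.mk z : G ⧸ Cfsg.oddCore G) * QuotientGroup.mk g =
          QuotientGroup.mk g * QuotientGroup.mk z := by
        have := mul_inv_eq_one.mp h2
        exact mul_inv_eq_iff_eq_mul.mp this
      exact h3.symm
    rw [hZ, Subgroup.mem_bot, QuotientGroup.eq_one_iff] at hzc
    have hdvd : orderOf z ∣ Nat.card (Cfsg.oddCore G) := by
      have := Subgroup.orderOf_dvd_natCard (Cfsg.oddCore G) hzc
      exact this
    rw [hzord] at hdvd
    have := Nat.Coprime.eq_one_of_dvd hRodd.symm hdvd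
    omega
  · -- |C| even
    have hC2 : 2 ∣ Nat.card C := by
      by_contra h
      exact hCodd ((Nat.Prime.coprime_iff_not_dvd Nat.prime_two).mpr h).symm
    obtain ⟨c', hc'⟩ := exists_prime_orderOf_dvd_card' 2 hC2
    have hcp : IsPGroup 2 (Subgroup.zpowers (c' : G)) := by
      apply IsPGroup.of_card (n := 1)
      rw [Nat.card_zpowers, Subgroup.orderOf_coe, hc', pow_one]
    obtain ⟨S', hS'⟩ := hcp.exists_le_sylow
    set T : Subgroup G := (S' : Subgroup G) ⊓ C with hTdef
    have hTp : IsPGroup 2 T := S'.isPGroup'.to_le inf_le_left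
    have hc'T : (c' : G) ∈ T := by
      rw [hTdef, Subgroup.mem_inf]
      exact ⟨hS' (Subgroup.mem_zpowers _), c'.2⟩
    have hT1 : T ≠ ⊥ := by
      intro h
      rw [h, Subgroup.mem_bot] at hc'T
      have : orderOf (c' : G) = 2 := by rw [Subgroup.orderOf_coe]; exact hc'
      rw [hc'T, orderOf_one] at this
      omega
    have hS'N : (S' : Subgroup G) ≤ Subgroup.normalizer (T : Set G) := by
      intro s hs
      rw [Subgroup.mem_normalizer_iff]
      intro h
      rw [hTdef, Subgroup.mem_inf, Subgroup.mem_inf]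
      constructor
      · rintro ⟨ha, hb⟩
        exact ⟨(S' : Subgroup G).mul_mem ((S' : Subgroup G).mul_mem hs ha) ((S' : Subgroup G).inv_mem hs),
          hCn.conj_mem h hb s⟩
      · rintro ⟨ha, hb⟩
        constructor
        · have := (S' : Subgroup G).mul_mem ((S' : Subgroup G).mul_mem ((S' : Subgroup G).inv_mem hs) ha) hs
          simpa [mul_assoc] using this
        · have := hCn.conj_mem _ hb s⁻¹
          simpa [mul_assoc] using this
    have hRT : Cfsg.oddCore G ≤ Subgroup.normalizer (T : Set G) := by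
      refine le_trans ?_ (Subgroup.centralizer_le_normalizer _)
      intro r hr
      rw [Subgroup.mem_centralizer_iff]
      intro t ht
      have htC : t ∈ C := (inf_le_right : T ≤ C) ht
      rw [hCdef, Subgroup.mem_centralizer_iff] at htC
      exact (htC r hr).symm
    have hNR : Subgroup.normalizer (T : Set G) ≤ Subgroup.normalizer ((Cfsg.oddCore G : Subgroup G) : Set G) := by
      have htop : Subgroup.normalizer ((Cfsg.oddCore G : Subgroup G) : Set G) = ⊤ :=
        Subgroup.normalizer_eq_top _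
      rw [htop]
      exact le_top
    exact Cfsg.Agent.Helper15.eq_bot_of_parabolic 2 hG T hTp hT1 S' hS'N (Cfsg.oddCore G) hRT hNR hRodd

end Cfsg.Agent.S2898
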