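import Cfsg.Statements.S2906
import Cfsg.Agent.Helper15.PMinComp

set_option autoImplicit false
open Cfsg

namespace Cfsg.Agent.S2906

/-- Let P be a finite p-minimal group with O_p(P) = 1, S a Sylow p-subgroup of P and K a component of P. Then O^p(P) = F*(P) = E(P) is generated by the S-conjugates of K, and the subgroup K·N_S(K) is again p-minimal. -/
theorem result {P : Type*} [Group P] [Finite P] {p : ℕ} [Fact p.Prime] (hP : Cfsg.IsPMinimal p P) (hOp : Cfsg.pCore p P = ⊥) (S : Sylow p P) (K : Subgroup P) (hK : Cfsg.IsComponent K) : Cfsg.pResidual p P = Cfsg.generalizedFittingSubgroup P ∧ Cfsg.generalizedFittingSubgroup P = Cfsg.layer P ∧ Cfsg.layer P = ⨆ s : ↥(S : Subgroup P), K.map (MulAut.conj (s : P)).toMonoidHom ∧ Cfsg.IsPMinimal p ↥(K ⊔ ((S : Subgroup P) ⊓ Subgroup.normalizer (K : Set P))) := by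
  classical
  obtain ⟨hSn, M, ⟨hM, hSM⟩, _⟩ := hP S
  have hER := Cfsg.Agent.Helper15.PMinComp.layer_eq_pResidual hP hOp S M hM hSM K hK
  have hFR := Cfsg.Agent.Helper15.PMinComp.fitting_le_pResidual (P := P) (p := p) hOp
  have hFE : Cfsg.generalizedFittingSubgroup P = Cfsg.layer P := by
    unfold Cfsg.generalizedFittingSubgroup
    rw [sup_eq_left, hER]
    exact hFR
  refine ⟨?_, hFE, ?_, ?_⟩
  · rw [hFE, hER]
  · exact Cfsg.Agent.Helper15.PMinComp.layer_eq_iSup_conj hP hOp S M hM hSM K hK
  · set S0 := (S : Subgroup P) ⊓ Subgroup.normalizer (K : Set P) with hS0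
    set X := K ⊔ S0 with hX
    have hsyl : Cfsg.Agent.Helper14.IsSylowIn p S0 X :=
      Cfsg.Agent.Helper15.PMinComp.isSylowIn_normalizer S K hK
    have hKM := Cfsg.Agent.Helper15.PMinComp.comp_not_le hP hOp S M hM hSM K hK
    apply Cfsg.Agent.Helper14.isPMinimal_of_sylow hsyl.toSylow
    · intro hn
      have hn' : (S0.subgroupOf X).Normal := hn
      have h1 : X ≤ Subgroup.normalizer (S0 : Set P) :=
        (Subgroup.normal_subgroupOf_iff_le_normalizer le_sup_right).mp hn'
      exact Cfsg.Agent.Helper15.PMinComp.comp_not_le_normalizer hP hOp S M hM hSM K hK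
        (le_sup_left.trans h1)
    · show ∃! C : Subgroup ↥X, IsCoatom C ∧ S0.subgroupOf X ≤ C
      set C0 := M.subgroupOf X with hC0
      have hC0ne : C0 ≠ ⊤ := by
        intro h
        exact hKM (le_sup_left.trans (Subgroup.subgroupOf_eq_top.mp h))
      have hS0C0 : S0.subgroupOf X ≤ C0 := by
        intro x hx
        rw [hC0, Subgroup.mem_subgroupOf]
        rw [Subgroup.mem_subgroupOf] at hx
        exact hSM hx.1
      have key : ∀ C : Subgroup ↥X, S0.subgroupOf X ≤ C → C ≠ ⊤ → C ≤ C0 := by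
        intro C hSC hCne
        set Y := C.map X.subtype with hY
        have hYX : Y ≤ X := Cfsg.Agent.Helper14.map_subtype_le C
        have hCY : Y.subgroupOf X = C := Cfsg.Agent.Helper14.subgroupOf_map_subtype' C
        have hS0Y : S0 ≤ Y := by
          intro x hx
          have hxX : x ∈ X := (le_sup_right : S0 ≤ X) hx
          refine ⟨⟨x, hxX⟩, hSC ?_, rfl⟩
          rw [Subgroup.mem_subgroupOf]
          exact hx
        have hYne : Y ≠ X := by
          intro h
          apply hCne
          rw [← hCY, h]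
          exact Subgroup.subgroupOf_self X
        have hYM : Y ≤ M :=
          Cfsg.Agent.Helper15.PMinComp.le_of_proper hP hOp S M hM hSM K hK Y hYX hS0Y hYne
        intro x hx
        rw [hC0, Subgroup.mem_subgroupOf]
        exact hYM ⟨x, hx, rfl⟩
      obtain ⟨C1, hC1, hle⟩ := Cfsg.Agent.Helper14.exists_coatom_ge_of_ne_top hC0ne
      have hC1eq : C1 = C0 := le_antisymm (key C1 (hS0C0.trans hle) hC1.1) hle
      refine ⟨C0, ⟨hC1eq ▸ hC1, hS0C0⟩, ?_⟩
      rintro C' ⟨hC', hSC'⟩
      have h1 : C' ≤ C0 := key C' hSC' hC'.1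
      by_contra hne
      exact hC0ne (hC'.2 C0 (lt_of_le_of_ne h1 hne))

end Cfsg.Agent.S2906
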