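import Cfsg.Statements.S2907
import Mathlib

set_option autoImplicit false
open Cfsg
open scoped commutatorElement

namespace Cfsg.Agent.S2907

/-- Let X be a finite semi-extraspecial p-group and x an element of X outside the centre. Then the index of C_X(x) in X equals the order of Z(X), and the commutators [x, y], y ∈ X, form exactly the centre Z(X). -/
theorem result {X : Type*} [Group X] [Finite X] {p : ℕ} [Fact p.Prime] (hX : Cfsg.IsSemiExtraspecial p X) (x : X) (hx : x ∉ Subgroup.center X) : (Subgroup.centralizer ({x} : Set X)).index = Nat.card ↥(Subgroup.center X) ∧ {z : X | ∃ y : X, z = x * y * x⁻¹ * y⁻¹} = (Subgroup.center X : Set X) := by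
  classical
  obtain ⟨⟨hp, hfr, hcomm⟩, hquot⟩ := hX
  set Z := Subgroup.center X with hZ
  have hcentral : ∀ y : X, x * y * x⁻¹ * y⁻¹ ∈ Z := by
    intro y
    rw [← hcomm]
    have : ⁅x, y⁆ ∈ ⁅(⊤ : Subgroup X), (⊤ : Subgroup X)⁆ :=
      Subgroup.commutator_mem_commutator (Subgroup.mem_top x) (Subgroup.mem_top y)
    rw [commutatorElement_def] at this
    exact this
  -- the homomorphism y ↦ [x, y]
  let f : X →* X := MonoidHom.mk' (fun y => x * y * x⁻¹ * y⁻¹) (by
    intro a b
    have hb := Subgroup.mem_center_iff.mp (hcentral b)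
    have e : x * (a * b) * x⁻¹ * (a * b)⁻¹ = x * a * x⁻¹ * (x * b * x⁻¹ * b⁻¹) * a⁻¹ := by group
    rw [e, mul_assoc (x * a * x⁻¹), ← hb a⁻¹]
    group)
  have hf : ∀ y, f y = x * y * x⁻¹ * y⁻¹ := fun y => rfl
  have hker : f.ker = Subgroup.centralizer ({x} : Set X) := by
    ext y
    rw [MonoidHom.mem_ker, hf, Subgroup.mem_centralizer_singleton_iff]
    constructor
    · intro h
      have : x * y = y * x := by
        calc x * y = (x * y * x⁻¹ * y⁻¹) * (y * x) := by group
          _ = y * x := by rw [h, one_mul]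
      exact this.symm
    · intro h
      calc x * y * x⁻¹ * y⁻¹ = (y * x) * x⁻¹ * y⁻¹ := by rw [h]
        _ = 1 := by group
  have hrange_le : f.range ≤ Z := by
    rintro _ ⟨y, rfl⟩
    exact hcentral y
  -- the range is the whole centre
  have hrange : f.range = Z := by
    by_contra hne
    have hlt : f.range.subgroupOf Z ≠ ⊤ := by
      intro h
      apply hne
      apply le_antisymm hrange_le
      exact Subgroup.subgroupOf_eq_top.mp h
    obtain ⟨Y', hY'co, hY'le⟩ := (eq_top_or_exists_le_coatom (f.range.subgroupOf Z)).resolve_left hlt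
    set Y : Subgroup X := Y'.map Z.subtype with hY
    have hYZ : Y ≤ Z := by
      rintro _ ⟨z, _, rfl⟩; exact z.2
    have hYsub : Y.subgroupOf Z = Y' :=
      Subgroup.comap_map_eq_self_of_injective Z.subtype_injective Y'
    have hIY : f.range ≤ Y := by
      intro z hz
      have hzZ : z ∈ Z := hrange_le hz
      have : (⟨z, hzZ⟩ : ↥Z) ∈ f.range.subgroupOf Z := by
        rw [Subgroup.mem_subgroupOf]; exact hz
      exact ⟨⟨z, hzZ⟩, hY'le this, rfl⟩
    obtain ⟨hYn, ⟨-, hcard⟩⟩ := hquot Y hYZ (by rw [hYsub]; exact hY'co)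
    have := hYn
    have : Fact (Nat.card ↥(Subgroup.center (X ⧸ Y))).Prime := ⟨by rw [hcard]; exact Fact.out⟩
    -- image of Z in the quotient
    set ZI : Subgroup (X ⧸ Y) := Z.map (QuotientGroup.mk' Y) with hZI
    have hZIle : ZI ≤ Subgroup.center (X ⧸ Y) := by
      rintro _ ⟨z, hz, rfl⟩
      rw [Subgroup.mem_center_iff]
      intro g
      induction g using QuotientGroup.induction_on with
      | H g =>
        have := Subgroup.mem_center_iff.mp hz g
        show (QuotientGroup.mk g : X ⧸ Y) * QuotientGroup.mk z = QuotientGroup.mk z * QuotientGroup.mk g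
        rw [← QuotientGroup.mk_mul, ← QuotientGroup.mk_mul, this]
    have hZIne : ZI ≠ ⊥ := by
      intro h
      have hZY : Z ≤ Y := by
        intro z hz
        have : (QuotientGroup.mk' Y) z ∈ ZI := ⟨z, hz, rfl⟩
        rw [h, Subgroup.mem_bot] at this
        exact (QuotientGroup.eq_one_iff z).mp this
      have : Y.subgroupOf Z = ⊤ := Subgroup.subgroupOf_eq_top.mpr hZY
      rw [hYsub] at this
      exact hY'co.1 this
    have hZItop : ZI.subgroupOf (Subgroup.center (X ⧸ Y)) = ⊤ := by
      rcases Subgroup.eq_bot_or_eq_top_of_prime_card (ZI.subgroupOf (Subgroup.center (X ⧸ Y))) with h | h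
      · exfalso
        apply hZIne
        rw [Subgroup.subgroupOf_eq_bot] at h
        rw [eq_bot_iff]
        have := h.le_bot
        rwa [inf_eq_left.mpr hZIle] at this
      · exact h
    have hcenter_le : Subgroup.center (X ⧸ Y) ≤ ZI := Subgroup.subgroupOf_eq_top.mp hZItop
    -- x maps to a central element
    have hxc : (QuotientGroup.mk x : X ⧸ Y) ∈ Subgroup.center (X ⧸ Y) := by
      rw [Subgroup.mem_center_iff]
      intro g
      induction g using QuotientGroup.induction_on with
      | H g =>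
        have h1 : x * g * x⁻¹ * g⁻¹ ∈ Y := hIY ⟨g, rfl⟩
        show (QuotientGroup.mk g : X ⧸ Y) * QuotientGroup.mk x = QuotientGroup.mk x * QuotientGroup.mk g
        rw [← QuotientGroup.mk_mul, ← QuotientGroup.mk_mul, eq_comm, QuotientGroup.eq]
        have : (x * g)⁻¹ * (g * x) = g⁻¹ * (x⁻¹ * (x * g * x⁻¹ * g⁻¹)⁻¹ * x⁻¹⁻¹) * g⁻¹⁻¹ := by group
        rw [this]
        exact hYn.conj_mem _ (hYn.conj_mem _ (Y.inv_mem h1) x⁻¹) g⁻¹
    obtain ⟨z, hz, hzx⟩ := hcenter_le hxc
    have : z⁻¹ * x ∈ Y := by
      have h := hzx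
      simp only [QuotientGroup.mk'_apply] at h
      exact QuotientGroup.eq.mp h
    apply hx
    have : x = z * (z⁻¹ * x) := by group
    rw [this]
    exact Z.mul_mem hz (hYZ ‹z⁻¹ * x ∈ Y›)
  constructor
  · rw [← hker, Subgroup.index_ker, hrange]
  · ext z
    constructor
    · rintro ⟨y, rfl⟩; exact hcentral y
    · intro hz
      have : z ∈ f.range := by rw [hrange]; exact hz
      obtain ⟨y, rfl⟩ := this
      exact ⟨y, rfl⟩

end Cfsg.Agent.S2907
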