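import Cfsg.Statements.S2908
import Cfsg.Agent.Helper1.PGroup
import Cfsg.Agent.Lead.CoprimeFrattini
import Cfsg.Agent.Helper10.KMax

set_option autoImplicit false
open Cfsg
open scoped commutatorElement

namespace Cfsg.Agent.S2908

/-- Let P be a p-subgroup of a finite group, normalized by a p-subgroup A and by a subgroup B of order prime to p that commutes elementwise with A. If [P, B] ≤ [P, A], then B centralizes P. -/
theorem result {G : Type*} [Group G] [Finite G] {p : ℕ} [Fact p.Prime] (P A B : Subgroup G) (hP : IsPGroup p ↥P) (hA : IsPGroup p ↥A) (hB : ¬ p ∣ Nat.card ↥B) (hnA : A ≤ Subgroup.normalizer (P : Set G)) (hnB : B ≤ Subgroup.normalizer (P : Set G)) (hAB : ⁅A, B⁆ = ⊥) (hcomm : ⁅P, B⁆ ≤ ⁅P, A⁆) : ⁅P, B⁆ = ⊥ := by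
  have hp : p.Prime := Fact.out
  set K : Subgroup G := A ⊔ P with hK
  have hKp : IsPGroup p K := IsPGroup.to_sup_of_normal_right' hA hP hnA
  have hAB' : A ≤ Subgroup.centralizer (B : Set G) :=
    Subgroup.commutator_eq_bot_iff_le_centralizer.mp hAB
  have hBA : B ≤ Subgroup.centralizer (A : Set G) := Subgroup.le_centralizer_iff.mp hAB'
  have hBK : B ≤ Subgroup.normalizer (K : Set G) :=
    le_trans (le_inf (hBA.trans (Subgroup.centralizer_le_normalizer _)) hnB)
      (Subgroup.normalizer_inf_normalizer_le_normalizer_sup A P)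
  have hcop : (Nat.card B).Coprime (Nat.card (frattini K)) := by
    obtain ⟨k, hk⟩ := IsPGroup.iff_card.mp (hKp.to_subgroup (frattini K))
    rw [hk]
    exact Nat.Coprime.pow_right k ((Nat.Prime.coprime_iff_not_dvd hp).mpr hB).symm
  set Φ : Subgroup G := (frattini K).map K.subtype with hΦ
  have hKK : ⁅K, K⁆ ≤ Φ := by
    rw [← Subgroup.map_subtype_commutator, hΦ]
    exact Subgroup.map_mono (Cfsg.Agent.Helper1.IsPGroup.commutator_le_frattini hKp)
  have hΦn : ∀ g ∈ A ⊔ P, ∀ w ∈ Φ, g * w * g⁻¹ ∈ Φ := by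
    intro g hg w hw
    obtain ⟨w', hw', rfl⟩ := hw
    have hn : (frattini K).Normal := inferInstance
    exact ⟨⟨g, hg⟩ * w' * ⟨g, hg⟩⁻¹, hn.conj_mem w' hw' ⟨g, hg⟩, rfl⟩
  have hKB : ⁅K, B⁆ ≤ Φ := by
    apply Cfsg.Agent.Helper10.commutator_sup_le_of_conj_mem hΦn
    · rw [hAB]; exact bot_le
    · exact hcomm.trans ((Subgroup.commutator_mono le_sup_right le_sup_left).trans hKK)
  have htriv : ∀ b ∈ B, ∀ k ∈ K, b * k * b⁻¹ * k⁻¹ ∈ Φ := by
    intro b hb k hk
    have h1 : ⁅k, b⁆ ∈ Φ := hKB (Subgroup.commutator_mem_commutator hk hb)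
    have h2 : b * k * b⁻¹ * k⁻¹ = ⁅k, b⁆⁻¹ := by
      rw [commutatorElement_def]; group
    rw [h2]
    exact Φ.inv_mem h1
  have hcent := Cfsg.Agent.Lead.centralizes_of_trivial_on_frattini_quotient B K hBK hcop htriv
  have hBP : B ≤ Subgroup.centralizer (P : Set G) :=
    hcent.trans (Subgroup.centralizer_le (show (P : Set G) ⊆ K from (le_sup_right : P ≤ K)))
  rw [Subgroup.commutator_eq_bot_iff_le_centralizer]
  exact Subgroup.le_centralizer_iff.mp hBP

end Cfsg.Agent.S2908
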