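import Cfsg.Statements.S2910
import Cfsg.Agent.S0071
import Cfsg.Agent.Helper23.OmegaOne

set_option autoImplicit false
open Cfsg

namespace Cfsg.Agent.S2910

/-- Let p be an odd prime dividing the order of the finite group G and P a Sylow p-subgroup of G. If Ω₁(P) (generated by the elements of order dividing p) is contained in the centre of G, then G has a normal p-complement. In particular, if G is quasisimple then Ω₁(P) is not central in G. -/
theorem result {G : Type*} [Group G] [Finite G] {p : ℕ} [Fact p.Prime] (hp : p ≠ 2) (hdiv : p ∣ Nat.card G) (P : Sylow p G) (hZ : Cfsg.omegaOne p (P : Subgroup G) ≤ Subgroup.center G) : Cfsg.HasNormalPComplement p G ∧ ¬ Cfsg.IsQuasisimple G := by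
  have hfrob : ∃ N : Subgroup G, N.Normal ∧ N.IsComplement' (P : Subgroup G) := by
    rw [Cfsg.Agent.S0071.result P]
    intro Q hQ g hg hcop
    have hcard : (Nat.card (Subgroup.zpowers g)).Coprime p := by
      rw [Nat.card_zpowers]; exact hcop
    have h1 := Cfsg.Agent.Helper23.le_centralizer_of_centralizes_omega hp Q (Subgroup.zpowers g)
      (P.2.to_le hQ) (Subgroup.zpowers_le.2 hg) hcard (by
        intro x hx hox
        have hxo : x ∈ Cfsg.omegaOne p (P : Subgroup G) :=
          Subgroup.subset_closure ⟨hQ hx, by rw [← hox]; exact pow_orderOf_eq_one x⟩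
        have hxc := hZ hxo
        intro a _
        rw [Subgroup.mem_centralizer_iff]
        intro h hh
        rw [Set.mem_singleton_iff] at hh
        rw [hh]
        exact (Subgroup.mem_center_iff.1 hxc a).symm)
    exact h1 (Subgroup.mem_zpowers g)
  obtain ⟨N, hNn, hNc⟩ := hfrob
  refine ⟨⟨P, N, hNn, hNc⟩, ?_⟩
  rintro ⟨hperf, -⟩
  have hcardQ : Nat.card (G ⧸ N) = Nat.card (P : Subgroup G) := by
    rw [← Subgroup.index_eq_card]
    exact hNc.symm.index_eq_card
  have hPne : 1 < Nat.card (P : Subgroup G) := by
    have := P.card_eq_multiplicity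
    rw [this]
    apply Nat.one_lt_pow _ (Fact.out : p.Prime).one_lt
    have := (Nat.Prime.factorization_pos_of_dvd (Fact.out : p.Prime) Nat.card_pos.ne' hdiv)
    omega
  have hnt : Nontrivial (G ⧸ N) := by
    rw [← Finite.one_lt_card_iff_nontrivial, hcardQ]
    exact hPne
  have hpq : IsPGroup p (G ⧸ N) := by
    apply IsPGroup.of_card (n := (Nat.card G).factorization p)
    rw [hcardQ]
    exact P.card_eq_multiplicity
  have hnil : Group.IsNilpotent (G ⧸ N) := hpq.isNilpotent
  have hsolv : Group.IsSolvable (G ⧸ N) := inferInstance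
  have hlt := Group.IsSolvable.commutator_lt_top_of_nontrivial (G ⧸ N)
  have hperfQ : Group.IsPerfect (G ⧸ N) :=
    Group.IsPerfect.ofSurjective (f := QuotientGroup.mk' N) (QuotientGroup.mk'_surjective N)
  have := Group.isPerfect_def.1 hperfQ
  rw [this] at hlt
  exact lt_irrefl _ hlt

end Cfsg.Agent.S2910
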