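import Mathlib
import Cfsg.Statements.S2911
import Cfsg.Agent.Helper16.ThompsonTransfer3
import Cfsg.Agent.Helper16.KleinSylow
import Cfsg.Agent.Helper10.SylowSub

set_option autoImplicit false
open Cfsg

namespace Cfsg.Agent.S2911

/-- the model group `Z₂ × D₈` -/
abbrev Q := Multiplicative (ZMod 2) × DihedralGroup 4

def zQ : Q := (1, DihedralGroup.r 2)
def cQ : Q := (Multiplicative.ofAdd 1, 1)
def rQ : Q := (1, DihedralGroup.r 1)

def bet : Q → ZMod 2
  | (_, DihedralGroup.r j) => (j.val : ZMod 2)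
  | (_, DihedralGroup.sr j) => (j.val : ZMod 2)
def gam : Q → ZMod 2
  | (_, DihedralGroup.r _) => 0
  | (_, DihedralGroup.sr _) => 1
def alp : Q → ZMod 2 := fun q => Multiplicative.toAdd q.1
def lam6 : Q → ZMod 2 := fun q => alp q + bet q
def lam7 : Q → ZMod 2 := fun q => alp q + bet q + gam q

set_option maxRecDepth 100000 in
theorem sq_cases : ∀ q : Q, q * q = 1 ∨ q * q = zQ := by decide

theorem rQ_sq : rQ * rQ = zQ := by decide
theorem zQ_ne_one : zQ ≠ 1 := by decide
theorem cQ_ne_one : cQ ≠ 1 := by decide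
theorem cQ_ne_zQ : cQ ≠ zQ := by decide
theorem czQ_ne_one : cQ * zQ ≠ 1 := by decide
theorem czQ_ne_zQ : cQ * zQ ≠ zQ := by decide
theorem czQ_ne_cQ : cQ * zQ ≠ cQ := by decide
theorem zQ_sq : zQ * zQ = 1 := by decide
theorem cQ_sq : cQ * cQ = 1 := by decide
theorem czQ_sq : (cQ * zQ) * (cQ * zQ) = 1 := by decide

set_option maxRecDepth 100000 in
theorem zQ_central : ∀ p : Q, p * zQ = zQ * p := by decide
set_option maxRecDepth 100000 in
theorem cQ_central : ∀ p : Q, p * cQ = cQ * p := by decide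

set_option maxRecDepth 100000 in
theorem center_cases : ∀ q : Q, (∀ p : Q, p * q = q * p) →
    q = 1 ∨ q = zQ ∨ q = cQ ∨ q = cQ * zQ := by decide

set_option maxRecDepth 100000 in
theorem conj_type : ∀ u v : Q, u * u = 1 → v * v = 1 → gam u = 1 → gam v = 1 → alp u = alp v →
    bet u = bet v → ∃ q : Q, q * u * q⁻¹ = v := by decide

set_option maxRecDepth 100000 in
theorem bet_mul : ∀ a b : Q, bet (a * b) = bet a + bet b := by decide
set_option maxRecDepth 100000 in
theorem lam6_mul : ∀ a b : Q, lam6 (a * b) = lam6 a + lam6 b := by decide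
set_option maxRecDepth 100000 in
theorem lam7_mul : ∀ a b : Q, lam7 (a * b) = lam7 a + lam7 b := by decide

set_option maxRecDepth 100000 in
theorem gam_of_invol_bet : ∀ q : Q, q * q = 1 → bet q = 1 → gam q = 1 := by decide
set_option maxRecDepth 100000 in
theorem gam_of_invol_noncentral : ∀ q : Q, q * q = 1 →
    q = 1 ∨ q = zQ ∨ q = cQ ∨ q = cQ * zQ ∨ gam q = 1 := by decide
set_option maxRecDepth 100000 in
theorem sq_of_bet : ∀ q : Q, bet q = 0 → q * q = 1 := by decide

set_option maxRecDepth 100000 in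
theorem lam6_rel : ∀ u v : Q, lam6 u = 0 → lam6 v = 0 → gam u = 1 → gam v = 1 → alp u = alp v →
    bet u = bet v := by decide
set_option maxRecDepth 100000 in
theorem lam7_rel : ∀ u v : Q, lam7 u = 0 → lam7 v = 0 → gam u = 1 → gam v = 1 → alp u = alp v →
    bet u = bet v := by decide
set_option maxRecDepth 100000 in
theorem czQ_central : ∀ p : Q, p * (cQ * zQ) = (cQ * zQ) * p := by decide

theorem bet_one : bet 1 = 0 := by decide

theorem zmod2_cases : ∀ t : ZMod 2, t = 0 ∨ t = 1 := by decide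

/-- the kernel of an additive function `Q → ZMod 2` -/
def kerSub (f : Q → ZMod 2) (hmul : ∀ a b, f (a * b) = f a + f b) : Subgroup Q where
  carrier := {q | f q = 0}
  one_mem' := by
    have h := hmul 1 1
    rw [mul_one] at h
    show f 1 = 0
    rcases zmod2_cases (f 1) with h0 | h0
    · exact h0
    · rw [h0] at h; exact absurd h (by decide)
  mul_mem' := by
    intro a b ha hb
    show f (a * b) = 0
    rw [hmul, ha, hb]; rfl
  inv_mem' := by
    intro a ha
    show f a⁻¹ = 0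
    have h1 : f 1 = 0 := by
      have h := hmul 1 1
      rw [mul_one] at h
      rcases zmod2_cases (f 1) with h0 | h0
      · exact h0
      · rw [h0] at h; exact absurd h (by decide)
    have h := hmul a a⁻¹
    rw [mul_inv_cancel, h1, ha, zero_add] at h
    exact h.symm

theorem mem_kerSub (f : Q → ZMod 2) (hmul : ∀ a b, f (a * b) = f a + f b) (q : Q) :
    q ∈ kerSub f hmul ↔ f q = 0 := Iff.rfl

theorem kerSub_index (f : Q → ZMod 2) (hmul : ∀ a b, f (a * b) = f a + f b) (a₀ : Q)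
    (h : f a₀ = 1) : (kerSub f hmul).index = 2 := by
  rw [Subgroup.index_eq_two_iff]
  refine ⟨a₀, fun b => ?_⟩
  rw [mem_kerSub, mem_kerSub, hmul, h]
  rcases zmod2_cases (f b) with h0 | h0
  · rw [h0]; right; exact ⟨rfl, by decide⟩
  · rw [h0]; left; exact ⟨by decide, by decide⟩

section Main
variable {G : Type*} [Group G] [Finite G] (S : Sylow 2 G) (φ : ↥(S : Subgroup G) ≃* Q)

/-- the embedding of the model group -/
def iota : Q →* G := (S : Subgroup G).subtype.comp φ.symm.toMonoidHom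

omit [Finite G] in
theorem iota_mem (q : Q) : iota S φ q ∈ (S : Subgroup G) := (φ.symm q).2

omit [Finite G] in
theorem iota_surj (s : G) (hs : s ∈ (S : Subgroup G)) : ∃ q, iota S φ q = s :=
  ⟨φ ⟨s, hs⟩, by simp [iota]⟩

omit [Finite G] in
theorem iota_inj : Function.Injective (iota S φ) :=
  Subtype.val_injective.comp φ.symm.injective

omit [Finite G] in
theorem phi_iota (q : Q) (h : iota S φ q ∈ (S : Subgroup G)) : φ ⟨iota S φ q, h⟩ = q := by
  have : (⟨iota S φ q, h⟩ : ↥(S : Subgroup G)) = φ.symm q := Subtype.ext rfl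
  rw [this, φ.apply_symm_apply]

omit [Finite G] in
/-- conjugation by a normalizing element, in coordinates -/
theorem conj_coord (n : G) (hn : n ∈ Subgroup.normalizer ((S : Subgroup G) : Set G)) (q : Q) :
    ∃ q' : Q, n * iota S φ q * n⁻¹ = iota S φ q' := by
  have h1 : n * iota S φ q * n⁻¹ ∈ (S : Subgroup G) :=
    (Subgroup.mem_normalizer_iff.1 hn _).1 (iota_mem S φ q)
  obtain ⟨q', hq'⟩ := iota_surj S φ _ h1
  exact ⟨q', hq'.symm⟩

omit [Finite G] in
theorem normalizer_fixes_z (n : G) (hn : n ∈ Subgroup.normalizer ((S : Subgroup G) : Set G)) :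
    n * iota S φ zQ * n⁻¹ = iota S φ zQ := by
  obtain ⟨q, hq⟩ := conj_coord S φ n hn rQ
  have h1 : n * iota S φ zQ * n⁻¹ = iota S φ (q * q) := by
    rw [map_mul, ← hq, ← rQ_sq, map_mul]; group
  rcases sq_cases q with h | h
  · exfalso
    rw [h, map_one] at h1
    have h2 : iota S φ zQ = 1 := by
      have : iota S φ zQ = n⁻¹ * (n * iota S φ zQ * n⁻¹) * n := by group
      rw [this, h1]; group
    rw [← map_one (iota S φ)] at h2
    exact zQ_ne_one (iota_inj S φ h2)
  · rw [h1, h]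

theorem normalizer_fixes_c (n : G) (hn : n ∈ Subgroup.normalizer ((S : Subgroup G) : Set G)) :
    n * iota S φ cQ * n⁻¹ = iota S φ cQ := by
  classical
  -- general: image of `cQ` is central, not `1`, not `z`
  have key : ∀ m : G, m ∈ Subgroup.normalizer ((S : Subgroup G) : Set G) →
      m * iota S φ cQ * m⁻¹ = iota S φ cQ ∨ m * iota S φ cQ * m⁻¹ = iota S φ (cQ * zQ) := by
    intro m hm
    obtain ⟨q, hq⟩ := conj_coord S φ m hm cQ
    have hcen : ∀ p : Q, p * q = q * p := by
      intro p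
      apply iota_inj S φ
      rw [map_mul, map_mul, ← hq]
      -- m⁻¹ (ι p) m ∈ S
      have hminv : m⁻¹ ∈ Subgroup.normalizer ((S : Subgroup G) : Set G) := inv_mem hm
      obtain ⟨p', hp'⟩ := conj_coord S φ m⁻¹ hminv p
      rw [inv_inv] at hp'
      have hcomm : iota S φ p' * iota S φ cQ = iota S φ cQ * iota S φ p' := by
        rw [← map_mul, ← map_mul, cQ_central]
      calc iota S φ p * (m * iota S φ cQ * m⁻¹)
          = m * ((m⁻¹ * iota S φ p * m) * iota S φ cQ) * m⁻¹ := by group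
        _ = m * (iota S φ cQ * (m⁻¹ * iota S φ p * m)) * m⁻¹ := by rw [hp', hcomm]
        _ = m * iota S φ cQ * m⁻¹ * iota S φ p := by group
    rcases center_cases q hcen with h | h | h | h
    · exfalso
      rw [h, map_one] at hq
      have h2 : iota S φ cQ = 1 := by
        have : iota S φ cQ = m⁻¹ * (m * iota S φ cQ * m⁻¹) * m := by group
        rw [this, hq]; group
      rw [← map_one (iota S φ)] at h2
      exact cQ_ne_one (iota_inj S φ h2)
    · exfalso
      rw [h, ← normalizer_fixes_z S φ m hm] at hq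
      have h2 : iota S φ cQ = iota S φ zQ := by
        have : iota S φ cQ = m⁻¹ * (m * iota S φ cQ * m⁻¹) * m := by group
        rw [this, hq]; group
      exact cQ_ne_zQ (iota_inj S φ h2)
    · left; rw [hq, h]
    · right; rw [hq, h]
  rcases key n hn with h | h
  · exact h
  · exfalso
    -- n swaps c and cz
    have h2 : n * iota S φ (cQ * zQ) * n⁻¹ = iota S φ cQ := by
      have e : n * iota S φ (cQ * zQ) * n⁻¹ =
          (n * iota S φ cQ * n⁻¹) * (n * iota S φ zQ * n⁻¹) := by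
        rw [map_mul]; group
      rw [e, h, normalizer_fixes_z S φ n hn, ← map_mul]
      congr 1
    obtain ⟨k, m, hm, hkm⟩ := Nat.exists_eq_two_pow_mul_odd (orderOf_pos n).ne'
    obtain ⟨t, rfl⟩ := hm
    have hmem : n ^ (2 * t + 1) ∈ (S : Subgroup G) :=
      Cfsg.Agent.Helper16.two_elt_normalizer_mem S _ (pow_mem hn _) k
        (by rw [← pow_mul, mul_comm, ← hkm, pow_orderOf_eq_one])
    have h3 := Cfsg.Agent.Helper16.conj_odd_pow_of_swap h h2 t
    obtain ⟨p, hp⟩ := iota_surj S φ _ hmem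
    rw [← hp] at h3
    have h4 : iota S φ p * iota S φ cQ * (iota S φ p)⁻¹ = iota S φ cQ := by
      have hcomm : iota S φ p * iota S φ cQ = iota S φ cQ * iota S φ p := by
        rw [← map_mul, ← map_mul, cQ_central]
      rw [hcomm]; group
    rw [h4] at h3
    exact czQ_ne_cQ (iota_inj S φ h3.symm)

open Pointwise in
/-- Burnside's fusion lemma for central elements of the Sylow subgroup fixed by its normalizer -/
theorem burnside_central (x y : G) (hxc : ∀ s ∈ (S : Subgroup G), s * x = x * s)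
    (hyc : ∀ s ∈ (S : Subgroup G), s * y = y * s)
    (hfix : ∀ n ∈ Subgroup.normalizer ((S : Subgroup G) : Set G), n * x * n⁻¹ = x) (g : G)
    (hg : g * x * g⁻¹ = y) : x = y := by
  have hSC : (S : Subgroup G) ≤ Subgroup.centralizer ({y} : Set G) := by
    intro s hs
    rw [Subgroup.mem_centralizer_singleton_iff]
    exact hyc s hs
  have hTC : ((g • S : Sylow 2 G) : Subgroup G) ≤ Subgroup.centralizer ({y} : Set G) := by
    intro t ht
    rw [Sylow.coe_subgroup_smul, Subgroup.mem_pointwise_smul_iff_inv_smul_mem] at ht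
    simp only [MulAut.smul_def, MulAut.inv_apply, MulAut.conj_symm_apply] at ht
    rw [Subgroup.mem_centralizer_singleton_iff, ← hg]
    have h1 := hxc _ ht
    calc t * (g * x * g⁻¹) = g * ((g⁻¹ * t * g) * x) * g⁻¹ := by group
      _ = g * (x * (g⁻¹ * t * g)) * g⁻¹ := by rw [h1]
      _ = g * x * g⁻¹ * t := by group
  obtain ⟨c, hc, hcS⟩ := Cfsg.Agent.Helper10.exists_conj_eq_sylow_of_le S (g • S) _ hSC hTC
  have hn : c * g ∈ Subgroup.normalizer ((S : Subgroup G) : Set G) := by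
    apply Cfsg.Agent.Helper10.mem_normalizer_of_map_conj_eq
    show MulAut.conj (c * g) • (S : Subgroup G) = S
    rw [map_mul, mul_smul]
    rw [Sylow.coe_subgroup_smul] at hcS
    exact hcS
  have h1 := hfix _ hn
  rw [Subgroup.mem_centralizer_singleton_iff] at hc
  have h2 : c * g * x * (c * g)⁻¹ = y := by
    calc c * g * x * (c * g)⁻¹ = c * (g * x * g⁻¹) * c⁻¹ := by group
      _ = c * y * c⁻¹ := by rw [hg]
      _ = y * c * c⁻¹ := by rw [hc]
      _ = y := by group
  rw [← h1, h2]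

omit [Finite G] in
theorem orderOf_iota_invol (q : Q) (hq : q * q = 1) (hq1 : q ≠ 1) : orderOf (iota S φ q) = 2 := by
  apply orderOf_eq_prime
  · rw [pow_two, ← map_mul, hq, map_one]
  · intro h
    rw [← map_one (iota S φ)] at h
    exact hq1 (iota_inj S φ h)

omit [Finite G] in
theorem iota_phi (y : ↥(S : Subgroup G)) : iota S φ (φ y) = (y : G) := by
  simp [iota]

/-- Thompson transfer for the kernel of an additive function on the model group -/
theorem thompson_app (hno : ∀ H : Subgroup G, H.index ≠ 2) (lam : Q → ZMod 2)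
    (hmul : ∀ a b, lam (a * b) = lam a + lam b) (a₀ : Q) (ha₀ : lam a₀ = 1)
    (q₀ : Q) (hq₀ : q₀ * q₀ = 1) (hq₀1 : q₀ ≠ 1) :
    ∃ (g : G) (q₁ : Q), g * iota S φ q₀ * g⁻¹ = iota S φ q₁ ∧ lam q₁ = 0 := by
  have : Fact (Nat.Prime 2) := ⟨Nat.prime_two⟩
  have hSodd : Odd (S : Subgroup G).index := by
    rw [← Nat.not_even_iff_odd, even_iff_two_dvd]
    exact S.not_dvd_index
  have hidx : ((kerSub lam hmul).comap φ.toMonoidHom).index = 2 := by
    rw [Subgroup.index_comap_of_surjective _ φ.surjective]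
    exact kerSub_index lam hmul a₀ ha₀
  obtain ⟨g, h, hmem⟩ := Cfsg.Agent.Helper16.thompson_transfer_general hno (S : Subgroup G) hSodd
    _ hidx (iota S φ q₀) 1 le_rfl (by rw [orderOf_iota_invol S φ q₀ hq₀ hq₀1, pow_one]) (by
      intro y hy
      have hy1 : (y : G) ≠ 1 := by
        intro h1
        apply hy
        have : y = 1 := Subtype.ext h1
        rw [this]; exact Subgroup.one_mem _
      have h1 : orderOf (y : G) ≠ 1 := fun h => hy1 (orderOf_eq_one_iff.1 h)
      have h2 := orderOf_pos (y : G)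
      simp only [Nat.sub_self, pow_zero]
      omega)
  refine ⟨g, φ ⟨g * iota S φ q₀ * g⁻¹, h⟩, ?_, ?_⟩
  · rw [iota_phi]
  · exact hmem

/-- the key fusion statement: conjugates of `z` in `S` lie in `E₁ = ker bet` -/
theorem z_fusion (hno : ∀ H : Subgroup G, H.index ≠ 2) (g : G) (q : Q)
    (hgq : g * iota S φ zQ * g⁻¹ = iota S φ q) : bet q = 0 := by
  classical
  -- centrality
  have hcen : ∀ q₀ : Q, (∀ p : Q, p * q₀ = q₀ * p) →
      ∀ s ∈ (S : Subgroup G), s * iota S φ q₀ = iota S φ q₀ * s := by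
    intro q₀ hq₀ s hs
    obtain ⟨p, rfl⟩ := iota_surj S φ s hs
    rw [← map_mul, ← map_mul, hq₀]
  have hfz := normalizer_fixes_z S φ
  have hfc := normalizer_fixes_c S φ
  have hfcz : ∀ n ∈ Subgroup.normalizer ((S : Subgroup G) : Set G),
      n * iota S φ (cQ * zQ) * n⁻¹ = iota S φ (cQ * zQ) := by
    intro n hn
    have e : n * iota S φ (cQ * zQ) * n⁻¹ =
        (n * iota S φ cQ * n⁻¹) * (n * iota S φ zQ * n⁻¹) := by
      rw [map_mul]; group
    rw [e, hfc n hn, hfz n hn, ← map_mul]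
  -- non-fusion of the central involutions
  have hcz : ∀ g' : G, g' * iota S φ cQ * g'⁻¹ ≠ iota S φ zQ := by
    intro g' h
    exact cQ_ne_zQ (iota_inj S φ (burnside_central S _ _ (hcen cQ cQ_central)
      (hcen zQ zQ_central) hfc g' h))
  have hczz : ∀ g' : G, g' * iota S φ (cQ * zQ) * g'⁻¹ ≠ iota S φ zQ := by
    intro g' h
    exact czQ_ne_zQ (iota_inj S φ (burnside_central S _ _ (hcen _ czQ_central)
      (hcen zQ zQ_central) hfcz g' h))
  have hccz : ∀ g' : G, g' * iota S φ cQ * g'⁻¹ ≠ iota S φ (cQ * zQ) := by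
    intro g' h
    exact czQ_ne_cQ (iota_inj S φ (burnside_central S _ _ (hcen cQ cQ_central)
      (hcen _ czQ_central) hfc g' h)).symm
  by_contra hb
  have hb1 : bet q = 1 := (zmod2_cases (bet q)).resolve_left hb
  have hqq : q * q = 1 := by
    apply iota_inj S φ
    rw [map_mul, ← hgq, map_one]
    have : iota S φ zQ * iota S φ zQ = 1 := by rw [← map_mul, zQ_sq, map_one]
    calc g * iota S φ zQ * g⁻¹ * (g * iota S φ zQ * g⁻¹)
        = g * (iota S φ zQ * iota S φ zQ) * g⁻¹ := by group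
      _ = 1 := by rw [this]; group
  have hgamq := gam_of_invol_bet q hqq hb1
  -- choose the additive function
  obtain ⟨lam, hmul, hlc, hlcz, hrel, hlq⟩ : ∃ lam : Q → ZMod 2,
      (∀ a b, lam (a * b) = lam a + lam b) ∧ lam cQ = 1 ∧ lam (cQ * zQ) = 1 ∧
      (∀ u v : Q, lam u = 0 → lam v = 0 → gam u = 1 → gam v = 1 → alp u = alp v →
        bet u = bet v) ∧ lam q = 0 := by
    rcases zmod2_cases (alp q) with ha | ha
    · refine ⟨lam7, lam7_mul, by decide, by decide, lam7_rel, ?_⟩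
      show alp q + bet q + gam q = 0
      rw [ha, hb1, hgamq]; decide
    · refine ⟨lam6, lam6_mul, by decide, by decide, lam6_rel, ?_⟩
      show alp q + bet q = 0
      rw [ha, hb1]; decide
  obtain ⟨g₁, q₁, hg₁, hl₁⟩ := thompson_app S φ hno lam hmul cQ hlc cQ cQ_sq cQ_ne_one
  obtain ⟨g₂, q₂, hg₂, hl₂⟩ := thompson_app S φ hno lam hmul cQ hlc (cQ * zQ) czQ_sq czQ_ne_one
  -- q₁, q₂ are noncentral involutions
  have hsq : ∀ (g' : G) (q₀ q' : Q), q₀ * q₀ = 1 → g' * iota S φ q₀ * g'⁻¹ = iota S φ q' →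
      q' * q' = 1 := by
    intro g' q₀ q' h0 h
    apply iota_inj S φ
    rw [map_mul, ← h, map_one]
    have : iota S φ q₀ * iota S φ q₀ = 1 := by rw [← map_mul, h0, map_one]
    calc g' * iota S φ q₀ * g'⁻¹ * (g' * iota S φ q₀ * g'⁻¹)
        = g' * (iota S φ q₀ * iota S φ q₀) * g'⁻¹ := by group
      _ = 1 := by rw [this]; group
  have hne1 : ∀ (g' : G) (q₀ q' : Q), q₀ ≠ 1 → g' * iota S φ q₀ * g'⁻¹ = iota S φ q' →
      q' ≠ 1 := by
    intro g' q₀ q' h0 h h1
    rw [h1, map_one] at h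
    apply h0
    apply iota_inj S φ
    rw [map_one]
    have : iota S φ q₀ = g'⁻¹ * (g' * iota S φ q₀ * g'⁻¹) * g' := by group
    rw [this, h]; group
  have hq₁sq := hsq g₁ cQ q₁ cQ_sq hg₁
  have hq₂sq := hsq g₂ (cQ * zQ) q₂ czQ_sq hg₂
  have hgam₁ : gam q₁ = 1 := by
    rcases gam_of_invol_noncentral q₁ hq₁sq with h | h | h | h | h
    · exact absurd h (hne1 g₁ cQ q₁ cQ_ne_one hg₁)
    · rw [h] at hg₁; exact absurd hg₁ (hcz g₁)
    · rw [h, hlc] at hl₁; exact absurd hl₁ (by decide)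
    · rw [h, hlcz] at hl₁; exact absurd hl₁ (by decide)
    · exact h
  have hgam₂ : gam q₂ = 1 := by
    rcases gam_of_invol_noncentral q₂ hq₂sq with h | h | h | h | h
    · exact absurd h (hne1 g₂ (cQ * zQ) q₂ czQ_ne_one hg₂)
    · rw [h] at hg₂; exact absurd hg₂ (hczz g₂)
    · rw [h, hlc] at hl₂; exact absurd hl₂ (by decide)
    · rw [h, hlcz] at hl₂; exact absurd hl₂ (by decide)
    · exact h
  -- transport of conjugacy inside S
  have htrans : ∀ (u v : Q), u * u = 1 → v * v = 1 → gam u = 1 → gam v = 1 → lam u = 0 →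
      lam v = 0 → alp u = alp v → ∃ p : Q, iota S φ p * iota S φ u * (iota S φ p)⁻¹ = iota S φ v := by
    intro u v hu hv gu gv lu lv hauv
    obtain ⟨p, hp⟩ := conj_type u v hu hv gu gv hauv (hrel u v lu lv gu gv hauv)
    exact ⟨p, by rw [← map_inv, ← map_mul, ← map_mul, hp]⟩
  -- pigeonhole on alp
  have hpig : alp q₁ = alp q ∨ alp q₂ = alp q ∨ alp q₁ = alp q₂ := by
    rcases zmod2_cases (alp q₁) with h1 | h1 <;> rcases zmod2_cases (alp q₂) with h2 | h2 <;>
      rcases zmod2_cases (alp q) with h3 | h3 <;> rw [h1, h2, h3] <;> decide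
  rcases hpig with h | h | h
  · obtain ⟨p, hp⟩ := htrans q₁ q hq₁sq hqq hgam₁ hgamq hl₁ hlq h
    rw [← hg₁, ← hgq] at hp
    apply hcz (g⁻¹ * iota S φ p * g₁)
    calc g⁻¹ * iota S φ p * g₁ * iota S φ cQ * (g⁻¹ * iota S φ p * g₁)⁻¹
        = g⁻¹ * (iota S φ p * (g₁ * iota S φ cQ * g₁⁻¹) * (iota S φ p)⁻¹) * g := by group
      _ = g⁻¹ * (g * iota S φ zQ * g⁻¹) * g := by rw [hp]
      _ = iota S φ zQ := by group
  · obtain ⟨p, hp⟩ := htrans q₂ q hq₂sq hqq hgam₂ hgamq hl₂ hlq h
    rw [← hg₂, ← hgq] at hp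
    apply hczz (g⁻¹ * iota S φ p * g₂)
    calc g⁻¹ * iota S φ p * g₂ * iota S φ (cQ * zQ) * (g⁻¹ * iota S φ p * g₂)⁻¹
        = g⁻¹ * (iota S φ p * (g₂ * iota S φ (cQ * zQ) * g₂⁻¹) * (iota S φ p)⁻¹) * g := by
          group
      _ = g⁻¹ * (g * iota S φ zQ * g⁻¹) * g := by rw [hp]
      _ = iota S φ zQ := by group
  · obtain ⟨p, hp⟩ := htrans q₁ q₂ hq₁sq hq₂sq hgam₁ hgam₂ hl₁ hl₂ h
    rw [← hg₁, ← hg₂] at hp
    apply hccz (g₂⁻¹ * iota S φ p * g₁)
    calc g₂⁻¹ * iota S φ p * g₁ * iota S φ cQ * (g₂⁻¹ * iota S φ p * g₁)⁻¹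
        = g₂⁻¹ * (iota S φ p * (g₁ * iota S φ cQ * g₁⁻¹) * (iota S φ p)⁻¹) * g₂ := by group
      _ = g₂⁻¹ * (g₂ * iota S φ (cQ * zQ) * g₂⁻¹) * g₂ := by rw [hp]
      _ = iota S φ (cQ * zQ) := by group

end Main

theorem result {G : Type*} [Group G] [Finite G] (S : Sylow 2 G) (hS : Nonempty (↥(S : Subgroup G) ≃* Multiplicative (ZMod 2) × DihedralGroup 4)) : ∃ H : Subgroup G, H.index = 2 := by
  classical
  by_contra hcon
  have hno : ∀ H : Subgroup G, H.index ≠ 2 := fun H hH => hcon ⟨H, hH⟩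
  obtain ⟨φ⟩ := hS
  have : Fact (Nat.Prime 2) := ⟨Nat.prime_two⟩
  have hSodd : Odd (S : Subgroup G).index := by
    rw [← Nat.not_even_iff_odd, even_iff_two_dvd]
    exact S.not_dvd_index
  have hidx : ((kerSub bet bet_mul).comap φ.toMonoidHom).index = 2 := by
    rw [Subgroup.index_comap_of_surjective _ φ.surjective]
    exact kerSub_index bet bet_mul rQ (by decide)
  have hr2 : iota S φ rQ ^ 2 = iota S φ zQ := by rw [pow_two, ← map_mul, rQ_sq]
  have hz2 : iota S φ zQ ^ 2 = 1 := by rw [pow_two, ← map_mul, zQ_sq, map_one]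
  have hz1 : iota S φ zQ ≠ 1 := by
    intro h
    rw [← map_one (iota S φ)] at h
    exact zQ_ne_one (iota_inj S φ h)
  have hord : orderOf (iota S φ rQ) = 2 ^ 2 := by
    apply orderOf_eq_prime_pow
    · rw [pow_one, hr2]; exact hz1
    · rw [pow_succ, pow_one, pow_mul, hr2, hz2]
  have htr := Cfsg.Agent.Helper16.transfer_indexTwoHom_eq_neg_one_of_pow (S : Subgroup G) hSodd
    _ hidx (iota S φ rQ) 2 (by norm_num) hord (by
      rintro y ⟨g, hg⟩ hy
      have hy' : bet (φ y) = 0 := hy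
      have h1 := sq_of_bet _ hy'
      have h2 : (y : G) * (y : G) = 1 := by
        rw [← iota_phi S φ y, ← map_mul, h1, map_one]
      rw [hg] at h2
      have h3 : iota S φ rQ * iota S φ rQ = 1 := by
        have : iota S φ rQ * iota S φ rQ =
            g⁻¹ * (g * iota S φ rQ * g⁻¹ * (g * iota S φ rQ * g⁻¹)) * g := by group
        rw [this, h2]; group
      rw [← pow_two, hr2] at h3
      exact hz1 h3) (by
      rintro k hk y ⟨g, hg⟩
      show bet (φ y) = 0
      rcases Nat.lt_or_ge k 2 with hlt | hge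
      · have hk1 : k = 1 := by omega
        subst hk1
        rw [pow_one, hr2, ← iota_phi S φ y] at hg
        exact z_fusion S φ hno g (φ y) hg.symm
      · obtain ⟨t, rfl⟩ : ∃ t, k = 2 + t := ⟨k - 2, by omega⟩
        have h4 : iota S φ rQ ^ 2 ^ (2 + t) = 1 := by
          rw [pow_add, pow_mul, ← hord, pow_orderOf_eq_one, one_pow]
        rw [h4] at hg
        have hy1 : y = 1 := Subtype.ext (by rw [hg]; simp)
        rw [hy1, map_one]; exact bet_one)
  have h1 := Cfsg.Agent.Helper16.hom_units_int_trivial hno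
    (MonoidHom.transfer (Cfsg.Agent.Helper16.indexTwoHom _ hidx)) (iota S φ rQ)
  rw [htr] at h1
  exact absurd h1 (by decide)

end Cfsg.Agent.S2911
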