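import Mathlib
import Cfsg.Statements.S2912
import Cfsg.Agent.Helper3.ESMod5
import Cfsg.Agent.Helper1.PGroup
import Cfsg.Agent.Lead.CoprimeAbelian
import Cfsg.Agent.Lead.Coprime3

set_option autoImplicit false
set_option linter.style.haveILetI false
open Cfsg
open Cfsg.Agent.Helper3.ESMod
open scoped commutatorElement

namespace Cfsg.Agent.S2912

/-- Let p and r be distinct primes, let E be an extraspecial subgroup of order p^(2w+1) of a finite group, and let A be an elementary abelian r-subgroup normalized by E on which E acts faithfully (C_E(A) = 1). If n ≥ 1 is least with p dividing rⁿ − 1 (the smallest dimension of a faithful representation of a group of order p over the field with r elements), then the order of A is at least r^(n·p^w). -/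
theorem result {G : Type*} [Group G] [Finite G] {p r : ℕ} [Fact p.Prime] [hr : Fact r.Prime] (hpr : p ≠ r) (E A : Subgroup G) (w : ℕ) (hE : Cfsg.IsExtraspecial p ↥E) (hEcard : Nat.card ↥E = p ^ (2 * w + 1)) (hA : Cfsg.IsElementaryAbelian r A) (hnorm : E ≤ Subgroup.normalizer (A : Set G)) (hfaith : E ⊓ Subgroup.centralizer (A : Set G) = ⊥) (n : ℕ) (hn : 1 ≤ n) (hdiv : p ∣ r ^ n - 1) (hmin : ∀ k : ℕ, 1 ≤ k → p ∣ r ^ k - 1 → n ≤ k) : r ^ (n * p ^ w) ≤ Nat.card ↥A := by
  classical
  obtain ⟨⟨hPG, hfrat, hcomm⟩, hcen⟩ := hE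
  have hp : p.Prime := Fact.out
  obtain ⟨hAc, hAexp⟩ := hA
  -- a generator of the centre
  haveI hcyc : IsCyclic ↥(Subgroup.center ↥E) := isCyclic_of_prime_card hcen
  obtain ⟨zc, hzc⟩ := hcyc.exists_generator
  set zE : ↥E := (zc : ↥E) with hzE
  set z : G := (zE : G) with hz
  have hcenter : Subgroup.center ↥E = Subgroup.zpowers zE := by
    apply le_antisymm
    · intro t ht
      obtain ⟨k, hk⟩ := Subgroup.mem_zpowers_iff.mp (hzc ⟨t, ht⟩)
      refine Subgroup.mem_zpowers_iff.mpr ⟨k, ?_⟩
      have := congrArg (fun s : ↥(Subgroup.center ↥E) => (s : ↥E)) hk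
      simpa using this
    · rw [Subgroup.zpowers_le]; exact zc.2
  have hmapz : ∀ t : ↥E, t ∈ Subgroup.zpowers zE → (t : G) ∈ Subgroup.zpowers z := by
    intro t ht
    obtain ⟨k, rfl⟩ := Subgroup.mem_zpowers_iff.mp ht
    refine Subgroup.mem_zpowers_iff.mpr ⟨k, ?_⟩
    simp [hz]
  have hzord : orderOf z = p := by
    rw [hz, Subgroup.orderOf_coe, ← Nat.card_zpowers, ← hcenter, hcen]
  have hESC : ESC p E z := by
    refine ⟨zE.2, hzord, ?_, ?_, ?_, ?_⟩
    · intro e he
      have := Subgroup.mem_center_iff.mp zc.2 ⟨e, he⟩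
      have h2 := congrArg (fun s : ↥E => (s : G)) this
      simpa using h2
    · intro a ha b hb
      have h1 : ⁅(⟨a, ha⟩ : ↥E), ⟨b, hb⟩⁆ ∈ commutator ↥E := by
        rw [commutator_def]
        exact Subgroup.commutator_mem_commutator (Subgroup.mem_top _) (Subgroup.mem_top _)
      rw [hcomm, hcenter] at h1
      have := hmapz _ h1
      simpa [commutatorElement_def] using this
    · intro a ha
      have h1 : (⟨a, ha⟩ : ↥E) ^ p ∈ frattini ↥E :=
        Cfsg.Agent.Helper1.IsPGroup.pow_mem_frattini hPG _
      rw [hfrat, hcenter] at h1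
      have := hmapz _ h1
      simpa using this
    · intro a ha hall
      have h1 : (⟨a, ha⟩ : ↥E) ∈ Subgroup.center ↥E := by
        rw [Subgroup.mem_center_iff]
        intro g
        apply Subtype.ext
        have := hall g g.2
        simpa using this.symm
      rw [hcenter] at h1
      exact hmapz _ h1
  -- the module `A' = [A, ⟨z⟩]`
  set Z : Subgroup G := Subgroup.zpowers z with hZ
  have hZE : Z ≤ E := hESC.zpowers_le
  have hZN : Z ≤ Subgroup.normalizer (A : Set G) := hZE.trans hnorm
  set A' : Subgroup G := ⁅A, Z⁆ with hA'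
  have hA'A : A' ≤ A := Cfsg.Agent.Lead.commutator_le_of_le_normalizer hZN
  haveI : IsMulCommutative A := hAc
  have hcardZ : Nat.card Z = p := hESC.card_zpowers
  have hcop : (Nat.card Z).Coprime (Nat.card A) := by
    rw [hcardZ]
    obtain ⟨k, hk⟩ := (isPGroup_of_exp A hAexp).exists_card_eq
    rw [hk]
    apply Nat.Coprime.pow_right
    exact (Nat.coprime_primes hp hr.out).mpr hpr
  have hinf := Cfsg.Agent.Lead.coprime_abelian_inf Z A hZN hcop
  have hfpf : A' ⊓ Subgroup.centralizer {z} = ⊥ := by
    rw [eq_bot_iff, ← hinf]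
    rintro a ⟨haA', haC⟩
    refine ⟨⟨hA'A haA', ?_⟩, haA'⟩
    show a ∈ Subgroup.centralizer (Z : Set G)
    rw [Subgroup.mem_centralizer_iff]
    intro t ht
    have haz : a * z = z * a := Subgroup.mem_centralizer_singleton_iff.mp haC
    obtain ⟨k, rfl⟩ := Subgroup.mem_zpowers_iff.mp ht
    exact ((show Commute a z from haz).zpow_right k).eq.symm
  have hA'ne : A' ≠ ⊥ := by
    intro h
    rw [hA', Subgroup.commutator_eq_bot_iff_le_centralizer] at h
    have hzC : z ∈ E ⊓ Subgroup.centralizer (A : Set G) := by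
      refine ⟨hESC.zE, ?_⟩
      show z ∈ Subgroup.centralizer (A : Set G)
      rw [Subgroup.mem_centralizer_iff]
      intro a ha
      have := Subgroup.mem_centralizer_iff.mp (h ha) z (Subgroup.mem_zpowers z)
      exact this.symm
    rw [hfaith, Subgroup.mem_bot] at hzC
    have : orderOf z = 1 := by rw [hzC, orderOf_one]
    rw [hzord] at this
    exact hp.one_lt.ne' this
  have hnorm' : E ≤ Subgroup.normalizer (A' : Set G) := by
    intro e he
    have h1 : e ∈ Subgroup.normalizer (A : Set G) := hnorm he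
    have h2 : e ∈ Subgroup.normalizer (Z : Set G) := by
      rw [Subgroup.mem_normalizer_iff]
      intro t
      constructor
      · intro ht
        have := hESC.central ht he
        have e1 : e * t * e⁻¹ = t := by rw [this]; group
        rw [e1]; exact ht
      · intro ht
        have := hESC.central ht (E.inv_mem he)
        have e1 : t = e * t * e⁻¹ := by
          calc t = e⁻¹ * (e * t * e⁻¹) * e := by group
            _ = (e * t * e⁻¹) * e⁻¹ * e := by rw [this]
            _ = e * t * e⁻¹ := by group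
        rw [e1]; exact ht
    rw [Subgroup.mem_normalizer_iff_map_conj_eq, hA', Subgroup.map_commutator,
      Subgroup.mem_normalizer_iff_map_conj_eq.mp h1, Subgroup.mem_normalizer_iff_map_conj_eq.mp h2]
  have hmain := main_bound hpr n hdiv hn hmin w E A' z hESC (le_of_eq hEcard.symm)
    (fun a ha b hb => by
      have := mul_comm' (⟨a, hA'A ha⟩ : ↥A) ⟨b, hA'A hb⟩
      exact congrArg (fun s : ↥A => (s : G)) this)
    (fun a ha => hAexp a (hA'A ha)) hnorm' hfpf hA'ne
  exact hmain.trans (Subgroup.card_le_of_le hA'A)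

end Cfsg.Agent.S2912
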