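import Cfsg.Statements.S2922
import Cfsg.Agent.Helper10.CharP

set_option autoImplicit false
open Cfsg

namespace Cfsg.Agent.S2922

/-- Let p be a prime, X a finite group, B a p-subgroup of X and C a normal subgroup of B. If N_X(C) has characteristic p (its generalized Fitting subgroup is O_p(N_X(C))), then N_X(B) and C_X(B) have characteristic p. -/
theorem result {X : Type*} [Group X] [Finite X] {p : ℕ} [Fact p.Prime] (B C : Subgroup X) (hB : IsPGroup p ↥B) (hCB : C ≤ B) (hCn : (C.subgroupOf B).Normal) (hC : Cfsg.generalizedFittingSubgroup ↥(Subgroup.normalizer (C : Set X)) = Cfsg.pCore p ↥(Subgroup.normalizer (C : Set X))) : Cfsg.generalizedFittingSubgroup ↥(Subgroup.normalizer (B : Set X)) = Cfsg.pCore p ↥(Subgroup.normalizer (B : Set X)) ∧ Cfsg.generalizedFittingSubgroup ↥(Subgroup.centralizer (B : Set X)) = Cfsg.pCore p ↥(Subgroup.centralizer (B : Set X)) := by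
  have hBN : B ≤ Subgroup.normalizer (C : Set X) := by
    intro b hb
    have h1 : (⟨b, hb⟩ : ↥B) ∈ Subgroup.normalizer ((C.subgroupOf B : Subgroup ↥B) : Set ↥B) := by
      rw [Subgroup.normalizer_eq_top_iff.2 hCn]; exact Subgroup.mem_top _
    rw [Subgroup.mem_normalizer_iff] at h1 ⊢
    intro x
    constructor
    · intro hx
      have := (h1 ⟨x, hCB hx⟩).1 (by rw [Subgroup.mem_subgroupOf]; exact hx)
      rw [Subgroup.mem_subgroupOf] at this
      exact this
    · intro hx
      have hxB : x ∈ B := by
        have h2 : b * x * b⁻¹ ∈ B := hCB hx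
        have h3 : x = b⁻¹ * (b * x * b⁻¹) * b := by group
        rw [h3]
        exact B.mul_mem (B.mul_mem (B.inv_mem hb) h2) hb
      have := (h1 ⟨x, hxB⟩).2 (by rw [Subgroup.mem_subgroupOf]; exact hx)
      rw [Subgroup.mem_subgroupOf] at this
      exact this
  have hcent : Cfsg.generalizedFittingSubgroup ↥(Subgroup.centralizer (B : Set X)) =
      Cfsg.pCore p ↥(Subgroup.centralizer (B : Set X)) := by
    apply Cfsg.Agent.Helper10.charP_centralizer_step hB (M := Subgroup.normalizer (C : Set X))
    · exact hBN.trans Subgroup.le_normalizer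
    · exact (Subgroup.centralizer_le (by exact_mod_cast hCB)).trans
        (Subgroup.centralizer_le_normalizer _)
    · exact hC
  exact ⟨Cfsg.Agent.Helper10.charP_normalizer_of_centralizer hB hcent, hcent⟩

end Cfsg.Agent.S2922
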