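import Cfsg.Statements.S2925
import Mathlib
import Cfsg.Agent.Helper7.Layer
import Cfsg.Agent.Helper3.SylowSubnormal
import Cfsg.Agent.Helper19.Basic
import Cfsg.Agent.Helper1.SylowBasic

set_option autoImplicit false
open Cfsg

namespace Cfsg.Agent.S2925

/-- Let K be a component of the finite group X and T a Sylow 2-subgroup of X. If some abelian normal subgroup Y of T does not normalize K, then K ⧸ Z(K) has abelian Sylow 2-subgroups. -/
theorem result {X : Type*} [Group X] [Finite X] (K : Subgroup X) (hK : Cfsg.IsComponent K) (T : Sylow 2 X) (Y : Subgroup X) (hYT : Y ≤ (T : Subgroup X)) (hYn : (Y.subgroupOf (T : Subgroup X)).Normal) (hYab : IsMulCommutative ↥Y) (hnot : ¬ Y ≤ Subgroup.normalizer (K : Set X)) (P : Sylow 2 (↥K ⧸ Subgroup.center ↥K)) : IsMulCommutative ↥(P : Subgroup (↥K ⧸ Subgroup.center ↥K)) := by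
  classical
  have h2 : Fact (Nat.Prime 2) := ⟨Nat.prime_two⟩
  -- an element of Y not normalizing K
  obtain ⟨y, hyY, hyN⟩ : ∃ y ∈ Y, y ∉ Subgroup.normalizer (K : Set X) := by
    by_contra hcon
    push Not at hcon
    exact hnot hcon
  set K' : Subgroup X := K.map (MulAut.conj y).toMonoidHom with hK'
  have hK'ne : K ≠ K' := by
    intro h
    apply hyN
    rw [Cfsg.Agent.Helper19.mem_normalizer_iff_map_conj]
    exact h.symm
  have hK'c : Cfsg.IsComponent K' := Cfsg.Agent.Helper7.isComponent_map_conj hK y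
  have hcomm : ⁅K, K'⁆ = ⊥ := Cfsg.Agent.Helper7.components_commute hK hK'c hK'ne
  have hcomm' : ∀ a ∈ K, ∀ b ∈ K', a * b = b * a := by
    intro a ha b hb
    have := Subgroup.commutator_mem_commutator ha hb
    rw [hcomm, Subgroup.mem_bot, commutatorElement_def] at this
    have e : a * b = (a * b * a⁻¹ * b⁻¹) * (b * a) := by group
    rw [e, this, one_mul]
  set D : Subgroup X := (T : Subgroup X) ⊓ K with hD
  have hDcard : Nat.card D = 2 ^ (Nat.card K).factorization 2 :=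
    Cfsg.Agent.Helper3.card_sylow_inf_subnormal T K hK.1
  -- commutators of elements of D are central in K
  have hTn : ∀ s ∈ (T : Subgroup X), s * y * s⁻¹ ∈ Y := by
    intro s hs
    have := hYn.conj_mem ⟨y, hYT hyY⟩ (Subgroup.mem_subgroupOf.mpr hyY) ⟨s, hs⟩
    exact Subgroup.mem_subgroupOf.mp this
  have hYc : ∀ a ∈ Y, ∀ b ∈ Y, a * b = b * a := by
    intro a ha b hb
    exact congrArg Subtype.val (hYab.is_comm.comm ⟨a, ha⟩ ⟨b, hb⟩)
  have hcentral : ∀ s ∈ D, ∀ s' ∈ D, ∀ k ∈ K, (s⁻¹ * s'⁻¹ * s * s') * k = k * (s⁻¹ * s'⁻¹ * s * s') := by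
    intro s hs s' hs' k hk
    have ha : s * y * s⁻¹ * y⁻¹ ∈ Y := Y.mul_mem (hTn s hs.1) (Y.inv_mem hyY)
    have ha' : s' * y * s'⁻¹ * y⁻¹ ∈ Y := Y.mul_mem (hTn s' hs'.1) (Y.inv_mem hyY)
    have hc := hYc _ ha _ ha'
    -- t(s) = y s y⁻¹ ∈ K'
    have ht : y * s * y⁻¹ ∈ K' := Cfsg.Agent.Helper19.conj_mem_map_conj y hs.2
    have ht' : y * s' * y⁻¹ ∈ K' := Cfsg.Agent.Helper19.conj_mem_map_conj y hs'.2
    set t := y * s * y⁻¹ with htdef
    set t' := y * s' * y⁻¹ with ht'def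
    have e1 : s * y * s⁻¹ * y⁻¹ = s * t⁻¹ := by rw [htdef]; group
    have e2 : s' * y * s'⁻¹ * y⁻¹ = s' * t'⁻¹ := by rw [ht'def]; group
    rw [e1, e2] at hc
    -- hc : s * t⁻¹ * (s' * t'⁻¹) = s' * t'⁻¹ * (s * t⁻¹)
    have c1 : t⁻¹ * s' = s' * t⁻¹ := (hcomm' s' hs'.2 t⁻¹ (K'.inv_mem ht)).symm
    have c2 : t'⁻¹ * s = s * t'⁻¹ := (hcomm' s hs.2 t'⁻¹ (K'.inv_mem ht')).symm
    have hc2 : s * s' * (t⁻¹ * t'⁻¹) = s' * s * (t'⁻¹ * t⁻¹) := by
      calc s * s' * (t⁻¹ * t'⁻¹) = s * (s' * t⁻¹) * t'⁻¹ := by group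
        _ = s * (t⁻¹ * s') * t'⁻¹ := by rw [c1]
        _ = s * t⁻¹ * (s' * t'⁻¹) := by group
        _ = s' * t'⁻¹ * (s * t⁻¹) := hc
        _ = s' * (t'⁻¹ * s) * t⁻¹ := by group
        _ = s' * (s * t'⁻¹) * t⁻¹ := by rw [c2]
        _ = s' * s * (t'⁻¹ * t⁻¹) := by group
    have hz : (s' * s)⁻¹ * (s * s') = t'⁻¹ * t⁻¹ * (t⁻¹ * t'⁻¹)⁻¹ := by
      have : s * s' = s' * s * (t'⁻¹ * t⁻¹) * (t⁻¹ * t'⁻¹)⁻¹ := by
        rw [← hc2]; group
      rw [this]; group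
    have hzK' : (s' * s)⁻¹ * (s * s') ∈ K' := by
      rw [hz]
      exact K'.mul_mem (K'.mul_mem (K'.inv_mem ht') (K'.inv_mem ht))
        (K'.inv_mem (K'.mul_mem (K'.inv_mem ht) (K'.inv_mem ht')))
    have e3 : s⁻¹ * s'⁻¹ * s * s' = (s' * s)⁻¹ * (s * s') := by group
    rw [e3]
    exact (hcomm' k hk _ hzK').symm
  -- the Sylow subgroup of K
  set DK : Subgroup K := D.subgroupOf K with hDK
  have hDKcard : Nat.card DK = 2 ^ (Nat.card K).factorization 2 := by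
    rw [← hDcard]
    exact Nat.card_congr (Subgroup.subgroupOfEquivOfLe (inf_le_right : D ≤ K)).toEquiv
  let SK : Sylow 2 K := Sylow.ofCard DK hDKcard
  let Q : Sylow 2 (↥K ⧸ Subgroup.center ↥K) :=
    SK.mapSurjective (QuotientGroup.mk'_surjective (Subgroup.center ↥K))
  have hQc : ∀ a ∈ (Q : Subgroup (↥K ⧸ Subgroup.center ↥K)),
      ∀ b ∈ (Q : Subgroup (↥K ⧸ Subgroup.center ↥K)), a * b = b * a := by
    rintro _ ⟨a, ha, rfl⟩ _ ⟨b, hb, rfl⟩
    have haD : (a : X) ∈ D := Subgroup.mem_subgroupOf.mp ha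
    have hbD : (b : X) ∈ D := Subgroup.mem_subgroupOf.mp hb
    rw [← map_mul, ← map_mul]
    -- a * b = b * a * (a⁻¹ b⁻¹ a b)
    have hz : a⁻¹ * b⁻¹ * a * b ∈ Subgroup.center ↥K := by
      rw [Subgroup.mem_center_iff]
      intro k
      apply Subtype.ext
      push_cast
      exact (hcentral (a : X) haD (b : X) hbD (k : X) k.2).symm
    have e : a * b = b * a * (a⁻¹ * b⁻¹ * a * b) := by group
    rw [e, map_mul]
    have : (QuotientGroup.mk' (Subgroup.center ↥K)) (a⁻¹ * b⁻¹ * a * b) = 1 :=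
      (QuotientGroup.eq_one_iff _).mpr hz
    rw [this, mul_one]
  obtain ⟨g, hg⟩ := MulAction.exists_smul_eq (↥K ⧸ Subgroup.center ↥K) Q P
  subst hg
  refine ⟨⟨?_⟩⟩
  rintro ⟨a, ha⟩ ⟨b, hb⟩
  apply Subtype.ext
  have ha' := (Cfsg.Agent.Helper1.mem_sylow_smul_iff Q g a).mp ha
  have hb' := (Cfsg.Agent.Helper1.mem_sylow_smul_iff Q g b).mp hb
  have := hQc _ ha' _ hb'
  show a * b = b * a
  have e1 : a * b = g * ((g⁻¹ * a * g) * (g⁻¹ * b * g)) * g⁻¹ := by group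
  have e2 : b * a = g * ((g⁻¹ * b * g) * (g⁻¹ * a * g)) * g⁻¹ := by group
  rw [e1, e2, this]

end Cfsg.Agent.S2925
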