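import Cfsg.Statements.S2930
import Cfsg.Agent.Helper29.ThreeMinORB
import Cfsg.Agent.Helper14.ThreeMinTRANSPORT
import Cfsg.Agent.Helper13.ThreeMinFSTAR

set_option autoImplicit false
open Cfsg

namespace Cfsg.Agent.S2930

open Cfsg.Agent.Helper29.SylMax Cfsg.Agent.Helper29.ThreeMin
open Cfsg.Agent.Helper13.ThreeMin (fstar_eq_top)
open Cfsg.Agent.Helper14.ThreeMin (isPMinimal_of_mulEquiv)

/-- the alternating group itself -/
theorem alt_case (n : ℕ) (hn : 5 ≤ n) (h : Cfsg.IsPMinimal 3 (alternatingGroup (Fin n))) :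
    n = 6 ∨ n = 9 ∨ ∃ a : ℕ, 2 ≤ a ∧ n = 3 ^ a + 1 := by
  have : Fact (Nat.Prime 3) := ⟨Nat.prime_three⟩
  have hc : Nat.card (Fin n) = n := by simp
  obtain ⟨S⟩ := (inferInstance : Nonempty (Sylow 3 (alternatingGroup (Fin n))))
  obtain ⟨_, M, _, hM⟩ := h S
  rcases orbit_cases3 (α := Fin n) (by rw [hc]; exact hn) (S : Subgroup (alternatingGroup (Fin n)))
    S.isPGroup' with h1 | ⟨M₁, M₂, hne, hc1, hc2, hR1, hR2⟩
  · unfold Target at h1
    rw [hc] at h1
    exact h1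
  · exfalso
    exact hne ((hM M₁ ⟨hc1, hR1⟩).trans (hM M₂ ⟨hc2, hR2⟩).symm)

/-- Let X be a finite 3-minimal group (a Sylow 3-subgroup is not normal and lies in a unique maximal subgroup) whose generalized Fitting subgroup is isomorphic to an alternating group of degree n ≥ 5. Then X = F*(X), and n = 6, n = 9, or n = 3ᵃ + 1 for some a ≥ 2. -/
theorem result {X : Type*} [Group X] [Finite X] (hX : Cfsg.IsPMinimal 3 X) (n : ℕ) (hn : 5 ≤ n) (hF : Nonempty (↥(Cfsg.generalizedFittingSubgroup X) ≃* ↥(alternatingGroup (Fin n)))) : Cfsg.generalizedFittingSubgroup X = ⊤ ∧ (n = 6 ∨ n = 9 ∨ ∃ a : ℕ, 2 ≤ a ∧ n = 3 ^ a + 1) := by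
  have : Fact (Nat.Prime 3) := ⟨Nat.prime_three⟩
  have htop := fstar_eq_top hX n hn hF
  refine ⟨htop, ?_⟩
  obtain ⟨e⟩ := hF
  have e' : X ≃* ↥(alternatingGroup (Fin n)) :=
    (Subgroup.topEquiv.symm.trans (MulEquiv.subgroupCongr htop.symm)).trans e
  exact alt_case n hn (isPMinimal_of_mulEquiv e' hX)

end Cfsg.Agent.S2930
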