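import Mathlib
import Cfsg.Statements.S2931
import Cfsg.Agent.Helper13.TableIso
import Cfsg.Agent.Helper13.S2931A
import Cfsg.Agent.Helper13.S2931B
import Cfsg.Agent.Helper2.SpCard
import Cfsg.Agent.Helper2.SpCenter
import Cfsg.Agent.Helper2.QuadMinus
import Cfsg.Agent.Helper28.IsoTransport

set_option autoImplicit false

namespace Cfsg.Agent.S2931

open Matrix Cfsg.Agent.Helper13

/-- a subgroup of `p`-power order and `p'`-index is isomorphic to every Sylow `p`-subgroup -/
theorem sylow_equiv_of_card {G : Type*} [Group G] [Finite G] (p : ℕ) [Fact p.Prime]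
    (H : Subgroup G) (k m : ℕ) (hH : Nat.card H = p ^ k) (hG : Nat.card G = p ^ k * m)
    (hm : ¬ p ∣ m) (P : Sylow p G) : Nonempty (↥(P : Subgroup G) ≃* H) := by
  have hp := Fact.out (p := p.Prime)
  have hm0 : m ≠ 0 := by rintro rfl; exact hm (dvd_zero p)
  have hfac : (Nat.card G).factorization p = k := by
    rw [hG, Nat.factorization_mul (pow_ne_zero _ hp.ne_zero) hm0, Finsupp.add_apply,
      hp.factorization_pow, Finsupp.single_eq_same, Nat.factorization_eq_zero_of_not_dvd hm,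
      add_zero]
  exact ⟨Sylow.equiv P (Sylow.ofCard H (by rw [hH, hfac]))⟩

theorem zmod2_cases : ∀ y : ZMod 2, y = 0 ∨ y = 1 := by decide

theorem zmod2_two : (1 : ZMod 2) + 1 = 0 := by decide

section PartB

open Cfsg.Agent.Helper13.S2931B

theorem permB_zero : perm 0 = 1 := Equiv.ext pf_zero

theorem permB_stp (i : Fin 128) (k : Fin 3) : perm (stp i k) = perm i * perm (stp 0 k) :=
  Equiv.ext fun x => pf_stp i k x

theorem permB_inj : Function.Injective perm := fun i j h =>
  pf_inj i j fun x => Equiv.congr_fun h x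

theorem MB_unit (i : Fin 128) : ∃ j, M i * M j = 1 ∧ M j * M i = 1 :=
  TableIso.exists_inverse stp par gn htree perm (fun k => perm (stp 0 k)) permB_zero permB_stp
    permB_inj M (fun k => M (stp 0 k)) M_zero M_stp i

/-- the matrices as units -/
noncomputable def EB (i : Fin 128) : GL I6 (ZMod 2) :=
  ⟨M i, M (MB_unit i).choose, (MB_unit i).choose_spec.1, (MB_unit i).choose_spec.2⟩

theorem EB_zero : EB 0 = 1 := Units.ext M_zero

theorem EB_stp (i : Fin 128) (k : Fin 3) : EB (stp i k) = EB i * EB (stp 0 k) :=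
  Units.ext (M_stp i k)

theorem EB_mem (i : Fin 128) :
    EB i ∈ Cfsg.isometryGroup (ZMod 2) (Cfsg.quadFormMinus 2 (ZMod 2) 1 1) := by
  refine TableIso.tree_ind stp par gn htree
    (fun i => EB i ∈ Cfsg.isometryGroup (ZMod 2) (Cfsg.quadFormMinus 2 (ZMod 2) 1 1)) ?_ ?_ i
  · rw [EB_zero]; exact one_mem _
  · intro i k hi
    rw [EB_stp]
    refine mul_mem hi ?_
    rw [Helper28.IsoTransport.mem_isometryGroup_iff]
    intro u
    exact M_iso k u

/-- the enumeration of the Sylow 2-subgroup of `GO₆⁻(2)` -/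
noncomputable def eB (i : Fin 128) :
    ↥(Cfsg.isometryGroup (ZMod 2) (Cfsg.quadFormMinus 2 (ZMod 2) 1 1)) := ⟨EB i, EB_mem i⟩

theorem partB_zmod :
    ∃ (H₁ : Subgroup (Equiv.Perm (Fin 8)))
      (H₂ : Subgroup ↥(Cfsg.isometryGroup (ZMod 2) (Cfsg.quadFormMinus 2 (ZMod 2) 1 1))),
      Nat.card H₁ = 128 ∧ Nat.card H₂ = 128 ∧ Nonempty (H₁ ≃* H₂) := by
  obtain ⟨H₁, H₂, h1, h2, -, -, h⟩ := TableIso.tableIso stp par gn htree perm
    (fun k => perm (stp 0 k)) permB_zero permB_stp permB_inj eB (fun k => eB (stp 0 k))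
    (Subtype.ext EB_zero) (fun i k => Subtype.ext (EB_stp i k)) (fun k hk => by
      apply M_ker
      have h1 : EB k = 1 := congrArg Subtype.val hk
      exact congrArg Units.val h1)
  exact ⟨H₁, H₂, h1, h2, h⟩

theorem partB {K : Type} [Field K] [Fintype K] (hK : Fintype.card K = 2) (a b : K)
    (hab : ∀ z₁ z₂ : K, z₁ ^ 2 + a * z₁ * z₂ + b * z₂ ^ 2 = 0 → z₁ = 0 ∧ z₂ = 0)
    (P' : Sylow 2 (Equiv.Perm (Fin 8)))
    (Q' : Sylow 2 ↥(Cfsg.isometryGroup K (Cfsg.quadFormMinus 2 K a b))) :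
    Nonempty (↥(P' : Subgroup (Equiv.Perm (Fin 8))) ≃*
      ↥(Q' : Subgroup ↥(Cfsg.isometryGroup K (Cfsg.quadFormMinus 2 K a b)))) := by
  classical
  have : Fact (Nat.Prime 2) := ⟨Nat.prime_two⟩
  let e : ZMod 2 ≃+* K := ZMod.ringEquivOfPrime K Nat.prime_two hK
  have h01 : ∀ x : K, x = 0 ∨ x = 1 := by
    intro x
    obtain ⟨y, rfl⟩ := e.surjective x
    have : y = 0 ∨ y = 1 := zmod2_cases y
    rcases this with rfl | rfl
    · left; exact map_zero e
    · right; exact map_one e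
  have h2 : (1 : K) + 1 = 0 := by
    have := congrArg e zmod2_two
    simpa using this
  have hb : b = 1 := by
    rcases h01 b with h | h
    · exfalso
      have := hab 0 1 (by rw [h]; ring)
      exact one_ne_zero this.2
    · exact h
  have ha : a = 1 := by
    rcases h01 a with h | h
    · exfalso
      have := hab 1 1 (by rw [h, hb]; linear_combination h2)
      exact one_ne_zero this.1
    · exact h
  subst ha hb
  obtain ⟨Ξ⟩ := Helper28.IsoTransport.isometryGroup_transport (ι := I6) e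
    (Cfsg.quadFormMinus 2 (ZMod 2) 1 1) (Cfsg.quadFormMinus 2 K 1 1) (by
      intro w
      simp only [Cfsg.quadFormMinus, map_add, map_mul, map_pow, map_sum, Function.comp_apply,
        map_one])
  obtain ⟨H₁, H₂, h1, h2', ⟨φ⟩⟩ := partB_zmod
  have hcard' : Nat.card (H₂.map Ξ.toMonoidHom) = 2 ^ 7 := by
    rw [Subgroup.card_map_of_injective Ξ.injective, h2']
    norm_num
  have hGO : Nat.card ↥(Cfsg.isometryGroup K (Cfsg.quadFormMinus 2 K 1 1)) = 2 ^ 7 * 405 := by
    have := Helper2.Quad.card_GO_minus hK 3 (by norm_num) 1 1 hab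
    rw [this]
    simp [Finset.prod_range_succ]
  have hS8 : Nat.card (Equiv.Perm (Fin 8)) = 2 ^ 7 * 315 := by
    rw [Nat.card_eq_fintype_card, Fintype.card_perm, Fintype.card_fin]
    rfl
  obtain ⟨ψ₁⟩ := sylow_equiv_of_card 2 H₁ 7 315 (by rw [h1]; norm_num) hS8 (by norm_num) P'
  obtain ⟨ψ₂⟩ := sylow_equiv_of_card 2 (H₂.map Ξ.toMonoidHom) 7 405 hcard' hGO (by norm_num) Q'
  exact ⟨ψ₁.trans (φ.trans ((H₂.equivMapOfInjective Ξ.toMonoidHom Ξ.injective).trans ψ₂.symm))⟩

end PartB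

section PartA

open Cfsg.Agent.Helper13.S2931A SymplecticGroup

theorem permA_zero : perm 0 = 1 := Equiv.ext pf_zero

theorem permA_stp (i : Fin 64) (k : Fin 3) : perm (stp i k) = perm i * perm (stp 0 k) :=
  Equiv.ext fun x => pf_stp i k x

theorem permA_inj : Function.Injective perm := fun i j h =>
  pf_inj i j fun x => Equiv.congr_fun h x

/-- the enumeration of the Sylow 2-subgroup of `A₈` -/
def eA (i : Fin 64) : ↥(alternatingGroup (Fin 8)) :=
  ⟨perm i, Equiv.Perm.mem_alternatingGroup.mpr (sign_perm i)⟩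

variable {F : Type} [Field F] (φ : ZMod 3 →+* F)

/-- the symplectic matrices over `F` -/
def SA (i : Fin 64) : symplecticGroup (Fin 2) F :=
  ⟨(M i).map φ, map_mem (mem_iff.mpr (M_symp i)) φ⟩

theorem SA_zero : SA φ 0 = 1 :=
  Subtype.ext (by
    change (M 0).map φ = 1
    rw [M_zero, Matrix.map_one _ (map_zero φ) (map_one φ)])

/-- `-1` as a symplectic matrix -/
def negOne : symplecticGroup (Fin 2) F := ⟨-1, neg_mem (one_mem _)⟩

theorem negOne_mem_center : (negOne : symplecticGroup (Fin 2) F) ∈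
    Subgroup.center (symplecticGroup (Fin 2) F) := by
  rw [Helper2.Sp.mem_center_iff]
  exact ⟨-1, by ring, by simp [negOne]⟩

theorem SA_stp (i : Fin 64) (k : Fin 3) :
    SA φ (stp i k) = SA φ i * SA φ (stp 0 k) ∨
      SA φ (stp i k) = negOne * (SA φ i * SA φ (stp 0 k)) := by
  rcases M_stp i k with h | h
  · left
    apply Subtype.ext
    change (M (stp i k)).map φ = (M i).map φ * (M (stp 0 k)).map φ
    rw [h, Matrix.map_mul]
  · right
    apply Subtype.ext
    change (M (stp i k)).map φ = -1 * ((M i).map φ * (M (stp 0 k)).map φ)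
    rw [h, Matrix.map_neg _ (map_neg φ), Matrix.map_mul, neg_one_mul]

theorem SA_ker (k : Fin 64)
    (hk : SA φ k ∈ Subgroup.center (symplecticGroup (Fin 2) F)) : k = 0 := by
  rw [Helper2.Sp.mem_center_iff] at hk
  obtain ⟨c, hc, hk⟩ := hk
  change (M k).map φ = c • 1 at hk
  have hinj := Matrix.map_injective (m := I4) (n := I4) φ.injective
  apply M_ker
  rcases mul_self_eq_one_iff.mp hc with rfl | rfl
  · left
    apply hinj
    change (M k).map φ = (1 : Matrix I4 I4 (ZMod 3)).map φ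
    rw [hk, Matrix.map_one _ (map_zero φ) (map_one φ), one_smul]
  · right
    apply hinj
    change (M k).map φ = (-1 : Matrix I4 I4 (ZMod 3)).map φ
    rw [hk, Matrix.map_neg _ (map_neg φ), Matrix.map_one _ (map_zero φ) (map_one φ), neg_smul,
      one_smul]

theorem partA [Fintype F] (hF : Fintype.card F = 3)
    (P : Sylow 2 ↥(alternatingGroup (Fin 8))) (Q : Sylow 2 (Cfsg.PSp 2 F)) :
    Nonempty (↥(P : Subgroup ↥(alternatingGroup (Fin 8))) ≃*
      ↥(Q : Subgroup (Cfsg.PSp 2 F))) := by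
  classical
  have : Fact (Nat.Prime 2) := ⟨Nat.prime_two⟩
  let e : ZMod 3 ≃+* F := ZMod.ringEquivOfPrime F Nat.prime_three hF
  let φ : ZMod 3 →+* F := e.toRingHom
  obtain ⟨H₁, H₂, h1, h2, -, -, ⟨θ⟩⟩ := TableIso.tableIso stp par gn htree eA
    (fun k => eA (stp 0 k)) (Subtype.ext permA_zero) (fun i k => Subtype.ext (permA_stp i k))
    (fun i j h => permA_inj (congrArg Subtype.val h))
    (fun i => (QuotientGroup.mk (SA φ i) : Cfsg.PSp 2 F))
    (fun k => (QuotientGroup.mk (SA φ (stp 0 k)) : Cfsg.PSp 2 F))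
    (by rw [SA_zero]; rfl)
    (fun i k => by
      rcases SA_stp φ i k with h | h
      · rw [h]; rfl
      · rw [h, QuotientGroup.mk_mul, (QuotientGroup.eq_one_iff _).mpr negOne_mem_center, one_mul]
        rfl)
    (fun k hk => SA_ker φ k ((QuotientGroup.eq_one_iff _).mp hk))
  have hA8 : Nat.card ↥(alternatingGroup (Fin 8)) = 2 ^ 6 * 315 := by
    rw [nat_card_alternatingGroup, Nat.card_eq_fintype_card, Fintype.card_fin]
    rfl
  have hSp : Nat.card (symplecticGroup (Fin 2) F) = 51840 := by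
    rw [Helper2.Sp.card_symplectic_fin, hF]
    simp [Finset.prod_range_succ]
  have hZ : Nat.card (Subgroup.center (symplecticGroup (Fin 2) F)) = 2 := by
    rw [Helper2.Sp.card_center, Helper2.card_units_field, hF]
    rfl
  have hPSp : Nat.card (Cfsg.PSp 2 F) = 2 ^ 6 * 405 := by
    have := Subgroup.card_eq_card_quotient_mul_card_subgroup
      (Subgroup.center (symplecticGroup (Fin 2) F))
    rw [hSp, hZ] at this
    change 51840 = Nat.card (Cfsg.PSp 2 F) * 2 at this
    omega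
  obtain ⟨ψ₁⟩ := sylow_equiv_of_card 2 H₁ 6 315 (by rw [h1]; norm_num) hA8 (by norm_num) P
  obtain ⟨ψ₂⟩ := sylow_equiv_of_card 2 H₂ 6 405 (by rw [h2]; norm_num) hPSp (by norm_num) Q
  exact ⟨ψ₁.trans (θ.trans ψ₂.symm)⟩

end PartA

/-- The Sylow 2-subgroups of the alternating group of degree 8 and of PSp₄(3) are isomorphic, and so are the Sylow 2-subgroups of the symmetric group of degree 8 and of the full isometry group of a non-degenerate quadratic form of minus type in dimension 6 over the field with 2 elements. -/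
theorem result (F : Type) [Field F] [Fintype F] (hF : Fintype.card F = 3) (K : Type) [Field K] [Fintype K] (hK : Fintype.card K = 2) (a b : K) (hab : ∀ z₁ z₂ : K, z₁ ^ 2 + a * z₁ * z₂ + b * z₂ ^ 2 = 0 → z₁ = 0 ∧ z₂ = 0) (P : Sylow 2 ↥(alternatingGroup (Fin 8))) (Q : Sylow 2 (Cfsg.PSp 2 F)) (P' : Sylow 2 (Equiv.Perm (Fin 8))) (Q' : Sylow 2 ↥(Cfsg.isometryGroup K (Cfsg.quadFormMinus 2 K a b))) : Nonempty (↥(P : Subgroup ↥(alternatingGroup (Fin 8))) ≃* ↥(Q : Subgroup (Cfsg.PSp 2 F))) ∧ Nonempty (↥(P' : Subgroup (Equiv.Perm (Fin 8))) ≃* ↥(Q' : Subgroup ↥(Cfsg.isometryGroup K (Cfsg.quadFormMinus 2 K a b)))) :=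
  ⟨partA hF P Q, partB hK a b hab P' Q'⟩

end Cfsg.Agent.S2931
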