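import Cfsg.Statements.S2934
import Mathlib
import Cfsg.Agent.Helper19.OneInvF

set_option autoImplicit false
open Cfsg

namespace Cfsg.Agent.S2934

/-- Let p be an odd prime, W a finite 2-group and E a non-cyclic abelian p-subgroup of Aut(W) such that, for every nontrivial e ∈ E, the fixed points of e in W contain at most one involution. Then E has order 9, W is extraspecial of order 2⁵, 2⁷ or 2⁹, and the common fixed points of E in W form exactly the centre Z(W). -/
theorem result {W : Type*} [Group W] [Finite W] (hW : IsPGroup 2 W) {p : ℕ} [Fact p.Prime] (hp : p ≠ 2) (E : Subgroup (MulAut W)) (hE : IsPGroup p ↥E) (hab : IsMulCommutative ↥E) (hnc : ¬ IsCyclic ↥E) (hfix : ∀ e ∈ E, e ≠ 1 → ∀ x y : W, orderOf x = 2 → orderOf y = 2 → e x = x → e y = y → x = y) : Nat.card ↥E = 9 ∧ Cfsg.IsExtraspecial 2 W ∧ (Nat.card W = 2 ^ 5 ∨ Nat.card W = 2 ^ 7 ∨ Nat.card W = 2 ^ 9) ∧ {x : W | ∀ e ∈ E, e x = x} = (Subgroup.center W : Set W) := by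
  open Cfsg.Agent.Helper19.OneInv Cfsg.Agent.Helper3.Broad in
  haveI : Fact (Nat.Prime 2) := ⟨Nat.prime_two⟩
  have h : Hyp W p E := ⟨hW, hp, hE, hab, hnc, hfix⟩
  obtain ⟨z, hoz, hzc, hzf, huniq, hcen⟩ := h.exists_z
  have hz : ZData E z := ⟨hoz, hzc, hzf, huniq, hcen⟩
  have hE9 := h.card_E hz
  have hex := h.isExtraspecial hz
  refine ⟨hE9, hex, ?_, ?_⟩
  · obtain ⟨n, hn1, hn⟩ := Cfsg.Agent.S0095.result hex
    have hle := h.card_W_le hz hE9
    obtain ⟨T, hT, hT1, hbig⟩ := h.exists_big' hz
    have hc8 := (h.big_props hz hT hT1 hbig).1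
    have hne8 : Nat.card W ≠ 8 := by
      intro h8
      apply hT1
      have htop : Fx T = ⊤ := Subgroup.eq_top_of_card_eq _ (by rw [hc8, h8])
      ext x
      have : x ∈ Fx T := by rw [htop]; exact Subgroup.mem_top x
      exact this
    have hn5 : n < 5 := by
      by_contra hcon
      push Not at hcon
      have : 2 ^ 11 ≤ 2 ^ (2 * n + 1) := Nat.pow_le_pow_right (by norm_num) (by omega)
      rw [← hn] at this
      omega
    interval_cases n
    · exact absurd hn hne8
    · exact Or.inl hn
    · exact Or.inr (Or.inl hn)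
    · exact Or.inr (Or.inr hn)
  · ext x
    simp only [Set.mem_ofPred_eq, SetLike.mem_coe]
    rw [h.center_eq hz, mem_zpowers_of_orderOf_two hoz]
    constructor
    · intro hx
      exact h.fixAll_le hz x hx
    · rintro (rfl | rfl)
      · intro e _
        exact map_one e
      · exact hzf

end Cfsg.Agent.S2934
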