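import Cfsg.Statements.S2940
import Mathlib

set_option autoImplicit false
open Cfsg

namespace Cfsg.Agent.S2940

/-- Let S be a Sylow p-subgroup of the finite group G and G₁, G₂ subgroups containing S with G = G₁G₂. Then for every g ∈ G there is a Sylow p-subgroup U of G with S ∩ S^g ≤ U ≤ G₁ ∩ G₂^g (conjugates taken as X^g = g⁻¹Xg). -/
theorem result {G : Type*} [Group G] [Finite G] {p : ℕ} [Fact p.Prime] (S : Sylow p G) (G₁ G₂ : Subgroup G) (h1 : (S : Subgroup G) ≤ G₁) (h2 : (S : Subgroup G) ≤ G₂) (hfact : ∀ g : G, ∃ g₁ ∈ G₁, ∃ g₂ ∈ G₂, g = g₁ * g₂) (g : G) : ∃ U : Sylow p G, (S : Subgroup G) ⊓ Cfsg.subgroupConjRight g (S : Subgroup G) ≤ (U : Subgroup G) ∧ (U : Subgroup G) ≤ G₁ ⊓ Cfsg.subgroupConjRight g G₂ := by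
  have hp : p.Prime := Fact.out
  obtain ⟨a, ha, b, hb, hab⟩ := hfact g⁻¹
  -- g = b⁻¹ * a⁻¹
  have hg : g = b⁻¹ * a⁻¹ := by
    have : g = (g⁻¹)⁻¹ := (inv_inv g).symm
    rw [this, hab, mul_inv_rev]
  set g₁ : G := a⁻¹ with hg₁
  set g₂ : G := b⁻¹ with hg₂
  have hg₁m : g₁ ∈ G₁ := G₁.inv_mem ha
  have hg₂m : g₂ ∈ G₂ := G₂.inv_mem hb
  set D : Subgroup G := G₁ ⊓ Cfsg.subgroupConjRight g G₂ with hD
  set S' : Subgroup G := (S : Subgroup G).map (MulAut.conj g₁⁻¹).toMonoidHom with hS'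
  have hS'D : S' ≤ D := by
    rintro _ ⟨s, hs, rfl⟩
    rw [hD, Subgroup.mem_inf]
    constructor
    · simp only [MulEquiv.toMonoidHom_eq_coe, MonoidHom.coe_coe, MulAut.conj_apply, inv_inv]
      exact G₁.mul_mem (G₁.mul_mem (G₁.inv_mem hg₁m) (h1 hs)) hg₁m
    · refine ⟨g₂ * s * g₂⁻¹, G₂.mul_mem (G₂.mul_mem hg₂m (h2 hs)) (G₂.inv_mem hg₂m), ?_⟩
      simp only [MulEquiv.toMonoidHom_eq_coe, MonoidHom.coe_coe, MulAut.conj_apply, inv_inv]
      rw [hg]
      group
  have hcardS' : Nat.card S' = Nat.card S :=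
    (Nat.card_congr ((S : Subgroup G).equivMapOfInjective _
      (MulAut.conj g₁⁻¹).injective).toEquiv).symm
  set n := (Nat.card G).factorization p with hn
  have hcardS : Nat.card S = p ^ n := S.card_eq_multiplicity
  have hD0 : Nat.card D ≠ 0 := Nat.card_pos.ne'
  have hG0 : Nat.card G ≠ 0 := Nat.card_pos.ne'
  have hfac : (Nat.card D).factorization p = n := by
    apply le_antisymm
    · exact (Nat.factorization_le_iff_dvd hD0 hG0).mpr (Subgroup.card_subgroup_dvd_card D) p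
    · apply (Nat.Prime.pow_dvd_iff_le_factorization hp hD0).mp
      rw [← hcardS, ← hcardS']
      exact Subgroup.card_dvd_of_le hS'D
  -- the p-subgroup Q = S ⊓ S^g of D
  set Q : Subgroup G := (S : Subgroup G) ⊓ Cfsg.subgroupConjRight g (S : Subgroup G) with hQ
  have hQD : Q ≤ D := by
    apply inf_le_inf h1
    exact Subgroup.map_mono h2
  have hQp : IsPGroup p (Q.subgroupOf D) := by
    have : IsPGroup p Q := S.isPGroup'.to_le inf_le_left
    exact this.comap_subtype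
  obtain ⟨U₀, hU₀⟩ := hQp.exists_le_sylow
  set U : Subgroup G := (U₀ : Subgroup D).map D.subtype with hU
  have hcardU : Nat.card U = p ^ (Nat.card G).factorization p := by
    have h1' : Nat.card U = Nat.card U₀ :=
      (Nat.card_congr ((U₀ : Subgroup D).equivMapOfInjective _ D.subtype_injective).toEquiv).symm
    rw [h1', U₀.card_eq_multiplicity, hfac]
  refine ⟨Sylow.ofCard U hcardU, ?_, ?_⟩
  · intro x hx
    have hxD : x ∈ D := hQD hx
    have : (⟨x, hxD⟩ : D) ∈ (U₀ : Subgroup D) := hU₀ (by rw [Subgroup.mem_subgroupOf]; exact hx)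
    exact ⟨⟨x, hxD⟩, this, rfl⟩
  · show U ≤ D
    exact Subgroup.map_subtype_le _

end Cfsg.Agent.S2940
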