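import Cfsg.Statements.S2958
-- import your own Cfsg.Agent.* helpers here

set_option autoImplicit false
open Cfsg

namespace Cfsg.Agent.S2958

/-- Let X, A, B be subgroups of a group G such that G is generated by the conjugates of X and every conjugate of X is contained in A or in B. Then A = G or B = G. -/
theorem result {G : Type*} [Group G] (X A B : Subgroup G) (hgen : (⨆ g : G, X.map (MulAut.conj g).toMonoidHom) = ⊤) (hcover : ∀ g : G, X.map (MulAut.conj g).toMonoidHom ≤ A ∨ X.map (MulAut.conj g).toMonoidHom ≤ B) : A = ⊤ ∨ B = ⊤ := by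
  classical
  by_contra hcon
  rw [not_or] at hcon
  obtain ⟨hA, hB⟩ := hcon
  -- the conjugates not inside B
  set c : G → Subgroup G := fun g => X.map (MulAut.conj g).toMonoidHom with hc
  set N : Subgroup G := ⨆ g : {g : G // ¬ c g ≤ B}, c g.1 with hN
  have hNA : N ≤ A := by
    refine iSup_le ?_
    rintro ⟨g, hg⟩
    rcases hcover g with h | h
    · exact h
    · exact absurd h hg
  have hcN : ∀ g, ¬ c g ≤ B → c g ≤ N := fun g hg => le_iSup (fun g : {g : G // ¬ c g ≤ B} => c g.1) ⟨g, hg⟩
  have hconj : ∀ (x g : G), (c g).map (MulAut.conj x).toMonoidHom = c (x * g) := by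
    intro x g
    simp only [hc, Subgroup.map_map]
    congr 1
    ext y
    simp [MulAut.conj_apply, mul_assoc]
  -- every element of every conjugate normalizes N
  have key : ∀ h : G, ∀ x ∈ c h, N.map (MulAut.conj x).toMonoidHom ≤ N := by
    intro h x hx
    by_cases hh : c h ≤ B
    · have hxB : x ∈ B := hh hx
      rw [hN, Subgroup.map_iSup]
      refine iSup_le ?_
      rintro ⟨g, hg⟩
      rw [hconj]
      apply hcN
      intro hle
      apply hg
      intro y hy
      have : (MulAut.conj x) y ∈ c (x * g) := by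
        rw [← hconj]; exact Subgroup.mem_map_of_mem _ hy
      have h2 := hle this
      have h3 : x⁻¹ * ((MulAut.conj x) y) * x ∈ B := B.mul_mem (B.mul_mem (B.inv_mem hxB) h2) hxB
      simpa [MulAut.conj_apply, mul_assoc] using h3
    · have hxN : x ∈ N := hcN h hh hx
      rintro _ ⟨y, hy, rfl⟩
      simp only [MulEquiv.coe_toMonoidHom, MulAut.conj_apply]
      exact N.mul_mem (N.mul_mem hxN hy) (N.inv_mem hxN)
  have hnorm : ∀ x : G, N.map (MulAut.conj x).toMonoidHom ≤ N := by
    intro x
    have hx : x ∈ (⨆ g : G, c g) := by rw [hgen]; trivial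
    refine Subgroup.iSup_induction (C := fun x => N.map (MulAut.conj x).toMonoidHom ≤ N) c hx ?_ ?_ ?_
    · intro i y hy; exact key i y hy
    · rintro _ ⟨y, hy, rfl⟩; simpa using hy
    · intro a b ha hb
      rintro _ ⟨y, hy, rfl⟩
      have h1 : (MulAut.conj b) y ∈ N := hb (Subgroup.mem_map_of_mem _ hy)
      have h2 : (MulAut.conj a) ((MulAut.conj b) y) ∈ N := ha (Subgroup.mem_map_of_mem _ h1)
      simpa [MulAut.conj_apply, mul_assoc] using h2
  -- some conjugate is not inside B
  have hex : ∃ g, ¬ c g ≤ B := by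
    by_contra hno
    rw [not_exists] at hno; simp only [not_not] at hno
    apply hB
    rw [eq_top_iff, ← hgen]
    exact iSup_le hno
  obtain ⟨g0, hg0⟩ := hex
  have hall : ∀ g, c g ≤ N := by
    intro g
    have : c g = (c g0).map (MulAut.conj (g * g0⁻¹)).toMonoidHom := by
      rw [hconj]; simp
    rw [this]
    exact le_trans (Subgroup.map_mono (hcN g0 hg0)) (hnorm _)
  apply hA
  rw [eq_top_iff, ← hgen]
  exact le_trans (iSup_le hall) hNA

end Cfsg.Agent.S2958
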