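import Cfsg.Statements.S2960
import Cfsg.Agent.Helper14.PCore
import Cfsg.Agent.Lead.ThompsonPQ

set_option autoImplicit false
open Cfsg

namespace Cfsg.Agent.S2960

/-- Let G be a finite group of characteristic p (C_G(O_p(G)) ≤ O_p(G)), p prime, T a Sylow p-subgroup of G and Q a normal subgroup of T with C_T(Q) ≤ Q. Then C_G(Q) ≤ Q. -/
theorem result {G : Type*} [Group G] [Finite G] {p : ℕ} [Fact p.Prime] (hG : Subgroup.centralizer (Cfsg.pCore p G : Set G) ≤ Cfsg.pCore p G) (T : Sylow p G) (Q : Subgroup G) (hQT : Q ≤ (T : Subgroup G)) (hQn : (T : Subgroup G) ≤ Subgroup.normalizer (Q : Set G)) (hC : (T : Subgroup G) ⊓ Subgroup.centralizer (Q : Set G) ≤ Q) : Subgroup.centralizer (Q : Set G) ≤ Q := by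
  have hp : p.Prime := Fact.out
  set Pc := Cfsg.pCore p G with hPc
  have hPcp : IsPGroup p Pc := Cfsg.Agent.Helper14.pCore_isPGroup p
  have hPcT : Pc ≤ (T : Subgroup G) := Cfsg.Agent.Helper14.pCore_le_sylow p T
  have hPcN : Pc.Normal := Cfsg.pCore_normal p G
  have hQp : IsPGroup p Q := T.isPGroup'.to_le hQT
  -- Claim 1: p'-elements of C_G(Q) are trivial
  have claim1 : ∀ x ∈ Subgroup.centralizer (Q : Set G), (orderOf x).Coprime p → x = 1 := by
    intro x hx hcop
    set X := Subgroup.zpowers x with hX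
    have hXcard : (Nat.card X).Coprime p := by rw [hX, Nat.card_zpowers]; exact hcop
    have hcX : Subgroup.centralizer (X : Set G) = Subgroup.centralizer {x} := by
      rw [hX, Subgroup.zpowers_eq_closure, Subgroup.centralizer_closure]
    have hQX : Q ≤ Subgroup.centralizer (X : Set G) := by
      rw [hcX]
      intro q hq
      rw [Subgroup.mem_centralizer_singleton_iff]
      exact (Subgroup.mem_centralizer_iff.mp hx q hq)
    have hN : ∀ H : Subgroup G, H ≤ Subgroup.normalizer (Pc : Set G) := by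
      intro H
      rw [Subgroup.normalizer_eq_top]; exact le_top
    have hC : Pc ⊓ Subgroup.centralizer (Q : Set G) ≤ Subgroup.centralizer (X : Set G) :=
      (le_trans (inf_le_inf_right _ hPcT) hC).trans hQX
    have h1 := Cfsg.Agent.Lead.thompson_PQ p Q X Pc hQp hXcard hPcp hQX (hN Q) (hN X) hC
    have hxPc : x ∈ Pc := hG (h1 (Subgroup.mem_zpowers x))
    obtain ⟨k, hk⟩ := hPcp ⟨x, hxPc⟩
    have hk' : x ^ (p ^ k) = 1 := by
      have := congrArg Subtype.val hk
      simpa using this
    have hdvd : orderOf x ∣ p ^ k := orderOf_dvd_of_pow_eq_one hk'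
    have h1' : orderOf x = 1 := Nat.Coprime.eq_one_of_dvd (Nat.Coprime.pow_right k hcop) hdvd
    exact orderOf_eq_one_iff.mp h1'
  -- Claim 2: C_G(Q) is a p-group
  have claim2 : IsPGroup p (Subgroup.centralizer (Q : Set G)) := by
    intro g
    obtain ⟨k, m, hm, hkm⟩ := Nat.exists_eq_pow_mul_and_not_dvd (orderOf_pos (g : G)).ne' p hp.ne_one
    refine ⟨k, ?_⟩
    have hord : orderOf ((g : G) ^ (p ^ k)) = m := by
      rw [orderOf_pow' (g : G) (pow_ne_zero k hp.ne_zero), hkm, Nat.gcd_eq_right (Dvd.intro _ rfl),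
        Nat.mul_div_cancel_left m (pow_pos hp.pos k)]
    have h1 := claim1 ((g : G) ^ (p ^ k)) (Subgroup.pow_mem _ g.2 _)
      (by rw [hord]; exact ((Nat.Prime.coprime_iff_not_dvd hp).2 hm).symm)
    apply Subtype.ext
    simpa using h1
  -- Claim 3: C_G(Q) ≤ T
  have hTC : (T : Subgroup G) ≤ Subgroup.normalizer
      ((Subgroup.centralizer (Q : Set G) : Subgroup G) : Set G) := by
    have h1 : Subgroup.normalizer (Q : Set G) ≤
        Subgroup.normalizer ((Subgroup.centralizer (Q : Set G) : Subgroup G) : Set G) :=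
      (Subgroup.normal_subgroupOf_iff_le_normalizer
        (Subgroup.centralizer_le_normalizer _)).mp inferInstance
    exact hQn.trans h1
  have hsup : IsPGroup p ((T : Subgroup G) ⊔ Subgroup.centralizer (Q : Set G) : Subgroup G) :=
    IsPGroup.to_sup_of_normal_right' T.isPGroup' claim2 hTC
  have heq := T.is_maximal' hsup le_sup_left
  have hCT : Subgroup.centralizer (Q : Set G) ≤ (T : Subgroup G) := by
    rw [← heq]; exact le_sup_right
  exact (le_inf hCT le_rfl).trans hC

end Cfsg.Agent.S2960
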