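import Cfsg.Statements.S2963
import Mathlib

set_option autoImplicit false
open Cfsg
open scoped Pointwise

namespace Cfsg.Agent.S2963

/-- Let n be odd. If the symmetric group of degree n is a minimal parabolic group for the prime 2, that is, a Sylow 2-subgroup is not normal and lies in exactly one maximal subgroup, then n = 2^m + 1 for some natural number m. -/
theorem result (n : ℕ) (hn : Odd n) (h : Cfsg.IsPMinimal 2 (Equiv.Perm (Fin n))) : ∃ m : ℕ, n = 2 ^ m + 1 := by
  classical
  have h2 : Fact (Nat.Prime 2) := ⟨Nat.prime_two⟩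
  obtain ⟨S⟩ : Nonempty (Sylow 2 (Equiv.Perm (Fin n))) := inferInstance
  obtain ⟨hnn, M, ⟨hM, hSM⟩, huniq⟩ := h S
  -- n ≥ 2
  have hn2 : 2 ≤ n := by
    by_contra hlt
    push Not at hlt
    apply hnn
    have : Subsingleton (Equiv.Perm (Fin n)) := by
      have : Subsingleton (Fin n) := by
        rw [Fin.subsingleton_iff_le_one]; omega
      infer_instance
    exact ⟨fun x hx g => by rw [Subsingleton.elim (g * x * g⁻¹) x]; exact hx⟩
  have hcardn : Nat.card (Fin n) = n := by simp
  have hodd : ∀ s : Set (Fin n), Nat.card (Fin n) ≠ 2 * s.ncard := by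
    intro s hs
    rw [hcardn] at hs
    obtain ⟨k, hk⟩ := hn
    omega
  -- any S-invariant proper nonempty set has stabilizer M
  have hstab : ∀ s : Set (Fin n), s.Nonempty → sᶜ.Nonempty →
      (∀ g ∈ (S : Subgroup (Equiv.Perm (Fin n))), ∀ x, g x ∈ s ↔ x ∈ s) →
      MulAction.stabilizer (Equiv.Perm (Fin n)) s = M := by
    intro s hs hsc hinv
    apply huniq
    refine ⟨Equiv.Perm.isCoatom_stabilizer hs hsc (hodd s), ?_⟩
    intro g hg
    rw [MulAction.mem_stabilizer_set]
    exact hinv g hg
  -- fixed point
  have hSp : IsPGroup 2 (S : Subgroup (Equiv.Perm (Fin n))) := S.isPGroup'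
  have hfix : (MulAction.fixedPoints (S : Subgroup (Equiv.Perm (Fin n))) (Fin n)).Nonempty := by
    have hmod := hSp.card_modEq_card_fixedPoints (Fin n)
    rw [hcardn] at hmod
    by_contra hne
    rw [Set.not_nonempty_iff_eq_empty] at hne
    rw [hne] at hmod
    simp only [Nat.card_eq_fintype_card, Fintype.card_ofIsEmpty] at hmod
    have : n % 2 = 1 := Nat.odd_iff.mp hn
    have h0 : n % 2 = 0 := hmod
    omega
  obtain ⟨a, ha⟩ := hfix
  rw [MulAction.mem_fixedPoints] at ha
  have haS : ∀ g ∈ (S : Subgroup (Equiv.Perm (Fin n))), g a = a := fun g hg => ha ⟨g, hg⟩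
  -- stabilizer of {a} is M
  have hMa : MulAction.stabilizer (Equiv.Perm (Fin n)) ({a} : Set (Fin n)) = M := by
    apply hstab
    · exact Set.singleton_nonempty a
    · have : ∃ b : Fin n, b ≠ a := by
        by_contra hcon
        push Not at hcon
        have : Nat.card (Fin n) ≤ 1 := by
          rw [Nat.card_eq_fintype_card]
          apply Fintype.card_le_one_iff.mpr
          intro x y; rw [hcon x, hcon y]
        rw [hcardn] at this; omega
      obtain ⟨b, hb⟩ := this
      exact ⟨b, hb⟩
    · intro g hg x
      simp only [Set.mem_singleton_iff]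
      constructor
      · intro hx
        have : g x = g a := by rw [hx, haS g hg]
        exact g.injective this
      · intro hx; rw [hx]; exact haS g hg
  -- a second point
  have hb : ∃ b : Fin n, b ≠ a := by
    by_contra hcon
    push Not at hcon
    have : Nat.card (Fin n) ≤ 1 := by
      rw [Nat.card_eq_fintype_card]
      apply Fintype.card_le_one_iff.mpr
      intro x y; rw [hcon x, hcon y]
    rw [hcardn] at this; omega
  obtain ⟨b, hba⟩ := hb
  set t : Set (Fin n) := MulAction.orbit (S : Subgroup (Equiv.Perm (Fin n))) b with ht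
  have hbt : b ∈ t := MulAction.mem_orbit_self b
  have hat : a ∉ t := by
    intro hat
    obtain ⟨g, hg⟩ := hat
    -- g • b = a, so b = g⁻¹ • a = a
    have : b = a := by
      have h1 : (g : Equiv.Perm (Fin n)) b = a := hg
      have h2 : (g : Equiv.Perm (Fin n)) a = a := haS g g.2
      exact (g : Equiv.Perm (Fin n)).injective (h1.trans h2.symm)
    exact hba this
  have hMt : MulAction.stabilizer (Equiv.Perm (Fin n)) t = M := by
    apply hstab
    · exact ⟨b, hbt⟩
    · exact ⟨a, hat⟩
    · intro g hg x
      have e : MulAction.orbit (S : Subgroup (Equiv.Perm (Fin n))) (g x) =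
          MulAction.orbit (S : Subgroup (Equiv.Perm (Fin n))) x :=
        MulAction.orbit_smul (⟨g, hg⟩ : (S : Subgroup (Equiv.Perm (Fin n)))) x
      rw [ht, ← MulAction.orbit_eq_iff, ← MulAction.orbit_eq_iff, e]
  -- t = {a}ᶜ
  have htc : t = ({a} : Set (Fin n))ᶜ := by
    apply Set.Subset.antisymm
    · intro x hx
      simp only [Set.mem_compl_iff, Set.mem_singleton_iff]
      intro hxa
      exact hat (hxa ▸ hx)
    · intro c hc
      simp only [Set.mem_compl_iff, Set.mem_singleton_iff] at hc
      by_cases hcb : c = b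
      · rw [hcb]; exact hbt
      · have hsw : Equiv.swap b c ∈ MulAction.stabilizer (Equiv.Perm (Fin n)) ({a} : Set (Fin n)) := by
          rw [MulAction.mem_stabilizer_set]
          intro x
          simp only [Set.mem_singleton_iff, Equiv.Perm.smul_def]
          constructor
          · intro hx
            have : Equiv.swap b c x = Equiv.swap b c a := by
              rw [hx, Equiv.swap_apply_of_ne_of_ne (Ne.symm hba) (Ne.symm hc)]
            exact (Equiv.swap b c).injective this
          · intro hx
            rw [hx, Equiv.swap_apply_of_ne_of_ne (Ne.symm hba) (Ne.symm hc)]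
        rw [hMa, ← hMt, MulAction.mem_stabilizer_set] at hsw
        have := (hsw b).mpr hbt
        simpa using this
  -- count
  obtain ⟨m, hm⟩ := hSp.card_orbit b
  refine ⟨m, ?_⟩
  have hcard : Nat.card t = n - 1 := by
    rw [htc, Nat.card_coe_set_eq, Set.ncard_compl, Set.ncard_singleton, hcardn]
  rw [← ht, hcard] at hm
  omega

end Cfsg.Agent.S2963
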