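import Cfsg.Statements.S2971
import Mathlib
import Cfsg.Agent.S0016
import Cfsg.Agent.Helper15.Isolated2
import Cfsg.Agent.Helper7.PPrimeCore

set_option autoImplicit false
open Cfsg

namespace Cfsg.Agent.S2971


/-- A finite `p`-group of `p`-rank at most one has a unique subgroup of order `p`. -/
theorem unique_card_prime_of_rank_one {Q : Type*} [Group Q] [Finite Q] {p : ℕ} [Fact p.Prime]
    (hQ : IsPGroup p Q)
    (hrk : ∀ A : Subgroup Q, (∀ a ∈ A, ∀ b ∈ A, a * b = b * a) → (∀ a ∈ A, a ^ p = 1) →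
      Nat.card A ≤ p)
    (H K : Subgroup Q) (hH : Nat.card H = p) (hK : Nat.card K = p) : H = K := by
  have hp : p.Prime := Fact.out
  have hnt : Nontrivial Q := by
    by_contra hcon
    rw [not_nontrivial_iff_subsingleton] at hcon
    have : Nat.card H ≤ 1 := Finite.card_le_one_iff_subsingleton.mpr inferInstance
    rw [hH] at this
    exact absurd hp.two_le (by omega)
  have hZ : Subgroup.center Q ≠ ⊥ := (hQ.bot_lt_center).ne'
  have hpZ : p ∣ Nat.card (Subgroup.center Q) := by
    obtain ⟨k, hk⟩ := IsPGroup.iff_card.mp (hQ.to_subgroup (Subgroup.center Q))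
    rw [hk]
    rcases Nat.eq_zero_or_pos k with rfl | hk0
    · exfalso
      rw [pow_zero, Subgroup.card_eq_one] at hk
      exact hZ hk
    · exact dvd_pow_self p hk0.ne'
  obtain ⟨z, hz⟩ := exists_prime_orderOf_dvd_card' p hpZ
  set Z₀ : Subgroup Q := Subgroup.zpowers (z : Q) with hZ₀
  have hzo : orderOf (z : Q) = p := by rw [Subgroup.orderOf_coe]; exact hz
  have hZ₀card : Nat.card Z₀ = p := by rw [hZ₀, Nat.card_zpowers, hzo]
  have hZ₀c : ∀ a ∈ Z₀, ∀ g : Q, g * a = a * g := by
    intro a ha g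
    obtain ⟨i, rfl⟩ := Subgroup.mem_zpowers_iff.mp ha
    have hzc : (z : Q) ∈ Subgroup.center Q := z.2
    exact (Subgroup.mem_center_iff.mp (Subgroup.zpow_mem _ hzc i)) g
  have hZ₀n : Z₀.Normal := by
    constructor
    intro n hn g
    have : g * n * g⁻¹ = n := by rw [hZ₀c n hn g]; group
    rwa [this]
  have claim : ∀ L : Subgroup Q, Nat.card L = p → L = Z₀ := by
    intro L hL
    by_contra hne
    have hLcyc : IsCyclic L := isCyclic_of_prime_card hL
    have hLcomm : ∀ a ∈ L, ∀ b ∈ L, a * b = b * a := by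
      intro a ha b hb
      have := hLcyc.isMulCommutative.is_comm.comm (⟨a, ha⟩ : L) ⟨b, hb⟩
      exact congrArg Subtype.val this
    have hLpow : ∀ a ∈ L, a ^ p = 1 := by
      intro a ha
      have := pow_card_eq_one' (G := L) (x := ⟨a, ha⟩)
      rw [hL] at this
      exact congrArg Subtype.val this
    have hZpow : ∀ a ∈ Z₀, a ^ p = 1 := by
      intro a ha
      have := pow_card_eq_one' (G := Z₀) (x := ⟨a, ha⟩)
      rw [hZ₀card] at this
      exact congrArg Subtype.val this
    have hAcomm : ∀ a ∈ L ⊔ Z₀, ∀ b ∈ L ⊔ Z₀, a * b = b * a := by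
      intro a ha b hb
      obtain ⟨h, hh, z', hz', rfl⟩ := Subgroup.mem_sup_of_normal_right.mp ha
      obtain ⟨h', hh', z'', hz'', rfl⟩ := Subgroup.mem_sup_of_normal_right.mp hb
      have c1 : Commute h h' := hLcomm h hh h' hh'
      have c2 : Commute h z'' := hZ₀c z'' hz'' h
      have c3 : Commute z' h' := (hZ₀c z' hz' h').symm
      have c4 : Commute z' z'' := (hZ₀c z' hz' z'').symm
      exact (c1.mul_right c2).mul_left (c3.mul_right c4)
    have hApow : ∀ a ∈ L ⊔ Z₀, a ^ p = 1 := by
      intro a ha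
      obtain ⟨h, hh, z', hz', rfl⟩ := Subgroup.mem_sup_of_normal_right.mp ha
      have c : Commute h z' := hZ₀c z' hz' h
      rw [c.mul_pow, hLpow h hh, hZpow z' hz', one_mul]
    have hle := hrk (L ⊔ Z₀) hAcomm hApow
    have hLA : L = L ⊔ Z₀ := by
      apply Subgroup.eq_of_le_of_card_ge le_sup_left
      rw [hL]; exact hle
    have hZL : Z₀ ≤ L := by rw [hLA]; exact le_sup_right
    exact hne (Subgroup.eq_of_le_of_card_ge hZL (by rw [hL, hZ₀card])).symm
  rw [claim H hH, claim K hK]

/-- Let G be a finite group and p an odd prime such that G has p-rank at most 1 (no elementary abelian subgroup of order p²). If x ∈ G is an isolated element of order p, then x is central modulo the largest normal subgroup of G of order prime to p. -/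
theorem result {G : Type*} [Group G] [Finite G] {p : ℕ} [Fact p.Prime] (hp : p ≠ 2) (hrk : Cfsg.PRankLE p 1 G) (x : G) (hx : orderOf x = p) (hiso : Cfsg.IsIsolated x) : Cfsg.InZStar p x := by
  have hpp : p.Prime := Fact.out
  have hcyc : ∀ P : Sylow p G, IsCyclic ↥(P : Subgroup G) := by
    intro P
    have hPp : IsPGroup p ↥(P : Subgroup G) := P.isPGroup'
    have hrk' : ∀ A : Subgroup ↥(P : Subgroup G), (∀ a ∈ A, ∀ b ∈ A, a * b = b * a) →
        (∀ a ∈ A, a ^ p = 1) → Nat.card A ≤ p := by
      intro A hAc hAp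
      have hcard : Nat.card ↥(A.map (P : Subgroup G).subtype) = Nat.card A :=
        (Nat.card_congr (A.equivMapOfInjective _ (P : Subgroup G).subtype_injective).toEquiv).symm
      rw [← hcard]
      have := hrk (A.map (P : Subgroup G).subtype) ?_ ?_
      · simpa using this
      · refine ⟨⟨?_⟩⟩
        rintro ⟨_, ⟨a, ha, rfl⟩⟩ ⟨_, ⟨b, hb, rfl⟩⟩
        apply Subtype.ext
        have := hAc a ha b hb
        have := congrArg Subtype.val this
        simpa using this
      · rintro _ ⟨a, ha, rfl⟩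
        have := hAp a ha
        have := congrArg Subtype.val this
        simpa using this
    have huniq := unique_card_prime_of_rank_one hPp hrk'
    rcases Cfsg.Agent.S0016.result p hPp huniq with h | ⟨h2, -⟩
    · exact h
    · exact absurd h2 hp
  have hx1 : x ≠ 1 := by
    intro h
    rw [h, orderOf_one] at hx
    exact hpp.one_lt.ne hx
  have hnpc := Cfsg.Agent.Helper15.hasNormalPComplement_of_isolated (p := p) x
    ⟨1, by rw [pow_one]; exact hx⟩ hiso hx1 hcyc
  obtain ⟨P, N, hNn, hcompl⟩ := hnpc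
  have hcardmul : Nat.card N * Nat.card (P : Subgroup G) = Nat.card G := hcompl.card_mul_card
  have hNcop : (Nat.card N).Coprime p := by
    have hPc : Nat.card (P : Subgroup G) = p ^ (Nat.card G).factorization p := P.card_eq_multiplicity
    have hG0 : Nat.card G ≠ 0 := Nat.card_pos.ne'
    have h1 : Nat.card N = Nat.card G / p ^ (Nat.card G).factorization p := by
      have h0 : Nat.card N * p ^ (Nat.card G).factorization p = Nat.card G := by
        rw [← hPc]; exact hcardmul
      exact (Nat.div_eq_of_eq_mul_left (pow_pos hpp.pos _) h0.symm).symm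
    rw [h1]
    exact (Nat.coprime_ordCompl hpp hG0).symm
  have hNle : N ≤ Cfsg.pPrimeCore p G := Cfsg.Agent.Helper7.le_pPrimeCore hNn hNcop
  have hPcomm : ∀ a ∈ (P : Subgroup G), ∀ b ∈ (P : Subgroup G), a * b = b * a := by
    intro a ha b hb
    have := (hcyc P).isMulCommutative.is_comm.comm (⟨a, ha⟩ : (P : Subgroup G)) ⟨b, hb⟩
    exact congrArg Subtype.val this
  have hdecomp : ∀ g : G, ∃ n ∈ N, ∃ u ∈ (P : Subgroup G), g = n * u := by
    intro g
    obtain ⟨⟨n, u⟩, hnu⟩ := hcompl.2 g
    exact ⟨n, n.2, u, u.2, hnu.symm⟩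
  intro g
  apply hNle
  obtain ⟨n, hn, u, hu, rfl⟩ := hdecomp g
  obtain ⟨n', hn', u', hu', rfl⟩ := hdecomp x
  rw [← QuotientGroup.eq_one_iff (N := N)]
  have e1 : ((n : G) : G ⧸ N) = 1 := (QuotientGroup.eq_one_iff n).mpr hn
  have e2 : ((n' : G) : G ⧸ N) = 1 := (QuotientGroup.eq_one_iff n').mpr hn'
  have e3 : ((u * u' : G) : G ⧸ N) = ((u' * u : G) : G ⧸ N) := by rw [hPcomm u hu u' hu']
  simp only [QuotientGroup.mk_mul, QuotientGroup.mk_inv, e1, e2, one_mul] at e3 ⊢
  rw [e3]
  group

end Cfsg.Agent.S2971
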