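import Cfsg.Statements.S2998
import Mathlib
import Cfsg.Agent.Helper19.Sylow
import Cfsg.Agent.Helper1.SylowBasic
import Cfsg.Agent.Helper15.Large

set_option autoImplicit false
open Cfsg

namespace Cfsg.Agent.S2998


/-- `|HN : H| = |N : H ∩ N|` for `N` normal. -/
theorem relIndex_sup_normal {G : Type*} [Group G] [Finite G] (H N : Subgroup G) [N.Normal] :
    H.relIndex (H ⊔ N) = (H ⊓ N).relIndex N := by
  have h1 : (H ⊓ N).relIndex H * H.relIndex (H ⊔ N) = (H ⊓ N).relIndex (H ⊔ N) :=
    Subgroup.relIndex_mul_relIndex _ _ _ inf_le_left le_sup_left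
  have h2 : (H ⊓ N).relIndex N * N.relIndex (H ⊔ N) = (H ⊓ N).relIndex (H ⊔ N) :=
    Subgroup.relIndex_mul_relIndex _ _ _ inf_le_right le_sup_right
  have h3 : N.relIndex (H ⊔ N) = (H ⊓ N).relIndex H := by
    rw [Subgroup.relIndex_sup_right, Subgroup.inf_relIndex_left]
  have h4 : (H ⊓ N).relIndex H ≠ 0 := by
    rw [Subgroup.relIndex]; exact Subgroup.index_ne_zero_of_finite
  rw [h3, ← h1, mul_comm] at h2
  exact (Nat.eq_of_mul_eq_mul_left (Nat.pos_of_ne_zero h4) h2).symm

/-- Let G be a finite group, p a prime, P a Sylow p-subgroup of G and x ∈ P an element such that N_G(R) ≤ C_G(x) for every nontrivial subgroup R of P. Then P ≤ C_G(x); every G-conjugate of x lying in P equals x (so g ∈ C_G(x) whenever g x g⁻¹ ∈ P); and for every normal subgroup N of G, the image of x in G ⧸ N has the same property with respect to the image of P: the normalizer of every nontrivial subgroup of the image of P centralizes the image of x. -/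
theorem result {G : Type*} [Group G] [Finite G] {p : ℕ} [Fact p.Prime] (P : Sylow p G) (x : G) (hxP : x ∈ (P : Subgroup G)) (hlc : ∀ R : Subgroup G, R ≤ (P : Subgroup G) → R ≠ ⊥ → Subgroup.normalizer (R : Set G) ≤ Subgroup.centralizer ({x} : Set G)) : (P : Subgroup G) ≤ Subgroup.centralizer ({x} : Set G) ∧ (∀ g : G, g * x * g⁻¹ ∈ (P : Subgroup G) → g * x * g⁻¹ = x) ∧ ∀ (N : Subgroup G) [N.Normal], ∀ R : Subgroup (G ⧸ N), R ≤ (P : Subgroup G).map (QuotientGroup.mk' N) → R ≠ ⊥ → Subgroup.normalizer (R : Set (G ⧸ N)) ≤ Subgroup.centralizer ({(QuotientGroup.mk x : G ⧸ N)} : Set (G ⧸ N)) := by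
  have hp : p.Prime := Fact.out
  -- part 1
  have h1 : (P : Subgroup G) ≤ Subgroup.centralizer ({x} : Set G) := by
    by_cases hP : (P : Subgroup G) = ⊥
    · intro u hu
      rw [hP, Subgroup.mem_bot] at hxP
      rw [Subgroup.mem_centralizer_singleton_iff, hxP]
      simp
    · exact Subgroup.le_normalizer.trans (hlc _ le_rfl hP)
  -- part 2
  have h2 : ∀ g : G, g * x * g⁻¹ ∈ (P : Subgroup G) → g ∈ Subgroup.centralizer ({x} : Set G) := by
    intro g hg
    by_cases hx1 : x = 1
    · rw [Subgroup.mem_centralizer_singleton_iff, hx1]; simp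
    set y := g * x * g⁻¹ with hy
    have hy1 : y ≠ 1 := by
      intro h
      apply hx1
      have : x = g⁻¹ * y * g := by rw [hy]; group
      rw [this, h]; group
    have hzy : Subgroup.zpowers y ≤ (P : Subgroup G) := by
      rw [Subgroup.zpowers_le]; exact hg
    have hzy1 : Subgroup.zpowers y ≠ ⊥ := by
      rw [Ne, Subgroup.zpowers_eq_bot]; exact hy1
    have hCy : Subgroup.centralizer ({y} : Set G) ≤ Subgroup.centralizer ({x} : Set G) :=
      (Cfsg.Agent.Helper15.centralizer_singleton_le_normalizer_zpowers y).trans (hlc _ hzy hzy1)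
    have hPne : (P : Subgroup G) ≠ ⊥ := by
      intro h
      rw [h, Subgroup.mem_bot] at hxP
      exact hx1 hxP
    have hgP : ((g • P : Sylow p G) : Subgroup G) ≤ Subgroup.centralizer ({x} : Set G) := by
      intro u hu
      apply hCy
      have hu := (Cfsg.Agent.Helper1.mem_sylow_smul_iff P g u).mp hu
      have hc := h1 hu
      rw [Subgroup.mem_centralizer_singleton_iff] at hc ⊢
      -- hc : g⁻¹ * u * g * x = x * (g⁻¹ * u * g)
      have e1 : u * y = g * ((g⁻¹ * u * g) * x) * g⁻¹ := by rw [hy]; group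
      have e2 : y * u = g * (x * (g⁻¹ * u * g)) * g⁻¹ := by rw [hy]; group
      rw [e1, e2, hc]
    obtain ⟨c, hc, hcP⟩ := Cfsg.Agent.Helper1.sylow_conj_in_subgroup P (g • P) _ h1 hgP
    have hn : c⁻¹ * g ∈ Subgroup.normalizer ((P : Subgroup G) : Set G) := by
      apply Sylow.smul_eq_iff_mem_normalizer.mp
      rw [mul_smul, ← hcP, inv_smul_smul]
    have hcg : c⁻¹ * g ∈ Subgroup.centralizer ({x} : Set G) := hlc _ le_rfl hPne hn
    have : g = c * (c⁻¹ * g) := by group
    rw [this]
    exact Subgroup.mul_mem _ hc hcg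
  refine ⟨h1, ?_, ?_⟩
  · intro g hg
    have := h2 g hg
    rw [Subgroup.mem_centralizer_singleton_iff] at this
    rw [this]; group
  · intro N _ R hRP hR1
    set π := QuotientGroup.mk' N with hπ
    have hπs : Function.Surjective π := QuotientGroup.mk'_surjective N
    set R₀ : Subgroup G := R.comap π with hR₀
    set R₁ : Subgroup G := (P : Subgroup G) ⊓ R₀ with hR₁
    have hNR₀ : N ≤ R₀ := by
      intro n hn
      rw [hR₀, Subgroup.mem_comap]
      have : π n = 1 := (QuotientGroup.eq_one_iff n).mpr hn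
      rw [this]; exact R.one_mem
    -- lifting elements of R₀ into R₁ modulo N
    have hlift : ∀ r ∈ R₀, ∃ u ∈ R₁, π u = π r := by
      intro r hr
      have : π r ∈ (P : Subgroup G).map π := hRP hr
      obtain ⟨u, hu, hur⟩ := this
      refine ⟨u, ⟨hu, ?_⟩, hur⟩
      show u ∈ R.comap π
      rw [Subgroup.mem_comap, hur]; exact hr
    have hR₀sup : R₀ = R₁ ⊔ N := by
      apply le_antisymm
      · intro r hr
        obtain ⟨u, hu, hur⟩ := hlift r hr
        have hn : u⁻¹ * r ∈ N := by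
          rw [← QuotientGroup.eq_one_iff, ← QuotientGroup.mk'_apply, ← hπ, map_mul, map_inv, hur]
          simp
        have : r = u * (u⁻¹ * r) := by group
        rw [this]
        exact Subgroup.mul_mem _ (Subgroup.mem_sup_left hu) (Subgroup.mem_sup_right hn)
      · exact sup_le inf_le_right hNR₀
    have hR₁ne : R₁ ≠ ⊥ := by
      intro h
      apply hR1
      rw [Subgroup.eq_bot_iff_forall]
      intro r hr
      obtain ⟨r', rfl⟩ := hπs r
      obtain ⟨u, hu, hur⟩ := hlift r' hr
      rw [h, Subgroup.mem_bot] at hu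
      rw [← hur, hu, map_one]
    have hR₁P : R₁ ≤ (P : Subgroup G) := inf_le_left
    have hNR₁ : Subgroup.normalizer (R₁ : Set G) ≤ Subgroup.centralizer ({x} : Set G) :=
      hlc R₁ hR₁P hR₁ne
    -- index computation
    have hidx : ¬ p ∣ R₁.relIndex R₀ := by
      have e1 : R₁.relIndex R₀ = (R₁ ⊓ N).relIndex N := by
        rw [hR₀sup]; exact relIndex_sup_normal R₁ N
      have e2 : R₁ ⊓ N = (P : Subgroup G) ⊓ N := by
        rw [hR₁, inf_assoc, inf_of_le_right hNR₀]
      have e3 : ((P : Subgroup G) ⊓ N).relIndex N = (P : Subgroup G).relIndex ((P : Subgroup G) ⊔ N) :=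
        (relIndex_sup_normal _ N).symm
      rw [e1, e2, e3]
      intro hdvd
      apply P.not_dvd_index
      rw [← Subgroup.relIndex_mul_index (le_sup_left : (P : Subgroup G) ≤ (P : Subgroup G) ⊔ N)]
      exact Dvd.dvd.mul_right hdvd _
    intro gbar hgbar
    obtain ⟨g, rfl⟩ := hπs gbar
    -- g normalizes R₀
    have hgR₀ : ∀ r ∈ R₀, g * r * g⁻¹ ∈ R₀ := by
      intro r hr
      rw [hR₀, Subgroup.mem_comap, map_mul, map_mul, map_inv]
      exact (Subgroup.mem_normalizer_iff.mp hgbar _).mp hr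
    set R₂ : Subgroup G := R₁.map (MulAut.conj g).toMonoidHom with hR₂
    have hR₂R₀ : R₂ ≤ R₀ := by
      rintro _ ⟨r, hr, rfl⟩
      exact hgR₀ r hr.2
    have hcard : Nat.card R₂ = Nat.card R₁ :=
      (Nat.card_congr (R₁.equivMapOfInjective _ (MulAut.conj g).injective).toEquiv).symm
    obtain ⟨k, hk, hkR⟩ := Cfsg.Agent.Helper19.exists_conj_eq_of_card_eq
      (P.isPGroup'.to_le hR₁P) (inf_le_right : R₁ ≤ R₀) hR₂R₀ hidx hcard
    -- k⁻¹ g normalizes R₁
    have hn : k⁻¹ * g ∈ Subgroup.normalizer (R₁ : Set G) := by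
      apply Subgroup.mem_normalizer_fintype
      intro r hr
      have : g * r * g⁻¹ ∈ R₂ := Cfsg.Agent.Helper19.conj_mem_map_conj g hr
      rw [hkR, Cfsg.Agent.Helper19.mem_map_conj] at this
      have e : k⁻¹ * g * r * (k⁻¹ * g)⁻¹ = k⁻¹ * (g * r * g⁻¹) * k := by group
      rw [e]; exact this
    have hc1 : k⁻¹ * g ∈ Subgroup.centralizer ({x} : Set G) := hNR₁ hn
    obtain ⟨u, hu, huk⟩ := hlift k hk
    have hc2 : u ∈ Subgroup.centralizer ({x} : Set G) := h1 (hR₁P hu)
    have hc3 : u * (k⁻¹ * g) ∈ Subgroup.centralizer ({x} : Set G) := Subgroup.mul_mem _ hc2 hc1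
    have hπg : π g = π (u * (k⁻¹ * g)) := by
      rw [map_mul, huk, ← map_mul]
      congr 1; group
    rw [hπg]
    rw [Subgroup.mem_centralizer_singleton_iff] at hc3 ⊢
    show π (u * (k⁻¹ * g)) * π x = π x * π (u * (k⁻¹ * g))
    rw [← map_mul, ← map_mul, hc3]

end Cfsg.Agent.S2998
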