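import Cfsg.Statements.S3001
import Cfsg.Agent.Helper28.S3000Strong
import Cfsg.Agent.Helper27.S3001TOP
import Cfsg.Agent.Helper23.S3001ENDGAME

set_option autoImplicit false
open Cfsg

namespace Cfsg.Agent.S3001

open Cfsg.Agent.S2789P Cfsg.Agent.S2999P Cfsg.Agent.S3000P Cfsg.Agent.S3001P

theorem result {G : Type*} [Group G] [Finite G] {p : ℕ} [Fact p.Prime] (V P : Subgroup G) (hV : Cfsg.IsElementaryAbelian p V) (hPV : P ≤ Subgroup.normalizer (V : Set G)) (hfaith : P ⊓ Subgroup.centralizer (V : Set G) = ⊥) (hmin : Cfsg.IsPMinimal p ↥P) (hOp : Cfsg.pCore p ↥P = ⊥) (hoff : ∃ A : Subgroup G, A ≤ P ∧ ¬ A ≤ Subgroup.centralizer (V : Set G) ∧ Cfsg.IsBestOffenderOn p V A) (T : Sylow p ↥P) : ⁅(V ⊓ Subgroup.centralizer ((((T : Subgroup ↥P).map P.subtype) : Subgroup G) : Set G)), P⁆ ≠ ⊥ := by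
  have H : Hyp1 p V P := ⟨hV, hPV, hfaith, hmin, hOp⟩
  obtain ⟨r, E, hC, hT⟩ := QCONCLS_core H (fun That Mhat Hy ho => strong Hy ho) hoff T
  exact ENDGAME H T hC hT

end Cfsg.Agent.S3001
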