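import Cfsg.Statements.S3012
import Mathlib

set_option autoImplicit false
open Cfsg

namespace Cfsg.Agent.S3012

/-- Let G be a finite group, V a nontrivial elementary abelian 2-subgroup of G satisfying the Sidki pair condition (every odd-order element inverted by an element of V commutes with a nontrivial element of V), and K a normal subgroup of G with V ∩ K = 1. Then the image of V in G/K satisfies the Sidki pair condition in G/K. -/
theorem result {G : Type*} [Group G] [Finite G] (V K : Subgroup G) [K.Normal] (hV : Cfsg.IsElementaryAbelian 2 V) (hV1 : V ≠ ⊥) (hS : Cfsg.IsSidkiPair V) (hVK : V ⊓ K = ⊥) : Cfsg.IsSidkiPair (V.map (QuotientGroup.mk' K)) := by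
  intro hbar vbar hvbar hodd hinv
  obtain ⟨v, hvV, rfl⟩ := hvbar
  obtain ⟨h, rfl⟩ := QuotientGroup.mk_surjective hbar
  have hv2 : v * v = 1 := by
    have := hV.2 v hvV
    rwa [pow_two] at this
  have hvinv : v⁻¹ = v := inv_eq_of_mul_eq_one_left hv2
  set x : G := v * (h⁻¹ * v * h) with hx
  have hinvx : v * x * v⁻¹ = x⁻¹ := by
    rw [hx, hvinv]
    have e1 : v * (v * (h⁻¹ * v * h)) * v = (v * v) * (h⁻¹ * v * h * v) := by group
    have e2 : (v * (h⁻¹ * v * h))⁻¹ = h⁻¹ * v⁻¹ * h * v⁻¹ := by group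
    rw [e1, e2, hv2, hvinv, one_mul]
  -- image of x is (π h)^2
  have hπx : (QuotientGroup.mk' K x) = (QuotientGroup.mk' K h) ^ 2 := by
    have h1 : (QuotientGroup.mk' K v) * (QuotientGroup.mk' K h) * (QuotientGroup.mk' K v)⁻¹ =
        (QuotientGroup.mk' K h)⁻¹ := hinv
    have hv' : (QuotientGroup.mk' K v)⁻¹ = QuotientGroup.mk' K v := by
      rw [← map_inv, hvinv]
    rw [hv'] at h1
    have h2 : (QuotientGroup.mk' K v) * (QuotientGroup.mk' K h)⁻¹ * (QuotientGroup.mk' K v) =
        QuotientGroup.mk' K h := by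
      have := congrArg (fun y => y⁻¹) h1
      simp only [mul_inv_rev, inv_inv] at this
      rw [hv'] at this
      rw [← mul_assoc] at this
      exact this
    rw [hx, map_mul, map_mul, map_mul, map_inv, pow_two]
    calc (QuotientGroup.mk' K v) * ((QuotientGroup.mk' K h)⁻¹ * (QuotientGroup.mk' K v) *
          (QuotientGroup.mk' K h))
        = ((QuotientGroup.mk' K v) * (QuotientGroup.mk' K h)⁻¹ * (QuotientGroup.mk' K v)) *
          (QuotientGroup.mk' K h) := by group
      _ = (QuotientGroup.mk' K h) * (QuotientGroup.mk' K h) := by rw [h2]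
  obtain ⟨k, m', hm', hkm⟩ := Nat.exists_eq_two_pow_mul_odd (orderOf_pos x).ne'
  set x' : G := x ^ (2 ^ k) with hx'
  have hordx' : orderOf x' = m' := by
    rw [hx', orderOf_pow' x (pow_ne_zero k two_ne_zero), hkm, Nat.gcd_eq_right (Dvd.intro _ rfl),
      Nat.mul_div_cancel_left m' (pow_pos two_pos k)]
  have hinvx' : v * x' * v⁻¹ = x'⁻¹ := by
    rw [hx', ← conj_pow, hinvx, inv_pow]
  obtain ⟨w, hwV, hw1, hwx⟩ := hS x' v hvV (by rw [hordx']; exact hm') hinvx'
  refine ⟨QuotientGroup.mk' K w, ⟨w, hwV, rfl⟩, ?_, ?_⟩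
  · intro h1
    have hwK : w ∈ K := by
      rw [← QuotientGroup.eq_one_iff (N := K)]
      exact h1
    have : w ∈ V ⊓ K := ⟨hwV, hwK⟩
    rw [hVK, Subgroup.mem_bot] at this
    exact hw1 this
  · have hcomm : Commute (QuotientGroup.mk' K w) ((QuotientGroup.mk' K h) ^ (2 ^ (k + 1))) := by
      have e : (QuotientGroup.mk' K h) ^ (2 ^ (k + 1)) = QuotientGroup.mk' K x' := by
        rw [hx', map_pow, hπx, ← pow_mul, pow_succ, mul_comm]
      rw [e]
      show QuotientGroup.mk' K w * QuotientGroup.mk' K x' = QuotientGroup.mk' K x' * QuotientGroup.mk' K w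
      rw [← map_mul, ← map_mul, hwx]
    have hcop : (2 ^ (k + 1)).Coprime (orderOf (QuotientGroup.mk' K h)) := by
      apply Nat.Coprime.pow_left
      exact Nat.coprime_two_left.mpr hodd
    obtain ⟨j, hj⟩ := exists_pow_eq_self_of_coprime hcop
    have := hcomm.pow_right j
    rw [hj] at this
    exact this

end Cfsg.Agent.S3012
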