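import Cfsg.Statements.S3013
import Mathlib

set_option autoImplicit false
open Cfsg

namespace Cfsg.Agent.S3013

/-- Let G be a finite group and V a nontrivial elementary abelian 2-subgroup of G satisfying the Sidki pair condition. Let v ∈ V and let x be an element of odd order inverted by v, and put C = C_G(v) ∩ C_G(x), the centralizer of the dihedral subgroup generated by v and x. Then C ∩ V is nontrivial and satisfies the Sidki pair condition inside C: every odd-order element of C inverted by an element of C ∩ V commutes with a nontrivial element of C ∩ V. -/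
theorem result {G : Type*} [Group G] [Finite G] (V : Subgroup G) (hV : Cfsg.IsElementaryAbelian 2 V) (hV1 : V ≠ ⊥) (hS : Cfsg.IsSidkiPair V) (v x : G) (hv : v ∈ V) (hx : Odd (orderOf x)) (hinv : v * x * v⁻¹ = x⁻¹) (C : Subgroup G) (hC : C = Subgroup.centralizer ({v} : Set G) ⊓ Subgroup.centralizer ({x} : Set G)) : C ⊓ V ≠ ⊥ ∧ Cfsg.IsSidkiPair ((C ⊓ V).subgroupOf C) := by
  subst hC
  have hVcomm : ∀ a ∈ V, ∀ b ∈ V, a * b = b * a := by
    intro a ha b hb
    obtain ⟨⟨⟨hc⟩⟩, -⟩ := hV
    simpa using congrArg Subtype.val (hc ⟨a, ha⟩ ⟨b, hb⟩)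
  have hmemC : ∀ w ∈ V, w * x = x * w →
      w ∈ Subgroup.centralizer ({v} : Set G) ⊓ Subgroup.centralizer ({x} : Set G) := by
    intro w hw hwx
    rw [Subgroup.mem_inf, Subgroup.mem_centralizer_singleton_iff,
      Subgroup.mem_centralizer_singleton_iff]
    exact ⟨hVcomm w hw v hv, hwx⟩
  constructor
  · obtain ⟨w, hwV, hw1, hwx⟩ := hS x v hv hx hinv
    intro hbot
    have : w ∈ (Subgroup.centralizer ({v} : Set G) ⊓ Subgroup.centralizer ({x} : Set G)) ⊓ V :=
      ⟨hmemC w hwV hwx, hwV⟩
    rw [hbot, Subgroup.mem_bot] at this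
    exact hw1 this
  · intro h u hu hodd hinvh
    rw [Subgroup.mem_subgroupOf] at hu
    have huC : (u : G) ∈ Subgroup.centralizer ({v} : Set G) ⊓ Subgroup.centralizer ({x} : Set G) := hu.1
    have huV : (u : G) ∈ V := hu.2
    have hhC : (h : G) ∈ Subgroup.centralizer ({v} : Set G) ⊓ Subgroup.centralizer ({x} : Set G) := h.2
    rw [Subgroup.mem_inf, Subgroup.mem_centralizer_singleton_iff,
      Subgroup.mem_centralizer_singleton_iff] at huC hhC
    have hoddh : Odd (orderOf (h : G)) := by rw [Subgroup.orderOf_coe]; exact hodd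
    have hinvh' : (u : G) * (h : G) * (u : G)⁻¹ = (h : G)⁻¹ := by
      have := congrArg Subtype.val hinvh
      simpa using this
    have hxh : Commute x (h : G) := hhC.2.symm
    set y : G := x * (h : G) with hy
    have hyodd : Odd (orderOf y) := by
      have h1 : orderOf y ∣ Nat.lcm (orderOf x) (orderOf (h : G)) := hxh.orderOf_mul_dvd_lcm
      exact Odd.of_dvd_nat (hx.mul hoddh) (h1.trans (Nat.lcm_dvd_mul _ _))
    have htV : v * (u : G) ∈ V := V.mul_mem hv huV
    have hty : (v * (u : G)) * y * (v * (u : G))⁻¹ = y⁻¹ := by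
      have e1 : (v * (u : G)) * y * (v * (u : G))⁻¹ =
          v * (((u : G) * x * (u : G)⁻¹) * ((u : G) * (h : G) * (u : G)⁻¹)) * v⁻¹ := by
        rw [hy]; group
      have e2 : (u : G) * x * (u : G)⁻¹ = x := by
        rw [huC.2]; group
      rw [e1, e2, hinvh']
      have e3 : v * (x * (h : G)⁻¹) * v⁻¹ = (v * x * v⁻¹) * (v * (h : G) * v⁻¹)⁻¹ := by group
      have e4 : v * (h : G) * v⁻¹ = (h : G) := by
        rw [← hhC.1]; group
      rw [e3, hinv, e4, hy, mul_inv_rev, hxh.inv_inv.eq]
    obtain ⟨w, hwV, hw1, hwy⟩ := hS y (v * (u : G)) htV hyodd hty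
    -- w commutes with v y v⁻¹ = x⁻¹ h
    have hwv : w * v = v * w := hVcomm w hwV v hv
    have hvyv : v * y * v⁻¹ = x⁻¹ * (h : G) := by
      have e3 : v * (x * (h : G)) * v⁻¹ = (v * x * v⁻¹) * (v * (h : G) * v⁻¹) := by group
      have e4 : v * (h : G) * v⁻¹ = (h : G) := by
        rw [← hhC.1]; group
      rw [hy, e3, hinv, e4]
    have hw2 : Commute w (x⁻¹ * (h : G)) := by
      rw [← hvyv]
      have c1 : Commute w v := hwv
      have c2 : Commute w y := hwy
      exact (c1.mul_right c2).mul_right c1.inv_right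
    have hw3 : Commute w ((h : G) ^ 2) := by
      have c2 : Commute w y := hwy
      have := c2.mul_right hw2
      have e : y * (x⁻¹ * (h : G)) = (h : G) ^ 2 := by
        rw [hy, pow_two]
        have := hxh.eq
        calc x * (h : G) * (x⁻¹ * (h : G)) = (x * (h : G)) * x⁻¹ * (h : G) := by group
          _ = ((h : G) * x) * x⁻¹ * (h : G) := by rw [this]
          _ = (h : G) * (h : G) := by group
      rwa [e] at this
    have hw4 : Commute w (h : G) := by
      have hcop : (2 : ℕ).Coprime (orderOf (h : G)) := Nat.coprime_two_left.mpr hoddh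
      obtain ⟨j, hj⟩ := exists_pow_eq_self_of_coprime hcop
      have := hw3.pow_right j
      rwa [hj] at this
    have hw5 : Commute w x := by
      have c2 : Commute w y := hwy
      have := c2.mul_right hw4.inv_right
      have e : y * (h : G)⁻¹ = x := by rw [hy]; group
      rwa [e] at this
    have hwC := hmemC w hwV hw5.eq
    refine ⟨⟨w, hwC⟩, ?_, ?_, ?_⟩
    · rw [Subgroup.mem_subgroupOf]
      exact ⟨hwC, hwV⟩
    · intro h1
      exact hw1 (congrArg Subtype.val h1)
    · apply Subtype.ext
      exact hw4.eq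

end Cfsg.Agent.S3013
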