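import Cfsg.Statements.S3025
import Mathlib
import Cfsg.Agent.S0016

set_option autoImplicit false
open Cfsg

namespace Cfsg.Agent.S3025


theorem isCyclic_units_zmod_of_prime (n : ℕ) (h : n.Prime) : IsCyclic (ZMod n)ˣ := by
  have := Fact.mk h
  infer_instance

section
variable {F : Type*} [Group F] [Finite F]

theorem le_normalizer_of_normal' (M K : Subgroup F) (hM : M.Normal) :
    K ≤ Subgroup.normalizer (M : Set F) := by
  intro k _
  apply Subgroup.mem_normalizer_fintype
  intro n hn
  exact hM.conj_mem n hn k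

/-- the unique minimal normal subgroup is simple -/
theorem simple_of_min (H : Subgroup F) (hH : H ≠ ⊥)
    (hmin : ∀ R : Subgroup F, R ≠ ⊥ → H ≤ Subgroup.normalizer (R : Set F) → H ≤ R)
    (N : Subgroup F) (hNn : N.Normal) (hN1 : N ≠ ⊥) (hHN : H ≤ N)
    (hNmin : ∀ M : Subgroup F, M.Normal → M ≠ ⊥ → N ≤ M) : IsSimpleGroup ↥N := by
  have hnt : Nontrivial ↥N := (Subgroup.nontrivial_iff_ne_bot N).mpr hN1
  refine { eq_bot_or_eq_top_of_normal := ?_ }
  intro T' hT'n
  by_cases hT'1 : T' = ⊥
  · exact Or.inl hT'1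
  right
  set T : Subgroup F := T'.map N.subtype with hT
  have hTN : T ≤ N := Subgroup.map_subtype_le T'
  have hT1 : T ≠ ⊥ := by
    intro h
    exact hT'1 ((Subgroup.map_eq_bot_iff_of_injective T' N.subtype_injective).mp h)
  -- N normalizes T
  have hNT : ∀ m ∈ N, ∀ t ∈ T, m * t * m⁻¹ ∈ T := by
    rintro m hm _ ⟨t', ht', rfl⟩
    exact ⟨⟨m, hm⟩ * t' * ⟨m, hm⟩⁻¹, hT'n.conj_mem t' ht' ⟨m, hm⟩, by simp⟩
  have hHD : H ≤ T.normalCore := by
    intro h hh
    show ∀ b : F, b * h * b⁻¹ ∈ T
    intro b
    set R : Subgroup F := T.map (MulAut.conj b⁻¹).toMonoidHom with hR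
    have hR1 : R ≠ ⊥ := by
      intro hbot
      exact hT1 ((Subgroup.map_eq_bot_iff_of_injective T (MulAut.conj b⁻¹).injective).mp hbot)
    have hnorm : H ≤ Subgroup.normalizer (R : Set F) := by
      intro n hn
      apply Subgroup.mem_normalizer_fintype
      rintro _ ⟨t, ht, rfl⟩
      have hm : b * n * b⁻¹ ∈ N := hNn.conj_mem n (hHN hn) b
      refine ⟨(b * n * b⁻¹) * t * (b * n * b⁻¹)⁻¹, hNT _ hm t ht, ?_⟩
      simp only [MulEquiv.toMonoidHom_eq_coe, MonoidHom.coe_coe, MulAut.conj_apply, inv_inv]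
      group
    obtain ⟨t, ht, hth⟩ := hmin R hR1 hnorm hh
    have : b * h * b⁻¹ = t := by
      rw [← hth]
      simp only [MulEquiv.toMonoidHom_eq_coe, MonoidHom.coe_coe, MulAut.conj_apply, inv_inv]
      group
    rw [this]; exact ht
  have hD1 : T.normalCore ≠ ⊥ := by
    intro h
    apply hH
    rw [eq_bot_iff, ← h]; exact hHD
  have hND : N ≤ T := (hNmin _ (Subgroup.normalCore_normal T) hD1).trans (Subgroup.normalCore_le T)
  rw [eq_top_iff]
  intro x _
  obtain ⟨x', hx', hxx⟩ := hND x.2
  have : x' = x := Subtype.ext hxx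
  rwa [← this]

end

/-- Let F be a finite group and H a nontrivial subgroup of F that is contained in every nontrivial subgroup of F which H normalizes. Then F has a nontrivial normal subgroup N contained in every nontrivial normal subgroup of F (a unique minimal normal subgroup), N is simple, and one of the following holds: C_F(N) = 1; or H = N has prime order p, C_F(N) is cyclic of order a power of p, and F/C_F(N) is cyclic of order dividing p − 1; or H = N has order 2, N is central in F, and F is a generalized quaternion group. -/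
theorem result {F : Type*} [Group F] [Finite F] (H : Subgroup F) (hH : H ≠ ⊥)
    (hmin : ∀ R : Subgroup F, R ≠ ⊥ → H ≤ Subgroup.normalizer (R : Set F) → H ≤ R) :
    ∃ N : Subgroup F, N.Normal ∧ N ≠ ⊥ ∧ (∀ M : Subgroup F, M.Normal → M ≠ ⊥ → N ≤ M) ∧ IsSimpleGroup ↥N ∧
      (Subgroup.centralizer (N : Set F) = ⊥ ∨
       (H = N ∧ (Nat.card N).Prime ∧ IsCyclic ↥(Subgroup.centralizer (N : Set F)) ∧
          (∃ k : ℕ, 1 ≤ k ∧ Nat.card ↥(Subgroup.centralizer (N : Set F)) = Nat.card N ^ k) ∧
          (∃ g : F, Subgroup.centralizer (N : Set F) ⊔ Subgroup.zpowers g = ⊤) ∧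
          (Subgroup.centralizer (N : Set F)).index ∣ Nat.card N - 1) ∨
       (H = N ∧ Nat.card N = 2 ∧ Subgroup.centralizer (N : Set F) = ⊤ ∧
          ∃ k : ℕ, 1 ≤ k ∧ Nonempty (F ≃* QuaternionGroup (2 ^ k)))) := by
  classical
  -- the minimal normal subgroup
  set N : Subgroup F := ⨅ M : {M : Subgroup F // M.Normal ∧ M ≠ ⊥}, (M : Subgroup F) with hNdef
  have hNn : N.Normal := Subgroup.normal_iInf_normal (fun M => M.2.1)
  have hHM : ∀ M : Subgroup F, M.Normal → M ≠ ⊥ → H ≤ M := fun M hMn hM1 =>
    hmin M hM1 (le_normalizer_of_normal' M H hMn)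
  have hHN : H ≤ N := le_iInf (fun M => hHM M M.2.1 M.2.2)
  have hN1 : N ≠ ⊥ := by
    intro h
    apply hH
    rw [eq_bot_iff, ← h]; exact hHN
  have hNmin : ∀ M : Subgroup F, M.Normal → M ≠ ⊥ → N ≤ M := fun M hMn hM1 =>
    iInf_le (fun M : {M : Subgroup F // M.Normal ∧ M ≠ ⊥} => (M : Subgroup F)) ⟨M, hMn, hM1⟩
  have hNs : IsSimpleGroup ↥N := simple_of_min H hH hmin N hNn hN1 hHN hNmin
  refine ⟨N, hNn, hN1, hNmin, hNs, ?_⟩
  set C : Subgroup F := Subgroup.centralizer (N : Set F) with hC
  by_cases hC1 : C = ⊥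
  · exact Or.inl hC1
  right
  have hCn : C.Normal := Subgroup.normal_centralizer
  have hNC : N ≤ C := hNmin C hCn hC1
  -- N commutative of prime order
  have hNcomm : ∀ a b : N, a * b = b * a := by
    intro a b
    have := (Subgroup.mem_centralizer_iff.mp (hNC a.2)) b b.2
    exact Subtype.ext this.symm
  have hprime : (Nat.card N).Prime := by
    letI : CommGroup N := { (inferInstance : Group N) with mul_comm := hNcomm }
    exact IsSimpleGroup.prime_card
  set p := Nat.card N with hp
  have hpf : Fact p.Prime := ⟨hprime⟩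
  have hHeq : H = N := by
    apply Subgroup.eq_of_le_of_card_ge hHN
    have hdvd : Nat.card H ∣ p := Subgroup.card_dvd_of_le hHN
    rcases (Nat.dvd_prime hprime).mp hdvd with h1 | h1
    · exact absurd (Subgroup.card_eq_one.mp h1) hH
    · rw [h1]
  -- every nontrivial subgroup of C contains N
  have hCsub : ∀ R : Subgroup F, R ≤ C → R ≠ ⊥ → N ≤ R := by
    intro R hRC hR1
    rw [← hHeq]
    apply hmin R hR1
    rw [hHeq]
    intro n hn
    apply Subgroup.mem_normalizer_fintype
    intro r hr
    have := (Subgroup.mem_centralizer_iff.mp (hRC hr)) n hn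
    -- this : n * r = r * n
    have e : n * r * n⁻¹ = r := by rw [this]; group
    rw [e]; exact hr
  -- C is a p-group
  have hCp : IsPGroup p ↥C := by
    have hcard : Nat.card C = p ^ (Nat.card C).primeFactorsList.length := by
      apply Nat.eq_prime_pow_of_unique_prime_dvd Nat.card_pos.ne'
      intro q hq hqd
      have := Fact.mk hq
      obtain ⟨c, hc⟩ := exists_prime_orderOf_dvd_card' q hqd
      have hz1 : Subgroup.zpowers (c : F) ≠ ⊥ := by
        rw [Ne, Subgroup.zpowers_eq_bot]
        intro h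
        have : orderOf (c : F) = q := by rw [Subgroup.orderOf_coe]; exact hc
        rw [h, orderOf_one] at this
        exact hq.one_lt.ne this
      have hle : N ≤ Subgroup.zpowers (c : F) :=
        hCsub _ (by rw [Subgroup.zpowers_le]; exact c.2) hz1
      have hdvd : p ∣ q := by
        have h1 : Nat.card (Subgroup.zpowers (c : F)) = q := by
          rw [Nat.card_zpowers, Subgroup.orderOf_coe]; exact hc
        rw [← h1]; exact Subgroup.card_dvd_of_le hle
      exact ((Nat.prime_dvd_prime_iff_eq hprime hq).mp hdvd).symm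
    exact IsPGroup.of_card hcard
  -- unique subgroup of order p in C
  have hCuniq : ∀ H' K' : Subgroup ↥C, Nat.card H' = p → Nat.card K' = p → H' = K' := by
    have claim : ∀ L : Subgroup ↥C, Nat.card L = p → L = N.subgroupOf C := by
      intro L hL
      symm
      apply Subgroup.eq_of_le_of_card_ge
      · have hL1 : L.map C.subtype ≠ ⊥ := by
          intro h
          have := (Subgroup.map_eq_bot_iff_of_injective L C.subtype_injective).mp h
          rw [this, Subgroup.card_bot] at hL
          exact hprime.one_lt.ne hL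
        have hle := hCsub (L.map C.subtype) (Subgroup.map_subtype_le L) hL1
        intro x hx
        obtain ⟨y, hy, hyx⟩ := hle (Subgroup.mem_subgroupOf.mp hx)
        have : y = x := Subtype.ext hyx
        rwa [← this]
      · rw [hL]
        have : Nat.card (N.subgroupOf C) = Nat.card N :=
          Nat.card_congr (Subgroup.subgroupOfEquivOfLe hNC).toEquiv
        rw [this]
    intro H' K' hH' hK'
    rw [claim H' hH', claim K' hK']
  -- the automorphism action
  set φ : F →* MulAut ↥N := MulAut.conjNormal with hφ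
  have hker : φ.ker = C := by
    ext g
    rw [MonoidHom.mem_ker]
    constructor
    · intro hg
      refine Subgroup.mem_centralizer_iff.mpr ?_
      intro n hn
      have h1 : (φ g) ⟨n, hn⟩ = ⟨n, hn⟩ := by rw [hg]; rfl
      have h2 := congrArg Subtype.val h1
      rw [hφ, MulAut.conjNormal_apply] at h2
      -- h2 : g * n * g⁻¹ = n
      have h3 : g * n = (g * n * g⁻¹) * g := by group
      rw [h3, h2]
    · intro hg
      ext n
      rw [hφ, MulAut.conjNormal_apply]
      have := (Subgroup.mem_centralizer_iff.mp hg) n n.2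
      -- this : n * g = g * n
      simp only [MulAut.one_apply]
      rw [← this]; group
  have hNcyc : IsCyclic ↥N := isCyclic_of_prime_card (p := p) rfl
  have hAutcyc : IsCyclic (MulAut ↥N) := by
    have h1 : IsCyclic (ZMod (Nat.card ↥N))ˣ := isCyclic_units_zmod_of_prime _ hprime
    exact isCyclic_of_surjective (IsCyclic.mulAutMulEquiv ↥N).symm
      (IsCyclic.mulAutMulEquiv ↥N).symm.surjective
  have hAutcard : Nat.card (MulAut ↥N) = p - 1 := by
    rw [IsCyclic.card_mulAut, Nat.totient_prime hprime]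
  have hidx : C.index ∣ p - 1 := by
    rw [← hker, Subgroup.index_ker, ← hAutcard]
    exact Subgroup.card_subgroup_dvd_card _
  have hgen : ∃ g : F, C ⊔ Subgroup.zpowers g = ⊤ := by
    have hrc : IsCyclic ↥φ.range := Subgroup.isCyclic _
    obtain ⟨⟨a, ⟨g, rfl⟩⟩, ha⟩ := hrc.exists_generator
    refine ⟨g, ?_⟩
    rw [eq_top_iff]
    intro x _
    obtain ⟨i, hi⟩ := Subgroup.mem_zpowers_iff.mp (ha ⟨φ x, x, rfl⟩)
    have hi' : (φ g) ^ i = φ x := by
      have := congrArg Subtype.val hi
      simpa using this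
    have hxk : x * (g ^ i)⁻¹ ∈ C := by
      rw [← hker, MonoidHom.mem_ker, map_mul, map_inv, map_zpow, hi']
      simp
    have : x = (x * (g ^ i)⁻¹) * g ^ i := by group
    rw [this]
    exact Subgroup.mul_mem _ (Subgroup.mem_sup_left hxk)
      (Subgroup.mem_sup_right (Subgroup.zpow_mem _ (Subgroup.mem_zpowers g) i))
  have hCcard : ∃ k : ℕ, 1 ≤ k ∧ Nat.card ↥C = p ^ k := by
    obtain ⟨k, hk⟩ := IsPGroup.iff_card.mp hCp
    refine ⟨k, ?_, hk⟩
    rcases Nat.eq_zero_or_pos k with rfl | h
    · rw [pow_zero, Subgroup.card_eq_one] at hk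
      exact absurd hk hC1
    · exact h
  have alt2 : IsCyclic ↥C → (H = N ∧ (Nat.card N).Prime ∧ IsCyclic ↥C ∧
          (∃ k : ℕ, 1 ≤ k ∧ Nat.card ↥C = Nat.card N ^ k) ∧
          (∃ g : F, C ⊔ Subgroup.zpowers g = ⊤) ∧
          C.index ∣ Nat.card N - 1) := fun hcyc =>
    ⟨hHeq, hprime, hcyc, hCcard, hgen, hidx⟩
  rcases Cfsg.Agent.S0016.result p hCp hCuniq with hcyc | ⟨hp2, n, ⟨e⟩⟩
  · exact Or.inl (alt2 hcyc)
  · rcases Nat.eq_zero_or_pos n with rfl | hn
    · left
      apply alt2
      have : IsCyclic (QuaternionGroup (2 ^ 0)) := by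
        rw [pow_zero]; exact QuaternionGroup.quaternionGroup_one_isCyclic
      exact isCyclic_of_surjective e.symm e.symm.surjective
    · right
      have hCtop : C = ⊤ := by
        rw [hp2] at hidx
        have : C.index = 1 := Nat.dvd_one.mp hidx
        exact Subgroup.index_eq_one.mp this
      refine ⟨hHeq, hp2, hCtop, n, hn, ⟨?_⟩⟩
      exact (Subgroup.topEquiv.symm.trans (MulEquiv.subgroupCongr hCtop.symm)).trans e

end Cfsg.Agent.S3025
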