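import Cfsg.Statements.S3037
import Mathlib

set_option autoImplicit false
open Cfsg

namespace Cfsg.Agent.S3037


section
variable {X : Type*} [Group X] [Finite X]

omit [Finite X] in
/-- `|K| = |K : H ∩ K| · |H ∩ K|`. -/
theorem relIndex_mul_card_inf (H K : Subgroup X) :
    H.relIndex K * Nat.card ↥(H ⊓ K) = Nat.card K := by
  rw [← Subgroup.inf_relIndex_right H K, ← Subgroup.relIndex_bot_left (H ⊓ K),
    ← Subgroup.relIndex_bot_left K, mul_comm]
  exact Subgroup.relIndex_mul_relIndex _ _ _ bot_le inf_le_right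

theorem relIndex_ne_zero' (H K : Subgroup X) : H.relIndex K ≠ 0 := by
  rw [Subgroup.relIndex]; exact Subgroup.index_ne_zero_of_finite

theorem card_pos_real (H : Subgroup X) : (0 : ℝ) < (Nat.card H : ℝ) := by
  exact_mod_cast Nat.card_pos

/-- The inductive step: adjoining a "minimal offender" `B` to `K`. -/
theorem step (V K B : Subgroup X) (α : ℝ) (hα : 0 < α)
    (hK : (Nat.card V : ℝ) ≤ (Nat.card K : ℝ) ^ α *
      (Nat.card ↥(V ⊓ Subgroup.centralizer (K : Set X)) : ℝ))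
    (hB : (Nat.card V : ℝ) ≤ (Nat.card B : ℝ) ^ α *
      (Nat.card ↥(V ⊓ Subgroup.centralizer (B : Set X)) : ℝ))
    (hmin : ∀ D : Subgroup X, D ≤ B → D ≠ ⊥ → D ≠ B →
      (Nat.card D : ℝ) ^ α * (Nat.card ↥(V ⊓ Subgroup.centralizer (D : Set X)) : ℝ)
        ≤ (Nat.card V : ℝ)) :
    (Nat.card V : ℝ) ≤ (Nat.card ↥(K ⊔ B) : ℝ) ^ α *
      (Nat.card ↥(V ⊓ Subgroup.centralizer ((K ⊔ B : Subgroup X) : Set X)) : ℝ) := by
  set VK := V ⊓ Subgroup.centralizer (K : Set X) with hVK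
  set WB := V ⊓ Subgroup.centralizer (B : Set X) with hWB
  set VKB := V ⊓ Subgroup.centralizer ((K ⊔ B : Subgroup X) : Set X) with hVKB
  set r := WB.relIndex VK with hr
  set t := K.relIndex B with ht
  have h_r : r * Nat.card ↥(WB ⊓ VK) = Nat.card VK := relIndex_mul_card_inf WB VK
  have h_sub : WB ⊓ VK ≤ VKB := by
    intro x hx
    obtain ⟨⟨hxV, hxB⟩, ⟨_, hxK⟩⟩ := hx
    refine ⟨hxV, ?_⟩
    have h1 : K ≤ Subgroup.centralizer ({x} : Set X) := by
      intro k hk
      rw [Subgroup.mem_centralizer_singleton_iff]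
      exact ((Subgroup.mem_centralizer_iff.mp hxK) k hk)
    have h2 : B ≤ Subgroup.centralizer ({x} : Set X) := by
      intro k hk
      rw [Subgroup.mem_centralizer_singleton_iff]
      exact ((Subgroup.mem_centralizer_iff.mp hxB) k hk)
    refine Subgroup.mem_centralizer_iff.mpr ?_
    intro k hk
    have := (sup_le h1 h2) hk
    rw [Subgroup.mem_centralizer_singleton_iff] at this
    exact this
  have h_c : (Nat.card ↥(WB ⊓ VK) : ℝ) ≤ (Nat.card VKB : ℝ) := by
    exact_mod_cast Subgroup.card_le_of_le h_sub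
  have h2 : Nat.card K * t ≤ Nat.card ↥(K ⊔ B) := by
    have e1 : K.relIndex (K ⊔ B) * Nat.card ↥(K ⊓ (K ⊔ B)) = Nat.card ↥(K ⊔ B) :=
      relIndex_mul_card_inf K (K ⊔ B)
    rw [inf_of_le_left (le_sup_left : K ≤ K ⊔ B)] at e1
    have e2 : t ≤ K.relIndex (K ⊔ B) :=
      Subgroup.relIndex_le_of_le_right le_sup_right (relIndex_ne_zero' _ _)
    rw [← e1, mul_comm]
    exact Nat.mul_le_mul_right _ e2
  have key : (r : ℝ) ≤ (t : ℝ) ^ α := by
    by_cases hBK : B ≤ K
    · have h1 : VK ≤ WB := by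
        apply inf_le_inf le_rfl
        exact Subgroup.centralizer_le hBK
      have hr1 : r = 1 := Subgroup.relIndex_eq_one.mpr h1
      have ht1 : t = 1 := Subgroup.relIndex_eq_one.mpr hBK
      rw [hr1, ht1]
      simp
    · set D := K ⊓ B with hD
      set WD := V ⊓ Subgroup.centralizer (D : Set X) with hWD
      have hDB : D ≠ B := by
        intro h
        apply hBK
        rw [← h]; exact inf_le_left
      have hDle : (Nat.card D : ℝ) ^ α * (Nat.card WD : ℝ) ≤ (Nat.card V : ℝ) := by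
        by_cases hD0 : D = ⊥
        · have h1 : Nat.card D = 1 := by rw [hD0]; exact Subgroup.card_bot
          rw [h1]
          simp only [Nat.cast_one, Real.one_rpow, one_mul]
          exact_mod_cast Subgroup.card_le_of_le (inf_le_left : WD ≤ V)
        · exact hmin D inf_le_right hD0 hDB
      have hVKWD : VK ≤ WD := inf_le_inf le_rfl (Subgroup.centralizer_le (inf_le_left : D ≤ K))
      have hWBWD : WB ≤ WD := inf_le_inf le_rfl (Subgroup.centralizer_le (inf_le_right : D ≤ B))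
      set s := WB.relIndex WD with hs
      have hrs : r ≤ s := Subgroup.relIndex_le_of_le_right hVKWD (relIndex_ne_zero' _ _)
      have hs1 : s * Nat.card WB = Nat.card WD := by
        have := relIndex_mul_card_inf WB WD
        rwa [inf_of_le_left hWBWD] at this
      have ht1 : t * Nat.card D = Nat.card B := relIndex_mul_card_inf K B
      have hs1' : (s : ℝ) * (Nat.card WB : ℝ) = (Nat.card WD : ℝ) := by exact_mod_cast hs1
      have ht1' : (t : ℝ) * (Nat.card D : ℝ) = (Nat.card B : ℝ) := by exact_mod_cast ht1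
      have hWBpos := card_pos_real WB
      have hDpos := card_pos_real D
      have hapos : (0 : ℝ) < (Nat.card D : ℝ) ^ α := Real.rpow_pos_of_pos hDpos α
      have hBpow : (Nat.card B : ℝ) ^ α = (t : ℝ) ^ α * (Nat.card D : ℝ) ^ α := by
        rw [← ht1', Real.mul_rpow (Nat.cast_nonneg _) hDpos.le]
      have h3 : (Nat.card D : ℝ) ^ α * ((s : ℝ) * (Nat.card WB : ℝ)) ≤
          (t : ℝ) ^ α * (Nat.card D : ℝ) ^ α * (Nat.card WB : ℝ) := by
        rw [hs1', ← hBpow]
        exact hDle.trans hB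
      have h4 : (s : ℝ) ≤ (t : ℝ) ^ α := by
        have h5 : ((s : ℝ)) * ((Nat.card D : ℝ) ^ α * (Nat.card WB : ℝ)) ≤
            (t : ℝ) ^ α * ((Nat.card D : ℝ) ^ α * (Nat.card WB : ℝ)) := by
          nlinarith [h3]
        exact le_of_mul_le_mul_right h5 (mul_pos hapos hWBpos)
      exact (by exact_mod_cast hrs : (r : ℝ) ≤ (s : ℝ)).trans h4
  have h_r' : (Nat.card VK : ℝ) = (r : ℝ) * (Nat.card ↥(WB ⊓ VK) : ℝ) := by exact_mod_cast h_r.symm
  have hKpos := card_pos_real K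
  have hKpow : (0 : ℝ) ≤ (Nat.card K : ℝ) ^ α := Real.rpow_nonneg hKpos.le α
  have htnn : (0 : ℝ) ≤ (t : ℝ) := Nat.cast_nonneg _
  calc (Nat.card V : ℝ) ≤ (Nat.card K : ℝ) ^ α * (Nat.card VK : ℝ) := hK
    _ = (Nat.card K : ℝ) ^ α * ((r : ℝ) * (Nat.card ↥(WB ⊓ VK) : ℝ)) := by rw [h_r']
    _ ≤ (Nat.card K : ℝ) ^ α * ((t : ℝ) ^ α * (Nat.card VKB : ℝ)) := by
        apply mul_le_mul_of_nonneg_left _ hKpow
        exact mul_le_mul key h_c (Nat.cast_nonneg _) (Real.rpow_nonneg htnn α)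
    _ = ((Nat.card K : ℝ) * (t : ℝ)) ^ α * (Nat.card VKB : ℝ) := by
        rw [Real.mul_rpow hKpos.le htnn, mul_assoc]
    _ ≤ (Nat.card ↥(K ⊔ B) : ℝ) ^ α * (Nat.card VKB : ℝ) := by
        apply mul_le_mul_of_nonneg_right _ (Nat.cast_nonneg _)
        apply Real.rpow_le_rpow (mul_nonneg hKpos.le htnn) _ hα.le
        exact_mod_cast h2

end

/-- Let V and G be subgroups of a finite group with V an elementary abelian p-group (p prime) on which G acts faithfully and irreducibly by conjugation: G normalizes V, G ∩ C(V) = 1, and the only subgroups of V normalized by G are 1 and V. If for some nontrivial subgroup A of G and some real α > 0 one has |V| ≤ |A|^α · |C_V(A)|, then |V| ≤ |G|^α. -/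
theorem result {X : Type*} [Group X] [Finite X] {p : ℕ} [Fact p.Prime] (V G : Subgroup X) (hV : Cfsg.IsElementaryAbelian p V)
    (hGV : G ≤ Subgroup.normalizer (V : Set X)) (hfaith : G ⊓ Subgroup.centralizer (V : Set X) = ⊥)
    (hirr : ∀ W : Subgroup X, W ≤ V → G ≤ Subgroup.normalizer (W : Set X) → W = ⊥ ∨ W = V)
    (A : Subgroup X) (hA : A ≤ G) (hA1 : A ≠ ⊥) (α : ℝ) (hα : 0 < α)
    (hbig : (Nat.card V : ℝ) ≤ (Nat.card A : ℝ) ^ α * (Nat.card ↥(V ⊓ Subgroup.centralizer (A : Set X)) : ℝ)) :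
    (Nat.card V : ℝ) ≤ (Nat.card G : ℝ) ^ α := by
  classical
  let cv : Subgroup X → Subgroup X := fun Y => V ⊓ Subgroup.centralizer (Y : Set X)
  let Φ : Subgroup X → Prop := fun Y => Y ≤ G ∧ Y ≠ ⊥ ∧
    (Nat.card V : ℝ) ≤ (Nat.card Y : ℝ) ^ α * (Nat.card ↥(cv Y) : ℝ)
  have hex : ∃ n, ∃ Y, Φ Y ∧ Nat.card Y = n := ⟨_, A, ⟨hA, hA1, hbig⟩, rfl⟩
  obtain ⟨A₀, hA₀, hcard⟩ := Nat.find_spec hex
  have hmin : ∀ Y, Φ Y → Nat.card A₀ ≤ Nat.card Y := fun Y hY => by
    rw [hcard]; exact Nat.find_min' hex ⟨Y, hY, rfl⟩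
  obtain ⟨hA₀G, hA₀1, hA₀big⟩ := hA₀
  -- conjugates
  have hconj : ∀ g ∈ G, Φ (A₀.map (MulAut.conj g).toMonoidHom) := by
    intro g hg
    have hcardB : Nat.card ↥(A₀.map (MulAut.conj g).toMonoidHom) = Nat.card A₀ :=
      (Nat.card_congr (A₀.equivMapOfInjective _ (MulAut.conj g).injective).toEquiv).symm
    refine ⟨?_, ?_, ?_⟩
    · rintro _ ⟨a, ha, rfl⟩
      simp only [MulEquiv.toMonoidHom_eq_coe, MonoidHom.coe_coe, MulAut.conj_apply]
      exact G.mul_mem (G.mul_mem hg (hA₀G ha)) (G.inv_mem hg)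
    · intro h
      apply hA₀1
      rw [← Subgroup.card_eq_one] at h ⊢
      rw [← hcardB]; exact h
    · have hsub : (cv A₀).map (MulAut.conj g).toMonoidHom ≤
          cv (A₀.map (MulAut.conj g).toMonoidHom) := by
        rintro _ ⟨v, ⟨hvV, hvC⟩, rfl⟩
        simp only [MulEquiv.toMonoidHom_eq_coe, MonoidHom.coe_coe, MulAut.conj_apply]
        refine ⟨?_, ?_⟩
        · exact (Subgroup.mem_normalizer_iff.mp (hGV hg) v).mp hvV
        · refine Subgroup.mem_centralizer_iff.mpr ?_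
          rintro _ ⟨a, ha, rfl⟩
          simp only [MulEquiv.toMonoidHom_eq_coe, MonoidHom.coe_coe, MulAut.conj_apply]
          have := (Subgroup.mem_centralizer_iff.mp hvC) a ha
          have e1 : g * a * g⁻¹ * (g * v * g⁻¹) = g * (a * v) * g⁻¹ := by group
          have e2 : g * v * g⁻¹ * (g * a * g⁻¹) = g * (v * a) * g⁻¹ := by group
          rw [e1, e2, this]
      have hc1 : Nat.card ↥((cv A₀).map (MulAut.conj g).toMonoidHom) = Nat.card ↥(cv A₀) :=
        (Nat.card_congr ((cv A₀).equivMapOfInjective _ (MulAut.conj g).injective).toEquiv).symm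
      have hc2 : Nat.card ↥(cv A₀) ≤ Nat.card ↥(cv (A₀.map (MulAut.conj g).toMonoidHom)) := by
        rw [← hc1]; exact Subgroup.card_le_of_le hsub
      rw [hcardB]
      refine hA₀big.trans ?_
      apply mul_le_mul_of_nonneg_left _ (Real.rpow_nonneg (Nat.cast_nonneg _) α)
      exact_mod_cast hc2
  -- maximal K
  let Ψ : Subgroup X → Prop := fun K => K ≤ G ∧
    (Nat.card V : ℝ) ≤ (Nat.card K : ℝ) ^ α * (Nat.card ↥(cv K) : ℝ)
  obtain ⟨K, -, hKmax⟩ := exists_maximal_ge_of_wellFoundedGT Ψ A₀ ⟨hA₀G, hA₀big⟩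
  obtain ⟨⟨hKG, hKbig⟩, hKm⟩ := hKmax
  have hall : ∀ g ∈ G, A₀.map (MulAut.conj g).toMonoidHom ≤ K := by
    intro g hg
    obtain ⟨hBG, hB1, hBbig⟩ := hconj g hg
    have hcardB : Nat.card ↥(A₀.map (MulAut.conj g).toMonoidHom) = Nat.card A₀ :=
      (Nat.card_congr (A₀.equivMapOfInjective _ (MulAut.conj g).injective).toEquiv).symm
    have hΨ : Ψ (K ⊔ A₀.map (MulAut.conj g).toMonoidHom) := by
      refine ⟨sup_le hKG hBG, ?_⟩
      apply step V K _ α hα hKbig hBbig
      intro D hDB hD0 hDne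
      by_contra hcon
      push Not at hcon
      have hΦD : Φ D := ⟨hDB.trans hBG, hD0, hcon.le⟩
      have h1 := hmin D hΦD
      rw [← hcardB] at h1
      exact hDne (Subgroup.eq_of_le_of_card_ge hDB h1)
    exact le_sup_right.trans (hKm hΨ le_sup_left)
  -- the invariant subgroup
  set T : Set X := {y | ∃ g ∈ G, ∃ a ∈ A₀, y = g * a * g⁻¹} with hT
  set W₀ : Subgroup X := V ⊓ Subgroup.centralizer T with hW₀
  have hTK : T ⊆ (K : Set X) := by
    rintro _ ⟨g, hg, a, ha, rfl⟩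
    exact hall g hg ⟨a, ha, by simp [MulAut.conj_apply]⟩
  have hcvK : cv K ≤ W₀ := inf_le_inf le_rfl (Subgroup.centralizer_le hTK)
  have hGW₀ : G ≤ Subgroup.normalizer (W₀ : Set X) := by
    intro h hh
    apply Subgroup.mem_normalizer_fintype
    intro w hw
    obtain ⟨hwV, hwC⟩ := hw
    refine ⟨(Subgroup.mem_normalizer_iff.mp (hGV hh) w).mp hwV, ?_⟩
    refine Subgroup.mem_centralizer_iff.mpr ?_
    rintro _ ⟨g, hg, a, ha, rfl⟩
    have hmem : (h⁻¹ * g) * a * (h⁻¹ * g)⁻¹ ∈ T :=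
      ⟨h⁻¹ * g, G.mul_mem (G.inv_mem hh) hg, a, ha, rfl⟩
    have := (Subgroup.mem_centralizer_iff.mp hwC) _ hmem
    have e1 : g * a * g⁻¹ * (h * w * h⁻¹) = h * ((h⁻¹ * g) * a * (h⁻¹ * g)⁻¹ * w) * h⁻¹ := by group
    have e2 : h * w * h⁻¹ * (g * a * g⁻¹) = h * (w * ((h⁻¹ * g) * a * (h⁻¹ * g)⁻¹)) * h⁻¹ := by group
    rw [e1, e2, this]
  have hW₀bot : W₀ = ⊥ := by
    rcases hirr W₀ inf_le_left hGW₀ with h | h
    · exact h
    · exfalso
      apply hA₀1
      rw [eq_bot_iff, ← hfaith]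
      intro a ha
      refine ⟨hA₀G ha, ?_⟩
      refine Subgroup.mem_centralizer_iff.mpr ?_
      intro v hv
      have hvW : v ∈ W₀ := by rw [h]; exact hv
      have haT : a ∈ T := ⟨1, G.one_mem, a, ha, by simp⟩
      exact ((Subgroup.mem_centralizer_iff.mp hvW.2) a haT).symm
  have hcv1 : Nat.card ↥(cv K) = 1 := by
    have : cv K = ⊥ := by rw [eq_bot_iff, ← hW₀bot]; exact hcvK
    rw [this]; exact Subgroup.card_bot
  rw [hcv1] at hKbig
  simp only [Nat.cast_one, mul_one] at hKbig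
  refine hKbig.trans ?_
  apply Real.rpow_le_rpow (Nat.cast_nonneg _) _ hα.le
  exact_mod_cast Subgroup.card_le_of_le hKG

end Cfsg.Agent.S3037
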