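import Cfsg.Statements.S3048
import Cfsg.Agent.Helper15.SidkiMin4

set_option autoImplicit false
universe u
open Cfsg

namespace Cfsg.Agent.S3048

/-- Minimal counterexample reduction for the Sidki pair problem. Let G be a finite group and V a nontrivial elementary abelian 2-subgroup satisfying the Sidki pair condition with V ∩ O₂(G) = 1. Suppose that for every finite group H of smaller order, every nontrivial elementary abelian 2-subgroup W of H satisfying the Sidki pair condition meets O₂(H) nontrivially, and that the same holds in G for every such subgroup W of order smaller than that of V. Then the generalized Fitting subgroup F*(G) is a non-abelian simple group and G = V F*(G). -/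
theorem result {G : Type u} [Group G] [Finite G] (V : Subgroup G) (hV : Cfsg.IsElementaryAbelian 2 V) (hV1 : V ≠ ⊥) (hS : Cfsg.IsSidkiPair V) (hVO : V ⊓ Cfsg.pCore 2 G = ⊥) (hminG : ∀ (H : Type u) [Group H] [Finite H] (W : Subgroup H), Nat.card H < Nat.card G → Cfsg.IsElementaryAbelian 2 W → W ≠ ⊥ → Cfsg.IsSidkiPair W → W ⊓ Cfsg.pCore 2 H ≠ ⊥) (hminV : ∀ W : Subgroup G, Nat.card W < Nat.card V → Cfsg.IsElementaryAbelian 2 W → W ≠ ⊥ → Cfsg.IsSidkiPair W → W ⊓ Cfsg.pCore 2 G ≠ ⊥) : IsSimpleGroup ↥(Cfsg.generalizedFittingSubgroup G) ∧ ¬ IsMulCommutative ↥(Cfsg.generalizedFittingSubgroup G) ∧ V ⊔ Cfsg.generalizedFittingSubgroup G = ⊤ := by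
  have : Fact (Nat.Prime 2) := ⟨Nat.prime_two⟩
  have hmin : Cfsg.Agent.Helper15.SidkiMin.MinG G := hminG
  have hO := Cfsg.Agent.Helper15.SidkiMin.pCore_eq_bot hmin hV hV1 hS hVO
  have hminV' : ∀ W : Subgroup G, Nat.card W < Nat.card V → Cfsg.IsElementaryAbelian 2 W →
      W ≠ ⊥ → ¬ Cfsg.IsSidkiPair W := fun W h1 h2 h3 h4 =>
    hminV W h1 h2 h3 h4 (by rw [hO, inf_bot_eq])
  have htop : (⊤ : Subgroup G) ≠ ⊥ := by
    intro h
    apply hV1
    rw [eq_bot_iff, ← h]
    exact le_top
  obtain ⟨N, hN, -⟩ := Cfsg.Agent.Helper19.exists_isMinNormal_le (N := (⊤ : Subgroup G))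
    inferInstance htop
  by_cases hNc : ∀ a ∈ N, ∀ b ∈ N, a * b = b * a
  · exact (Cfsg.Agent.Helper15.SidkiMin.not_abelian_minNormal hmin hO hV hV1 hS hminV' hN hNc).elim
  have hVN := Cfsg.Agent.Helper15.SidkiMin.sup_eq_top_of_nonabelian_minNormal hmin hO hV hV1 hS
    hminV' hN hNc
  have hCN := Cfsg.Agent.Helper15.SidkiMin.centralizer_eq_bot_of_sup_eq_top hO hV hN hNc hVN
  have hNn := hN.1
  have hN1 := hN.2.1
  have hNmin := hN.2.2
  have hsimpleN : ∀ C : Subgroup G, C ≤ N → N ≤ Subgroup.normalizer (C : Set G) →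
      C = ⊥ ∨ C = N := by
    intro C hC hNC
    by_cases hC1 : C = ⊥
    · left; exact hC1
    right
    obtain ⟨L, hLC, hLmin⟩ := exists_minimal_le_of_wellFoundedLT
      (fun B : Subgroup G => B ≤ N ∧ B ≠ ⊥ ∧ N ≤ Subgroup.normalizer (B : Set G)) C
      ⟨hC, hC1, hNC⟩
    have hL : Cfsg.Agent.Helper19.MinNormIn N L := by
      refine ⟨hLmin.prop.1, hLmin.prop.2.1, hLmin.prop.2.2, fun D hD hND => ?_⟩
      by_cases hD1 : D = ⊥
      · left; exact hD1
      · right
        exact le_antisymm hD (hLmin.le_of_le ⟨hD.trans hLmin.prop.1, hD1, hND⟩ hD)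
    have hLN := Cfsg.Agent.Helper15.SidkiMin.minNormIn_eq_of_sup_eq_top hmin hO hV hS hN hNc hVN
      hCN hL
    apply le_antisymm hC
    rw [← hLN]
    exact hLC
  have hFle : Cfsg.fittingSubgroup G ≤ N := by
    have hFit := Cfsg.Agent.Helper15.SidkiMin.fitting_inf_eq_bot hN hNc
    intro f hf
    have hfc : f ∈ Subgroup.centralizer (N : Set G) := by
      rw [Subgroup.mem_centralizer_iff]
      intro n hn
      have hc : f * n * f⁻¹ * n⁻¹ ∈ Cfsg.fittingSubgroup G ⊓ N := by
        constructor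
        · have h1 : n * f⁻¹ * n⁻¹ ∈ Cfsg.fittingSubgroup G :=
            (Cfsg.Agent.Helper7.fittingSubgroup_normal G).conj_mem _
              ((Cfsg.fittingSubgroup G).inv_mem hf) n
          have e : f * n * f⁻¹ * n⁻¹ = f * (n * f⁻¹ * n⁻¹) := by group
          rw [e]
          exact (Cfsg.fittingSubgroup G).mul_mem hf h1
        · exact N.mul_mem (hNn.conj_mem n hn f) (N.inv_mem hn)
      rw [hFit, Subgroup.mem_bot] at hc
      calc n * f = (f * n * f⁻¹ * n⁻¹)⁻¹ * f * n := by group
        _ = f * n := by rw [hc, inv_one, one_mul]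
    rw [hCN, Subgroup.mem_bot] at hfc
    rw [hfc]
    exact N.one_mem
  have hFN : Cfsg.generalizedFittingSubgroup G = N := by
    have := hNn
    have hle : Cfsg.generalizedFittingSubgroup G ≤ N :=
      Cfsg.Agent.Helper7.generalizedFitting_le_of_centralizer_le (Y := N) hFle
        (by rw [hCN]; exact bot_le)
    rcases hNmin _ (Cfsg.Agent.Helper7.generalizedFittingSubgroup_normal G) hle with h | h
    · exfalso
      have h1 := Cfsg.Agent.Helper7.centralizer_generalizedFitting_le (G := G)
      rw [h] at h1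
      apply htop
      rw [eq_bot_iff]
      refine le_trans ?_ h1
      intro y _
      rw [Subgroup.mem_centralizer_iff]
      intro z hz
      rw [SetLike.mem_coe, Subgroup.mem_bot] at hz
      rw [hz, one_mul, mul_one]
    · exact h
  rw [hFN]
  refine ⟨?_, ?_, hVN⟩
  · have : Nontrivial N := (Subgroup.nontrivial_iff_ne_bot N).2 hN1
    refine ⟨fun H hH => ?_⟩
    have hnorm : N ≤ Subgroup.normalizer ((H.map N.subtype : Subgroup G) : Set G) := by
      intro n hn
      apply Subgroup.mem_normalizer_fintype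
      rintro _ ⟨m, hm, rfl⟩
      exact ⟨⟨n, hn⟩ * m * ⟨n, hn⟩⁻¹, hH.conj_mem m hm _, by simp⟩
    rcases hsimpleN (H.map N.subtype) (Subgroup.map_subtype_le H) hnorm with h | h
    · left
      exact (Subgroup.map_eq_bot_iff_of_injective H (Subgroup.subtype_injective N)).1 h
    · right
      rw [eq_top_iff]
      intro x _
      have hx : (x : G) ∈ H.map N.subtype := by rw [h]; exact x.2
      obtain ⟨y, hy, hyx⟩ := hx
      have : y = x := Subtype.ext hyx
      rwa [← this]
  · intro h
    apply hNc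
    intro a ha b hb
    exact congrArg Subtype.val (mul_comm' (⟨a, ha⟩ : N) ⟨b, hb⟩)

end Cfsg.Agent.S3048
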