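import Cfsg.Statements.S3050
import Cfsg.Agent.Helper26.S3050D7b
import Cfsg.Agent.Helper26.S3050D4
import Cfsg.Agent.Helper29.S3050A11
import Cfsg.Agent.Helper18.S3050D8a
import Cfsg.Agent.Helper3.S3050D8b
import Cfsg.Agent.Helper9.S3050D8c

set_option autoImplicit false
open Cfsg
open Cfsg.Agent.S3050P
open scoped IsMulCommutative

namespace Cfsg.Agent.S3050

/-- Let G be a finite group with a normal 2-subgroup Q such that G/Q is isomorphic to SL(2, 2ⁿ) with n ≥ 2, and suppose some element of G of order 3 fixes no nonidentity element of Q under conjugation. Then Q is elementary abelian and is the direct product of normal subgroups of G on each of which G acts as SL(2, 2ⁿ) acts on its natural two-dimensional module (a Galois twist of the natural action allowed). -/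
theorem result {G : Type*} [Group G] [Finite G]
    (Q : Subgroup G) [Q.Normal] (hQ : IsPGroup 2 ↥Q) (n : ℕ) (hn : 2 ≤ n)
    (K : Type*) [Field K] [Fintype K] (hK : Fintype.card K = 2 ^ n)
    (e : G ⧸ Q ≃* Matrix.SpecialLinearGroup (Fin 2) K)
    (x : G) (hx : orderOf x = 3) (hfpf : ∀ q ∈ Q, x * q * x⁻¹ = q → q = 1) :
    Cfsg.IsElementaryAbelian 2 Q ∧
      ∃ (k : ℕ) (V : Fin k → Subgroup G), (∀ i, V i ≤ Q ∧ (V i).Normal ∧
        Cfsg.ActsAsSL2OnSection K ⊤ ⊤ (V i) ⊥) ∧ iSupIndep V ∧ ⨆ i, V i = Q := by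
  classical
  haveI : Fact (Nat.Prime 2) := ⟨Nat.prime_two⟩
  haveI : CharP K 2 := charP_of_card_eq_prime_pow hK
  -- `|K| ≥ 4`
  have hbig : ∃ a : K, a ≠ 0 ∧ a ≠ 1 := by
    by_contra hcon
    push Not at hcon
    have hle : Fintype.card K ≤ 2 := by
      have hsub : (Finset.univ : Finset K) ⊆ {0, 1} := by
        intro a _
        by_cases h0 : a = 0
        · simp [h0]
        · simp [hcon a h0]
      calc Fintype.card K = (Finset.univ : Finset K).card := rfl
        _ ≤ ({0, 1} : Finset K).card := Finset.card_le_card hsub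
        _ ≤ 2 := Finset.card_le_two
    rw [hK] at hle
    have : 2 ^ 2 ≤ 2 ^ n := Nat.pow_le_pow_right (by norm_num) hn
    omega
  -- exponent 2
  have hexp : ∀ q ∈ Q, q * q = 1 := exp_two hbig (Nat.card ↥Q) Q hQ rfl e x hx hfpf
  have hcomm : ∀ a ∈ Q, ∀ b ∈ Q, a * b = b * a := by
    intro a ha b hb
    have h1 := hexp (a * b) (Q.mul_mem ha hb)
    have h2 := hexp a ha
    have h3 := hexp b hb
    have ha' : a⁻¹ = a := inv_eq_of_mul_eq_one_left h2
    have hb' : b⁻¹ = b := inv_eq_of_mul_eq_one_left h3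
    have : (a * b)⁻¹ = a * b := inv_eq_of_mul_eq_one_left h1
    rw [mul_inv_rev, ha', hb'] at this
    exact this.symm
  haveI hQc : IsMulCommutative ↥Q := ⟨⟨fun a b => Subtype.ext (hcomm a a.2 b b.2)⟩⟩
  have hel : Cfsg.IsElementaryAbelian 2 Q := ⟨hQc, fun a ha => by rw [pow_two]; exact hexp a ha⟩
  refine ⟨hel, ?_⟩
  have hc : Q ≤ Subgroup.centralizer (Q : Set G) := by
    intro a ha
    rw [Subgroup.mem_centralizer_iff]
    intro b hb
    exact hcomm b hb a ha
  letI := modOf Q e Q hc
  have h3 : Fpf K (Additive ↥Q) := fpf_modOf Q e Q hc le_rfl x hx hfpf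
  have h2 : Exp2 (Additive ↥Q) := by
    intro m
    apply Additive.toMul.injective
    apply Subtype.ext
    exact hexp _ (Additive.toMul m).2
  have ns : NatStr K (Additive ↥Q) := natStr_of_fpf h2 h3
  obtain ⟨k, ι, hι, hbij⟩ := iota_of_natStr ns h2
  have hinj : ∀ i, Function.Injective (ι i) := by
    intro i v v' hv
    classical
    have := @hbij.1 (Function.update 0 i v) (Function.update 0 i v') (by
      simp only
      rw [Finset.sum_eq_single i, Finset.sum_eq_single i]
      · simpa using hv
      · intro j _ hj; simp [Function.update_of_ne hj]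
      · simp
      · intro j _ hj; simp [Function.update_of_ne hj]
      · simp)
    have h := congrFun this i
    simpa using h
  refine ⟨k, fun i => vOf Q (ι i), fun i => ?_, ?_⟩
  · exact vOf_props Q e hc (ι i) (hι i) (hinj i)
  · exact vOf_indep_sup Q ι hbij


end Cfsg.Agent.S3050
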