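import Mathlib
import Cfsg.Statements.S3053
import Cfsg.Agent.Helper9.Class2
import Cfsg.Agent.Helper1.PGroup
import Cfsg.Agent.S0841
import Cfsg.Agent.Lead.PiClosed3

set_option autoImplicit false
set_option linter.unusedSectionVars false
set_option linter.unusedVariables false

open Cfsg

namespace Cfsg.Agent.S3053

open Subgroup
open scoped Pointwise commutatorElement

/-! ### Internal facts about an extraspecial group of order `p^3` and exponent `p^2`, `p` odd -/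

section Internal

variable {E : Type*} [Group E] [Finite E] {p : ℕ} [hpf : Fact p.Prime]

structure Facts (p : ℕ) (E : Type*) [Group E] : Prop where
  comm_mem : ∀ a b : E, ⁅a, b⁆ ∈ center E
  center_pow : ∀ c ∈ center E, c ^ p = 1
  pow_mem : ∀ a : E, a ^ p ∈ center E
  mul_pow : ∀ a b : E, (a * b) ^ p = a ^ p * b ^ p
  omega_comm : ∀ e₁ e₂ : E, e₁ ^ p = 1 → e₂ ^ p = 1 → e₁ * e₂ = e₂ * e₁
  sq : ∀ c ∈ center E, c * c = 1 → c = 1
  gen : ∀ c ∈ center E, c ≠ 1 → ∀ c' ∈ center E, c' ∈ zpowers c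
  move : ∀ w : E, w ∉ center E → ∀ c ∈ center E, ∃ v : E, v * w * v⁻¹ = w * c

theorem facts (hp : p ≠ 2) (hE : Cfsg.IsExtraspecial p E) (hcard : Nat.card E = p ^ 3)
    (hexp : Monoid.exponent E = p ^ 2) : Facts p E := by
  classical
  have hpp : p.Prime := hpf.out
  obtain ⟨⟨hPG, hfr, hcomm⟩, hcz⟩ := hE
  have hG : commutator E ≤ center E := hcomm.le
  have hcm : ∀ a b : E, ⁅a, b⁆ ∈ center E :=
    fun a b => Cfsg.Agent.Helper9.commutatorElement_mem_center hG a b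
  have hzp : ∀ z ∈ center E, z ^ p = 1 := by
    intro z hz
    have h1 : (⟨z, hz⟩ : center E) ^ Nat.card (center E) = 1 := pow_card_eq_one'
    rw [hcz] at h1
    have := congrArg Subtype.val h1
    simpa using this
  have hpow_mem : ∀ x : E, x ^ p ∈ center E := by
    intro x
    rw [← hfr]
    exact Cfsg.Agent.Helper1.IsPGroup.pow_mem_frattini (p := p) hPG x
  have hmul : ∀ x y : E, (x * y) ^ p = x ^ p * y ^ p := by
    intro x y
    rw [Cfsg.Agent.S0841.result hG x y p]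
    have hc : y⁻¹ * x⁻¹ * y * x ∈ center E := by
      have : y⁻¹ * x⁻¹ * y * x = ⁅y⁻¹, x⁻¹⁆ := by simp [commutatorElement_def]
      rw [this]
      exact hcm _ _
    obtain ⟨k, hk⟩ := hpp.odd_of_ne_two hp
    have h2 : p * (p - 1) / 2 = p * k := by
      have : p - 1 = 2 * k := by omega
      rw [this, ← mul_assoc, mul_comm p 2, mul_assoc,
        Nat.mul_div_cancel_left _ (by norm_num : 0 < 2)]
    rw [h2, pow_mul, hzp _ hc, one_pow, mul_one]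
  -- some element has nontrivial p-th power
  have hex : ∃ a : E, a ^ p ≠ 1 := by
    by_contra hcon
    have hall : ∀ a : E, a ^ p = 1 := by
      intro a; by_contra h; exact hcon ⟨a, h⟩
    have hd : Monoid.exponent E ∣ p := Monoid.exponent_dvd_of_forall_pow_eq_one hall
    rw [hexp] at hd
    have h2 : p ^ 2 ≤ p := Nat.le_of_dvd hpp.pos hd
    have h3 : 2 ≤ p := hpp.two_le
    nlinarith
  let f : E →* center E :=
    { toFun := fun x => ⟨x ^ p, hpow_mem x⟩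
      map_one' := by ext; simp
      map_mul' := fun x y => by ext; simp [hmul] }
  have hfker : ∀ x : E, x ∈ f.ker ↔ x ^ p = 1 := by
    intro x
    rw [MonoidHom.mem_ker]
    constructor
    · intro h
      have := congrArg Subtype.val h
      simpa [f] using this
    · intro h
      ext
      simpa [f] using h
  have hcenterfact : Fact (Nat.card (center E)).Prime := ⟨by rw [hcz]; exact hpp⟩
  have hrange : f.range = ⊤ := by
    rcases Subgroup.eq_bot_or_eq_top_of_prime_card f.range with h | h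
    · exfalso
      obtain ⟨a, ha⟩ := hex
      have : f a ∈ f.range := ⟨a, rfl⟩
      rw [h, Subgroup.mem_bot] at this
      apply ha
      have := congrArg Subtype.val this
      simpa [f] using this
    · exact h
  have hkeridx : f.ker.index = p := by
    rw [Subgroup.index_ker, hrange, Subgroup.card_top, hcz]
  have hkercard : Nat.card f.ker = p ^ 2 := by
    have h1 := Subgroup.card_mul_index f.ker
    rw [hkeridx, hcard] at h1
    have : Nat.card f.ker * p = p ^ 2 * p := by rw [h1]; ring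
    exact Nat.eq_of_mul_eq_mul_right hpp.pos this
  have homega : ∀ e₁ e₂ : E, e₁ ^ p = 1 → e₂ ^ p = 1 → e₁ * e₂ = e₂ * e₁ := by
    intro e₁ e₂ h1 h2
    have hc := (IsPGroup.isMulCommutative_of_card_eq_prime_sq hkercard).is_comm.comm
      ⟨e₁, (hfker e₁).mpr h1⟩ ⟨e₂, (hfker e₂).mpr h2⟩
    exact congrArg Subtype.val hc
  have hsq : ∀ c ∈ center E, c * c = 1 → c = 1 := by
    intro c hc h2
    have h1 : c ^ p = 1 := hzp c hc
    have h2' : c ^ 2 = 1 := by rw [pow_two]; exact h2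
    have hd1 : orderOf c ∣ p := orderOf_dvd_of_pow_eq_one h1
    have hd2 : orderOf c ∣ 2 := orderOf_dvd_of_pow_eq_one h2'
    have hcop : Nat.Coprime p 2 := (Nat.coprime_primes hpp Nat.prime_two).mpr hp
    have : orderOf c ∣ 1 := by
      have := Nat.dvd_gcd hd1 hd2
      rwa [hcop] at this
    exact orderOf_eq_one_iff.mp (Nat.dvd_one.mp this)
  have hgen : ∀ c ∈ center E, c ≠ 1 → ∀ c' ∈ center E, c' ∈ zpowers c := by
    intro c hc hne c' hc'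
    have hne' : (⟨c, hc⟩ : center E) ≠ 1 := by
      intro h; exact hne (congrArg Subtype.val h)
    have := mem_zpowers_of_prime_card (p := p) hcz (g := (⟨c, hc⟩ : center E))
      (g' := (⟨c', hc'⟩ : center E)) hne'
    obtain ⟨k, hk⟩ := Subgroup.mem_zpowers_iff.mp this
    refine Subgroup.mem_zpowers_iff.mpr ⟨k, ?_⟩
    have := congrArg Subtype.val hk
    simpa using this
  have hmove : ∀ w : E, w ∉ center E → ∀ c ∈ center E, ∃ v : E, v * w * v⁻¹ = w * c := by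
    intro w hw c hc
    -- some v₀ does not commute with w
    have hex2 : ∃ v₀ : E, ⁅v₀, w⁆ ≠ 1 := by
      by_contra hcon
      apply hw
      rw [Subgroup.mem_center_iff]
      intro g
      by_contra hne
      apply hcon
      refine ⟨g, ?_⟩
      intro h1
      apply hne
      rw [commutatorElement_eq_one_iff_mul_comm] at h1
      exact h1
    obtain ⟨v₀, hv₀⟩ := hex2
    have hd : ⁅v₀, w⁆ ∈ center E := hcm v₀ w
    obtain ⟨k, hk⟩ := Subgroup.mem_zpowers_iff.mp (hgen _ hd hv₀ c hc)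
    -- use a natural exponent
    have hdp : ⁅v₀, w⁆ ^ p = 1 := hzp _ hd
    obtain ⟨m, hm⟩ : ∃ m : ℕ, ⁅v₀, w⁆ ^ m = c := by
      refine ⟨(k % (p : ℤ)).toNat, ?_⟩
      have hpz : (0 : ℤ) < p := by exact_mod_cast hpp.pos
      have hnn : 0 ≤ k % (p : ℤ) := Int.emod_nonneg k hpz.ne'
      rw [← zpow_natCast, Int.toNat_of_nonneg hnn, ← hk]
      have hk2 : k = k % (p : ℤ) + (p : ℤ) * (k / (p : ℤ)) := (Int.emod_add_mul_ediv k p).symm
      conv_rhs => rw [hk2, zpow_add, zpow_mul, zpow_natCast, hdp, one_zpow, mul_one]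
    refine ⟨v₀ ^ m, ?_⟩
    have h1 : ⁅v₀ ^ m, w⁆ = c := by
      rw [Cfsg.Agent.Helper9.commutatorElement_pow_left hG, hm]
    have h2 : v₀ ^ m * w * (v₀ ^ m)⁻¹ = ⁅v₀ ^ m, w⁆ * w := by
      rw [commutatorElement_def]; group
    rw [h2, h1]
    exact (Subgroup.mem_center_iff.mp hc w).symm
  exact ⟨hcm, hzp, hpow_mem, hmul, homega, hsq, hgen, hmove⟩

end Internal

/-! ### Ambient versions -/

section Ambient

variable {G : Type*} [Group G] {p : ℕ}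

/-- the centre of `P`, as a subgroup of `G` -/
def ZZ (P : Subgroup G) : Subgroup G := (center ↥P).map P.subtype

theorem mem_ZZ_iff (P : Subgroup G) {c : G} :
    c ∈ ZZ P ↔ c ∈ P ∧ ∀ y ∈ P, y * c = c * y := by
  constructor
  · rintro ⟨c0, hc0, rfl⟩
    refine ⟨c0.2, fun y hy => ?_⟩
    have := Subgroup.mem_center_iff.mp hc0 ⟨y, hy⟩
    exact congrArg Subtype.val this
  · rintro ⟨hc, hcomm⟩
    refine ⟨⟨c, hc⟩, ?_, rfl⟩
    rw [SetLike.mem_coe, Subgroup.mem_center_iff]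
    intro g
    ext
    exact hcomm g g.2

theorem ZZ_le (P : Subgroup G) : ZZ P ≤ P := fun c hc => ((mem_ZZ_iff P).mp hc).1

variable {P : Subgroup G} (F : Facts p ↥P)
include F

theorem amb_comm_mem {a b : G} (ha : a ∈ P) (hb : b ∈ P) : a * b * a⁻¹ * b⁻¹ ∈ ZZ P := by
  refine ⟨⁅(⟨a, ha⟩ : ↥P), ⟨b, hb⟩⁆, F.comm_mem _ _, ?_⟩
  simp [commutatorElement_def]

theorem amb_center_pow {c : G} (hc : c ∈ ZZ P) : c ^ p = 1 := by
  obtain ⟨c0, hc0, rfl⟩ := hc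
  have := F.center_pow c0 hc0
  have h2 := congrArg Subtype.val this
  simpa using h2

theorem amb_pow_mem {a : G} (ha : a ∈ P) : a ^ p ∈ ZZ P := by
  refine ⟨(⟨a, ha⟩ : ↥P) ^ p, F.pow_mem _, ?_⟩
  simp

theorem amb_mul_pow {a b : G} (ha : a ∈ P) (hb : b ∈ P) : (a * b) ^ p = a ^ p * b ^ p := by
  have := F.mul_pow ⟨a, ha⟩ ⟨b, hb⟩
  have h2 := congrArg Subtype.val this
  simpa using h2

theorem amb_omega {e₁ e₂ : G} (h1 : e₁ ∈ P) (h2 : e₂ ∈ P) (h1p : e₁ ^ p = 1) (h2p : e₂ ^ p = 1) :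
    e₁ * e₂ = e₂ * e₁ := by
  have := F.omega_comm ⟨e₁, h1⟩ ⟨e₂, h2⟩ (by ext; simpa using h1p) (by ext; simpa using h2p)
  have h3 := congrArg Subtype.val this
  simpa using h3

theorem amb_sq {c : G} (hc : c ∈ ZZ P) (h2 : c * c = 1) : c = 1 := by
  obtain ⟨c0, hc0, rfl⟩ := hc
  have := F.sq c0 hc0 (by ext; simpa using h2)
  rw [this]; rfl

theorem amb_gen {c c' : G} (hc : c ∈ ZZ P) (hne : c ≠ 1) (hc' : c' ∈ ZZ P) : c' ∈ zpowers c := by
  obtain ⟨c0, hc0, rfl⟩ := hc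
  obtain ⟨c1, hc1, rfl⟩ := hc'
  have hne0 : c0 ≠ 1 := by
    intro h; apply hne; rw [h]; rfl
  obtain ⟨k, hk⟩ := Subgroup.mem_zpowers_iff.mp (F.gen c0 hc0 hne0 c1 hc1)
  refine Subgroup.mem_zpowers_iff.mpr ⟨k, ?_⟩
  have h2 := congrArg Subtype.val hk
  simpa using h2

theorem amb_move {w c : G} (hw : w ∈ P) (hwZ : w ∉ ZZ P) (hc : c ∈ ZZ P) :
    ∃ v ∈ P, v * w * v⁻¹ = w * c := by
  obtain ⟨c0, hc0, rfl⟩ := hc
  have hw0 : (⟨w, hw⟩ : ↥P) ∉ center ↥P := by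
    intro h
    apply hwZ
    exact ⟨⟨w, hw⟩, h, rfl⟩
  obtain ⟨v, hv⟩ := F.move ⟨w, hw⟩ hw0 c0 hc0
  refine ⟨v, v.2, ?_⟩
  have h2 := congrArg Subtype.val hv
  simpa using h2

end Ambient


/-! ### Sylow transfer of fusion into a centralizer -/

section Main

variable {G : Type*} [Group G] [Finite G] {p : ℕ} [hpf : Fact p.Prime]

theorem mem_smul_sylow_iff (P : Sylow p G) (g y : G) :
    y ∈ ((g • P : Sylow p G) : Subgroup G) ↔ g⁻¹ * y * g ∈ (P : Subgroup G) := by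
  rw [Sylow.coe_subgroup_smul, Subgroup.mem_pointwise_smul_iff_inv_smul_mem]
  simp [MulAut.smul_def]

/-- If `g P g⁻¹ ≤ C` and `z ∈ C` is a `p`-element then some `C`-conjugate of `g P g⁻¹`
contains `z`. -/
theorem exists_conj_mem_sylow (P : Sylow p G) (C : Subgroup G) (g : G)
    (hle : ∀ y ∈ (P : Subgroup G), g * y * g⁻¹ ∈ C) (z : G) (hz : z ∈ C)
    (hzp : IsPGroup p (zpowers z)) :
    ∃ c ∈ C, (c * g)⁻¹ * z * (c * g) ∈ (P : Subgroup G) := by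
  have hle' : ((g • P : Sylow p G) : Subgroup G) ≤ C := by
    intro y hy
    rw [mem_smul_sylow_iff] at hy
    have := hle _ hy
    have e : g * (g⁻¹ * y * g) * g⁻¹ = y := by group
    rwa [e] at this
  set Q0 : Sylow p C := (g • P : Sylow p G).subtype hle' with hQ0
  have hR : IsPGroup p ((zpowers z).subgroupOf C) := by
    have hinj : Function.Injective C.subtype := C.subtype_injective
    exact hzp.comap_of_injective C.subtype hinj
  obtain ⟨Q1, hQ1⟩ := hR.exists_le_sylow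
  obtain ⟨c, hc⟩ := MulAction.exists_smul_eq C Q0 Q1
  refine ⟨c, c.2, ?_⟩
  have hzQ1 : (⟨z, hz⟩ : C) ∈ (Q1 : Subgroup C) := by
    apply hQ1
    rw [Subgroup.mem_subgroupOf]
    exact Subgroup.mem_zpowers z
  rw [← hc] at hzQ1
  rw [mem_smul_sylow_iff] at hzQ1
  rw [hQ0, Sylow.coe_subtype, Subgroup.mem_subgroupOf] at hzQ1
  rw [mem_smul_sylow_iff] at hzQ1
  have e : g⁻¹ * ((c⁻¹ * (⟨z, hz⟩ : C) * c : C) : G) * g = ((c : G) * g)⁻¹ * z * ((c : G) * g) := by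
    simp only [Subgroup.coe_mul, Subgroup.coe_inv]
    group
  rwa [e] at hzQ1


theorem comm_of_mem_zpowers {a z c : G} (h : a * z = z * a) (hc : c ∈ zpowers z) :
    a * c = c * a := by
  have h1 : zpowers z ≤ centralizer {a} :=
    zpowers_le.mpr (mem_centralizer_singleton_iff.mpr h.symm)
  exact (mem_centralizer_singleton_iff.mp (h1 hc)).symm

theorem inv_of_mem_zpowers {t z c : G} (h : t * z * t⁻¹ = z⁻¹) (hc : c ∈ zpowers z) :
    t * c * t⁻¹ = c⁻¹ := by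
  obtain ⟨k, rfl⟩ := Subgroup.mem_zpowers_iff.mp hc
  rw [← conj_zpow, h, inv_zpow]

variable (P : Sylow p G) (F : Facts p ↥(P : Subgroup G))
include F

theorem step1 {z g : G} (hz : z ∈ ZZ (P : Subgroup G)) (hx : g * z * g⁻¹ ∈ (P : Subgroup G)) :
    ∃ h : G, h * z * h⁻¹ = g * z * g⁻¹ ∧ h⁻¹ * z * h ∈ (P : Subgroup G) := by
  obtain ⟨hzP, hzc⟩ := (mem_ZZ_iff _).mp hz
  obtain ⟨x, hxdef⟩ : ∃ x, x = g * z * g⁻¹ := ⟨_, rfl⟩
  rw [← hxdef] at hx ⊢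
  have hzx : z * x = x * z := (hzc x hx).symm
  have h1 : ∀ y ∈ (P : Subgroup G), g * y * g⁻¹ ∈ centralizer {x} := by
    intro y hy
    rw [mem_centralizer_singleton_iff]
    have h1 : y * z = z * y := hzc y hy
    calc g * y * g⁻¹ * x = g * (y * z) * g⁻¹ := by rw [hxdef]; group
      _ = g * (z * y) * g⁻¹ := by rw [h1]
      _ = x * (g * y * g⁻¹) := by rw [hxdef]; group
  have h2 : z ∈ centralizer {x} := by
    rw [mem_centralizer_singleton_iff]; exact hzx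
  have h3 : IsPGroup p (zpowers z) := P.isPGroup'.to_le (zpowers_le.mpr hzP)
  obtain ⟨c, hc, hmem⟩ := exists_conj_mem_sylow P (centralizer {x}) g h1 z h2 h3
  refine ⟨c * g, ?_, hmem⟩
  have hc' : c * x = x * c := mem_centralizer_singleton_iff.mp hc
  calc c * g * z * (c * g)⁻¹ = c * (g * z * g⁻¹) * c⁻¹ := by group
    _ = c * x * c⁻¹ := by rw [hxdef]
    _ = x := by rw [hc']; group

theorem exists_inverting {z x h z' : G} (hz : z ∈ ZZ (P : Subgroup G)) (hz1 : z ≠ 1)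
    (hhx : h * z * h⁻¹ = x) (hxP : x ∈ (P : Subgroup G)) (hxZ : x ∉ ZZ (P : Subgroup G))
    (hz' : h⁻¹ * z * h = z') (hz'P : z' ∈ (P : Subgroup G)) :
    ∃ t : G, t * z * t⁻¹ = z⁻¹ ∧ t * x * t⁻¹ = x⁻¹ := by
  obtain ⟨hzP, hzc⟩ := (mem_ZZ_iff _).mp hz
  have hzx : z * x = x * z := (hzc x hxP).symm
  have hzz' : h * z' * h⁻¹ = z := by rw [← hz']; group
  have hxh : h⁻¹ * x * h = z := by rw [← hhx]; group
  have hz'Z : z' ∉ ZZ (P : Subgroup G) := by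
    intro hcon
    have hz'1 : z' ≠ 1 := by
      intro h1
      apply hz1
      rw [← hzz', h1]; group
    obtain ⟨k, hk⟩ := Subgroup.mem_zpowers_iff.mp (amb_gen F hcon hz'1 hz)
    apply hxZ
    have hxk : x = z ^ k := by
      calc x = h * z * h⁻¹ := hhx.symm
        _ = h * z' ^ k * h⁻¹ := by rw [hk]
        _ = (h * z' * h⁻¹) ^ k := (conj_zpow).symm
        _ = z ^ k := by rw [hzz']
    rw [hxk]
    exact Subgroup.zpow_mem _ hz k
  obtain ⟨u, huP, hu⟩ := amb_move F hxP hxZ hz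
  have hzinv : z⁻¹ ∈ ZZ (P : Subgroup G) := inv_mem hz
  obtain ⟨v', hv'P, hv'⟩ := amb_move F hz'P hz'Z hzinv
  have huz : u * z * u⁻¹ = z := by rw [hzc u huP]; group
  have hv'z : v' * z * v'⁻¹ = z := by rw [hzc v' hv'P]; group
  obtain ⟨v, hv⟩ : ∃ v, v = h * v' * h⁻¹ := ⟨_, rfl⟩
  have hvz : v * z * v⁻¹ = z * x⁻¹ := by
    calc v * z * v⁻¹ = h * (v' * (h⁻¹ * z * h) * v'⁻¹) * h⁻¹ := by rw [hv]; group
      _ = h * (z' * z⁻¹) * h⁻¹ := by rw [hz', hv']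
      _ = (h * z' * h⁻¹) * (h * z * h⁻¹)⁻¹ := by group
      _ = z * x⁻¹ := by rw [hzz', hhx]
  have hvx : v * x * v⁻¹ = x := by
    calc v * x * v⁻¹ = h * (v' * (h⁻¹ * x * h) * v'⁻¹) * h⁻¹ := by rw [hv]; group
      _ = h * (v' * z * v'⁻¹) * h⁻¹ := by rw [hxh]
      _ = h * z * h⁻¹ := by rw [hv'z]
      _ = x := hhx
  obtain ⟨w, hwz, hwx⟩ : ∃ w : G, w * z * w⁻¹ = x⁻¹ ∧ w * x * w⁻¹ = z := by
    refine ⟨u * v * u, ?_, ?_⟩
    · calc (u*v*u) * z * (u*v*u)⁻¹ = u * (v * (u * z * u⁻¹) * v⁻¹) * u⁻¹ := by group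
        _ = u * (z * x⁻¹) * u⁻¹ := by rw [huz, hvz]
        _ = (u * z * u⁻¹) * (u * x * u⁻¹)⁻¹ := by group
        _ = z * (x * z)⁻¹ := by rw [huz, hu]
        _ = x⁻¹ := by group
    · calc (u*v*u) * x * (u*v*u)⁻¹ = u * (v * (u * x * u⁻¹) * v⁻¹) * u⁻¹ := by group
        _ = u * (v * (x * z) * v⁻¹) * u⁻¹ := by rw [hu]
        _ = u * ((v * x * v⁻¹) * (v * z * v⁻¹)) * u⁻¹ := by group
        _ = u * (x * (z * x⁻¹)) * u⁻¹ := by rw [hvx, hvz]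
        _ = u * (z * x * x⁻¹) * u⁻¹ := by rw [← mul_assoc x z, ← hzx]
        _ = u * z * u⁻¹ := by group
        _ = z := huz
  refine ⟨w * w, ?_, ?_⟩
  · calc (w*w) * z * (w*w)⁻¹ = w * (w * z * w⁻¹) * w⁻¹ := by group
      _ = w * x⁻¹ * w⁻¹ := by rw [hwz]
      _ = (w * x * w⁻¹)⁻¹ := by group
      _ = z⁻¹ := by rw [hwx]
  · calc (w*w) * x * (w*w)⁻¹ = w * (w * x * w⁻¹) * w⁻¹ := by group
      _ = w * z * w⁻¹ := by rw [hwx]
      _ = x⁻¹ := hwz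


omit F in
/-- the stabilizer of the chain `1 < ⟨z⟩ < ⟨z, x⟩` -/
def MM (z x : G) : Subgroup G where
  carrier := {g | g * z = z * g ∧ g * x * g⁻¹ * x⁻¹ ∈ zpowers z}
  one_mem' := by
    refine ⟨by simp, ?_⟩
    have : (1 : G) * x * 1⁻¹ * x⁻¹ = 1 := by group
    rw [this]; exact one_mem _
  mul_mem' := by
    rintro a b ⟨ha1, ha2⟩ ⟨hb1, hb2⟩
    refine ⟨?_, ?_⟩
    · rw [mul_assoc, hb1, ← mul_assoc, ha1, mul_assoc]
    · have e : a * b * x * (a * b)⁻¹ * x⁻¹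
          = a * (b * x * b⁻¹ * x⁻¹) * a⁻¹ * (a * x * a⁻¹ * x⁻¹) := by group
      rw [e]
      refine mul_mem ?_ ha2
      have h1 : a * (b * x * b⁻¹ * x⁻¹) * a⁻¹ = b * x * b⁻¹ * x⁻¹ := by
        rw [comm_of_mem_zpowers ha1 hb2]; group
      rw [h1]; exact hb2
  inv_mem' := by
    rintro a ⟨ha1, ha2⟩
    have ha1' : a⁻¹ * z = z * a⁻¹ := by
      have : a⁻¹ * z = a⁻¹ * (z * a) * a⁻¹ := by group
      rw [this, ← ha1]; group
    refine ⟨ha1', ?_⟩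
    have e : a⁻¹ * x * a⁻¹⁻¹ * x⁻¹ = a⁻¹ * (a * x * a⁻¹ * x⁻¹)⁻¹ * a := by group
    rw [e]
    have hi : (a * x * a⁻¹ * x⁻¹)⁻¹ ∈ zpowers z := inv_mem ha2
    have h1 : a⁻¹ * (a * x * a⁻¹ * x⁻¹)⁻¹ * a = (a * x * a⁻¹ * x⁻¹)⁻¹ := by
      rw [comm_of_mem_zpowers ha1' hi]; group
    rw [h1]; exact hi

omit F in
theorem mem_MM {z x g : G} :
    g ∈ MM z x ↔ g * z = z * g ∧ g * x * g⁻¹ * x⁻¹ ∈ zpowers z := Iff.rfl

omit F in
theorem conj_mem_MM {z x s m : G} (hzx : z * x = x * z) (hsz : s * z * s⁻¹ = z⁻¹)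
    (hsx : s * x * s⁻¹ = x⁻¹) (hm : m ∈ MM z x) : s * m * s⁻¹ ∈ MM z x := by
  obtain ⟨hm1, hm2⟩ := hm
  have hsz' : s⁻¹ * z * s = z⁻¹ := by
    have h1 : z = s⁻¹ * z⁻¹ * s := by rw [← hsz]; group
    calc s⁻¹ * z * s = (s⁻¹ * z⁻¹ * s)⁻¹ := by group
      _ = z⁻¹ := by rw [← h1]
  have hsx' : s⁻¹ * x * s = x⁻¹ := by
    have h1 : x = s⁻¹ * x⁻¹ * s := by rw [← hsx]; group
    calc s⁻¹ * x * s = (s⁻¹ * x⁻¹ * s)⁻¹ := by group
      _ = x⁻¹ := by rw [← h1]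
  have hsxi : s⁻¹ * x⁻¹ * s = x := by
    calc s⁻¹ * x⁻¹ * s = (s⁻¹ * x * s)⁻¹ := by group
      _ = x := by rw [hsx', inv_inv]
  have hmzi : m * z⁻¹ = z⁻¹ * m := by
    have : Commute m z := hm1
    exact this.inv_right.eq
  refine ⟨?_, ?_⟩
  · calc s * m * s⁻¹ * z = s * (m * (s⁻¹ * z * s)) * s⁻¹ := by group
      _ = s * (m * z⁻¹) * s⁻¹ := by rw [hsz']
      _ = s * (z⁻¹ * m) * s⁻¹ := by rw [hmzi]
      _ = (s * z * s⁻¹)⁻¹ * (s * m * s⁻¹) := by group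
      _ = z * (s * m * s⁻¹) := by rw [hsz, inv_inv]
  · have hxz : x * z = z * x := hzx.symm
    have hi : (m * x * m⁻¹ * x⁻¹)⁻¹ ∈ zpowers z := inv_mem hm2
    have e1 : s * m * s⁻¹ * x * (s * m * s⁻¹)⁻¹ * x⁻¹
        = s * (m * (s⁻¹ * x * s) * m⁻¹ * (s⁻¹ * x⁻¹ * s)) * s⁻¹ := by group
    have e3 : m * x⁻¹ * m⁻¹ * x = x⁻¹ * (m * x * m⁻¹ * x⁻¹)⁻¹ * x := by group
    have hxi : x⁻¹ * z = z * x⁻¹ := by
      have : Commute x z := hxz
      exact this.inv_left.eq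
    have e4 : x⁻¹ * (m * x * m⁻¹ * x⁻¹)⁻¹ * x = (m * x * m⁻¹ * x⁻¹)⁻¹ := by
      rw [comm_of_mem_zpowers hxi hi]; group
    rw [e1, hsx', hsxi, e3, e4, inv_of_mem_zpowers hsz hi, inv_inv]
    exact hm2

theorem le_MM {z x : G} (hz : z ∈ ZZ (P : Subgroup G)) (hz1 : z ≠ 1)
    (hxP : x ∈ (P : Subgroup G)) : (P : Subgroup G) ≤ MM z x := by
  obtain ⟨hzP, hzc⟩ := (mem_ZZ_iff _).mp hz
  intro y hy
  exact ⟨hzc y hy, amb_gen F hz hz1 (amb_comm_mem F hy hxP)⟩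

theorem exists_normalizing {z x t₀ : G} (hz : z ∈ ZZ (P : Subgroup G)) (hz1 : z ≠ 1)
    (hxP : x ∈ (P : Subgroup G)) (htz : t₀ * z * t₀⁻¹ = z⁻¹) (htx : t₀ * x * t₀⁻¹ = x⁻¹) :
    ∃ t ∈ normalizer ((P : Subgroup G) : Set G), t * z * t⁻¹ = z⁻¹ ∧
      ∃ ζ ∈ zpowers z, t * x * t⁻¹ = x⁻¹ * ζ := by
  obtain ⟨hzP, hzc⟩ := (mem_ZZ_iff _).mp hz
  have hzx : z * x = x * z := (hzc x hxP).symm
  have hPM : (P : Subgroup G) ≤ MM z x := le_MM P F hz hz1 hxP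
  have htz' : t₀⁻¹ * z * t₀⁻¹⁻¹ = z⁻¹ := by
    have h1 : z = t₀⁻¹ * z⁻¹ * t₀ := by rw [← htz]; group
    calc t₀⁻¹ * z * t₀⁻¹⁻¹ = (t₀⁻¹ * z⁻¹ * t₀)⁻¹ := by group
      _ = z⁻¹ := by rw [← h1]
  have htx' : t₀⁻¹ * x * t₀⁻¹⁻¹ = x⁻¹ := by
    have h1 : x = t₀⁻¹ * x⁻¹ * t₀ := by rw [← htx]; group
    calc t₀⁻¹ * x * t₀⁻¹⁻¹ = (t₀⁻¹ * x⁻¹ * t₀)⁻¹ := by group
      _ = x⁻¹ := by rw [← h1]
  have ht₀ : t₀ ∈ normalizer ((MM z x : Subgroup G) : Set G) := by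
    rw [mem_normalizer_iff]
    intro m
    constructor
    · intro hm
      exact conj_mem_MM hzx htz htx hm
    · intro hm
      have := conj_mem_MM hzx htz' htx' hm
      have e : t₀⁻¹ * (t₀ * m * t₀⁻¹) * t₀⁻¹⁻¹ = m := by group
      rwa [e] at this
  obtain ⟨l, hlM, hln⟩ := Cfsg.Agent.Lead.exists_mem_mul_mem_normalizer_of_sylow (MM z x) p
    (P.subtype hPM) t₀ ht₀
  have hmap : ((P.subtype hPM : Sylow p (MM z x)) : Subgroup (MM z x)).map (MM z x).subtype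
      = (P : Subgroup G) := by
    rw [Sylow.coe_subtype, subgroupOf_map_subtype, inf_of_le_left hPM]
  rw [hmap] at hln
  have hliM : l⁻¹ ∈ MM z x := inv_mem hlM
  obtain ⟨hl1, hl2⟩ := hliM
  refine ⟨l⁻¹ * t₀, hln, ?_, (l⁻¹ * x * l⁻¹⁻¹ * x⁻¹)⁻¹, inv_mem hl2, ?_⟩
  · calc l⁻¹ * t₀ * z * (l⁻¹ * t₀)⁻¹ = l⁻¹ * (t₀ * z * t₀⁻¹) * l⁻¹⁻¹ := by group
      _ = l⁻¹ * z⁻¹ * l⁻¹⁻¹ := by rw [htz]
      _ = (l⁻¹ * z * l⁻¹⁻¹)⁻¹ := by group
      _ = z⁻¹ := by rw [hl1]; group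
  · calc l⁻¹ * t₀ * x * (l⁻¹ * t₀)⁻¹ = l⁻¹ * (t₀ * x * t₀⁻¹) * l⁻¹⁻¹ := by group
      _ = l⁻¹ * x⁻¹ * l⁻¹⁻¹ := by rw [htx]
      _ = x⁻¹ * (l⁻¹ * x * l⁻¹⁻¹ * x⁻¹)⁻¹ := by group


theorem final {z x t ζ : G} (hz : z ∈ ZZ (P : Subgroup G)) (hz1 : z ≠ 1)
    (hxP : x ∈ (P : Subgroup G)) (hxZ : x ∉ ZZ (P : Subgroup G)) (hxp : x ^ p = 1)
    (ht : t ∈ normalizer ((P : Subgroup G) : Set G)) (htz : t * z * t⁻¹ = z⁻¹)
    (hζ : ζ ∈ zpowers z) (htx : t * x * t⁻¹ = x⁻¹ * ζ) : False := by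
  obtain ⟨hzP, hzc⟩ := (mem_ZZ_iff _).mp hz
  have hinv : ∀ c ∈ ZZ (P : Subgroup G), t * c * t⁻¹ = c⁻¹ :=
    fun c hc => inv_of_mem_zpowers htz (amb_gen F hz hz1 hc)
  have hex : ∃ a ∈ (P : Subgroup G), a * x ≠ x * a := by
    by_contra hcon
    push Not at hcon
    exact hxZ ((mem_ZZ_iff _).mpr ⟨hxP, hcon⟩)
  obtain ⟨a, haP, hax⟩ := hex
  obtain ⟨c, hc⟩ : ∃ c, c = a * x * a⁻¹ * x⁻¹ := ⟨_, rfl⟩
  have hcZ : c ∈ ZZ (P : Subgroup G) := by rw [hc]; exact amb_comm_mem F haP hxP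
  have hc1 : c ≠ 1 := by
    intro h1
    apply hax
    have : a * x = c * (x * a) := by rw [hc]; group
    rw [this, h1, one_mul]
  obtain ⟨hcP, hcc⟩ := (mem_ZZ_iff _).mp hcZ
  have haxc : a * x * a⁻¹ = c * x := by rw [hc]; group
  obtain ⟨a', ha'⟩ : ∃ a', a' = t * a * t⁻¹ := ⟨_, rfl⟩
  have ha'P : a' ∈ (P : Subgroup G) := by
    rw [ha']; exact (mem_normalizer_iff.mp ht a).mp haP
  have hap : a ^ p ∈ ZZ (P : Subgroup G) := amb_pow_mem F haP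
  have ha'p : a' ^ p = (a ^ p)⁻¹ := by
    rw [ha', conj_pow]; exact hinv _ hap
  have hep : (a * a') ^ p = 1 := by
    rw [amb_mul_pow F haP ha'P, ha'p, mul_inv_cancel]
  have hcomm : (a * a') * x = x * (a * a') :=
    amb_omega F (mul_mem haP ha'P) hxP hep hxp
  have hca : a * c = c * a := hcc a haP
  have hcai : a⁻¹ * c⁻¹ * a = c⁻¹ := by
    have h1 : Commute a c := hca
    have h2 : c⁻¹ * a = a * c⁻¹ := h1.inv_right.eq.symm
    rw [mul_assoc, h2]; group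
  -- (I)
  have hI : a' * x * a'⁻¹ = c⁻¹ * x := by
    have h1 : a' * x * a'⁻¹ = a⁻¹ * ((a * a') * x) * a'⁻¹ := by group
    have h2 : a⁻¹ * (x * (a * a')) * a'⁻¹ = a⁻¹ * x * a := by group
    have h3 : a⁻¹ * x * a = a⁻¹ * c⁻¹ * (a * x * a⁻¹) * a := by rw [haxc]; group
    have h4 : a⁻¹ * c⁻¹ * (a * x * a⁻¹) * a = (a⁻¹ * c⁻¹ * a) * x := by group
    rw [h1, hcomm, h2, h3, h4, hcai]
  -- (II)
  have hζZ : ζ ∈ ZZ (P : Subgroup G) := (zpowers_le.mpr hz) hζ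
  have hζa : a' * ζ = ζ * a' := ((mem_ZZ_iff _).mp hζZ).2 a' ha'P
  have hII0 : a' * (x⁻¹ * ζ) * a'⁻¹ = c⁻¹ * (x⁻¹ * ζ) := by
    calc a' * (x⁻¹ * ζ) * a'⁻¹ = (t * a * t⁻¹) * (t * x * t⁻¹) * (t * a * t⁻¹)⁻¹ := by
          rw [htx, ha']
      _ = t * (a * x * a⁻¹) * t⁻¹ := by group
      _ = t * (c * x) * t⁻¹ := by rw [haxc]
      _ = (t * c * t⁻¹) * (t * x * t⁻¹) := by group
      _ = c⁻¹ * (x⁻¹ * ζ) := by rw [hinv c hcZ, htx]
  have hII1 : a' * x⁻¹ * a'⁻¹ = c⁻¹ * x⁻¹ := by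
    have h1 : a' * (x⁻¹ * ζ) * a'⁻¹ = (a' * x⁻¹ * a'⁻¹) * (a' * ζ * a'⁻¹) := by group
    have h2 : a' * ζ * a'⁻¹ = ζ := by rw [hζa]; group
    rw [h1, h2, ← mul_assoc] at hII0
    exact mul_right_cancel hII0
  have hII : a' * x * a'⁻¹ = x * c := by
    calc a' * x * a'⁻¹ = (a' * x⁻¹ * a'⁻¹)⁻¹ := by group
      _ = (c⁻¹ * x⁻¹)⁻¹ := by rw [hII1]
      _ = x * c := by group
  have hxc : x * c = c * x := hcc x hxP
  have hfin : c⁻¹ = c := by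
    have : c⁻¹ * x = c * x := by rw [← hI, hII, hxc]
    exact mul_right_cancel this
  apply hc1
  apply amb_sq F hcZ
  calc c * c = c⁻¹ * c := by rw [hfin]
    _ = 1 := inv_mul_cancel c

theorem main : Cfsg.IsStronglyClosed ((Subgroup.center ↥(P : Subgroup G)).map
    (P : Subgroup G).subtype) (P : Subgroup G) := by
  refine ⟨ZZ_le (P : Subgroup G), ?_⟩
  intro z hz g hgP
  change z ∈ ZZ (P : Subgroup G) at hz
  change g * z * g⁻¹ ∈ ZZ (P : Subgroup G)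
  by_contra hxZ
  have hz1 : z ≠ 1 := by
    intro h1
    apply hxZ
    rw [h1]
    have : g * 1 * g⁻¹ = 1 := by group
    rw [this]; exact one_mem _
  obtain ⟨h, hh, hz'P⟩ := step1 P F hz hgP
  obtain ⟨x, hxdef⟩ : ∃ x, x = g * z * g⁻¹ := ⟨_, rfl⟩
  rw [← hxdef] at hgP hxZ hh
  have hxp : x ^ p = 1 := by
    rw [← hh, conj_pow, amb_center_pow F hz]; group
  obtain ⟨t₀, ht₀z, ht₀x⟩ := exists_inverting P F hz hz1 hh hgP hxZ rfl hz'P
  obtain ⟨t, ht, htz, ζ, hζ, htx⟩ := exists_normalizing P F hz hz1 hgP ht₀z ht₀x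
  exact final P F hz hz1 hgP hxZ hxp ht htz hζ htx

end Main

theorem result {G : Type*} [Group G] [Finite G]
    {p : ℕ} [Fact p.Prime] (hp : p ≠ 2) (P : Sylow p G) (hE : Cfsg.IsExtraspecial p ↥P)
    (hcard : Nat.card P = p ^ 3) (hexp : Monoid.exponent ↥P = p ^ 2) :
    Cfsg.IsStronglyClosed ((Subgroup.center ↥P).map (P : Subgroup G).subtype) (P : Subgroup G) :=
  main P (facts hp hE hcard hexp)

end Cfsg.Agent.S3053
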