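import Cfsg.Statements.S3057
import Mathlib
import Cfsg.Agent.Helper15.PSolvGraph
import Cfsg.Agent.S2971
import Cfsg.Agent.S0016

set_option autoImplicit false
open Cfsg

namespace Cfsg.Agent.S3057

/-- Let p be a prime and G a finite p-solvable group of order divisible by p, with Sylow p-subgroup P. Then the Sylow p-subgroups of G fail to be chain-connected through nontrivial intersections (equivalently, G has a strongly p-embedded subgroup) if and only if O_p(G) = 1 and P is cyclic or, for p = 2, generalized quaternion. -/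
theorem result {G : Type*} [Group G] [Finite G]
    (p : ℕ) [Fact p.Prime] (hdiv : p ∣ Nat.card G) (hsol : Cfsg.IsPSolvable p G) (P : Sylow p G) :
    ¬ Cfsg.IsSylowChainConnected p G ↔
      Cfsg.pCore p G = ⊥ ∧ (IsCyclic ↥P ∨ (p = 2 ∧ ∃ n : ℕ, Nonempty (↥P ≃* QuaternionGroup (2 ^ n)))) := by
  have hp : p.Prime := Fact.out
  constructor
  · intro hnc
    obtain ⟨H, hH1, hpH, hse⟩ := Cfsg.Agent.Helper15.not_connected_iff_stronglyEmbedded.mp hnc
    obtain ⟨S₀, hS₀⟩ := Cfsg.Agent.Helper15.exists_sylow_le_of_stronglyEmbedded hpH hse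
    constructor
    · by_contra hne
      apply hH1
      have h1 : Cfsg.pCore p G ≤ (S₀ : Subgroup G) := Cfsg.Agent.Helper14.pCore_le_sylow p S₀
      have h2 := Cfsg.Agent.Helper15.normalizer_le_of_stronglyEmbedded hse
        (Cfsg.Agent.Helper14.pCore_isPGroup p) hne (h1.trans hS₀)
      rw [eq_top_iff]
      intro g _
      apply h2
      apply Subgroup.mem_normalizer_fintype
      intro n hn
      exact (Cfsg.Agent.Helper14.pCore_normal (G := G) p).conj_mem n hn g
    · have hrk' : ∀ A : Subgroup ↥(S₀ : Subgroup G), (∀ a ∈ A, ∀ b ∈ A, a * b = b * a) →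
          (∀ a ∈ A, a ^ p = 1) → Nat.card A ≤ p := by
        intro A hAc hAp
        have hcard : Nat.card ↥(A.map (S₀ : Subgroup G).subtype) = Nat.card A :=
          (Nat.card_congr (A.equivMapOfInjective _ (S₀ : Subgroup G).subtype_injective).toEquiv).symm
        rw [← hcard]
        apply Cfsg.Agent.Helper15.rank_le_one_of_stronglyEmbedded hsol H hH1 hpH hse S₀ hS₀
          (A.map (S₀ : Subgroup G).subtype) (Subgroup.map_subtype_le A)
        · rintro _ ⟨a, ha, rfl⟩ _ ⟨b, hb, rfl⟩
          have := congrArg Subtype.val (hAc a ha b hb)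
          simpa using this
        · rintro _ ⟨a, ha, rfl⟩
          have := congrArg Subtype.val (hAp a ha)
          simpa using this
      have huniq := Cfsg.Agent.S2971.unique_card_prime_of_rank_one S₀.isPGroup' hrk'
      have hres := Cfsg.Agent.S0016.result p S₀.isPGroup' huniq
      obtain ⟨g, hg⟩ := MulAction.exists_smul_eq G S₀ P
      subst hg
      have e : ↥(S₀ : Subgroup G) ≃* ↥((g • S₀ : Sylow p G) : Subgroup G) := Sylow.equivSMul S₀ g
      rcases hres with hc | ⟨h2, n, ⟨e'⟩⟩
      · left
        exact isCyclic_of_surjective e e.surjective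
      · right
        exact ⟨h2, n, ⟨e.symm.trans e'⟩⟩
  · rintro ⟨hO, hP⟩
    apply Cfsg.Agent.Helper15.not_connected_of_uniqueOmega hdiv hO
    intro T
    obtain ⟨g, hg⟩ := MulAction.exists_smul_eq G P T
    subst hg
    have e : ↥(P : Subgroup G) ≃* ↥((g • P : Sylow p G) : Subgroup G) := Sylow.equivSMul P g
    rcases hP with hc | ⟨h2, n, ⟨e'⟩⟩
    · have : IsCyclic ↥((g • P : Sylow p G) : Subgroup G) := isCyclic_of_surjective e e.surjective
      exact Cfsg.Agent.Helper14.uniqueOmega_of_isCyclic _ (g • P).isPGroup'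
    · exact Cfsg.Agent.Helper14.uniqueOmega_of_quaternion _ (g • P).isPGroup' (2 ^ n)
        (e.symm.trans e')

end Cfsg.Agent.S3057
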