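import Cfsg.Statements.S3062
import Mathlib
import Cfsg.Agent.Helper15.DStar2

set_option autoImplicit false
open Cfsg

namespace Cfsg.Agent.S3062

/-- Let S be a finite p-group, J(S) the subgroup generated by the abelian subgroups of S of largest order and Z(J(S)) its centre. Then Z(S) ≤ D*(S) ≤ Z(J(S)), and every maximal normal abelian subgroup of S contains D*(S). -/
theorem result {S : Type*} [Group S] [Finite S] {p : ℕ} [Fact p.Prime]
    (hS : IsPGroup p S) :
    Subgroup.center S ≤ Cfsg.dStar S ∧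
    Cfsg.dStar S ≤ Cfsg.thompsonSubgroupA S ⊓ Subgroup.centralizer (Cfsg.thompsonSubgroupA S : Set S) ∧
    ∀ A : Subgroup S, A.Normal → IsMulCommutative A →
      (∀ B : Subgroup S, B.Normal → IsMulCommutative B → A ≤ B → B = A) → Cfsg.dStar S ≤ A := by
  classical
  have hn : Group.IsNilpotent S := hS.isNilpotent
  have hD : Cfsg.dStar S ∈ Cfsg.dStarFamily S := Cfsg.Agent.Helper15.dStar_mem_dStarFamily
  have hDn : (Cfsg.dStar S).Normal := Cfsg.Agent.Helper15.dStar_normal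
  set D := Cfsg.dStar S with hDdef
  have hDD : ⁅D, D⁆ = ⊥ := by
    rw [Subgroup.commutator_eq_bot_iff_le_centralizer,
      Subgroup.le_centralizer_iff_isMulCommutative]
    exact hD.1
  have hstep : ∀ B ∈ Cfsg.maxAbelianSubgroups S, D ≤ Subgroup.normalizer (B : Set S) → D ≤ B := by
    intro B hB hDB
    have hc := Cfsg.Agent.Helper15.isMulCommutative_dStar_sup B hB.1 hDB
    have h1 := hB.2 (D ⊔ B) hc
    have : B = D ⊔ B := Subgroup.eq_of_le_of_card_ge le_sup_right h1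
    rw [this]; exact le_sup_left
  have hall : ∀ B ∈ Cfsg.maxAbelianSubgroups S, D ≤ B := by
    by_contra hcon
    push Not at hcon
    obtain ⟨B₀, hB₀, hB₀D⟩ := hcon
    have hne : Nonempty {B : Subgroup S // B ∈ Cfsg.maxAbelianSubgroups S ∧ ¬ D ≤ B} :=
      ⟨⟨B₀, hB₀, hB₀D⟩⟩
    obtain ⟨⟨B, hB, hBD⟩, hmax⟩ := Finite.exists_max
      (fun B : {B : Subgroup S // B ∈ Cfsg.maxAbelianSubgroups S ∧ ¬ D ≤ B} =>
        Nat.card ↥((B : Subgroup S) ⊓ D))
    have hnn : ¬ D ≤ Subgroup.normalizer (B : Set S) := fun h => hBD (hstep B hB h)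
    have hDDB : ⁅D, D⁆ ≤ B := by rw [hDD]; exact bot_le
    obtain ⟨b, hbD, hbNN, hbN⟩ :=
      Cfsg.Agent.S0649.result hS D (fun _ => hD.1) B hB.1 hDDB hnn
    obtain ⟨h1, h2, -, h4, -, -, h7, -⟩ :=
      Cfsg.Agent.S0650.result hS D (fun _ => hD.1) B hB.1 hDDB hnn b hbD hbNN hbN
    set B' : Subgroup S := (B ⊓ B.map (MulAut.conj (b⁻¹)).toMonoidHom) ⊔
      Subgroup.closure {g : S | ∃ a ∈ B, g = a * b⁻¹ * a⁻¹ * b} with hB'def
    have hB' : B' ∈ Cfsg.maxAbelianSubgroups S :=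
      ⟨h2, fun C hC => by rw [h1]; exact hB.2 C hC⟩
    by_cases hDB' : D ≤ B'
    · exact hnn (hDB'.trans h7)
    · have hle := hmax ⟨B', hB', hDB'⟩
      have heq : B ⊓ D = B' ⊓ D := Subgroup.eq_of_le_of_card_ge h4.le hle
      exact h4.ne heq
  refine ⟨le_sSup Cfsg.Agent.Helper15.center_mem_dStarFamily, ?_, ?_⟩
  · -- existence of a maximal abelian subgroup
    have hne : Nonempty {A : Subgroup S // IsMulCommutative A} := ⟨⟨⊥, inferInstance⟩⟩
    obtain ⟨⟨B₁, hB₁c⟩, hB₁max⟩ := Finite.exists_max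
      (fun A : {A : Subgroup S // IsMulCommutative A} => Nat.card ↥(A : Subgroup S))
    have hB₁ : B₁ ∈ Cfsg.maxAbelianSubgroups S := ⟨hB₁c, fun C hC => hB₁max ⟨C, hC⟩⟩
    refine le_inf ((hall B₁ hB₁).trans (le_sSup hB₁)) ?_
    rw [Subgroup.le_centralizer_iff]
    apply sSup_le
    intro B hB b hb
    rw [Subgroup.mem_centralizer_iff]
    intro d hd
    exact congrArg Subtype.val (hB.1.is_comm.comm ⟨d, hall B hB hd⟩ ⟨b, hb⟩)
  · intro A hAn hAc hAmax
    have hDA : D ≤ Subgroup.normalizer (A : Set S) := by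
      intro d _
      apply Subgroup.mem_normalizer_fintype
      intro n hn'
      exact hAn.conj_mem n hn' d
    have hc := Cfsg.Agent.Helper15.isMulCommutative_dStar_sup A hAc hDA
    have hnorm : (D ⊔ A).Normal := Subgroup.sup_normal D A
    have := hAmax (D ⊔ A) hnorm hc le_sup_right
    rw [← this]; exact le_sup_left

end Cfsg.Agent.S3062
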