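import Cfsg.Statements.S3063
import Cfsg.Agent.Helper3.ProdCard

set_option autoImplicit false
open Cfsg

namespace Cfsg.Agent.S3063

open Subgroup Pointwise

variable {S : Type*} [Group S]

/-- the join of two commuting commutative subgroups is commutative -/
theorem sup_comm_of_commute (H K : Subgroup S) [IsMulCommutative H] [IsMulCommutative K]
    (hHK : ∀ h ∈ H, ∀ k ∈ K, h * k = k * h) : IsMulCommutative ↥(H ⊔ K) := by
  rw [sup_eq_closure]
  apply isMulCommutative_closure
  rintro x (hx | hx) y (hy | hy)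
  · exact setLike_mul_comm hx hy
  · exact hHK x hx y hy
  · exact (hHK y hy x hx).symm
  · exact setLike_mul_comm hx hy

/-- key step: the replacement `C_A(D) D` -/
theorem key [Finite S] (V : Subgroup S) [V.Normal] [IsMulCommutative V]
    (hV : ∀ x y : S, x * y * x⁻¹ * y⁻¹ ∈ V)
    (A : Subgroup S) [IsMulCommutative A] (g : S) :
    ∃ Astar : Subgroup S, IsMulCommutative Astar ∧ Nat.card A ≤ Nat.card Astar ∧
      Astar ≤ A ⊔ A.map (MulAut.conj g).toMonoidHom ∧
      (A ⊔ A.map (MulAut.conj g).toMonoidHom) ⊓ V ≤ Astar ⊓ V ∧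
      ((A ⊔ A.map (MulAut.conj g).toMonoidHom) ⊓ V ≤ A →
        A.map (MulAut.conj g).toMonoidHom ≤ A) := by
  set B : Subgroup S := A.map (MulAut.conj g).toMonoidHom with hB
  set J : Subgroup S := A ⊔ B with hJ
  set D : Subgroup S := J ⊓ V with hD
  set CA : Subgroup S := A ⊓ centralizer (D : Set S) with hCA
  have hcardB : Nat.card B = Nat.card A :=
    Nat.card_congr (A.equivMapOfInjective _ (MulAut.conj g).injective).symm.toEquiv
  -- J ≤ A ⊔ V
  have hBAV : B ≤ A ⊔ V := by
    rintro _ ⟨a, ha, rfl⟩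
    have h1 : (MulAut.conj g).toMonoidHom a = a * (a⁻¹ * g * a * g⁻¹) := by
      simp [MulAut.conj_apply]; group
    rw [h1]
    refine mul_mem (mem_sup_left ha) (mem_sup_right ?_)
    have := hV a⁻¹ g
    simpa using this
  have hJAV : J ≤ A ⊔ V := sup_le le_sup_left hBAV
  -- J = A * D as sets
  have hJset : (J : Set S) = (A : Set S) * (D : Set S) := by
    ext x
    constructor
    · intro hx
      obtain ⟨a, ha, v, hv, rfl⟩ := mem_sup_of_normal_right.mp (hJAV hx)
      refine Set.mem_mul.mpr ⟨a, ha, v, ?_, rfl⟩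
      refine ⟨?_, hv⟩
      have : v = a⁻¹ * (a * v) := by group
      rw [this]
      have haJ : a ∈ J := le_sup_left (a := A) (b := B) ha
      exact J.mul_mem (J.inv_mem haJ) hx
    · rintro ⟨a, ha, d, hd, rfl⟩
      exact mul_mem (le_sup_left (a := A) (b := B) ha) hd.1
  have hAD : A ⊓ D = A ⊓ V := by
    rw [hD, ← inf_assoc, inf_eq_left.mpr (le_sup_left : A ≤ J)]
  have h1 : Nat.card J * Nat.card (A ⊓ V : Subgroup S) = Nat.card A * Nat.card D := by
    have := Cfsg.Agent.Helper3.card_mul_set_mul_card_inf A D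
    rw [← hJset, hAD] at this
    exact this
  have h2 : Nat.card A * Nat.card B ≤ Nat.card J * Nat.card (A ⊓ B : Subgroup S) := by
    rw [← Cfsg.Agent.Helper3.card_mul_set_mul_card_inf A B]
    apply Nat.mul_le_mul_right
    apply Nat.card_mono (Set.toFinite _)
    rintro _ ⟨a, ha, b, hb, rfl⟩
    exact mul_mem (le_sup_left (a := A) (b := B) ha) (le_sup_right (a := A) (b := B) hb)
  have : IsMulCommutative D := IsMulCommutative.of_setLike_mul_comm
    fun a ha b hb => setLike_mul_comm (s := V) ha.2 hb.2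
  have : IsMulCommutative CA := IsMulCommutative.of_setLike_mul_comm
    fun a ha b hb => setLike_mul_comm (s := A) ha.1 hb.1
  have hcomm : ∀ h ∈ CA, ∀ k ∈ D, h * k = k * h := by
    intro h hh k hk
    exact ((mem_centralizer_iff.mp hh.2) k hk).symm
  have hAstar : IsMulCommutative ↥(CA ⊔ D) := sup_comm_of_commute CA D hcomm
  have h3 : Nat.card CA * Nat.card D ≤
      Nat.card (CA ⊔ D : Subgroup S) * Nat.card (CA ⊓ D : Subgroup S) := by
    rw [← Cfsg.Agent.Helper3.card_mul_set_mul_card_inf CA D]
    apply Nat.mul_le_mul_right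
    apply Nat.card_mono (Set.toFinite _)
    rintro _ ⟨a, ha, b, hb, rfl⟩
    exact mul_mem (le_sup_left (a := CA) (b := D) ha) (le_sup_right (a := CA) (b := D) hb)
  have h4 : Nat.card (CA ⊓ D : Subgroup S) ≤ Nat.card (A ⊓ V : Subgroup S) :=
    Subgroup.card_le_of_le (inf_le_inf inf_le_left inf_le_right)
  have h5 : Nat.card (A ⊓ B : Subgroup S) ≤ Nat.card CA := by
    apply Subgroup.card_le_of_le
    refine le_inf inf_le_left ?_
    intro x hx
    rw [mem_centralizer_iff]
    intro d hd
    have hle : J ≤ centralizer ({x} : Set S) := by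
      refine sup_le ?_ ?_
      · intro a ha
        rw [mem_centralizer_iff]
        intro y hy
        rw [Set.mem_singleton_iff.mp hy]
        exact setLike_mul_comm (s := A) hx.1 ha
      · intro b hb
        rw [mem_centralizer_iff]
        intro y hy
        rw [Set.mem_singleton_iff.mp hy]
        have : IsMulCommutative B := by rw [hB]; infer_instance
        exact setLike_mul_comm (s := B) hx.2 hb
    have := (mem_centralizer_iff.mp (hle hd.1)) x rfl
    exact this.symm
  refine ⟨CA ⊔ D, hAstar, ?_, ?_, ?_, ?_⟩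
  · -- cardinality
    set a := Nat.card A
    set b := Nat.card B
    set j := Nat.card J
    set d := Nat.card D
    set i := Nat.card (A ⊓ V : Subgroup S)
    set k := Nat.card (A ⊓ B : Subgroup S)
    set c := Nat.card CA
    set s := Nat.card (CA ⊔ D : Subgroup S)
    set r := Nat.card (CA ⊓ D : Subgroup S)
    have ha : 0 < a := Nat.card_pos
    have hi : 0 < i := Nat.card_pos
    rw [← hcardB]
    by_contra hlt
    push Not at hlt
    have e1 : a * b * i ≤ a * s * i := by
      calc a * b * i ≤ j * k * i := Nat.mul_le_mul_right _ h2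
        _ = (j * i) * k := by ring
        _ = a * d * k := by rw [h1]
        _ ≤ a * d * c := Nat.mul_le_mul_left _ h5
        _ = a * (c * d) := by ring
        _ ≤ a * (s * r) := Nat.mul_le_mul_left _ h3
        _ ≤ a * (s * i) := Nat.mul_le_mul_left _ (Nat.mul_le_mul_left _ h4)
        _ = a * s * i := by ring
    have e2 : a * s * i < a * b * i := by
      apply Nat.mul_lt_mul_of_pos_right _ hi
      exact Nat.mul_lt_mul_of_pos_left hlt ha
    omega
  · exact sup_le (inf_le_left.trans le_sup_left) inf_le_left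
  · intro x hx
    exact ⟨mem_sup_right hx, hx.2⟩
  · intro hDA b hb
    have hbJ : b ∈ J := le_sup_right (a := A) (b := B) hb
    have : b ∈ (A : Set S) * (D : Set S) := by rw [← hJset]; exact hbJ
    obtain ⟨a, ha, d, hd, rfl⟩ := this
    exact mul_mem ha (hDA hd)

/-- A weak replacement Theorem for metabelian p-groups: let S be a finite p-group whose derived subgroup is abelian and A an abelian subgroup of S of largest possible order. Then the normal closure of A in S contains an abelian subgroup B of the same order as A that is normal in S. -/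
theorem result {S : Type*} [Group S] [Finite S] {p : ℕ} [Fact p.Prime]
    (hS : IsPGroup p S) (hmeta : IsMulCommutative ↥(commutator S))
    (A : Subgroup S) (hA : A ∈ Cfsg.maxAbelianSubgroups S) :
    ∃ B ∈ Cfsg.maxAbelianSubgroups S, B.Normal ∧ B ≤ Subgroup.normalClosure (A : Set S) := by
  classical
  have hV : ∀ x y : S, x * y * x⁻¹ * y⁻¹ ∈ commutator S := by
    intro x y
    rw [commutator_def, ← commutatorElement_def]
    exact Subgroup.commutator_mem_commutator (mem_top x) (mem_top y)
  let 𝒜 : Set (Subgroup S) := {B | B ∈ maxAbelianSubgroups S ∧ B ≤ normalClosure (A : Set S)}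
  have hfin : 𝒜.Finite := Set.toFinite _
  have hne : 𝒜.Nonempty := ⟨A, hA, le_normalClosure⟩
  obtain ⟨B, hB𝒜, hBmax⟩ :=
    Set.exists_max_image 𝒜 (fun B => Nat.card (B ⊓ commutator S : Subgroup S)) hfin hne
  refine ⟨B, hB𝒜.1, ?_, hB𝒜.2⟩
  have : IsMulCommutative B := hB𝒜.1.1
  constructor
  intro n hn g
  obtain ⟨Astar, hc, hcard, hle, hDle, himp⟩ := key (commutator S) hV B g
  have hconj : B.map (MulAut.conj g).toMonoidHom ≤ normalClosure (A : Set S) := by
    rintro _ ⟨b, hb, rfl⟩
    exact (normalClosure_normal (s := (A : Set S))).conj_mem b (hB𝒜.2 hb) g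
  have hAstar𝒜 : Astar ∈ 𝒜 :=
    ⟨⟨hc, fun C hC => (hB𝒜.1.2 C hC).trans hcard⟩, hle.trans (sup_le hB𝒜.2 hconj)⟩
  have h1 : Nat.card (Astar ⊓ commutator S : Subgroup S) ≤
      Nat.card (B ⊓ commutator S : Subgroup S) := hBmax Astar hAstar𝒜
  have hBD : B ⊓ commutator S ≤ (B ⊔ B.map (MulAut.conj g).toMonoidHom) ⊓ commutator S :=
    inf_le_inf_right _ le_sup_left
  have heq : B ⊓ commutator S = (B ⊔ B.map (MulAut.conj g).toMonoidHom) ⊓ commutator S :=
    Subgroup.eq_of_le_of_card_ge hBD ((Subgroup.card_le_of_le hDle).trans h1)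
  exact himp (heq ▸ inf_le_left) ⟨n, hn, rfl⟩

end Cfsg.Agent.S3063
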