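import Cfsg.Statements.S3067
import Cfsg.Agent.Helper24.S3067MAIN

set_option autoImplicit false
open Cfsg

namespace Cfsg.Agent.S3067

open Cfsg.Agent.S3067P

theorem aux_conj_conj_aut {G : Type*} [Group G] (φ : MulAut G) (x : G) :
    φ * MulAut.conj x * φ⁻¹ = MulAut.conj (φ x) := by
  ext y
  simp [MulAut.conj_apply]


/-- Let G be a finite non-abelian simple group, τ an involution of G, and α a nontrivial automorphism of G whose order is coprime to the order of G. Then α moves some element of the centralizer of τ: α does not fix C_G(τ) elementwise. -/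
theorem result {G : Type*} [Group G] [Finite G] [IsSimpleGroup G]
    (hG : ¬ IsMulCommutative G) (τ : G) (hτ : orderOf τ = 2) (α : MulAut G) (hα : α ≠ 1)
    (hcop : (orderOf α).Coprime (Nat.card G)) :
    ∃ c ∈ Subgroup.centralizer ({τ} : Set G), α c ≠ c := by
  classical
  by_contra hcon
  push Not at hcon
  -- centre is trivial
  have hZ : Subgroup.center G = ⊥ := by
    rcases (Subgroup.center G).normal_of_characteristic.eq_bot_or_eq_top with h1 | h1
    · exact h1
    · exfalso
      apply hG
      refine ⟨⟨fun x y => ?_⟩⟩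
      have : y ∈ Subgroup.center G := by rw [h1]; trivial
      exact (Subgroup.mem_center_iff.1 this x)
  have hconj_inj : ∀ x y : G, MulAut.conj x = MulAut.conj y → x = y := by
    intro x y hxy
    have h1 : y⁻¹ * x ∈ Subgroup.center G := by
      rw [Subgroup.mem_center_iff]
      intro g
      have := congrArg (fun f : MulAut G => f g) hxy
      simp only [MulAut.conj_apply] at this
      calc g * (y⁻¹ * x) = y⁻¹ * (y * g * y⁻¹) * x := by group
        _ = y⁻¹ * (x * g * x⁻¹) * x := by rw [this]
        _ = y⁻¹ * x * g := by group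
    rw [hZ, Subgroup.mem_bot] at h1
    calc x = y * (y⁻¹ * x) := by group
      _ = y := by rw [h1, mul_one]
  have hfin : Finite (MulAut G) := inferInstance
  -- prime order power of α
  have hord_pos : 0 < orderOf α := orderOf_pos α
  have hord_ne1 : orderOf α ≠ 1 := fun h1 => hα (orderOf_eq_one_iff.1 h1)
  set r := (orderOf α).minFac with hr
  have hrp : r.Prime := Nat.minFac_prime hord_ne1
  have hrd : r ∣ orderOf α := Nat.minFac_dvd _
  set β : MulAut G := α ^ (orderOf α / r) with hβ
  have hβord : orderOf β = r := orderOf_pow_orderOf_div hord_pos.ne' hrd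
  have hβfix : ∀ c ∈ Subgroup.centralizer ({τ} : Set G), β c = c := by
    intro c hc
    have h1 : ∀ k : ℕ, (α ^ k) c = c := by
      intro k
      induction k with
      | zero => simp
      | succ k ih => rw [pow_succ, MulAut.mul_apply, hcon c hc, ih]
    exact h1 _
  have hcopr : (Nat.card G).Coprime r := (Nat.Coprime.coprime_dvd_left hrd hcop).symm
  -- the internal setting
  let G' : Subgroup (MulAut G) := (MulAut.conj : G →* MulAut G).range
  have hτ2 : τ * τ = 1 := by
    have := pow_orderOf_eq_one τ
    rw [hτ, pow_two] at this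
    exact this
  have hτ1 : τ ≠ 1 := by
    intro h1
    rw [h1, orderOf_one] at hτ
    norm_num at hτ
  have hHyp : Hyp β r G' (MulAut.conj τ) :=
    { hr := hrp
      har := by rw [← hβord]; exact pow_orderOf_eq_one β
      hnorm := by
        rintro g ⟨x, rfl⟩
        refine ⟨β⁻¹ x, ?_⟩
        have := aux_conj_conj_aut β⁻¹ x
        rw [inv_inv] at this
        exact this.symm
      hnorm' := by
        rintro g ⟨x, rfl⟩
        exact ⟨β x, (aux_conj_conj_aut β x).symm⟩
      hcop := by
        have h1 : Nat.card G' ∣ Nat.card G := Subgroup.card_range_dvd _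
        exact Nat.Coprime.coprime_dvd_left h1 hcopr
      hτG := ⟨τ, rfl⟩
      hτ2 := by rw [← map_mul, hτ2, map_one]
      hτ1 := by
        intro h1
        apply hτ1
        apply hconj_inj
        rw [h1, map_one]
      hcent := by
        rintro g ⟨x, rfl⟩ hcomm
        have h1 : x * τ = τ * x := by
          apply hconj_inj
          rw [map_mul, map_mul]; exact hcomm
        have h2 : x ∈ Subgroup.centralizer ({τ} : Set G) := by
          rw [Subgroup.mem_centralizer_singleton_iff]; exact h1
        have h3 := hβfix x h2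
        have h4 := aux_conj_conj_aut β x
        rw [h3] at h4
        calc MulAut.conj x * β = (β * MulAut.conj x * β⁻¹)⁻¹⁻¹ * β := by rw [h4]; group
          _ = β * MulAut.conj x := by group }
  have hodd := MAIN β r (Nat.card G') G' (MulAut.conj τ) rfl hHyp
  -- pull back R to a normal subgroup of G
  let R' : Subgroup G := (R β G').comap (MulAut.conj : G →* MulAut G)
  have hR'n : R'.Normal := by
    constructor
    intro x hx g
    show MulAut.conj (g * x * g⁻¹) ∈ R β G'
    have := R_normal (a := β) (G := G') (MulAut.conj g⁻¹) ⟨g⁻¹, rfl⟩ (MulAut.conj x) hx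
    have e : (MulAut.conj g⁻¹)⁻¹ * MulAut.conj x * MulAut.conj g⁻¹ = MulAut.conj (g * x * g⁻¹) := by
      rw [← map_inv, ← map_mul, ← map_mul, inv_inv]
    rw [e] at this
    exact this
  rcases hR'n.eq_bot_or_eq_top with h1 | h1
  · -- β = 1
    have hβ1 : β = 1 := by
      ext x
      have hmem : (MulAut.conj x)⁻¹ * β⁻¹ * (MulAut.conj x) * β ∈ R β G' := gen_mem_R ⟨x, rfl⟩
      have e : (MulAut.conj x)⁻¹ * β⁻¹ * (MulAut.conj x) * β = MulAut.conj (x⁻¹ * β⁻¹ x) := by
        have := aux_conj_conj_aut β⁻¹ x
        rw [inv_inv] at this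
        rw [map_mul, ← this, map_inv]; group
      rw [e] at hmem
      have h2 : x⁻¹ * β⁻¹ x ∈ R' := hmem
      rw [h1, Subgroup.mem_bot] at h2
      have h3 : β⁻¹ x = x := by
        calc β⁻¹ x = x * (x⁻¹ * β⁻¹ x) := by group
          _ = x := by rw [h2, mul_one]
      have h4 : β x = x := by
        conv_lhs => rw [← h3]
        simp
      simpa using h4
    rw [hβ1, orderOf_one] at hβord
    exact hrp.one_lt.ne hβord
  · -- conj τ ∈ R, order 2, contradiction with odd order
    have hmem : MulAut.conj τ ∈ R β G' := by
      have : τ ∈ R' := by rw [h1]; trivial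
      exact this
    have hord : orderOf (MulAut.conj τ) = 2 := by
      rw [orderOf_injective (MulAut.conj : G →* MulAut G) (fun x y => hconj_inj x y) τ, hτ]
    have hdvd := Subgroup.orderOf_dvd_natCard (R β G') hmem
    rw [hord] at hdvd
    exact (Nat.not_even_iff_odd.2 hodd) (even_iff_two_dvd.2 hdvd)


end Cfsg.Agent.S3067
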