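import Cfsg.Statements.S3071
import Cfsg.Agent.Helper15.SL2Free6
import Cfsg.Agent.S0656

set_option autoImplicit false
open Cfsg

namespace Cfsg.Agent.S3071

/-- Let p be an odd prime and S a Sylow p-subgroup of the finite group G such that, for every subgroup P with Z(S) ≤ P ≤ S, the normalizer N_G(P) has no section isomorphic to SL₂(p). Let J(S) be the subgroup generated by the abelian subgroups of S of largest order. Then two elements of S are conjugate in G if and only if they are conjugate in N_G(Z(J(S))). -/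
theorem result {G : Type*} [Group G] [Finite G] {p : ℕ} [Fact p.Prime]
    (hp : p ≠ 2) (S : Sylow p G)
    (hfree : ∀ P : Subgroup G, (S : Subgroup G) ⊓ Subgroup.centralizer ((S : Subgroup G) : Set G) ≤ P → P ≤ S →
      ¬ ∃ (H K : Subgroup G) (hK : (K.subgroupOf H).Normal), H ≤ Subgroup.normalizer (P : Set G) ∧
        Nonempty ((H ⧸ K.subgroupOf H) ≃* Matrix.SpecialLinearGroup (Fin 2) (ZMod p))) :
    ∀ x ∈ S, ∀ y ∈ S, (∃ g : G, g * x * g⁻¹ = y) ↔
      ∃ n ∈ Subgroup.normalizer (Cfsg.centerThompsonAOf (S : Subgroup G) : Set G), n * x * n⁻¹ = y := by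
  intro x hx y hy
  constructor
  · rintro ⟨g, hg⟩
    have hfree' : ∀ P : Subgroup G,
        (S : Subgroup G) ⊓ Subgroup.centralizer ((S : Subgroup G) : Set G) ≤ P → P ≤ (S : Subgroup G) →
        ¬ Involves (Matrix.SpecialLinearGroup (Fin 2) (ZMod p)) ↥(Subgroup.normalizer (P : Set G)) := by
      intro P hZP hPS hinv
      apply hfree P hZP hPS
      obtain ⟨H, K, hK, hHN, he⟩ :=
        Cfsg.Agent.Helper15.SL2Free.exists_section_le_of_involves _ hinv
      exact ⟨H, K, hK, hHN, he⟩
    have hX : ({x} : Set G) ⊆ ((S : Subgroup G) : Set G) := by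
      intro z hz
      rw [Set.mem_singleton_iff] at hz
      rw [hz]
      exact hx
    have haX : Cfsg.Agent.Helper10.rc g⁻¹ ({x} : Set G) ⊆ ((S : Subgroup G) : Set G) := by
      rintro _ ⟨z, hz, rfl⟩
      rw [Set.mem_singleton_iff] at hz
      rw [hz]
      simp only [inv_inv]
      rw [hg]
      exact hy
    obtain ⟨n, hn, hact⟩ := Cfsg.Agent.Helper15.SL2Free.controls_zjA_of_locally_free
      (fun G' _ _ V H hV hHV hf hO x hxH hx1 hxp hq =>
        Cfsg.Agent.S0656.result hp V H hV hHV hf hO x hxH hx1 hxp hq)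
      hp S hfree' {x} g⁻¹ hX haX
    refine ⟨n⁻¹, Subgroup.inv_mem _ hn, ?_⟩
    have h1 := hact x rfl
    rw [inv_inv] at h1 ⊢
    rw [h1, hg]
  · rintro ⟨n, _, hn⟩
    exact ⟨n, hn⟩

end Cfsg.Agent.S3071
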