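import Cfsg.Statements.S3073
import Cfsg.Agent.Helper15.KChar5
import Cfsg.Agent.S2007
import Cfsg.Agent.Helper9.NPCSub

set_option autoImplicit false
universe u
open Cfsg

namespace Cfsg.Agent.S3073

/-- For an odd prime p, every finite p-group S has a characteristic subgroup K with C_S(K) ≤ K such that, whenever S is (isomorphic to) a Sylow p-subgroup of a finite group G, G has a normal p-complement if and only if N_G(K)/C_G(K) is a p-group, i.e. every element of N_G(K) of order prime to p centralizes K (K transported into G along the isomorphism). -/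
theorem result (p : ℕ) [Fact p.Prime] (hp : p ≠ 2)
    (S : Type u) [Group S] [Finite S] (hS : IsPGroup p S) :
    ∃ K : Subgroup S, K.Characteristic ∧ Subgroup.centralizer (K : Set S) ≤ K ∧
      ∀ (G : Type u) [Group G] [Finite G] (P : Sylow p G) (e : ↥(P : Subgroup G) ≃* S),
        Cfsg.HasNormalPComplement p G ↔
          ∀ g ∈ Subgroup.normalizer (((K.comap (e : ↥(P : Subgroup G) →* S)).map (P : Subgroup G).subtype : Subgroup G) : Set G),
            (orderOf g).Coprime p →
              g ∈ Subgroup.centralizer (((K.comap (e : ↥(P : Subgroup G) →* S)).map (P : Subgroup G).subtype : Subgroup G) : Set G) := by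
  obtain ⟨K, hKc, hKs, hKg⟩ := Cfsg.Agent.Helper15.exists_npcGood hp (Nat.card S) S hS rfl
  refine ⟨K, hKc, hKs, ?_⟩
  intro G _ _ P e
  obtain ⟨f, hfdef⟩ : ∃ f : S →* G, f = (P : Subgroup G).subtype.comp e.symm.toMonoidHom := ⟨_, rfl⟩
  have hf : Function.Injective f := by
    rw [hfdef]
    exact (P : Subgroup G).subtype_injective.comp e.symm.injective
  have hr : f.range = (P : Subgroup G) := by
    rw [hfdef, MonoidHom.range_comp]
    have : e.symm.toMonoidHom.range = ⊤ := MonoidHom.range_eq_top.mpr e.symm.surjective
    rw [this, ← MonoidHom.range_eq_map, Subgroup.range_subtype]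
  have hT : (K.comap (e : ↥(P : Subgroup G) →* S)).map (P : Subgroup G).subtype = K.map f := by
    rw [hfdef, ← Subgroup.map_map]
    congr 1
    ext x
    constructor
    · intro hx
      exact ⟨e x, hx, by simp⟩
    · rintro ⟨s, hs, rfl⟩
      show e (e.symm s) ∈ K
      simpa using hs
  rw [hT]
  have hTP : K.map f ≤ (P : Subgroup G) := by
    rw [← hr]; exact Subgroup.map_le_range f K
  have hTn : (P : Subgroup G) ≤ Subgroup.normalizer ((K.map f : Subgroup G) : Set G) := by
    refine le_trans ?_ (Cfsg.Agent.Helper15.normalizer_range_le_normalizer_map f hf K hKc)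
    rw [hr]
    exact Subgroup.le_normalizer
  constructor
  · intro h g hg hcop
    have hN := Cfsg.Agent.Helper9.hasNormalPComplement_subgroup h
      (Subgroup.normalizer ((K.map f : Subgroup G) : Set G))
    have hDp : IsPGroup p ((K.map f).subgroupOf
        (Subgroup.normalizer ((K.map f : Subgroup G) : Set G))) :=
      (P.2.to_le hTP).comap_subtype
    have hDn : ((K.map f).subgroupOf
        (Subgroup.normalizer ((K.map f : Subgroup G) : Set G))).Normal :=
      Subgroup.normal_in_normalizer
    rw [Subgroup.mem_centralizer_iff]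
    intro x hx
    have hcop' : Nat.Coprime (orderOf (⟨g, hg⟩ :
        ↥(Subgroup.normalizer ((K.map f : Subgroup G) : Set G)))) p := by
      rw [Subgroup.orderOf_mk]; exact hcop
    have := Cfsg.Agent.Helper9.commute_of_hasNormalPComplement hN _ hDp ⟨g, hg⟩ hcop'
      ⟨x, Subgroup.le_normalizer hx⟩ (by rw [Subgroup.mem_subgroupOf]; exact hx)
    exact (congrArg Subtype.val this).symm
  · intro h
    apply hKg G P f hf hr
    apply Cfsg.Agent.S2007.result P (K.map f) hTP hTn _ h
    rintro x ⟨hxP, hxC⟩
    rw [SetLike.mem_coe, ← hr] at hxP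
    obtain ⟨s, rfl⟩ := hxP
    refine ⟨s, hKs ?_, rfl⟩
    rw [Subgroup.mem_centralizer_iff]
    intro k hk
    apply hf
    rw [map_mul, map_mul]
    exact Subgroup.mem_centralizer_iff.mp hxC (f k) ⟨k, hk, rfl⟩

end Cfsg.Agent.S3073
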