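import Cfsg.Statements.S3076
import Mathlib
import Cfsg.Agent.Helper15.SylowInPre

set_option autoImplicit false
open Cfsg

namespace Cfsg.Agent.S3076

/-- Let P be a Sylow p-subgroup of the finite group G and H ≤ P a subgroup with N_P(H) a Sylow p-subgroup of N_G(H). Let N be the preimage in N_G(H) of O_p(N_G(H)/C_G(H)). Then H is a Sylow p-subgroup of N if and only if C_P(H) ≤ H and O_{p',p}(N_G(H)) = H·C_G(H). -/
theorem result {G : Type*} [Group G] [Finite G] {p : ℕ} [Fact p.Prime]
    (P : Sylow p G) (H : Subgroup G) (hHP : H ≤ (P : Subgroup G))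
    (hSyl : ¬ p ∣ ((P : Subgroup G) ⊓ Subgroup.normalizer (H : Set G)).relIndex (Subgroup.normalizer (H : Set G)))
    [hC : ((Subgroup.centralizer (H : Set G)).subgroupOf (Subgroup.normalizer (H : Set G))).Normal] :
    (H ≤ ((Cfsg.pCore p (↥(Subgroup.normalizer (H : Set G)) ⧸
              (Subgroup.centralizer (H : Set G)).subgroupOf (Subgroup.normalizer (H : Set G)))).comap
            (QuotientGroup.mk' _)).map (Subgroup.normalizer (H : Set G)).subtype ∧
      ¬ p ∣ H.relIndex (((Cfsg.pCore p (↥(Subgroup.normalizer (H : Set G)) ⧸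
              (Subgroup.centralizer (H : Set G)).subgroupOf (Subgroup.normalizer (H : Set G)))).comap
            (QuotientGroup.mk' _)).map (Subgroup.normalizer (H : Set G)).subtype)) ↔
    ((P : Subgroup G) ⊓ Subgroup.centralizer (H : Set G) ≤ H ∧
      (Cfsg.pPrimePCore p ↥(Subgroup.normalizer (H : Set G))).map (Subgroup.normalizer (H : Set G)).subtype =
        H ⊔ Subgroup.centralizer (H : Set G)) := by
  have hp : p.Prime := Fact.out
  set M : Subgroup G := Subgroup.normalizer (H : Set G) with hM
  set C : Subgroup G := Subgroup.centralizer (H : Set G) with hCd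
  have hHM : H ≤ M := Subgroup.le_normalizer
  have hCM : C ≤ M := Subgroup.centralizer_le_normalizer _
  set CM : Subgroup M := C.subgroupOf M with hCMd
  set HM : Subgroup M := H.subgroupOf M with hHMd
  have hHMn : HM.Normal := Subgroup.normal_in_normalizer
  have hHMp : IsPGroup p HM := (P.isPGroup'.to_le hHP).comap_subtype
  set S : Subgroup M := (P : Subgroup G).subgroupOf M with hSd
  have hSp : IsPGroup p S := P.isPGroup'.comap_subtype
  have hSidx : ¬ p ∣ S.index := by
    have : S.index = ((P : Subgroup G) ⊓ M).relIndex M := by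
      rw [Subgroup.inf_relIndex_right]; rfl
    rw [this]; exact hSyl
  have hCdef : ∀ x : M, x ∈ CM ↔ ∀ h ∈ HM, h * x = x * h := by
    intro x
    constructor
    · intro hx h hh
      have hx' : (x : G) ∈ C := Subgroup.mem_subgroupOf.mp hx
      have := (Subgroup.mem_centralizer_iff.mp hx') (h : G) (Subgroup.mem_subgroupOf.mp hh)
      apply Subtype.ext
      push_cast
      exact this
    · intro hx
      refine Subgroup.mem_subgroupOf.mpr (Subgroup.mem_centralizer_iff.mpr ?_)
      intro h hh
      have := hx ⟨h, hHM hh⟩ (Subgroup.mem_subgroupOf.mpr hh)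
      have := congrArg Subtype.val this
      simpa using this
  have key := Cfsg.Agent.Helper15.sylow_preOp_iff (p := p) HM CM hHMp hCdef S hSp hSidx
  set N : Subgroup M := Cfsg.Agent.Helper15.preOp p CM with hN
  have hHN : HM ≤ N := Cfsg.Agent.Helper15.le_preOp HM CM hHMp
  have e1 : H ≤ N.map M.subtype := by
    intro h hh
    exact ⟨⟨h, hHM hh⟩, hHN (Subgroup.mem_subgroupOf.mpr hh), rfl⟩
  have e2 : H.relIndex (N.map M.subtype) = HM.relIndex N := by
    rw [← Subgroup.relIndex_subgroupOf (Subgroup.map_subtype_le N)]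
    have : (N.map M.subtype).subgroupOf M = N :=
      Subgroup.comap_map_eq_self_of_injective M.subtype_injective N
    rw [this]
  have e3 : ((P : Subgroup G) ⊓ C ≤ H) ↔ (S ⊓ CM ≤ HM) := by
    constructor
    · intro h x hx
      exact Subgroup.mem_subgroupOf.mpr
        (h ⟨Subgroup.mem_subgroupOf.mp hx.1, Subgroup.mem_subgroupOf.mp hx.2⟩)
    · intro h g hg
      have : (⟨g, hCM hg.2⟩ : M) ∈ S ⊓ CM :=
        ⟨Subgroup.mem_subgroupOf.mpr hg.1, Subgroup.mem_subgroupOf.mpr hg.2⟩
      exact Subgroup.mem_subgroupOf.mp (h this)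
  have e4 : ((Cfsg.pPrimePCore p ↥M).map M.subtype = H ⊔ C) ↔
      (Cfsg.pPrimePCore p ↥M = HM ⊔ CM) := by
    have hmap : (HM ⊔ CM).map M.subtype = H ⊔ C := by
      rw [Subgroup.map_sup, hHMd, hCMd, Subgroup.subgroupOf_map_subtype,
        Subgroup.subgroupOf_map_subtype, inf_of_le_left hHM, inf_of_le_left hCM]
    constructor
    · intro h
      apply Subgroup.map_injective M.subtype_injective
      rw [h, hmap]
    · intro h
      rw [h, hmap]
  show (H ≤ N.map M.subtype ∧ ¬ p ∣ H.relIndex (N.map M.subtype)) ↔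
    ((P : Subgroup G) ⊓ C ≤ H ∧ (Cfsg.pPrimePCore p ↥M).map M.subtype = H ⊔ C)
  rw [e2, e3, e4, ← key]
  exact ⟨fun h => h.2, fun h => ⟨e1, h⟩⟩

end Cfsg.Agent.S3076
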