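import Cfsg.Statements.S3078
import Cfsg.Agent.Helper15.GlaubRank
import Cfsg.Agent.S0649

set_option autoImplicit false
open Cfsg

namespace Cfsg.Agent.S3078

open scoped commutatorElement

/-- A replacement Theorem for abelian subgroups of p-groups, p odd. Let G be a finite p-group with p odd, A an abelian subgroup of G, and B a subgroup of nilpotency class at most 2 with [B, B] ≤ A, such that A normalizes B but B does not normalize A. Then there is an abelian subgroup A* of G of the same order as A with A ∩ B strictly contained in A* ∩ B, A* contained in N_G(A) and in the normal closure of A, the exponent of A* dividing the exponent of A, and with the subgroup generated by the elements of order dividing p in A of order at most that of the corresponding subgroup of A* (the rank of A is at most the rank of A*). -/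
theorem result {G : Type*} [Group G] [Finite G] {p : ℕ} [Fact p.Prime] (hp : p ≠ 2) (hG : IsPGroup p G) (A B : Subgroup G) (hA : IsMulCommutative A) (hB2 : ⁅⁅B, B⁆, B⁆ = ⊥) (hBA : ⁅B, B⁆ ≤ A) (hAB : A ≤ Subgroup.normalizer (B : Set G)) (hBnA : ¬ B ≤ Subgroup.normalizer (A : Set G)) : ∃ Astar : Subgroup G, IsMulCommutative Astar ∧ Nat.card Astar = Nat.card A ∧ A ⊓ B < Astar ⊓ B ∧ Astar ≤ Subgroup.normalizer (A : Set G) ∧ Astar ≤ Subgroup.normalClosure (A : Set G) ∧ Monoid.exponent Astar ∣ Monoid.exponent A ∧ Nat.card (Cfsg.omegaOne p A) ≤ Nat.card (Cfsg.omegaOne p Astar) := by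
  classical
  open Cfsg.Agent.Helper26 Cfsg.Agent.Helper15 Subgroup in
  have hpp : p.Prime := Fact.out
  have hodd : Odd p := hpp.odd_of_ne_two hp
  set Sg : Subgroup G := A ⊔ B with hSg
  have hASg : A ≤ Sg := le_sup_left
  have hBSg : B ≤ Sg := le_sup_right
  set A' : Subgroup Sg := A.subgroupOf Sg with hA'
  set B' : Subgroup Sg := B.subgroupOf Sg with hB'
  have hSgN : Sg ≤ normalizer (B : Set G) := sup_le hAB le_normalizer
  have hB'n : B'.Normal := (normal_subgroupOf_iff_le_normalizer hBSg).mpr hSgN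
  have hSp : IsPGroup p Sg := hG.to_subgroup Sg
  have hA'c : IsMulCommutative A' := inferInstance
  have hcommA : ∀ x ∈ A, ∀ y ∈ A, x * y = y * x := fun x hx y hy => setLike_mul_comm hx hy
  have hcommA' : ∀ x ∈ A', ∀ y ∈ A', x * y = y * x := fun x hx y hy => setLike_mul_comm hx hy
  have hBA' : ⁅B', B'⁆ ≤ A' := by
    rw [commutator_le]
    intro x hx y hy
    rw [hA', mem_subgroupOf]
    have : ((⁅x, y⁆ : Sg) : G) = ⁅(x : G), (y : G)⁆ := by simp [commutatorElement_def]
    rw [this]
    exact hBA (commutator_mem_commutator (mem_subgroupOf.mp hx) (mem_subgroupOf.mp hy))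
  have hnormA : ∀ x : Sg, x ∈ normalizer (A' : Set Sg) → (x : G) ∈ normalizer (A : Set G) := by
    intro x hx
    apply mem_normalizer_of_map_conj_le
    rintro _ ⟨a, ha, rfl⟩
    have h1 := (mem_normalizer_iff.mp hx ⟨a, hASg ha⟩).mp (mem_subgroupOf.mpr ha)
    have h2 := mem_subgroupOf.mp h1
    simpa [MulAut.conj_apply] using h2
  have hnot' : ¬ B' ≤ normalizer (A' : Set Sg) := by
    intro hle
    apply hBnA
    intro b hb
    exact hnormA ⟨b, hBSg hb⟩ (hle (mem_subgroupOf.mpr hb))
  obtain ⟨b, hbB, hbN, hbA⟩ := Cfsg.Agent.S0649.result hSp B' (fun h => absurd h hp) A' hA'c hBA' hnot'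
  have h : ReplHyp A' B' b :=
    { comm := hcommA'
      normalB := fun g x hx => hB'n.conj_mem x hx g
      derived := hBA'
      hb := hbB
      hbN := hbN }
  have hXc := h.replX_comm hSp (fun h2 => absurd h2 hp)
  have hcomm := h.replStar_comm hXc
  set As' : Subgroup Sg := replStar A' b with hAs'
  have hAs'c : IsMulCommutative As' :=
    ⟨⟨fun x y => Subtype.ext (hcomm x.1 x.2 y.1 y.2)⟩⟩
  have hmapA : A'.map Sg.subtype = A := by
    rw [hA', subgroupOf_map_subtype]; exact inf_eq_left.mpr hASg
  have hmapB : B'.map Sg.subtype = B := by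
    rw [hB', subgroupOf_map_subtype]; exact inf_eq_left.mpr hBSg
  have hcardmap : ∀ K : Subgroup Sg, Nat.card (K.map Sg.subtype) = Nat.card K := fun K =>
    Nat.card_congr (K.equivMapOfInjective _ Sg.subtype_injective).symm.toEquiv
  have hcommAs : ∀ x ∈ As'.map Sg.subtype, ∀ y ∈ As'.map Sg.subtype, x * y = y * x := by
    rintro _ ⟨x, hx, rfl⟩ _ ⟨y, hy, rfl⟩
    have := hcomm x hx y hy
    exact congrArg Subtype.val this
  refine ⟨As'.map Sg.subtype, inferInstance, ?_, ?_, ?_, ?_, ?_, ?_⟩
  · rw [hcardmap, h.card_star hXc, ← hcardmap A', hmapA]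
  · have h1 := h.inf_B_lt hbA
    have h2 := (map_lt_map_iff_of_injective Sg.subtype_injective).mpr h1
    rw [map_inf _ _ _ Sg.subtype_injective, map_inf _ _ _ Sg.subtype_injective, hmapA, hmapB] at h2
    exact h2
  · rintro _ ⟨x, hx, rfl⟩
    exact hnormA x (h.replStar_le_NA hx)
  · rw [map_le_iff_le_comap]
    rw [hAs', replStar, sup_le_iff]
    constructor
    · intro x hx
      rw [mem_comap]
      exact le_normalClosure (mem_subgroupOf.mp hx.1)
    · rw [replX, closure_le]
      rintro _ ⟨a, ha, rfl⟩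
      rw [SetLike.mem_coe, mem_comap]
      have haA : (a : G) ∈ A := mem_subgroupOf.mp ha
      have e : Sg.subtype (a * b⁻¹ * a⁻¹ * b) = (a : G) * ((b : G)⁻¹ * (a : G)⁻¹ * ((b : G)⁻¹)⁻¹) := by
        simp; group
      rw [e]
      refine mul_mem (le_normalClosure haA) ?_
      exact (normalClosure_normal (s := (A : Set G))).conj_mem _
        (le_normalClosure (A.inv_mem haA)) _
  · have e1 : Monoid.exponent ↥(As'.map Sg.subtype) = Monoid.exponent As' :=
      (Monoid.exponent_eq_of_mulEquiv (As'.equivMapOfInjective _ Sg.subtype_injective)).symm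
    have e2 : Monoid.exponent A = Monoid.exponent A' :=
      Monoid.exponent_eq_of_mulEquiv (subgroupOfEquivOfLe hASg).symm
    rw [e1, e2]
    apply Monoid.exponent_dvd_of_forall_pow_eq_one
    intro x
    apply Subtype.ext
    rw [SubmonoidClass.coe_pow, OneMemClass.coe_one]
    have hodd' : Odd (Monoid.exponent A') := by
      have h1 : Monoid.exponent A' ∣ Nat.card A' := Group.exponent_dvd_nat_card
      obtain ⟨k, hk⟩ := (hSp.to_subgroup A').exists_card_eq
      rw [hk] at h1
      exact Odd.of_dvd_nat hodd.pow h1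
    exact h.pow_eq_one_star hXc _ (fun a ha => pow_exponent_of_mem A' ha) hodd' x.1 x.2
  · rw [omegaOne_eq_torsSub A hcommA p, omegaOne_eq_torsSub (As'.map Sg.subtype) hcommAs p]
    have h1 := card_torsSub_le h hXc hodd
    have e1 : Nat.card (torsSub A hcommA p) = Nat.card (torsSub A' h.comm p) := by
      rw [← hcardmap]
      congr 2
      ext x
      constructor
      · rintro ⟨hx, hxp⟩
        exact ⟨⟨x, hASg hx⟩, ⟨mem_subgroupOf.mpr hx, Subtype.ext (by simpa using hxp)⟩, rfl⟩
      · rintro ⟨y, ⟨hy, hyp⟩, rfl⟩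
        exact ⟨mem_subgroupOf.mp hy, by simpa using congrArg Subtype.val hyp⟩
    have e2 : Nat.card (torsSub (As'.map Sg.subtype) hcommAs p) =
        Nat.card (torsSub As' hcomm p) := by
      rw [← hcardmap]
      congr 2
      ext x
      constructor
      · rintro ⟨⟨y, hy, rfl⟩, hxp⟩
        exact ⟨y, ⟨hy, Subtype.ext (by simpa using hxp)⟩, rfl⟩
      · rintro ⟨y, ⟨hy, hyp⟩, rfl⟩
        exact ⟨⟨y, hy, rfl⟩, by simpa using congrArg Subtype.val hyp⟩
    rw [e1, e2]
    exact h1

end Cfsg.Agent.S3078
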