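import Cfsg.Statements.S3087
import Mathlib

set_option autoImplicit false
open Cfsg

namespace Cfsg.Agent.S3087


theorem add_card_mul_relIndex {M : Type*} [AddCommGroup M] {H K : AddSubgroup M} (h : H ≤ K) :
    Nat.card H * H.relIndex K = Nat.card K := by
  have := AddSubgroup.relIndex_mul_relIndex (⊥ : AddSubgroup M) H K bot_le h
  rwa [AddSubgroup.relIndex_bot_left, AddSubgroup.relIndex_bot_left] at this

theorem add_card_mul_card_le {M : Type*} [AddCommGroup M] [Finite M] (Q R : AddSubgroup M) :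
    Nat.card Q * Nat.card R ≤ Nat.card ↥(Q ⊔ R) * Nat.card ↥(Q ⊓ R) := by
  have h1 : Nat.card ↥(Q ⊓ R) * R.relIndex Q = Nat.card Q := by
    rw [← AddSubgroup.inf_relIndex_left]
    exact add_card_mul_relIndex inf_le_left
  have h2 : Nat.card R * R.relIndex (Q ⊔ R) = Nat.card ↥(Q ⊔ R) :=
    add_card_mul_relIndex le_sup_right
  have h0 : R.relIndex (Q ⊔ R) ≠ 0 := by
    unfold AddSubgroup.relIndex
    exact AddSubgroup.index_ne_zero_of_finite
  have h3 : R.relIndex Q ≤ R.relIndex (Q ⊔ R) :=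
    AddSubgroup.relIndex_le_of_le_right le_sup_left h0
  calc Nat.card Q * Nat.card R = Nat.card ↥(Q ⊓ R) * R.relIndex Q * Nat.card R := by rw [h1]
    _ ≤ Nat.card ↥(Q ⊓ R) * R.relIndex (Q ⊔ R) * Nat.card R := by gcongr
    _ = Nat.card ↥(Q ⊔ R) * Nat.card ↥(Q ⊓ R) := by rw [← h2]; ring

/-- fixed points of a subgroup as an additive subgroup -/
def fixAdd {G V : Type*} [Group G] [AddCommGroup V] (p : ℕ) [Module (ZMod p) V]
    (ρ : Representation (ZMod p) G V) (H : Subgroup G) : AddSubgroup V where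
  carrier := {v | ∀ h ∈ H, ρ h v = v}
  zero_mem' := by intro h _; simp
  add_mem' := by intro a b ha hb h hh; rw [map_add, ha h hh, hb h hh]
  neg_mem' := by intro a ha h hh; rw [map_neg, ha h hh]

/-- Let p be a prime, G a finite group acting linearly on a finite vector space V over the field with p elements, W a G-invariant subspace, and A a subgroup of G with |A|·|C_V(A)| ≥ |B|·|C_V(B)| for every subgroup B of A. Then |A|·|C_W(A)| ≥ |B|·|C_W(B)| for every subgroup B of A that contains C_A(W); that is, the image of A in the group induced on W satisfies the same maximality condition. -/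
theorem result {G V : Type*} [Group G] [Finite G] [AddCommGroup V] [Finite V] (p : ℕ) [Fact p.Prime] [Module (ZMod p) V]
    (ρ : Representation (ZMod p) G V) (W : Submodule (ZMod p) V) (hW : ∀ g : G, ∀ w ∈ W, ρ g w ∈ W)
    (A : Subgroup G)
    (hP : ∀ B : Subgroup G, B ≤ A →
      Nat.card ↥B * Nat.card {v : V // ∀ b ∈ B, ρ b v = v} ≤ Nat.card ↥A * Nat.card {v : V // ∀ a ∈ A, ρ a v = v})
    (B : Subgroup G) (hBA : B ≤ A) (hCB : ∀ a ∈ A, (∀ w ∈ W, ρ a w = w) → a ∈ B) :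
    Nat.card ↥B * Nat.card {w : W // ∀ b ∈ B, ρ b w = w} ≤ Nat.card ↥A * Nat.card {w : W // ∀ a ∈ A, ρ a w = w} := by
  classical
  set CVA := fixAdd p ρ A with hCVA
  set CVB := fixAdd p ρ B with hCVB
  set Wa : AddSubgroup V := W.toAddSubgroup with hWa
  have hAB : CVA ≤ CVB := fun v hv b hb => hv b (hBA hb)
  have e1 : ∀ H : Subgroup G, Nat.card {v : V // ∀ h ∈ H, ρ h v = v} = Nat.card ↥(fixAdd p ρ H) :=
    fun H => rfl
  have e2 : ∀ H : Subgroup G, Nat.card {w : W // ∀ h ∈ H, ρ h w = w} = Nat.card ↥(fixAdd p ρ H ⊓ Wa) := by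
    intro H
    apply Nat.card_congr
    refine ⟨fun w => ⟨(w.1 : V), ⟨w.2, w.1.2⟩⟩, fun v => ⟨⟨v.1, v.2.2⟩, v.2.1⟩, ?_, ?_⟩
    · intro w; rfl
    · intro v; rfl
  rw [e2 B, e2 A]
  have hP' := hP B hBA
  rw [e1 B, e1 A] at hP'
  have h1 := add_card_mul_card_le (CVB ⊓ Wa) CVA
  have h2 : (CVB ⊓ Wa) ⊔ CVA ≤ CVB := sup_le inf_le_left hAB
  have h3 : (CVB ⊓ Wa) ⊓ CVA = CVA ⊓ Wa := by
    apply le_antisymm
    · exact le_inf inf_le_right (le_trans inf_le_left inf_le_right)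
    · exact le_inf (le_inf (le_trans inf_le_left hAB) inf_le_right) inf_le_left
  rw [h3] at h1
  have h4 : Nat.card ↥((CVB ⊓ Wa) ⊔ CVA) ≤ Nat.card ↥CVB :=
    Nat.le_of_dvd Nat.card_pos (AddSubgroup.card_dvd_of_le h2)
  have hpos : 0 < Nat.card ↥CVA := Nat.card_pos
  have key : (Nat.card ↥B * Nat.card ↥(CVB ⊓ Wa)) * Nat.card ↥CVA ≤
      (Nat.card ↥A * Nat.card ↥(CVA ⊓ Wa)) * Nat.card ↥CVA := by
    calc (Nat.card ↥B * Nat.card ↥(CVB ⊓ Wa)) * Nat.card ↥CVA
        = Nat.card ↥B * (Nat.card ↥(CVB ⊓ Wa) * Nat.card ↥CVA) := by ring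
      _ ≤ Nat.card ↥B * (Nat.card ↥((CVB ⊓ Wa) ⊔ CVA) * Nat.card ↥(CVA ⊓ Wa)) :=
          Nat.mul_le_mul_left _ h1
      _ ≤ Nat.card ↥B * (Nat.card ↥CVB * Nat.card ↥(CVA ⊓ Wa)) := by gcongr
      _ = (Nat.card ↥B * Nat.card ↥CVB) * Nat.card ↥(CVA ⊓ Wa) := by ring
      _ ≤ (Nat.card ↥A * Nat.card ↥CVA) * Nat.card ↥(CVA ⊓ Wa) := Nat.mul_le_mul_right _ hP'
      _ = _ := by ring
  exact Nat.le_of_mul_le_mul_right key hpos

end Cfsg.Agent.S3087
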