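import Mathlib
import Cfsg.Statements.S3116

set_option autoImplicit false
open Cfsg

namespace Cfsg.Agent.S3116

/-- A group of order `2^(n+1)` with an element `x` of order `2^n` such that no element
outside `⟨x⟩` has order `2^n` has a 2-group as automorphism group. -/
theorem aut_two_group {G : Type*} [Group G] [Finite G] (x : G) (n : ℕ) (hn : 1 ≤ n)
    (hx : orderOf x = 2 ^ n) (hcard : Nat.card G = 2 ^ (n + 1))
    (hout : ∀ g : G, g ∉ Subgroup.zpowers x → orderOf g ≠ 2 ^ n) : IsPGroup 2 (MulAut G) := by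
  classical
  have hCcard : Nat.card (Subgroup.zpowers x) = 2 ^ n := by rw [Nat.card_zpowers, hx]
  have hidx : (Subgroup.zpowers x).index = 2 := by
    have := Subgroup.card_mul_index (Subgroup.zpowers x)
    rw [hCcard, hcard, pow_succ] at this
    exact Nat.eq_of_mul_eq_mul_left (by positivity) this
  obtain ⟨y, hy⟩ : ∃ y, y ∉ Subgroup.zpowers x := by
    by_contra h; push Not at h
    have : Subgroup.zpowers x = ⊤ := eq_top_iff.2 (fun g _ => h g)
    rw [this, Subgroup.index_top] at hidx; omega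
  have hcover : ∀ g, g ∉ Subgroup.zpowers x → ∃ i : ℤ, g = y * x ^ i := by
    intro g hg
    have : y⁻¹ * g ∈ Subgroup.zpowers x := by
      rw [Subgroup.mul_mem_iff_of_index_two hidx]
      constructor
      · intro h; exact absurd (inv_mem_iff.1 h) hy
      · intro h; exact absurd h hg
    obtain ⟨i, hi⟩ := Subgroup.mem_zpowers_iff.1 this
    exact ⟨i, by rw [hi]; group⟩
  have hxN : x ^ (2 ^ n) = 1 := by rw [← hx]; exact pow_orderOf_eq_one x
  intro φ
  have hφx : φ x ∈ Subgroup.zpowers x := by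
    by_contra h
    exact hout _ h (by rw [MulEquiv.orderOf_eq, hx])
  obtain ⟨a, ha⟩ : ∃ a : ℕ, x ^ a = φ x := by
    rw [← mem_powers_iff_mem_zpowers] at hφx
    exact (Submonoid.mem_powers_iff _ _).1 hφx
  have hcop : Nat.Coprime a (2 ^ n) := by
    have h1 : orderOf (x ^ a) = 2 ^ n := by rw [ha, MulEquiv.orderOf_eq, hx]
    rw [orderOf_pow, hx] at h1
    have h2 : (2 ^ n).gcd a = 1 := by
      rcases Nat.div_eq_self.1 h1 with h | h
      · exact absurd h (by positivity)
      · exact h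
    exact (Nat.coprime_comm.1 h2)
  have hiter : ∀ j : ℕ, (φ ^ j) x = x ^ (a ^ j) := by
    intro j
    induction j with
    | zero => simp
    | succ j ih =>
      rw [pow_succ, MulAut.mul_apply, ← ha, map_pow, ih, ← pow_mul, ← pow_succ]
  set t := Nat.totient (2 ^ n) with ht
  have ht2 : t = 2 ^ (n - 1) := by
    rw [ht, Nat.totient_prime_pow Nat.prime_two (by omega)]; simp
  have hψx : (φ ^ t) x = x := by
    rw [hiter t]
    have h1 : a ^ t ≡ 1 [MOD orderOf x] := by rw [hx]; exact Nat.ModEq.pow_totient hcop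
    have := (pow_eq_pow_iff_modEq (x := x)).2 h1
    rw [this, pow_one]
  set ψ := φ ^ t with hψ
  have hfixC : ∀ g ∈ Subgroup.zpowers x, ψ g = g := by
    intro g hg
    obtain ⟨i, rfl⟩ := Subgroup.mem_zpowers_iff.1 hg
    rw [map_zpow, hψx]
  have hψy : ψ y ∉ Subgroup.zpowers x := by
    intro h
    have h1 := hfixC _ h
    have h2 : ψ y = y := ψ.injective h1
    rw [h2] at h
    exact hy h
  have hc : y⁻¹ * ψ y ∈ Subgroup.zpowers x := by
    rw [Subgroup.mul_mem_iff_of_index_two hidx]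
    constructor
    · intro h; exact absurd (inv_mem_iff.1 h) hy
    · intro h; exact absurd h hψy
  set c := y⁻¹ * ψ y with hcdef
  have hψy' : ψ y = y * c := by rw [hcdef]; group
  have hitery : ∀ j : ℕ, (ψ ^ j) y = y * c ^ j := by
    intro j
    induction j with
    | zero => simp
    | succ j ih =>
      rw [pow_succ', MulAut.mul_apply, ih, map_mul, hfixC _ (pow_mem hc j), hψy', pow_succ']
      group
  have hiterx : ∀ j : ℕ, (ψ ^ j) x = x := by
    intro j
    induction j with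
    | zero => simp
    | succ j ih => rw [pow_succ', MulAut.mul_apply, ih, hψx]
  have hcN : c ^ (2 ^ n) = 1 := by
    obtain ⟨i, hi⟩ := Subgroup.mem_zpowers_iff.1 hc
    rw [← hi, ← zpow_natCast, ← zpow_mul, mul_comm, zpow_mul, zpow_natCast, hxN, one_zpow]
  have hfinal : ψ ^ (2 ^ n) = 1 := by
    apply MulEquiv.ext
    intro g
    rw [MulAut.one_apply]
    by_cases hg : g ∈ Subgroup.zpowers x
    · obtain ⟨i, rfl⟩ := Subgroup.mem_zpowers_iff.1 hg
      rw [map_zpow, hiterx]
    · obtain ⟨i, rfl⟩ := hcover g hg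
      rw [map_mul, map_zpow, hiterx, hitery, hcN, mul_one]
  refine ⟨n - 1 + n, ?_⟩
  rw [pow_add, ← ht2, pow_mul]
  exact hfinal

theorem dihedral_case (m : ℕ) (hm : 4 ≤ m) (h2 : IsPGroup 2 (DihedralGroup m)) :
    IsPGroup 2 (MulAut (DihedralGroup m)) := by
  have : NeZero m := ⟨by omega⟩
  have : Fact (Nat.Prime 2) := ⟨Nat.prime_two⟩
  obtain ⟨k, hk⟩ := (IsPGroup.iff_card (p := 2) (G := DihedralGroup m)).1 h2
  rw [DihedralGroup.nat_card] at hk
  obtain ⟨n, rfl⟩ : ∃ n, k = n + 1 := by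
    rcases k with _ | k
    · simp at hk
    · exact ⟨k, rfl⟩
  have hmn : m = 2 ^ n := by
    rw [pow_succ, mul_comm] at hk
    exact Nat.eq_of_mul_eq_mul_right (by norm_num) hk
  have hn2 : 2 ≤ n := by
    by_contra hlt
    have : n = 0 ∨ n = 1 := by omega
    rcases this with rfl | rfl <;> simp at hmn <;> omega
  apply aut_two_group (DihedralGroup.r 1) n (by omega)
  · rw [DihedralGroup.orderOf_r_one, hmn]
  · rw [DihedralGroup.nat_card, hmn, pow_succ, mul_comm]
  · intro g hg
    cases g with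
    | r i =>
      exfalso
      apply hg
      rw [Subgroup.mem_zpowers_iff]
      refine ⟨(i.val : ℤ), ?_⟩
      rw [zpow_natCast, DihedralGroup.r_one_pow, ZMod.natCast_zmod_val]
    | sr i =>
      rw [DihedralGroup.orderOf_sr]
      intro h
      have : 2 ^ 2 ≤ 2 ^ n := Nat.pow_le_pow_right (by norm_num) hn2
      omega

theorem quasi_case {X : Type*} [Group X] [Finite X] (h : Cfsg.IsQuasiDihedral X) :
    IsPGroup 2 (MulAut X) := by
  obtain ⟨n, hn3, hcard, x, y, hx, hy, hrel⟩ := h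
  apply aut_two_group x n (by omega) hx hcard
  have hCcard : Nat.card (Subgroup.zpowers x) = 2 ^ n := by rw [Nat.card_zpowers, hx]
  have hidx : (Subgroup.zpowers x).index = 2 := by
    have := Subgroup.card_mul_index (Subgroup.zpowers x)
    rw [hCcard, hcard, pow_succ] at this
    exact Nat.eq_of_mul_eq_mul_left (by positivity) this
  have hxN : x ^ (2 ^ n) = 1 := by rw [← hx]; exact pow_orderOf_eq_one x
  have hyy : y * y = 1 := by
    have := pow_orderOf_eq_one y
    rwa [hy, pow_two] at this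
  have hyinv : y⁻¹ = y := inv_eq_of_mul_eq_one_right hyy
  have h8 : 2 ^ 3 ≤ 2 ^ n := Nat.pow_le_pow_right (by norm_num) hn3
  have hpow : 2 ^ n = 2 * 2 ^ (n - 1) := by
    rw [← pow_succ']; congr 1; omega
  have hynot : y ∉ Subgroup.zpowers x := by
    intro hmem
    obtain ⟨i, hi⟩ := Subgroup.mem_zpowers_iff.1 hmem
    have hcomm : y * x * y⁻¹ = x := by
      rw [← hi]; group
    rw [hcomm] at hrel
    -- x = x ^ (2^(n-1) - 1)
    have h1 : x ^ 1 = x ^ (2 ^ (n - 1) - 1) := by rw [pow_one]; exact hrel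
    rw [pow_eq_pow_iff_modEq, hx] at h1
    have h2 := (Nat.modEq_iff_dvd' (by omega)).1 h1
    have h3 := Nat.le_of_dvd (by omega) h2
    omega
  intro g hg
  have hmem : y⁻¹ * g ∈ Subgroup.zpowers x := by
    rw [Subgroup.mul_mem_iff_of_index_two hidx]
    constructor
    · intro h; exact absurd (inv_mem_iff.1 h) hynot
    · intro h; exact absurd h hg
  obtain ⟨i, hi⟩ := Subgroup.mem_zpowers_iff.1 hmem
  have hgeq : g = y * x ^ i := by rw [hi]; group
  have hconj : y * x ^ i * y⁻¹ = (x ^ (2 ^ (n - 1) - 1)) ^ i := by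
    rw [← hrel, conj_zpow]
  have hg2 : g * g = (x ^ (2 ^ (n - 1))) ^ i := by
    have e1 : g * g = (y * x ^ i * y⁻¹) * (y * y) * x ^ i := by rw [hgeq]; group
    rw [e1, hconj, hyy, mul_one, ← zpow_natCast, ← zpow_natCast, ← zpow_mul, ← zpow_mul,
      ← zpow_add]
    congr 1
    have : ((2 ^ (n - 1) - 1 : ℕ) : ℤ) = (2 ^ (n - 1) : ℕ) - 1 := by
      rw [Nat.cast_sub (Nat.one_le_two_pow)]; simp
    rw [this]; ring
  have hg4 : g ^ 4 = 1 := by
    have : g ^ 4 = (g * g) * (g * g) := by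
      rw [show (4:ℕ) = 2 + 2 from rfl, pow_add, pow_two]
    rw [this, hg2, ← zpow_natCast x, ← zpow_mul, ← zpow_add]
    have e : ((2 ^ (n - 1) : ℕ) : ℤ) * i + ((2 ^ (n - 1) : ℕ) : ℤ) * i = ((2 ^ n : ℕ) : ℤ) * i := by
      rw [hpow]; push_cast; ring
    rw [e, zpow_mul, zpow_natCast, hxN, one_zpow]
  have hle : orderOf g ≤ 4 := Nat.le_of_dvd (by norm_num) (orderOf_dvd_of_pow_eq_one hg4)
  omega

theorem result {X : Type*} [Group X] [Finite X] (h2 : IsPGroup 2 X)
    (h : (∃ n : ℕ, 4 ≤ n ∧ Nonempty (X ≃* DihedralGroup n)) ∨ Cfsg.IsQuasiDihedral X) : IsPGroup 2 (MulAut X) := by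
  rcases h with ⟨m, hm, ⟨e⟩⟩ | h
  · have hD : IsPGroup 2 (DihedralGroup m) := h2.of_equiv e
    exact (dihedral_case m hm hD).of_equiv (MulAut.congr e).symm
  · exact quasi_case h

end Cfsg.Agent.S3116
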