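import Cfsg.Statements.S3125
import Cfsg.Agent.Helper10.GlaubermanIdx
import Cfsg.Agent.Helper24.Burnside

set_option autoImplicit false
open Cfsg

namespace Cfsg.Agent.S3125

/-- Let G be a finite group such that, for every prime p dividing the order of G, every Sylow p-subgroup of G is its own normalizer. Then G is not a non-abelian simple group. -/
theorem result {G : Type*} [Group G] [Finite G]
    (h : ∀ p : ℕ, p.Prime → p ∣ Nat.card G → ∀ P : Sylow p G, Subgroup.normalizer ((P : Subgroup G) : Set G) = P) :
    ¬ (IsSimpleGroup G ∧ ¬ IsMulCommutative G) := by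
  rintro ⟨hs, hna⟩
  haveI := hs
  by_cases hbig : ∃ p : ℕ, p.Prime ∧ 5 ≤ p ∧ p ∣ Nat.card G
  · obtain ⟨p, hp, hp5, hpd⟩ := hbig
    haveI : Fact p.Prime := ⟨hp⟩
    obtain ⟨P⟩ : Nonempty (Sylow p G) := inferInstance
    have hPne : (P : Subgroup G) ≠ ⊥ := by
      intro hbot
      have h1 : Nat.card (P : Subgroup G) = 1 := by rw [hbot]; exact Subgroup.card_bot
      have h2 := P.card_eq_multiplicity
      rw [h1] at h2
      have h3 : (Nat.card G).factorization p = 0 := by
        by_contra hne
        have : 1 < p ^ (Nat.card G).factorization p :=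
          Nat.one_lt_pow hne hp.one_lt
        omega
      have h4 : 0 < (Nat.card G).factorization p :=
        hp.factorization_pos_of_dvd Nat.card_pos.ne' hpd
      omega
    have hN := h p hp hpd P
    obtain ⟨N, hNn, hNi⟩ := Cfsg.Agent.Helper10.index_p_main hp5 (Nat.card G) G rfl P hPne (by
      intro g hg hcop
      rw [hN] at hg
      obtain ⟨k, hk⟩ := (IsPGroup.iff_orderOf.mp P.2) ⟨g, hg⟩
      have hk' : orderOf g = p ^ k := by
        rw [← hk]; exact (Subgroup.orderOf_mk g hg).symm
      have hg1 : g = 1 := by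
        rcases Nat.eq_zero_or_pos k with h0 | h0
        · rw [h0, pow_zero] at hk'
          exact orderOf_eq_one_iff.mp hk'
        · exfalso
          rw [hk'] at hcop
          have : p ∣ Nat.gcd (p ^ k) p := Nat.dvd_gcd (dvd_pow_self p h0.ne') dvd_rfl
          rw [Nat.Coprime] at hcop
          rw [hcop] at this
          exact hp.one_lt.ne' (Nat.dvd_one.mp this)
      rw [hg1]; exact Subgroup.one_mem _)
    rcases hNn.eq_bot_or_eq_top with h1 | h1
    · have hc : Nat.card G = p := by rw [← hNi, h1, Subgroup.index_bot]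
      haveI : IsCyclic G := isCyclic_of_prime_card hc
      exact hna ⟨⟨fun a b => IsCyclic.commGroup.mul_comm a b⟩⟩
    · rw [h1, Subgroup.index_top] at hNi
      exact hp.one_lt.ne' hNi.symm
  · push Not at hbig
    have hpos : 0 < Nat.card G := Nat.card_pos
    obtain ⟨a, m₁, hm₁, hn₁⟩ := Nat.exists_eq_pow_mul_and_not_dvd hpos.ne' 2 (by norm_num)
    have hm₁pos : m₁ ≠ 0 := by
      rintro rfl; simp at hn₁; omega
    obtain ⟨b, m₂, hm₂, hn₂⟩ := Nat.exists_eq_pow_mul_and_not_dvd hm₁pos 3 (by norm_num)
    have hm₂1 : m₂ = 1 := by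
      by_contra hne
      obtain ⟨q, hq, hqd⟩ := Nat.exists_prime_and_dvd hne
      have hqn : q ∣ Nat.card G := by
        rw [hn₁, hn₂]
        exact dvd_mul_of_dvd_right (dvd_mul_of_dvd_right hqd _) _
      have hq2 : q ≠ 2 := by
        rintro rfl
        exact hm₁ (by rw [hn₂]; exact dvd_mul_of_dvd_right hqd _)
      have hq3 : q ≠ 3 := by
        rintro rfl
        exact hm₂ hqd
      have hq5 : 5 ≤ q := by
        by_contra hlt
        push Not at hlt
        have h2 := hq.two_le
        interval_cases q
        · exact hq2 rfl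
        · exact hq3 rfl
        · exact absurd hq (by norm_num)
      exact absurd hqn (by
        have := hbig q hq hq5
        exact this)
    have hab : Nat.card G = 2 ^ a * 3 ^ b := by
      rw [hn₁, hn₂, hm₂1, mul_one]
    haveI : Group.IsSolvable G :=
      Cfsg.Agent.Helper24.isSolvable_of_card_eq_prime_pow_mul 2 3 a b Nat.prime_two Nat.prime_three hab
    have hcomm : ∀ a b : G, a * b = b * a := IsSimpleGroup.comm_iff_isSolvable.mpr inferInstance
    exact hna ⟨⟨hcomm⟩⟩

end Cfsg.Agent.S3125
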