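-- Statement S3154 (row 3154): the two maximal elementary abelian subgroups of a Sylow 2-subgroup of a 2-cover of L3(4).
-- The statement below is byte-identical to the frozen statement Cfsg.CfsgFrozen.S3154.
import Cfsg.Statements.S3154
import Cfsg.Agent.Helper8.S3154ABS
import Cfsg.Agent.Helper8.S3154GOOD
import Cfsg.Agent.Helper11.L2EG

set_option autoImplicit false
open Cfsg

namespace Cfsg.Agent.S3154

open Cfsg.Agent.S3154P

/-- Let X be a finite quasisimple group whose centre is an elementary abelian 2-group and whose central quotient is isomorphic to the projective special linear group of dimension 3 over the field with 4 elements. Let T be a Sylow 2-subgroup of X and H ≠ K subgroups of T containing the centre Z(X) whose images in X/Z(X) are elementary abelian of order 16 (the two such subgroups of a Sylow 2-subgroup of the quotient). Then H and K are elementary abelian, H ∩ K is the centre of the subgroup they generate, and each of N_X(H), N_X(K) is a split extension of H, respectively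 K, by the projective special linear group of dimension 2 over the field with 4 elements (there is a complement isomorphic to that group). -/
theorem result {X : Type*} [Group X] [Finite X] (hq : Cfsg.IsQuasisimple X) (hZ : Cfsg.IsElementaryAbelian 2 (Subgroup.center X))
    {F : Type*} [Field F] [Fintype F] (hF : Fintype.card F = 4) (hXL : Nonempty ((X ⧸ Subgroup.center X) ≃* Matrix.ProjectiveSpecialLinearGroup (Fin 3) F))
    (T : Sylow 2 X) (H K : Subgroup X) (hHK : H ≠ K) (hHT : H ≤ T) (hKT : K ≤ T) (hZH : Subgroup.center X ≤ H) (hZK : Subgroup.center X ≤ K)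
    (hH : Cfsg.IsElementaryAbelian 2 (H.map (QuotientGroup.mk' (Subgroup.center X))) ∧ Nat.card ↥(H.map (QuotientGroup.mk' (Subgroup.center X))) = 16)
    (hK : Cfsg.IsElementaryAbelian 2 (K.map (QuotientGroup.mk' (Subgroup.center X))) ∧ Nat.card ↥(K.map (QuotientGroup.mk' (Subgroup.center X))) = 16) :
    Cfsg.IsElementaryAbelian 2 H ∧ Cfsg.IsElementaryAbelian 2 K ∧
      H ⊓ K = (Subgroup.center ↥(H ⊔ K)).map (H ⊔ K).subtype ∧
      (∃ C : Subgroup X, C ≤ Subgroup.normalizer (H : Set X) ∧ C ⊓ H = ⊥ ∧ H ⊔ C = Subgroup.normalizer (H : Set X) ∧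
        Nonempty (↥C ≃* Matrix.ProjectiveSpecialLinearGroup (Fin 2) F)) ∧
      (∃ C : Subgroup X, C ≤ Subgroup.normalizer (K : Set X) ∧ C ⊓ K = ⊥ ∧ K ⊔ C = Subgroup.normalizer (K : Set X) ∧
        Nonempty (↥C ≃* Matrix.ProjectiveSpecialLinearGroup (Fin 2) F)) := by
  classical
  have : CharP F 2 := charP_two hF
  obtain ⟨e⟩ := hXL
  -- the first projection
  set π₀ : X →* Matrix.ProjectiveSpecialLinearGroup (Fin 3) F :=
    e.toMonoidHom.comp (QuotientGroup.mk' (Subgroup.center X)) with hπ₀
  have hπ₀s : Function.Surjective π₀ := e.surjective.comp (QuotientGroup.mk'_surjective _)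
  obtain ⟨g, hg⟩ := exists_conj_Ubar hF (T.mapSurjective hπ₀s)
  rw [Sylow.coe_mapSurjective] at hg
  -- the corrected isomorphism and projection
  set ε : (X ⧸ Subgroup.center X) ≃* Matrix.ProjectiveSpecialLinearGroup (Fin 3) F :=
    e.trans (MulAut.conj g⁻¹) with hε
  set π : X →* Matrix.ProjectiveSpecialLinearGroup (Fin 3) F :=
    ε.toMonoidHom.comp (QuotientGroup.mk' (Subgroup.center X)) with hπ
  have hπs : Function.Surjective π := ε.surjective.comp (QuotientGroup.mk'_surjective _)
  have hπk : π.ker = Subgroup.center X := by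
    ext x
    rw [MonoidHom.mem_ker, hπ, MonoidHom.comp_apply]
    change ε (QuotientGroup.mk' _ x) = 1 ↔ _
    rw [MulEquiv.map_eq_one_iff, ← MonoidHom.mem_ker, QuotientGroup.ker_mk']
  have hTπ : (T : Subgroup X).map π = Ubar := by
    have h1 : (T : Subgroup X).map π = ((T : Subgroup X).map π₀).map (MulAut.conj g⁻¹).toMonoidHom := by
      rw [Subgroup.map_map]
      rfl
    rw [h1, hg, Subgroup.map_map]
    have h2 : (MulAut.conj g⁻¹).toMonoidHom.comp (MulAut.conj g).toMonoidHom =
        MonoidHom.id (Matrix.ProjectiveSpecialLinearGroup (Fin 3) F) := by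
      ext x
      simp
    rw [h2, Subgroup.map_id]
  have hmapH : ∀ A : Subgroup X, A.map π = (A.map (QuotientGroup.mk' (Subgroup.center X))).map ε.toMonoidHom := by
    intro A
    rw [Subgroup.map_map]
  have hcardH : ∀ A : Subgroup X, Nat.card (A.map π) =
      Nat.card (A.map (QuotientGroup.mk' (Subgroup.center X))) := by
    intro A
    rw [hmapH]
    exact Subgroup.card_map_of_injective ε.injective
  have hHe : Cfsg.IsElementaryAbelian 2 (H.map π) := by
    rw [hmapH]; exact elab_map _ _ hH.1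
  have hKe : Cfsg.IsElementaryAbelian 2 (K.map π) := by
    rw [hmapH]; exact elab_map _ _ hK.1
  have hHc : Nat.card (H.map π) = 16 := by rw [hcardH]; exact hH.2
  have hKc : Nat.card (K.map π) = 16 := by rw [hcardH]; exact hK.2
  have hF2 : Nat.card F ^ 2 = 16 := by
    rw [Nat.card_eq_fintype_card, hF]
    norm_num
  have hHU : H.map π ≤ Ubar := hTπ ▸ Subgroup.map_mono hHT
  have hKU : K.map π ≤ Ubar := hTπ ▸ Subgroup.map_mono hKT
  have hne : H.map π ≠ K.map π := by
    intro h
    apply hHK
    have h1 := congrArg (Subgroup.comap π) h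
    rwa [Subgroup.comap_map_eq_self (hπk ▸ hZH), Subgroup.comap_map_eq_self (hπk ▸ hZK)] at h1
  have key : Good (Matrix.SpecialLinearGroup (Fin 2) F) ((T : Subgroup X).map π) (H.map π) (K.map π) ∧
      Good (Matrix.SpecialLinearGroup (Fin 2) F) ((T : Subgroup X).map π) (K.map π) (H.map π) := by
    rw [hTπ]
    rcases eq_A1bar_or_eq_A2bar (H.map π) hHU hHe.2 (by rw [hHc, hF2]) with h1 | h1 <;>
      rcases eq_A1bar_or_eq_A2bar (K.map π) hKU hKe.2 (by rw [hKc, hF2]) with h2 | h2
    · exact absurd (h1.trans h2.symm) hne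
    · rw [h1, h2]; exact ⟨GOOD1 hF, GOOD2 hF⟩
    · rw [h1, h2]; exact ⟨GOOD2 hF, GOOD1 hF⟩
    · exact absurd (h1.trans h2.symm) hne
  obtain ⟨r1, r2, r3, ⟨C, c1, c2, c3, ⟨c4⟩⟩, ⟨D, d1, d2, d3, ⟨d4⟩⟩⟩ :=
    ABS hZ π hπs hπk T H K hHT hKT hZH hZK hHe hHc hKe hKc key.1 key.2
  exact ⟨r1, r2, r3, ⟨C, c1, c2, c3, ⟨c4.trans (Cfsg.Agent.Helper11.L2E.slEquivPSL F)⟩⟩,
    ⟨D, d1, d2, d3, ⟨d4.trans (Cfsg.Agent.Helper11.L2E.slEquivPSL F)⟩⟩⟩

end Cfsg.Agent.S3154
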