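import Cfsg.Statements.S3157
-- import your own Cfsg.Agent.* helpers here
import Mathlib
import Cfsg.Agent.Helper16.S64F
import Cfsg.Agent.Helper16.S64DU
import Cfsg.Agent.Helper8.S64B1
import Cfsg.Agent.Helper8.S64B2
import Cfsg.Agent.Helper8.S64DX
import Cfsg.Agent.Helper8.S64DC
import Cfsg.Agent.Helper10.S64E
import Cfsg.Agent.Helper18.S64G
import Cfsg.Agent.Helper26.S64A
import Cfsg.Agent.Helper26.S64C
import Cfsg.Agent.Helper5.S64H

set_option autoImplicit false
open Cfsg
open scoped commutatorElement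
open Cfsg.Agent.Helper16.S64

namespace Cfsg.Agent.S3157

/-- Let T be a non-abelian group of order 64 admitting automorphisms ρ of order 3 and x of order 2 with x ρ x⁻¹ = ρ⁻¹ (so they generate a symmetric group of degree 3), where ρ fixes only the identity. Then T is isomorphic to a Sylow 2-subgroup of the projective special linear group of dimension 3 over the field with 4 elements, and the subgroup of fixed points of x is dihedral of order 8 or quaternion of order 8. -/
theorem result {T : Type*} [Group T] [Finite T] (hT : Nat.card T = 64) (hna : ¬ IsMulCommutative T) (ρ x : MulAut T) (hρ : orderOf ρ = 3) (hx : orderOf x = 2)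
    (hxr : x * ρ * x⁻¹ = ρ⁻¹) (hfp : ∀ y : T, ρ y = y → y = 1) (C : Subgroup T) (hC : ∀ y : T, y ∈ C ↔ x y = y) :
    (∃ (F : Type) (_ : Field F) (_ : Fintype F), Fintype.card F = 4 ∧
        ∃ S : Sylow 2 (Matrix.ProjectiveSpecialLinearGroup (Fin 3) F), Nonempty (T ≃* ↥(S : Subgroup (Matrix.ProjectiveSpecialLinearGroup (Fin 3) F)))) ∧
      (Nonempty (↥C ≃* DihedralGroup 4) ∨ Nonempty (↥C ≃* QuaternionGroup 2)) := by
  classical
  have hcube : ∀ t : T, ρ (ρ (ρ t)) = t := by
    intro t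
    have h3 : ρ ^ 3 = 1 := by rw [← hρ]; exact pow_orderOf_eq_one ρ
    have := congrArg (fun f : MulAut T => f t) h3
    simpa [pow_succ, MulAut.mul_apply] using this
  have hF3 : Fpf3 ρ := ⟨hcube, hfp⟩
  have h : Fpf3Facts ρ := Cfsg.Agent.Helper26.S64.fpf3Facts_of_fpf3 hF3
  obtain ⟨hZ, hcen⟩ := Cfsg.Agent.Helper8.S64.center_and_class hT hna h
    (fun N M hNn hN hM => Cfsg.Agent.Helper8.S64.index_ne_four h N M hNn hN hM)
  have hc : Cl2Facts ρ := Cfsg.Agent.Helper26.S64.cl2Facts h hZ hcen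
  have hxx : ∀ t : T, x (x t) = t := by
    intro t
    have h2 : x ^ 2 = 1 := by rw [← hx]; exact pow_orderOf_eq_one x
    have := congrArg (fun f : MulAut T => f t) h2
    simpa [pow_succ, MulAut.mul_apply] using this
  have hxinv : x⁻¹ = x := by
    apply inv_eq_of_mul_eq_one_left
    ext t
    simpa [MulAut.mul_apply] using hxx t
  have hρinv : ∀ t : T, ρ⁻¹ t = ρ (ρ t) := by
    intro t
    rw [MulAut.inv_apply, MulEquiv.symm_apply_eq, hcube]
  have hxd : XData ρ x := by
    refine ⟨hxx, ?_⟩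
    intro t
    have := congrArg (fun f : MulAut T => f t) hxr
    rw [hxinv] at this
    simp only [MulAut.mul_apply] at this
    rw [this, hρinv]
  obtain ⟨z0, hz⟩ := Cfsg.Agent.Helper8.S64.zData h hxd hZ hc.center_sq
  have hlift := fun t ht => Cfsg.Agent.Helper8.S64.lift_fixed hxd hc.center_sq hz t ht
  obtain ⟨U, hU, hU16, hgen⟩ := exists_U hT h hxd hc hZ
  obtain ⟨c1, c2, h1, h2, h12⟩ :=
    Cfsg.Agent.Helper8.S64.exists_noncomm_fixed hna h hxd hc hz hlift U hU hgen
  obtain ⟨t1, t2, ht1, ht2, ht12⟩ :=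
    Cfsg.Agent.Helper10.S64E.exists_invols h hxd hc hZ hz c1 c2 h1 h2 h12
  obtain ⟨e⟩ := nonempty_equiv_heis hT h hc t1 t2 ht1 ht2 ht12
  obtain ⟨S, ⟨e'⟩⟩ := Cfsg.Agent.Helper18.S64.heis_sylow
  refine ⟨⟨F4, inferInstance, inferInstance, Cfsg.Agent.Helper19.Sp4.F4.card_eq, S,
    ⟨e.trans e'⟩⟩, ?_⟩
  have hC8 := Cfsg.Agent.Helper8.S64.card_fixed hZ hz hlift U hU hU16 C hC
  apply Cfsg.Agent.Helper5.S64.d8_or_q8 hC8
  refine ⟨⟨c1, (hC c1).2 h1⟩, ⟨c2, (hC c2).2 h2⟩, ?_⟩
  intro hcomm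
  apply h12
  have : c1 * c2 = c2 * c1 := by
    have := congrArg Subtype.val hcomm
    simpa using this
  rw [commutatorElement_def, this]
  group

end Cfsg.Agent.S3157
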