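import Cfsg.Statements.S3158
import Mathlib
import Cfsg.Agent.Helper9.SuzukiForm
import Cfsg.Agent.Helper10.PGroupBasic

set_option autoImplicit false
open Cfsg

namespace Cfsg.Agent.S3158

/-- Let U be a group of order q² with q = 2^n ≥ 2, and y an automorphism of U of order q − 1 all of whose nontrivial powers fix only the identity. Let V be a proper normal y-invariant subgroup of U such that V and U/V are elementary abelian 2-groups and there is an isomorphism from V to U/V commuting with the actions of y. Then U is abelian. -/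
theorem result {U : Type*} [Group U] [Finite U] (n : ℕ) (hn : 1 ≤ n) (hU : Nat.card U = (2 ^ n) ^ 2)
    (y : MulAut U) (hy : orderOf y = 2 ^ n - 1) (hfp : ∀ k : ℕ, y ^ k ≠ 1 → ∀ u : U, (y ^ k) u = u → u = 1)
    (V : Subgroup U) [V.Normal] (hV : V ≠ ⊤) (hyV : ∀ v ∈ V, y v ∈ V)
    (hVe : ∀ v ∈ V, v ^ 2 = 1) (hQe : ∀ u : U, u ^ 2 ∈ V) (hQc : ∀ u w : U, u * w * u⁻¹ * w⁻¹ ∈ V)
    (φ : ↥V ≃* U ⧸ V) (hφ : ∀ (v : ↥V) (u : U), (QuotientGroup.mk u : U ⧸ V) = φ v → φ ⟨y v, hyV v v.2⟩ = QuotientGroup.mk (y u)) :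
    IsMulCommutative U := by
  classical
  have hq2 : 2 ≤ 2 ^ n := by
    calc 2 = 2 ^ 1 := by norm_num
      _ ≤ 2 ^ n := Nat.pow_le_pow_right (by norm_num) hn
  set q := 2 ^ n with hq
  -- cardinality of `V`
  have hcardV : Nat.card V = q := by
    have h1 : Nat.card U = Nat.card V * V.index := by
      rw [mul_comm]; exact (Subgroup.index_mul_card V).symm
    have h2 : V.index = Nat.card V := by
      rw [Subgroup.index_eq_card]
      exact (Nat.card_congr φ.toEquiv).symm
    rw [h2, hU, ← pow_two] at h1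
    exact (Nat.pow_left_injective (by norm_num : 2 ≠ 0) h1).symm
  have hUp : IsPGroup 2 U := IsPGroup.of_card (n := 2 * n) (by rw [hU, hq, ← pow_mul, mul_comm])
  have hVne : V ≠ ⊥ := by
    intro h
    rw [h, Subgroup.card_bot] at hcardV
    omega
  obtain ⟨z, hzV, hz1, hzZ⟩ := Cfsg.Agent.Helper10.exists_ne_one_mem_inf_center hUp V hVne
  -- the restriction of `y` to `V`
  let yV : Monoid.End ↥V := ((y.toMonoidHom).comp V.subtype).codRestrict V (fun v => hyV v v.2)
  have hyVcoe : ∀ (i : ℕ) (v : ↥V), (((yV ^ i) v : ↥V) : U) = (y ^ i) (v : U) := by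
    intro i
    induction i with
    | zero => intro v; simp
    | succ i ih =>
      intro v
      have e1 : (yV ^ (i + 1)) v = yV ((yV ^ i) v) := by
        rw [add_comm, pow_add, pow_one]; rfl
      have e2 : (y ^ (i + 1)) (v : U) = y ((y ^ i) (v : U)) := by
        rw [add_comm, pow_add, pow_one]; rfl
      rw [e1, e2, ← ih]
      rfl
  set v₀ : ↥V := ⟨z, hzV⟩ with hv₀
  have hv₀1 : v₀ ≠ 1 := by
    intro h
    exact hz1 (congrArg Subtype.val h)
  have hord : ∀ k : ℕ, y ^ k = 1 → q - 1 ∣ k := by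
    intro k hk
    rw [← hy]
    exact orderOf_dvd_of_pow_eq_one hk
  -- transitivity
  have htrans : ∀ v : ↥V, v ≠ 1 → ∃ i : ℕ, v = (yV ^ i) v₀ := by
    let g : Fin (q - 1) → ↥V := fun i => (yV ^ (i : ℕ)) v₀
    have hginj : Function.Injective g := by
      have key : ∀ i j : ℕ, i ≤ j → j < q - 1 → (yV ^ i) v₀ = (yV ^ j) v₀ → i = j := by
        intro i j hij hj h
        have h1 : (y ^ i) z = (y ^ j) z := by
          have := congrArg Subtype.val h
          rwa [hyVcoe, hyVcoe] at this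
        have h2 : (y ^ (j - i)) z = z := by
          have e : j = i + (j - i) := by omega
          rw [e, pow_add] at h1
          exact ((y ^ i).injective h1).symm
        by_contra hne
        have h3 : y ^ (j - i) ≠ 1 := by
          intro h4
          have := hord _ h4
          have h5 : j - i < q - 1 := by omega
          have h6 : 0 < j - i := by omega
          exact absurd (Nat.le_of_dvd h6 this) (by omega)
        exact hz1 (hfp (j - i) h3 z h2)
      intro i j hij
      apply Fin.ext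
      rcases le_total (i : ℕ) (j : ℕ) with h | h
      · exact key i j h j.2 hij
      · exact (key j i h i.2 hij.symm).symm
    have hg1 : ∀ i, g i ≠ 1 := by
      intro i h
      have h1 : (y ^ (i : ℕ)) z = 1 := by
        have := congrArg Subtype.val h
        rwa [hyVcoe] at this
      have h2 : (y ^ (i : ℕ)) z = (y ^ (i : ℕ)) 1 := by rw [h1, map_one]
      exact hz1 ((y ^ (i : ℕ)).injective h2)
    have hfin : Finite ↥V := inferInstance
    have hcard1 : (Set.range g).ncard = q - 1 := by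
      rw [Set.ncard_range_of_injective hginj, Nat.card_fin]
    have h1not : (1 : ↥V) ∉ Set.range g := by
      rintro ⟨i, hi⟩
      exact hg1 i hi
    have hins : (insert (1 : ↥V) (Set.range g)) = Set.univ := by
      apply (Set.eq_univ_iff_ncard _).mpr
      rw [Set.ncard_insert_of_notMem h1not (Set.toFinite _), hcard1, hcardV]
      omega
    intro v hv
    have : v ∈ insert (1 : ↥V) (Set.range g) := by rw [hins]; exact Set.mem_univ v
    rcases this with h | ⟨i, hi⟩
    · exact absurd h hv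
    · exact ⟨i, hi.symm⟩
  -- `V` is central
  have hautZ : ∀ (σ : MulAut U) (x : U), x ∈ Subgroup.center U → σ x ∈ Subgroup.center U := by
    intro σ x hx
    rw [Subgroup.mem_center_iff] at hx ⊢
    intro g
    have h1 := hx (σ⁻¹ g)
    have h2 := congrArg σ h1
    rw [map_mul, map_mul] at h2
    have e : σ (σ⁻¹ g) = g := by simp
    rwa [e] at h2
  have hVZ : ∀ v ∈ V, v ∈ Subgroup.center U := by
    intro v hv
    by_cases h1 : (⟨v, hv⟩ : ↥V) = 1
    · have : v = 1 := congrArg Subtype.val h1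
      rw [this]; exact one_mem _
    · obtain ⟨i, hi⟩ := htrans _ h1
      have h2 : v = (y ^ i) z := by
        have := congrArg Subtype.val hi
        rwa [hyVcoe] at this
      rw [h2]
      exact hautZ _ _ hzZ
  have hcen : ∀ v ∈ V, ∀ u : U, u * v = v * u := by
    intro v hv u
    exact (Subgroup.mem_center_iff.mp (hVZ v hv)) u
  -- the commutator map
  let c : U → U → U := fun u w => u * w * u⁻¹ * w⁻¹
  have hcV : ∀ u w, c u w ∈ V := hQc
  have hcl : ∀ u u' w, c (u * u') w = c u w * c u' w := by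
    intro u u' w
    have h1 := hcen _ (hcV u' w) (u * w * u⁻¹ * w⁻¹ * (w * u * w⁻¹))
    change u * u' * w * (u * u')⁻¹ * w⁻¹ = u * w * u⁻¹ * w⁻¹ * (u' * w * u'⁻¹ * w⁻¹)
    have h2 := hcen _ (hcV u' w) u
    change u * (u' * w * u'⁻¹ * w⁻¹) = (u' * w * u'⁻¹ * w⁻¹) * u at h2
    calc u * u' * w * (u * u')⁻¹ * w⁻¹
        = u * (u' * w * u'⁻¹ * w⁻¹) * (w * u⁻¹ * w⁻¹) := by group
      _ = (u' * w * u'⁻¹ * w⁻¹) * u * (w * u⁻¹ * w⁻¹) := by rw [h2]
      _ = (u' * w * u'⁻¹ * w⁻¹) * (u * w * u⁻¹ * w⁻¹) := by group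
      _ = u * w * u⁻¹ * w⁻¹ * (u' * w * u'⁻¹ * w⁻¹) :=
          (hcen _ (hcV u' w) (u * w * u⁻¹ * w⁻¹)).symm
  have hcr : ∀ u w w', c u (w * w') = c u w * c u w' := by
    intro u w w'
    have h2 := hcen _ (hcV u w') w
    change w * (u * w' * u⁻¹ * w'⁻¹) = (u * w' * u⁻¹ * w'⁻¹) * w at h2
    change u * (w * w') * u⁻¹ * (w * w')⁻¹ = u * w * u⁻¹ * w⁻¹ * (u * w' * u⁻¹ * w'⁻¹)
    calc u * (w * w') * u⁻¹ * (w * w')⁻¹
        = (u * w * u⁻¹) * (u * w' * u⁻¹ * w'⁻¹) * w⁻¹ := by group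
      _ = (u * w * u⁻¹) * ((u * w' * u⁻¹ * w'⁻¹) * w⁻¹) := by rw [mul_assoc]
      _ = (u * w * u⁻¹) * (w⁻¹ * (u * w' * u⁻¹ * w'⁻¹)) := by
          congr 1
          have h3 := hcen _ (hcV u w') w⁻¹
          exact h3.symm
      _ = u * w * u⁻¹ * w⁻¹ * (u * w' * u⁻¹ * w'⁻¹) := by group
  have hcVl : ∀ v ∈ V, ∀ w, c v w = 1 := by
    intro v hv w
    change v * w * v⁻¹ * w⁻¹ = 1
    rw [← hcen v hv w]; group
  have hcVr : ∀ v ∈ V, ∀ u, c u v = 1 := by
    intro v hv u
    change u * v * u⁻¹ * v⁻¹ = 1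
    rw [hcen v hv u]; group
  have hcong : ∀ u u' w w' : U, (QuotientGroup.mk u : U ⧸ V) = QuotientGroup.mk u' →
      (QuotientGroup.mk w : U ⧸ V) = QuotientGroup.mk w' → c u w = c u' w' := by
    intro u u' w w' h1 h2
    have h3 : u⁻¹ * u' ∈ V := QuotientGroup.eq.mp h1
    have h4 : w⁻¹ * w' ∈ V := QuotientGroup.eq.mp h2
    have s1 : c u' w' = c u w' := by
      have e1 : u' = u * (u⁻¹ * u') := by group
      calc c u' w' = c (u * (u⁻¹ * u')) w' := by rw [← e1]
        _ = c u w' * c (u⁻¹ * u') w' := hcl _ _ _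
        _ = c u w' := by rw [hcVl _ h3, mul_one]
    have s2 : c u w' = c u w := by
      have e2 : w' = w * (w⁻¹ * w') := by group
      calc c u w' = c u (w * (w⁻¹ * w')) := by rw [← e2]
        _ = c u w * c u (w⁻¹ * w') := hcr _ _ _
        _ = c u w := by rw [hcVr _ h4, mul_one]
    rw [s1, s2]
  have hcy : ∀ u w, c (y u) (y w) = y (c u w) := by
    intro u w
    change y u * y w * (y u)⁻¹ * (y w)⁻¹ = y (u * w * u⁻¹ * w⁻¹)
    simp only [map_mul, map_inv]
  -- lifts
  let ℓ : ↥V → U := fun v => (φ v).out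
  have hℓ : ∀ v : ↥V, (QuotientGroup.mk (ℓ v) : U ⧸ V) = φ v := fun v => QuotientGroup.out_eq' _
  let b : ↥V → ↥V → ↥V := fun v w => ⟨c (ℓ v) (ℓ w), hcV _ _⟩
  have hb := Cfsg.Agent.Helper9.SuzukiForm.form_trivial (V := ↥V)
    (fun v => Subtype.ext (by simpa using hVe v v.2)) yV v₀ htrans (2 ^ (n - 1))
    (by
      have e : 2 * 2 ^ (n - 1) = (q - 1) + 1 := by
        rw [hq, ← pow_succ']
        have : n - 1 + 1 = n := by omega
        rw [this]
        omega
      refine DFunLike.ext _ _ (fun v => ?_)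
      apply Subtype.ext
      rw [hyVcoe, e, pow_add, ← hy, pow_orderOf_eq_one, one_mul, pow_one]
      rfl)
    b
    (by
      intro v v' w
      apply Subtype.ext
      change c (ℓ (v * v')) (ℓ w) = c (ℓ v) (ℓ w) * c (ℓ v') (ℓ w)
      rw [← hcl]
      apply hcong _ _ _ _ _ rfl
      rw [hℓ, map_mul, QuotientGroup.mk_mul, hℓ, hℓ])
    (by
      intro v w w'
      apply Subtype.ext
      change c (ℓ v) (ℓ (w * w')) = c (ℓ v) (ℓ w) * c (ℓ v) (ℓ w')
      rw [← hcr]
      apply hcong _ _ _ _ rfl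
      rw [hℓ, map_mul, QuotientGroup.mk_mul, hℓ, hℓ])
    (by
      intro v
      apply Subtype.ext
      change ℓ v * ℓ v * (ℓ v)⁻¹ * (ℓ v)⁻¹ = 1
      group)
    (by
      intro v w
      apply Subtype.ext
      change c (ℓ (yV v)) (ℓ (yV w)) = y (c (ℓ v) (ℓ w))
      rw [← hcy]
      apply hcong
      · rw [hℓ]
        exact hφ v (ℓ v) (hℓ v)
      · rw [hℓ]
        exact hφ w (ℓ w) (hℓ w))
  -- conclusion
  refine ⟨⟨fun u w => ?_⟩⟩
  have h1 : c u w = 1 := by
    have h2 := hb (φ.symm (QuotientGroup.mk u)) (φ.symm (QuotientGroup.mk w))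
    have h3 := congrArg Subtype.val h2
    change c (ℓ (φ.symm (QuotientGroup.mk u))) (ℓ (φ.symm (QuotientGroup.mk w))) = 1 at h3
    rw [← h3]
    apply hcong
    · rw [hℓ, MulEquiv.apply_symm_apply]
    · rw [hℓ, MulEquiv.apply_symm_apply]
  change u * w * u⁻¹ * w⁻¹ = 1 at h1
  calc u * w = (u * w * u⁻¹ * w⁻¹) * (w * u) := by group
    _ = w * u := by rw [h1, one_mul]

end Cfsg.Agent.S3158
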