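import Cfsg.Statements.S3161
-- import your own Cfsg.Agent.* helpers here
import Cfsg.Agent.Helper16.S3161IND
import Cfsg.Agent.Helper17.S3161TRANSFER
import Cfsg.Agent.Helper18.S3161KQ
import Cfsg.Agent.Helper18.S3161HEISSYL
import Cfsg.Agent.Helper18.S3161HEISISO
import Cfsg.Agent.Helper18.S3161UISO
import Cfsg.Agent.Helper19.S3161COORD

set_option autoImplicit false
set_option linter.style.haveILetI false
open Cfsg

namespace Cfsg.Agent.S3161

/-- Let Q be a non-abelian finite 2-group admitting commuting automorphisms α of order 2 and ρ of order 2^n − 1, where n ≥ 2, such that the fixed points of α form an elementary abelian subgroup of order 2^n on whose nonidentity elements the group generated by ρ acts transitively. Then Q is isomorphic to a Sylow 2-subgroup of the projective special unitary group of dimension 3 with parameter 2^n (realised over the field with 4^n elements) or of the projective special linear group of dimension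 3 over the field with 2^n elements. -/
theorem result {Q : Type*} [Group Q] [Finite Q] (hQ : IsPGroup 2 Q) (hna : ¬ IsMulCommutative Q) (n : ℕ) (hn : 2 ≤ n)
    (α ρ : MulAut Q) (hα : orderOf α = 2) (hρ : orderOf ρ = 2 ^ n - 1) (hc : Commute α ρ)
    (C : Subgroup Q) (hC : ∀ x : Q, x ∈ C ↔ α x = x) (hCE : Cfsg.IsElementaryAbelian 2 C ∧ Nat.card ↥C = 2 ^ n)
    (htr : ∀ x y : Q, x ∈ C → y ∈ C → x ≠ 1 → y ≠ 1 → ∃ k : ℕ, (ρ ^ k) x = y) :
    (∃ (F : Type) (_ : Field F) (_ : Fintype F), Fintype.card F = 4 ^ n ∧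
        ∃ S : Sylow 2 (Cfsg.PSU 3 F (2 ^ n)), Nonempty (Q ≃* ↥(S : Subgroup (Cfsg.PSU 3 F (2 ^ n))))) ∨
      (∃ (F : Type) (_ : Field F) (_ : Fintype F), Fintype.card F = 2 ^ n ∧
        ∃ S : Sylow 2 (Matrix.ProjectiveSpecialLinearGroup (Fin 3) F), Nonempty (Q ≃* ↥(S : Subgroup (Matrix.ProjectiveSpecialLinearGroup (Fin 3) F)))) := by
  classical
  have h := Cfsg.Agent.S3161P.TRANSFER hQ n hn α ρ hα hρ hc C hC hCE htr
  have hab : (∀ x y : Q, x * y = y * x) → False := fun hcomm => hna ⟨⟨hcomm⟩⟩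
  rcases Cfsg.Agent.S3161P.IND hQ h with hA | hB | hCc
  · exact (hab hA.1).elim
  · exact (hab hB.1).elim
  -- the fields
  have h2n : 2 * n ≠ 0 := by omega
  letI : Fintype (GaloisField 2 (2 * n)) := Fintype.ofFinite _
  have hF' : Fintype.card (GaloisField 2 (2 * n)) = (2 ^ n) ^ 2 := by
    rw [← Nat.card_eq_fintype_card, GaloisField.card 2 (2 * n) h2n, ← pow_mul, mul_comm]
  have H : Cfsg.Agent.Helper18.SuzU.FqSq (GaloisField 2 (2 * n)) (2 ^ n) := Cfsg.Agent.Helper18.SuzU.FqSq.of_pow (by omega) hF'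
  letI : Fintype ↥(Cfsg.Agent.S3161P.Kq H) := Fintype.ofFinite _
  have hK : Fintype.card ↥(Cfsg.Agent.S3161P.Kq H) = 2 ^ n := by
    rw [← Nat.card_eq_fintype_card, Cfsg.Agent.S3161P.card_Kq H]
  haveI : CharP ↥(Cfsg.Agent.S3161P.Kq H) 2 := Cfsg.Agent.S3161P.charP_two_of_card hK
  obtain ⟨θ, x₁, x₂, l, D, hcd⟩ := Cfsg.Agent.S3161P.COORD hQ h hCc ↥(Cfsg.Agent.S3161P.Kq H) hK
  by_cases hD : ∃ t : ↥(Cfsg.Agent.S3161P.Kq H), D = t ^ 2 + t
  · right
    obtain ⟨e1⟩ := Cfsg.Agent.S3161P.HEISISO hcd hD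
    obtain ⟨S, ⟨e2⟩⟩ := Cfsg.Agent.S3161P.HEISSYL (F := ↥(Cfsg.Agent.S3161P.Kq H)) hK
    exact ⟨↥(Cfsg.Agent.S3161P.Kq H), inferInstance, inferInstance, hK, S, ⟨e1.trans e2⟩⟩
  · left
    haveI : Fact (Nat.Prime 2) := ⟨Nat.prime_two⟩
    let S : Sylow 2 (Cfsg.PSU 3 (GaloisField 2 (2 * n)) (2 ^ n)) := H.sylow0 rfl
    have U := H.coordSylow rfl S
    obtain ⟨e⟩ := Cfsg.Agent.S3161P.UISO H hcd hD U
    refine ⟨GaloisField 2 (2 * n), inferInstance, inferInstance, ?_, S, ⟨e⟩⟩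
    rw [hF', ← pow_mul, mul_comm, pow_mul]
    norm_num

end Cfsg.Agent.S3161
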