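import Mathlib
import Cfsg.Statements.S3163

set_option autoImplicit false
open Cfsg

namespace Cfsg.Agent.S3163

variable {S : Type*} [Group S]

theorem ea_comm {A : Subgroup S} (hA : IsElementaryAbelian 2 A) {a b : S} (ha : a ∈ A)
    (hb : b ∈ A) : a * b = b * a := by
  obtain ⟨⟨⟨hc⟩⟩, -⟩ := hA
  simpa using congrArg Subtype.val (hc ⟨a, ha⟩ ⟨b, hb⟩)

theorem ea_sq {A : Subgroup S} (hA : IsElementaryAbelian 2 A) {a : S} (ha : a ∈ A) :
    a * a = 1 := by
  have := hA.2 a ha; rwa [pow_two] at this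

theorem mem_cent_single {a x : S} :
    x ∈ Subgroup.centralizer ({a} : Set S) ↔ a * x = x * a := by
  simp [Subgroup.mem_centralizer_iff]

/-- `|H| |K| ≤ |G| |H ∩ K|`. -/
theorem card_mul_le [Finite S] (H K : Subgroup S) :
    Nat.card H * Nat.card K ≤ Nat.card S * Nat.card (H ⊓ K : Subgroup S) := by
  have h1 := Subgroup.card_mul_index H
  have h2 := Subgroup.card_mul_index K
  have h3 := Subgroup.card_mul_index (H ⊓ K)
  have h4 := Subgroup.index_inf_le (H := H) (K := K)
  have hpos : 0 < H.index * K.index :=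
    Nat.mul_pos (Nat.pos_of_ne_zero Subgroup.index_ne_zero_of_finite)
      (Nat.pos_of_ne_zero Subgroup.index_ne_zero_of_finite)
  apply Nat.le_of_mul_le_mul_right _ hpos
  calc Nat.card H * Nat.card K * (H.index * K.index)
      = (Nat.card H * H.index) * (Nat.card K * K.index) := by ring
    _ = Nat.card S * (Nat.card (H ⊓ K : Subgroup S) * (H ⊓ K).index) := by rw [h1, h2, h3]
    _ ≤ Nat.card S * (Nat.card (H ⊓ K : Subgroup S) * (H.index * K.index)) := by
        apply Nat.mul_le_mul_left; exact Nat.mul_le_mul_left _ h4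
    _ = Nat.card S * Nat.card (H ⊓ K : Subgroup S) * (H.index * K.index) := by ring

/-- If `G = HK` then `|G| |H ∩ K| ≤ |H| |K|`. -/
theorem card_le_of_prod [Finite S] (H K : Subgroup S)
    (h : ∀ s : S, ∃ a ∈ H, ∃ b ∈ K, s = a * b) :
    Nat.card S * Nat.card (H ⊓ K : Subgroup S) ≤ Nat.card H * Nat.card K := by
  choose f hf g hg hfg using h
  rw [← Nat.card_prod, ← Nat.card_prod]
  let φ : S × (H ⊓ K : Subgroup S) → H × K := fun p =>
    (⟨f p.1 * p.2.1, H.mul_mem (hf _) (Subgroup.mem_inf.1 p.2.2).1⟩,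
     ⟨(p.2.1)⁻¹ * g p.1, K.mul_mem (K.inv_mem (Subgroup.mem_inf.1 p.2.2).2) (hg _)⟩)
  apply Nat.card_le_card_of_injective φ
  rintro ⟨s, d⟩ ⟨s', d'⟩ hpp
  simp only [φ, Prod.mk.injEq, Subtype.mk.injEq] at hpp
  obtain ⟨h1, h2⟩ := hpp
  have hs : s = s' := by
    rw [hfg s, hfg s']
    calc f s * g s = (f s * d.1) * ((d.1)⁻¹ * g s) := by group
      _ = (f s' * d'.1) * ((d'.1)⁻¹ * g s') := by rw [h1, h2]
      _ = f s' * g s' := by group
  subst hs
  have hd : d.1 = d'.1 := mul_left_cancel h1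
  exact Prod.ext rfl (Subtype.ext hd)

theorem result {S : Type*} [Group S] [Finite S] (hS : IsPGroup 2 S) (hna : ¬ IsMulCommutative S) (A B : Subgroup S)
    (hA : Cfsg.IsElementaryAbelian 2 A) (hB : Cfsg.IsElementaryAbelian 2 B) (hAB : ∀ s : S, ∃ a ∈ A, ∃ b ∈ B, s = a * b)
    (hC : ∀ a ∈ A, a ∉ B → Subgroup.centralizer ({a} : Set S) = A) :
    (∀ b ∈ B, b ∉ A → Subgroup.centralizer ({b} : Set S) = B) ∧
      (∀ E : Subgroup S, Cfsg.IsElementaryAbelian 2 E → (∀ E' : Subgroup S, Cfsg.IsElementaryAbelian 2 E' → E ≤ E' → E' = E) → E = A ∨ E = B) ∧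
      (∀ E' : Subgroup S, Cfsg.IsElementaryAbelian 2 E' → A ≤ E' → E' = A) ∧ (∀ E' : Subgroup S, Cfsg.IsElementaryAbelian 2 E' → B ≤ E' → E' = B) ∧
      Subgroup.center S = A ⊓ B ∧
      (∀ x : S, x ∉ A → x ∉ B → Nat.card ↥(Subgroup.centralizer ({x} : Set S)) ≤ min (Nat.card ↥A) (Nat.card ↥B)) := by
  classical
  have cA : ∀ x ∈ A, ∀ y ∈ A, x * y = y * x := fun x hx y hy => ea_comm hA hx hy
  have cB : ∀ x ∈ B, ∀ y ∈ B, x * y = y * x := fun x hx y hy => ea_comm hB hx hy
  have sA : ∀ x ∈ A, x * x = 1 := fun x hx => ea_sq hA hx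
  have sB : ∀ x ∈ B, x * x = 1 := fun x hx => ea_sq hB hx
  have hCmem : ∀ a ∈ A, a ∉ B → ∀ x, a * x = x * a → x ∈ A := by
    intro a ha hab x hx
    rw [← hC a ha hab]; exact mem_cent_single.2 hx
  have hAnB : ∃ a ∈ A, a ∉ B := by
    by_contra hcon
    push Not at hcon
    apply hna
    refine ⟨⟨fun x y => ?_⟩⟩
    obtain ⟨a, ha, b, hb, rfl⟩ := hAB x
    obtain ⟨a', ha', b', hb', rfl⟩ := hAB y
    exact cB _ (B.mul_mem (hcon a ha) hb) _ (B.mul_mem (hcon a' ha') hb')
  have hBnA : ∃ b ∈ B, b ∉ A := by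
    by_contra hcon
    push Not at hcon
    apply hna
    refine ⟨⟨fun x y => ?_⟩⟩
    obtain ⟨a, ha, b, hb, rfl⟩ := hAB x
    obtain ⟨a', ha', b', hb', rfl⟩ := hAB y
    exact cA _ (A.mul_mem ha (hcon b hb)) _ (A.mul_mem ha' (hcon b' hb'))
  -- claim 1
  have h1 : ∀ b ∈ B, b ∉ A → Subgroup.centralizer ({b} : Set S) = B := by
    intro b hb hbA
    ext x
    rw [mem_cent_single]
    constructor
    · intro hx
      obtain ⟨a', ha', b', hb', rfl⟩ := hAB x
      have hbb' := cB b hb b' hb'
      have hcomm : a' * b = b * a' := by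
        have h2 : a' * b * b' = b * a' * b' := by
          calc a' * b * b' = a' * (b * b') := by group
            _ = a' * (b' * b) := by rw [hbb']
            _ = (a' * b') * b := by group
            _ = b * (a' * b') := hx.symm
            _ = b * a' * b' := by group
        exact mul_right_cancel h2
      by_cases ha'B : a' ∈ B
      · exact B.mul_mem ha'B hb'
      · exfalso; exact hbA (hCmem a' ha' ha'B b hcomm)
    · intro hx; exact cB b hb x hx
  have hBmem : ∀ b ∈ B, b ∉ A → ∀ x, b * x = x * b → x ∈ B := by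
    intro b hb hbA x hx
    rw [← h1 b hb hbA]; exact mem_cent_single.2 hx
  -- involutions lie in A ∪ B
  have hinv : ∀ x : S, x * x = 1 → x ∈ A ∨ x ∈ B := by
    intro x hx
    obtain ⟨a, ha, b, hb, rfl⟩ := hAB x
    by_cases haB : a ∈ B
    · right; exact B.mul_mem haB hb
    · left
      have hab : a * b = b * a := by
        have ha' : a⁻¹ = a := inv_eq_of_mul_eq_one_right (sA a ha)
        have hb' : b⁻¹ = b := inv_eq_of_mul_eq_one_right (sB b hb)
        have h3 : a * b = (a * b)⁻¹ := eq_inv_of_mul_eq_one_left hx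
        rw [mul_inv_rev, ha', hb'] at h3
        exact h3
      exact A.mul_mem ha (hCmem a ha haB b hab)
  -- every elementary abelian subgroup is in A or in B
  have hEle : ∀ E : Subgroup S, Cfsg.IsElementaryAbelian 2 E → E ≤ A ∨ E ≤ B := by
    intro E hE
    by_cases hall : E ≤ A ⊓ B
    · left; exact hall.trans inf_le_left
    · obtain ⟨x, hxE, hxD⟩ := SetLike.not_le_iff_exists.1 hall
      rcases hinv x (ea_sq hE hxE) with hxA | hxB
      · left
        have hxB : x ∉ B := fun h => hxD (Subgroup.mem_inf.2 ⟨hxA, h⟩)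
        intro y hy
        exact hCmem x hxA hxB y (ea_comm hE hxE hy)
      · right
        have hxA : x ∉ A := fun h => hxD (Subgroup.mem_inf.2 ⟨h, hxB⟩)
        intro y hy
        exact hBmem x hxB hxA y (ea_comm hE hxE hy)
  -- centre
  have hcen : Subgroup.center S = A ⊓ B := by
    apply le_antisymm
    · intro z hz
      rw [Subgroup.mem_center_iff] at hz
      obtain ⟨a, ha, haB⟩ := hAnB
      obtain ⟨b, hb, hbA⟩ := hBnA
      exact Subgroup.mem_inf.2 ⟨hCmem a ha haB z (hz a), hBmem b hb hbA z (hz b)⟩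
    · intro d hd
      obtain ⟨hdA, hdB⟩ := Subgroup.mem_inf.1 hd
      rw [Subgroup.mem_center_iff]
      intro s
      obtain ⟨a, ha, b, hb, rfl⟩ := hAB s
      calc a * b * d = a * (b * d) := by group
        _ = a * (d * b) := by rw [cB b hb d hdB]
        _ = (a * d) * b := by group
        _ = (d * a) * b := by rw [cA a ha d hdA]
        _ = d * (a * b) := by group
  refine ⟨h1, ?_, ?_, ?_, hcen, ?_⟩
  · intro E hE hmax
    rcases hEle E hE with h | h
    · left; exact (hmax A hA h).symm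
    · right; exact (hmax B hB h).symm
  · intro E' hE' hle
    obtain ⟨a, ha, haB⟩ := hAnB
    apply le_antisymm _ hle
    intro y hy
    exact hCmem a ha haB y (ea_comm hE' (hle ha) hy)
  · intro E' hE' hle
    obtain ⟨b, hb, hbA⟩ := hBnA
    apply le_antisymm _ hle
    intro y hy
    exact hBmem b hb hbA y (ea_comm hE' (hle hb) hy)
  · intro x hxA hxB
    obtain ⟨a, ha, b, hb, rfl⟩ := hAB x
    have haB : a ∉ B := fun h => hxB (B.mul_mem h hb)
    have hbA : b ∉ A := fun h => hxA (A.mul_mem ha h)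
    set C := Subgroup.centralizer ({a * b} : Set S) with hCdef
    have hCA : C ⊓ A ≤ A ⊓ B := by
      intro y hy
      obtain ⟨hyC, hyA⟩ := Subgroup.mem_inf.1 hy
      rw [hCdef, mem_cent_single] at hyC
      refine Subgroup.mem_inf.2 ⟨hyA, hBmem b hb hbA y ?_⟩
      have : a * (b * y) = a * (y * b) := by
        calc a * (b * y) = a * b * y := by group
          _ = y * (a * b) := hyC
          _ = (y * a) * b := by group
          _ = (a * y) * b := by rw [cA a ha y hyA]
          _ = a * (y * b) := by group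
      exact mul_left_cancel this
    have hCB : C ⊓ B ≤ A ⊓ B := by
      intro y hy
      obtain ⟨hyC, hyB⟩ := Subgroup.mem_inf.1 hy
      rw [hCdef, mem_cent_single] at hyC
      refine Subgroup.mem_inf.2 ⟨hCmem a ha haB y ?_, hyB⟩
      have : a * y * b = y * a * b := by
        calc a * y * b = a * (y * b) := by group
          _ = a * (b * y) := by rw [cB b hb y hyB]
          _ = a * b * y := by group
          _ = y * (a * b) := hyC
          _ = y * a * b := by group
      exact mul_right_cancel this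
    have hprod := card_le_of_prod A B hAB
    have hSpos : 0 < Nat.card S := Nat.card_pos
    have k1 := card_mul_le C A
    have k2 := card_mul_le C B
    have d1 : Nat.card (C ⊓ A : Subgroup S) ≤ Nat.card (A ⊓ B : Subgroup S) :=
      Subgroup.card_le_of_le hCA
    have d2 : Nat.card (C ⊓ B : Subgroup S) ≤ Nat.card (A ⊓ B : Subgroup S) :=
      Subgroup.card_le_of_le hCB
    have hApos : 0 < Nat.card A := Nat.card_pos
    have hBpos : 0 < Nat.card B := Nat.card_pos
    apply le_min
    · -- |C| ≤ |A| using B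
      have : Nat.card C * Nat.card B ≤ Nat.card A * Nat.card B :=
        calc Nat.card C * Nat.card B ≤ Nat.card S * Nat.card (C ⊓ B : Subgroup S) := k2
          _ ≤ Nat.card S * Nat.card (A ⊓ B : Subgroup S) := Nat.mul_le_mul_left _ d2
          _ ≤ Nat.card A * Nat.card B := hprod
      exact Nat.le_of_mul_le_mul_right this hBpos
    · have : Nat.card C * Nat.card A ≤ Nat.card B * Nat.card A :=
        calc Nat.card C * Nat.card A ≤ Nat.card S * Nat.card (C ⊓ A : Subgroup S) := k1
          _ ≤ Nat.card S * Nat.card (A ⊓ B : Subgroup S) := Nat.mul_le_mul_left _ d1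
          _ ≤ Nat.card A * Nat.card B := hprod
          _ = Nat.card B * Nat.card A := Nat.mul_comm _ _
      exact Nat.le_of_mul_le_mul_right this hApos

end Cfsg.Agent.S3163
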