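import Mathlib
import Cfsg.Statements.S3166

set_option autoImplicit false
open Cfsg

namespace Cfsg.Agent.S3166

/-- The quartic value is never a perfect square for even `Q ≥ 2`. -/
theorem not_sq (h y : ℤ) (hh : 1 ≤ h) (hy : 0 ≤ y)
    (hE : y ^ 2 = (2*h) ^ 4 - (2*h) ^ 3 + (2*h) ^ 2 - (2*h) + 1) : False := by
  have ha : 0 ≤ 4 * h ^ 2 - h := by nlinarith
  have h1 : 4 * h ^ 2 - h < y := by
    apply lt_of_pow_lt_pow_left₀ 2 hy
    rw [hE]; nlinarith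
  have h2 : y < 4 * h ^ 2 - h + 1 := by
    apply lt_of_pow_lt_pow_left₀ 2 (by linarith)
    rw [hE]; nlinarith
  omega

theorem odd_geom_sum (y : ℤ) (hy : Odd y) (k : ℕ) :
    Odd (∑ i ∈ Finset.range (2 * k + 1), y ^ i) := by
  induction k with
  | zero => simp
  | succ k ih =>
    have : 2 * (k + 1) + 1 = (2 * k + 1) + 1 + 1 := by ring
    rw [this, Finset.sum_range_succ, Finset.sum_range_succ, add_assoc]
    apply Odd.add_even ih
    exact Odd.add_odd hy.pow hy.pow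

theorem two_pow_dvd_sub_one (n : ℕ) (y : ℤ) (hy : Odd y) (k : ℕ)
    (hd : (2:ℤ) ^ n ∣ y ^ (2 * k + 1) - 1) : (2:ℤ) ^ n ∣ y - 1 := by
  have hg := geom_sum_mul y (2 * k + 1)
  rw [← hg] at hd
  have hodd := odd_geom_sum y hy k
  have hc : IsCoprime ((2:ℤ) ^ n) (∑ i ∈ Finset.range (2 * k + 1), y ^ i) := by
    apply IsCoprime.pow_left
    exact (Int.isCoprime_iff_gcd_eq_one).2 (by
      obtain ⟨t, ht⟩ := hodd
      rw [ht]
      simp)
  exact hc.dvd_of_dvd_mul_left hd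

/-- The cube case. -/
theorem not_cube (Q c : ℤ) (hQ : 2 ≤ Q) (hc : 1 ≤ c)
    (hE : (1 + Q * c) ^ 3 = Q ^ 4 - Q ^ 3 + Q ^ 2 - Q + 1) : False := by
  -- 3c + 1 = Q * t
  have hQ0 : Q ≠ 0 := by omega
  have h1 : Q * (3 * c + 1) = Q * (Q * (Q ^ 2 - Q + 1 - 3 * c ^ 2 - Q * c ^ 3)) := by
    linear_combination hE
  have h2 : 3 * c + 1 = Q * (Q ^ 2 - Q + 1 - 3 * c ^ 2 - Q * c ^ 3) := mul_left_cancel₀ hQ0 h1
  set t := Q ^ 2 - Q + 1 - 3 * c ^ 2 - Q * c ^ 3 with ht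
  have ht1 : 1 ≤ t := by
    by_contra hlt
    have : t ≤ 0 := by omega
    nlinarith
  have hQle : Q ≤ 3 * c + 1 := by nlinarith
  -- (Qc)^3 < Q^4
  have h3 : (Q * c) ^ 3 < Q ^ 4 := by
    have : (Q * c) ^ 3 < (1 + Q * c) ^ 3 := by
      apply pow_lt_pow_left₀ (by linarith) (by positivity)
      norm_num
    rw [hE] at this
    nlinarith [pow_pos (by linarith : (0:ℤ) < Q) 2, pow_pos (by linarith : (0:ℤ) < Q) 3]
  have h4 : c ^ 3 < Q := by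
    have hQ3 : (0:ℤ) < Q ^ 3 := by positivity
    have : Q ^ 3 * c ^ 3 < Q ^ 3 * Q := by
      calc Q ^ 3 * c ^ 3 = (Q * c) ^ 3 := by ring
      _ < Q ^ 4 := h3
      _ = Q ^ 3 * Q := by ring
    exact lt_of_mul_lt_mul_left this hQ3.le
  have hc1 : c = 1 := by
    by_contra hne
    have : 2 ≤ c := by omega
    nlinarith
  subst hc1
  have : Q ≤ 4 := by linarith
  interval_cases Q <;> norm_num at hE

theorem result (n p m : ℕ) (hn : 1 ≤ n) (hp : p.Prime) (h : (2 ^ n) ^ 4 - (2 ^ n) ^ 3 + (2 ^ n) ^ 2 - 2 ^ n + 1 = p ^ m) : m = 1 := by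
  obtain ⟨n', rfl⟩ : ∃ n', n = n' + 1 := ⟨n - 1, by omega⟩
  have hQ2 : 2 ≤ 2 ^ (n' + 1) := by
    calc 2 = 2 ^ 1 := by norm_num
    _ ≤ 2 ^ (n' + 1) := Nat.pow_le_pow_right (by norm_num) (by omega)
  have hQh : (2:ℕ) ^ (n' + 1) = 2 * 2 ^ n' := by rw [pow_succ]; ring
  generalize hQ : (2:ℕ) ^ (n' + 1) = Q at *
  have h34 : Q ^ 3 ≤ Q ^ 4 := Nat.pow_le_pow_right (by omega) (by norm_num)
  have h12 : Q ≤ Q ^ 2 := by nlinarith
  have hE : p ^ m + Q ^ 3 + Q = Q ^ 4 + Q ^ 2 + 1 := by omega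
  have hEZ : ((p:ℤ) ^ m) = (Q:ℤ) ^ 4 - (Q:ℤ) ^ 3 + (Q:ℤ) ^ 2 - (Q:ℤ) + 1 := by
    have := congrArg (Nat.cast : ℕ → ℤ) hE
    push_cast at this
    linarith
  have hQZ : (2:ℤ) ≤ (Q:ℤ) := by exact_mod_cast hQ2
  by_contra hm1
  have hm0 : m ≠ 0 := by
    rintro rfl
    simp only [pow_zero] at hEZ
    nlinarith [pow_pos (by linarith : (0:ℤ) < Q) 2, pow_pos (by linarith : (0:ℤ) < Q) 3]
  obtain ⟨k, hk⟩ := Nat.minFac_dvd m
  have hr : (m.minFac).Prime := Nat.minFac_prime hm1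
  set r := m.minFac with hrdef
  have hk0 : k ≠ 0 := by
    rintro rfl
    simp at hk
    exact hm0 hk
  have hy2 : 2 ≤ p ^ k := by
    calc 2 ≤ p := hp.two_le
    _ = p ^ 1 := by simp
    _ ≤ p ^ k := Nat.pow_le_pow_right hp.pos (by omega)
  have hpow : (p:ℤ) ^ m = ((p:ℤ) ^ k) ^ r := by
    rw [hk, mul_comm, pow_mul]
  set y : ℤ := (p:ℤ) ^ k with hy
  have hy2' : (2:ℤ) ≤ y := by
    rw [hy]; exact_mod_cast hy2
  rw [hpow] at hEZ
  rcases hr.eq_two_or_odd' with h2 | hodd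
  · -- square case
    rw [h2] at hEZ
    have hQh' : (Q:ℤ) = 2 * ((2:ℤ) ^ n') := by
      rw [← hQ]; push_cast; rw [pow_succ]; ring
    rw [hQh'] at hEZ
    exact not_sq ((2:ℤ) ^ n') y (by exact_mod_cast Nat.one_le_two_pow) (by linarith) hEZ
  · -- odd case
    obtain ⟨j, hj⟩ := hodd
    have hyodd : Odd y := by
      have hNodd : Odd (y ^ r) := by
        rw [hEZ]
        have : Even (Q:ℤ) := by
          rw [← hQ]; push_cast
          exact (even_two).pow_of_ne_zero (by omega)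
        have e4 : Even ((Q:ℤ) ^ 4 - (Q:ℤ) ^ 3 + (Q:ℤ) ^ 2 - (Q:ℤ)) := by
          obtain ⟨u, hu⟩ := this
          exact ⟨(Q:ℤ)^3 * u - (Q:ℤ)^2 * u + (Q:ℤ) * u - u, by rw [hu]; ring⟩
        exact e4.add_one
      exact (Int.odd_pow' hr.ne_zero).1 hNodd
    have hdvd : (2:ℤ) ^ (n' + 1) ∣ y - 1 := by
      apply two_pow_dvd_sub_one (n' + 1) y hyodd j
      rw [← hj, hEZ]
      have : ((2:ℤ) ^ (n' + 1)) = (Q:ℤ) := by rw [← hQ]; push_cast; rfl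
      rw [this]
      exact ⟨(Q:ℤ)^3 - (Q:ℤ)^2 + (Q:ℤ) - 1, by ring⟩
    have hQc : ((2:ℤ) ^ (n' + 1)) = (Q:ℤ) := by rw [← hQ]; push_cast; rfl
    rw [hQc] at hdvd
    obtain ⟨c, hc⟩ := hdvd
    have hyc : y = 1 + (Q:ℤ) * c := by linarith
    have hc1 : 1 ≤ c := by
      by_contra hlt
      have : c ≤ 0 := by omega
      nlinarith
    have hr3 : 3 ≤ r := by
      have := hr.two_le
      omega
    rcases Nat.lt_or_ge r 5 with hlt | hge
    · -- r = 3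
      have hr3' : r = 3 := by
        have : r ≠ 4 := by omega
        omega
      rw [hr3', hyc] at hEZ
      exact not_cube (Q:ℤ) c hQZ hc1 hEZ
    · -- r ≥ 5
      have h5 : y ^ 5 ≤ y ^ r := pow_le_pow_right₀ (by linarith) hge
      have hy1Q : 1 + (Q:ℤ) ≤ y := by rw [hyc]; nlinarith
      have h6 : (1 + (Q:ℤ)) ^ 5 ≤ y ^ 5 := pow_le_pow_left₀ (by linarith) hy1Q 5
      have h7 : (Q:ℤ) ^ 4 < (1 + (Q:ℤ)) ^ 5 := by
        have : (0:ℤ) < (Q:ℤ) := by linarith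
        nlinarith [pow_pos this 2, pow_pos this 3, pow_pos this 4, pow_pos this 5]
      nlinarith [pow_pos (by linarith : (0:ℤ) < Q) 2, pow_pos (by linarith : (0:ℤ) < Q) 3]

end Cfsg.Agent.S3166
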