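import Cfsg.Statements.S3171
import Mathlib
import Cfsg.Agent.Helper13.S3171G

set_option autoImplicit false
open Cfsg

namespace Cfsg.Agent.S3171

/-- Let P be a Sylow 2-subgroup of the Mathieu group of degree 24 and S the quotient of P by its centre. Then the centre of every maximal subgroup of S has order at most 8; S has an elementary abelian subgroup of order 64; and S has only one abelian subgroup of order 64. -/
theorem result (P : Sylow 2 ↥Cfsg.M24) :
    (∀ M : Subgroup (↥(P : Subgroup ↥Cfsg.M24) ⧸ Subgroup.center ↥(P : Subgroup ↥Cfsg.M24)), IsCoatom M →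
        Nat.card ↥(Subgroup.center ↥M) ≤ 8) ∧
      (∃ A : Subgroup (↥(P : Subgroup ↥Cfsg.M24) ⧸ Subgroup.center ↥(P : Subgroup ↥Cfsg.M24)),
        Cfsg.IsElementaryAbelian 2 A ∧ Nat.card ↥A = 64) ∧
      ∀ A B : Subgroup (↥(P : Subgroup ↥Cfsg.M24) ⧸ Subgroup.center ↥(P : Subgroup ↥Cfsg.M24)),
        IsMulCommutative ↥A → Nat.card ↥A = 64 → IsMulCommutative ↥B → Nat.card ↥B = 64 → A = B := by
  classical
  have : Fact (Nat.Prime 2) := ⟨Nat.prime_two⟩
  obtain ⟨e⟩ := Cfsg.Agent.Helper27.sylow_iso_of_embedding (p := 2) (n := 10) (m := 239085)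
    (by rw [Cfsg.Agent.Helper27.card_M24]; norm_num) (by norm_num) Cfsg.Agent.Helper27.card_sylB
    Cfsg.Agent.Helper27.sylB.subtype (Subgroup.subtype_injective _) P
  have hτ : Cfsg.Agent.Helper27.IsTblRep
      (fun x : ↥(P : Subgroup ↥Cfsg.M24) => Cfsg.Agent.Helper27.tblOf ((e x).1).1) Cfsg.Agent.Helper27.syl2L :=
    { inj := fun x y h => by
        have h1 := Cfsg.Agent.Helper27.tblOf_injective h
        exact e.injective (Subtype.ext (Subtype.ext h1))
      mem := fun x => (Cfsg.Agent.Helper27.mem_sylB _).mp (e x).2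
      surj := fun X hX => by
        obtain ⟨b, hb, hr⟩ := Cfsg.Agent.Helper27.exists_of_tbl hX
        refine ⟨e.symm ⟨b, hb⟩, ?_⟩
        show Cfsg.Agent.Helper27.tblOf ((e (e.symm ⟨b, hb⟩)).1).1 = X
        rw [e.apply_symm_apply]
        exact Cfsg.Agent.Helper27.tblOf_eq hr
      mul := fun x y => by
        show Cfsg.Agent.Helper27.tblOf ((e (x * y)).1).1 = _
        rw [map_mul]
        exact Cfsg.Agent.Helper27.tblOf_mul _ _
      one := by
        show Cfsg.Agent.Helper27.tblOf ((e 1).1).1 = _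
        rw [map_one]
        exact Cfsg.Agent.Helper27.tblOf_one }
  exact Cfsg.Agent.Helper13.S3171G.main hτ

end Cfsg.Agent.S3171
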