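import Cfsg.Statements.S3174
import Cfsg.Agent.Helper16.S3174Defs
import Cfsg.Agent.Helper20.S3174STAGE1
import Cfsg.Agent.Helper14.S3174DERIVED
import Cfsg.Agent.Helper27.S3174D8
import Cfsg.Agent.Helper1.S3174CENRED
import Cfsg.Agent.Helper1.S3174NOSMALL
import Cfsg.Agent.Helper10.S3174UHCARD
import Cfsg.Agent.Helper5.S3174UHSQa
import Cfsg.Agent.Helper8.S3174CCARD

set_option autoImplicit false
open Cfsg

namespace Cfsg.Agent.S3174

open scoped commutatorElement
open Cfsg.Agent.S3174P

/-- `Z_3 ≤ Û ≤ W`. -/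
theorem S3174_uh_le {T : Type*} [Group T] [Finite T] {W : Subgroup T} (c : Cfg T W) :
    Zi T 3 ≤ Uh W ∧ Uh W ≤ W := by
  refine ⟨le_sup_left, sup_le c.ZW ?_⟩
  rw [Subgroup.closure_le]
  rintro y ⟨x, hx, t, _, rfl⟩
  have h1 : ⁅x, t⁆ = x * (t * x⁻¹ * t⁻¹) := by
    simp only [commutatorElement_def]; group
  have hxi : t * x⁻¹ * t⁻¹ ∈ W := c.nW.conj_mem _ (W.inv_mem hx) t
  show ⁅x, t⁆ ∈ W
  rw [h1]
  exact W.mul_mem hx hxi

/-- `|Z(W)| = 8`: otherwise `Z_4 ≤ Z(W)` and `Û = Z_3[W, C_T(Z_2)]` has index at most `8` in `W` with all squares in `Z_2`. -/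
theorem S3174_cen {T : Type*} [Group T] [Finite T] {W : Subgroup T} (c : Cfg T W) :
    Nat.card ↥(Subgroup.center ↥W) = 8 := by
  by_contra h
  obtain ⟨n, hn4, hn3, hnW, hnc⟩ := cen_red c h
  have hnc' : ∀ y ∈ W, ⁅n, y⁆ ∈ Zi T 2 := fun y hy => by
    rw [hnc y hy]; exact Subgroup.one_mem _
  exact no_small c (Uh W) (S3174_uh_le c).2 (S3174_uh_le c).1 (uh_card c) (UHSQ_aux_core c (cM_card c) n hn4 hn3 hnW hnc')

/-- Let T be a finite 2-group of order at least 2^14 in which the fourth term of the upper central series has order 16. Let W be the centralizer in T of the third term Z₃(T), and suppose the Frattini subgroup of W has order at most 8 and lies in every subgroup of W of index at most 16. Then T has order exactly 2^14; the derived subgroup of W and the Frattini subgroup of W both equal Z₃(T), which is elementary abelian of order 8; the centre of W has order 8; W is normal in T with quotient dihedral of order 8; and W modulo its derived subgroup is elementary abelian of order 2^8.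 -/
theorem result {T : Type*} [Group T] [Finite T]
    (hT : IsPGroup 2 T) (ha : 2 ^ 14 ≤ Nat.card T) (hb : Nat.card ↥(Subgroup.upperCentralSeries T 4) = 16)
    (W : Subgroup T) (hW : W = Subgroup.centralizer ((Subgroup.upperCentralSeries T 3 : Subgroup T) : Set T))
    (hc : Nat.card ↥(frattini ↥W) ≤ 8) (hd : ∀ U : Subgroup ↥W, U.index ≤ 16 → frattini ↥W ≤ U) :
    Nat.card T = 2 ^ 14 ∧
      (commutator ↥W).map W.subtype = Subgroup.upperCentralSeries T 3 ∧
      (frattini ↥W).map W.subtype = Subgroup.upperCentralSeries T 3 ∧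
      Nat.card ↥(Subgroup.center ↥W) = 8 ∧
      Nat.card ↥(Subgroup.upperCentralSeries T 3) = 8 ∧ (∀ z ∈ Subgroup.upperCentralSeries T 3, z ^ 2 = 1) ∧
      (∃ (_ : W.Normal), Nonempty (T ⧸ W ≃* DihedralGroup 4)) ∧
      Nat.card (↥W ⧸ commutator ↥W) = 2 ^ 8 ∧ (∀ x : ↥W ⧸ commutator ↥W, x ^ 2 = 1) := by
  have h : Hyp T W := ⟨hT, ha, hb, hW, hc, hd⟩
  have c0 := stage1 h
  have dr := derived c0
  have ex := expo c0 dr
  have c : Cfg T W := { toCfg0 := c0, dr := dr, ex := ex }
  have hcardcomm : Nat.card ↥(commutator ↥W) = 8 := by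
    have h1 : Nat.card ↥((commutator ↥W).map W.subtype) = Nat.card ↥(commutator ↥W) :=
      Nat.card_congr ((commutator ↥W).equivMapOfInjective W.subtype W.subtype_injective).symm.toEquiv
    rw [← h1, dr]; exact c0.c3
  refine ⟨c0.cT, dr, c0.frZ, S3174_cen c, c0.c3, ex, d8 c, ?_, ?_⟩
  · have h1 := Subgroup.card_eq_card_quotient_mul_card_subgroup (commutator ↥W)
    rw [c0.cW, hcardcomm] at h1
    omega
  · intro x
    induction x using QuotientGroup.induction_on with
    | H w =>
      rw [← QuotientGroup.mk_pow, QuotientGroup.eq_one_iff]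
      have h2 : ((w ^ 2 : ↥W) : T) ∈ (commutator ↥W).map W.subtype := by
        rw [dr]
        have := c0.sq (w : T) w.2
        simpa using this
      obtain ⟨y, hy, hyw⟩ := h2
      have : y = w ^ 2 := Subtype.ext (by simpa using hyw)
      rw [← this]; exact hy

end Cfsg.Agent.S3174
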