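import Mathlib
import Cfsg.Statements.S3178
import Cfsg.Agent.Helper16.ThompsonTransfer2
import Cfsg.Agent.Helper9.NPC
import Cfsg.Agent.Helper9.Frobenius
import Cfsg.Agent.Helper10.SylowSub

set_option autoImplicit false
open Cfsg

namespace Cfsg.Agent.S3178

variable {G : Type*} [Group G] [Finite G]

/-- lifting a normal 2-complement from a subgroup containing all odd-order elements -/
theorem npc_lift (H : Subgroup G) (hodd : ∀ g : G, Nat.Coprime (orderOf g) 2 → g ∈ H)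
    (hH : HasNormalPComplement 2 ↥H) : HasNormalPComplement 2 G := by
  have : Fact (Nat.Prime 2) := ⟨Nat.prime_two⟩
  obtain ⟨S⟩ : Nonempty (Sylow 2 G) := inferInstance
  rw [Cfsg.Agent.Helper9.hasNormalPComplement_iff_inf_pResidual S, eq_bot_iff]
  intro x hx
  obtain ⟨hxS, hxR⟩ := Subgroup.mem_inf.1 hx
  have hle : pResidual 2 G ≤ (pResidual 2 ↥H).map H.subtype := by
    unfold pResidual
    rw [Subgroup.closure_le]
    intro g hg
    have hgH := hodd g hg
    refine ⟨⟨g, hgH⟩, Subgroup.subset_closure ?_, rfl⟩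
    show Nat.Coprime (orderOf (⟨g, hgH⟩ : H)) 2
    rw [Subgroup.orderOf_mk]; exact hg
  obtain ⟨y, hy, hyx⟩ := hle hxR
  have hp : IsPGroup 2 (((S : Subgroup G) ⊓ H).subgroupOf H) :=
    (S.2.to_le inf_le_left).comap_subtype
  obtain ⟨P₁, hP₁⟩ := hp.exists_le_sylow
  have hyP : y ∈ (P₁ : Subgroup H) := by
    apply hP₁
    rw [Subgroup.mem_subgroupOf]
    have : (y : G) = x := hyx
    rw [this]
    exact Subgroup.mem_inf.2 ⟨hxS, by rw [← this]; exact y.2⟩
  have h0 := (Cfsg.Agent.Helper9.hasNormalPComplement_iff_inf_pResidual P₁).1 hH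
  have hy1 : y ∈ (P₁ : Subgroup H) ⊓ pResidual 2 ↥H := Subgroup.mem_inf.2 ⟨hyP, hy⟩
  rw [h0, Subgroup.mem_bot] at hy1
  rw [Subgroup.mem_bot, ← hyx, hy1]; rfl

section modular
variable (a b : G) (m : ℕ) (hao : orderOf a = 2 ^ (m + 3)) (hbo : orderOf b = 2)
  (hrel : b * a * b⁻¹ = a ^ (2 ^ (m + 2) + 1))

include hao in
theorem a_pow_full : a ^ (2 ^ (m + 3)) = 1 := by rw [← hao]; exact pow_orderOf_eq_one a

include hao in
theorem z_sq : (a ^ (2 ^ (m + 2))) ^ 2 = 1 := by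
  rw [← pow_mul, ← pow_succ]; exact a_pow_full a m hao

include hao in
theorem z_ne_one : a ^ (2 ^ (m + 2)) ≠ 1 := by
  apply pow_ne_one_of_lt_orderOf (by positivity)
  rw [hao]; exact Nat.pow_lt_pow_right (by norm_num) (by omega)

include hao in
theorem z_pow_even (i : ℕ) (hi : Even i) : (a ^ (2 ^ (m + 2))) ^ i = 1 := by
  obtain ⟨j, rfl⟩ := hi
  rw [← two_mul, pow_mul, z_sq a m hao, one_pow]

include hrel in
theorem bconj_pow (i : ℕ) : b * a ^ i * b⁻¹ = a ^ i * (a ^ (2 ^ (m + 2))) ^ i := by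
  rw [← _root_.conj_pow, hrel, ← pow_mul, ← pow_mul, ← pow_add]; congr 1; ring

include hao hrel in
theorem bconj_pow_even (i : ℕ) (hi : Even i) : b * a ^ i * b⁻¹ = a ^ i := by
  rw [bconj_pow a b m hrel, z_pow_even a m hao i hi, mul_one]

include hao hrel in
/-- `b ∉ ⟨a⟩` -/
theorem b_not_mem : b ∉ Subgroup.zpowers a := by
  intro hmem
  obtain ⟨i, hi⟩ := Subgroup.mem_zpowers_iff.1 hmem
  have hcomm : b * a * b⁻¹ = a := by rw [← hi]; group
  have h1 := bconj_pow a b m hrel 1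
  rw [pow_one, pow_one, hcomm] at h1
  exact z_ne_one a m hao (by simpa using h1.symm)

include hao in
/-- the unique involution of `⟨a⟩` -/
theorem invol_in_A (t : G) (ht : t ∈ Subgroup.zpowers a) (ht2 : t ^ 2 = 1) (ht1 : t ≠ 1) :
    t = a ^ (2 ^ (m + 2)) := by
  rw [← mem_powers_iff_mem_zpowers] at ht
  obtain ⟨i, rfl⟩ := (Submonoid.mem_powers_iff _ _).1 ht
  rw [← pow_mul] at ht2
  have hd := orderOf_dvd_of_pow_eq_one ht2
  rw [hao, pow_succ] at hd
  have hd2 : 2 ^ (m + 2) ∣ i := Nat.dvd_of_mul_dvd_mul_right (by norm_num) hd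
  obtain ⟨j, rfl⟩ := hd2
  rw [pow_mul] at ht1 ⊢
  rcases Nat.even_or_odd j with hj | hj
  · exact absurd (z_pow_even a m hao j hj) ht1
  · obtain ⟨k, rfl⟩ := hj
    rw [pow_succ, z_pow_even a m hao (2 * k) (even_two_mul k), one_mul]

include hao hbo hrel in
theorem order_ab : orderOf (a * b) = 2 ^ (m + 3) := by
  have hbb : b * b = 1 := by
    have := pow_orderOf_eq_one b
    rwa [hbo, pow_two] at this
  have hbinv : b⁻¹ = b := inv_eq_of_mul_eq_one_right hbb
  have hsq : (a * b) ^ 2 = a ^ (2 ^ (m + 2) + 2) := by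
    have e : (a * b) ^ 2 = a * (b * a * b⁻¹) * (b * b) := by rw [pow_two]; group
    rw [e, hrel, hbb, mul_one, ← pow_succ']
  have hfull := a_pow_full a m hao
  apply orderOf_eq_prime_pow
  · -- (ab)^(2^(m+2)) = z ≠ 1
    have e : (a * b) ^ 2 ^ (m + 2) = a ^ (2 ^ (m + 2)) := by
      have : (2:ℕ) ^ (m + 2) = 2 * 2 ^ (m + 1) := by rw [pow_succ]; ring
      rw [this, pow_mul, hsq, ← pow_mul]
      have e2 : (2 ^ (m + 2) + 2) * 2 ^ (m + 1) = 2 ^ (m + 3) * 2 ^ m + 2 * 2 ^ (m + 1) := by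
        ring
      rw [e2, pow_add, pow_mul, hfull, one_pow, one_mul]
    rw [e]; exact z_ne_one a m hao
  · have : (2:ℕ) ^ (m + 2 + 1) = 2 * 2 ^ (m + 2) := by rw [pow_succ]; ring
    rw [this, pow_mul, hsq, ← pow_mul]
    have e2 : (2 ^ (m + 2) + 2) * 2 ^ (m + 2) = 2 ^ (m + 3) * (2 ^ (m + 1) + 1) := by ring
    rw [e2, pow_mul, hfull, one_pow]

section withS
variable (S : Subgroup G) (ha : a ∈ S) (hb : b ∈ S) (hS : Nat.card S = 2 ^ (m + 4))

include hao ha hS in
theorem index_two : ((Subgroup.zpowers a).subgroupOf S).index = 2 := by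
  have hle : Subgroup.zpowers a ≤ S := by rw [Subgroup.zpowers_le]; exact ha
  have h1 := Subgroup.card_mul_index ((Subgroup.zpowers a).subgroupOf S)
  have h2 : Nat.card ((Subgroup.zpowers a).subgroupOf S) = 2 ^ (m + 3) := by
    rw [Nat.card_congr (Subgroup.subgroupOfEquivOfLe hle).toEquiv, Nat.card_zpowers, hao]
  rw [h2, hS, pow_succ _ (m + 3)] at h1
  exact Nat.eq_of_mul_eq_mul_left (by positivity) h1

include hao hrel ha hb hS in
theorem cover (s : G) (hs : s ∈ S) (hsA : s ∉ Subgroup.zpowers a) :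
    b⁻¹ * s ∈ Subgroup.zpowers a := by
  have hidx := index_two a m hao S ha hS
  have hbA := b_not_mem a b m hao hrel
  have := Subgroup.mul_mem_iff_of_index_two hidx (a := (⟨b⁻¹, S.inv_mem hb⟩ : S))
    (b := (⟨s, hs⟩ : S))
  simp only [Subgroup.mem_subgroupOf, Subgroup.coe_mul] at this
  rw [this]
  constructor
  · intro h; exact absurd (inv_mem_iff.1 h) hbA
  · intro h; exact absurd h hsA

include hao ha hS in
theorem sq_mem (s : G) (hs : s ∈ S) : s ^ 2 ∈ Subgroup.zpowers a := by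
  have hidx := index_two a m hao S ha hS
  have := Subgroup.mul_mem_iff_of_index_two hidx (a := (⟨s, hs⟩ : S)) (b := (⟨s, hs⟩ : S))
  simp only [Subgroup.mem_subgroupOf, Subgroup.coe_mul] at this
  rw [pow_two, this]; trivial

include hao hrel ha hb hS in
theorem S_le_centralizer :
    S ≤ Subgroup.centralizer ({a ^ (2 ^ (m + 2))} : Set G) := by
  have haC : a ∈ Subgroup.centralizer ({a ^ (2 ^ (m + 2))} : Set G) := by
    rw [Subgroup.mem_centralizer_singleton_iff]
    rw [← pow_succ, ← pow_succ']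
  have hbC : b ∈ Subgroup.centralizer ({a ^ (2 ^ (m + 2))} : Set G) := by
    rw [Subgroup.mem_centralizer_singleton_iff]
    have h1 := bconj_pow_even a b m hao hrel (2 ^ (m + 2)) (by
      rw [pow_succ]; exact even_two.mul_left _)
    symm
    calc a ^ 2 ^ (m + 2) * b = (b * a ^ 2 ^ (m + 2) * b⁻¹) * b := by rw [h1]
      _ = b * a ^ 2 ^ (m + 2) := by group
  intro s hs
  by_cases hsA : s ∈ Subgroup.zpowers a
  · exact (Subgroup.zpowers_le.2 haC) hsA
  · have h1 := cover a b m hao hrel S ha hb hS s hs hsA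
    have h2 := (Subgroup.zpowers_le.2 haC) h1
    have : s = b * (b⁻¹ * s) := by group
    rw [this]; exact Subgroup.mul_mem _ hbC h2

end withS

include hao hrel in
theorem no_fusion (S : Sylow 2 G) (ha : a ∈ (S : Subgroup G)) (hb : b ∈ (S : Subgroup G))
    (hS : Nat.card (S : Subgroup G) = 2 ^ (m + 4)) (g : G) :
    g * b * g⁻¹ ≠ a ^ (2 ^ (m + 2)) := by
  intro hg
  have hzsq := z_sq a m hao
  have hzne := z_ne_one a m hao
  have hSC := S_le_centralizer a b m hao hrel (S : Subgroup G) ha hb hS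
  have hinv := invol_in_A a m hao
  have hzA : a ^ (2 ^ (m + 2)) ∈ Subgroup.zpowers a :=
    Subgroup.pow_mem _ (Subgroup.mem_zpowers a) _
  have hbw : b * a ^ (2 ^ (m + 1)) * b⁻¹ = a ^ (2 ^ (m + 1)) :=
    bconj_pow_even a b m hao hrel (2 ^ (m + 1)) (by rw [pow_succ]; exact even_two.mul_left _)
  have hw2 : (a ^ (2 ^ (m + 1))) ^ 2 = a ^ (2 ^ (m + 2)) := by rw [← pow_mul, ← pow_succ]
  obtain ⟨z, hz⟩ : ∃ z, z = a ^ (2 ^ (m + 2)) := ⟨_, rfl⟩
  obtain ⟨w, hw⟩ : ∃ w, w = a ^ (2 ^ (m + 1)) := ⟨_, rfl⟩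
  rw [← hz] at hg hzsq hzne hSC hinv hw2 hzA
  rw [← hw] at hbw hw2
  have hbwc : b * w = w * b := by
    calc b * w = (b * w * b⁻¹) * b := by group
      _ = w * b := by rw [hbw]
  have hvz : g * w * g⁻¹ ∈ Subgroup.centralizer ({z} : Set G) := by
    rw [Subgroup.mem_centralizer_singleton_iff, ← hg]
    symm
    calc g * b * g⁻¹ * (g * w * g⁻¹) = g * (b * w) * g⁻¹ := by group
      _ = g * (w * b) * g⁻¹ := by rw [hbwc]
      _ = g * w * g⁻¹ * (g * b * g⁻¹) := by group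
  have hv4 : (g * w * g⁻¹) ^ 4 = 1 := by
    rw [_root_.conj_pow, show (4:ℕ) = 2 * 2 from rfl, pow_mul, hw2, hzsq]; group
  have hR : IsPGroup 2 (Subgroup.zpowers (g * w * g⁻¹)) := by
    have hd : orderOf (g * w * g⁻¹) ∣ 2 ^ 2 := orderOf_dvd_of_pow_eq_one (by simpa using hv4)
    obtain ⟨k, -, hk⟩ := (Nat.dvd_prime_pow Nat.prime_two).1 hd
    exact IsPGroup.of_card (n := k) (by rw [Nat.card_zpowers, hk])
  have hRC : Subgroup.zpowers (g * w * g⁻¹) ≤ Subgroup.centralizer ({z} : Set G) :=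
    Subgroup.zpowers_le.2 hvz
  obtain ⟨c, hc, hcR⟩ := Cfsg.Agent.Helper10.exists_conj_le_sylow_of_le S _ _ hSC hR hRC
  have hw'S := hcR (g * w * g⁻¹) (Subgroup.mem_zpowers _)
  have hz'A := sq_mem a m hao (S : Subgroup G) ha hS _ hw'S
  have e : (c * (g * w * g⁻¹) * c⁻¹) ^ 2 = c * g * z * g⁻¹ * c⁻¹ := by
    rw [_root_.conj_pow, _root_.conj_pow, hw2]; group
  rw [e] at hz'A
  have hz'2 : (c * g * z * g⁻¹ * c⁻¹) ^ 2 = 1 := by
    have : c * g * z * g⁻¹ * c⁻¹ = (c * g) * z * (c * g)⁻¹ := by group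
    rw [this, _root_.conj_pow, hzsq]; group
  have hz'1 : c * g * z * g⁻¹ * c⁻¹ ≠ 1 := by
    intro h
    apply hzne
    have : z = (c * g)⁻¹ * (c * g * z * g⁻¹ * c⁻¹) * (c * g) := by group
    rw [this, h]; group
  have hz'z := hinv _ hz'A hz'2 hz'1
  rw [Subgroup.mem_centralizer_singleton_iff] at hc
  have h5 : g * z * g⁻¹ = z := by
    calc g * z * g⁻¹ = c⁻¹ * (c * g * z * g⁻¹ * c⁻¹) * c := by group
      _ = c⁻¹ * z * c := by rw [hz'z]
      _ = c⁻¹ * (z * c) := by group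
      _ = c⁻¹ * (c * z) := by rw [← hc]
      _ = z := by group
  have h6 : b = z := by
    have : g * b * g⁻¹ = g * z * g⁻¹ := by rw [hg, h5]
    exact mul_left_cancel (mul_right_cancel this)
  apply b_not_mem a b m hao hrel
  rw [h6]; exact hzA

end modular

theorem result {G : Type*} [Group G] [Finite G]
    (S : Sylow 2 G) (n : ℕ) (hn : 3 ≤ n) (hS : Nat.card ↥(S : Subgroup G) = 2 ^ (n + 1))
    (a b : G) (ha : a ∈ (S : Subgroup G)) (hb : b ∈ (S : Subgroup G))
    (hao : orderOf a = 2 ^ n) (hbo : orderOf b = 2) (hrel : b * a * b⁻¹ = a ^ (2 ^ (n - 1) + 1)) :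
    Cfsg.HasNormalPComplement 2 G := by
  classical
  have : Fact (Nat.Prime 2) := ⟨Nat.prime_two⟩
  obtain ⟨m, rfl⟩ : ∃ m, n = m + 3 := ⟨n - 3, by omega⟩
  have e1 : m + 3 - 1 = m + 2 := rfl
  have e2 : m + 3 + 1 = m + 4 := rfl
  rw [e1] at hrel
  rw [e2] at hS
  have hbA := b_not_mem a b m hao hrel
  have hidx := index_two a m hao (S : Subgroup G) ha hS
  have hnf := no_fusion a b m hao hrel S ha hb hS
  have hinv := invol_in_A a m hao
  have hbb : b ^ 2 = 1 := by rw [← hbo]; exact pow_orderOf_eq_one b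
  have hb1 : b ≠ 1 := by
    intro h
    rw [h, orderOf_one] at hbo
    omega
  have hSodd : Odd (S : Subgroup G).index := by
    rw [← Nat.not_even_iff_odd, even_iff_two_dvd]
    exact S.not_dvd_index
  -- the transfer homomorphism
  have hϕb : MonoidHom.transfer (Cfsg.Agent.Helper16.indexTwoHom
      ((Subgroup.zpowers a).subgroupOf (S : Subgroup G)) hidx) b = -1 := by
    apply Cfsg.Agent.Helper16.transfer_indexTwoHom_eq_neg_one (S : Subgroup G) hSodd _ hidx b 1
      le_rfl (by rw [hbo, pow_one])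
    · rintro ⟨y, hyS⟩ ⟨g, hg⟩ hyM
      simp only at hg
      rw [Subgroup.mem_subgroupOf] at hyM
      simp only at hyM
      have hy2 : y ^ 2 = 1 := by rw [hg, _root_.conj_pow, hbb]; group
      have hy1 : y ≠ 1 := by
        intro h
        apply hb1
        have : b = g⁻¹ * y * g := by rw [hg]; group
        rw [this, h]; group
      have := hinv y hyM hy2 hy1
      exact hnf g (by rw [← hg, this])
    · rintro ⟨y, hyS⟩ hyM
      simp only
      have hy1 : y ≠ 1 := by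
        intro h
        apply hyM
        rw [Subgroup.mem_subgroupOf]
        simp only
        rw [h]; exact Subgroup.one_mem _
      have h1 : orderOf y ≠ 1 := fun h => hy1 (orderOf_eq_one_iff.1 h)
      have h2 := orderOf_pos y
      simp only [Nat.sub_self, pow_zero]
      omega
  obtain ⟨ϕ, hϕ⟩ : ∃ ϕ : G →* ℤˣ, ϕ = MonoidHom.transfer (Cfsg.Agent.Helper16.indexTwoHom
      ((Subgroup.zpowers a).subgroupOf (S : Subgroup G)) hidx) := ⟨_, rfl⟩
  rw [← hϕ] at hϕb
  -- odd order elements lie in the kernel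
  have hodd : ∀ g : G, Nat.Coprime (orderOf g) 2 → g ∈ ϕ.ker := by
    intro g hg
    rw [MonoidHom.mem_ker]
    rcases Int.units_eq_one_or (ϕ g) with h | h
    · exact h
    · exfalso
      have h1 : (ϕ g) ^ orderOf g = 1 := by rw [← map_pow, pow_orderOf_eq_one, map_one]
      have hoddg : Odd (orderOf g) := Nat.Coprime.odd_of_right hg
      rw [h, hoddg.neg_one_pow] at h1
      exact absurd h1 (by decide)
  apply npc_lift ϕ.ker hodd
  -- an element c of order 2^(m+3) in S ∩ ker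
  obtain ⟨c, hcS, hco, hcϕ⟩ : ∃ c : G, c ∈ (S : Subgroup G) ∧ orderOf c = 2 ^ (m + 3) ∧ ϕ c = 1 := by
    rcases Int.units_eq_one_or (ϕ a) with h | h
    · exact ⟨a, ha, hao, h⟩
    · refine ⟨a * b, Subgroup.mul_mem _ ha hb, order_ab a b m hao hbo hrel, ?_⟩
      rw [map_mul, h, hϕb]; rfl
  have hcker : c ∈ ϕ.ker := MonoidHom.mem_ker.2 hcϕ
  have hbker : b ∉ ϕ.ker := by
    rw [MonoidHom.mem_ker, hϕb]; decide
  -- S ⊓ ker = ⟨c⟩
  have hSK : (S : Subgroup G) ⊓ ϕ.ker = Subgroup.zpowers c := by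
    symm
    apply Subgroup.eq_of_le_of_card_ge
    · rw [Subgroup.zpowers_le]; exact Subgroup.mem_inf.2 ⟨hcS, hcker⟩
    · rw [Nat.card_zpowers, hco]
      have hdvd : Nat.card ((S : Subgroup G) ⊓ ϕ.ker : Subgroup G) ∣ 2 ^ (m + 4) := by
        rw [← hS]; exact Subgroup.card_dvd_of_le inf_le_left
      obtain ⟨k, hk, hk2⟩ := (Nat.dvd_prime_pow Nat.prime_two).1 hdvd
      rw [hk2]
      apply Nat.pow_le_pow_right (by norm_num)
      by_contra hlt
      have hk4 : k = m + 4 := by omega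
      rw [hk4, ← hS] at hk2
      have : (S : Subgroup G) ⊓ ϕ.ker = (S : Subgroup G) :=
        Subgroup.eq_of_le_of_card_ge inf_le_left (le_of_eq hk2.symm)
      exact hbker ((inf_eq_left.1 this) hb)
  obtain ⟨PK, hPK⟩ := Cfsg.Agent.Helper9.exists_sylow_of_normal S ϕ.ker
  have hcyc0 : IsCyclic ↥((S : Subgroup G) ⊓ ϕ.ker : Subgroup G) := by
    rw [hSK]; infer_instance
  have hcyc1 : IsCyclic ↥(((S : Subgroup G) ⊓ ϕ.ker).subgroupOf ϕ.ker) :=
    (Subgroup.subgroupOfEquivOfLe (inf_le_right : (S : Subgroup G) ⊓ ϕ.ker ≤ ϕ.ker)).isCyclic.2 hcyc0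
  have hcyc : IsCyclic ↥(PK : Subgroup ↥ϕ.ker) := by rw [hPK]; exact hcyc1
  have hmin : (Nat.card ↥ϕ.ker).minFac = 2 := by
    rw [Nat.minFac_eq_two_iff]
    have h1 : orderOf c ∣ Nat.card ↥ϕ.ker := Subgroup.orderOf_dvd_natCard _ hcker
    rw [hco] at h1
    exact (dvd_pow_self 2 (by omega)).trans h1
  exact ⟨PK, _, MonoidHom.normal_ker _, IsCyclic.isComplement' hmin hcyc⟩

end Cfsg.Agent.S3178
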