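import Cfsg.Statements.S3179
-- import your own Cfsg.Agent.* helpers here
import Cfsg.Agent.Helper2.UnitaryCenter
import Cfsg.Agent.Helper2.SzOrder
import Cfsg.Agent.Helper12.SL2Torus
import Cfsg.Agent.Helper18.PSL27b
import Cfsg.Agent.Helper14.L2Max2
import Cfsg.Agent.Helper11.GL52
import Cfsg.Agent.Helper11.SzBridge

set_option autoImplicit false
open Cfsg

namespace Cfsg.Agent.S3179


open Cfsg.Agent.Helper11.GL52 in
theorem card_section_dvd {H : Subgroup (GL (Fin 5) (ZMod 2))} {K : Subgroup ↥H} [K.Normal] :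
    Nat.card (↥H ⧸ K) ∣ 9999360 := by
  rw [← card_GL52]
  have h1 : Nat.card (↥H ⧸ K) ∣ Nat.card H := by
    rw [← Subgroup.index_eq_card]
    exact Subgroup.index_dvd_card K
  exact h1.trans (Subgroup.card_subgroup_dvd_card H)

open Cfsg.Agent.Helper11.GL52 in
theorem section_not_orderOf_nine {H : Subgroup (GL (Fin 5) (ZMod 2))} {K : Subgroup ↥H} [K.Normal]
    (y : ↥H ⧸ K) : orderOf y ≠ 9 := by
  intro hy
  obtain ⟨h, rfl⟩ := QuotientGroup.mk_surjective y
  have h1 : orderOf ((QuotientGroup.mk' K) h) ∣ orderOf h := orderOf_map_dvd _ h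
  have h1' : 9 ∣ orderOf h := by
    rw [← hy]; exact h1
  obtain ⟨c, hc⟩ := h1'
  have hpos : 0 < orderOf h := orderOf_pos h
  have hc0 : c ≠ 0 := by
    rintro rfl
    omega
  have h2 : orderOf (h ^ c) = 9 := by
    rw [orderOf_pow' h hc0, hc, Nat.gcd_mul_left_left, Nat.mul_div_cancel _ (Nat.pos_of_ne_zero hc0)]
  have h3 : orderOf ((h ^ c : H) : GL (Fin 5) (ZMod 2)) = 9 := by
    rw [Subgroup.orderOf_coe]; exact h2
  exact not_orderOf_nine _ h3

theorem psl2_case {X : Type*} [Group X] (hdvd : Nat.card X ∣ 9999360)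
    (h9 : ∀ y : X, orderOf y ≠ 9) (n : ℕ) (F : Type) [Field F] [Fintype F] (hn : 2 ≤ n)
    (hF : Fintype.card F = 2 ^ n) (e : X ≃* Matrix.ProjectiveSpecialLinearGroup (Fin 2) F) :
    Fintype.card F = 4 := by
  classical
  have hcard := Cfsg.Agent.Helper18.PSL27.card_psl2 (F := F) (2 ^ n) hF
    (by calc 2 = 2 ^ 1 := by norm_num
      _ ≤ 2 ^ n := Nat.pow_le_pow_right (by norm_num) (by omega))
  rw [← Nat.card_congr e.toEquiv] at hcard
  set N := Nat.card X with hN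
  have hNpos : 0 < N := Nat.pos_of_dvd_of_pos hdvd (by norm_num)
  have hNle : N ≤ 9999360 := Nat.le_of_dvd (by norm_num) hdvd
  -- bound n
  have h4 : 4 ≤ 2 ^ n := by
    calc 4 = 2 ^ 2 := by norm_num
      _ ≤ 2 ^ n := Nat.pow_le_pow_right (by norm_num) hn
  obtain ⟨r, hr⟩ : ∃ r, 2 ^ n = r + 1 := ⟨2 ^ n - 1, by omega⟩
  have hgcd : Nat.gcd 2 (2 ^ n - 1) = 1 := by
    have : ¬ 2 ∣ 2 ^ n - 1 := by
      have : 2 ∣ 2 ^ n := dvd_pow_self 2 (by omega)
      omega
    exact (Nat.Prime.coprime_iff_not_dvd Nat.prime_two).mpr this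
  rw [hgcd, mul_one, hr] at hcard
  have e1 : (r + 1) ^ 2 - 1 = r * (r + 2) := by
    have : (r + 1) ^ 2 = r * (r + 2) + 1 := by ring
    omega
  have e2 : (r + 1) ^ 2 - (r + 1) = (r + 1) * r := by
    have : (r + 1) ^ 2 = (r + 1) * r + (r + 1) := by ring
    omega
  have e3 : r + 1 - 1 = r := by omega
  rw [e1, e2, e3] at hcard
  have hr0 : 0 < r := by omega
  have hNeq : N = (r + 2) * (r + 1) * r := by
    apply Nat.eq_of_mul_eq_mul_right hr0
    rw [hcard]; ring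
  have hnlt : n < 24 := by
    by_contra hge
    push Not at hge
    have h1 : 2 ^ 24 ≤ 2 ^ n := Nat.pow_le_pow_right (by norm_num) hge
    have h2 : r + 1 ≤ N := by
      rw [hNeq]
      nlinarith
    norm_num at h1
    omega
  have hNeq' : N = (2 ^ n + 1) * 2 ^ n * (2 ^ n - 1) := by
    rw [hr, Nat.add_sub_cancel, hNeq]
  have hn23 : n = 2 ∨ n = 3 := by
    clear hcard e1 e2 e3 hr0 hNeq hr hgcd h4 hF
    interval_cases n
    all_goals first
      | (left; rfl)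
      | (right; rfl)
      | (exfalso
         norm_num at hNeq'
         rw [hNeq'] at hdvd
         norm_num at hdvd)
  rcases hn23 with rfl | rfl
  · rw [hF]; norm_num
  · exfalso
    have : Fact (Nat.Prime 2) := ⟨Nat.prime_two⟩
    have hchar : CharP F 2 := by
      have hc : ((2 : ℕ) : F) = 0 := by
        have h8 : ((Fintype.card F : ℕ) : F) = 0 := Nat.cast_card_eq_zero F
        rw [hF] at h8
        have : ((2 : ℕ) : F) ^ 3 = 0 := by exact_mod_cast h8
        exact pow_eq_zero_iff (by norm_num) |>.mp this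
      exact (CharP.charP_iff_prime_eq_zero Nat.prime_two).mpr hc
    obtain ⟨Y, hY, -⟩ := Cfsg.Agent.Helper12.exists_sl2_orderOf_card_add_one (F := F) 2
    rw [hF] at hY
    norm_num at hY
    apply h9 (e.symm (QuotientGroup.mk' _ Y))
    rw [MulEquiv.orderOf_eq]
    rw [← hY]
    apply orderOf_injective
    rw [← MonoidHom.ker_eq_bot_iff, QuotientGroup.ker_mk']
    exact Cfsg.Agent.Helper14.center_sl2_eq_bot_of_char_two

theorem sz_case {X : Type*} [Group X] (hdvd : Nat.card X ∣ 9999360)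
    (m : ℕ) (F : Type) [Field F] [Fintype F] (hm : 1 ≤ m)
    (hF : Fintype.card F = 2 ^ (2 * m + 1)) (e : X ≃* ↥(Cfsg.Lie.Sz F (2 ^ (m + 1)))) : False := by
  classical
  have hcard := Cfsg.Agent.Helper2.SzO.card_Sz hF hm
  rw [Nat.card_congr (Cfsg.Agent.Helper11.SzBridge.szEquiv hF hm).toEquiv,
    ← Nat.card_congr e.toEquiv] at hcard
  set N := Nat.card X with hN
  have hNle : N ≤ 9999360 := Nat.le_of_dvd (by norm_num) hdvd
  have hmlt : m < 6 := by
    by_contra hge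
    push Not at hge
    have h1 : 2 ^ 13 ≤ 2 ^ (2 * m + 1) := Nat.pow_le_pow_right (by norm_num) (by omega)
    have h2 : (2 ^ (2 * m + 1)) ^ 2 ≤ N := by
      rw [hcard]
      have h3 : 1 ≤ 2 ^ (2 * m + 1) - 1 := by
        have : 2 ≤ 2 ^ (2 * m + 1) := le_trans (by norm_num) h1
        omega
      calc (2 ^ (2 * m + 1)) ^ 2 = (2 ^ (2 * m + 1)) ^ 2 * 1 * 1 := by ring
        _ ≤ (2 ^ (2 * m + 1)) ^ 2 * ((2 ^ (2 * m + 1)) ^ 2 + 1) * (2 ^ (2 * m + 1) - 1) :=
          Nat.mul_le_mul (Nat.mul_le_mul_left _ (by omega)) h3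
    have h4 : (2 ^ 13) ^ 2 ≤ (2 ^ (2 * m + 1)) ^ 2 := Nat.pow_le_pow_left h1 2
    norm_num at h4
    omega
  clear hF e
  interval_cases m
  all_goals
    norm_num at hcard
    rw [hcard] at hdvd
    norm_num at hdvd

theorem psu_case {X : Type*} [Group X] (hdvd : Nat.card X ∣ 9999360)
    (n : ℕ) (F : Type) [Field F] [Fintype F] (hn : 2 ≤ n)
    (hF : Fintype.card F = 4 ^ n) (e : X ≃* Cfsg.PSU 3 F (2 ^ n)) : False := by
  classical
  have hF' : Fintype.card F = (2 ^ n) ^ 2 := by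
    rw [hF, ← pow_mul, mul_comm, pow_mul]; norm_num
  have hcard := Cfsg.Agent.Helper2.Herm.card_PSU_closed hF' 3 (by norm_num)
  rw [← Nat.card_congr e.toEquiv] at hcard
  set N := Nat.card X with hN
  have hNle : N ≤ 9999360 := Nat.le_of_dvd (by norm_num) hdvd
  have hNpos : 0 < N := Nat.pos_of_dvd_of_pos hdvd (by norm_num)
  simp only [Finset.prod_range_succ, Finset.prod_range_zero, one_mul] at hcard
  norm_num [Nat.even_add_one] at hcard
  have hd2 : (2 ^ n) ^ 3 * ((2 ^ n + 1) * ((2 ^ n) ^ 2 - 1) * ((2 ^ n) ^ 3 + 1)) ∣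
      Nat.gcd 3 (2 ^ n + 1) * ((2 ^ n + 1) * 9999360) := by
    obtain ⟨c, hc⟩ := hdvd
    exact ⟨c, by rw [hc, ← hcard]; ring⟩
  have hnlt : n < 9 := by
    by_contra hge
    push Not at hge
    have h1 : 2 ^ 9 ≤ 2 ^ n := Nat.pow_le_pow_right (by norm_num) hge
    generalize 2 ^ n = q at *
    have hg3 : Nat.gcd 3 (q + 1) ≤ 3 := Nat.gcd_le_left _ (by norm_num)
    have hA : 0 < q ^ 2 - 1 := by
      have : 2 ^ 2 ≤ q ^ 2 := Nat.pow_le_pow_left (by omega) 2
      omega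
    have hB : q ^ 3 * (q + 1) ≤ q ^ 3 * ((q + 1) * (q ^ 2 - 1) * (q ^ 3 + 1)) := by
      apply Nat.mul_le_mul_left
      calc q + 1 ≤ (q + 1) * (q ^ 2 - 1) := Nat.le_mul_of_pos_right _ hA
        _ ≤ (q + 1) * (q ^ 2 - 1) * (q ^ 3 + 1) := Nat.le_mul_of_pos_right _ (by omega)
    have hC : Nat.gcd 3 (q + 1) * ((q + 1) * N) ≤ 3 * ((q + 1) * 9999360) :=
      Nat.mul_le_mul hg3 (Nat.mul_le_mul_left _ hNle)
    have hD : q ^ 3 * (q + 1) ≤ 29998080 * (q + 1) := by
      calc q ^ 3 * (q + 1) ≤ _ := hB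
        _ = _ := hcard.symm
        _ ≤ _ := hC
        _ = 29998080 * (q + 1) := by ring
    have hE : q ^ 3 ≤ 29998080 := Nat.le_of_mul_le_mul_right hD (by omega)
    have hF2 : (2 ^ 9) ^ 3 ≤ q ^ 3 := Nat.pow_le_pow_left h1 3
    norm_num at hF2
    omega
  clear hcard hF hF' e
  interval_cases n
  all_goals
    norm_num at hd2

/-- Let X be a section of the general linear group GL(5, 2), that is, a quotient of a subgroup of it. If X is isomorphic to PSL(2, 2^n) for some n ≥ 2, to a Suzuki group over the field with 2^(2m+1) elements for some m ≥ 1, or to PSU(3, 2^n) for some n ≥ 2, then X is isomorphic to PSL(2, 4). -/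
theorem result {H : Subgroup (GL (Fin 5) (ZMod 2))}
    {K : Subgroup ↥H} [K.Normal]
    (hX : (∃ (n : ℕ) (F : Type) (_ : Field F) (_ : Fintype F), 2 ≤ n ∧ Fintype.card F = 2 ^ n ∧
        Nonempty (↥H ⧸ K ≃* Matrix.ProjectiveSpecialLinearGroup (Fin 2) F)) ∨
      (∃ (m : ℕ) (F : Type) (_ : Field F) (_ : Fintype F), 1 ≤ m ∧ Fintype.card F = 2 ^ (2 * m + 1) ∧
        Nonempty (↥H ⧸ K ≃* ↥(Cfsg.Lie.Sz F (2 ^ (m + 1))))) ∨
      (∃ (n : ℕ) (F : Type) (_ : Field F) (_ : Fintype F), 2 ≤ n ∧ Fintype.card F = 4 ^ n ∧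
        Nonempty (↥H ⧸ K ≃* Cfsg.PSU 3 F (2 ^ n)))) :
    ∃ (F : Type) (_ : Field F) (_ : Fintype F), Fintype.card F = 4 ∧
      Nonempty (↥H ⧸ K ≃* Matrix.ProjectiveSpecialLinearGroup (Fin 2) F) := by
  rcases hX with ⟨n, F, i1, i2, hn, hF, ⟨e⟩⟩ | ⟨m, F, i1, i2, hm, hF, ⟨e⟩⟩ | ⟨n, F, i1, i2, hn, hF, ⟨e⟩⟩
  · exact ⟨F, i1, i2, psl2_case card_section_dvd section_not_orderOf_nine n F hn hF e, ⟨e⟩⟩
  · exact (sz_case card_section_dvd m F hm hF e).elim
  · exact (psu_case card_section_dvd n F hn hF e).elim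

end Cfsg.Agent.S3179
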