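import Cfsg.Statements.S3180
import Mathlib
import Cfsg.Agent.Helper26.SylowConj

set_option autoImplicit false
open Cfsg

namespace Cfsg.Agent.S3180

/-- Let P be a Sylow p-subgroup of a finite group J and P₁ a subgroup of P that is weakly closed in P with respect to J. If J acts on a set and two points, each fixed by every element of P₁, lie in one J-orbit, then they lie in one orbit of the normalizer of P₁ in J. -/
theorem result {J : Type*} [Group J] [Finite J]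
    {p : ℕ} [Fact p.Prime] (P : Sylow p J) (P₁ : Subgroup J) (hW : Cfsg.IsWeaklyClosed P₁ (P : Subgroup J))
    {Ω : Type*} [MulAction J Ω] (x y : Ω) (hx : ∀ g ∈ P₁, g • x = x) (hy : ∀ g ∈ P₁, g • y = y)
    (hc : ∃ g : J, g • x = y) :
    ∃ g ∈ Subgroup.normalizer (P₁ : Set J), g • x = y := by
  obtain ⟨g, hg⟩ := hc
  obtain ⟨hP₁P, hWC⟩ := hW
  have hP₁p : IsPGroup p P₁ := P.2.to_le hP₁P
  -- the conjugate K = g⁻¹ P₁ g fixes x
  have hKp : IsPGroup p (P₁.map (MulAut.conj g⁻¹).toMonoidHom) := hP₁p.map _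
  have hA : P₁ ≤ MulAction.stabilizer J x := fun w hw => MulAction.mem_stabilizer_iff.mpr (hx w hw)
  have hB : P₁.map (MulAut.conj g⁻¹).toMonoidHom ≤ MulAction.stabilizer J x := by
    rintro _ ⟨w, hw, rfl⟩
    rw [MulAction.mem_stabilizer_iff]
    show (g⁻¹ * w * g⁻¹⁻¹) • x = x
    rw [inv_inv, mul_smul, mul_smul, hg, hy w hw, ← hg, inv_smul_smul]
  obtain ⟨c, hcx, h, hh1, hh2⟩ := Cfsg.Agent.Helper26.exists_conj_le_sylow_pair P hA hB hP₁p hKp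
  have E1 : P₁.map (MulAut.conj h⁻¹).toMonoidHom = P₁ := by
    apply hWC
    rintro _ ⟨w, hw, rfl⟩
    have := Cfsg.Agent.Helper26.mem_sylow_smul_iff.mp (hh1 hw)
    show h⁻¹ * w * h⁻¹⁻¹ ∈ (P : Subgroup J)
    rw [inv_inv]; exact this
  have E2 : P₁.map (MulAut.conj (h⁻¹ * c * g⁻¹)).toMonoidHom = P₁ := by
    apply hWC
    rintro _ ⟨w, hw, rfl⟩
    have hmem : c * (g⁻¹ * w * g) * c⁻¹ ∈ ((h • P : Sylow p J) : Subgroup J) := by
      apply hh2
      refine ⟨g⁻¹ * w * g, ⟨w, hw, ?_⟩, rfl⟩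
      show g⁻¹ * w * g⁻¹⁻¹ = g⁻¹ * w * g
      rw [inv_inv]
    have := Cfsg.Agent.Helper26.mem_sylow_smul_iff.mp hmem
    show h⁻¹ * c * g⁻¹ * w * (h⁻¹ * c * g⁻¹)⁻¹ ∈ (P : Subgroup J)
    convert this using 1
    group
  have E1' : ∀ y : J, y ∈ P₁ ↔ h * y * h⁻¹ ∈ P₁ := by
    intro y
    conv_lhs => rw [← E1]
    rw [Cfsg.Agent.Helper26.mem_map_conj_iff, inv_inv]
  have E2' : ∀ y : J, y ∈ P₁ ↔ g * c⁻¹ * h * y * h⁻¹ * c * g⁻¹ ∈ P₁ := by
    intro y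
    conv_lhs => rw [← E2]
    rw [Cfsg.Agent.Helper26.mem_map_conj_iff]
    have : (h⁻¹ * c * g⁻¹)⁻¹ * y * (h⁻¹ * c * g⁻¹) = g * c⁻¹ * h * y * h⁻¹ * c * g⁻¹ := by group
    rw [this]
  refine ⟨g * c⁻¹, ?_, ?_⟩
  · rw [Subgroup.mem_normalizer_iff]
    intro w
    have h1 := E1' (h⁻¹ * w * h)
    have h2 := E2' (h⁻¹ * w * h)
    have e1 : h * (h⁻¹ * w * h) * h⁻¹ = w := by group
    have e2 : g * c⁻¹ * h * (h⁻¹ * w * h) * h⁻¹ * c * g⁻¹ = g * c⁻¹ * w * (g * c⁻¹)⁻¹ := by group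
    rw [e1] at h1
    rw [e2] at h2
    exact h1.symm.trans h2
  · have hcx' : c⁻¹ • x = x := by
      have := MulAction.mem_stabilizer_iff.mp hcx
      rw [inv_smul_eq_iff, this]
    rw [mul_smul, hcx', hg]

end Cfsg.Agent.S3180
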