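import Cfsg.Statements.S3183
import Mathlib
import Cfsg.Agent.Helper10.SylowSub
import Cfsg.Agent.Helper11.SylowInter

set_option autoImplicit false
open Cfsg

namespace Cfsg.Agent.S3183

theorem mem_center_map_iff {G : Type*} [Group G] (U : Subgroup G) (x : G) :
    x ∈ (Subgroup.center ↥U).map U.subtype ↔ x ∈ U ∧ ∀ u ∈ U, u * x = x * u := by
  constructor
  · rintro ⟨y, hy, rfl⟩
    refine ⟨y.2, fun u hu => ?_⟩
    have := Subgroup.mem_center_iff.mp hy ⟨u, hu⟩
    exact congrArg Subtype.val this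
  · rintro ⟨hx, h⟩
    refine ⟨⟨x, hx⟩, ?_, rfl⟩
    show (⟨x, hx⟩ : U) ∈ Subgroup.center ↥U
    rw [Subgroup.mem_center_iff]
    rintro ⟨u, hu⟩
    exact Subtype.ext (h u hu)

open Cfsg.Agent.Helper11 Cfsg.Agent.Helper10 in
/-- key lemma: an element of `S` central in some Sylow 2-subgroup is central in `S` -/
theorem central_of_central_in_some {G : Type*} [Group G] [Finite G]
    (hCI : ∀ S T : Sylow 2 G, S ≠ T → ∃ U : Sylow 2 G, ∀ y ∈ (S : Subgroup G) ⊓ (T : Subgroup G),
      y ∈ (U : Subgroup G) ∧ ∀ u ∈ (U : Subgroup G), u * y = y * u)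
    (S U : Sylow 2 G) (x : G) (hxS : x ∈ (S : Subgroup G))
    (hxU : ∀ u ∈ (U : Subgroup G), u * x = x * u) :
    ∀ s ∈ (S : Subgroup G), s * x = x * s := by
  have : Fact (Nat.Prime 2) := ⟨Nat.prime_two⟩
  by_contra hcon
  push Not at hcon
  obtain ⟨s₀, hs₀S, hs₀⟩ := hcon
  set E := (S : Subgroup G) ⊓ Subgroup.centralizer ({x} : Set G) with hE
  have hES : E < (S : Subgroup G) := by
    refine lt_of_le_of_ne inf_le_left ?_
    intro h
    have : s₀ ∈ E := h ▸ hs₀S
    exact hs₀ (Subgroup.mem_centralizer_singleton_iff.mp this.2)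
  have hE2 : IsPGroup 2 E := S.2.to_le inf_le_left
  have hxE : x ∈ E := ⟨hxS, Subgroup.mem_centralizer_singleton_iff.mpr rfl⟩
  have hUC : (U : Subgroup G) ≤ Subgroup.centralizer ({x} : Set G) := fun u hu =>
    Subgroup.mem_centralizer_singleton_iff.mpr (hxU u hu)
  obtain ⟨c, hcC, hc⟩ := exists_conj_le_sylow_of_le U _ E hUC hE2 inf_le_right
  have hcx : c * x = x * c := Subgroup.mem_centralizer_singleton_iff.mp hcC
  -- R = c⁻¹ U c
  have hER : E ≤ ((c⁻¹ • U : Sylow 2 G) : Subgroup G) := by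
    intro r hr
    rw [mem_smul_sylow_iff, inv_inv]
    exact hc r hr
  have hRC : ∀ y ∈ ((c⁻¹ • U : Sylow 2 G) : Subgroup G), y * x = x * y := by
    intro y hy
    rw [mem_smul_sylow_iff, inv_inv] at hy
    have h1 := hxU _ hy
    have hcxc : c * x * c⁻¹ = x := by rw [hcx]; group
    have key : c * (y * x) * c⁻¹ = c * (x * y) * c⁻¹ := by
      calc c * (y * x) * c⁻¹ = (c * y * c⁻¹) * (c * x * c⁻¹) := by group
        _ = (c * y * c⁻¹) * x := by rw [hcxc]
        _ = x * (c * y * c⁻¹) := h1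
        _ = (c * x * c⁻¹) * (c * y * c⁻¹) := by rw [hcxc]
        _ = c * (x * y) * c⁻¹ := by group
    have h4 := congrArg (fun t => c⁻¹ * t * c) key
    simpa [mul_assoc] using h4
  have hRS : (c⁻¹ • U : Sylow 2 G) ≠ S := by
    intro h
    apply hs₀
    exact hRC s₀ (h ▸ hs₀S)
  obtain ⟨U', hU'⟩ := hCI S (c⁻¹ • U) hRS.symm
  have hEU' : ∀ e ∈ E, e ∈ (U' : Subgroup G) ∧ ∀ u ∈ (U' : Subgroup G), u * e = e * u := by
    intro e he
    exact hU' e ⟨he.1, hER he⟩
  -- normalizer growth
  have hgrow := lt_inf_normalizer (S : Subgroup G) E S.2 hES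
  obtain ⟨s, hsA, hsE⟩ := SetLike.exists_of_lt hgrow
  -- U' normalizes E
  have hU'N : (U' : Subgroup G) ≤ Subgroup.normalizer (E : Set G) := by
    intro u hu
    have hfix : ∀ e ∈ E, u * e * u⁻¹ = e := by
      intro e he
      rw [(hEU' e he).2 u hu]; group
    have hfix' : ∀ e ∈ E, u⁻¹ * e * u = e := by
      intro e he
      have := hfix e he
      calc u⁻¹ * e * u = u⁻¹ * (u * e * u⁻¹) * u := by rw [this]
        _ = e := by group
    rw [Subgroup.mem_normalizer_iff]
    intro h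
    constructor
    · intro hh; rw [hfix h hh]; exact hh
    · intro hh
      have := hfix' _ hh
      have e2 : u⁻¹ * (u * h * u⁻¹) * u = h := by group
      rw [e2] at this
      rw [this]; exact hh
  have hA2 : IsPGroup 2 ↥((S : Subgroup G) ⊓ Subgroup.normalizer (E : Set G)) :=
    S.2.to_le inf_le_left
  obtain ⟨n, hnN, hn⟩ := exists_conj_le_sylow_of_le U' _ _ hU'N hA2 inf_le_right
  have hnsU' := hn s hsA
  -- e = n x n⁻¹ ∈ E
  have hnxE : n * x * n⁻¹ ∈ E := (Subgroup.mem_normalizer_iff.mp hnN x).mp hxE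
  have hcomm := (hEU' _ hnxE).2 _ hnsU'
  -- conclude s commutes with x
  apply hsE
  refine Subgroup.mem_inf.mpr ⟨hsA.1, Subgroup.mem_centralizer_singleton_iff.mpr ?_⟩
  have h3 : n * (s * x) * n⁻¹ = n * (x * s) * n⁻¹ := by
    calc n * (s * x) * n⁻¹ = (n * s * n⁻¹) * (n * x * n⁻¹) := by group
      _ = (n * x * n⁻¹) * (n * s * n⁻¹) := hcomm
      _ = n * (x * s) * n⁻¹ := by group
  have h4 := congrArg (fun t => n⁻¹ * t * n) h3
  simpa [mul_assoc] using h4

/-- Let G be a finite group in which the intersection of any two distinct Sylow 2-subgroups is contained in the centre of some Sylow 2-subgroup, and let S be a Sylow 2-subgroup. Then for every x in S the centralizer of x in S is a Sylow 2-subgroup of the centralizer of x in G (no 2-subgroup centralizing x is larger), and for every other Sylow 2-subgroup T the intersection S ∩ T lies in both the centre of S and the centre of T. -/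
theorem result {G : Type*} [Group G] [Finite G]
    (hCI : ∀ S T : Sylow 2 G, S ≠ T → ∃ U : Sylow 2 G,
      (S : Subgroup G) ⊓ (T : Subgroup G) ≤ (Subgroup.center ↥(U : Subgroup G)).map (U : Subgroup G).subtype)
    (S : Sylow 2 G) :
    (∀ x ∈ (S : Subgroup G), ∀ P : Subgroup G, IsPGroup 2 ↥P → P ≤ Subgroup.centralizer ({x} : Set G) →
        Nat.card ↥P ≤ Nat.card ↥((S : Subgroup G) ⊓ Subgroup.centralizer ({x} : Set G))) ∧
    (∀ T : Sylow 2 G, T ≠ S →
        (S : Subgroup G) ⊓ (T : Subgroup G) ≤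
          (Subgroup.center ↥(S : Subgroup G)).map (S : Subgroup G).subtype ⊓
            (Subgroup.center ↥(T : Subgroup G)).map (T : Subgroup G).subtype) := by
  have : Fact (Nat.Prime 2) := ⟨Nat.prime_two⟩
  have hCI' : ∀ S T : Sylow 2 G, S ≠ T → ∃ U : Sylow 2 G,
      ∀ y ∈ (S : Subgroup G) ⊓ (T : Subgroup G),
      y ∈ (U : Subgroup G) ∧ ∀ u ∈ (U : Subgroup G), u * y = y * u := by
    intro S T hST
    obtain ⟨U, hU⟩ := hCI S T hST
    exact ⟨U, fun y hy => (mem_center_map_iff _ y).mp (hU hy)⟩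
  -- second statement first
  have part2 : ∀ T : Sylow 2 G, T ≠ S → ∀ y ∈ (S : Subgroup G) ⊓ (T : Subgroup G),
      (∀ s ∈ (S : Subgroup G), s * y = y * s) ∧ (∀ t ∈ (T : Subgroup G), t * y = y * t) := by
    intro T hTS y hy
    obtain ⟨U, hU⟩ := hCI' S T hTS.symm
    obtain ⟨_, hyU⟩ := hU y hy
    exact ⟨central_of_central_in_some hCI' S U y hy.1 hyU,
      central_of_central_in_some hCI' T U y hy.2 hyU⟩
  constructor
  · intro x hxS P hP2 hPC
    -- a Sylow 2-subgroup R of C(x) containing C_S(x)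
    have hA2 : IsPGroup 2 (((S : Subgroup G) ⊓ Subgroup.centralizer ({x} : Set G)).subgroupOf
        (Subgroup.centralizer ({x} : Set G))) :=
      (S.2.to_le inf_le_left).comap_of_injective _ (Subgroup.subtype_injective _)
    obtain ⟨R, hR⟩ := hA2.exists_le_sylow
    have hP2' : IsPGroup 2 (P.subgroupOf (Subgroup.centralizer ({x} : Set G))) :=
      hP2.comap_of_injective _ (Subgroup.subtype_injective _)
    have hPle := Cfsg.Agent.Helper11.card_le_sylow R _ hP2'
    have hPcard : Nat.card (P.subgroupOf (Subgroup.centralizer ({x} : Set G))) = Nat.card P :=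
      Nat.card_congr (Subgroup.subgroupOfEquivOfLe hPC).toEquiv
    rw [hPcard] at hPle
    apply hPle.trans
    -- R' = image of R in G
    have hR'2 : IsPGroup 2 ((R : Subgroup ↥(Subgroup.centralizer ({x} : Set G))).map (Subgroup.centralizer ({x} : Set G)).subtype) :=
      R.2.map _
    have hR'card : Nat.card ((R : Subgroup ↥(Subgroup.centralizer ({x} : Set G))).map
        (Subgroup.centralizer ({x} : Set G)).subtype) =
        Nat.card (R : Subgroup ↥(Subgroup.centralizer ({x} : Set G))) :=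
      Subgroup.card_map_of_injective (Subgroup.subtype_injective _)
    rw [← hR'card]
    obtain ⟨Rs, hRs⟩ := hR'2.exists_le_sylow
    have hxR' : x ∈ (R : Subgroup ↥(Subgroup.centralizer ({x} : Set G))).map (Subgroup.centralizer ({x} : Set G)).subtype := by
      have hxC : x ∈ Subgroup.centralizer ({x} : Set G) :=
        Subgroup.mem_centralizer_singleton_iff.mpr rfl
      refine ⟨⟨x, hxC⟩, hR ?_, rfl⟩
      exact Subgroup.mem_subgroupOf.mpr ⟨hxS, hxC⟩
    by_cases hRsS : Rs = S
    · apply Subgroup.card_le_of_le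
      intro y hy
      refine ⟨hRsS ▸ hRs hy, ?_⟩
      obtain ⟨z, _, rfl⟩ := hy
      exact z.2
    · -- x is central in S
      have hxc := (part2 Rs hRsS x ⟨hxS, hRs hxR'⟩).1
      have hSle : (S : Subgroup G) ≤ (S : Subgroup G) ⊓ Subgroup.centralizer ({x} : Set G) := by
        intro s hs
        exact ⟨hs, Subgroup.mem_centralizer_singleton_iff.mpr (hxc s hs)⟩
      exact (Cfsg.Agent.Helper11.card_le_sylow S _ hR'2).trans (Subgroup.card_le_of_le hSle)
  · intro T hTS y hy
    obtain ⟨h1, h2⟩ := part2 T hTS y hy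
    exact ⟨(mem_center_map_iff _ y).mpr ⟨hy.1, h1⟩, (mem_center_map_iff _ y).mpr ⟨hy.2, h2⟩⟩

end Cfsg.Agent.S3183
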