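import Cfsg.Statements.S3184
import Mathlib
import Cfsg.Agent.Helper18.ZStar5

set_option autoImplicit false
open Cfsg

namespace Cfsg.Agent.S3184

section aux

variable {G : Type*} [Group G]

/-- Elements of the normalizer of `S` fix the involution of a cyclic characteristic subgroup. -/
theorem conj_eq_of_mem_normalizer [Finite G] (S : Sylow 2 G) (C : Subgroup ↥(S : Subgroup G))
    (hCc : IsCyclic ↥C) (hCh : C.Characteristic) (c : ↥(S : Subgroup G)) (hc : c ∈ C)
    (hc2 : orderOf c = 2) (n : G) (hn' : n • S = S) :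
    n * (c : G) * n⁻¹ = c := by
  classical
  have hn := Sylow.smul_eq_iff_mem_normalizer.mp hn'
  have hmem : ∀ s : G, s ∈ (S : Subgroup G) → n * s * n⁻¹ ∈ (S : Subgroup G) :=
    fun s hs => (Subgroup.mem_normalizer_iff.mp hn s).mp hs
  have hmem' : ∀ s : G, s ∈ (S : Subgroup G) → n⁻¹ * s * n ∈ (S : Subgroup G) := by
    intro s hs
    have := (Subgroup.mem_normalizer_iff.mp (Subgroup.inv_mem _ hn) s).mp hs
    simpa using this
  let φ : ↥(S : Subgroup G) ≃* ↥(S : Subgroup G) :=
    { toFun := fun s => ⟨n * s * n⁻¹, hmem s s.2⟩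
      invFun := fun s => ⟨n⁻¹ * s * n, hmem' s s.2⟩
      left_inv := fun s => by ext; simp [mul_assoc]
      right_inv := fun s => by ext; simp [mul_assoc]
      map_mul' := fun s t => by ext; simp [mul_assoc] }
  have hφc : φ c ∈ C :=
    (Subgroup.characteristic_iff_map_le.mp hCh) φ (Subgroup.mem_map_of_mem _ hc)
  have ho : orderOf (φ c) = 2 := by rw [MulEquiv.orderOf_eq]; exact hc2
  let _ : Fintype ↥C := Fintype.ofFinite _
  have hdvd : 2 ∣ Fintype.card ↥C := by
    have h1 : orderOf (⟨c, hc⟩ : ↥C) = 2 := (Subgroup.orderOf_mk c hc).trans hc2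
    have h2 := orderOf_dvd_card (x := (⟨c, hc⟩ : ↥C))
    rwa [h1] at h2
  have hcard := IsCyclic.card_orderOf_eq_totient (α := ↥C) hdvd
  rw [Nat.totient_two] at hcard
  have h1 : (⟨c, hc⟩ : ↥C) ∈ Finset.univ.filter (fun a : ↥C => orderOf a = 2) := by
    rw [Finset.mem_filter]; refine ⟨Finset.mem_univ _, ?_⟩
    exact (Subgroup.orderOf_mk c hc).trans hc2
  have h2 : (⟨φ c, hφc⟩ : ↥C) ∈ Finset.univ.filter (fun a : ↥C => orderOf a = 2) := by
    rw [Finset.mem_filter]; refine ⟨Finset.mem_univ _, ?_⟩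
    exact (Subgroup.orderOf_mk (φ c) hφc).trans ho
  have h3 := Finset.card_le_one.mp hcard.le _ h2 _ h1
  have h4 : φ c = c := congrArg Subtype.val h3
  exact congrArg Subtype.val h4

/-- `d` is the distinguished involution of the Sylow subgroup `T`: the conjugate of `c` under an element
carrying `S` to `T`. -/
def CharInv (S : Sylow 2 G) (c : G) (T : Sylow 2 G) (d : G) : Prop :=
  ∃ x : G, T = x • S ∧ d = x * c * x⁻¹

theorem charInv_unique {S : Sylow 2 G} {c : G}
    (hN : ∀ n : G, n • S = S → n * c * n⁻¹ = c) {T : Sylow 2 G} {d d' : G}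
    (h : CharInv S c T d) (h' : CharInv S c T d') : d = d' := by
  obtain ⟨x, hx, rfl⟩ := h
  obtain ⟨y, hy, rfl⟩ := h'
  have h1 : (y⁻¹ * x) • S = S := by
    rw [mul_smul, ← hx, hy, inv_smul_smul]
  have h2 := hN _ h1
  have : x * c * x⁻¹ = y * (y⁻¹ * x * c * (y⁻¹ * x)⁻¹) * y⁻¹ := by group
  rw [this, h2]

theorem charInv_central {S : Sylow 2 G} {c : G}
    (hN : ∀ n : G, n • S = S → n * c * n⁻¹ = c) {T : Sylow 2 G} {d : G}
    (h : CharInv S c T d) (t : G) (ht : t ∈ (T : Subgroup G)) : t * d = d * t := by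
  obtain ⟨x, hx, rfl⟩ := h
  rw [hx, Sylow.coe_subgroup_smul, Subgroup.mem_pointwise_smul_iff_inv_smul_mem] at ht
  have hs : x⁻¹ * t * x ∈ (S : Subgroup G) := by
    simpa [MulAut.smul_def] using ht
  have h2 := hN _ (Sylow.smul_eq_iff_mem_normalizer.mpr (Subgroup.le_normalizer hs))
  have e1 : t * (x * c * x⁻¹) = x * (x⁻¹ * t * x * c * (x⁻¹ * t * x)⁻¹) * x⁻¹ * t := by group
  rw [e1, h2]

theorem charInv_of_centralizes [Finite G] {S : Sylow 2 G} {c : G}
    (hN : ∀ n : G, n • S = S → n * c * n⁻¹ = c) {T : Sylow 2 G} {d : G}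
    (h : CharInv S c T d) (W : Sylow 2 G) (hW : ∀ w ∈ (W : Subgroup G), w * d = d * w) :
    CharInv S c W d := by
  have : Fact (Nat.Prime 2) := ⟨Nat.prime_two⟩
  set H := Subgroup.centralizer ({d} : Set G) with hH
  have hTH : (T : Subgroup G) ≤ H := by
    intro t ht
    rw [hH, Subgroup.mem_centralizer_iff]
    intro y hy
    rw [Set.mem_singleton_iff] at hy; subst hy
    exact (charInv_central hN h t ht).symm
  have hWH : (W : Subgroup G) ≤ H := by
    intro t ht
    rw [hH, Subgroup.mem_centralizer_iff]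
    intro y hy
    rw [Set.mem_singleton_iff] at hy; subst hy
    exact (hW t ht).symm
  obtain ⟨k, hk⟩ := MulAction.exists_smul_eq H (T.subtype hTH) (W.subtype hWH)
  rw [Sylow.smul_subtype] at hk
  have hk2 : k • T = W := Sylow.subtype_injective hk
  obtain ⟨x, hx, hd⟩ := h
  refine ⟨(k : G) * x, ?_, ?_⟩
  · rw [mul_smul, ← hx, ← hk2]; rfl
  · have hkd : d * (k : G) = (k : G) * d := by
      exact (Subgroup.mem_centralizer_iff.mp k.2) d (Set.mem_singleton d)
    have : (k : G) * x * c * ((k : G) * x)⁻¹ = (k : G) * (x * c * x⁻¹) * (k : G)⁻¹ := by group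
    rw [this, ← hd, ← hkd]; group

theorem isolated_aux [Finite G]
    (hCI : ∀ S T : Sylow 2 G, S ≠ T → ∃ U : Sylow 2 G,
      (S : Subgroup G) ⊓ (T : Subgroup G) ≤
        (Subgroup.center ↥(U : Subgroup G)).map (U : Subgroup G).subtype)
    (S : Sylow 2 G) (c : G) (hcS : c ∈ (S : Subgroup G))
    (hN : ∀ n : G, n • S = S → n * c * n⁻¹ = c) :
    ∀ g : G, g * c * g⁻¹ ∈ (S : Subgroup G) → g * c * g⁻¹ = c := by
  have : Fact (Nat.Prime 2) := ⟨Nat.prime_two⟩
  intro g hg
  by_contra hne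
  set c' := g * c * g⁻¹ with hc'
  have hS : CharInv S c S c := ⟨1, by simp, by simp⟩
  have hS' : CharInv S c (g • S) c' := ⟨g, rfl, rfl⟩
  set H := Subgroup.centralizer ({c'} : Set G) with hH
  have hS'H : ((g • S : Sylow 2 G) : Subgroup G) ≤ H := by
    intro t ht
    rw [hH, Subgroup.mem_centralizer_iff]
    intro y hy
    rw [Set.mem_singleton_iff] at hy; subst hy
    exact (charInv_central hN hS' t ht).symm
  have hT₀ : IsPGroup 2 ↥(((S : Subgroup G) ⊓ H).subgroupOf H) :=
    (S.isPGroup'.to_le inf_le_left).comap_subtype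
  obtain ⟨Q, hQ⟩ := hT₀.exists_le_sylow
  obtain ⟨k, hk⟩ := MulAction.exists_smul_eq H ((g • S).subtype hS'H) Q
  rw [Sylow.smul_subtype] at hk
  set V : Sylow 2 G := k • (g • S) with hV
  have hVc' : CharInv S c V c' := by
    refine ⟨(k : G) * g, ?_, ?_⟩
    · rw [mul_smul]; rfl
    · have hkd : c' * (k : G) = (k : G) * c' := by
        exact (Subgroup.mem_centralizer_iff.mp k.2) c' (Set.mem_singleton c')
      have : (k : G) * g * c * ((k : G) * g)⁻¹ = (k : G) * (g * c * g⁻¹) * (k : G)⁻¹ := by group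
      rw [this, ← hc', ← hkd]; group
  -- elements of S commuting with c' lie in V
  have hmemV : ∀ y : G, y ∈ (S : Subgroup G) → c' * y = y * c' → y ∈ (V : Subgroup G) := by
    intro y hyS hyc
    have hyH : y ∈ H := by
      rw [hH, Subgroup.mem_centralizer_iff]
      intro z hz
      rw [Set.mem_singleton_iff] at hz; subst hz
      exact hyc
    have h1 : (⟨y, hyH⟩ : ↥H) ∈ ((S : Subgroup G) ⊓ H).subgroupOf H := by
      rw [Subgroup.mem_subgroupOf]; exact ⟨hyS, hyH⟩
    have h2 := hQ h1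
    rw [← hk] at h2
    have h3 : (⟨y, hyH⟩ : ↥H) ∈ (V : Subgroup G).subgroupOf H := by
      have := Sylow.coe_subtype (P := V) (Sylow.smul_le hS'H k)
      rw [← this]; exact h2
    exact Subgroup.mem_subgroupOf.mp h3
  have hcc' : c' * c = c * c' := charInv_central hN hS c' hg
  have hcV : c ∈ (V : Subgroup G) := hmemV c hcS hcc'
  have hc'V : c' ∈ (V : Subgroup G) := hmemV c' hg rfl
  have hSV : S ≠ V := by
    intro h
    apply hne
    have hVc : CharInv S c V c := h ▸ hS
    exact charInv_unique hN hVc' hVc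
  obtain ⟨U, hU⟩ := hCI S V hSV
  have hcen : ∀ y : G, y ∈ (S : Subgroup G) → y ∈ (V : Subgroup G) →
      ∀ u ∈ (U : Subgroup G), u * y = y * u := by
    intro y hyS hyV u hu
    obtain ⟨z, hz, rfl⟩ := hU ⟨hyS, hyV⟩
    have hz' : z ∈ Subgroup.center ↥(U : Subgroup G) := hz
    rw [Subgroup.mem_center_iff] at hz'
    have := hz' ⟨u, hu⟩
    exact congrArg Subtype.val this
  have hUc : CharInv S c U c := charInv_of_centralizes hN hS U (hcen c hcS hcV)
  have hUc' : CharInv S c U c' := charInv_of_centralizes hN hS' U (hcen c' hg hc'V)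
  exact hne (charInv_unique hN hUc' hUc)

end aux

/-- Let G be a finite group in which the intersection of any two distinct Sylow 2-subgroups is contained in the centre of some Sylow 2-subgroup, and let S be a Sylow 2-subgroup. If C is a nontrivial cyclic characteristic subgroup of S, then the involution of C is central modulo the largest normal subgroup of odd order of G: each of its conjugates has the same image in G/O(G). -/
theorem result {G : Type*} [Group G] [Finite G]
    (hCI : ∀ S T : Sylow 2 G, S ≠ T → ∃ U : Sylow 2 G,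
      (S : Subgroup G) ⊓ (T : Subgroup G) ≤ (Subgroup.center ↥(U : Subgroup G)).map (U : Subgroup G).subtype)
    (S : Sylow 2 G) (C : Subgroup ↥(S : Subgroup G)) (hC : C ≠ ⊥) (hCc : IsCyclic ↥C) (hCh : C.Characteristic)
    (c : ↥(S : Subgroup G)) (hc : c ∈ C) (hc2 : orderOf c = 2) :
    ∀ g : G, (QuotientGroup.mk (s := Cfsg.oddCore G) (g * (c : G) * g⁻¹)) =
      QuotientGroup.mk (s := Cfsg.oddCore G) (c : G) := by
  have hN := conj_eq_of_mem_normalizer S C hCc hCh c hc hc2
  have hiso := isolated_aux hCI S (c : G) c.2 hN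
  have hu : orderOf (c : G) = 2 := by rw [Subgroup.orderOf_coe]; exact hc2
  have hiso' : Cfsg.IsIsolated (c : G) := Cfsg.Agent.Helper18.ZS.isolated_of_sylow S hu c.2 hiso
  have hz := Cfsg.Agent.Helper18.ZS.zstar (c : G) ⟨hu, hiso'⟩
  intro g
  rw [QuotientGroup.eq]
  have hcc : (c : G) * (c : G) = 1 := by
    have := pow_orderOf_eq_one (c : G)
    rw [hu, pow_two] at this
    exact this
  have hinv : (c : G)⁻¹ = (c : G) := inv_eq_of_mul_eq_one_left hcc
  have e : (g * (c : G) * g⁻¹)⁻¹ * (c : G) = g * (c : G)⁻¹ * g⁻¹ * (c : G) := by group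
  rw [e]
  have h := hz g
  have e2 : g * (c : G)⁻¹ * g⁻¹ * (c : G) = g * (c : G) * g⁻¹ * (c : G)⁻¹ := by
    rw [hinv]
  rw [e2]
  exact h

end Cfsg.Agent.S3184
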