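import Cfsg.Statements.S3190
import Mathlib
import Cfsg.Agent.Lead.CoprimeAbelian
import Cfsg.Agent.Lead.CoprimeFrattini
import Cfsg.Agent.Helper23.PGroup
import Cfsg.Agent.Helper10.SylowSub

set_option autoImplicit false
open Cfsg

namespace Cfsg.Agent.S3190

/-- Let p be an odd prime and, inside a finite group, let P be a p-subgroup normalized by a Klein four-group T. Let R be a subgroup of P, normal in P and normalized by T, such that P is the product of R with the centralizer of T in P. If T centralizes the centre of P, then T centralizes the centre of R. -/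
theorem result {X : Type*} [Group X] [Finite X]
    {p : ℕ} (hp : p.Prime) (hodd : Odd p) (P T R : Subgroup X) (hP : IsPGroup p ↥P) (hT : IsKleinFour ↥T)
    (hTP : T ≤ Subgroup.normalizer (P : Set X)) (hRP : R ≤ P) (hRn : (R.subgroupOf P).Normal)
    (hTR : T ≤ Subgroup.normalizer (R : Set X)) (hfac : R ⊔ (P ⊓ Subgroup.centralizer (T : Set X)) = P)
    (hZ : T ≤ Subgroup.centralizer (((Subgroup.center ↥P).map P.subtype : Subgroup X) : Set X)) :
    T ≤ Subgroup.centralizer (((Subgroup.center ↥R).map R.subtype : Subgroup X) : Set X) := by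
  have : Fact p.Prime := ⟨hp⟩
  set W : Subgroup X := (Subgroup.center ↥R).map R.subtype with hW
  have hWR : W ≤ R := by
    rintro _ ⟨y, _, rfl⟩
    exact y.2
  have hWcomm : ∀ a ∈ W, ∀ r ∈ R, r * a = a * r := by
    rintro _ ⟨y, hy, rfl⟩ r hr
    have := Subgroup.mem_center_iff.mp hy ⟨r, hr⟩
    exact congrArg Subtype.val this
  haveI : IsMulCommutative W := by
    refine ⟨⟨?_⟩⟩
    rintro ⟨a, ha⟩ ⟨b, hb⟩
    apply Subtype.ext
    exact (hWcomm b hb a (hWR ha))
  -- normalizers
  have hNRW : Subgroup.normalizer (R : Set X) ≤ Subgroup.normalizer (W : Set X) :=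
    Cfsg.Agent.Lead.normalizer_le_normalizer_map_of_characteristic R (Subgroup.center ↥R)
  have hTW : T ≤ Subgroup.normalizer (W : Set X) := hTR.trans hNRW
  have hPR : P ≤ Subgroup.normalizer (R : Set X) :=
    (Subgroup.normal_subgroupOf_iff_le_normalizer hRP).mp hRn
  have hPW : P ≤ Subgroup.normalizer (W : Set X) := hPR.trans hNRW
  -- coprimality
  have hWp : IsPGroup p W := hP.to_le (hWR.trans hRP)
  have hcop : (Nat.card T).Coprime (Nat.card W) := by
    obtain ⟨k, hk⟩ := IsPGroup.iff_card.mp hWp
    rw [hk, IsKleinFour.card_four]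
    apply Nat.Coprime.pow_right
    have h2 : Nat.Coprime 2 p := by
      rw [Nat.coprime_primes Nat.prime_two hp]
      rintro rfl
      exact absurd hodd (by decide)
    exact (Nat.Coprime.pow_left 2 h2 : Nat.Coprime (2 ^ 2) p)
  have hinf := Cfsg.Agent.Lead.coprime_abelian_inf T W hTW hcop
  -- reduce to the commutator being trivial
  rw [← Subgroup.commutator_eq_bot_iff_le_centralizer, Subgroup.commutator_comm]
  by_contra hK
  set K : Subgroup X := ⁅W, T⁆ with hKdef
  have hKW : K ≤ W := Cfsg.Agent.Lead.commutator_le_of_le_normalizer hTW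
  have hKP : K ≤ P := hKW.trans (hWR.trans hRP)
  -- P normalizes K
  have hRK : R ≤ Subgroup.normalizer (K : Set X) := by
    intro r hr
    have hfix : ∀ k ∈ K, r * k * r⁻¹ = k := by
      intro k hk
      rw [hWcomm k (hKW hk) r hr]; group
    have hfix' : ∀ k ∈ K, r⁻¹ * k * r = k := by
      intro k hk
      have := hfix k hk
      calc r⁻¹ * k * r = r⁻¹ * (r * k * r⁻¹) * r := by rw [this]
        _ = k := by group
    rw [Subgroup.mem_normalizer_iff]
    intro h
    constructor
    · intro hh; rw [hfix h hh]; exact hh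
    · intro hh
      have := hfix' _ hh
      have e2 : r⁻¹ * (r * h * r⁻¹) * r = h := by group
      rw [e2] at this
      rw [this]; exact hh
  have hDK : P ⊓ Subgroup.centralizer (T : Set X) ≤ Subgroup.normalizer (K : Set X) := by
    intro d hd
    apply Cfsg.Agent.Helper10.mem_normalizer_of_map_conj_eq
    rw [hKdef, Subgroup.map_commutator,
      Cfsg.Agent.Helper10.map_conj_eq_of_mem_normalizer (hPW hd.1)]
    congr 1
    apply Cfsg.Agent.Helper10.map_conj_eq_of_mem_normalizer
    have : Subgroup.centralizer (T : Set X) ≤ Subgroup.normalizer (T : Set X) :=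
      Subgroup.centralizer_le_normalizer _
    exact this hd.2
  have hPK : P ≤ Subgroup.normalizer (K : Set X) := by
    rw [← hfac]
    exact sup_le hRK hDK
  haveI hKn : (K.subgroupOf P).Normal :=
    (Subgroup.normal_subgroupOf_iff_le_normalizer hKP).mpr hPK
  have hKne : K.subgroupOf P ≠ ⊥ := by
    intro h
    apply hK
    rw [eq_bot_iff]
    intro k hk
    have : (⟨k, hKP hk⟩ : P) ∈ K.subgroupOf P := Subgroup.mem_subgroupOf.mpr hk
    rw [h, Subgroup.mem_bot] at this
    rw [Subgroup.mem_bot]
    exact congrArg Subtype.val this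
  obtain ⟨b, hbK, hbZ, hb1⟩ := Cfsg.Agent.Helper23.exists_mem_inf_center_ne_one hP
    (K.subgroupOf P) hKne
  have hbK' : (b : X) ∈ K := Subgroup.mem_subgroupOf.mp hbK
  have hbC : (b : X) ∈ Subgroup.centralizer (T : Set X) := by
    rw [Subgroup.mem_centralizer_iff]
    intro t ht
    have h1 := hZ ht
    rw [Subgroup.mem_centralizer_iff] at h1
    have h2 := h1 (b : X) ⟨b, hbZ, rfl⟩
    exact h2.symm
  have hmem : (b : X) ∈ (W ⊓ Subgroup.centralizer (T : Set X)) ⊓ ⁅W, T⁆ :=
    ⟨⟨hKW hbK', hbC⟩, hbK'⟩
  rw [hinf, Subgroup.mem_bot] at hmem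
  exact hb1 (Subtype.ext hmem)

end Cfsg.Agent.S3190
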