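import Mathlib
import Cfsg.Statements.S3200
import Cfsg.Agent.Helper24.Burnside
import Cfsg.Agent.Lead.Hall
import Cfsg.Agent.Lead.Compl
import Cfsg.Agent.Lead.PiHallNormal

set_option autoImplicit false
open Cfsg

universe u

namespace Cfsg.Agent.S3200

/-- `G` has an abelian Hall 2'-subgroup -/
def HasAbHall (G : Type*) [Group G] : Prop :=
  ∃ C : Subgroup G, (∀ x ∈ C, ∀ y ∈ C, x * y = y * x) ∧ Odd (Nat.card ↥C) ∧
    ∃ k : ℕ, C.index = 2 ^ k

theorem hasAbHall_normal {G : Type*} [Group G] [Finite G] (N : Subgroup G) [N.Normal]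
    (h : HasAbHall G) : HasAbHall ↥N := by
  obtain ⟨C, hc, hodd, k, hk⟩ := h
  refine ⟨C.subgroupOf N, ?_, ?_, ?_⟩
  · intro x hx y hy
    rw [Subgroup.mem_subgroupOf] at hx hy
    exact Subtype.ext (hc _ hx _ hy)
  · have h1 : Nat.card ↥(C.subgroupOf N) = Nat.card ↥(C ⊓ N : Subgroup G) := by
      rw [← Subgroup.inf_subgroupOf_right]
      exact Nat.card_congr (Subgroup.subgroupOfEquivOfLe inf_le_right).toEquiv
    rw [h1]
    exact Odd.of_dvd_nat hodd (Subgroup.card_dvd_of_le inf_le_left)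
  · have h1 : (C.subgroupOf N).index = C.relIndex N := rfl
    have h2 : C.relIndex N ∣ C.index := by
      rw [← Cfsg.Agent.Lead.relIndex_sup_of_normal_right C N]
      exact Subgroup.relIndex_dvd_index_of_le le_sup_left
    rw [h1]; rw [hk] at h2
    obtain ⟨j, -, hj⟩ := (Nat.dvd_prime_pow Nat.prime_two).1 h2
    exact ⟨j, hj⟩

theorem hasAbHall_quotient {G : Type*} [Group G] [Finite G] (N : Subgroup G) [N.Normal]
    (h : HasAbHall G) : HasAbHall (G ⧸ N) := by
  obtain ⟨C, hc, hodd, k, hk⟩ := h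
  refine ⟨C.map (QuotientGroup.mk' N), ?_, ?_, ?_⟩
  · rintro _ ⟨x, hx, rfl⟩ _ ⟨y, hy, rfl⟩
    rw [← map_mul, ← map_mul, hc x hx y hy]
  · exact Odd.of_dvd_nat hodd (Subgroup.card_map_dvd C _)
  · have h2 := Subgroup.index_map_dvd C (QuotientGroup.mk'_surjective N)
    rw [hk] at h2
    obtain ⟨j, -, hj⟩ := (Nat.dvd_prime_pow Nat.prime_two).1 h2
    exact ⟨j, hj⟩

theorem solvable_aux : ∀ (n : ℕ) (G : Type u) [Group G] [Finite G], Nat.card G = n →
    HasAbHall G → Group.IsSolvable G := by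
  intro n
  induction n using Nat.strong_induction_on with
  | _ n ih =>
    intro G _ _ hcard hG
    by_cases htriv : Subsingleton G
    · infer_instance
    rw [not_subsingleton_iff_nontrivial] at htriv
    by_cases hsimple : IsSimpleGroup G
    · obtain ⟨C, hc, hodd, k, hk⟩ := hG
      by_cases hC : C = ⊥
      · have h2 : Nat.card G = 2 ^ k := by rw [← hk, hC, Subgroup.index_bot]
        have : Fact (Nat.Prime 2) := ⟨Nat.prime_two⟩
        have hG2 : IsPGroup 2 G := IsPGroup.of_card h2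
        have := hG2.isNilpotent
        infer_instance
      · obtain ⟨⟨g, hgC⟩, hg1'⟩ := (Subgroup.ne_bot_iff_exists_ne_one).1 hC
        have hg1 : g ≠ 1 := fun h => hg1' (Subtype.ext h)
        have hle : C ≤ Subgroup.centralizer ({(g : G)} : Set G) := by
          intro x hx
          rw [Subgroup.mem_centralizer_singleton_iff]
          exact hc x hx g hgC
        have hdvd := Subgroup.index_dvd_of_le hle
        rw [hk] at hdvd
        obtain ⟨j, -, hj⟩ := (Nat.dvd_prime_pow Nat.prime_two).1 hdvd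
        have hprime := Cfsg.Agent.Helper24.prime_card_of_prime_pow_class 2 j Nat.prime_two g
          hg1 hj
        have : Fact (Nat.card G).Prime := ⟨hprime⟩
        have := isCyclic_of_prime_card (α := G) (p := Nat.card G) rfl
        exact Group.isSolvable_of_comm (isMulCommutative_iff.mp IsCyclic.isMulCommutative)
    · obtain ⟨N, hN, hNbot, hNtop⟩ := Cfsg.Agent.Helper24.exists_normal_of_not_simple hsimple
      have hmul : Nat.card N * N.index = n := by rw [← hcard]; exact Subgroup.card_mul_index N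
      have hn0 : 0 < n := by rw [← hcard]; exact Nat.card_pos
      have hN1 : 1 < Nat.card N := by
        rw [Subgroup.one_lt_card_iff_ne_bot]; exact hNbot
      have hN2 : 1 < N.index := by
        have h0 : N.index ≠ 0 := Subgroup.index_ne_zero_of_finite
        have h1 : N.index ≠ 1 := fun h => hNtop (Subgroup.index_eq_one.mp h)
        omega
      have hlt1 : Nat.card N < n := by
        rw [← hmul]
        have : 0 < Nat.card N := Nat.card_pos
        nlinarith
      have hlt2 : N.index < n := by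
        rw [← hmul]
        have : 0 < N.index := by omega
        nlinarith
      have : Group.IsSolvable N := ih _ hlt1 N rfl (hasAbHall_normal N hG)
      have : Group.IsSolvable (G ⧸ N) := ih _ hlt2 (G ⧸ N) (Subgroup.index_eq_card N).symm
        (hasAbHall_quotient N hG)
      refine Group.isSolvable_of_ker_le_range N.subtype (QuotientGroup.mk' N) ?_
      rw [QuotientGroup.ker_mk', Subgroup.range_subtype]

theorem card_sylow_of_card_eq {G : Type*} [Group G] [Finite G] (T : Sylow 2 G) (c m : ℕ)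
    (hm : m.Coprime 2) (h : Nat.card G = 2 ^ c * m) : Nat.card ↥(T : Subgroup G) = 2 ^ c := by
  have : Fact (Nat.Prime 2) := ⟨Nat.prime_two⟩
  obtain ⟨t, ht⟩ := IsPGroup.iff_card.1 T.2
  have ht' : Nat.card ↥(T : Subgroup G) = 2 ^ t := ht
  have h2 := Subgroup.card_mul_index (T : Subgroup G)
  have h3 : ¬ 2 ∣ (T : Subgroup G).index := T.not_dvd_index
  have h3' : Nat.Coprime (2 ^ c) (T : Subgroup G).index :=
    Nat.Coprime.pow_left c ((Nat.Prime.coprime_iff_not_dvd Nat.prime_two).2 h3)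
  rw [ht', h] at h2
  have htc : t = c := by
    apply le_antisymm
    · have hd : 2 ^ t ∣ 2 ^ c * m := ⟨_, h2.symm⟩
      have hd2 : 2 ^ t ∣ 2 ^ c :=
        (Nat.Coprime.dvd_mul_right (Nat.Coprime.pow_left t hm.symm)).1 hd
      exact (Nat.pow_dvd_pow_iff_le_right (by norm_num)).1 hd2
    · have hd : 2 ^ c ∣ 2 ^ t * (T : Subgroup G).index := ⟨_, h2⟩
      have hd2 : 2 ^ c ∣ 2 ^ t := (Nat.Coprime.dvd_mul_right h3').1 hd
      exact (Nat.pow_dvd_pow_iff_le_right (by norm_num)).1 hd2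
  rw [ht', htc]

theorem hasAbHall_of_compl {G : Type*} [Group G] [Finite G] (S : Sylow 2 G) (C : Subgroup G)
    (hC : IsMulCommutative ↥C) (hSC : Subgroup.IsComplement' (S : Subgroup G) C) :
    (∀ x ∈ C, ∀ y ∈ C, x * y = y * x) ∧ Odd (Nat.card ↥C) ∧ ∃ k : ℕ, C.index = 2 ^ k := by
  have : Fact (Nat.Prime 2) := ⟨Nat.prime_two⟩
  have hmul := hSC.card_mul_card
  have h1 := Subgroup.card_mul_index (S : Subgroup G)
  have h2 := Subgroup.card_mul_index C
  have hSpos : 0 < Nat.card ↥(S : Subgroup G) := Nat.card_pos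
  have hCpos : 0 < Nat.card ↥C := Nat.card_pos
  have hCidx : Nat.card ↥C = (S : Subgroup G).index := by
    apply Nat.eq_of_mul_eq_mul_left hSpos
    rw [hmul, h1]
  have hidx : C.index = Nat.card ↥(S : Subgroup G) := by
    apply Nat.eq_of_mul_eq_mul_left hCpos
    rw [h2, ← hmul, mul_comm]
  refine ⟨?_, ?_, ?_⟩
  · intro x hx y hy
    obtain ⟨⟨hcomm⟩⟩ := hC
    simpa using congrArg Subtype.val (hcomm ⟨x, hx⟩ ⟨y, hy⟩)
  · rw [hCidx, ← Nat.not_even_iff_odd, even_iff_two_dvd]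
    exact S.not_dvd_index
  · obtain ⟨t, ht⟩ := IsPGroup.iff_card.1 S.2
    exact ⟨t, by rw [hidx]; exact ht⟩

theorem isMulCommutative_of_forall {G : Type*} [Group G] (D : Subgroup G)
    (h : ∀ x ∈ D, ∀ y ∈ D, x * y = y * x) : IsMulCommutative ↥D :=
  ⟨⟨fun a b => Subtype.ext (h a a.2 b b.2)⟩⟩

theorem subgroup_part {H : Type u} [Group H] [Finite H] [Group.IsSolvable H]
    (C : Subgroup H) (hc : ∀ x ∈ C, ∀ y ∈ C, x * y = y * x) (hodd : Odd (Nat.card ↥C))
    (k : ℕ) (hk : C.index = 2 ^ k) (L : Subgroup H) :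
    ∃ (P : Sylow 2 ↥L) (D : Subgroup ↥L), IsMulCommutative ↥D ∧
      Subgroup.IsComplement' (P : Subgroup ↥L) D := by
  classical
  have : Fact (Nat.Prime 2) := ⟨Nat.prime_two⟩
  have : Group.IsSolvable ↥L := Cfsg.Agent.Lead.isSolvable_subgroup L
  obtain ⟨P⟩ : Nonempty (Sylow 2 ↥L) := inferInstance
  obtain ⟨j, hj⟩ := IsPGroup.iff_card.1 P.2
  have hj' : Nat.card ↥(P : Subgroup ↥L) = 2 ^ j := hj
  have hPidx : ¬ 2 ∣ (P : Subgroup ↥L).index := P.not_dvd_index
  have hcop : ((P : Subgroup ↥L).index).Coprime (2 ^ j) :=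
    Nat.Coprime.pow_right j ((Nat.Prime.coprime_iff_not_dvd Nat.prime_two).2 hPidx).symm
  have hLcard : Nat.card ↥L = (P : Subgroup ↥L).index * 2 ^ j := by
    rw [← hj', mul_comm]; exact (Subgroup.card_mul_index _).symm
  obtain ⟨D₀, hD₀card, -⟩ := Cfsg.Agent.Lead.hall_exists_ge_aux (Nat.card ↥L) rfl
    ((P : Subgroup ↥L).index) (2 ^ j) hLcard hcop (⊥ : Subgroup ↥L) (by simp)
  -- D₀ is abelian
  have hDcard : Nat.card ↥(D₀.map L.subtype) = (P : Subgroup ↥L).index := by
    rw [← hD₀card]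
    exact Nat.card_congr (D₀.equivMapOfInjective _ L.subtype_injective).symm.toEquiv
  have hCodd2 : (Nat.card ↥C).Coprime (2 ^ k) :=
    Nat.Coprime.pow_right k (Nat.coprime_two_right.2 hodd)
  have hHcard : Nat.card H = Nat.card ↥C * 2 ^ k := by
    rw [← hk]; exact (Subgroup.card_mul_index C).symm
  obtain ⟨C', hC'card, hDC'⟩ := Cfsg.Agent.Lead.hall_exists_ge_aux (Nat.card H) rfl
    (Nat.card ↥C) (2 ^ k) hHcard hCodd2 (D₀.map L.subtype) (by
      rw [hDcard]
      exact Nat.Coprime.pow_right k ((Nat.Prime.coprime_iff_not_dvd Nat.prime_two).2 hPidx).symm)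
  obtain ⟨g, hg⟩ := Cfsg.Agent.Lead.hall_conj_aux (Nat.card H) rfl (Nat.card ↥C) (2 ^ k) hHcard
    hCodd2 C C' rfl hC'card
  have hC'comm : ∀ x ∈ C', ∀ y ∈ C', x * y = y * x := by
    intro x hx y hy
    rw [← hg] at hx hy
    obtain ⟨x', hx', rfl⟩ := hx
    obtain ⟨y', hy', rfl⟩ := hy
    have := hc x' hx' y' hy'
    show (MulAut.conj g) x' * (MulAut.conj g) y' = (MulAut.conj g) y' * (MulAut.conj g) x'
    rw [← map_mul, ← map_mul, this]
  have hD₀comm : ∀ x ∈ D₀, ∀ y ∈ D₀, x * y = y * x := by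
    intro x hx y hy
    have h1 := hC'comm _ (hDC' ⟨x, hx, rfl⟩) _ (hDC' ⟨y, hy, rfl⟩)
    exact Subtype.ext (by simpa using h1)
  refine ⟨P, D₀, isMulCommutative_of_forall D₀ hD₀comm, ?_⟩
  apply Subgroup.isComplement'_of_coprime
  · rw [hj', hD₀card, hLcard, mul_comm]
  · rw [hj', hD₀card]; exact hcop.symm

theorem result {H : Type*} [Group H] [Finite H]
    (S : Sylow 2 H) (C : Subgroup H) (hC : IsMulCommutative ↥C) (hSC : Subgroup.IsComplement' (S : Subgroup H) C) :
    Group.IsSolvable H ∧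
    (∀ L : Subgroup H, ∃ (P : Sylow 2 ↥L) (D : Subgroup ↥L), IsMulCommutative ↥D ∧ Subgroup.IsComplement' (P : Subgroup ↥L) D) ∧
    (∀ (N : Subgroup H) [N.Normal], ∃ (P : Sylow 2 (H ⧸ N)) (D : Subgroup (H ⧸ N)),
      IsMulCommutative ↥D ∧ Subgroup.IsComplement' (P : Subgroup (H ⧸ N)) D) := by
  classical
  have : Fact (Nat.Prime 2) := ⟨Nat.prime_two⟩
  obtain ⟨hc, hodd, k, hk⟩ := hasAbHall_of_compl S C hC hSC
  have hsol : Group.IsSolvable H := solvable_aux _ H rfl ⟨C, hc, hodd, k, hk⟩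
  refine ⟨hsol, fun L => subgroup_part C hc hodd k hk L, ?_⟩
  intro N _
  refine ⟨S.mapSurjective (QuotientGroup.mk'_surjective N), C.map (QuotientGroup.mk' N), ?_, ?_⟩
  · apply isMulCommutative_of_forall
    rintro _ ⟨x, hx, rfl⟩ _ ⟨y, hy, rfl⟩
    rw [← map_mul, ← map_mul, hc x hx y hy]
  · rw [Sylow.coe_mapSurjective]
    obtain ⟨t, ht⟩ := IsPGroup.iff_card.1 S.2
    have ht' : Nat.card ↥(S : Subgroup H) = 2 ^ t := ht
    apply Cfsg.Agent.Lead.isComplement'_map_of_coprime hSC _ _ (QuotientGroup.mk'_surjective N)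
    rw [ht']
    exact Nat.Coprime.pow_left t (Nat.coprime_two_left.2 hodd)

end Cfsg.Agent.S3200
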