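import Cfsg.Statements.S3201
import Mathlib
import Cfsg.Agent.Helper20.QuatQuotC

set_option autoImplicit false
open Cfsg

namespace Cfsg.Agent.S3201

open Cfsg.Agent.Helper20 QuaternionGroup in
/-- Let S be a finite 2-group whose centre Z(S) has n ≥ 2 distinct maximal subgroups C₁, …, Cₙ with trivial intersection such that each quotient S/Cᵢ is a non-abelian group with exactly one involution (a generalized quaternion group). Then S is the internal direct product of an elementary abelian subgroup and a non-abelian subgroup with exactly one involution. -/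
theorem result {S : Type*} [Group S] [Finite S]
    (hS : IsPGroup 2 S) (n : ℕ) (hn : 2 ≤ n) (C : Fin n → Subgroup ↥(Subgroup.center S))
    (hCmax : ∀ i, IsCoatom (C i)) (hCinj : Function.Injective C) (hCint : ⨅ i, C i = ⊥)
    (hCq : ∀ i, ∃ (_ : ((C i).map (Subgroup.center S).subtype).Normal),
      ¬ IsMulCommutative (S ⧸ (C i).map (Subgroup.center S).subtype) ∧
      ∃! x : S ⧸ (C i).map (Subgroup.center S).subtype, orderOf x = 2) :
    ∃ E Q : Subgroup S, Cfsg.IsInternalDirectProduct E Q ⊤ ∧ Cfsg.IsElementaryAbelian 2 E ∧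
      ¬ IsMulCommutative ↥Q ∧ ∃! x : ↥Q, orderOf x = 2 := by
  classical
  haveI : Fact (Nat.Prime 2) := ⟨Nat.prime_two⟩
  have hZp : IsPGroup 2 ↥(Subgroup.center S) := hS.to_subgroup _
  have hidx : ∀ i, (C i).index = 2 := fun i =>
    Cfsg.Agent.Helper1.IsPGroup.coatom_index hZp (hCmax i)
  have hel : ∀ a : ↥(Subgroup.center S), a ^ 2 = 1 := by
    intro a
    have : a ^ 2 ∈ ⨅ i, C i := Subgroup.mem_iInf.2 fun i =>
      Cfsg.Agent.Helper1.IsPGroup.pow_mem_coatom hZp (hCmax i) a
    rw [hCint] at this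
    exact Subgroup.mem_bot.1 this
  have hF3 : ∀ i (g : S), g ^ 2 ∈ (C i).map (Subgroup.center S).subtype →
      g ∈ Subgroup.center S := by
    intro i g hg
    obtain ⟨hN, _, hu⟩ := hCq i
    exact mem_center_of_sq_mem (C i) (hCmax i).1 hel hu g hg
  let i₀ : Fin n := ⟨0, by omega⟩
  obtain ⟨hN, hnc, hu⟩ := hCq i₀
  have hNZ : (C i₀).map (Subgroup.center S).subtype ≤ Subgroup.center S :=
    map_center_subtype_le _
  obtain ⟨k, hk, ⟨e⟩⟩ := exists_quat_iso (hS.to_quotient ((C i₀).map (Subgroup.center S).subtype))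
    hnc hu
  haveI : NeZero (2 ^ k) := ⟨by positivity⟩
  have hφs : Function.Surjective (e.toMonoidHom.comp
      (QuotientGroup.mk' ((C i₀).map (Subgroup.center S).subtype))) :=
    e.surjective.comp (QuotientGroup.mk'_surjective _)
  have hker : (e.toMonoidHom.comp
      (QuotientGroup.mk' ((C i₀).map (Subgroup.center S).subtype))).ker =
      (C i₀).map (Subgroup.center S).subtype := by
    ext g
    rw [MonoidHom.mem_ker, MonoidHom.comp_apply]
    constructor
    · intro hg
      have : (QuotientGroup.mk' ((C i₀).map (Subgroup.center S).subtype)) g = 1 :=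
        e.injective (by rw [map_one]; exact hg)
      exact (QuotientGroup.eq_one_iff g).1 this
    · intro hg
      have : (QuotientGroup.mk' ((C i₀).map (Subgroup.center S).subtype)) g = 1 :=
        (QuotientGroup.eq_one_iff g).2 hg
      rw [this]; exact map_one _
  obtain ⟨x, hx⟩ := hφs (a 1)
  obtain ⟨y, hy⟩ := hφs (xa 0)
  have hkm : 2 ^ k = 2 * 2 ^ (k - 1) := by
    obtain ⟨j, rfl⟩ : ∃ j, k = j + 1 := ⟨k - 1, by omega⟩
    rw [pow_succ, Nat.add_sub_cancel, mul_comm]
  obtain ⟨hX, hY, hYX⟩ := quat_rel_of_coatoms _ C hidx hCint hel hF3 i₀ hker hφs (2 ^ (k - 1))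
    hkm (Nat.one_le_two_pow) x y hx hy
  obtain ⟨ψ, hsec⟩ := exists_section_of_rel _ x y hx hy hX hY hYX
  obtain ⟨h1, h2, ⟨E⟩⟩ := split_of_section _ ψ hsec
  rw [hker] at h1 h2
  refine ⟨(C i₀).map (Subgroup.center S).subtype, ψ.range, ⟨le_top, le_top, ?_, ?_, ?_⟩,
    ⟨?_, ?_⟩, ?_, ?_⟩
  · intro a ha b _
    exact (Subgroup.mem_center_iff.1 (hNZ ha) b).symm
  · rw [inf_comm]; exact h1
  · rw [eq_top_iff]
    intro g _
    obtain ⟨q, hq, c, hc, rfl⟩ := h2 g
    exact Subgroup.mul_mem _ (Subgroup.mem_sup_left hc) (Subgroup.mem_sup_right hq)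
  · refine ⟨⟨fun a b => ?_⟩⟩
    apply Subtype.ext
    exact (Subgroup.mem_center_iff.1 (hNZ a.2) b).symm
  · intro a ha
    have := hel ⟨a, hNZ ha⟩
    exact congrArg Subtype.val this
  · intro hcomm
    apply hnc
    exact isMulCommutative_of_equiv (e.trans E)
  · exact existsUnique_orderOf_of_equiv (E.symm.trans e.symm) 2 hu

end Cfsg.Agent.S3201
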