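import Cfsg.Statements.S3202
import Mathlib
import Cfsg.Agent.Helper20.QuatQuotA

set_option autoImplicit false
open Cfsg

namespace Cfsg.Agent.S3202

/-- Let S be a finite 2-group of 2-rank exactly 2 and D a maximal subgroup of the centre of S such that S/D is a non-abelian group with exactly one involution (a generalized quaternion group). Then S has a nontrivial cyclic characteristic subgroup. -/
theorem result {S : Type*} [Group S]
    [Finite S] (hS : IsPGroup 2 S) (hr2 : Cfsg.PRankLE 2 2 S) (hr1 : ¬ Cfsg.PRankLE 2 1 S)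
    (D : Subgroup ↥(Subgroup.center S)) (hD : IsCoatom D)
    (hq : ∃ (_ : (D.map (Subgroup.center S).subtype).Normal),
      ¬ IsMulCommutative (S ⧸ D.map (Subgroup.center S).subtype) ∧
      ∃! x : S ⧸ D.map (Subgroup.center S).subtype, orderOf x = 2) :
    ∃ C : Subgroup S, C ≠ ⊥ ∧ IsCyclic ↥C ∧ C.Characteristic := by
  obtain ⟨hN, hnc, hu⟩ := hq
  have hNle : D.map (Subgroup.center S).subtype ≤ Subgroup.center S := by
    rintro _ ⟨z, _, rfl⟩
    exact z.2
  obtain ⟨h1, h2⟩ := Cfsg.Agent.Helper20.commutator_cyclic_of_quat_quotient hS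
    (D.map (Subgroup.center S).subtype) hNle hnc hu
  exact ⟨commutator S, h1, h2, Subgroup.commutator_characteristic _ _⟩

end Cfsg.Agent.S3202
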