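import Mathlib
import Cfsg.Statements.S3203
import Cfsg.Agent.Helper16.KleinSylow
import Cfsg.Agent.Helper10.SylowSub

set_option autoImplicit false
open Cfsg
open Pointwise

namespace Cfsg.Agent.S3203

variable {G : Type*} [Group G]

theorem ea_iff {A : Subgroup G} :
    IsElementaryAbelian 2 A ↔ (∀ a ∈ A, ∀ b ∈ A, a * b = b * a) ∧ ∀ a ∈ A, a ^ 2 = 1 := by
  constructor
  · intro h
    refine ⟨fun a ha b hb => ?_, h.2⟩
    obtain ⟨⟨⟨hc⟩⟩, -⟩ := h
    simpa using congrArg Subtype.val (hc ⟨a, ha⟩ ⟨b, hb⟩)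
  · rintro ⟨hc, hp⟩
    refine ⟨⟨⟨?_⟩⟩, hp⟩
    rintro ⟨a, ha⟩ ⟨b, hb⟩
    exact Subtype.ext (hc a ha b hb)

theorem mem_cj {g x : G} {H : Subgroup G} : x ∈ MulAut.conj g • H ↔ g⁻¹ * x * g ∈ H := by
  rw [Subgroup.mem_pointwise_smul_iff_inv_smul_mem]
  simp [MulAut.smul_def]

theorem card_cj (g : G) (H : Subgroup G) :
    Nat.card (MulAut.conj g • H : Subgroup G) = Nat.card H :=
  (Nat.card_congr (Subgroup.equivSMul _ H).toEquiv).symm

theorem cj_inv_cj (g : G) (H : Subgroup G) : MulAut.conj g⁻¹ • (MulAut.conj g • H) = H := by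
  rw [← mul_smul, ← map_mul, inv_mul_cancel, map_one, one_smul]

theorem cj_cj_inv (g : G) (H : Subgroup G) : MulAut.conj g • (MulAut.conj g⁻¹ • H) = H := by
  rw [← mul_smul, ← map_mul, mul_inv_cancel, map_one, one_smul]

theorem ea_cj {A : Subgroup G} (hA : IsElementaryAbelian 2 A) (g : G) :
    IsElementaryAbelian 2 (MulAut.conj g • A) := by
  rw [ea_iff] at hA ⊢
  constructor
  · intro a ha b hb
    rw [mem_cj] at ha hb
    have := hA.1 _ ha _ hb
    have h2 : g⁻¹ * (a * b) * g = g⁻¹ * (b * a) * g := by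
      calc g⁻¹ * (a * b) * g = (g⁻¹ * a * g) * (g⁻¹ * b * g) := by group
        _ = (g⁻¹ * b * g) * (g⁻¹ * a * g) := this
        _ = g⁻¹ * (b * a) * g := by group
    exact mul_left_cancel (mul_right_cancel h2)
  · intro a ha
    rw [mem_cj] at ha
    have := hA.2 _ ha
    have h2 : g⁻¹ * a ^ 2 * g = 1 := by
      rw [← this, pow_two, pow_two]; group
    have : a ^ 2 = g * 1 * g⁻¹ := by rw [← h2]; group
    simpa using this

theorem step1 [Finite G] (S A B : Subgroup G) (hAS : A ≤ S) (hBS : B ≤ S) (hne : A ≠ B)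
    (hA : IsElementaryAbelian 2 A) (hB : IsElementaryAbelian 2 B)
    (hmaxA : ∀ C : Subgroup G, C ≤ S → IsElementaryAbelian 2 C → A ≤ C → C = A)
    (honly : ∀ C : Subgroup G, C ≤ S → IsElementaryAbelian 2 C → C ≤ A ∨ C ≤ B)
    (hprod : ∀ s ∈ S, ∃ b ∈ B, ∃ a ∈ A, s = b * a) :
    ∀ s ∈ S, MulAut.conj s • A = A := by
  intro s hs
  have hXS : MulAut.conj s • A ≤ S := by
    calc MulAut.conj s • A ≤ MulAut.conj s • S :=
          Subgroup.pointwise_smul_le_pointwise_smul_iff.2 hAS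
      _ = S := Subgroup.conj_smul_eq_self_of_mem hs
  rcases honly _ hXS (ea_cj hA s) with h | h
  · exact Subgroup.eq_of_le_of_card_ge h (by rw [card_cj])
  · exfalso
    obtain ⟨b, hb, a, ha, rfl⟩ := hprod s hs
    rw [map_mul, mul_smul, Subgroup.conj_smul_eq_self_of_mem ha] at h
    have : A ≤ B := by
      have h2 : MulAut.conj b • A ≤ MulAut.conj b • B := by
        rwa [Subgroup.conj_smul_eq_self_of_mem hb]
      exact Subgroup.pointwise_smul_le_pointwise_smul_iff.1 h2
    exact hne (hmaxA B hBS hB this).symm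

theorem step2 [Finite G] (S : Sylow 2 G) (A B : Subgroup G) (hAS : A ≤ S) (hBS : B ≤ S)
    (hne : A ≠ B)
    (hA : IsElementaryAbelian 2 A) (hB : IsElementaryAbelian 2 B)
    (hmaxA : ∀ C : Subgroup G, C ≤ S → IsElementaryAbelian 2 C → A ≤ C → C = A)
    (honly : ∀ C : Subgroup G, C ≤ S → IsElementaryAbelian 2 C → C ≤ A ∨ C ≤ B)
    (hS1 : ∀ s ∈ (S : Subgroup G), MulAut.conj s • A = A) :
    ∀ g ∈ Subgroup.normalizer ((S : Subgroup G) : Set G), MulAut.conj g • A = A := by
  intro g hg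
  by_contra hcon
  have hgS : MulAut.conj g • (S : Subgroup G) = S :=
    Cfsg.Agent.Helper10.map_conj_eq_of_mem_normalizer hg
  have hginvS : MulAut.conj g⁻¹ • (S : Subgroup G) = S :=
    Cfsg.Agent.Helper10.map_conj_eq_of_mem_normalizer (inv_mem hg)
  have hle : ∀ (h : G) (C : Subgroup G), MulAut.conj h • (S : Subgroup G) = S → C ≤ S →
      MulAut.conj h • C ≤ S := by
    intro h C hh hC
    calc MulAut.conj h • C ≤ MulAut.conj h • (S : Subgroup G) :=
          Subgroup.pointwise_smul_le_pointwise_smul_iff.2 hC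
      _ = S := hh
  have hXB : MulAut.conj g • A ≤ B := by
    rcases honly _ (hle g A hgS hAS) (ea_cj hA g) with h | h
    · exact absurd (Subgroup.eq_of_le_of_card_ge h (by rw [card_cj])) hcon
    · exact h
  have hXeqB : MulAut.conj g • A = B := by
    have h1 : A ≤ MulAut.conj g⁻¹ • B := by
      have := (Subgroup.pointwise_smul_le_pointwise_smul_iff (a := MulAut.conj g⁻¹)).2 hXB
      rwa [cj_inv_cj] at this
    have h3 := hmaxA _ (hle g⁻¹ B hginvS hBS) (ea_cj hB g⁻¹) h1
    rw [← h3, cj_cj_inv]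
  have hYeqA : MulAut.conj g • B = A := by
    rcases honly _ (hle g B hgS hBS) (ea_cj hB g) with h | h
    · exact Subgroup.eq_of_le_of_card_ge h (by rw [card_cj, ← hXeqB, card_cj])
    · exfalso
      have h5 : MulAut.conj g • B = B := Subgroup.eq_of_le_of_card_ge h (by rw [card_cj])
      have h6 : MulAut.conj g • A = MulAut.conj g • B := by rw [hXeqB, h5]
      exact hne (smul_left_cancel _ h6)
  have hodd : ∀ j : ℕ, MulAut.conj (g ^ (2 * j + 1)) • A = B := by
    intro j
    induction j with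
    | zero => simpa using hXeqB
    | succ j ih =>
      have : g ^ (2 * (j + 1) + 1) = g * g * g ^ (2 * j + 1) := by
        rw [← pow_two, ← pow_add]; congr 1; ring
      rw [this, map_mul, map_mul, mul_smul, mul_smul, ih, hYeqA, hXeqB]
  obtain ⟨k, m, hm, hkm⟩ := Nat.exists_eq_two_pow_mul_odd (orderOf_pos g).ne'
  obtain ⟨j, rfl⟩ := hm
  have hmem : g ^ (2 * j + 1) ∈ (S : Subgroup G) :=
    Cfsg.Agent.Helper16.two_elt_normalizer_mem S _ (pow_mem hg _) k
      (by rw [← pow_mul, mul_comm, ← hkm, pow_orderOf_eq_one])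
  have := hS1 _ hmem
  rw [hodd j] at this
  exact hne this.symm

theorem step3 [Finite G] (S : Sylow 2 G) (A B : Subgroup G) (hBS : B ≤ S)
    (hne : A ≠ B)
    (hA : IsElementaryAbelian 2 A) (hB : IsElementaryAbelian 2 B)
    (hmaxA : ∀ C : Subgroup G, C ≤ S → IsElementaryAbelian 2 C → A ≤ C → C = A)
    (honly : ∀ C : Subgroup G, C ≤ S → IsElementaryAbelian 2 C → C ≤ A ∨ C ≤ B)
    (hS1A : ∀ s ∈ (S : Subgroup G), MulAut.conj s • A = A)
    (hS1B : ∀ s ∈ (S : Subgroup G), MulAut.conj s • B = B)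
    (hN : ∀ g ∈ Subgroup.normalizer ((S : Subgroup G) : Set G), MulAut.conj g • A = A) :
    ∀ g : G, MulAut.conj g • A ≤ S → MulAut.conj g • A = A := by
  intro g hXS
  by_contra hcon
  have hXB : MulAut.conj g • A ≤ B := by
    rcases honly _ hXS (ea_cj hA g) with h | h
    · exact absurd (Subgroup.eq_of_le_of_card_ge h (by rw [card_cj])) hcon
    · exact h
  have hBc := (ea_iff.1 hB).1
  have hTN : ((g • S : Sylow 2 G) : Subgroup G) ≤
      Subgroup.normalizer ((MulAut.conj g • A : Subgroup G) : Set G) := by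
    intro t ht
    rw [Sylow.coe_subgroup_smul, mem_cj] at ht
    apply Cfsg.Agent.Helper10.mem_normalizer_of_map_conj_eq
    show MulAut.conj t • (MulAut.conj g • A) = MulAut.conj g • A
    have h1 := hS1A _ ht
    have e : t * g = g * (g⁻¹ * t * g) := by group
    rw [← mul_smul, ← map_mul, e, map_mul, mul_smul, h1]
  have hBN : B ≤ Subgroup.normalizer ((MulAut.conj g • A : Subgroup G) : Set G) := by
    intro b hb
    apply Cfsg.Agent.Helper10.mem_normalizer_of_map_conj_eq
    show MulAut.conj b • (MulAut.conj g • A) = MulAut.conj g • A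
    ext x
    rw [mem_cj]
    constructor
    · intro hx
      have hxB := hXB hx
      have h1 := hBc _ hb _ hxB
      have : x = b⁻¹ * x * b := by
        calc x = b * (b⁻¹ * x * b) * b⁻¹ := by group
          _ = (b⁻¹ * x * b) * b * b⁻¹ := by rw [h1]
          _ = b⁻¹ * x * b := by group
      rw [this]; exact hx
    · intro hx
      have hxB := hXB hx
      have h1 := hBc _ hb _ hxB
      have : b⁻¹ * x * b = x := by
        calc b⁻¹ * x * b = b⁻¹ * (x * b) := by group
          _ = b⁻¹ * (b * x) := by rw [h1]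
          _ = x := by group
      rw [this]; exact hx
  have hB2 : IsPGroup 2 ↥B := S.2.to_le hBS
  obtain ⟨n, hn, hnB⟩ := Cfsg.Agent.Helper10.exists_conj_le_sylow_of_le (g • S)
    (Subgroup.normalizer ((MulAut.conj g • A : Subgroup G) : Set G)) B hTN hB2 hBN
  have hYS : MulAut.conj (g⁻¹ * n) • B ≤ S := by
    intro y hy
    rw [mem_cj] at hy
    have h1 := hnB _ hy
    rw [Sylow.coe_subgroup_smul, mem_cj] at h1
    convert h1 using 1; group
  have hnX : MulAut.conj n • (MulAut.conj g • A) = MulAut.conj g • A :=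
    Cfsg.Agent.Helper10.map_conj_eq_of_mem_normalizer hn
  have hAY : A ≤ MulAut.conj (g⁻¹ * n) • B := by
    have h1 : A = MulAut.conj (g⁻¹ * n) • (MulAut.conj g • A) := by
      rw [map_mul, mul_smul, hnX, cj_inv_cj]
    calc A = MulAut.conj (g⁻¹ * n) • (MulAut.conj g • A) := h1
      _ ≤ MulAut.conj (g⁻¹ * n) • B := Subgroup.pointwise_smul_le_pointwise_smul_iff.2 hXB
  have hYA := hmaxA _ hYS (ea_cj hB _) hAY
  have hXeqB : MulAut.conj g • A = B :=
    Subgroup.eq_of_le_of_card_ge hXB (by rw [card_cj, ← hYA, card_cj])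
  have hSNB : (S : Subgroup G) ≤ Subgroup.normalizer (B : Set G) := fun s hs =>
    Cfsg.Agent.Helper10.mem_normalizer_of_map_conj_eq (hS1B s hs)
  have hTNB : ((g • S : Sylow 2 G) : Subgroup G) ≤ Subgroup.normalizer (B : Set G) := by
    rw [← hXeqB]; exact hTN
  obtain ⟨c, hc, hcS⟩ := Cfsg.Agent.Helper10.exists_conj_eq_sylow_of_le S (g • S)
    (Subgroup.normalizer (B : Set G)) hSNB hTNB
  have hk : c * g ∈ Subgroup.normalizer ((S : Subgroup G) : Set G) := by
    apply Cfsg.Agent.Helper10.mem_normalizer_of_map_conj_eq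
    show MulAut.conj (c * g) • (S : Subgroup G) = S
    rw [map_mul, mul_smul]
    rw [Sylow.coe_subgroup_smul] at hcS
    exact hcS
  have h7 := hN _ hk
  rw [map_mul, mul_smul, hXeqB] at h7
  have h8 : MulAut.conj c • B = B := Cfsg.Agent.Helper10.map_conj_eq_of_mem_normalizer hc
  rw [h8] at h7
  exact hne h7.symm

theorem main_G [Finite G] (S : Sylow 2 G) (A B : Subgroup G) (hAS : A ≤ S) (hBS : B ≤ S)
    (hne : A ≠ B)
    (hA : IsElementaryAbelian 2 A) (hB : IsElementaryAbelian 2 B)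
    (hmaxA : ∀ C : Subgroup G, C ≤ S → IsElementaryAbelian 2 C → A ≤ C → C = A)
    (hmaxB : ∀ C : Subgroup G, C ≤ S → IsElementaryAbelian 2 C → B ≤ C → C = B)
    (honly : ∀ C : Subgroup G, C ≤ S → IsElementaryAbelian 2 C → C ≤ A ∨ C ≤ B)
    (hprod : ∀ s ∈ (S : Subgroup G), ∃ a ∈ A, ∃ b ∈ B, s = a * b) :
    IsWeaklyClosed A (S : Subgroup G) ∧ IsWeaklyClosed B (S : Subgroup G) ∧
      Subgroup.normalizer ((S : Subgroup G) : Set G) ≤
        Subgroup.normalizer (A : Set G) ⊓ Subgroup.normalizer (B : Set G) := by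
  have hprod' : ∀ s ∈ (S : Subgroup G), ∃ b ∈ B, ∃ a ∈ A, s = b * a := by
    intro s hs
    obtain ⟨a, ha, b, hb, hab⟩ := hprod s⁻¹ (inv_mem hs)
    refine ⟨b⁻¹, inv_mem hb, a⁻¹, inv_mem ha, ?_⟩
    rw [← mul_inv_rev, ← hab, inv_inv]
  have honly' : ∀ C : Subgroup G, C ≤ S → IsElementaryAbelian 2 C → C ≤ B ∨ C ≤ A :=
    fun C h1 h2 => (honly C h1 h2).symm
  have h1A := step1 (S : Subgroup G) A B hAS hBS hne hA hB hmaxA honly hprod'
  have h1B := step1 (S : Subgroup G) B A hBS hAS hne.symm hB hA hmaxB honly' hprod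
  have h2A := step2 S A B hAS hBS hne hA hB hmaxA honly h1A
  have h2B := step2 S B A hBS hAS hne.symm hB hA hmaxB honly' h1B
  have h3A := step3 S A B hBS hne hA hB hmaxA honly h1A h1B h2A
  have h3B := step3 S B A hAS hne.symm hB hA hmaxB honly' h1B h1A h2B
  refine ⟨⟨hAS, fun g h => h3A g h⟩, ⟨hBS, fun g h => h3B g h⟩, ?_⟩
  intro g hg
  exact Subgroup.mem_inf.2 ⟨Cfsg.Agent.Helper10.mem_normalizer_of_map_conj_eq (h2A g hg),
    Cfsg.Agent.Helper10.mem_normalizer_of_map_conj_eq (h2B g hg)⟩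

/-- transport of elementary abelian along the inclusion of a subgroup -/
theorem ea_map_subtype {H : Subgroup G} {A : Subgroup ↥H} (hA : IsElementaryAbelian 2 A) :
    IsElementaryAbelian 2 (A.map H.subtype) := by
  rw [ea_iff] at hA ⊢
  constructor
  · rintro _ ⟨a, ha, rfl⟩ _ ⟨b, hb, rfl⟩
    have := hA.1 a ha b hb
    simpa using congrArg Subtype.val this
  · rintro _ ⟨a, ha, rfl⟩
    have := hA.2 a ha
    simpa using congrArg Subtype.val this

theorem ea_subgroupOf {H C : Subgroup G} (hC : IsElementaryAbelian 2 C) :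
    IsElementaryAbelian 2 (C.subgroupOf H) := by
  rw [ea_iff] at hC ⊢
  constructor
  · intro a ha b hb
    rw [Subgroup.mem_subgroupOf] at ha hb
    exact Subtype.ext (by simpa using hC.1 _ ha _ hb)
  · intro a ha
    rw [Subgroup.mem_subgroupOf] at ha
    exact Subtype.ext (by simpa using hC.2 _ ha)

theorem result {G : Type*} [Group G] [Finite G] (S : Sylow 2 G)
    (A B : Subgroup ↥(S : Subgroup G)) (hAB : A ≠ B)
    (hA : Cfsg.IsElementaryAbelian 2 A ∧ ∀ C : Subgroup ↥(S : Subgroup G), Cfsg.IsElementaryAbelian 2 C → A ≤ C → C = A)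
    (hB : Cfsg.IsElementaryAbelian 2 B ∧ ∀ C : Subgroup ↥(S : Subgroup G), Cfsg.IsElementaryAbelian 2 C → B ≤ C → C = B)
    (honly : ∀ C : Subgroup ↥(S : Subgroup G), Cfsg.IsElementaryAbelian 2 C →
      (∀ D : Subgroup ↥(S : Subgroup G), Cfsg.IsElementaryAbelian 2 D → C ≤ D → D = C) → C = A ∨ C = B)
    (hprod : ∀ s : ↥(S : Subgroup G), ∃ a ∈ A, ∃ b ∈ B, a * b = s)
    (A' B' : Subgroup G) (hA' : A' = A.map (S : Subgroup G).subtype) (hB' : B' = B.map (S : Subgroup G).subtype) :
    Cfsg.IsWeaklyClosed A' (S : Subgroup G) ∧ Cfsg.IsWeaklyClosed B' (S : Subgroup G) ∧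
      Subgroup.normalizer ((S : Subgroup G) : Set G) ≤ Subgroup.normalizer (A' : Set G) ⊓ Subgroup.normalizer (B' : Set G) := by
  subst hA' hB'
  have hinj : Function.Injective (Subgroup.map (S : Subgroup G).subtype) :=
    Subgroup.map_injective (S : Subgroup G).subtype_injective
  have hle_iff : ∀ (C : Subgroup G) (D : Subgroup ↥(S : Subgroup G)), D ≤ C.subgroupOf (S : Subgroup G) ↔ D.map (S : Subgroup G).subtype ≤ C := by
    intro C D
    rw [Subgroup.subgroupOf, ← Subgroup.map_le_iff_le_comap]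
  have hback : ∀ C : Subgroup G, C ≤ (S : Subgroup G) → (C.subgroupOf (S : Subgroup G)).map (S : Subgroup G).subtype = C := by
    intro C hC
    exact Subgroup.map_subgroupOf_eq_of_le hC
  -- every elementary abelian subgroup of S lies in A or B
  have honly0 : ∀ C : Subgroup ↥(S : Subgroup G), IsElementaryAbelian 2 C → C ≤ A ∨ C ≤ B := by
    intro C hC
    obtain ⟨D, hCD, hD⟩ := Finite.exists_le_maximal (p := fun D : Subgroup ↥(S : Subgroup G) => IsElementaryAbelian 2 D) hC
    have hD' : D = A ∨ D = B := by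
      apply honly D hD.1
      intro E hE hDE
      exact le_antisymm (hD.2 hE hDE) hDE
    rcases hD' with h | h
    · left; rw [← h]; exact hCD
    · right; rw [← h]; exact hCD
  apply main_G S (A.map (S : Subgroup G).subtype) (B.map (S : Subgroup G).subtype) (Subgroup.map_subtype_le A)
    (Subgroup.map_subtype_le B) (fun h => hAB (hinj h)) (ea_map_subtype hA.1) (ea_map_subtype hB.1)
  · intro C hCS hC hAC
    have h1 : A ≤ C.subgroupOf (S : Subgroup G) := (hle_iff C A).2 hAC
    have h2 := hA.2 _ (ea_subgroupOf hC) h1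
    rw [← h2, hback C hCS]
  · intro C hCS hC hBC
    have h1 : B ≤ C.subgroupOf (S : Subgroup G) := (hle_iff C B).2 hBC
    have h2 := hB.2 _ (ea_subgroupOf hC) h1
    rw [← h2, hback C hCS]
  · intro C hCS hC
    rcases honly0 _ (ea_subgroupOf (H := (S : Subgroup G)) hC) with h | h
    · left
      rw [← hback C hCS]
      exact Subgroup.map_mono h
    · right
      rw [← hback C hCS]
      exact Subgroup.map_mono h
  · intro s hs
    obtain ⟨a, ha, b, hb, hab⟩ := hprod ⟨s, hs⟩
    refine ⟨a, ⟨a, ha, rfl⟩, b, ⟨b, hb, rfl⟩, ?_⟩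
    have := congrArg Subtype.val hab
    simpa using this.symm

end Cfsg.Agent.S3203
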