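import Cfsg.Statements.S3206
import Mathlib
import Cfsg.Agent.Helper9.S3206P2
import Cfsg.Agent.Helper9.S3206CORE2
import Cfsg.Agent.Helper15.S3206SYLOWT
import Cfsg.Agent.Helper20.S3206KLEIN
import Cfsg.Agent.Helper25.S3206S8
import Cfsg.Agent.Helper22.S3206TRANS7
import Cfsg.Agent.Helper20.S3206FOCAL
import Cfsg.Agent.Helper28.S3206REDUCE
import Cfsg.Agent.Helper19.S3206EVEN
import Cfsg.Agent.Helper3.S3206CORE
import Cfsg.Agent.Helper25.S3206SEQ

set_option autoImplicit false
open Cfsg

namespace Cfsg.Agent.S3206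

open Cfsg.Agent.S3206P

/-- Let G be a non-abelian finite simple group with abelian Sylow 2-subgroups, and let t be an involution of G whose centralizer is a maximal subgroup of G and is the direct product of the subgroup generated by t with a subgroup E having a normal subgroup isomorphic to PSL(2, q), q odd and greater than 3, with trivial centralizer in E. Then every finite perfect group having a central 2-subgroup with quotient isomorphic to G has that central subgroup trivial (G has no nontrivial perfect central extension by a 2-group), and every automorphism of G of 2-power order that fixes every element of some Sylow 2-subgroup of G is inner. -/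
theorem result {G : Type*} [Group G] [Finite G] [IsSimpleGroup G]
    (hG : ¬ IsMulCommutative G) (hab : ∀ S : Sylow 2 G, IsMulCommutative ↥(S : Subgroup G))
    (t : G) (ht : orderOf t = 2) (hmax : IsCoatom (Subgroup.centralizer ({t} : Set G)))
    (E : Subgroup G) (hE : Cfsg.IsInternalDirectProduct (Subgroup.zpowers t) E (Subgroup.centralizer ({t} : Set G)))
    {F : Type*} [Field F] [Fintype F] (hFo : Odd (Fintype.card F)) (hF3 : 3 < Fintype.card F)
    (N : Subgroup ↥E) [N.Normal] (hN : Nonempty (↥N ≃* Matrix.ProjectiveSpecialLinearGroup (Fin 2) F))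
    (hNc : Subgroup.centralizer (N : Set ↥E) = ⊥) :
    (∀ (L : Type) (_ : Group L) (_ : Finite L) (Z : Subgroup L) (_ : Z.Normal), commutator L = ⊤ → Z ≤ Subgroup.center L →
        IsPGroup 2 ↥Z → Nonempty (L ⧸ Z ≃* G) → Z = ⊥) ∧
    (∀ (φ : G ≃* G) (k : ℕ), φ ^ (2 ^ k) = 1 → (∃ S : Sylow 2 G, ∀ s ∈ (S : Subgroup G), φ s = s) →
        ∃ g : G, ∀ x : G, φ x = g * x * g⁻¹) := by
  classical
  refine ⟨?_, P2 hG hab t ht⟩
  obtain ⟨e⟩ := hN
  have h4 : 4 ≤ Nat.card F := by rw [Nat.card_eq_fintype_card]; omega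
  haveI : IsSimpleGroup (Matrix.ProjectiveSpecialLinearGroup (Fin 2) F) :=
    Matrix.ProjectiveSpecialLinearGroup.rank_two_simple h4
  haveI : IsSimpleGroup ↥N := e.isSimpleGroup
  have h2N : 2 ∣ Nat.card ↥N := by rw [Nat.card_congr e.toEquiv]; exact EVEN hFo
  have hcore := CORE2 h2N
  let V : Sylow 2 ↥N := default
  obtain ⟨S, htS, hVS⟩ := SYLOWT t ht E hE N V
  have hSab : ∀ x ∈ (S : Subgroup G), ∀ y ∈ (S : Subgroup G), x * y = y * x :=
    fun x hx y hy => congrArg Subtype.val ((hab S).is_comm.comm ⟨x, hx⟩ ⟨y, hy⟩)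
  have hVab : ∀ x ∈ (V : Subgroup ↥N), ∀ y ∈ (V : Subgroup ↥N), x * y = y * x := by
    intro x hx y hy
    have := hSab _ (hVS x hx) _ (hVS y hy)
    apply Subtype.ext; apply Subtype.ext
    simpa using this
  obtain ⟨hV4, hV2⟩ := KLEIN hFo e V hVab
  have hdec := SEQ t ht E hE N hNc hcore V S hSab htS hVS
  obtain ⟨hS8, hSexp⟩ := S8 t ht E hE N V S hV4 hV2 htS hVS hdec
  have hperfG : commutator G = ⊤ := by
    rcases (inferInstance : (commutator G).Normal).eq_bot_or_eq_top with h | h
    · exfalso
      apply hG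
      rw [commutator_eq_bot_iff_center_eq_top] at h
      refine ⟨⟨fun a b => ?_⟩⟩
      have ha : a ∈ Subgroup.center G := by rw [h]; trivial
      exact (Subgroup.mem_center_iff.1 ha b).symm
    · exact h
  have htr := TRANS7 S hS8 hSexp (fun z hz hzN => FOCAL hperfG S hSab z hz hzN)
  apply REDUCE
  intro L _ _ Z _ hperf hZc hZ2 hf
  obtain ⟨f⟩ := hf
  let π : L →* G := f.toMonoidHom.comp (QuotientGroup.mk' Z)
  have hπ : Function.Surjective π := f.surjective.comp (QuotientGroup.mk'_surjective Z)
  have hkerπ : π.ker = Z := by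
    ext x
    simp only [π, MonoidHom.mem_ker, MonoidHom.comp_apply, MulEquiv.coe_toMonoidHom,
      EmbeddingLike.map_eq_one_iff, QuotientGroup.mk'_apply, QuotientGroup.eq_one_iff]
  exact CORE hperf π hπ (hkerπ ▸ hZc) (by rw [hkerπ]; exact hZ2) S hS8 hSexp htr

end Cfsg.Agent.S3206
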