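import Cfsg.Statements.S3208
import Mathlib
import Cfsg.Agent.Lead.CoprimeFrattini
import Cfsg.Agent.Helper11.SylowInter

set_option autoImplicit false
open Cfsg

namespace Cfsg.Agent.S3208

/-- Let j be an involution of a finite group G, H a subgroup of G, and T a Sylow 2-subgroup of H ∩ C_G(j) containing j such that ⟨j⟩ is a characteristic subgroup of T. Then T is a Sylow 2-subgroup of H. -/
theorem result {G : Type*} [Group G] [Finite G]
    (j : G) (hj : orderOf j = 2) (H T : Subgroup G) (hT : T ≤ H ⊓ Subgroup.centralizer ({j} : Set G)) (h2 : IsPGroup 2 ↥T)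
    (hSyl : ¬ 2 ∣ T.relIndex (H ⊓ Subgroup.centralizer ({j} : Set G))) (hjT : j ∈ T)
    (hchar : ((Subgroup.zpowers j).subgroupOf T).Characteristic) :
    ¬ 2 ∣ T.relIndex H := by
  have : Fact (Nat.Prime 2) := ⟨Nat.prime_two⟩
  have hTH : T ≤ H := hT.trans inf_le_left
  have hT2' : IsPGroup 2 (T.subgroupOf H) := h2.comap_of_injective H.subtype H.subtype_injective
  obtain ⟨S, hS⟩ := hT2'.exists_le_sylow
  have hTS : T ≤ (S : Subgroup H).map H.subtype := by
    intro t ht
    exact ⟨⟨t, hTH ht⟩, hS (Subgroup.mem_subgroupOf.mpr ht), rfl⟩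
  by_cases heq : T = (S : Subgroup H).map H.subtype
  · have : T.subgroupOf H = (S : Subgroup H) := by
      rw [heq]
      ext y
      rw [Subgroup.mem_subgroupOf]
      constructor
      · rintro ⟨z, hz, hzy⟩
        have : z = y := Subtype.ext hzy
        rw [← this]; exact hz
      · intro hy; exact ⟨y, hy, rfl⟩
    show ¬ 2 ∣ (T.subgroupOf H).index
    rw [this]
    exact S.not_dvd_index
  · exfalso
    have hlt : T < (S : Subgroup H).map H.subtype := lt_of_le_of_ne hTS heq
    have hS2 : IsPGroup 2 ((S : Subgroup H).map H.subtype) := S.2.map _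
    have hgrow := Cfsg.Agent.Helper11.lt_inf_normalizer _ T hS2 hlt
    set R := (S : Subgroup H).map H.subtype ⊓ Subgroup.normalizer (T : Set G) with hR
    have hRH : R ≤ H := by
      intro r hr
      obtain ⟨y, _, hy⟩ := hr.1
      rw [← hy]; exact y.2
    have hR2 : IsPGroup 2 R := hS2.to_le inf_le_left
    -- R centralizes j
    have hjle : Subgroup.zpowers j ≤ T := Subgroup.zpowers_le.mpr hjT
    have hmap : ((Subgroup.zpowers j).subgroupOf T).map T.subtype = Subgroup.zpowers j :=
      Subgroup.map_subgroupOf_eq_of_le hjle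
    have hNN := Cfsg.Agent.Lead.normalizer_le_normalizer_map_of_characteristic T
      ((Subgroup.zpowers j).subgroupOf T)
    rw [hmap] at hNN
    have hRC : R ≤ Subgroup.centralizer ({j} : Set G) := by
      intro r hr
      have hrN := hNN hr.2
      have hmem : r * j * r⁻¹ ∈ Subgroup.zpowers j :=
        (Subgroup.mem_normalizer_iff.mp hrN j).mp (Subgroup.mem_zpowers j)
      obtain ⟨k, hk⟩ := Subgroup.mem_zpowers_iff.mp hmem
      have hjj : j ^ 2 = 1 := by rw [← hj]; exact pow_orderOf_eq_one j
      have hcases : r * j * r⁻¹ = 1 ∨ r * j * r⁻¹ = j := by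
        rw [← hk]
        rcases Int.emod_two_eq_zero_or_one k with h0 | h1
        · left
          obtain ⟨m, rfl⟩ : (2 : ℤ) ∣ k := Int.dvd_of_emod_eq_zero h0
          rw [zpow_mul, zpow_ofNat, hjj, one_zpow]
        · right
          have : k = 2 * (k / 2) + 1 := by omega
          rw [this, zpow_add, zpow_mul, zpow_ofNat, hjj, one_zpow, one_mul, zpow_one]
      rw [Subgroup.mem_centralizer_singleton_iff]
      rcases hcases with h1 | h1
      · exfalso
        have : j = 1 := by
          have := congrArg (fun t => r⁻¹ * t * r) h1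
          simpa [mul_assoc] using this
        rw [this, orderOf_one] at hj
        norm_num at hj
      · calc r * j = r * j * r⁻¹ * r := by group
          _ = j * r := by rw [h1]
    have hRK : R ≤ H ⊓ Subgroup.centralizer ({j} : Set G) := le_inf hRH hRC
    -- index computation
    have e1 := Subgroup.relIndex_mul_relIndex T R (H ⊓ Subgroup.centralizer ({j} : Set G))
      hgrow.le hRK
    apply hSyl
    rw [← e1]
    apply Dvd.dvd.mul_right
    -- 2 ∣ T.relIndex R
    have h3 : T.relIndex R * Nat.card T = Nat.card R := by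
      have h1 := (T.subgroupOf R).index_mul_card
      rwa [Nat.card_congr (Subgroup.subgroupOfEquivOfLe hgrow.le).toEquiv] at h1
    obtain ⟨a, ha⟩ := IsPGroup.iff_card.mp hR2
    obtain ⟨b, hb⟩ := IsPGroup.iff_card.mp h2
    have hcardlt : Nat.card T < Nat.card R := by
      have h1 : (T : Set G) ⊂ (R : Set G) := SetLike.coe_ssubset_coe.mpr hgrow
      exact Set.ncard_lt_ncard h1 (Set.toFinite _)
    rw [ha, hb] at h3 hcardlt
    have hab : b < a := (Nat.pow_lt_pow_iff_right (by norm_num)).mp hcardlt
    have h4 : T.relIndex R = 2 ^ (a - b) := by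
      have hpos : 0 < 2 ^ b := by positivity
      apply Nat.eq_of_mul_eq_mul_right hpos
      rw [h3, ← pow_add]
      congr 1
      omega
    rw [h4]
    exact dvd_pow_self 2 (by omega)

end Cfsg.Agent.S3208
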