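import Mathlib
import Cfsg.Statements.S3209

set_option autoImplicit false
open Cfsg

namespace Cfsg.Agent.S3209

open Matrix

section Mat
variable {F : Type*} [Field F]

/-- entries of the square of a 2×2 matrix -/
theorem sq_fin_two (a b c d : F) :
    (!![a, b; c, d] : Matrix (Fin 2) (Fin 2) F) * !![a, b; c, d] =
      !![a * a + b * c, a * b + b * d; c * a + d * c, c * b + d * d] := by
  rw [Matrix.mul_fin_two]

theorem mat_eq_iff (a b c d a' b' c' d' : F) :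
    (!![a, b; c, d] : Matrix (Fin 2) (Fin 2) F) = !![a', b'; c', d'] ↔
      a = a' ∧ b = b' ∧ c = c' ∧ d = d' := by
  constructor
  · intro h
    have h00 := congrFun (congrFun h 0) 0
    have h01 := congrFun (congrFun h 0) 1
    have h10 := congrFun (congrFun h 1) 0
    have h11 := congrFun (congrFun h 1) 1
    simp at h00 h01 h10 h11
    exact ⟨h00, h01, h10, h11⟩
  · rintro ⟨rfl, rfl, rfl, rfl⟩; rfl

theorem one_fin_two' : (1 : Matrix (Fin 2) (Fin 2) F) = !![1, 0; 0, 1] := Matrix.one_fin_two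

theorem neg_one_fin_two : (-1 : Matrix (Fin 2) (Fin 2) F) = !![-1, 0; 0, -1] := by
  rw [one_fin_two']
  ext i j; fin_cases i <;> fin_cases j <;> simp

/-- an involution of determinant 1 over a field with `2 ≠ 0` is `-1` -/
theorem invol_eq_neg_one (h2 : (2 : F) ≠ 0) (M : Matrix (Fin 2) (Fin 2) F) (hdet : M.det = 1)
    (hsq : M * M = 1) (hne : M ≠ 1) : M = -1 := by
  rw [Matrix.eta_fin_two M] at hdet hsq hne ⊢
  generalize M 0 0 = a at *
  generalize M 0 1 = b at *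
  generalize M 1 0 = c at *
  generalize M 1 1 = d at *
  rw [Matrix.det_fin_two_of] at hdet
  rw [sq_fin_two, one_fin_two', mat_eq_iff] at hsq
  obtain ⟨h00, h01, h10, h11⟩ := hsq
  rw [neg_one_fin_two, mat_eq_iff]
  rw [one_fin_two', Ne, mat_eq_iff] at hne
  have hs : a + d ≠ 0 := by
    intro h
    have hd : d = -a := by linear_combination h
    subst hd
    apply h2
    linear_combination -h00 - hdet
  have hb : b = 0 := by
    have : b * (a + d) = 0 := by linear_combination h01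
    rcases mul_eq_zero.1 this with h | h
    · exact h
    · exact absurd h hs
  have hc : c = 0 := by
    have : c * (a + d) = 0 := by linear_combination h10
    rcases mul_eq_zero.1 this with h | h
    · exact h
    · exact absurd h hs
  subst hb hc
  have ha2 : (a - 1) * (a + 1) = 0 := by linear_combination h00
  have hd2 : (d - 1) * (d + 1) = 0 := by linear_combination h11
  have had : a * d = 1 := by linear_combination hdet
  rcases mul_eq_zero.1 ha2 with ha | ha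
  · have ha1 : a = 1 := by linear_combination ha
    subst ha1
    have hd1 : d = 1 := by linear_combination had
    subst hd1
    exact absurd ⟨rfl, rfl, rfl, rfl⟩ hne
  · have ha1 : a = -1 := by linear_combination ha
    subst ha1
    have hd1 : d = -1 := by linear_combination -had
    subst hd1
    exact ⟨rfl, rfl, rfl, rfl⟩

theorem two_ne_zero_of_odd [Fintype F] (hF : Odd (Fintype.card F)) : (2 : F) ≠ 0 := by
  apply Ring.two_ne_zero
  intro h
  rw [FiniteField.even_card_iff_char_two] at h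
  rw [Nat.odd_iff] at hF
  omega

/-- a matrix of determinant 1 with square `-1` is conjugate to `J` by a matrix of determinant 1 -/
theorem exists_conj_J [Fintype F] (hF : Odd (Fintype.card F)) (M : Matrix (Fin 2) (Fin 2) F)
    (hdet : M.det = 1) (hsq : M * M = -1) :
    ∃ P : Matrix (Fin 2) (Fin 2) F, P.det = 1 ∧ P * !![0, 1; -1, 0] = M * P := by
  have h2 := two_ne_zero_of_odd hF
  rw [Matrix.eta_fin_two M] at hdet hsq ⊢
  generalize M 0 0 = a at *
  generalize M 0 1 = b at *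
  generalize M 1 0 = c at *
  generalize M 1 1 = d at *
  rw [Matrix.det_fin_two_of] at hdet
  rw [sq_fin_two, neg_one_fin_two, mat_eq_iff] at hsq
  obtain ⟨h00, h01, h10, h11⟩ := hsq
  have hd : d = -a := by
    by_contra hne
    have hs : a + d ≠ 0 := fun h => hne (by linear_combination h)
    have hb : b = 0 := by
      have : b * (a + d) = 0 := by linear_combination h01
      rcases mul_eq_zero.1 this with h | h
      · exact h
      · exact absurd h hs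
    have hc : c = 0 := by
      have : c * (a + d) = 0 := by linear_combination h10
      rcases mul_eq_zero.1 this with h | h
      · exact h
      · exact absurd h hs
    subst hb hc
    have : (a + d) * (a + d) = 0 := by linear_combination h00 + h11 + 2 * hdet
    exact hs (mul_self_eq_zero.1 this)
  subst hd
  obtain ⟨x, y, hxy⟩ : ∃ x y : F, -c * x ^ 2 + 2 * a * x * y + b * y ^ 2 = 1 := by
    by_cases hc : c = 0
    · subst hc
      have ha : a ≠ 0 := by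
        rintro rfl
        simp at h00
      obtain ⟨i, hi⟩ : ∃ i, (2 * a) * i = 1 := ⟨(2 * a)⁻¹, mul_inv_cancel₀ (mul_ne_zero h2 ha)⟩
      refine ⟨(1 - b) * i, 1, ?_⟩
      linear_combination (1 - b) * hi
    · obtain ⟨i, hi⟩ : ∃ i, c * i = 1 := ⟨c⁻¹, mul_inv_cancel₀ hc⟩
      have hi0 : i ≠ 0 := by
        rintro rfl
        simp at hi
      have hf : (Polynomial.C (-c) * Polynomial.X ^ 2 : Polynomial F).degree = 2 :=
        Polynomial.degree_C_mul_X_pow 2 (neg_ne_zero.2 hc)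
      have hg0 : (Polynomial.C (-i) * Polynomial.X ^ 2 : Polynomial F).degree = 2 :=
        Polynomial.degree_C_mul_X_pow 2 (neg_ne_zero.2 hi0)
      have hg : (Polynomial.C (-i) * Polynomial.X ^ 2 - Polynomial.C 1 : Polynomial F).degree
          = 2 := by
        rw [Polynomial.degree_sub_eq_left_of_degree_lt, hg0]
        rw [hg0]
        exact lt_of_le_of_lt Polynomial.degree_C_le (by norm_num)
      obtain ⟨X, Y, hXY⟩ := FiniteField.exists_root_sum_quadratic hf hg (Nat.odd_iff.1 hF)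
      simp only [Polynomial.eval_mul, Polynomial.eval_C, Polynomial.eval_pow, Polynomial.eval_X,
        Polynomial.eval_sub] at hXY
      refine ⟨X + a * i * Y, Y, ?_⟩
      linear_combination hXY + (i * Y ^ 2) * h00 -
        (b * Y ^ 2 + 2 * a * X * Y + a ^ 2 * i * Y ^ 2) * hi
  refine ⟨!![x, -(a * x + b * y); y, -(c * x - a * y)], ?_, ?_⟩
  · rw [Matrix.det_fin_two_of]; linear_combination hxy
  · rw [Matrix.mul_fin_two, Matrix.mul_fin_two, mat_eq_iff]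
    refine ⟨by ring, ?_, by ring, ?_⟩
    · linear_combination x * h00
    · linear_combination y * h00

end Mat

section SL
variable {F : Type*} [Field F] [Fintype F]

/-- the element `J` of order 4 -/
def Jm : SpecialLinearGroup (Fin 2) F := ⟨!![0, 1; -1, 0], by simp [Matrix.det_fin_two_of]⟩

/-- the central involution `-1` -/
def Zm : SpecialLinearGroup (Fin 2) F :=
  ⟨-1, by rw [neg_one_fin_two, Matrix.det_fin_two_of]; ring⟩

theorem J_sq : (Jm : SpecialLinearGroup (Fin 2) F) * Jm = Zm := by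
  apply Subtype.ext
  show (!![0, 1; -1, 0] : Matrix (Fin 2) (Fin 2) F) * !![0, 1; -1, 0] = -1
  rw [Matrix.mul_fin_two, neg_one_fin_two, mat_eq_iff]; simp

theorem Z_sq : (Zm : SpecialLinearGroup (Fin 2) F) * Zm = 1 := by
  apply Subtype.ext
  show (-1 : Matrix (Fin 2) (Fin 2) F) * -1 = 1
  simp

theorem Z_ne_one (hF : Odd (Fintype.card F)) : (Zm : SpecialLinearGroup (Fin 2) F) ≠ 1 := by
  intro h
  have h1 : (-1 : Matrix (Fin 2) (Fin 2) F) = 1 :=
    congrArg (fun X : SpecialLinearGroup (Fin 2) F => (X : Matrix (Fin 2) (Fin 2) F)) h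
  rw [neg_one_fin_two, one_fin_two', mat_eq_iff] at h1
  apply two_ne_zero_of_odd hF
  linear_combination -h1.1

theorem sl_invol (hF : Odd (Fintype.card F)) (A : SpecialLinearGroup (Fin 2) F)
    (hA : A * A = 1) (hne : A ≠ 1) : A = Zm := by
  apply Subtype.ext
  show (A : Matrix (Fin 2) (Fin 2) F) = -1
  apply invol_eq_neg_one (two_ne_zero_of_odd hF) _ A.2
  · exact congrArg (fun X : SpecialLinearGroup (Fin 2) F => (X : Matrix (Fin 2) (Fin 2) F)) hA
  · intro h; exact hne (Subtype.ext h)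

theorem sl_conj_J (hF : Odd (Fintype.card F)) (A : SpecialLinearGroup (Fin 2) F)
    (hA : A * A = Zm) : ∃ P : SpecialLinearGroup (Fin 2) F, P * Jm * P⁻¹ = A := by
  obtain ⟨P, hP, hPJ⟩ := exists_conj_J hF (A : Matrix (Fin 2) (Fin 2) F) A.2
    (congrArg (fun X : SpecialLinearGroup (Fin 2) F => (X : Matrix (Fin 2) (Fin 2) F)) hA)
  obtain ⟨P', hP'⟩ : ∃ P' : SpecialLinearGroup (Fin 2) F, (P' : Matrix (Fin 2) (Fin 2) F) = P :=
    ⟨⟨P, hP⟩, rfl⟩
  refine ⟨P', ?_⟩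
  have h1 : P' * Jm = A * P' := by
    apply Subtype.ext
    show (P' : Matrix (Fin 2) (Fin 2) F) * !![0, 1; -1, 0] =
      (A : Matrix (Fin 2) (Fin 2) F) * (P' : Matrix (Fin 2) (Fin 2) F)
    rw [hP']; exact hPJ
  rw [h1]; group

theorem sl_conj (hF : Odd (Fintype.card F)) (A B : SpecialLinearGroup (Fin 2) F)
    (hA : A * A = Zm) (hB : B * B = Zm) :
    ∃ g : SpecialLinearGroup (Fin 2) F, g * A * g⁻¹ = B := by
  obtain ⟨P, hP⟩ := sl_conj_J hF A hA
  obtain ⟨Q, hQ⟩ := sl_conj_J hF B hB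
  refine ⟨Q * P⁻¹, ?_⟩
  rw [← hP, ← hQ]; group

end SL

section Grp
variable {G : Type*} [Group G] {F : Type*} [Field F] [Fintype F]

theorem e_invol (hF : Odd (Fintype.card F)) (L : Subgroup G)
    (e : ↥L ≃* SpecialLinearGroup (Fin 2) F) (g : G) (hg : g ∈ L) (hgg : g * g = 1)
    (hg1 : g ≠ 1) : e ⟨g, hg⟩ = Zm := by
  apply sl_invol hF
  · rw [← map_mul]
    have : (⟨g, hg⟩ : ↥L) * ⟨g, hg⟩ = 1 := Subtype.ext hgg
    rw [this, map_one]
  · intro h
    apply hg1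
    have h2 : (⟨g, hg⟩ : ↥L) = 1 := e.injective (by rw [h, map_one])
    exact congrArg Subtype.val h2

theorem unique_invol (hF : Odd (Fintype.card F)) (L : Subgroup G)
    (e : ↥L ≃* SpecialLinearGroup (Fin 2) F) (g h : G) (hg : g ∈ L) (hh : h ∈ L)
    (hgg : g * g = 1) (hg1 : g ≠ 1) (hhh : h * h = 1) (hh1 : h ≠ 1) : g = h := by
  have e1 := e_invol hF L e g hg hgg hg1
  have e2 := e_invol hF L e h hh hhh hh1
  exact congrArg Subtype.val (e.injective (e1.trans e2.symm))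

theorem exists_sqrt (hF : Odd (Fintype.card F)) (L : Subgroup G)
    (e : ↥L ≃* SpecialLinearGroup (Fin 2) F) (j : G) (hj : j ∈ L) (hjj : j * j = 1)
    (hj1 : j ≠ 1) : ∃ u ∈ L, u * u = j := by
  refine ⟨(e.symm Jm : ↥L), (e.symm Jm).2, ?_⟩
  have h1 : e (e.symm Jm * e.symm Jm) = e ⟨j, hj⟩ := by
    rw [map_mul, e.apply_symm_apply, J_sq, e_invol hF L e j hj hjj hj1]
  exact congrArg Subtype.val (e.injective h1)

theorem conj_in (hF : Odd (Fintype.card F)) (L : Subgroup G)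
    (e : ↥L ≃* SpecialLinearGroup (Fin 2) F) (j : G) (hj : j ∈ L) (hjj : j * j = 1)
    (hj1 : j ≠ 1) (u y : G) (hu : u ∈ L) (hy : y ∈ L) (huu : u * u = j) (hyy : y * y = j) :
    ∃ g ∈ L, g * u * g⁻¹ = y := by
  have hZ := e_invol hF L e j hj hjj hj1
  have h1 : e ⟨u, hu⟩ * e ⟨u, hu⟩ = Zm := by
    rw [← map_mul, ← hZ]; congr 1; exact Subtype.ext huu
  have h2 : e ⟨y, hy⟩ * e ⟨y, hy⟩ = Zm := by
    rw [← map_mul, ← hZ]; congr 1; exact Subtype.ext hyy
  obtain ⟨g, hg⟩ := sl_conj hF _ _ h1 h2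
  refine ⟨(e.symm g : ↥L), (e.symm g).2, ?_⟩
  have h3 : e (e.symm g * ⟨u, hu⟩ * (e.symm g)⁻¹) = e ⟨y, hy⟩ := by
    rw [map_mul, map_mul, map_inv, e.apply_symm_apply, hg]
  exact congrArg Subtype.val (e.injective h3)

end Grp

theorem result {G : Type*} [Group G] [Finite G]
    {F₁ : Type*} [Field F₁] [Fintype F₁] {F₂ : Type*} [Field F₂] [Fintype F₂]
    (hF₁ : Odd (Fintype.card F₁)) (hF₂ : Odd (Fintype.card F₂)) (L₁ L₂ : Subgroup G)
    (e₁ : ↥L₁ ≃* Matrix.SpecialLinearGroup (Fin 2) F₁) (e₂ : ↥L₂ ≃* Matrix.SpecialLinearGroup (Fin 2) F₂)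
    (hc : ∀ x ∈ L₁, ∀ y ∈ L₂, x * y = y * x) (j : G) (hj : orderOf j = 2) (hm : L₁ ⊓ L₂ = Subgroup.zpowers j) :
    ∃ x ∈ L₁ ⊔ L₂, orderOf x = 2 ∧ x ≠ j ∧
      ∀ y ∈ L₁ ⊔ L₂, orderOf y = 2 → y = j ∨ ∃ g ∈ L₁ ⊔ L₂, g * x * g⁻¹ = y := by
  classical
  have hjj : j * j = 1 := by
    have := pow_orderOf_eq_one j
    rwa [hj, pow_two] at this
  have hj1 : j ≠ 1 := by
    intro h
    rw [h, orderOf_one] at hj
    omega
  have hjmem : j ∈ L₁ ⊓ L₂ := by rw [hm]; exact Subgroup.mem_zpowers j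
  have hjL₁ := (Subgroup.mem_inf.1 hjmem).1
  have hjL₂ := (Subgroup.mem_inf.1 hjmem).2
  have hinter : ∀ g, g ∈ L₁ → g ∈ L₂ → g = 1 ∨ g = j := by
    intro g h1 h2
    have : g ∈ Subgroup.zpowers j := by rw [← hm]; exact Subgroup.mem_inf.2 ⟨h1, h2⟩
    obtain ⟨k, rfl⟩ := Subgroup.mem_zpowers_iff.1 this
    rcases Int.even_or_odd k with ⟨t, rfl⟩ | ⟨t, rfl⟩
    · left; rw [← two_mul, _root_.zpow_mul, zpow_two, hjj, _root_.one_zpow]
    · right; rw [_root_.zpow_add, zpow_one, _root_.zpow_mul, zpow_two, hjj, _root_.one_zpow, one_mul]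
  have hinv₁ : ∀ g ∈ L₁, g * g = 1 → g = 1 ∨ g = j := by
    intro g hg hgg
    by_cases hg1 : g = 1
    · left; exact hg1
    · right; exact unique_invol hF₁ L₁ e₁ g j hg hjL₁ hgg hg1 hjj hj1
  have hinv₂ : ∀ g ∈ L₂, g * g = 1 → g = 1 ∨ g = j := by
    intro g hg hgg
    by_cases hg1 : g = 1
    · left; exact hg1
    · right; exact unique_invol hF₂ L₂ e₂ g j hg hjL₂ hgg hg1 hjj hj1
  obtain ⟨u₁, hu₁, huu₁⟩ := exists_sqrt hF₁ L₁ e₁ j hjL₁ hjj hj1
  obtain ⟨u₂, hu₂, huu₂⟩ := exists_sqrt hF₂ L₂ e₂ j hjL₂ hjj hj1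
  have hu₁L₂ : u₁ ∉ L₂ := by
    intro h
    rcases hinter u₁ hu₁ h with h1 | h1
    · rw [h1, mul_one] at huu₁; exact hj1 huu₁.symm
    · rw [h1, hjj] at huu₁; exact hj1 huu₁.symm
  have hcomm := hc u₁ hu₁ u₂ hu₂
  have hxx : (u₁ * u₂) * (u₁ * u₂) = 1 := by
    calc (u₁ * u₂) * (u₁ * u₂) = u₁ * (u₂ * u₁) * u₂ := by group
      _ = u₁ * (u₁ * u₂) * u₂ := by rw [hcomm]
      _ = (u₁ * u₁) * (u₂ * u₂) := by group
      _ = 1 := by rw [huu₁, huu₂, hjj]
  have hx1 : u₁ * u₂ ≠ 1 := by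
    intro h
    apply hu₁L₂
    have : u₁ = u₂⁻¹ := eq_inv_of_mul_eq_one_left h
    rw [this]; exact L₂.inv_mem hu₂
  have hxj : u₁ * u₂ ≠ j := by
    intro h
    apply hu₁L₂
    have : u₁ = j * u₂⁻¹ := by rw [← h]; group
    rw [this]; exact L₂.mul_mem hjL₂ (L₂.inv_mem hu₂)
  -- decomposition of elements of the join
  have hdec : ∀ y ∈ L₁ ⊔ L₂, ∃ y₁ ∈ L₁, ∃ y₂ ∈ L₂, y = y₁ * y₂ := by
    let M : Subgroup G :=
      { carrier := {y | ∃ y₁ ∈ L₁, ∃ y₂ ∈ L₂, y = y₁ * y₂}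
        one_mem' := ⟨1, L₁.one_mem, 1, L₂.one_mem, by simp⟩
        mul_mem' := by
          rintro _ _ ⟨a₁, ha₁, a₂, ha₂, rfl⟩ ⟨b₁, hb₁, b₂, hb₂, rfl⟩
          refine ⟨a₁ * b₁, L₁.mul_mem ha₁ hb₁, a₂ * b₂, L₂.mul_mem ha₂ hb₂, ?_⟩
          have := hc b₁ hb₁ a₂ ha₂
          calc a₁ * a₂ * (b₁ * b₂) = a₁ * (a₂ * b₁) * b₂ := by group
            _ = a₁ * (b₁ * a₂) * b₂ := by rw [this]
            _ = a₁ * b₁ * (a₂ * b₂) := by group
        inv_mem' := by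
          rintro _ ⟨a₁, ha₁, a₂, ha₂, rfl⟩
          refine ⟨a₁⁻¹, L₁.inv_mem ha₁, a₂⁻¹, L₂.inv_mem ha₂, ?_⟩
          have := hc a₁⁻¹ (L₁.inv_mem ha₁) a₂⁻¹ (L₂.inv_mem ha₂)
          rw [this, _root_.mul_inv_rev] }
    have h1 : L₁ ≤ M := fun a ha => ⟨a, ha, 1, L₂.one_mem, by simp⟩
    have h2 : L₂ ≤ M := fun a ha => ⟨1, L₁.one_mem, a, ha, by simp⟩
    intro y hy
    exact (sup_le h1 h2) hy
  refine ⟨u₁ * u₂, Subgroup.mul_mem _ (Subgroup.mem_sup_left hu₁) (Subgroup.mem_sup_right hu₂),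
    orderOf_eq_prime (by rw [pow_two]; exact hxx) hx1, hxj, ?_⟩
  intro y hy hyo
  have hyy : y * y = 1 := by
    have := pow_orderOf_eq_one y
    rwa [hyo, pow_two] at this
  have hy1 : y ≠ 1 := by
    intro h
    rw [h, orderOf_one] at hyo
    omega
  obtain ⟨y₁, hy₁, y₂, hy₂, rfl⟩ := hdec y hy
  have hcy := hc y₁ hy₁ y₂ hy₂
  have hprod : (y₁ * y₁) * (y₂ * y₂) = 1 := by
    calc (y₁ * y₁) * (y₂ * y₂) = y₁ * (y₁ * y₂) * y₂ := by group
      _ = y₁ * (y₂ * y₁) * y₂ := by rw [hcy]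
      _ = (y₁ * y₂) * (y₁ * y₂) := by group
      _ = 1 := hyy
  have hy₁sq : y₁ * y₁ ∈ L₂ := by
    have : y₁ * y₁ = (y₂ * y₂)⁻¹ := eq_inv_of_mul_eq_one_left hprod
    rw [this]; exact L₂.inv_mem (L₂.mul_mem hy₂ hy₂)
  rcases hinter _ (L₁.mul_mem hy₁ hy₁) hy₁sq with h1 | h1
  · -- y₁² = 1
    left
    have h2 : y₂ * y₂ = 1 := by rw [h1, one_mul] at hprod; exact hprod
    rcases hinv₁ y₁ hy₁ h1 with ha | ha <;> rcases hinv₂ y₂ hy₂ h2 with hb | hb
    · exfalso; apply hy1; rw [ha, hb, mul_one]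
    · rw [ha, hb, one_mul]
    · rw [ha, hb, mul_one]
    · exfalso; apply hy1; rw [ha, hb, hjj]
  · -- y₁² = j
    right
    have h2 : y₂ * y₂ = j := by
      rw [h1] at hprod
      have : y₂ * y₂ = j⁻¹ := eq_inv_of_mul_eq_one_right hprod
      rw [this]; exact inv_eq_of_mul_eq_one_right hjj
    obtain ⟨g₁, hg₁, hgu₁⟩ := conj_in hF₁ L₁ e₁ j hjL₁ hjj hj1 u₁ y₁ hu₁ hy₁ huu₁ h1
    obtain ⟨g₂, hg₂, hgu₂⟩ := conj_in hF₂ L₂ e₂ j hjL₂ hjj hj1 u₂ y₂ hu₂ hy₂ huu₂ h2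
    refine ⟨g₁ * g₂, Subgroup.mul_mem _ (Subgroup.mem_sup_left hg₁) (Subgroup.mem_sup_right hg₂), ?_⟩
    have c1 := hc u₁ hu₁ g₂ hg₂
    have c2 := hc g₁⁻¹ (L₁.inv_mem hg₁) (g₂ * u₂ * g₂⁻¹)
      (L₂.mul_mem (L₂.mul_mem hg₂ hu₂) (L₂.inv_mem hg₂))
    calc g₁ * g₂ * (u₁ * u₂) * (g₁ * g₂)⁻¹
        = g₁ * (g₂ * u₁) * u₂ * g₂⁻¹ * g₁⁻¹ := by group
      _ = g₁ * (u₁ * g₂) * u₂ * g₂⁻¹ * g₁⁻¹ := by rw [c1]
      _ = g₁ * u₁ * ((g₂ * u₂ * g₂⁻¹) * g₁⁻¹) := by group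
      _ = g₁ * u₁ * (g₁⁻¹ * (g₂ * u₂ * g₂⁻¹)) := by rw [c2]
      _ = (g₁ * u₁ * g₁⁻¹) * (g₂ * u₂ * g₂⁻¹) := by group
      _ = y₁ * y₂ := by rw [hgu₁, hgu₂]

end Cfsg.Agent.S3209
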