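import Cfsg.Statements.S3222
import Cfsg.Agent.Helper12.S3222Defs
import Cfsg.Agent.Helper12.S3222NORM
import Cfsg.Agent.Helper12.S3222FUS
import Cfsg.Agent.Helper3.D8Class3
-- pieces (board s3222pieces)
import Cfsg.Agent.Helper25.S3222DIH
import Cfsg.Agent.Helper19.S3222ODD
import Cfsg.Agent.Helper5.S3222S4C
import Cfsg.Agent.Helper7.S3222LOCA
import Cfsg.Agent.Helper25.S3222LOCB
import Cfsg.Agent.Helper20.S3222S5C
import Cfsg.Agent.Helper23.S3222L27C
import Cfsg.Agent.Helper29.S3222A6C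

set_option autoImplicit false
open Cfsg

namespace Cfsg.Agent.S3222

open Cfsg.Agent.S3222P

/-- Let G be a finite group of even order such that (1) some involution t lying in the centre of a Sylow 2-subgroup of G has C_G(t) ≅ Z₂ × S₄, and (2) every Sylow 2-subgroup S of G satisfies C_G(S′) = S, where S′ is the derived subgroup of S. Then G = C_G(t) if G is solvable, and G ≅ S₆ otherwise. -/
theorem result {G : Type*} [Group G] [Finite G] (hev : Even (Nat.card G))
    (t : G) (ht : orderOf t = 2) (T : Sylow 2 G) (htT : t ∈ (T : Subgroup G)) (htc : ∀ s ∈ (T : Subgroup G), s * t = t * s)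
    (e : ↥(Subgroup.centralizer ({t} : Set G)) ≃* (Multiplicative (ZMod 2) × Equiv.Perm (Fin 4)))
    (h2 : ∀ S : Sylow 2 G, Subgroup.centralizer ((⁅(S : Subgroup G), (S : Subgroup G)⁆ : Subgroup G) : Set G) = (S : Subgroup G)) :
    (Group.IsSolvable G → Subgroup.centralizer ({t} : Set G) = ⊤) ∧
      (¬ Group.IsSolvable G → Nonempty (G ≃* Equiv.Perm (Fin 6))) := by
  obtain ⟨e', hstd⟩ := NORM t ht T htT htc e
  have L : Local t T := LOCA t ht T htT htc e' hstd
  obtain ⟨z, a, r, F⟩ := LOCB t ht T htT htc e' hstd (h2 T)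
  obtain ⟨M, hMn, hM, htM⟩ := FUS t T z a r L F
  have := hMn
  obtain ⟨zM, hzM, ⟨eM⟩⟩ := DIH t T z a r L F M hM htM
  rcases Cfsg.Agent.Helper3.D8C.classification zM eM hzM with h | ⟨⟨f⟩⟩ | ⟨⟨f⟩⟩ | ⟨hs, h | h⟩
  · exact (ODD t T L M hM htM zM hzM eM h).elim
  · obtain ⟨h1, h2'⟩ := S4C t T L M hM f
    exact ⟨fun _ => h1, fun hns => (hns h2').elim⟩
  · exact (S5C t T L M hM htM zM hzM eM f).elim
  · exact (L27C t T L M hM htM zM hzM eM hs h).elim
  · obtain ⟨g⟩ := A6C t T L M hM htM zM hzM eM hs h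
    refine ⟨fun hsol => ?_, fun _ => ⟨g⟩⟩
    exfalso
    have := hsol
    have h6 : Group.IsSolvable (Equiv.Perm (Fin 6)) :=
      Group.isSolvable_of_surjective (f := g.toMonoidHom) g.surjective
    exact Equiv.Perm.not_isSolvable (Fin 6) (by simp; norm_num) h6

end Cfsg.Agent.S3222
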