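import Cfsg.Statements.S3278
import Cfsg.Agent.S3279
import Cfsg.Agent.Helper10.K4CLOC
import Cfsg.Agent.Helper20.K4CSYL
import Cfsg.Agent.Helper20.K4CFIN
import Cfsg.Agent.Helper7.K4CLOCC
import Cfsg.Agent.Helper23.K4CFUS
import Cfsg.Agent.Helper10.K4CBLK

set_option autoImplicit false
open Cfsg

namespace Cfsg.Agent.S3278

/-- Let G be a finite simple group with an involution x such that a Sylow 2-subgroup of C_G(x) is a Klein four-group which is normal in C_G(x). Then G is isomorphic to the alternating group of degree 5 (that is, to PSL(2, 5)). -/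
theorem result {G : Type*} [Group G] [Finite G] [IsSimpleGroup G] (x : G) (hx : orderOf x = 2)
    (S₀ : Subgroup G) (hle : S₀ ≤ Subgroup.centralizer ({x} : Set G)) (hK : IsKleinFour ↥S₀)
    (hodd : ¬ 2 ∣ S₀.relIndex (Subgroup.centralizer ({x} : Set G))) (hn : (S₀.subgroupOf (Subgroup.centralizer ({x} : Set G))).Normal) :
    Nonempty (G ≃* ↥(alternatingGroup (Fin 5))) := by
  have hmem := Cfsg.Agent.Helper10.K4C.mem_of_pow_two x S₀ hle hK hodd hn
  have hxC : x ∈ Subgroup.centralizer ({x} : Set G) := Subgroup.mem_centralizer_singleton_iff.mpr rfl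
  have hxS : x ∈ S₀ := hmem x hxC 1 (by rw [pow_one, ← hx]; exact pow_orderOf_eq_one x)
  have h3 := Cfsg.Agent.Helper10.K4C.card_involutions_le x S₀ hK hmem
  obtain ⟨⟨S, hS⟩, hone⟩ := Cfsg.Agent.S3279.result x hx h3
  have hSeq := Cfsg.Agent.Helper20.K4C.sylow_eq x S₀ hK hmem S hS
  have hKS : IsKleinFour ↥(S : Subgroup G) := by rw [hSeq]; exact hK
  have hcc := Cfsg.Agent.Helper7.K4C.centralizer_le_centralizer x hx S₀ hle hK hn hxS hmem
  have hceq : Subgroup.centralizer ({x} : Set G) = Subgroup.centralizer ((S : Subgroup G) : Set G) := by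
    rw [hSeq]
    apply le_antisymm hcc
    apply Subgroup.centralizer_le
    simpa using hxS
  have hxS' : x ∈ (S : Subgroup G) := by rw [hSeq]; exact hxS
  have hbound := Cfsg.Agent.Helper10.K4C.card_bound S hKS hone x hxS' hx (by rw [hceq])
  have hfus := Cfsg.Agent.Helper23.K4C.three_mul_card_centralizer_le S hKS hone
  rw [← hceq] at hfus
  -- card facts
  have hcardS : Nat.card (S : Subgroup G) = 4 := IsKleinFour.card_four
  have hSC : (S : Subgroup G) ≤ Subgroup.centralizer ({x} : Set G) := hS
  have hc4 : 4 ∣ Nat.card (Subgroup.centralizer ({x} : Set G)) := by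
    rw [← hcardS]; exact Subgroup.card_dvd_of_le hSC
  have h8 : ¬ 8 ∣ Nat.card G := by
    intro h
    have : Fact (Nat.Prime 2) := ⟨Nat.prime_two⟩
    have h1 := S.card_eq_multiplicity
    rw [hcardS] at h1
    have h2 : (2 : ℕ) ^ 3 ∣ Nat.card G := by norm_num; exact h
    have h3 : 3 ≤ (Nat.card G).factorization 2 :=
      (Nat.Prime.pow_dvd_iff_le_factorization Nat.prime_two Nat.card_pos.ne').mp h2
    have : (2 : ℕ) ^ 3 ≤ 2 ^ (Nat.card G).factorization 2 := Nat.pow_le_pow_right (by norm_num) h3
    omega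
  have hHtop : Subgroup.normalizer ((S : Subgroup G) : Set G) ≠ ⊤ := by
    intro h
    have hnorm : (S : Subgroup G).Normal := Subgroup.normalizer_eq_top_iff.mp h
    rcases hnorm.eq_bot_or_eq_top with hb | ht
    · rw [hb, Subgroup.card_bot] at hcardS; omega
    · -- G = S is a four-group, commutative: not simple nonabelian... use hbound-free argument
      have hG4 : Nat.card G = 4 := by rw [← hcardS, ht, Subgroup.card_top]
      have hp2 : Fact (Nat.Prime 2) := ⟨Nat.prime_two⟩
      have hmc : IsMulCommutative G :=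
        IsPGroup.isMulCommutative_of_card_eq_prime_sq (p := 2) (by rw [hG4]; norm_num)
      have hcomm : ∀ a b : G, a * b = b * a := fun a b => hmc.is_comm.comm a b
      let _ : CommGroup G := { ‹Group G› with mul_comm := hcomm }
      have hp := IsSimpleGroup.prime_card (α := G)
      rw [hG4] at hp
      exact absurd hp (by norm_num)
  exact Cfsg.Agent.Helper20.K4C.iso_A5_of_bound (Subgroup.normalizer ((S : Subgroup G) : Set G)) _ hc4 Nat.card_pos hfus hHtop h8 hbound

end Cfsg.Agent.S3278
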