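import Mathlib
import Cfsg.Statements.S3294
import Cfsg.Agent.Helper16.AutTwoGroup
import Cfsg.Agent.Helper23.PLengthOne
import Cfsg.Agent.Helper14.PCore

set_option autoImplicit false
open Cfsg

namespace Cfsg.Agent.S3294

section quaternion
open QuaternionGroup

variable (N : ℕ) [NeZero N]

theorem a_inv' (i : ZMod (2 * N)) : (a i : QuaternionGroup N)⁻¹ = a (-i) :=
  inv_eq_of_mul_eq_one_right (by rw [a_mul_a, add_neg_cancel, a_zero])

theorem a_mem_C (i : ZMod (2 * N)) : (a i : QuaternionGroup N) ∈ Subgroup.zpowers (a 1) := by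
  rw [Subgroup.mem_zpowers_iff]
  refine ⟨(i.val : ℤ), ?_⟩
  rw [zpow_natCast, a_one_pow, ZMod.natCast_zmod_val]

theorem xa_not_mem_C (i : ZMod (2 * N)) :
    (xa i : QuaternionGroup N) ∉ Subgroup.zpowers (a 1) := by
  intro h
  rw [← mem_powers_iff_mem_zpowers] at h
  obtain ⟨k, hk⟩ := (Submonoid.mem_powers_iff _ _).1 h
  rw [a_one_pow] at hk
  exact absurd hk (by simp)

/-- key criterion inside the quaternion group -/
theorem key (R : Subgroup (QuaternionGroup N)) (x₀ : QuaternionGroup N) (hx₀R : x₀ ∈ R)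
    (hx₀C : x₀ ∈ Subgroup.zpowers (a 1 : QuaternionGroup N)) (k : ℕ) (hk : 3 ≤ k)
    (hord : orderOf x₀ = 2 ^ k)
    (hall : ∀ i, (a i : QuaternionGroup N) ∈ R → a i ∈ Subgroup.zpowers x₀)
    (j : ZMod (2 * N)) (hj : (xa j : QuaternionGroup N) ∈ R) : IsPGroup 2 (MulAut ↥R) := by
  have hmem : ∀ y : ↥R, y ∈ Subgroup.zpowers (⟨x₀, hx₀R⟩ : ↥R) ↔
      (y : QuaternionGroup N) ∈ Subgroup.zpowers x₀ := by
    intro y
    rw [Subgroup.mem_zpowers_iff, Subgroup.mem_zpowers_iff]
    constructor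
    · rintro ⟨t, ht⟩
      exact ⟨t, by rw [← ht]; simp⟩
    · rintro ⟨t, ht⟩
      exact ⟨t, Subtype.ext (by rw [← ht]; simp)⟩
  have hxa_not : ∀ i, (xa i : QuaternionGroup N) ∉ Subgroup.zpowers x₀ := fun i h =>
    xa_not_mem_C N i ((Subgroup.zpowers_le.2 hx₀C) h)
  apply Cfsg.Agent.Helper16.isPGroup_mulAut_of_index_two (⟨x₀, hx₀R⟩ : ↥R) k (by omega)
    (by rw [Subgroup.orderOf_mk]; exact hord)
  · rw [Subgroup.index_eq_two_iff]
    refine ⟨⟨xa j, hj⟩, fun b => ?_⟩
    obtain ⟨b, hb⟩ := b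
    rw [hmem, hmem]
    cases b with
    | a i =>
      simp only [Subgroup.coe_mul, a_mul_xa]
      exact Or.inr ⟨hall i hb, hxa_not _⟩
    | xa i =>
      simp only [Subgroup.coe_mul, xa_mul_xa]
      refine Or.inl ⟨hall _ ?_, hxa_not _⟩
      have := R.mul_mem hb hj
      rwa [xa_mul_xa] at this
  · rintro ⟨g, hg⟩ hgH
    rw [hmem] at hgH
    simp only at hgH
    rw [Subgroup.orderOf_mk]
    cases g with
    | a i => exact absurd (hall i hg) hgH
    | xa i =>
      rw [orderOf_xa]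
      intro h
      have : 2 ^ 3 ≤ 2 ^ k := Nat.pow_le_pow_right (by norm_num) hk
      omega

/-- every normal subgroup of a generalized quaternion group of order at least 32 has a 2-group
as automorphism group -/
theorem quaternion_normal_aut (n : ℕ) (hn : 3 ≤ n) (R : Subgroup (QuaternionGroup (2 ^ n)))
    (hR : R.Normal) : IsPGroup 2 (MulAut ↥R) := by
  classical
  have hne : NeZero (2 ^ n) := ⟨by positivity⟩
  have hQcard : Nat.card (QuaternionGroup (2 ^ n)) = 2 ^ (n + 2) := by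
    rw [Nat.card_eq_fintype_card, QuaternionGroup.card]; ring
  by_cases hxa : ∃ j, (xa j : QuaternionGroup (2 ^ n)) ∈ R
  · obtain ⟨j, hj⟩ := hxa
    have ha2 : (a 2 : QuaternionGroup (2 ^ n)) ∈ R := by
      have h1 : a 1 * xa j * (a 1)⁻¹ ∈ R := hR.conj_mem _ hj _
      rw [a_inv', a_mul_xa, xa_mul_a] at h1
      have h2 := R.mul_mem h1 hj
      rw [xa_mul_xa] at h2
      have h3 : (xa j : QuaternionGroup (2 ^ n)) ^ 2 ∈ R := R.pow_mem hj 2
      rw [xa_sq] at h3
      have h4 := R.mul_mem (R.inv_mem h3) h2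
      rw [a_inv', a_mul_a] at h4
      convert h4 using 2
      ring
    by_cases h1 : (a 1 : QuaternionGroup (2 ^ n)) ∈ R
    · apply key (2 ^ n) R (a 1) h1 (Subgroup.mem_zpowers _) (n + 1) (by omega)
        (by rw [orderOf_a_one, pow_succ]; ring) (fun i _ => a_mem_C _ i) j hj
    · have ha2pow : ∀ t : ℕ, (a 2 : QuaternionGroup (2 ^ n)) ^ t = a ((2 * t : ℕ) : ZMod (2 * 2 ^ n)) := by
        intro t
        have : (a 2 : QuaternionGroup (2 ^ n)) = (a 1) ^ 2 := by
          rw [a_one_pow]; norm_num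
        rw [this, ← pow_mul, a_one_pow]
      apply key (2 ^ n) R (a 2) ha2 (a_mem_C _ 2) n hn ?_ ?_ j hj
      · have : (a 2 : QuaternionGroup (2 ^ n)) = (a 1) ^ 2 := by
          rw [a_one_pow]; norm_num
        rw [this, orderOf_pow, orderOf_a_one]
        have : (2 * 2 ^ n).gcd 2 = 2 := Nat.gcd_eq_right (dvd_mul_right 2 _)
        rw [this]; simp
      · intro i hi
        rcases Nat.even_or_odd' i.val with ⟨t, ht | ht⟩
        · rw [Subgroup.mem_zpowers_iff]
          refine ⟨(t : ℤ), ?_⟩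
          rw [zpow_natCast, ha2pow, ← ht, ZMod.natCast_zmod_val]
        · exfalso
          apply h1
          have h5 : (a 2 : QuaternionGroup (2 ^ n)) ^ t ∈ R := R.pow_mem ha2 t
          rw [ha2pow] at h5
          have h6 := R.mul_mem hi (R.inv_mem h5)
          rw [a_inv', a_mul_a] at h6
          convert h6 using 2
          have : i = ((2 * t + 1 : ℕ) : ZMod (2 * 2 ^ n)) := by
            rw [← ht, ZMod.natCast_zmod_val]
          rw [this]; push_cast; ring
  · push Not at hxa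
    have hle : R ≤ Subgroup.zpowers (a 1 : QuaternionGroup (2 ^ n)) := by
      intro r hr
      cases r with
      | a i => exact a_mem_C _ i
      | xa i => exact absurd hr (hxa i)
    have hcyc : IsCyclic ↥R := Subgroup.isCyclic_of_le hle
    have hdvd : Nat.card ↥R ∣ 2 ^ (n + 2) := by
      rw [← hQcard]; exact Subgroup.card_subgroup_dvd_card R
    obtain ⟨k, -, hk⟩ := (Nat.dvd_prime_pow Nat.prime_two).1 hdvd
    exact Cfsg.Agent.Helper16.isPGroup_mulAut_of_isCyclic k hk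

end quaternion

/-- a group with a normal 2-subgroup `P` containing its centralizer and with `Aut P` a 2-group
is a 2-group -/
theorem isPGroup_of_centralizer_le {K : Type*} [Group K] (P : Subgroup K)
    [hPn : P.Normal] (hP : IsPGroup 2 ↥P) (hC : Subgroup.centralizer (P : Set K) ≤ P)
    (hA : IsPGroup 2 (MulAut ↥P)) : IsPGroup 2 K := by
  intro g
  obtain ⟨k, hk⟩ := hA (MulAut.conjNormal g)
  rw [← map_pow] at hk
  have hcen : g ^ (2 ^ k) ∈ Subgroup.centralizer (P : Set K) := by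
    rw [Subgroup.mem_centralizer_iff]
    intro h hh
    have h1 := congrArg (fun φ : MulAut ↥P => ((φ ⟨h, hh⟩ : ↥P) : K)) hk
    simp only [MulAut.conjNormal_apply, MulAut.one_apply] at h1
    calc h * g ^ 2 ^ k = (g ^ 2 ^ k * h * (g ^ 2 ^ k)⁻¹) * g ^ 2 ^ k := by rw [h1]
      _ = g ^ 2 ^ k * h := by group
  obtain ⟨j, hj⟩ := hP ⟨g ^ (2 ^ k), hC hcen⟩
  refine ⟨k + j, ?_⟩
  have h2 := congrArg Subtype.val hj
  simp only [Subgroup.coe_pow, Subgroup.coe_one] at h2
  rw [pow_add, pow_mul]; exact h2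

/-- a normal subgroup of odd order with 2-group quotient is a normal 2-complement -/
theorem npc_of_quotient_pgroup {G : Type*} [Group G] [Finite G] (N : Subgroup G) [N.Normal]
    (hN : (Nat.card ↥N).Coprime 2) (hQ : IsPGroup 2 (G ⧸ N)) (T : Sylow 2 G) :
    HasNormalPComplement 2 G := by
  have : Fact (Nat.Prime 2) := ⟨Nat.prime_two⟩
  refine ⟨T, N, inferInstance, ?_⟩
  obtain ⟨c, hc⟩ := IsPGroup.iff_card.1 hQ
  have h1 : Nat.card G = Nat.card (G ⧸ N) * Nat.card ↥N :=
    Subgroup.card_eq_card_quotient_mul_card_subgroup N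
  obtain ⟨t, ht⟩ := IsPGroup.iff_card.1 T.2
  have h2 := Subgroup.card_mul_index (T : Subgroup G)
  have h3 : ¬ 2 ∣ (T : Subgroup G).index := T.not_dvd_index
  have h3' : Nat.Coprime (2 ^ c) (T : Subgroup G).index :=
    Nat.Coprime.pow_left c ((Nat.Prime.coprime_iff_not_dvd Nat.prime_two).2 h3)
  have ht' : Nat.card ↥(T : Subgroup G) = 2 ^ t := ht
  rw [ht', h1, hc] at h2
  have htc : t = c := by
    apply le_antisymm
    · have hd : 2 ^ t ∣ 2 ^ c * Nat.card ↥N := ⟨_, h2.symm⟩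
      have hd2 : 2 ^ t ∣ 2 ^ c :=
        (Nat.Coprime.dvd_mul_right (Nat.Coprime.pow_left t hN.symm)).1 hd
      exact (Nat.pow_dvd_pow_iff_le_right (by norm_num)).1 hd2
    · have hd : 2 ^ c ∣ 2 ^ t * (T : Subgroup G).index := ⟨_, h2⟩
      have hd2 : 2 ^ c ∣ 2 ^ t := (Nat.Coprime.dvd_mul_right h3').1 hd
      exact (Nat.pow_dvd_pow_iff_le_right (by norm_num)).1 hd2
  apply Subgroup.isComplement'_of_coprime
  · rw [ht', htc, h1, hc, mul_comm]
  · rw [ht']; exact Nat.Coprime.pow_right _ hN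

/-- automorphism groups of normal 2-subgroups of `G ⧸ N` for `N` of odd order are controlled by
the Sylow 2-subgroup of `G` -/
theorem aut_of_normal_in_quotient {G : Type*} [Group G] [Finite G] (N : Subgroup G) [N.Normal]
    (hN : (Nat.card ↥N).Coprime 2) (T : Sylow 2 G) {Q : Type*} [Group Q]
    (e : ↥(T : Subgroup G) ≃* Q)
    (hQ : ∀ R : Subgroup Q, R.Normal → IsPGroup 2 (MulAut ↥R))
    (P : Subgroup (G ⧸ N)) [P.Normal] (hP : IsPGroup 2 ↥P) : IsPGroup 2 (MulAut ↥P) := by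
  have : Fact (Nat.Prime 2) := ⟨Nat.prime_two⟩
  have hT' : ((T.mapSurjective (QuotientGroup.mk'_surjective N) : Sylow 2 (G ⧸ N)) :
      Subgroup (G ⧸ N)) = (T : Subgroup G).map (QuotientGroup.mk' N) :=
    Sylow.coe_mapSurjective _ _
  have hle : P ≤ (T : Subgroup G).map (QuotientGroup.mk' N) := by
    rw [← hT']; exact hP.le_sylow_of_normal _
  have hinj : Function.Injective ((QuotientGroup.mk' N).subgroupMap (T : Subgroup G)) := by
    rw [injective_iff_map_eq_one]
    rintro ⟨x, hx⟩ h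
    have h1 : (QuotientGroup.mk' N) x = 1 := by
      have := congrArg Subtype.val h
      simpa using this
    rw [QuotientGroup.mk'_apply, QuotientGroup.eq_one_iff] at h1
    have hx1 : x = 1 := by
      obtain ⟨k, hk⟩ := T.2 ⟨x, hx⟩
      have hk' : x ^ (2 ^ k) = 1 := by simpa using congrArg Subtype.val hk
      have hd1 : orderOf x ∣ 2 ^ k := orderOf_dvd_of_pow_eq_one hk'
      have hd2 : orderOf x ∣ Nat.card ↥N := Subgroup.orderOf_dvd_natCard N h1
      have h3 : orderOf x ∣ Nat.gcd (2 ^ k) (Nat.card ↥N) := Nat.dvd_gcd hd1 hd2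
      rw [Nat.Coprime.gcd_eq_one (Nat.Coprime.pow_left k hN.symm)] at h3
      exact orderOf_eq_one_iff.1 (Nat.dvd_one.1 h3)
    exact Subtype.ext hx1
  let e₁ : ↥(T : Subgroup G) ≃* ↥((T : Subgroup G).map (QuotientGroup.mk' N)) :=
    MulEquiv.ofBijective _ ⟨hinj, (QuotientGroup.mk' N).subgroupMap_surjective _⟩
  let e₂ : ↥((T : Subgroup G).map (QuotientGroup.mk' N)) ≃* Q := e₁.symm.trans e
  have hP₁n : (P.subgroupOf ((T : Subgroup G).map (QuotientGroup.mk' N))).Normal :=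
    inferInstance
  have hRn : ((P.subgroupOf ((T : Subgroup G).map (QuotientGroup.mk' N))).map
      e₂.toMonoidHom).Normal := hP₁n.map _ e₂.surjective
  have hA := hQ _ hRn
  let i₁ : ↥(P.subgroupOf ((T : Subgroup G).map (QuotientGroup.mk' N))) ≃* ↥P :=
    Subgroup.subgroupOfEquivOfLe hle
  let i₂ : ↥(P.subgroupOf ((T : Subgroup G).map (QuotientGroup.mk' N))) ≃*
      ↥((P.subgroupOf ((T : Subgroup G).map (QuotientGroup.mk' N))).map e₂.toMonoidHom) :=
    (P.subgroupOf _).equivMapOfInjective e₂.toMonoidHom e₂.injective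
  exact hA.of_equiv (MulAut.congr (i₂.symm.trans i₁))

theorem result {G : Type*} [Group G] [Finite G] (hsol : Group.IsSolvable G) (T : Sylow 2 G) (n : ℕ) (hn : 3 ≤ n) (hT : Nonempty ((T : Subgroup G) ≃* QuaternionGroup (2 ^ n))) : Cfsg.HasNormalPComplement 2 G := by
  classical
  have : Fact (Nat.Prime 2) := ⟨Nat.prime_two⟩
  obtain ⟨e⟩ := hT
  have hN : (Nat.card ↥(pPrimeCore 2 G)).Coprime 2 :=
    Cfsg.Agent.Helper23.pPrimeCore_card_coprime 2 G
  have hC := Cfsg.Agent.Helper23.centralizer_pCore_quotient_le 2 G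
  have hP : IsPGroup 2 ↥(pCore 2 (G ⧸ pPrimeCore 2 G)) := Cfsg.Agent.Helper23.pCore_isPGroup 2 _
  have hA : IsPGroup 2 (MulAut ↥(pCore 2 (G ⧸ pPrimeCore 2 G))) :=
    aut_of_normal_in_quotient (pPrimeCore 2 G) hN T e
      (fun R hR => quaternion_normal_aut n hn R hR) _ hP
  have hQ : IsPGroup 2 (G ⧸ pPrimeCore 2 G) := isPGroup_of_centralizer_le _ hP hC hA
  exact npc_of_quotient_pgroup (pPrimeCore 2 G) hN hQ T

end Cfsg.Agent.S3294
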