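import Cfsg.Statements.S3299
import Cfsg.Agent.Helper17.LargeES

set_option autoImplicit false
open Cfsg

namespace Cfsg.Agent.S3299

/-- Let G be a finite group with no nontrivial 2-group quotient (O^2(G) = G), z an involution of G with H = C_G(z), and suppose E = O_2(H) is extraspecial with C_G(E) ≤ E and of order 2^(2n+1) with n ≥ 2. Then E is contained in every normal subgroup of H of index 2. -/
theorem result {G : Type*} [Group G] [Finite G] (hres : Cfsg.pResidual 2 G = ⊤) (z : G) (hz : orderOf z = 2)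
    (E : Subgroup G) (hE : E = (Cfsg.pCore 2 ↥(Subgroup.centralizer ({z} : Set G))).map (Subgroup.centralizer ({z} : Set G)).subtype)
    (hext : Cfsg.IsExtraspecial 2 ↥E) (hcent : Subgroup.centralizer (E : Set G) ≤ E) (n : ℕ) (hn : 2 ≤ n) (hcard : Nat.card ↥E = 2 ^ (2 * n + 1))
    (K : Subgroup G) (hKH : K ≤ Subgroup.centralizer ({z} : Set G))
    (hKn : ∀ h ∈ Subgroup.centralizer ({z} : Set G), K.map (MulAut.conj h).toMonoidHom = K)
    (hKi : K.relIndex (Subgroup.centralizer ({z} : Set G)) = 2) : E ≤ K := by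
  classical
  have hzz : z * z = 1 := by rw [← sq, ← hz]; exact pow_orderOf_eq_one z
  have hz1 : z ≠ 1 := by intro h; rw [h, orderOf_one] at hz; omega
  obtain ⟨hES, hEH, hnorm, hE2⟩ := Cfsg.Agent.Helper17.LES.setup z hz E hE hext hcent
  have hcard8 : 8 < Nat.card E := by
    rw [hcard]
    calc 8 < 2 ^ 5 := by norm_num
      _ ≤ 2 ^ (2 * n + 1) := Nat.pow_le_pow_right (by norm_num) (by omega)
  obtain ⟨ϕ, hϕ⟩ := Cfsg.Agent.Helper17.LES.exists_sign_hom (Subgroup.centralizer ({z} : Set G)) K hKi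
  intro e he
  by_contra heK
  have hneg : ∀ x (hx : x ∈ Subgroup.centralizer ({z} : Set G)), x ∉ K → ϕ ⟨x, hx⟩ = -1 := by
    intro x hx hxK
    rcases Int.units_eq_one_or (ϕ ⟨x, hx⟩) with h | h
    · exact absurd ((hϕ _).mp h) hxK
    · exact h
  have hidx : ∀ x ∈ E, ∀ x' ∈ E, x ∉ K → x' ∉ K → x⁻¹ * x' ∈ K := by
    intro x hx x' hx' hxK hx'K
    have h1 := hneg x (hEH hx) hxK
    have h2 := hneg x' (hEH hx') hx'K
    have h3 : ϕ (⟨x, hEH hx⟩⁻¹ * ⟨x', hEH hx'⟩) = 1 := by
      rw [map_mul, map_inv, h1, h2]; decide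
    exact (hϕ _).mp h3
  obtain ⟨u, hu, huu, huK⟩ := hES.exists_involution_not_mem hcard8 K hidx ⟨e, he, heK⟩
  have hker := Cfsg.Agent.Helper17.LES.involution_mem_ker hres z E hES _ rfl hEH hnorm hcent hcard8 hE2
    ϕ (-1) (by decide) (fun a _ => Int.units_eq_one_or a)
    (fun a => ⟨1, by rw [pow_one, sq]; exact Int.units_mul_self a⟩) u hu huu
  rw [Cfsg.Agent.Helper17.TP.ext_of_mem ϕ (hEH hu)] at hker
  exact huK ((hϕ _).mp hker)

end Cfsg.Agent.S3299
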