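import Cfsg.Statements.S3305
import Cfsg.Agent.Helper16.LiftPGroup

set_option autoImplicit false
open Cfsg

namespace Cfsg.Agent.S3305

/-- If any two distinct Sylow 2-subgroups of the finite group G intersect in a cyclic group, then the same holds in every quotient group G/H, H a normal subgroup of G. -/
theorem result {G : Type*} [Group G] [Finite G]
    (hC : ∀ S T : Sylow 2 G, S ≠ T → IsCyclic ↥((S : Subgroup G) ⊓ (T : Subgroup G))) (H : Subgroup G) [H.Normal] :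
    ∀ S T : Sylow 2 (G ⧸ H), S ≠ T → IsCyclic ↥((S : Subgroup (G ⧸ H)) ⊓ (T : Subgroup (G ⧸ H))) := by
  have : Fact (Nat.Prime 2) := ⟨Nat.prime_two⟩
  intro S' T' hne
  have hπ : Function.Surjective (QuotientGroup.mk' H) := QuotientGroup.mk'_surjective H
  have hD'2 : IsPGroup 2 ↥((S' : Subgroup (G ⧸ H)) ⊓ (T' : Subgroup (G ⧸ H))) :=
    S'.2.to_le inf_le_left
  obtain ⟨D₀, hD₀2, _, hD₀map⟩ := Cfsg.Agent.Helper16.exists_pgroup_lift (QuotientGroup.mk' H) hπ 2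
    _ hD'2 ⊥ IsPGroup.of_bot (by simp)
  obtain ⟨S₀, hS₀2, hDS₀, hS₀map⟩ := Cfsg.Agent.Helper16.exists_pgroup_lift (QuotientGroup.mk' H)
    hπ 2 (S' : Subgroup (G ⧸ H)) S'.2 D₀ hD₀2 (by rw [hD₀map]; exact inf_le_left)
  obtain ⟨T₀, hT₀2, hDT₀, hT₀map⟩ := Cfsg.Agent.Helper16.exists_pgroup_lift (QuotientGroup.mk' H)
    hπ 2 (T' : Subgroup (G ⧸ H)) T'.2 D₀ hD₀2 (by rw [hD₀map]; exact inf_le_right)
  obtain ⟨S₁, hS₁⟩ := hS₀2.exists_le_sylow
  obtain ⟨T₁, hT₁⟩ := hT₀2.exists_le_sylow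
  have hS₁map : (S₁ : Subgroup G).map (QuotientGroup.mk' H) = (S' : Subgroup (G ⧸ H)) := by
    have h1 : (S' : Subgroup (G ⧸ H)) ≤ (S₁ : Subgroup G).map (QuotientGroup.mk' H) := by
      rw [← hS₀map]; exact Subgroup.map_mono hS₁
    exact S'.3 (S₁.2.map _) h1
  have hT₁map : (T₁ : Subgroup G).map (QuotientGroup.mk' H) = (T' : Subgroup (G ⧸ H)) := by
    have h1 : (T' : Subgroup (G ⧸ H)) ≤ (T₁ : Subgroup G).map (QuotientGroup.mk' H) := by
      rw [← hT₀map]; exact Subgroup.map_mono hT₁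
    exact T'.3 (T₁.2.map _) h1
  have hne' : S₁ ≠ T₁ := by
    rintro rfl
    apply hne
    apply Sylow.ext
    rw [← hS₁map, ← hT₁map]
  have hcyc := hC S₁ T₁ hne'
  have hD₀le : D₀ ≤ (S₁ : Subgroup G) ⊓ (T₁ : Subgroup G) :=
    le_inf (hDS₀.trans hS₁) (hDT₀.trans hT₁)
  have hD₀cyc : IsCyclic D₀ := by
    have h1 : IsCyclic (D₀.subgroupOf ((S₁ : Subgroup G) ⊓ (T₁ : Subgroup G))) :=
      Subgroup.isCyclic _
    exact isCyclic_of_surjective (Subgroup.subgroupOfEquivOfLe hD₀le).toMonoidHom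
      (Subgroup.subgroupOfEquivOfLe hD₀le).surjective
  rw [← hD₀map]
  exact isCyclic_of_surjective ((QuotientGroup.mk' H).subgroupMap D₀)
    ((QuotientGroup.mk' H).subgroupMap_surjective D₀)

end Cfsg.Agent.S3305
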