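import Cfsg.Statements.S3303
import Mathlib
import Cfsg.Agent.S3305
import Cfsg.Agent.S0044
import Cfsg.Agent.S0009
import Cfsg.Agent.Helper7.PPrimeCore
import Cfsg.Agent.Helper14.PCore
import Cfsg.Agent.Helper11.Transfer

set_option autoImplicit false
open Cfsg

namespace Cfsg.Agent.S3303

/-- a finite solvable group with trivial odd core and cyclic `O₂` is a 2-group -/
theorem isPGroup_of_cyclic_pCore {Q : Type*} [Group Q] [Finite Q] [Group.IsSolvable Q]
    (hO : Cfsg.pPrimeCore 2 Q = ⊥) (hcyc : IsCyclic (Cfsg.pCore 2 Q)) : IsPGroup 2 Q := by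
  have : Fact (Nat.Prime 2) := ⟨Nat.prime_two⟩
  -- F(Q) ≤ O₂(Q)
  have hF : Cfsg.fittingSubgroup Q ≤ Cfsg.pCore 2 Q := by
    rw [Cfsg.Agent.S0009.result]
    apply iSup_le
    intro p
    by_cases hp2 : (p : ℕ) = 2
    · rw [hp2]
    · have : Fact (Nat.Prime (p : ℕ)) := ⟨p.2⟩
      have hpg : IsPGroup (p : ℕ) (Cfsg.pCore (p : ℕ) Q) := Cfsg.Agent.Helper14.pCore_isPGroup _
      obtain ⟨k, hk⟩ := IsPGroup.iff_card.mp hpg
      have hcop : (Nat.card (Cfsg.pCore (p : ℕ) Q)).Coprime 2 := by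
        rw [hk]
        apply Nat.Coprime.pow_left
        rw [Nat.coprime_primes p.2 Nat.prime_two]
        exact hp2
      have := Cfsg.Agent.Helper7.le_pPrimeCore (Cfsg.Agent.Helper14.pCore_normal (p : ℕ)) hcop
      rw [hO] at this
      exact this.trans bot_le
  have hCF := Cfsg.Agent.S0044.result (G := Q)
  have hCQ : Subgroup.centralizer (Cfsg.pCore 2 Q : Set Q) ≤ Cfsg.pCore 2 Q := by
    refine le_trans ?_ (hCF.trans hF)
    exact Subgroup.centralizer_le hF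
  -- index of the centralizer divides |Aut|
  have hdvd := Cfsg.Agent.Helper11.relIndex_centralizer_normalizer_dvd_card_mulAut (Cfsg.pCore 2 Q)
  have hnorm : Subgroup.normalizer (Cfsg.pCore 2 Q : Set Q) = ⊤ :=
    Subgroup.normalizer_eq_top_iff.mpr (Cfsg.Agent.Helper14.pCore_normal 2)
  rw [hnorm, Subgroup.relIndex_top_right] at hdvd
  have hQ2 : IsPGroup 2 (Cfsg.pCore 2 Q) := Cfsg.Agent.Helper14.pCore_isPGroup 2
  obtain ⟨k, hk⟩ := IsPGroup.iff_card.mp hQ2
  have haut : ∃ j, Nat.card (MulAut (Cfsg.pCore 2 Q)) = 2 ^ j := by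
    rw [IsCyclic.card_mulAut, hk]
    rcases k with _ | k
    · exact ⟨0, by simp⟩
    · exact ⟨k, by rw [Nat.totient_prime_pow Nat.prime_two (by omega)]; simp⟩
  obtain ⟨j, hj⟩ := haut
  rw [hj] at hdvd
  obtain ⟨i, _, hi⟩ := (Nat.dvd_prime_pow Nat.prime_two).mp hdvd
  have hCcard := Subgroup.card_dvd_of_le hCQ
  rw [hk] at hCcard
  obtain ⟨l, _, hl⟩ := (Nat.dvd_prime_pow Nat.prime_two).mp hCcard
  have := (Subgroup.centralizer (Cfsg.pCore 2 Q : Set Q)).card_mul_index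
  rw [hi, hl] at this
  exact IsPGroup.of_card (n := l + i) (by rw [← this, pow_add])

/-- Let G be a finite solvable group in which the intersection of any two distinct Sylow 2-subgroups is cyclic. Then G/O(G) has a normal Sylow 2-subgroup, where O(G) is the largest normal subgroup of odd order. -/
theorem result {G : Type*} [Group G] [Finite G] (hs : Group.IsSolvable G)
    (hC : ∀ S T : Sylow 2 G, S ≠ T → IsCyclic ↥((S : Subgroup G) ⊓ (T : Subgroup G))) :
    ∃ P : Sylow 2 (G ⧸ Cfsg.oddCore G), (P : Subgroup (G ⧸ Cfsg.oddCore G)).Normal := by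
  have : Fact (Nat.Prime 2) := ⟨Nat.prime_two⟩
  have hsolv : Group.IsSolvable (G ⧸ Cfsg.oddCore G) := inferInstance
  have hCq := Cfsg.Agent.S3305.result hC (Cfsg.oddCore G)
  have hO : Cfsg.pPrimeCore 2 (G ⧸ Cfsg.oddCore G) = ⊥ :=
    Cfsg.Agent.Helper7.pPrimeCore_quotient_eq_bot 2
  obtain ⟨P⟩ : Nonempty (Sylow 2 (G ⧸ Cfsg.oddCore G)) := inferInstance
  refine ⟨P, ?_⟩
  have hsub : Subsingleton (Sylow 2 (G ⧸ Cfsg.oddCore G)) := by
    constructor
    intro S T
    by_contra hne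
    have hcyc := hCq S T hne
    have hle : Cfsg.pCore 2 (G ⧸ Cfsg.oddCore G) ≤
        (S : Subgroup (G ⧸ Cfsg.oddCore G)) ⊓ (T : Subgroup (G ⧸ Cfsg.oddCore G)) :=
      le_inf (Cfsg.Agent.Helper14.pCore_le_sylow 2 S) (Cfsg.Agent.Helper14.pCore_le_sylow 2 T)
    have hQcyc : IsCyclic (Cfsg.pCore 2 (G ⧸ Cfsg.oddCore G)) := by
      have h1 : IsCyclic ((Cfsg.pCore 2 (G ⧸ Cfsg.oddCore G)).subgroupOf
          ((S : Subgroup (G ⧸ Cfsg.oddCore G)) ⊓ (T : Subgroup (G ⧸ Cfsg.oddCore G)))) :=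
        Subgroup.isCyclic _
      exact isCyclic_of_surjective (Subgroup.subgroupOfEquivOfLe hle).toMonoidHom
        (Subgroup.subgroupOfEquivOfLe hle).surjective
    have h2 := isPGroup_of_cyclic_pCore hO hQcyc
    have hS : (S : Subgroup (G ⧸ Cfsg.oddCore G)) = ⊤ := (S.3 (h2.to_subgroup ⊤) le_top).symm
    have hT : (T : Subgroup (G ⧸ Cfsg.oddCore G)) = ⊤ := (T.3 (h2.to_subgroup ⊤) le_top).symm
    exact hne (Sylow.ext (hS.trans hT.symm))
  exact Sylow.normal_of_subsingleton P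

end Cfsg.Agent.S3303
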