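import Cfsg.Statements.S3304
-- import your own Cfsg.Agent.* helpers here
import Mathlib
import Cfsg.Agent.Helper16.RankOneSolv
import Cfsg.Agent.Helper16.RankLift

set_option autoImplicit false
open Cfsg

namespace Cfsg.Agent.S3304

/-- Let G be a finite solvable group in which the intersection of any two distinct Sylow 2-subgroups has 2-rank at most 1 (contains no Klein four-group). Write Q = G/O(G), O(G) the largest normal subgroup of odd order. Then Q has a normal Sylow 2-subgroup; or Q is isomorphic to GL(2,3); or Q has order 48, centre of order 2 with central quotient isomorphic to the symmetric group of degree 4, and generalized quaternion Sylow 2-subgroups of order 16 (the binary octahedral group). The last two are the two representation groups of the symmetric group of degree 4. -/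
theorem result {G : Type*} [Group G] [Finite G] (hs : Group.IsSolvable G)
    (hI : ∀ S T : Sylow 2 G, S ≠ T → Cfsg.PRankLE 2 1 ↥((S : Subgroup G) ⊓ (T : Subgroup G))) :
    (∃ P : Sylow 2 (G ⧸ Cfsg.oddCore G), (P : Subgroup (G ⧸ Cfsg.oddCore G)).Normal) ∨
    Nonempty ((G ⧸ Cfsg.oddCore G) ≃* GL (Fin 2) (ZMod 3)) ∨
    (Nat.card (G ⧸ Cfsg.oddCore G) = 48 ∧ Nat.card ↥(Subgroup.center (G ⧸ Cfsg.oddCore G)) = 2 ∧
      Nonempty ((G ⧸ Cfsg.oddCore G) ⧸ Subgroup.center (G ⧸ Cfsg.oddCore G) ≃* Equiv.Perm (Fin 4)) ∧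
      ∀ P : Sylow 2 (G ⧸ Cfsg.oddCore G), Nonempty (↥(P : Subgroup (G ⧸ Cfsg.oddCore G)) ≃* QuaternionGroup 4)) := by
  have : Fact (Nat.Prime 2) := ⟨Nat.prime_two⟩
  have hsolX : Group.IsSolvable (G ⧸ Cfsg.oddCore G) := inferInstance
  have hO : Cfsg.oddCore (G ⧸ Cfsg.oddCore G) = ⊥ :=
    Cfsg.Agent.Helper7.pPrimeCore_quotient_eq_bot 2
  by_cases hcl : ∃ P : Sylow 2 (G ⧸ Cfsg.oddCore G), (P : Subgroup (G ⧸ Cfsg.oddCore G)).Normal
  · exact Or.inl hcl
  right
  have hR : Cfsg.PRankLE 2 1 ↥(Cfsg.pCore 2 (G ⧸ Cfsg.oddCore G)) := by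
    obtain ⟨S'⟩ : Nonempty (Sylow 2 (G ⧸ Cfsg.oddCore G)) := inferInstance
    have hex : ∃ T' : Sylow 2 (G ⧸ Cfsg.oddCore G), S' ≠ T' := by
      by_contra hcon
      push Not at hcon
      apply hcl
      refine ⟨S', ?_⟩
      rw [← Subgroup.normalizer_eq_top_iff]
      apply top_unique
      intro g _
      exact Sylow.smul_eq_iff_mem_normalizer.mp (hcon _).symm
    obtain ⟨T', hne⟩ := hex
    intro A hAc hA2
    have h1 := Cfsg.Agent.Helper16.RankLift.lift_rank hI S' T' hne
      (A.map (Cfsg.pCore 2 (G ⧸ Cfsg.oddCore G)).subtype)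
      ((Subgroup.map_subtype_le _).trans (Cfsg.Agent.Helper14.pCore_le_sylow 2 S'))
      ((Subgroup.map_subtype_le _).trans (Cfsg.Agent.Helper14.pCore_le_sylow 2 T'))
      (by
        rintro _ ⟨a, ha, rfl⟩ _ ⟨b, hb, rfl⟩
        have := hAc.is_comm.comm ⟨a, ha⟩ ⟨b, hb⟩
        have h2 : a * b = b * a := congrArg Subtype.val this
        exact congrArg Subtype.val h2)
      (by
        rintro _ ⟨a, ha, rfl⟩
        have h2 := hA2 a ha
        rw [pow_two] at h2
        exact congrArg Subtype.val h2)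
    rw [Subgroup.card_map_of_injective (Subgroup.subtype_injective _)] at h1
    rw [pow_one]; exact h1
  rcases Cfsg.Agent.Helper16.RankOneSolv.analysis hsolX hO hR with h | h | h
  · exact absurd h hcl
  · exact Or.inl h
  · exact Or.inr h

end Cfsg.Agent.S3304
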