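import Cfsg.Statements.S3349
import Mathlib
-- import your own Cfsg.Agent.* helpers here

set_option autoImplicit false
open Cfsg
open scoped commutatorElement

namespace Cfsg.Agent.S3349

/-- Let Q be a finite extraspecial p-group and α an automorphism of Q fixing every element of some maximal abelian subgroup of Q. Then the order of α is a power of p. -/
theorem result {Q : Type*} [Group Q] [Finite Q]
    (p : ℕ) [Fact p.Prime] (hQ : Cfsg.IsExtraspecial p Q) (α : MulAut Q)
    (A : Subgroup Q) (hA : IsMulCommutative A) (hmax : ∀ B : Subgroup Q, A ≤ B → IsMulCommutative B → B = A)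
    (hfix : ∀ a ∈ A, α a = a) :
    ∃ k : ℕ, orderOf α = p ^ k := by
  classical
  obtain ⟨⟨hP, _hfr, hcomm⟩, _hc⟩ := hQ
  -- C_Q(A) = A
  have hcent : ∀ x : Q, (∀ a ∈ A, x * a = a * x) → x ∈ A := by
    intro x hx
    set B : Subgroup Q := Subgroup.closure ((A : Set Q) ∪ {x}) with hB
    have hAB : A ≤ B := by
      intro a ha
      exact Subgroup.subset_closure (Or.inl ha)
    have hxB : x ∈ B := Subgroup.subset_closure (Or.inr rfl)
    have hgen : ∀ u ∈ ((A : Set Q) ∪ {x}), ∀ v ∈ ((A : Set Q) ∪ {x}), u * v = v * u := by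
      intro u hu v hv
      rcases hu with hu | hu <;> rcases hv with hv | hv
      · exact congrArg Subtype.val (hA.is_comm.comm ⟨u, hu⟩ ⟨v, hv⟩)
      · rw [Set.mem_singleton_iff] at hv; subst hv; exact (hx u hu).symm
      · rw [Set.mem_singleton_iff] at hu; subst hu; exact hx v hv
      · rw [Set.mem_singleton_iff] at hu hv; subst hu; subst hv; rfl
    have hBc : IsMulCommutative B := by
      refine ⟨⟨?_⟩⟩
      rintro ⟨u, hu⟩ ⟨v, hv⟩
      apply Subtype.ext
      show u * v = v * u
      exact Subgroup.closure_induction₂ (p := fun u v _ _ => u * v = v * u)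
        (fun u v hu hv => hgen u hu v hv)
        (fun u _ => by simp) (fun u _ => by simp)
        (fun u v w _ _ _ h1 h2 => by rw [mul_assoc, h2, ← mul_assoc, h1, mul_assoc])
        (fun u v w _ _ _ h1 h2 => by rw [← mul_assoc, h1, mul_assoc, h2, ← mul_assoc])
        (fun u v _ _ h => by
          have : u⁻¹ * (u * v) * u⁻¹ = u⁻¹ * (v * u) * u⁻¹ := by rw [h]
          simpa [mul_assoc] using this.symm)
        (fun u v _ _ h => by
          have : v⁻¹ * (u * v) * v⁻¹ = v⁻¹ * (v * u) * v⁻¹ := by rw [h]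
          simpa [mul_assoc] using this.symm)
        hu hv
    have := hmax B hAB hBc
    rw [← this]; exact hxB
  -- x⁻¹ * α x ∈ A
  have hy : ∀ x : Q, x⁻¹ * α x ∈ A := by
    intro x
    apply hcent
    intro a ha
    have hc : ⁅x, a⁆ ∈ Subgroup.center Q := by
      rw [← hcomm]
      exact Subgroup.commutator_mem_commutator (Subgroup.mem_top x) (Subgroup.mem_top a)
    have hcA : ⁅x, a⁆ ∈ A := by
      apply hcent
      intro b _
      exact (Subgroup.mem_center_iff.mp hc b).symm
    have h1 : α ⁅x, a⁆ = ⁅x, a⁆ := hfix _ hcA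
    have h2 : α ⁅x, a⁆ = ⁅α x, a⁆ := by
      rw [map_commutatorElement, hfix a ha]
    rw [h2] at h1
    simp only [commutatorElement_def] at h1
    -- α x * a * (α x)⁻¹ * a⁻¹ = x * a * x⁻¹ * a⁻¹
    have h3 : α x * a * (α x)⁻¹ = x * a * x⁻¹ := by
      have := congrArg (· * a) h1
      simpa [mul_assoc] using this
    have h4 : x⁻¹ * (α x * a * (α x)⁻¹) * α x = x⁻¹ * (x * a * x⁻¹) * α x := by rw [h3]
    simpa [mul_assoc] using h4
  -- α^k x = x * y^k
  have hpow : ∀ (k : ℕ) (x : Q), (α ^ k) x = x * (x⁻¹ * α x) ^ k := by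
    intro k
    induction k with
    | zero => intro x; simp
    | succ k ih =>
      intro x
      rw [pow_succ', MulAut.mul_apply, ih x, map_mul, map_pow, hfix _ (hy x), pow_succ']
      simp [mul_assoc]
  have hfinA : Nat.card A ≠ 0 := Nat.card_pos.ne'
  have hαpow : α ^ Nat.card A = 1 := by
    ext x
    rw [hpow, MulAut.one_apply]
    have hh : ((⟨x⁻¹ * α x, hy x⟩ : A)) ^ Nat.card A = 1 := pow_card_eq_one'
    have h' : (x⁻¹ * α x) ^ Nat.card A = 1 := by
      have h'' := congrArg Subtype.val hh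
      rw [Subgroup.coe_pow] at h''
      exact h'' 
    rw [h', mul_one]
  have hdvd : orderOf α ∣ Nat.card A := orderOf_dvd_of_pow_eq_one hαpow
  have hApg : IsPGroup p A := hP.to_subgroup A
  obtain ⟨m, hm⟩ := hApg.exists_card_eq
  rw [hm] at hdvd
  obtain ⟨k, _, hk⟩ := (Nat.dvd_prime_pow (Fact.out)).mp hdvd
  exact ⟨k, hk⟩

end Cfsg.Agent.S3349
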