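import Cfsg.Statements.S3358
-- import your own Cfsg.Agent.* helpers here
import Mathlib
import Cfsg.Agent.S0035
import Cfsg.Agent.Helper1.FrobeniusCompl
import Cfsg.Agent.Helper16.FCS4b
import Cfsg.Agent.Helper16.ZPres2

set_option autoImplicit false
open Cfsg

namespace Cfsg.Agent.S3358

/-- Structure of solvable Frobenius complements. Let G be a finite solvable group that occurs as a Frobenius complement. Then G has a normal subgroup G₀ such that G/G₀ is isomorphic to a subgroup of Sym(4) (G₀ is the kernel of a homomorphism to Sym(4)), all Sylow subgroups of G₀ are cyclic, and G₀ has a presentation ⟨x, y | x^n = 1, y^m = 1, x⁻¹ y x = y^r⟩ with n, m ≥ 1, gcd(r − 1, m) = gcd(n, m) = 1 and r^(n/n′) ≡ 1 (mod m), where n′ is the product of the distinct primes dividing n. -/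
theorem result {G : Type*} [Group G] [Finite G] (hsol : Group.IsSolvable G)
    (hFC : ∃ (L : Type) (_ : Group L) (_ : Finite L) (H : Subgroup L), Cfsg.IsFrobeniusComplement H ∧ Nonempty (G ≃* H)) :
    ∃ G₀ : Subgroup G, G₀.Normal ∧
      (∃ f : G →* Equiv.Perm (Fin 4), f.ker = G₀) ∧
      (∀ (p : ℕ) [Fact p.Prime] (P : Sylow p G₀), IsCyclic P) ∧
      ∃ n m r : ℕ, 0 < n ∧ 0 < m ∧ Nat.Coprime (r - 1) m ∧ Nat.Coprime n m ∧ 1 ≤ r ∧
        r ^ (n / ∏ p ∈ n.primeFactors, p) % m = 1 % m ∧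
        Nonempty (G₀ ≃* PresentedGroup
          ({FreeGroup.of (0 : Fin 2) ^ n, FreeGroup.of (1 : Fin 2) ^ m,
            (FreeGroup.of (0 : Fin 2))⁻¹ * FreeGroup.of 1 * FreeGroup.of 0 * (FreeGroup.of (1 : Fin 2) ^ r)⁻¹} :
            Set (FreeGroup (Fin 2)))) := by
  classical
  obtain ⟨L, hLg, hLf, H, hH, ⟨e⟩⟩ := hFC
  obtain ⟨N, hN, hNn, -⟩ := Cfsg.Agent.S0035.result H hH
  have : Group.IsSolvable G := hsol
  let ι : G →* L := H.subtype.comp e.toMonoidHom
  have hι : Function.Injective ι := H.subtype_injective.comp e.injective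
  have hιH : ∀ A : Subgroup G, A.map ι ≤ H := by
    rintro A _ ⟨a, -, rfl⟩
    exact (e a).2
  have hAC : ∀ A : Subgroup G, IsMulCommutative A → IsCyclic A := by
    intro A hA
    have h1 : IsMulCommutative (A.map ι) := Subgroup.map_isMulCommutative A ι
    have h2 : IsCyclic (A.map ι) :=
      Cfsg.Agent.Helper1.frob_compl_subgroup_cyclic hH hN (A.map ι) (hιH A) (Or.inl h1)
    have eq := Subgroup.equivMapOfInjective A ι hι
    exact isCyclic_of_surjective eq.symm eq.symm.surjective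
  have hpq : ∀ A : Subgroup G, ∀ p q : ℕ, p.Prime → q.Prime → Nat.card A = p * q →
      IsCyclic A := by
    intro A p q hp hq hcard
    have h2 : IsCyclic (A.map ι) :=
      Cfsg.Agent.Helper1.frob_compl_subgroup_cyclic hH hN (A.map ι) (hιH A)
        (Or.inr ⟨p, q, hp, hq, by rw [Subgroup.card_map_of_injective hι, hcard]⟩)
    have eq := Subgroup.equivMapOfInjective A ι hι
    exact isCyclic_of_surjective eq.symm eq.symm.surjective
  obtain ⟨G₀, hG₀n, hf, hSyl⟩ := Cfsg.Agent.Helper16.FCS4.exists_G0 hAC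
  have hZ : IsZGroup G₀ := ⟨fun p hp P => by
    have : Fact p.Prime := ⟨hp⟩
    exact hSyl p P⟩
  have hpq₀ : ∀ A : Subgroup G₀, ∀ p q : ℕ, p.Prime → q.Prime → Nat.card A = p * q →
      IsCyclic A := by
    intro A p q hp hq hcard
    have h2 : IsCyclic (A.map G₀.subtype) := hpq _ p q hp hq
      (by rw [Subgroup.card_map_of_injective G₀.subtype_injective, hcard])
    have eq := Subgroup.equivMapOfInjective A G₀.subtype G₀.subtype_injective
    exact isCyclic_of_surjective eq.symm eq.symm.surjective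
  obtain ⟨n, m, r, hn, hm, h1, h2, h3, h4, h5⟩ := Cfsg.Agent.Helper16.ZPres.zgroup_pres hpq₀
  exact ⟨G₀, hG₀n, hf, fun p _ P => hSyl p P, n, m, r, hn, hm, h1, h2, h3, h4, h5⟩

end Cfsg.Agent.S3358
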