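import Cfsg.Statements.S3361
import Cfsg.Agent.Helper24.RegMain

set_option autoImplicit false
open Cfsg

namespace Cfsg.Agent.S3361

/-- Let q be a prime and V a non-trivial finite vector space over the field with q elements, and let G be a finite solvable group acting faithfully and linearly on V and regularly on the non-zero vectors (transitively, with only the identity fixing a non-zero vector). Then either V can be identified with the additive group of a finite field F so that every element of G acts as x ↦ a·σ(x) (a ∈ F, σ a field automorphism), or V has 5^2, 7^2, 11^2 or 23^2 elements. Moreover, if q ≠ 2 then G has a normal subgroup of index 2, except that when V has 25 elements G may be isomorphic to SL(2,3) and when V has 121 elements G may be isomorphic to SL(2,3) × C₅. -/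
theorem result
    (q : ℕ) [Fact q.Prime] {V : Type*} [AddCommGroup V] [Module (ZMod q) V] [Finite V] [Nontrivial V]
    {G : Type*} [Group G] [Finite G] (hsol : Group.IsSolvable G)
    (ρ : G →* (V ≃ₗ[ZMod q] V)) (hρ : Function.Injective ρ)
    (htrans : ∀ v w : V, v ≠ 0 → w ≠ 0 → ∃ g : G, ρ g v = w)
    (hreg : ∀ v : V, v ≠ 0 → ∀ g : G, ρ g v = v → g = 1) :
    ((∃ (F : Type) (_ : Field F) (_ : Fintype F) (e : V ≃+ F),
        ∀ g : G, ∃ (a : F) (σ : F ≃+* F), ∀ v : V, e (ρ g v) = a * σ (e v)) ∨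
      Nat.card V ∈ ({25, 49, 121, 529} : Set ℕ)) ∧
    (q ≠ 2 → (∃ N : Subgroup G, N.Normal ∧ N.index = 2) ∨
      (Nat.card V = 25 ∧ Nonempty (G ≃* Matrix.SpecialLinearGroup (Fin 2) (ZMod 3))) ∨
      (Nat.card V = 121 ∧ Nonempty (G ≃* Matrix.SpecialLinearGroup (Fin 2) (ZMod 3) × Multiplicative (ZMod 5)))) := by
  have hreg' : ∀ v w : V, v ≠ 0 → w ≠ 0 →
      ∃! h : ρ.range, ((h : V ≃ₗ[ZMod q] V)) v = w := by
    intro v w hv hw
    obtain ⟨g, hg⟩ := htrans v w hv hw
    refine ⟨⟨ρ g, g, rfl⟩, hg, ?_⟩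
    rintro ⟨_, g', rfl⟩ hg'
    apply Subtype.ext
    show ρ g' = ρ g
    have h1 : ρ (g⁻¹ * g') v = v := by
      rw [map_mul, LinearEquiv.mul_apply]
      have hg'' : ρ g' v = w := hg'
      rw [hg'', ← hg, map_inv]
      exact (ρ g).symm_apply_apply v
    have h2 := hreg v hv _ h1
    have h3 : g' = g := by
      have : g * (g⁻¹ * g') = g * 1 := by rw [h2]
      simpa using this
    rw [h3]
  let φ : G ≃* ρ.range := MonoidHom.ofInjective hρ
  have hφ : ∀ g : G, ((φ g : ρ.range) : V ≃ₗ[ZMod q] V) = ρ g := fun g => rfl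
  have hsolv' : Group.IsSolvable ρ.range := Group.isSolvable_of_isSolvable_injective (f := φ.symm.toMonoidHom) φ.symm.injective
  obtain ⟨h1, h2⟩ := Cfsg.Agent.Helper24.Reg.main_sub ρ.range hreg' hsolv'
  refine ⟨?_, ?_⟩
  · rcases h1 with ⟨F, i1, i2, e, he⟩ | h
    · left
      refine ⟨F, i1, i2, e, fun g => ?_⟩
      obtain ⟨a, σ, h⟩ := he (φ g)
      exact ⟨a, σ, fun v => by rw [← h v, hφ]⟩
    · right; exact h
  · intro hq2
    rcases h2 hq2 with ⟨N, hN, hidx⟩ | ⟨hc, ⟨ψ⟩⟩ | ⟨hc, ⟨ψ⟩⟩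
    · left
      refine ⟨N.comap φ.toMonoidHom, hN.comap _, ?_⟩
      rw [Subgroup.index_comap_of_surjective (f := φ.toMonoidHom) N φ.surjective, hidx]
    · right; left
      exact ⟨hc, ⟨φ.trans ψ⟩⟩
    · right; right
      exact ⟨hc, ⟨φ.trans ψ⟩⟩

end Cfsg.Agent.S3361
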