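import Cfsg.Statements.S3362
import Mathlib
import Cfsg.Agent.Helper17.M12Chain

set_option autoImplicit false
open Cfsg

namespace Cfsg.Agent.S3362

/-- An explicit construction of the Mathieu groups of degrees 11 and 12. On the points 0, …, 11 let s = (3 4 5)(6 7 8)(9 10 11), t = (3 6 9)(4 7 10)(5 8 11), u = (4 6 5 9)(7 8 11 10), v = (4 7 5 11)(6 10 9 8), w = (4 10 5 8)(6 11 9 7), x₁ = (0 3)(6 7)(8 10)(9 11), x₂ = (0 1)(6 9)(7 10)(8 11), x₃ = (1 2)(6 11)(7 9)(8 10) (each written as a product of transpositions). Then the group M₁₂ generated by all eight permutations is sharply 5-transitive on the 12 points and has order 95040, and the group M₁₁ generated by the first seven has order 7920 and is the stabilizer of the point 2 in M₁₂. -/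
theorem result
    (s t u v w x₁ x₂ x₃ : Equiv.Perm (Fin 12))
    (hs : s = Equiv.swap (3 : Fin 12) 5 * Equiv.swap (3 : Fin 12) 4 * Equiv.swap (6 : Fin 12) 8 * Equiv.swap (6 : Fin 12) 7 * Equiv.swap (9 : Fin 12) 11 * Equiv.swap (9 : Fin 12) 10) (ht : t = Equiv.swap (3 : Fin 12) 9 * Equiv.swap (3 : Fin 12) 6 * Equiv.swap (4 : Fin 12) 10 * Equiv.swap (4 : Fin 12) 7 * Equiv.swap (5 : Fin 12) 11 * Equiv.swap (5 : Fin 12) 8)
    (hu : u = Equiv.swap (4 : Fin 12) 9 * Equiv.swap (4 : Fin 12) 5 * Equiv.swap (4 : Fin 12) 6 * Equiv.swap (7 : Fin 12) 10 * Equiv.swap (7 : Fin 12) 11 * Equiv.swap (7 : Fin 12) 8) (hv : v = Equiv.swap (4 : Fin 12) 11 * Equiv.swap (4 : Fin 12) 5 * Equiv.swap (4 : Fin 12) 7 * Equiv.swap (6 : Fin 12) 8 * Equiv.swap (6 : Fin 12) 9 * Equiv.swap (6 : Fin 12) 10) (hw : w = Equiv.swap (4 : Fin 12) 8 * Equiv.swap (4 : Fin 12) 5 * Equiv.swap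 (4 : Fin 12) 10 * Equiv.swap (6 : Fin 12) 7 * Equiv.swap (6 : Fin 12) 9 * Equiv.swap (6 : Fin 12) 11)
    (hx₁ : x₁ = Equiv.swap (0 : Fin 12) 3 * Equiv.swap (6 : Fin 12) 7 * Equiv.swap (8 : Fin 12) 10 * Equiv.swap (9 : Fin 12) 11) (hx₂ : x₂ = Equiv.swap (0 : Fin 12) 1 * Equiv.swap (6 : Fin 12) 9 * Equiv.swap (7 : Fin 12) 10 * Equiv.swap (8 : Fin 12) 11)
    (hx₃ : x₃ = Equiv.swap (1 : Fin 12) 2 * Equiv.swap (6 : Fin 12) 11 * Equiv.swap (7 : Fin 12) 9 * Equiv.swap (8 : Fin 12) 10)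
    (M₁₂ M₁₁ : Subgroup (Equiv.Perm (Fin 12))) (hM₁₂ : M₁₂ = Subgroup.closure {s, t, u, v, w, x₁, x₂, x₃})
    (hM₁₁ : M₁₁ = Subgroup.closure {s, t, u, v, w, x₁, x₂}) :
    MulAction.IsMultiplyPretransitive M₁₂ (Fin 12) 5 ∧ (∀ y : Fin 5 ↪ Fin 12, MulAction.stabilizer M₁₂ y = ⊥) ∧
    Nat.card M₁₂ = 95040 ∧ Nat.card M₁₁ = 7920 ∧
    M₁₁ = M₁₂ ⊓ MulAction.stabilizer (Equiv.Perm (Fin 12)) (2 : Fin 12) := by
  rw [Cfsg.Agent.Helper17.M12.gs_eq] at hs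
  rw [Cfsg.Agent.Helper17.M12.gt_eq] at ht
  rw [Cfsg.Agent.Helper17.M12.gu_eq] at hu
  rw [Cfsg.Agent.Helper17.M12.gv_eq] at hv
  rw [Cfsg.Agent.Helper17.M12.gw_eq] at hw
  rw [Cfsg.Agent.Helper17.M12.gx1_eq] at hx₁
  rw [Cfsg.Agent.Helper17.M12.gx2_eq] at hx₂
  rw [Cfsg.Agent.Helper17.M12.gx3_eq] at hx₃
  subst hs ht hu hv hw hx₁ hx₂ hx₃
  have h12 : M₁₂ = Cfsg.Agent.Helper17.M12.Hn 5 := by
    rw [hM₁₂, ← Cfsg.Agent.Helper17.M12.Y4_eq]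
    rfl
  have h11 : M₁₁ = Cfsg.Agent.Helper17.M12.Hn 4 := by
    rw [hM₁₁, ← Cfsg.Agent.Helper17.M12.Y3_eq]
    rfl
  obtain ⟨hA, hB⟩ := Cfsg.Agent.Helper17.M12.sharp M₁₂ h12
  refine ⟨hA, hB, ?_, ?_, ?_⟩
  · rw [h12]; exact Cfsg.Agent.Helper17.M12.card_Hn5
  · rw [h11]; exact Cfsg.Agent.Helper17.M12.card_Hn4
  · rw [h11, h12]
    exact (Cfsg.Agent.Helper17.M12.stab_eq (l := 4) (by norm_num)).symm

end Cfsg.Agent.S3362
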