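import Cfsg.Statements.S3370
import Mathlib
import Cfsg.Agent.Helper19.TransVecG

set_option autoImplicit false
set_option linter.style.haveILetI false
open Cfsg

namespace Cfsg.Agent.S3370

open Cfsg.Agent.Helper19.TransVec MulAction

/-- Let q be a prime, V a non-trivial finite vector space over the field with q elements, and G a non-trivial finite p-group (p prime) acting faithfully and linearly on V and transitively on the non-zero vectors. Then either q = 2 and G has prime order p = |V| − 1; or p = 2, V has q elements with q = 2^m + 1 and G is cyclic of order 2^m; or p = 2, q = 3, V has 9 elements and G is cyclic of order 8, quaternion of order 8, or semidihedral of order 16. -/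
theorem result (q : ℕ) [Fact q.Prime] {V : Type*} [AddCommGroup V] [Module (ZMod q) V] [Finite V] [Nontrivial V]
    {G : Type*} [Group G] [Finite G] [Nontrivial G] (p : ℕ) [Fact p.Prime] (hG : IsPGroup p G)
    (ρ : G →* (V ≃ₗ[ZMod q] V)) (hρ : Function.Injective ρ)
    (htrans : ∀ v w : V, v ≠ 0 → w ≠ 0 → ∃ g : G, ρ g v = w) :
    (q = 2 ∧ p = Nat.card V - 1 ∧ Nat.card G = p) ∨
    (p = 2 ∧ Nat.card V = q ∧ (∃ m : ℕ, q = 2 ^ m + 1 ∧ Nat.card G = 2 ^ m) ∧ IsCyclic G) ∨
    (p = 2 ∧ q = 3 ∧ Nat.card V = 9 ∧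
      ((IsCyclic G ∧ Nat.card G = 8) ∨ Nonempty (G ≃* QuaternionGroup 2) ∨ (Cfsg.IsQuasiDihedral G ∧ Nat.card G = 16))) := by
  classical
  have hqp : q.Prime := Fact.out
  have hpp : p.Prime := Fact.out
  obtain ⟨v₀, hv₀⟩ := exists_ne (0 : V)
  haveI : Module.Finite (ZMod q) V := Module.Finite.of_finite
  have hVcard : Nat.card V = q ^ (Module.finrank (ZMod q) V) := by
    have := Module.natCard_eq_pow_finrank (K := ZMod q) (V := V)
    rwa [Nat.card_zmod] at this
  have hn1 : 1 ≤ Module.finrank (ZMod q) V := Module.finrank_pos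
  generalize Module.finrank (ZMod q) V = n at hVcard hn1
  -- the order of `G`
  obtain ⟨j, hj⟩ := IsPGroup.iff_card.mp hG
  have hce := card_eq ρ htrans hv₀
  have hdvd : (Nat.card V - 1) ∣ p ^ j := by
    rw [← hj, hce]; exact dvd_mul_left _ _
  obtain ⟨k, hkj, hk⟩ := (Nat.dvd_prime_pow hpp).mp hdvd
  have hV2 : 2 ≤ Nat.card V := by
    rw [hVcard]
    calc 2 ≤ q := hqp.two_le
      _ = q ^ 1 := (pow_one q).symm
      _ ≤ q ^ n := Nat.pow_le_pow_right hqp.pos hn1
  have hk1 : 1 ≤ k := by
    rcases Nat.eq_zero_or_pos k with hk0 | hk0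
    · exfalso
      rw [hk0, pow_zero] at hk
      have hV2' : Nat.card V = 2 := by omega
      have hq2 : q = 2 := by
        have h1 : q ∣ 2 := by
          have : q ∣ q ^ n := dvd_pow_self q (by omega)
          rwa [← hVcard, hV2'] at this
        exact (Nat.prime_dvd_prime_iff_eq hqp Nat.prime_two).mp h1
      have h2 := (cyclic_of_card_eq ρ hρ htrans (hV2'.trans hq2.symm)).2
      rw [hq2] at h2
      have h3 : Nat.card G = 1 := by omega
      have h4 : 1 < Nat.card G := Finite.one_lt_card
      omega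
    · exact hk0
  by_cases hq2 : q = 2
  · -- characteristic two
    left
    refine ⟨hq2, ?_⟩
    have h1 : p ^ k + 1 = 2 ^ n := by
      rw [← hk, hVcard, hq2]
      have : 1 ≤ 2 ^ n := Nat.one_le_two_pow
      omega
    have hn2 : 2 ≤ n := by
      by_contra hcon
      have hn' : n = 1 := by omega
      rw [hn', pow_one] at h1
      have h2 : p ^ k = 1 := by omega
      have h3 : 2 ≤ p ^ k := by
        calc 2 ≤ p := hpp.two_le
          _ = p ^ 1 := (pow_one p).symm
          _ ≤ p ^ k := Nat.pow_le_pow_right hpp.pos hk1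
      omega
    have hk' : k = 1 := mersenne_pow p n k hpp hn2 h1
    rw [hk', pow_one] at hk
    exact ⟨hk.symm, card_eq_of_card_sub_one ρ hρ htrans hG hk⟩
  · -- odd characteristic
    right
    have hqodd : Odd q := hqp.odd_of_ne_two hq2
    have hVodd : Odd (Nat.card V) := by rw [hVcard]; exact hqodd.pow
    have hp2 : p = 2 := by
      have h1 : Even (p ^ k) := by
        rw [← hk]
        obtain ⟨t, ht⟩ := hVodd
        exact ⟨t, by omega⟩
      have h2 : Even p := (Nat.even_pow.mp h1).1
      exact (Nat.Prime.even_iff hpp).mp h2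
    subst hp2
    have hqk : q ^ n = 2 ^ k + 1 := by
      rw [← hVcard]; omega
    rcases Nat.even_or_odd n with hne | hno
    · -- even dimension
      right
      obtain ⟨m, hm⟩ := hne
      have hm1 : 1 ≤ m := by omega
      have hqk' : q ^ (2 * m) = 2 ^ k + 1 := by
        rw [← hqk, hm, two_mul]
      obtain ⟨hq3, hm1'⟩ := eq_three_of_even_pow q m k hqp hqodd hm1 hqk'
      subst hq3
      have hV9 : Nat.card V = 9 := by
        rw [hVcard, hm, hm1']; norm_num
      refine ⟨rfl, rfl, hV9, ?_⟩
      rcases card_cases hV9 hG ρ hρ htrans with ⟨hc, hfree⟩ | ⟨hc, hstab⟩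
      · rcases order_eight hG ρ hρ htrans hc hfree with h | h
        · exact Or.inl h
        · exact Or.inr (Or.inl h)
      · exact Or.inr (Or.inr ⟨order_sixteen hV9 hG ρ hρ htrans hc hstab, hc⟩)
    · -- odd dimension
      left
      have hn' : n = 1 := eq_one_of_odd_pow q n k hqodd hqp.two_le hno hqk
      rw [hn', pow_one] at hVcard hqk
      obtain ⟨hcyc, hcG⟩ := cyclic_of_card_eq ρ hρ htrans hVcard
      refine ⟨rfl, hVcard, ⟨k, hqk, ?_⟩, hcyc⟩
      rw [hcG, hqk]
      omega

end Cfsg.Agent.S3370
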