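import Cfsg.Statements.S3371
import Cfsg.Agent.S0016
import Cfsg.Agent.S0519
import Cfsg.Agent.Helper1.FratBound2
import Cfsg.Agent.Helper25.HT3371Defs
import Cfsg.Agent.Helper15.HT3371COORD
import Cfsg.Agent.Helper15.HT3371LINE
import Cfsg.Agent.Helper15.HT3371NUM1
import Cfsg.Agent.Helper15.HT3371NUM2
import Cfsg.Agent.Helper15.HT3371ODDD
import Cfsg.Agent.Helper15.HT3371ODDG
import Cfsg.Agent.Helper15.HT3371P0
import Cfsg.Agent.Helper15.HT3371SEMI
import Cfsg.Agent.Helper15.HT3371SUMID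
import Cfsg.Agent.Helper15.HT3371TWOP
import Cfsg.Agent.Helper19.HT3371DIH
import Cfsg.Agent.Helper25.HT3371Base
import Cfsg.Agent.Helper25.HT3371DIM1F
import Cfsg.Agent.Helper25.HT3371DIM1K
import Cfsg.Agent.Helper25.HT3371DQAB
import Cfsg.Agent.Helper25.HT3371DQC
import Cfsg.Agent.Helper25.HT3371KLEINODD
import Cfsg.Agent.Helper25.HT3371TWOCSQ
import Cfsg.Agent.Helper25.HT3371TWODT
import Cfsg.Agent.Helper7.HT3371DQD
import Cfsg.Agent.Helper7.HT3371ODDC
import Cfsg.Agent.Helper7.HT3371ODDE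
import Cfsg.Agent.Helper7.HT3371ODDF
import Cfsg.Agent.Helper7.HT3371QDH
import Cfsg.Agent.Helper7.HT3371TWOA
import Cfsg.Agent.Helper8.HT3371ABCYC
import Cfsg.Agent.Helper8.HT3371QUAT
import Cfsg.Agent.Helper8.HT3371SEMIFPF
import Cfsg.Agent.Helper8.HT3371UNIQ

set_option autoImplicit false
open Cfsg

namespace Cfsg.Agent.S3371

open Cfsg.Agent.HT3371

section
set_option linter.unusedSectionVars false
variable {q : ℕ} [Fact q.Prime] {V : Type*} [AddCommGroup V] [Module (ZMod q) V] [Finite V]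
  [Nontrivial V] {G : Type*} [Group G] [Finite G]

theorem ctrans_of_mul (ρ : G →* (V ≃ₗ[ZMod q] V)) (z a : G) (hzc : ∀ h : G, h * z = z * h)
    (W : Submodule (ZMod q) V) (h : CTrans ρ (a * z) W) : CTrans ρ a W := by
  intro u u' hu hu' h0 h0'
  obtain ⟨n, hn, hnu⟩ := h u u' hu hu' h0 h0'
  refine ⟨n, ?_, hnu⟩
  have h1 : n * a * z = a * n * z := by
    calc n * a * z = n * (a * z) := by rw [mul_assoc]
      _ = a * z * n := hn
      _ = a * (z * n) := by rw [mul_assoc]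
      _ = a * (n * z) := by rw [hzc n]
      _ = a * n * z := by rw [mul_assoc]
  exact mul_right_cancel h1

/-- the case of a normal four-group (`p = 2`) -/
theorem two_case (hG : IsPGroup 2 G) (ρ : G →* (V ≃ₗ[ZMod q] V)) (hρ : Function.Injective ρ)
    (hEq : EqStab ρ) (hs : ¬ Semireg ρ) (hfpf : NormalFpf ρ) (hq2 : q ≠ 2) (z a : G)
    (hk : Klein z a) :
    (Nat.card V = q ^ 2 ∧ (∃ m : ℕ, q = 2 ^ m + 1) ∧
      ∃ e : V ≃ₗ[ZMod q] (Fin 2 → ZMod q), ∀ f : (Fin 2 → ZMod q) ≃ₗ[ZMod q] (Fin 2 → ZMod q),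
        (∃ g : G, f = e.symm.trans ((ρ g).trans e)) ↔
        ∃ a s : ZMod q, a ≠ 0 ∧ (s = 1 ∨ s = -1) ∧
          ((∀ v, f v = ![a * v 0, s * a⁻¹ * v 1]) ∨ (∀ v, f v = ![s * a⁻¹ * v 1, a * v 0]))) ∨
    (Nat.card V = 81 ∧ q = 3) := by
  have hzf : Fpf ρ z := fpf_of_central ρ hfpf z hk.z_ne_one hk.z_comm
  have hneg := neg_of_fpf_involution ρ z hk.z_sq hzf
  have hcompl := two_isCompl ρ hq2 z a hk hneg
  obtain ⟨g₀, hg₀⟩ := two_exists_swap ρ z a hk hfpf hcompl
  have hdich := two_dich ρ hEq z a hk hcompl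
  have hA := two_fixOrTrans ρ hq2 hEq z a hk hcompl hdich g₀ hg₀
  have hk' := hk.symm
  have hazz : a * z * z = a := by rw [mul_assoc, hk.z_sq, mul_one]
  have hcompl' : IsCompl (fixSp ρ (a * z)) (fixSp ρ (a * z * z)) := by
    rw [hazz]; exact hcompl.symm
  have hgz : g₀ * z * g₀⁻¹ = z := by rw [hk.z_comm g₀, mul_assoc, mul_inv_cancel, mul_one]
  have hg₀' : g₀ * (a * z) * g₀⁻¹ = a * z * z := by
    have hm : g₀ * (a * z) * g₀⁻¹ = (g₀ * a * g₀⁻¹) * (g₀ * z * g₀⁻¹) := by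
      simp only [mul_assoc, inv_mul_cancel_left]
    rw [hm, hg₀, hgz]
  have hdich' := two_dich ρ hEq z (a * z) hk' hcompl'
  have hA'raw := two_fixOrTrans ρ hq2 hEq z (a * z) hk' hcompl' hdich' g₀ hg₀'
  have hA' : FixOrTrans ρ a (fixSp ρ (a * z)) (fixSp ρ a) := by
    intro u₁ hu₁ hu₁0
    rcases hA'raw u₁ hu₁ hu₁0 with h | h
    · left
      intro g hg u₂ hu₂
      apply h g hg u₂
      rw [hazz]; exact hu₂
    · right
      rw [hazz] at h
      exact ctrans_of_mul ρ z a hk.z_comm _ h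
  have htr := two_ctrans ρ hρ hEq hs z a hk hcompl g₀ hg₀ hA hA'
  have hsq := two_card_sq ρ z a hk hcompl g₀ hg₀
  have hsq' := two_card_sq ρ z (a * z) hk' hcompl' g₀ hg₀'
  have hU : fixSp ρ a ≠ ⊥ := by
    intro h
    rw [h] at hsq
    have h1 : Nat.card (⊥ : Submodule (ZMod q) V) = 1 := by
      simp
    rw [h1] at hsq
    have := Finite.one_lt_card (α := V)
    omega
  obtain ⟨k, hk2⟩ := two_card_fix ρ hG a hU htr
  rcases card_eq_or_nine (fixSp ρ a) k hk2 with h | ⟨h3, h9⟩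
  · left
    have hcV : Nat.card V = q ^ 2 := by rw [hsq, h]
    have hc1 : Nat.card (fixSp ρ (a * z)) = q := by
      rw [hcV] at hsq'
      exact (Nat.pow_left_injective (n := 2) (by norm_num) hsq').symm
    refine ⟨hcV, ⟨k, by rw [← h, hk2]⟩, ?_⟩
    obtain ⟨e₁, he₁, he₁0⟩ := Submodule.exists_mem_ne_zero_of_ne_bot hU
    have he₂ : ρ g₀ e₁ ∈ fixSp ρ (a * z) := by
      have := map_mem_fixSp ρ g₀ a e₁ he₁
      rwa [hg₀] at this
    have he₂0 : ρ g₀ e₁ ≠ 0 := by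
      intro h0
      apply he₁0
      exact (ρ g₀).map_eq_zero_iff.mp h0
    have hdisj : ∀ u : V, u ∈ fixSp ρ a → u ∈ fixSp ρ (a * z) → u = 0 := by
      intro u h1 h2
      have : u ∈ fixSp ρ a ⊓ fixSp ρ (a * z) := ⟨h1, h2⟩
      rw [hcompl.inf_eq_bot] at this
      exact this
    have hind : ∀ x y : ZMod q, x • e₁ + y • ρ g₀ e₁ = 0 → x = 0 ∧ y = 0 := by
      intro x y hxy
      have h1 : x • e₁ = -(y • ρ g₀ e₁) := eq_neg_of_add_eq_zero_left hxy
      have h2 : x • e₁ = 0 := by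
        apply hdisj
        · exact Submodule.smul_mem _ _ he₁
        · rw [h1]; exact Submodule.neg_mem _ (Submodule.smul_mem _ _ he₂)
      have h3 : y • ρ g₀ e₁ = 0 := by
        rw [h2, zero_add] at hxy; exact hxy
      constructor
      · rcases smul_eq_zero.mp h2 with h | h
        · exact h
        · exact absurd h he₁0
      · rcases smul_eq_zero.mp h3 with h | h
        · exact h
        · exact absurd h he₂0
    have hspan : ∀ v : V, ∃ x y : ZMod q, v = x • e₁ + y • ρ g₀ e₁ := by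
      intro v
      have hv : v ∈ fixSp ρ a ⊔ fixSp ρ (a * z) := by
        rw [hcompl.sup_eq_top]; exact Submodule.mem_top
      obtain ⟨u₀, hu₀, u₁, hu₁, rfl⟩ := Submodule.mem_sup.mp hv
      obtain ⟨x, hx⟩ := exists_smul_of_card_eq (fixSp ρ a) h e₁ he₁ he₁0 u₀ hu₀
      obtain ⟨y, hy⟩ := exists_smul_of_card_eq (fixSp ρ (a * z)) hc1 (ρ g₀ e₁) he₂ he₂0 u₁ hu₁
      exact ⟨x, y, by rw [hx, hy]⟩
    have hdiag : ∀ g : G, g * a = a * g →
        ∃ α β : ZMod q, ρ g e₁ = α • e₁ ∧ ρ g (ρ g₀ e₁) = β • ρ g₀ e₁ := by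
      intro g hg
      have hga : g * a * g⁻¹ = a := by rw [hg, mul_assoc, mul_inv_cancel, mul_one]
      have hgz : g * z * g⁻¹ = z := by rw [hk.z_comm g, mul_assoc, mul_inv_cancel, mul_one]
      have hgaz : g * (a * z) * g⁻¹ = a * z := by
        have hm : g * (a * z) * g⁻¹ = (g * a * g⁻¹) * (g * z * g⁻¹) := by
          simp only [mul_assoc, inv_mul_cancel_left]
        rw [hm, hga, hgz]
      have h1 := map_mem_fixSp ρ g a e₁ he₁
      rw [hga] at h1
      have h2 := map_mem_fixSp ρ g (a * z) _ he₂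
      rw [hgaz] at h2
      obtain ⟨α, hα⟩ := exists_smul_of_card_eq (fixSp ρ a) h e₁ he₁ he₁0 _ h1
      obtain ⟨β, hβ⟩ := exists_smul_of_card_eq (fixSp ρ (a * z)) hc1 (ρ g₀ e₁) he₂ he₂0 _ h2
      exact ⟨α, β, hα, hβ⟩
    have hanti : ∀ g : G, g * a * g⁻¹ = a * z →
        ∃ γ δ : ZMod q, ρ g e₁ = γ • ρ g₀ e₁ ∧ ρ g (ρ g₀ e₁) = δ • e₁ := by
      intro g hga
      have hgz : g * z * g⁻¹ = z := by rw [hk.z_comm g, mul_assoc, mul_inv_cancel, mul_one]
      have hgaz : g * (a * z) * g⁻¹ = a := by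
        have hm : g * (a * z) * g⁻¹ = (g * a * g⁻¹) * (g * z * g⁻¹) := by
          simp only [mul_assoc, inv_mul_cancel_left]
        rw [hm, hga, hgz, hazz]
      have h1 := map_mem_fixSp ρ g a e₁ he₁
      rw [hga] at h1
      have h2 := map_mem_fixSp ρ g (a * z) _ he₂
      rw [hgaz] at h2
      obtain ⟨γ, hγ⟩ := exists_smul_of_card_eq (fixSp ρ (a * z)) hc1 (ρ g₀ e₁) he₂ he₂0 _ h1
      obtain ⟨δ, hδ⟩ := exists_smul_of_card_eq (fixSp ρ a) h e₁ he₁ he₁0 _ h2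
      exact ⟨γ, δ, hγ, hδ⟩
    obtain ⟨h1, h2⟩ := dim_one_group ρ hρ hEq hs z a hk e₁ (ρ g₀ e₁) hind hspan hdiag hanti
    obtain ⟨e, he⟩ := exists_coord hcV e₁ (ρ g₀ e₁) hind
    exact ⟨e, concl_three ρ e₁ (ρ g₀ e₁) e he h1 h2⟩
  · right
    refine ⟨?_, h3⟩
    rw [hsq, h9]
    norm_num

/-- the dihedral/semidihedral case -/
theorem dq_case (ρ : G →* (V ≃ₗ[ZMod q] V)) (hEq : EqStab ρ) (hs : ¬ Semireg ρ)
    (hfpf : NormalFpf ρ) (hq2 : q ≠ 2) (x : G) (k : ℕ) (hdq : DQ G x k) (m : ℕ) (hm : 2 ≤ m)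
    (hcnt : Nat.card (outInv x) = 2 ^ m) : Nat.card V = q ^ 2 ∧ q = 2 ^ m - 1 := by
  have hk2 := hdq.two_le
  have hfx := dq_fpf ρ x k hdq hfpf
  have hst := fun v hv => dq_stab ρ hEq hs x k hdq hfx v hv
  have hww : x ^ (2 ^ (k - 2)) * x ^ (2 ^ (k - 2)) = x ^ (2 ^ (k - 1)) := by
    rw [← pow_add]
    congr 1
    have : k - 1 = (k - 2) + 1 := by omega
    rw [this, pow_succ]; ring
  have hz1 : x ^ (2 ^ (k - 1)) ≠ 1 := by
    intro h
    have := orderOf_dvd_of_pow_eq_one h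
    rw [hdq.ord] at this
    have h2 := Nat.le_of_dvd (by positivity) this
    have : 2 ^ (k - 1) < 2 ^ k := Nat.pow_lt_pow_right (by norm_num) (by omega)
    omega
  have hzz : x ^ (2 ^ (k - 1)) * x ^ (2 ^ (k - 1)) = 1 := by
    rw [← pow_add]
    have : 2 ^ (k - 1) + 2 ^ (k - 1) = 2 ^ k := by
      have : k = (k - 1) + 1 := by omega
      conv_rhs => rw [this, pow_succ]
      ring
    rw [this, ← hdq.ord, pow_orderOf_eq_one]
  have hzf : Fpf ρ (x ^ (2 ^ (k - 1))) :=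
    hfx _ (Subgroup.pow_mem _ (Subgroup.mem_zpowers x) _) hz1
  have hneg : ∀ v : V, ρ (x ^ (2 ^ (k - 2)) * x ^ (2 ^ (k - 2))) v = -v := by
    rw [hww]
    exact neg_of_fpf_involution ρ _ hzz hzf
  have hsq : ∀ t : G, t ∈ outInv x → Nat.card V = Nat.card (fixSp ρ t) ^ 2 := by
    intro t ht
    exact dq_card_sq ρ hq2 (x ^ (2 ^ (k - 2))) t hneg ht.2 (hdq.conj t ht.1)
  obtain ⟨Q, hV, hQ⟩ := dq_count ρ (outInv x) hst hsq
  have hQq := card_sq_mersenne (q := q) (V := V) Q m hm hV (hQ.trans hcnt)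
  subst hQq
  refine ⟨hV, ?_⟩
  rw [hcnt] at hQ
  omega

end

/-- Let q be a prime, V a non-trivial finite vector space over the field with q elements, and G a finite p-group (p prime) acting faithfully and linearly on V such that all G-orbits on the non-zero vectors have the same size. Then one of the following holds: G is cyclic or generalized quaternion and acts semiregularly on the non-zero vectors; or V has q² elements with q = 2^m − 1 and G is dihedral of order 2^(m+1) or semidihedral of order 2^(m+2); or V has q² elements with q = 2^m + 1 and, in suitable coordinates V = F_q², G is exactly the group of maps (x, y) ↦ (a x, ± a⁻¹ y) and (x, y) ↦ (± a⁻¹ y, a x) with a ≠ 0; or V has 81 elements (q = 3) and G is a 2-group. -/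
theorem result (q : ℕ) [Fact q.Prime] {V : Type*} [AddCommGroup V] [Module (ZMod q) V] [Finite V] [Nontrivial V]
    {G : Type*} [Group G] [Finite G] (p : ℕ) [Fact p.Prime] (hG : IsPGroup p G)
    (ρ : G →* (V ≃ₗ[ZMod q] V)) (hρ : Function.Injective ρ)
    (hhalf : ∀ v w : V, v ≠ 0 → w ≠ 0 → Nat.card {u : V | ∃ g : G, ρ g v = u} = Nat.card {u : V | ∃ g : G, ρ g w = u}) :
    ((IsCyclic G ∨ ∃ n : ℕ, Nonempty (G ≃* QuaternionGroup n)) ∧ ∀ v : V, v ≠ 0 → ∀ g : G, ρ g v = v → g = 1) ∨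
    (Nat.card V = q ^ 2 ∧ ∃ m : ℕ, q = 2 ^ m - 1 ∧
      (Nonempty (G ≃* DihedralGroup (2 ^ m)) ∨ (Cfsg.IsQuasiDihedral G ∧ Nat.card G = 2 ^ (m + 2)))) ∨
    (Nat.card V = q ^ 2 ∧ (∃ m : ℕ, q = 2 ^ m + 1) ∧
      ∃ e : V ≃ₗ[ZMod q] (Fin 2 → ZMod q), ∀ f : (Fin 2 → ZMod q) ≃ₗ[ZMod q] (Fin 2 → ZMod q),
        (∃ g : G, f = e.symm.trans ((ρ g).trans e)) ↔
        ∃ a s : ZMod q, a ≠ 0 ∧ (s = 1 ∨ s = -1) ∧
          ((∀ v, f v = ![a * v 0, s * a⁻¹ * v 1]) ∨ (∀ v, f v = ![s * a⁻¹ * v 1, a * v 0]))) ∨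
    (Nat.card V = 81 ∧ q = 3 ∧ p = 2) := by
  have hq : q.Prime := Fact.out
  have hp : p.Prime := Fact.out
  by_cases hpq : p = q
  · subst hpq
    have := subsingleton_of_eq hG ρ hρ hhalf
    left
    refine ⟨Or.inl isCyclic_of_subsingleton, ?_⟩
    intro v _ g _
    exact Subsingleton.elim _ _
  have hEq : EqStab ρ := eqStab_of_halfTrans ρ hhalf
  have hcop : (Nat.card G).Coprime q := by
    obtain ⟨n, hn⟩ := IsPGroup.iff_card.mp hG
    rw [hn]
    exact Nat.Coprime.pow_left _ ((Nat.coprime_primes hp hq).mpr hpq)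
  by_cases hs : Semireg ρ
  · left
    have hmem := mem_zpowers_of_semireg ρ p hpq hs
      (fun z a hc hz hsum => spanId_of_sumZ ρ p z a hc hz hsum)
    have huniq := uniqP_of_mem_zpowers p hG hmem
    rcases Cfsg.Agent.S0016.result p hG huniq with h | ⟨_, n, hn⟩
    · exact ⟨Or.inl h, hs⟩
    · exact ⟨Or.inr ⟨2 ^ n, hn⟩, hs⟩
  have hfpf : NormalFpf ρ := fpf_of_normal ρ hρ hEq hs hcop
  have hnu : ¬ UniqP G p := fun hu => hs (semireg_of_uniqP ρ p hG hu hfpf)
  by_cases hp2 : p = 2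
  · subst hp2
    have hq2 : q ≠ 2 := fun h => hpq h.symm
    by_cases hA : ∃ A : Subgroup G, A.Normal ∧ IsMulCommutative A ∧ ¬ IsCyclic A
    · obtain ⟨A, hAn, hAc, hAnc⟩ := hA
      obtain ⟨z, a, h1, h2, h3, h4, h5, h6, h7⟩ :=
        Cfsg.Agent.Helper1.FratBound.exists_klein_data hG A hAn hAc hAnc
      have hk : Klein z a := ⟨h1, h2, h3, h4, h5, h6, h7⟩
      rcases two_case hG ρ hρ hEq hs hfpf hq2 z a hk with h | ⟨h81, h3⟩
      · exact Or.inr (Or.inr (Or.inl h))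
      · exact Or.inr (Or.inr (Or.inr ⟨h81, h3, rfl⟩))
    · have hn : ∀ A : Subgroup G, A.Normal → IsMulCommutative A → IsCyclic A := by
        intro A h1 h2
        by_contra h3
        exact hA ⟨A, h1, h2, h3⟩
      by_cases hB : ∃ B : Subgroup G, IsMulCommutative B ∧ ¬ IsCyclic B
      · obtain ⟨_, h | h | h⟩ := Cfsg.Agent.S0519.result 2 hG hn hB
        · obtain ⟨n, ⟨e⟩⟩ := h
          exact absurd (uniqP_of_quaternion n e) hnu
        · obtain ⟨n, hn8, ⟨e⟩⟩ := h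
          obtain ⟨k, x, hnk, hdq, hcnt⟩ := dq_of_dihedral n hn8 e hG
          have hk3 : 2 ≤ k := by
            by_contra hlt
            have : k ≤ 1 := by omega
            have : 2 ^ k ≤ 2 ^ 1 := Nat.pow_le_pow_right (by norm_num) this
            omega
          obtain ⟨hV, hqm⟩ := dq_case ρ hEq hs hfpf hq2 x k hdq k hk3 hcnt
          right; left
          subst hnk
          exact ⟨hV, k, hqm, Or.inl ⟨e⟩⟩
        · obtain ⟨k, x, hk3, hdq, hcnt⟩ := dq_of_quasiDihedral h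
          obtain ⟨hV, hqm⟩ := dq_case ρ hEq hs hfpf hq2 x k hdq (k - 1) (by omega) hcnt
          right; left
          refine ⟨hV, k - 1, hqm, Or.inr ⟨h, ?_⟩⟩
          rw [hdq.card]
          congr 1
          omega
      · exfalso
        apply hnu
        apply uniqP_of_abelian_cyclic 2 hG
        intro B hB'
        by_contra h
        exact hB ⟨B, hB', h⟩
  · exfalso
    by_cases hc : IsCyclic G
    · apply hnu
      apply uniqP_of_abelian_cyclic p hG
      intro B _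
      infer_instance
    · obtain ⟨z, a, hd⟩ := exists_oddData p hp2 hG hc
      have hz1 : z ≠ 1 := by
        intro h
        have := hd.z_ord
        rw [h, orderOf_one] at this
        exact hp.one_lt.ne this
      have hzp : z ^ p = 1 := by rw [← hd.z_ord]; exact pow_orderOf_eq_one z
      have hzf : Fpf ρ z := fpf_of_central ρ hfpf z hz1 hd.z_comm
      have hsum : SumZ ρ p z := sumZ_of_fpf ρ p z hzp hzf
      have hspan : SpanId ρ p z a := spanId_of_sumZ ρ p z a (hd.z_comm a) hzp hsum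
      have hproj := fun j l hj hl hjl u hu =>
        sum_pow_eq_zero_of_mem_fixSp ρ p z a (hd.z_comm a) hd.z_ord hsum j l hj hl hjl u hu
      have hdirect := direct_of_proj ρ p hpq z a hproj
      have hstab := stabLe_of_direct ρ p hp2 z a hd hdirect
      obtain ⟨h₀, i₀, hi₀, hh₀⟩ := exists_shift ρ p hpq z a hd hfpf hspan
      exact hs (semireg_of_odd ρ hρ hEq p hpq z a hd h₀ i₀ hi₀ hh₀ hspan hdirect hstab)

end Cfsg.Agent.S3371
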