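import Mathlib
import Cfsg.Statements.S3374
import Cfsg.Agent.Helper13.SL25Pres
import Cfsg.Agent.S0804

set_option autoImplicit false
set_option linter.style.haveILetI false

namespace Cfsg.Agent.S3374

open Cfsg.Agent.Helper13

instance fact11 : Fact (Nat.Prime 11) := ⟨by norm_num⟩

section generic
variable {G : Type*} [Group G] [Finite G]

/-- the image of `SL(2,5)` under a homomorphism given by a triple `x, y, z` with `z ≠ 1` lying in a
normal subgroup `N` not containing `x * y` has order at least 120. -/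
theorem card_range_ge (x y z : G) (hx : x ^ 3 = 1) (hy : y ^ 5 = 1) (hz : z ^ 2 = 1)
    (hzx : z * x = x * z) (hzy : z * y = y * z) (hxy : (x * y) ^ 2 = z) (hz1 : z ≠ 1)
    (N : Subgroup G) [N.Normal] (hzN : z ∈ N) (hxyN : x * y ∉ N) :
    120 ≤ Nat.card (SL25Pres.toGrp x y z hx hy hz hzx hzy hxy).range := by
  classical
  set ψ := SL25Pres.toGrp x y z hx hy hz hzx hzy hxy with hψ
  set R := ψ.range with hR
  set π := QuotientGroup.mk' N with hπ
  have hX : x ∈ R := ⟨SL25Pres.gx, SL25Pres.toGrp_gx _ _ _ _ _ _ _ _ _⟩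
  have hY : y ∈ R := ⟨SL25Pres.gy, SL25Pres.toGrp_gy _ _ _ _ _ _ _ _ _⟩
  have hZ : z ∈ R := ⟨SL25Pres.gz, SL25Pres.toGrp_gz _ _ _ _ _ _ _ _ _⟩
  have hZc : π z = 1 := (QuotientGroup.eq_one_iff z).mpr hzN
  have haa : π (x * y) * π (x * y) = 1 := by
    rw [← map_mul, ← sq, hxy, hZc]
  have hb5 : π (y⁻¹) ^ 5 = 1 := by
    rw [← map_pow, inv_pow, hy, inv_one, map_one]
  have hab : (π (x * y) * π (y⁻¹)) ^ 3 = 1 := by
    rw [← map_mul, ← map_pow, mul_inv_cancel_right, hx, map_one]
  have hne : π (x * y) ≠ 1 := by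
    intro h
    exact hxyN ((QuotientGroup.eq_one_iff _).mp h)
  obtain ⟨φ, hφx, hφz⟩ := A5Pres.exists_hom _ _ haa hb5 hab
  have hinj : Function.Injective φ := by
    rw [← MonoidHom.ker_eq_bot_iff]
    haveI := alternatingGroup.isSimpleGroup_five
    rcases (inferInstance : φ.ker.Normal).eq_bot_or_eq_top with h | h
    · exact h
    · exfalso
      have : A5Pres.x0 ∈ φ.ker := by rw [h]; trivial
      rw [MonoidHom.mem_ker, hφx] at this
      exact hne this
  have hle : φ.range ≤ R.map π := by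
    rw [MonoidHom.range_eq_map, ← SL25Pres.closure_x0_z0, MonoidHom.map_closure, Subgroup.closure_le]
    rintro _ ⟨u, hu, rfl⟩
    simp only [Set.mem_insert_iff, Set.mem_singleton_iff] at hu
    rcases hu with rfl | rfl
    · rw [SetLike.mem_coe, hφx]
      exact ⟨x * y, R.mul_mem hX hY, rfl⟩
    · rw [SetLike.mem_coe, hφz]
      exact ⟨y⁻¹, R.inv_mem hY, rfl⟩
  have h60 : 60 ≤ Nat.card (R.map π) := by
    have h1 : Nat.card φ.range = 60 := by
      rw [← Nat.card_congr (MonoidHom.ofInjective hinj).toEquiv, Nat.card_eq_fintype_card]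
      decide
    rw [← h1]
    exact Subgroup.card_le_of_le hle
  set ρ : R →* _ := π.comp R.subtype with hρ
  have hrange : ρ.range = R.map π := by
    rw [hρ, MonoidHom.range_comp, Subgroup.range_subtype]
  have hker : 2 ≤ Nat.card ρ.ker := by
    have h1 : (⟨z, hZ⟩ : R) ∈ ρ.ker := by
      rw [MonoidHom.mem_ker]; exact hZc
    have h2 : (⟨z, hZ⟩ : R) ≠ 1 := fun h => hz1 (congrArg Subtype.val h)
    have : 1 < Nat.card ρ.ker := by
      rw [Finite.one_lt_card_iff_nontrivial]
      exact ⟨⟨⟨⟨z, hZ⟩, h1⟩, 1, fun h => h2 (congrArg Subtype.val h)⟩⟩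
    omega
  rw [Subgroup.card_eq_card_quotient_mul_card_subgroup ρ.ker,
    Nat.card_congr (QuotientGroup.quotientKerEquivRange ρ).toEquiv, hrange]
  calc 120 = 60 * 2 := by norm_num
    _ ≤ _ := Nat.mul_le_mul h60 hker

theorem injective_of_card_range_ge (ψ : SL25Pres.P →* G) (h : 120 ≤ Nat.card ψ.range) :
    Function.Injective ψ := by
  rw [← MonoidHom.ker_eq_bot_iff]
  have h1 := Subgroup.card_eq_card_quotient_mul_card_subgroup ψ.ker
  rw [Nat.card_congr (QuotientGroup.quotientKerEquivRange ψ).toEquiv, SL25Pres.card_P] at h1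
  have h2 : Nat.card ψ.ker = 1 := by
    have hpos : 0 < Nat.card ψ.ker := Nat.card_pos
    nlinarith
  exact Subgroup.card_eq_one.mp h2

end generic

section concrete

abbrev S11 := Matrix.SpecialLinearGroup (Fin 2) (ZMod 11)
abbrev S5 := Matrix.SpecialLinearGroup (Fin 2) (ZMod 5)

def X1 : S11 := ⟨!![7, 1; 9, 3], by decide⟩
def Y1 : S11 := ⟨!![3, 0; 0, 4], by decide⟩
def Z1 : S11 := ⟨!![10, 0; 0, 10], by decide⟩

theorem X1_pow : X1 ^ 3 = 1 := by decide
theorem Y1_pow : Y1 ^ 5 = 1 := by decide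
theorem Z1_pow : Z1 ^ 2 = 1 := by decide
theorem Z1_X1 : Z1 * X1 = X1 * Z1 := by decide
theorem Z1_Y1 : Z1 * Y1 = Y1 * Z1 := by decide
theorem X1_Y1 : (X1 * Y1) ^ 2 = Z1 := by decide
theorem Z1_ne : Z1 ≠ 1 := by decide
theorem X1Y1_entry : (X1 * Y1).1 0 1 ≠ 0 := by decide

theorem Z1_mem_center : Z1 ∈ Subgroup.center S11 := by
  rw [Matrix.SpecialLinearGroup.mem_center_iff]
  refine ⟨10, by decide, ?_⟩
  ext i j
  fin_cases i <;> fin_cases j <;> simp [Z1, Matrix.scalar_apply]

theorem X1Y1_not_mem_center : X1 * Y1 ∉ Subgroup.center S11 := by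
  rw [Matrix.SpecialLinearGroup.mem_center_iff]
  rintro ⟨r, -, hr⟩
  apply X1Y1_entry
  have := congrFun (congrFun hr 0) 1
  rw [← this]
  simp [Matrix.scalar_apply]

noncomputable def j0 : SL25Pres.P →* S11 :=
  SL25Pres.toGrp X1 Y1 Z1 X1_pow Y1_pow Z1_pow Z1_X1 Z1_Y1 X1_Y1

theorem j0_injective : Function.Injective j0 :=
  injective_of_card_range_ge j0
    (card_range_ge X1 Y1 Z1 X1_pow Y1_pow Z1_pow Z1_X1 Z1_Y1 X1_Y1 Z1_ne (Subgroup.center S11)
      Z1_mem_center X1Y1_not_mem_center)

noncomputable def j : S5 →* S11 := j0.comp SL25Pres.slEquiv.symm.toMonoidHom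

theorem j_injective : Function.Injective j :=
  j0_injective.comp SL25Pres.slEquiv.symm.injective

theorem pow_eq_of_trace_two (M : Matrix (Fin 2) (Fin 2) (ZMod 11)) (hdet : M.det = 1)
    (htr : M 0 0 + M 1 1 = 2) (k : ℕ) : M ^ (k + 1) = ((k : ZMod 11) + 1) • M - (k : ZMod 11) • 1 := by
  have hsq := Cfsg.Agent.S0804.sq_of_det M hdet
  rw [htr] at hsq
  induction k with
  | zero => simp
  | succ k ih =>
    rw [pow_succ, ih, sub_mul, smul_mul_assoc, hsq, smul_mul_assoc, one_mul]
    push_cast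
    module

theorem pow_eleven_of_trace_two (M : Matrix (Fin 2) (Fin 2) (ZMod 11)) (hdet : M.det = 1)
    (htr : M 0 0 + M 1 1 = 2) : M ^ 11 = 1 := by
  have h := pow_eq_of_trace_two M hdet htr 10
  have h1 : ((10 : ℕ) : ZMod 11) + 1 = 0 := by decide
  have h2 : ((10 : ℕ) : ZMod 11) = -1 := by decide
  rw [h1, h2] at h
  simpa using h

theorem eq_one_of_fixed (M : S11) (hM : M ^ 120 = 1) (v : Fin 2 → ZMod 11) (hv : v ≠ 0)
    (hfix : M.1.mulVec v = v) : M = 1 := by
  have h0 : (M.1 - 1).mulVec v = 0 := by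
    rw [Matrix.sub_mulVec, hfix, Matrix.one_mulVec, sub_self]
  have hdet0 : (M.1 - 1).det = 0 := by
    by_contra hne
    have := Matrix.exists_mulVec_eq_zero_iff.mp ⟨v, hv, h0⟩
    exact hne this
  have hdet : M.1.det = 1 := M.2
  have htr : M.1 0 0 + M.1 1 1 = 2 := by
    rw [Matrix.det_fin_two] at hdet0 hdet
    simp only [Matrix.sub_apply, Matrix.one_apply_eq, Matrix.one_apply_ne, ne_eq, Fin.isValue,
      zero_ne_one, one_ne_zero, not_false_eq_true, sub_zero] at hdet0
    linear_combination hdet - hdet0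
  have h11 : M ^ 11 = 1 := by
    apply Subtype.ext
    rw [Matrix.SpecialLinearGroup.coe_pow]
    exact pow_eleven_of_trace_two M.1 hdet htr
  have h1 : orderOf M ∣ 11 := orderOf_dvd_of_pow_eq_one h11
  have h2 : orderOf M ∣ 120 := orderOf_dvd_of_pow_eq_one hM
  have h3 : orderOf M ∣ Nat.gcd 11 120 := Nat.dvd_gcd h1 h2
  have h4 : Nat.gcd 11 120 = 1 := by norm_num
  rw [h4, Nat.dvd_one, orderOf_eq_one_iff] at h3
  exact h3

theorem j_pow (h : S5) : j h ^ 120 = 1 := by
  rw [← map_pow]
  have : h ^ 120 = 1 := by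
    rw [← SL25Pres.card_SL25]
    exact pow_card_eq_one'
  rw [this, map_one]

theorem j_fpf (h : S5) (v : Fin 2 → ZMod 11) (hv : v ≠ 0)
    (hfix : (j h).1.mulVec v = v) : h = 1 := by
  have := eq_one_of_fixed (j h) (j_pow h) v hv hfix
  rw [← map_one j] at this
  exact j_injective this

abbrev V11 := Multiplicative (Fin 2 → ZMod 11)

/-- the natural action of `SL₂(𝔽₁₁)` on the (multiplicatively written) plane. -/
def act : S11 →* MulAut V11 where
  toFun M :=
    { toFun := fun v => Multiplicative.ofAdd (M.1.mulVec (Multiplicative.toAdd v))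
      invFun := fun v => Multiplicative.ofAdd ((M⁻¹).1.mulVec (Multiplicative.toAdd v))
      left_inv := fun v => by
        apply Multiplicative.toAdd.injective
        simp only [toAdd_ofAdd, Matrix.mulVec_mulVec]
        rw [← Matrix.SpecialLinearGroup.coe_mul, inv_mul_cancel]
        simp
      right_inv := fun v => by
        apply Multiplicative.toAdd.injective
        simp only [toAdd_ofAdd, Matrix.mulVec_mulVec]
        rw [← Matrix.SpecialLinearGroup.coe_mul, mul_inv_cancel]
        simp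
      map_mul' := fun v w => by
        apply Multiplicative.toAdd.injective
        simp only [toAdd_ofAdd, toAdd_mul, Matrix.mulVec_add] }
  map_one' := by
    ext v
    simp
  map_mul' M N := by
    apply MulEquiv.ext
    intro v
    apply Multiplicative.toAdd.injective
    change (M * N).1.mulVec (Multiplicative.toAdd v) =
      M.1.mulVec (N.1.mulVec (Multiplicative.toAdd v))
    rw [Matrix.mulVec_mulVec, Matrix.SpecialLinearGroup.coe_mul]

theorem act_apply (M : S11) (v : V11) :
    act M v = Multiplicative.ofAdd (M.1.mulVec (Multiplicative.toAdd v)) := rfl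

noncomputable abbrev Lgrp := V11 ⋊[act.comp j] S5

noncomputable instance : Finite Lgrp := Finite.of_equiv _ SemidirectProduct.equivProd.symm

noncomputable def Hsub : Subgroup Lgrp := (SemidirectProduct.inr : S5 →* Lgrp).range

theorem mem_Hsub_iff (g : Lgrp) : g ∈ Hsub ↔ g.left = 1 := by
  constructor
  · rintro ⟨h, rfl⟩
    simp
  · intro hg
    refine ⟨g.right, ?_⟩
    ext <;> simp [hg]

theorem frob : Cfsg.IsFrobeniusComplement Hsub := by
  refine ⟨?_, ?_, ?_⟩
  · intro h
    have h1 : (SemidirectProduct.inr SL25Pres.Z0 : Lgrp) ∈ Hsub := ⟨_, rfl⟩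
    rw [h, Subgroup.mem_bot] at h1
    have := SemidirectProduct.inr_injective (h1.trans (map_one _).symm)
    exact SL25Pres.Z0_ne this
  · intro h
    have h1 : (SemidirectProduct.inl (Multiplicative.ofAdd (fun _ => 1)) : Lgrp) ∈ Hsub := by
      rw [h]; trivial
    rw [mem_Hsub_iff, SemidirectProduct.left_inl] at h1
    have := congrFun (congrArg Multiplicative.toAdd h1) 0
    simp at this
  · intro g hg
    rw [eq_bot_iff]
    intro x hx
    rw [Subgroup.mem_bot]
    obtain ⟨hx1, hx2⟩ := Subgroup.mem_inf.mp hx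
    rw [Subgroup.mem_pointwise_smul_iff_inv_smul_mem] at hx2
    rw [mem_Hsub_iff] at hx1 hx2 hg
    have hx2' : (g⁻¹ * x * g).left = 1 := by
      simpa [MulAut.smul_def] using hx2
    -- x * g = g * (g⁻¹ * x * g)
    have key : x * g = g * (g⁻¹ * x * g) := by group
    have hl := congrArg SemidirectProduct.left key
    rw [SemidirectProduct.mul_left, SemidirectProduct.mul_left g, hx1, hx2', one_mul, map_one,
      mul_one] at hl
    have hfix : (j x.right).1.mulVec (Multiplicative.toAdd g.left) = Multiplicative.toAdd g.left := by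
      have := congrArg Multiplicative.toAdd hl
      simpa [act_apply] using this
    have hv : Multiplicative.toAdd g.left ≠ 0 := by
      intro h0
      apply hg
      apply Multiplicative.toAdd.injective
      rw [h0]; rfl
    have hr := j_fpf x.right _ hv hfix
    ext
    · rw [hx1]; rfl
    · rw [hr]; rfl

end concrete

open Cfsg

/-- SL(2,5) occurs as a Frobenius complement: there is a finite group L with a subgroup H isomorphic to SL(2,5) which is a non-trivial proper subgroup meeting each conjugate gHg⁻¹ with g outside H trivially. -/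
theorem result :
    ∃ (L : Type) (_ : Group L) (_ : Finite L) (H : Subgroup L),
      Cfsg.IsFrobeniusComplement H ∧ Nonempty (H ≃* Matrix.SpecialLinearGroup (Fin 2) (ZMod 5)) := by
  refine ⟨Lgrp, inferInstance, inferInstance, Hsub, frob, ⟨?_⟩⟩
  exact (MonoidHom.ofInjective SemidirectProduct.inr_injective).symm

end Cfsg.Agent.S3374
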