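import Mathlib
import Cfsg.Statements.S3375
-- import your own Cfsg.Agent.* helpers here

set_option autoImplicit false
open Cfsg

namespace Cfsg.Agent.S3375

variable {H : Type*} [Group H]

/-- `h (γ h)⁻¹` is inverted by an involutory automorphism. -/
theorem inverted_f (γ : MulAut H) (hγγ : ∀ h, γ (γ h) = h) (h : H) :
    γ (h * (γ h)⁻¹) = (h * (γ h)⁻¹)⁻¹ := by
  rw [map_mul, map_inv, hγγ, mul_inv_rev, inv_inv]

/-- a set of elements inverted by an automorphism and closed under products commutes. -/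
theorem comm_of_inverted (γ : MulAut H) {a b : H} (ha : γ a = a⁻¹) (hb : γ b = b⁻¹)
    (hab : γ (a * b) = (a * b)⁻¹) : a * b = b * a := by
  rw [map_mul, ha, hb, mul_inv_rev] at hab
  have := congrArg (fun x => x⁻¹) hab
  simp only [mul_inv_rev, inv_inv] at this
  exact this.symm

/-- the fixed point subgroup -/
def fixedSubgroup (γ : MulAut H) : Subgroup H where
  carrier := {h | γ h = h}
  one_mem' := map_one γ
  mul_mem' := by
    intro a b ha hb
    show γ (a * b) = a * b
    rw [map_mul, ha, hb]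
  inv_mem' := by
    intro a ha
    show γ a⁻¹ = a⁻¹
    rw [map_inv, ha]

/-- the symmetric-difference subgroup of an index two subgroup and its image -/
def symmSubgroup (γ : MulAut H) (M : Subgroup H) (hM : M.index = 2) : Subgroup H where
  carrier := {h | h ∈ M ↔ γ h ∈ M}
  one_mem' := by
    show (1 : H) ∈ M ↔ γ 1 ∈ M
    rw [map_one]
  mul_mem' := by
    intro a b ha hb
    show a * b ∈ M ↔ γ (a * b) ∈ M
    rw [map_mul, Subgroup.mul_mem_iff_of_index_two hM, Subgroup.mul_mem_iff_of_index_two hM]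
    have ha' : a ∈ M ↔ γ a ∈ M := ha
    have hb' : b ∈ M ↔ γ b ∈ M := hb
    rw [ha', hb']
  inv_mem' := by
    intro a ha
    show a⁻¹ ∈ M ↔ γ a⁻¹ ∈ M
    rw [map_inv, inv_mem_iff, inv_mem_iff]
    exact ha

/-- key step: an invariant index two subgroup is inverted when there are two fixed points. -/
theorem inverted_of_invariant [Finite H] (γ : MulAut H) (hγγ : ∀ h, γ (γ h) = h)
    (hfix : Nat.card {h : H // γ h = h} = 2) (A : Subgroup H) (hA : A.index = 2)
    (hinv : ∀ a ∈ A, γ a ∈ A) : ∀ a ∈ A, γ a = a⁻¹ := by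
  have hfA : ∀ h : H, h * (γ h)⁻¹ ∈ A := by
    intro h
    by_cases hh : h ∈ A
    · exact A.mul_mem hh (A.inv_mem (hinv h hh))
    · have hγh : γ h ∉ A := by
        intro h1
        apply hh
        have := hinv _ h1
        rwa [hγγ] at this
      rw [Subgroup.mul_mem_iff_of_index_two hA, inv_mem_iff]
      exact ⟨fun h1 => absurd h1 hh, fun h1 => absurd h1 hγh⟩
  let Cs := fixedSubgroup γ
  have hCs : Nat.card Cs = 2 := hfix
  let fbar : H ⧸ Cs → A := Quotient.lift (fun h => (⟨h * (γ h)⁻¹, hfA h⟩ : A)) (by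
    intro a b hab
    have hab' : a⁻¹ * b ∈ Cs := QuotientGroup.leftRel_apply.mp hab
    have h1 : γ (a⁻¹ * b) = a⁻¹ * b := hab'
    apply Subtype.ext
    show a * (γ a)⁻¹ = b * (γ b)⁻¹
    rw [map_mul, map_inv] at h1
    have h2 : γ b = γ a * (a⁻¹ * b) := by rw [← h1]; group
    rw [h2]; group)
  have hinj : Function.Injective fbar := by
    intro x y
    refine Quotient.inductionOn₂ x y ?_
    intro a b hab
    have h1 : a * (γ a)⁻¹ = b * (γ b)⁻¹ := congrArg Subtype.val hab
    apply Quotient.sound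
    apply QuotientGroup.leftRel_apply.mpr
    show γ (a⁻¹ * b) = a⁻¹ * b
    rw [map_mul, map_inv]
    have h2 : (γ a)⁻¹ * γ b = a⁻¹ * b := by
      have : (γ a)⁻¹ = a⁻¹ * (b * (γ b)⁻¹) := by rw [← h1]; group
      rw [this]; group
    exact h2
  have hcard : Nat.card A ≤ Nat.card (H ⧸ Cs) := by
    have h1 : Cs.index * Nat.card Cs = Nat.card H := Subgroup.index_mul_card Cs
    have h2 : A.index * Nat.card A = Nat.card H := Subgroup.index_mul_card A
    rw [hCs] at h1
    rw [hA] at h2
    have h3 : Nat.card (H ⧸ Cs) = Cs.index := rfl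
    rw [h3]
    omega
  have hbij := hinj.bijective_of_nat_card_le hcard
  intro a ha
  obtain ⟨x, hx⟩ := hbij.surjective ⟨a, ha⟩
  revert hx
  refine Quotient.inductionOn x ?_
  intro h hx
  have h1 : h * (γ h)⁻¹ = a := congrArg Subtype.val hx
  rw [← h1]
  exact inverted_f γ hγγ h

/-- Let γ be an automorphism of order 2 of a finite group H. (i) If γ fixes only the identity, then H is abelian and γ inverts every element. (ii) If γ has exactly two fixed points and H has a subgroup of index 2, then H has a γ-invariant abelian subgroup of index 2 on which γ acts by inversion. -/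
theorem result {H : Type*} [Group H] [Finite H] (γ : MulAut H) (hγ : orderOf γ = 2) :
    ((∀ h : H, γ h = h → h = 1) → (∀ a b : H, a * b = b * a) ∧ ∀ h : H, γ h = h⁻¹) ∧
    ((Nat.card {h : H // γ h = h} = 2 ∧ ∃ M : Subgroup H, M.index = 2) →
      ∃ A : Subgroup H, A.index = 2 ∧ IsMulCommutative A ∧ (∀ a ∈ A, γ a ∈ A) ∧ ∀ a ∈ A, γ a = a⁻¹) := by
  have hγγ : ∀ h, γ (γ h) = h := by
    intro h
    have h1 : γ ^ 2 = 1 := by rw [← hγ]; exact pow_orderOf_eq_one γ
    have h2 : (γ ^ 2) h = h := by rw [h1]; rfl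
    rwa [pow_two] at h2
  constructor
  · intro hfpf
    -- the map h ↦ h (γ h)⁻¹ is injective, hence surjective
    have hinj : Function.Injective (fun h : H => h * (γ h)⁻¹) := by
      intro a b hab
      have h1 : a * (γ a)⁻¹ = b * (γ b)⁻¹ := hab
      have h2 : γ (b⁻¹ * a) = b⁻¹ * a := by
        rw [map_mul, map_inv]
        have : γ a = (b * (γ b)⁻¹)⁻¹ * a := by rw [← h1]; group
        rw [this]; group
      have h3 := hfpf _ h2
      exact (inv_mul_eq_one.mp h3).symm
    have hsurj : Function.Surjective (fun h : H => h * (γ h)⁻¹) :=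
      Finite.injective_iff_surjective.mp hinj
    have hall : ∀ h : H, γ h = h⁻¹ := by
      intro h
      obtain ⟨x, hx⟩ := hsurj h
      have hx' : x * (γ x)⁻¹ = h := hx
      rw [← hx']
      exact inverted_f γ hγγ x
    exact ⟨fun a b => comm_of_inverted γ (hall a) (hall b) (hall (a * b)), hall⟩
  · rintro ⟨hfix, M, hM⟩
    -- find an invariant subgroup of index two
    obtain ⟨A, hA, hAinv⟩ : ∃ A : Subgroup H, A.index = 2 ∧ ∀ a ∈ A, γ a ∈ A := by
      by_cases hMinv : ∀ a ∈ M, γ a ∈ M
      · exact ⟨M, hM, hMinv⟩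
      · push Not at hMinv
        obtain ⟨a, haM, hγa⟩ := hMinv
        refine ⟨symmSubgroup γ M hM, ?_, ?_⟩
        · rw [Subgroup.index_eq_two_iff]
          refine ⟨a, fun b => ?_⟩
          have e1 : b * a ∈ symmSubgroup γ M hM ↔ (b ∈ M ↔ ¬ γ b ∈ M) := by
            show (b * a ∈ M ↔ γ (b * a) ∈ M) ↔ _
            rw [map_mul, Subgroup.mul_mem_iff_of_index_two hM, Subgroup.mul_mem_iff_of_index_two hM]
            simp only [haM, hγa, iff_true, iff_false]
          have e2 : b ∈ symmSubgroup γ M hM ↔ (b ∈ M ↔ γ b ∈ M) := Iff.rfl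
          rw [e1, e2]
          by_cases h1 : b ∈ M <;> by_cases h2 : γ b ∈ M <;> simp [h1, h2, Xor]
        · intro x hx
          show γ x ∈ M ↔ γ (γ x) ∈ M
          rw [hγγ]
          exact Iff.symm hx
    have hinvA := inverted_of_invariant γ hγγ hfix A hA hAinv
    refine ⟨A, hA, ⟨⟨fun a b => ?_⟩⟩, hAinv, hinvA⟩
    apply Subtype.ext
    show (a : H) * b = b * a
    exact comm_of_inverted γ (hinvA a a.2) (hinvA b b.2) (hinvA _ (A.mul_mem a.2 b.2))

end Cfsg.Agent.S3375
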