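import Mathlib
import Cfsg.Statements.S3377
-- import your own Cfsg.Agent.* helpers here

set_option autoImplicit false
open Cfsg

namespace Cfsg.Agent.S3377

/-- the relators -/
abbrev rels : Set (FreeGroup (Fin 2)) :=
  {FreeGroup.of (0 : Fin 2) ^ 3, FreeGroup.of (1 : Fin 2) ^ 5,
    (FreeGroup.of (0 : Fin 2) * FreeGroup.of 1) ^ 2}

/-- the presented group -/
abbrev P := PresentedGroup rels

/-- evaluation of a word in the generators -/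
def ev (w : List (Fin 2)) : P := (w.map (fun i => (PresentedGroup.of i : P))).prod

theorem ev_append (u v : List (Fin 2)) : ev (u ++ v) = ev u * ev v := by
  simp [ev]

theorem ev_cons (i : Fin 2) (w : List (Fin 2)) : ev (i :: w) = PresentedGroup.of i * ev w := by
  simp [ev]

theorem ev_nil : ev [] = 1 := by simp [ev]

theorem ev_step (p l r s : List (Fin 2)) {w w' : List (Fin 2)} (h : ev l = ev r)
    (hw : w = p ++ l ++ s) (hw' : w' = p ++ r ++ s) : ev w = ev w' := by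
  subst hw hw'
  simp only [ev_append, h]

theorem rel0 : ev [0, 0, 0] = ev [] := by
  have h : PresentedGroup.mk rels (FreeGroup.of (0 : Fin 2) ^ 3) = 1 :=
    PresentedGroup.one_of_mem (by simp [rels])
  rw [map_pow] at h
  simp only [ev_cons, ev_nil, mul_one]
  rw [← h, pow_succ, pow_two, mul_assoc]
  rfl

theorem rel1 : ev [1, 1, 1, 1, 1] = ev [] := by
  have h : PresentedGroup.mk rels (FreeGroup.of (1 : Fin 2) ^ 5) = 1 :=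
    PresentedGroup.one_of_mem (by simp [rels])
  rw [map_pow] at h
  simp only [ev_cons, ev_nil, mul_one]
  rw [← h]
  simp only [pow_succ, pow_zero, one_mul, mul_assoc]
  rfl

theorem rel2 : ev [0, 1, 0, 1] = ev [] := by
  have h : PresentedGroup.mk rels ((FreeGroup.of (0 : Fin 2) * FreeGroup.of 1) ^ 2) = 1 :=
    PresentedGroup.one_of_mem (by simp [rels])
  rw [map_pow, map_mul] at h
  simp only [ev_cons, ev_nil, mul_one]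
  rw [← h, pow_two]
  simp only [mul_assoc]
  rfl

theorem R0 : ev [0, 0, 0] = ev [] := by
  have h0 : ev [0, 0, 0] = ev [] := rel0
  exact h0

theorem R1 : ev [1, 1, 1, 1, 1] = ev [] := by
  have h0 : ev [1, 1, 1, 1, 1] = ev [] := rel1
  exact h0

theorem R2 : ev [0, 1, 0, 1] = ev [] := by
  have h0 : ev [0, 1, 0, 1] = ev [] := rel2
  exact h0

theorem R3 : ev [1, 0, 1] = ev [0, 0] := by
  have e1 : ev [0, 0, 0, 1, 0, 1] = ev [1, 0, 1] :=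
    ev_step [] [0, 0, 0] [] [1, 0, 1] R0 rfl rfl
  have e2 : ev [0, 0, 0, 1, 0, 1] = ev [0, 0] :=
    ev_step [0, 0] [0, 1, 0, 1] [] [] R2 rfl rfl
  have h0 : ev [1, 0, 1] = ev [0, 0] := e1.symm.trans e2
  exact h0

theorem R4 : ev [1, 1, 1, 1] = ev [0, 1, 0] := by
  have e1 : ev [0, 1, 0, 1, 1, 1, 1, 1] = ev [1, 1, 1, 1] :=
    ev_step [] [0, 1, 0, 1] [] [1, 1, 1, 1] R2 rfl rfl
  have e2 : ev [0, 1, 0, 1, 1, 1, 1, 1] = ev [0, 1, 0] :=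
    ev_step [0, 1, 0] [1, 1, 1, 1, 1] [] [] R1 rfl rfl
  have h0 : ev [1, 1, 1, 1] = ev [0, 1, 0] := e1.symm.trans e2
  exact h0

theorem R5 : ev [0, 1, 0, 0, 1, 0] = ev [1, 1, 1] := by
  have e1 : ev [0, 1, 0, 1, 1, 1, 1] = ev [1, 1, 1] :=
    ev_step [] [0, 1, 0, 1] [] [1, 1, 1] R2 rfl rfl
  have e2 : ev [0, 1, 0, 1, 1, 1, 1] = ev [0, 1, 0, 0, 1, 0] :=
    ev_step [0, 1, 0] [1, 1, 1, 1] [0, 1, 0] [] R4 rfl rfl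
  have h0 : ev [1, 1, 1] = ev [0, 1, 0, 0, 1, 0] := e1.symm.trans e2
  exact (h0).symm

theorem R6 : ev [1, 0, 0, 1, 0] = ev [0, 0, 1, 1, 1] := by
  have e1 : ev [1, 0, 1, 1, 1, 1] = ev [0, 0, 1, 1, 1] :=
    ev_step [] [1, 0, 1] [0, 0] [1, 1, 1] R3 rfl rfl
  have e2 : ev [1, 0, 1, 1, 1, 1] = ev [1, 0, 0, 1, 0] :=
    ev_step [1, 0] [1, 1, 1, 1] [0, 1, 0] [] R4 rfl rfl
  have h0 : ev [0, 0, 1, 1, 1] = ev [1, 0, 0, 1, 0] := e1.symm.trans e2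
  exact (h0).symm

theorem R7 : ev [1, 1, 1, 0, 0] = ev [0, 1, 0, 0, 1] := by
  have e1 : ev [1, 1, 1, 1, 0, 1] = ev [0, 1, 0, 0, 1] :=
    ev_step [] [1, 1, 1, 1] [0, 1, 0] [0, 1] R4 rfl rfl
  have e2 : ev [1, 1, 1, 1, 0, 1] = ev [1, 1, 1, 0, 0] :=
    ev_step [1, 1, 1] [1, 0, 1] [0, 0] [] R3 rfl rfl
  have h0 : ev [0, 1, 0, 0, 1] = ev [1, 1, 1, 0, 0] := e1.symm.trans e2
  exact (h0).symm

theorem R8 : ev [1, 1, 0, 0, 1, 1, 1] = ev [0, 1, 0, 0, 1, 1, 0] := by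
  have e1 : ev [1, 1, 1, 0, 0, 1, 0] = ev [0, 1, 0, 0, 1, 1, 0] :=
    ev_step [] [1, 1, 1, 0, 0] [0, 1, 0, 0, 1] [1, 0] R7 rfl rfl
  have e2 : ev [1, 1, 1, 0, 0, 1, 0] = ev [1, 1, 0, 0, 1, 1, 1] :=
    ev_step [1, 1] [1, 0, 0, 1, 0] [0, 0, 1, 1, 1] [] R6 rfl rfl
  have h0 : ev [0, 1, 0, 0, 1, 1, 0] = ev [1, 1, 0, 0, 1, 1, 1] := e1.symm.trans e2
  exact (h0).symm

theorem R9 : ev [0, 1, 0, 0, 1, 1, 0, 0, 1] = ev [1, 1, 0, 0, 1, 1, 0, 0] := by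
  have e1 : ev [1, 1, 0, 0, 1, 1, 1, 0, 1] = ev [0, 1, 0, 0, 1, 1, 0, 0, 1] :=
    ev_step [] [1, 1, 0, 0, 1, 1, 1] [0, 1, 0, 0, 1, 1, 0] [0, 1] R8 rfl rfl
  have e2 : ev [1, 1, 0, 0, 1, 1, 1, 0, 1] = ev [1, 1, 0, 0, 1, 1, 0, 0] :=
    ev_step [1, 1, 0, 0, 1, 1] [1, 0, 1] [0, 0] [] R3 rfl rfl
  have h0 : ev [0, 1, 0, 0, 1, 1, 0, 0, 1] = ev [1, 1, 0, 0, 1, 1, 0, 0] := e1.symm.trans e2
  exact h0

theorem R10 : ev [0, 0, 1, 1, 0, 0, 1, 1, 0, 0] = ev [1, 0, 0, 1, 1, 0, 0, 1] := by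
  have e1 : ev [0, 0, 0, 1, 0, 0, 1, 1, 0, 0, 1] = ev [1, 0, 0, 1, 1, 0, 0, 1] :=
    ev_step [] [0, 0, 0] [] [1, 0, 0, 1, 1, 0, 0, 1] R0 rfl rfl
  have e2 : ev [0, 0, 0, 1, 0, 0, 1, 1, 0, 0, 1] = ev [0, 0, 1, 1, 0, 0, 1, 1, 0, 0] :=
    ev_step [0, 0] [0, 1, 0, 0, 1, 1, 0, 0, 1] [1, 1, 0, 0, 1, 1, 0, 0] [] R9 rfl rfl
  have h0 : ev [1, 0, 0, 1, 1, 0, 0, 1] = ev [0, 0, 1, 1, 0, 0, 1, 1, 0, 0] := e1.symm.trans e2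
  exact (h0).symm

theorem R11 : ev [1, 1, 0, 0, 1, 1, 0, 0, 1, 1] = ev [0, 1, 1, 0, 0, 1, 1, 0] := by
  have e1 : ev [0, 1, 0, 0, 1, 1, 0, 0, 1, 1, 1] = ev [1, 1, 0, 0, 1, 1, 0, 0, 1, 1] :=
    ev_step [] [0, 1, 0, 0, 1, 1, 0, 0, 1] [1, 1, 0, 0, 1, 1, 0, 0] [1, 1] R9 rfl rfl
  have e2 : ev [0, 1, 0, 0, 1, 1, 0, 0, 1, 1, 1] = ev [0, 1, 0, 0, 0, 1, 0, 0, 1, 1, 0] :=
    ev_step [0, 1, 0, 0] [1, 1, 0, 0, 1, 1, 1] [0, 1, 0, 0, 1, 1, 0] [] R8 rfl rfl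
  have h0 : ev [1, 1, 0, 0, 1, 1, 0, 0, 1, 1] = ev [0, 1, 0, 0, 0, 1, 0, 0, 1, 1, 0] := e1.symm.trans e2
  have b0 : ev [0, 1, 0, 0, 0, 1, 0, 0, 1, 1, 0] = ev [0, 1, 1, 0, 0, 1, 1, 0] :=
    ev_step [0, 1] [0, 0, 0] [] [1, 0, 0, 1, 1, 0] R0 rfl rfl
  exact (h0).trans (b0)

theorem R12 : ev [1, 0, 0, 1, 1, 0, 0, 1, 1, 0] = ev [0, 1, 1, 0, 0, 1, 1, 0, 0, 1] := by
  have e1 : ev [1, 0, 1, 1, 0, 0, 1, 1, 0, 0, 1, 1] = ev [0, 0, 1, 0, 0, 1, 1, 0, 0, 1, 1] :=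
    ev_step [] [1, 0, 1] [0, 0] [1, 0, 0, 1, 1, 0, 0, 1, 1] R3 rfl rfl
  have e2 : ev [1, 0, 1, 1, 0, 0, 1, 1, 0, 0, 1, 1] = ev [1, 0, 0, 1, 1, 0, 0, 1, 1, 0] :=
    ev_step [1, 0] [1, 1, 0, 0, 1, 1, 0, 0, 1, 1] [0, 1, 1, 0, 0, 1, 1, 0] [] R11 rfl rfl
  have h0 : ev [0, 0, 1, 0, 0, 1, 1, 0, 0, 1, 1] = ev [1, 0, 0, 1, 1, 0, 0, 1, 1, 0] := e1.symm.trans e2
  have a0 : ev [0, 0, 1, 0, 0, 1, 1, 0, 0, 1, 1] = ev [0, 1, 1, 0, 0, 1, 1, 0, 0, 1] :=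
    ev_step [0] [0, 1, 0, 0, 1, 1, 0, 0, 1] [1, 1, 0, 0, 1, 1, 0, 0] [1] R9 rfl rfl
  exact (((a0).symm).trans h0).symm

/-- the list of normal forms -/
def NF : List (List (Fin 2)) := [
  [],
  [0],
  [1],
  [0, 0],
  [0, 1],
  [1, 0],
  [1, 1],
  [0, 0, 1],
  [0, 1, 0],
  [0, 1, 1],
  [1, 0, 0],
  [1, 1, 0],
  [1, 1, 1],
  [0, 0, 1, 0],
  [0, 0, 1, 1],
  [0, 1, 0, 0],
  [0, 1, 1, 0],
  [0, 1, 1, 1],
  [1, 0, 0, 1],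
  [1, 1, 0, 0],
  [1, 1, 1, 0],
  [0, 0, 1, 0, 0],
  [0, 0, 1, 1, 0],
  [0, 0, 1, 1, 1],
  [0, 1, 0, 0, 1],
  [0, 1, 1, 0, 0],
  [0, 1, 1, 1, 0],
  [1, 0, 0, 1, 1],
  [1, 1, 0, 0, 1],
  [0, 0, 1, 0, 0, 1],
  [0, 0, 1, 1, 0, 0],
  [0, 0, 1, 1, 1, 0],
  [0, 1, 0, 0, 1, 1],
  [0, 1, 1, 0, 0, 1],
  [1, 0, 0, 1, 1, 0],
  [1, 0, 0, 1, 1, 1],
  [1, 1, 0, 0, 1, 1],
  [0, 0, 1, 0, 0, 1, 1],
  [0, 0, 1, 1, 0, 0, 1],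
  [0, 1, 0, 0, 1, 1, 0],
  [0, 1, 0, 0, 1, 1, 1],
  [0, 1, 1, 0, 0, 1, 1],
  [1, 0, 0, 1, 1, 0, 0],
  [1, 0, 0, 1, 1, 1, 0],
  [1, 1, 0, 0, 1, 1, 0],
  [0, 0, 1, 0, 0, 1, 1, 0],
  [0, 0, 1, 0, 0, 1, 1, 1],
  [0, 0, 1, 1, 0, 0, 1, 1],
  [0, 1, 0, 0, 1, 1, 0, 0],
  [0, 1, 0, 0, 1, 1, 1, 0],
  [0, 1, 1, 0, 0, 1, 1, 0],
  [1, 0, 0, 1, 1, 0, 0, 1],
  [1, 1, 0, 0, 1, 1, 0, 0],
  [0, 0, 1, 0, 0, 1, 1, 0, 0],
  [0, 0, 1, 0, 0, 1, 1, 1, 0],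
  [0, 0, 1, 1, 0, 0, 1, 1, 0],
  [0, 1, 1, 0, 0, 1, 1, 0, 0],
  [1, 0, 0, 1, 1, 0, 0, 1, 1],
  [1, 1, 0, 0, 1, 1, 0, 0, 1],
  [0, 1, 1, 0, 0, 1, 1, 0, 0, 1]
]

theorem T0_0 : ev (0 :: []) = ev [0] := by
  rfl

theorem T0_1 : ev (0 :: [0]) = ev [0, 0] := by
  rfl

theorem T0_2 : ev (0 :: [1]) = ev [0, 1] := by
  rfl

theorem T0_3 : ev (0 :: [0, 0]) = ev [] := by
  have s0 : ev [0, 0, 0] = ev [] :=
    ev_step [] [0, 0, 0] [] [] R0 rfl rfl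
  exact s0

theorem T0_4 : ev (0 :: [0, 1]) = ev [0, 0, 1] := by
  rfl

theorem T0_5 : ev (0 :: [1, 0]) = ev [0, 1, 0] := by
  rfl

theorem T0_6 : ev (0 :: [1, 1]) = ev [0, 1, 1] := by
  rfl

theorem T0_7 : ev (0 :: [0, 0, 1]) = ev [1] := by
  have s0 : ev [0, 0, 0, 1] = ev [1] :=
    ev_step [] [0, 0, 0] [] [1] R0 rfl rfl
  exact s0

theorem T0_8 : ev (0 :: [0, 1, 0]) = ev [0, 0, 1, 0] := by
  rfl

theorem T0_9 : ev (0 :: [0, 1, 1]) = ev [0, 0, 1, 1] := by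
  rfl

theorem T0_10 : ev (0 :: [1, 0, 0]) = ev [0, 1, 0, 0] := by
  rfl

theorem T0_11 : ev (0 :: [1, 1, 0]) = ev [0, 1, 1, 0] := by
  rfl

theorem T0_12 : ev (0 :: [1, 1, 1]) = ev [0, 1, 1, 1] := by
  rfl

theorem T0_13 : ev (0 :: [0, 0, 1, 0]) = ev [1, 0] := by
  have s0 : ev [0, 0, 0, 1, 0] = ev [1, 0] :=
    ev_step [] [0, 0, 0] [] [1, 0] R0 rfl rfl
  exact s0

theorem T0_14 : ev (0 :: [0, 0, 1, 1]) = ev [1, 1] := by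
  have s0 : ev [0, 0, 0, 1, 1] = ev [1, 1] :=
    ev_step [] [0, 0, 0] [] [1, 1] R0 rfl rfl
  exact s0

theorem T0_15 : ev (0 :: [0, 1, 0, 0]) = ev [0, 0, 1, 0, 0] := by
  rfl

theorem T0_16 : ev (0 :: [0, 1, 1, 0]) = ev [0, 0, 1, 1, 0] := by
  rfl

theorem T0_17 : ev (0 :: [0, 1, 1, 1]) = ev [0, 0, 1, 1, 1] := by
  rfl

theorem T0_18 : ev (0 :: [1, 0, 0, 1]) = ev [0, 1, 0, 0, 1] := by
  rfl

theorem T0_19 : ev (0 :: [1, 1, 0, 0]) = ev [0, 1, 1, 0, 0] := by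
  rfl

theorem T0_20 : ev (0 :: [1, 1, 1, 0]) = ev [0, 1, 1, 1, 0] := by
  rfl

theorem T0_21 : ev (0 :: [0, 0, 1, 0, 0]) = ev [1, 0, 0] := by
  have s0 : ev [0, 0, 0, 1, 0, 0] = ev [1, 0, 0] :=
    ev_step [] [0, 0, 0] [] [1, 0, 0] R0 rfl rfl
  exact s0

theorem T0_22 : ev (0 :: [0, 0, 1, 1, 0]) = ev [1, 1, 0] := by
  have s0 : ev [0, 0, 0, 1, 1, 0] = ev [1, 1, 0] :=
    ev_step [] [0, 0, 0] [] [1, 1, 0] R0 rfl rfl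
  exact s0

theorem T0_23 : ev (0 :: [0, 0, 1, 1, 1]) = ev [1, 1, 1] := by
  have s0 : ev [0, 0, 0, 1, 1, 1] = ev [1, 1, 1] :=
    ev_step [] [0, 0, 0] [] [1, 1, 1] R0 rfl rfl
  exact s0

theorem T0_24 : ev (0 :: [0, 1, 0, 0, 1]) = ev [0, 0, 1, 0, 0, 1] := by
  rfl

theorem T0_25 : ev (0 :: [0, 1, 1, 0, 0]) = ev [0, 0, 1, 1, 0, 0] := by
  rfl

theorem T0_26 : ev (0 :: [0, 1, 1, 1, 0]) = ev [0, 0, 1, 1, 1, 0] := by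
  rfl

theorem T0_27 : ev (0 :: [1, 0, 0, 1, 1]) = ev [0, 1, 0, 0, 1, 1] := by
  rfl

theorem T0_28 : ev (0 :: [1, 1, 0, 0, 1]) = ev [0, 1, 1, 0, 0, 1] := by
  rfl

theorem T0_29 : ev (0 :: [0, 0, 1, 0, 0, 1]) = ev [1, 0, 0, 1] := by
  have s0 : ev [0, 0, 0, 1, 0, 0, 1] = ev [1, 0, 0, 1] :=
    ev_step [] [0, 0, 0] [] [1, 0, 0, 1] R0 rfl rfl
  exact s0

theorem T0_30 : ev (0 :: [0, 0, 1, 1, 0, 0]) = ev [1, 1, 0, 0] := by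
  have s0 : ev [0, 0, 0, 1, 1, 0, 0] = ev [1, 1, 0, 0] :=
    ev_step [] [0, 0, 0] [] [1, 1, 0, 0] R0 rfl rfl
  exact s0

theorem T0_31 : ev (0 :: [0, 0, 1, 1, 1, 0]) = ev [1, 1, 1, 0] := by
  have s0 : ev [0, 0, 0, 1, 1, 1, 0] = ev [1, 1, 1, 0] :=
    ev_step [] [0, 0, 0] [] [1, 1, 1, 0] R0 rfl rfl
  exact s0

theorem T0_32 : ev (0 :: [0, 1, 0, 0, 1, 1]) = ev [0, 0, 1, 0, 0, 1, 1] := by
  rfl

theorem T0_33 : ev (0 :: [0, 1, 1, 0, 0, 1]) = ev [0, 0, 1, 1, 0, 0, 1] := by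
  rfl

theorem T0_34 : ev (0 :: [1, 0, 0, 1, 1, 0]) = ev [0, 1, 0, 0, 1, 1, 0] := by
  rfl

theorem T0_35 : ev (0 :: [1, 0, 0, 1, 1, 1]) = ev [0, 1, 0, 0, 1, 1, 1] := by
  rfl

theorem T0_36 : ev (0 :: [1, 1, 0, 0, 1, 1]) = ev [0, 1, 1, 0, 0, 1, 1] := by
  rfl

theorem T0_37 : ev (0 :: [0, 0, 1, 0, 0, 1, 1]) = ev [1, 0, 0, 1, 1] := by
  have s0 : ev [0, 0, 0, 1, 0, 0, 1, 1] = ev [1, 0, 0, 1, 1] :=
    ev_step [] [0, 0, 0] [] [1, 0, 0, 1, 1] R0 rfl rfl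
  exact s0

theorem T0_38 : ev (0 :: [0, 0, 1, 1, 0, 0, 1]) = ev [1, 1, 0, 0, 1] := by
  have s0 : ev [0, 0, 0, 1, 1, 0, 0, 1] = ev [1, 1, 0, 0, 1] :=
    ev_step [] [0, 0, 0] [] [1, 1, 0, 0, 1] R0 rfl rfl
  exact s0

theorem T0_39 : ev (0 :: [0, 1, 0, 0, 1, 1, 0]) = ev [0, 0, 1, 0, 0, 1, 1, 0] := by
  rfl

theorem T0_40 : ev (0 :: [0, 1, 0, 0, 1, 1, 1]) = ev [0, 0, 1, 0, 0, 1, 1, 1] := by
  rfl

theorem T0_41 : ev (0 :: [0, 1, 1, 0, 0, 1, 1]) = ev [0, 0, 1, 1, 0, 0, 1, 1] := by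
  rfl

theorem T0_42 : ev (0 :: [1, 0, 0, 1, 1, 0, 0]) = ev [0, 1, 0, 0, 1, 1, 0, 0] := by
  rfl

theorem T0_43 : ev (0 :: [1, 0, 0, 1, 1, 1, 0]) = ev [0, 1, 0, 0, 1, 1, 1, 0] := by
  rfl

theorem T0_44 : ev (0 :: [1, 1, 0, 0, 1, 1, 0]) = ev [0, 1, 1, 0, 0, 1, 1, 0] := by
  rfl

theorem T0_45 : ev (0 :: [0, 0, 1, 0, 0, 1, 1, 0]) = ev [1, 0, 0, 1, 1, 0] := by
  have s0 : ev [0, 0, 0, 1, 0, 0, 1, 1, 0] = ev [1, 0, 0, 1, 1, 0] :=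
    ev_step [] [0, 0, 0] [] [1, 0, 0, 1, 1, 0] R0 rfl rfl
  exact s0

theorem T0_46 : ev (0 :: [0, 0, 1, 0, 0, 1, 1, 1]) = ev [1, 0, 0, 1, 1, 1] := by
  have s0 : ev [0, 0, 0, 1, 0, 0, 1, 1, 1] = ev [1, 0, 0, 1, 1, 1] :=
    ev_step [] [0, 0, 0] [] [1, 0, 0, 1, 1, 1] R0 rfl rfl
  exact s0

theorem T0_47 : ev (0 :: [0, 0, 1, 1, 0, 0, 1, 1]) = ev [1, 1, 0, 0, 1, 1] := by
  have s0 : ev [0, 0, 0, 1, 1, 0, 0, 1, 1] = ev [1, 1, 0, 0, 1, 1] :=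
    ev_step [] [0, 0, 0] [] [1, 1, 0, 0, 1, 1] R0 rfl rfl
  exact s0

theorem T0_48 : ev (0 :: [0, 1, 0, 0, 1, 1, 0, 0]) = ev [0, 0, 1, 0, 0, 1, 1, 0, 0] := by
  rfl

theorem T0_49 : ev (0 :: [0, 1, 0, 0, 1, 1, 1, 0]) = ev [0, 0, 1, 0, 0, 1, 1, 1, 0] := by
  rfl

theorem T0_50 : ev (0 :: [0, 1, 1, 0, 0, 1, 1, 0]) = ev [0, 0, 1, 1, 0, 0, 1, 1, 0] := by
  rfl

theorem T0_51 : ev (0 :: [1, 0, 0, 1, 1, 0, 0, 1]) = ev [1, 1, 0, 0, 1, 1, 0, 0] := by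
  have s0 : ev [0, 1, 0, 0, 1, 1, 0, 0, 1] = ev [1, 1, 0, 0, 1, 1, 0, 0] :=
    ev_step [] [0, 1, 0, 0, 1, 1, 0, 0, 1] [1, 1, 0, 0, 1, 1, 0, 0] [] R9 rfl rfl
  exact s0

theorem T0_52 : ev (0 :: [1, 1, 0, 0, 1, 1, 0, 0]) = ev [0, 1, 1, 0, 0, 1, 1, 0, 0] := by
  rfl

theorem T0_53 : ev (0 :: [0, 0, 1, 0, 0, 1, 1, 0, 0]) = ev [1, 0, 0, 1, 1, 0, 0] := by
  have s0 : ev [0, 0, 0, 1, 0, 0, 1, 1, 0, 0] = ev [1, 0, 0, 1, 1, 0, 0] :=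
    ev_step [] [0, 0, 0] [] [1, 0, 0, 1, 1, 0, 0] R0 rfl rfl
  exact s0

theorem T0_54 : ev (0 :: [0, 0, 1, 0, 0, 1, 1, 1, 0]) = ev [1, 0, 0, 1, 1, 1, 0] := by
  have s0 : ev [0, 0, 0, 1, 0, 0, 1, 1, 1, 0] = ev [1, 0, 0, 1, 1, 1, 0] :=
    ev_step [] [0, 0, 0] [] [1, 0, 0, 1, 1, 1, 0] R0 rfl rfl
  exact s0

theorem T0_55 : ev (0 :: [0, 0, 1, 1, 0, 0, 1, 1, 0]) = ev [1, 1, 0, 0, 1, 1, 0] := by
  have s0 : ev [0, 0, 0, 1, 1, 0, 0, 1, 1, 0] = ev [1, 1, 0, 0, 1, 1, 0] :=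
    ev_step [] [0, 0, 0] [] [1, 1, 0, 0, 1, 1, 0] R0 rfl rfl
  exact s0

theorem T0_56 : ev (0 :: [0, 1, 1, 0, 0, 1, 1, 0, 0]) = ev [1, 0, 0, 1, 1, 0, 0, 1] := by
  have s0 : ev [0, 0, 1, 1, 0, 0, 1, 1, 0, 0] = ev [1, 0, 0, 1, 1, 0, 0, 1] :=
    ev_step [] [0, 0, 1, 1, 0, 0, 1, 1, 0, 0] [1, 0, 0, 1, 1, 0, 0, 1] [] R10 rfl rfl
  exact s0

theorem T0_57 : ev (0 :: [1, 0, 0, 1, 1, 0, 0, 1, 1]) = ev [1, 1, 0, 0, 1, 1, 0, 0, 1] := by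
  have s0 : ev [0, 1, 0, 0, 1, 1, 0, 0, 1, 1] = ev [1, 1, 0, 0, 1, 1, 0, 0, 1] :=
    ev_step [] [0, 1, 0, 0, 1, 1, 0, 0, 1] [1, 1, 0, 0, 1, 1, 0, 0] [1] R9 rfl rfl
  exact s0

theorem T0_58 : ev (0 :: [1, 1, 0, 0, 1, 1, 0, 0, 1]) = ev [0, 1, 1, 0, 0, 1, 1, 0, 0, 1] := by
  rfl

theorem T0_59 : ev (0 :: [0, 1, 1, 0, 0, 1, 1, 0, 0, 1]) = ev [1, 0, 0, 1, 1, 0, 0, 1, 1] := by
  have s0 : ev [0, 0, 1, 1, 0, 0, 1, 1, 0, 0, 1] = ev [1, 0, 0, 1, 1, 0, 0, 1, 1] :=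
    ev_step [] [0, 0, 1, 1, 0, 0, 1, 1, 0, 0] [1, 0, 0, 1, 1, 0, 0, 1] [1] R10 rfl rfl
  exact s0

theorem T1_0 : ev (1 :: []) = ev [1] := by
  rfl

theorem T1_1 : ev (1 :: [0]) = ev [1, 0] := by
  rfl

theorem T1_2 : ev (1 :: [1]) = ev [1, 1] := by
  rfl

theorem T1_3 : ev (1 :: [0, 0]) = ev [1, 0, 0] := by
  rfl

theorem T1_4 : ev (1 :: [0, 1]) = ev [0, 0] := by
  have s0 : ev [1, 0, 1] = ev [0, 0] :=
    ev_step [] [1, 0, 1] [0, 0] [] R3 rfl rfl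
  exact s0

theorem T1_5 : ev (1 :: [1, 0]) = ev [1, 1, 0] := by
  rfl

theorem T1_6 : ev (1 :: [1, 1]) = ev [1, 1, 1] := by
  rfl

theorem T1_7 : ev (1 :: [0, 0, 1]) = ev [1, 0, 0, 1] := by
  rfl

theorem T1_8 : ev (1 :: [0, 1, 0]) = ev [] := by
  have s0 : ev [1, 0, 1, 0] = ev [0, 0, 0] :=
    ev_step [] [1, 0, 1] [0, 0] [0] R3 rfl rfl
  have s1 : ev [0, 0, 0] = ev [] :=
    ev_step [] [0, 0, 0] [] [] R0 rfl rfl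
  exact (s0).trans s1

theorem T1_9 : ev (1 :: [0, 1, 1]) = ev [0, 0, 1] := by
  have s0 : ev [1, 0, 1, 1] = ev [0, 0, 1] :=
    ev_step [] [1, 0, 1] [0, 0] [1] R3 rfl rfl
  exact s0

theorem T1_10 : ev (1 :: [1, 0, 0]) = ev [1, 1, 0, 0] := by
  rfl

theorem T1_11 : ev (1 :: [1, 1, 0]) = ev [1, 1, 1, 0] := by
  rfl

theorem T1_12 : ev (1 :: [1, 1, 1]) = ev [0, 1, 0] := by
  have s0 : ev [1, 1, 1, 1] = ev [0, 1, 0] :=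
    ev_step [] [1, 1, 1, 1] [0, 1, 0] [] R4 rfl rfl
  exact s0

theorem T1_13 : ev (1 :: [0, 0, 1, 0]) = ev [0, 0, 1, 1, 1] := by
  have s0 : ev [1, 0, 0, 1, 0] = ev [0, 0, 1, 1, 1] :=
    ev_step [] [1, 0, 0, 1, 0] [0, 0, 1, 1, 1] [] R6 rfl rfl
  exact s0

theorem T1_14 : ev (1 :: [0, 0, 1, 1]) = ev [1, 0, 0, 1, 1] := by
  rfl

theorem T1_15 : ev (1 :: [0, 1, 0, 0]) = ev [0] := by
  have s0 : ev [1, 0, 1, 0, 0] = ev [0, 0, 0, 0] :=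
    ev_step [] [1, 0, 1] [0, 0] [0, 0] R3 rfl rfl
  have s1 : ev [0, 0, 0, 0] = ev [0] :=
    ev_step [] [0, 0, 0] [] [0] R0 rfl rfl
  exact (s0).trans s1

theorem T1_16 : ev (1 :: [0, 1, 1, 0]) = ev [0, 0, 1, 0] := by
  have s0 : ev [1, 0, 1, 1, 0] = ev [0, 0, 1, 0] :=
    ev_step [] [1, 0, 1] [0, 0] [1, 0] R3 rfl rfl
  exact s0

theorem T1_17 : ev (1 :: [0, 1, 1, 1]) = ev [0, 0, 1, 1] := by
  have s0 : ev [1, 0, 1, 1, 1] = ev [0, 0, 1, 1] :=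
    ev_step [] [1, 0, 1] [0, 0] [1, 1] R3 rfl rfl
  exact s0

theorem T1_18 : ev (1 :: [1, 0, 0, 1]) = ev [1, 1, 0, 0, 1] := by
  rfl

theorem T1_19 : ev (1 :: [1, 1, 0, 0]) = ev [0, 1, 0, 0, 1] := by
  have s0 : ev [1, 1, 1, 0, 0] = ev [0, 1, 0, 0, 1] :=
    ev_step [] [1, 1, 1, 0, 0] [0, 1, 0, 0, 1] [] R7 rfl rfl
  exact s0

theorem T1_20 : ev (1 :: [1, 1, 1, 0]) = ev [0, 1, 0, 0] := by
  have s0 : ev [1, 1, 1, 1, 0] = ev [0, 1, 0, 0] :=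
    ev_step [] [1, 1, 1, 1] [0, 1, 0] [0] R4 rfl rfl
  exact s0

theorem T1_21 : ev (1 :: [0, 0, 1, 0, 0]) = ev [0, 0, 1, 1, 1, 0] := by
  have s0 : ev [1, 0, 0, 1, 0, 0] = ev [0, 0, 1, 1, 1, 0] :=
    ev_step [] [1, 0, 0, 1, 0] [0, 0, 1, 1, 1] [0] R6 rfl rfl
  exact s0

theorem T1_22 : ev (1 :: [0, 0, 1, 1, 0]) = ev [1, 0, 0, 1, 1, 0] := by
  rfl

theorem T1_23 : ev (1 :: [0, 0, 1, 1, 1]) = ev [1, 0, 0, 1, 1, 1] := by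
  rfl

theorem T1_24 : ev (1 :: [0, 1, 0, 0, 1]) = ev [0, 1] := by
  have s0 : ev [1, 0, 1, 0, 0, 1] = ev [0, 0, 0, 0, 1] :=
    ev_step [] [1, 0, 1] [0, 0] [0, 0, 1] R3 rfl rfl
  have s1 : ev [0, 0, 0, 0, 1] = ev [0, 1] :=
    ev_step [] [0, 0, 0] [] [0, 1] R0 rfl rfl
  exact (s0).trans s1

theorem T1_25 : ev (1 :: [0, 1, 1, 0, 0]) = ev [0, 0, 1, 0, 0] := by
  have s0 : ev [1, 0, 1, 1, 0, 0] = ev [0, 0, 1, 0, 0] :=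
    ev_step [] [1, 0, 1] [0, 0] [1, 0, 0] R3 rfl rfl
  exact s0

theorem T1_26 : ev (1 :: [0, 1, 1, 1, 0]) = ev [0, 0, 1, 1, 0] := by
  have s0 : ev [1, 0, 1, 1, 1, 0] = ev [0, 0, 1, 1, 0] :=
    ev_step [] [1, 0, 1] [0, 0] [1, 1, 0] R3 rfl rfl
  exact s0

theorem T1_27 : ev (1 :: [1, 0, 0, 1, 1]) = ev [1, 1, 0, 0, 1, 1] := by
  rfl

theorem T1_28 : ev (1 :: [1, 1, 0, 0, 1]) = ev [0, 1, 0, 0, 1, 1] := by
  have s0 : ev [1, 1, 1, 0, 0, 1] = ev [0, 1, 0, 0, 1, 1] :=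
    ev_step [] [1, 1, 1, 0, 0] [0, 1, 0, 0, 1] [1] R7 rfl rfl
  exact s0

theorem T1_29 : ev (1 :: [0, 0, 1, 0, 0, 1]) = ev [0, 0, 1, 1, 0, 0] := by
  have s0 : ev [1, 0, 0, 1, 0, 0, 1] = ev [0, 0, 1, 1, 1, 0, 1] :=
    ev_step [] [1, 0, 0, 1, 0] [0, 0, 1, 1, 1] [0, 1] R6 rfl rfl
  have s1 : ev [0, 0, 1, 1, 1, 0, 1] = ev [0, 0, 1, 1, 0, 0] :=
    ev_step [0, 0, 1, 1] [1, 0, 1] [0, 0] [] R3 rfl rfl
  exact (s0).trans s1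

theorem T1_30 : ev (1 :: [0, 0, 1, 1, 0, 0]) = ev [1, 0, 0, 1, 1, 0, 0] := by
  rfl

theorem T1_31 : ev (1 :: [0, 0, 1, 1, 1, 0]) = ev [1, 0, 0, 1, 1, 1, 0] := by
  rfl

theorem T1_32 : ev (1 :: [0, 1, 0, 0, 1, 1]) = ev [0, 1, 1] := by
  have s0 : ev [1, 0, 1, 0, 0, 1, 1] = ev [0, 0, 0, 0, 1, 1] :=
    ev_step [] [1, 0, 1] [0, 0] [0, 0, 1, 1] R3 rfl rfl
  have s1 : ev [0, 0, 0, 0, 1, 1] = ev [0, 1, 1] :=
    ev_step [] [0, 0, 0] [] [0, 1, 1] R0 rfl rfl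
  exact (s0).trans s1

theorem T1_33 : ev (1 :: [0, 1, 1, 0, 0, 1]) = ev [0, 0, 1, 0, 0, 1] := by
  have s0 : ev [1, 0, 1, 1, 0, 0, 1] = ev [0, 0, 1, 0, 0, 1] :=
    ev_step [] [1, 0, 1] [0, 0] [1, 0, 0, 1] R3 rfl rfl
  exact s0

theorem T1_34 : ev (1 :: [1, 0, 0, 1, 1, 0]) = ev [1, 1, 0, 0, 1, 1, 0] := by
  rfl

theorem T1_35 : ev (1 :: [1, 0, 0, 1, 1, 1]) = ev [0, 1, 0, 0, 1, 1, 0] := by
  have s0 : ev [1, 1, 0, 0, 1, 1, 1] = ev [0, 1, 0, 0, 1, 1, 0] :=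
    ev_step [] [1, 1, 0, 0, 1, 1, 1] [0, 1, 0, 0, 1, 1, 0] [] R8 rfl rfl
  exact s0

theorem T1_36 : ev (1 :: [1, 1, 0, 0, 1, 1]) = ev [0, 1, 0, 0, 1, 1, 1] := by
  have s0 : ev [1, 1, 1, 0, 0, 1, 1] = ev [0, 1, 0, 0, 1, 1, 1] :=
    ev_step [] [1, 1, 1, 0, 0] [0, 1, 0, 0, 1] [1, 1] R7 rfl rfl
  exact s0

theorem T1_37 : ev (1 :: [0, 0, 1, 0, 0, 1, 1]) = ev [0, 0, 1, 1, 0, 0, 1] := by
  have s0 : ev [1, 0, 0, 1, 0, 0, 1, 1] = ev [0, 0, 1, 1, 1, 0, 1, 1] :=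
    ev_step [] [1, 0, 0, 1, 0] [0, 0, 1, 1, 1] [0, 1, 1] R6 rfl rfl
  have s1 : ev [0, 0, 1, 1, 1, 0, 1, 1] = ev [0, 0, 1, 1, 0, 0, 1] :=
    ev_step [0, 0, 1, 1] [1, 0, 1] [0, 0] [1] R3 rfl rfl
  exact (s0).trans s1

theorem T1_38 : ev (1 :: [0, 0, 1, 1, 0, 0, 1]) = ev [1, 0, 0, 1, 1, 0, 0, 1] := by
  rfl

theorem T1_39 : ev (1 :: [0, 1, 0, 0, 1, 1, 0]) = ev [0, 1, 1, 0] := by
  have s0 : ev [1, 0, 1, 0, 0, 1, 1, 0] = ev [0, 0, 0, 0, 1, 1, 0] :=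
    ev_step [] [1, 0, 1] [0, 0] [0, 0, 1, 1, 0] R3 rfl rfl
  have s1 : ev [0, 0, 0, 0, 1, 1, 0] = ev [0, 1, 1, 0] :=
    ev_step [] [0, 0, 0] [] [0, 1, 1, 0] R0 rfl rfl
  exact (s0).trans s1

theorem T1_40 : ev (1 :: [0, 1, 0, 0, 1, 1, 1]) = ev [0, 1, 1, 1] := by
  have s0 : ev [1, 0, 1, 0, 0, 1, 1, 1] = ev [0, 0, 0, 0, 1, 1, 1] :=
    ev_step [] [1, 0, 1] [0, 0] [0, 0, 1, 1, 1] R3 rfl rfl
  have s1 : ev [0, 0, 0, 0, 1, 1, 1] = ev [0, 1, 1, 1] :=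
    ev_step [] [0, 0, 0] [] [0, 1, 1, 1] R0 rfl rfl
  exact (s0).trans s1

theorem T1_41 : ev (1 :: [0, 1, 1, 0, 0, 1, 1]) = ev [0, 0, 1, 0, 0, 1, 1] := by
  have s0 : ev [1, 0, 1, 1, 0, 0, 1, 1] = ev [0, 0, 1, 0, 0, 1, 1] :=
    ev_step [] [1, 0, 1] [0, 0] [1, 0, 0, 1, 1] R3 rfl rfl
  exact s0

theorem T1_42 : ev (1 :: [1, 0, 0, 1, 1, 0, 0]) = ev [1, 1, 0, 0, 1, 1, 0, 0] := by
  rfl

theorem T1_43 : ev (1 :: [1, 0, 0, 1, 1, 1, 0]) = ev [0, 1, 0, 0, 1, 1, 0, 0] := by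
  have s0 : ev [1, 1, 0, 0, 1, 1, 1, 0] = ev [0, 1, 0, 0, 1, 1, 0, 0] :=
    ev_step [] [1, 1, 0, 0, 1, 1, 1] [0, 1, 0, 0, 1, 1, 0] [0] R8 rfl rfl
  exact s0

theorem T1_44 : ev (1 :: [1, 1, 0, 0, 1, 1, 0]) = ev [0, 1, 0, 0, 1, 1, 1, 0] := by
  have s0 : ev [1, 1, 1, 0, 0, 1, 1, 0] = ev [0, 1, 0, 0, 1, 1, 1, 0] :=
    ev_step [] [1, 1, 1, 0, 0] [0, 1, 0, 0, 1] [1, 1, 0] R7 rfl rfl
  exact s0

theorem T1_45 : ev (1 :: [0, 0, 1, 0, 0, 1, 1, 0]) = ev [0, 0, 1, 0, 0, 1, 1, 1] := by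
  have s0 : ev [1, 0, 0, 1, 0, 0, 1, 1, 0] = ev [0, 0, 1, 1, 1, 0, 1, 1, 0] :=
    ev_step [] [1, 0, 0, 1, 0] [0, 0, 1, 1, 1] [0, 1, 1, 0] R6 rfl rfl
  have s1 : ev [0, 0, 1, 1, 1, 0, 1, 1, 0] = ev [0, 0, 1, 1, 0, 0, 1, 0] :=
    ev_step [0, 0, 1, 1] [1, 0, 1] [0, 0] [1, 0] R3 rfl rfl
  have s2 : ev [0, 0, 1, 1, 0, 0, 1, 0] = ev [0, 0, 1, 0, 0, 1, 1, 1] :=
    ev_step [0, 0, 1] [1, 0, 0, 1, 0] [0, 0, 1, 1, 1] [] R6 rfl rfl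
  exact ((s0).trans s1).trans s2

theorem T1_46 : ev (1 :: [0, 0, 1, 0, 0, 1, 1, 1]) = ev [0, 0, 1, 1, 0, 0, 1, 1] := by
  have s0 : ev [1, 0, 0, 1, 0, 0, 1, 1, 1] = ev [0, 0, 1, 1, 1, 0, 1, 1, 1] :=
    ev_step [] [1, 0, 0, 1, 0] [0, 0, 1, 1, 1] [0, 1, 1, 1] R6 rfl rfl
  have s1 : ev [0, 0, 1, 1, 1, 0, 1, 1, 1] = ev [0, 0, 1, 1, 0, 0, 1, 1] :=
    ev_step [0, 0, 1, 1] [1, 0, 1] [0, 0] [1, 1] R3 rfl rfl
  exact (s0).trans s1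

theorem T1_47 : ev (1 :: [0, 0, 1, 1, 0, 0, 1, 1]) = ev [1, 0, 0, 1, 1, 0, 0, 1, 1] := by
  rfl

theorem T1_48 : ev (1 :: [0, 1, 0, 0, 1, 1, 0, 0]) = ev [0, 1, 1, 0, 0] := by
  have s0 : ev [1, 0, 1, 0, 0, 1, 1, 0, 0] = ev [0, 0, 0, 0, 1, 1, 0, 0] :=
    ev_step [] [1, 0, 1] [0, 0] [0, 0, 1, 1, 0, 0] R3 rfl rfl
  have s1 : ev [0, 0, 0, 0, 1, 1, 0, 0] = ev [0, 1, 1, 0, 0] :=
    ev_step [] [0, 0, 0] [] [0, 1, 1, 0, 0] R0 rfl rfl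
  exact (s0).trans s1

theorem T1_49 : ev (1 :: [0, 1, 0, 0, 1, 1, 1, 0]) = ev [0, 1, 1, 1, 0] := by
  have s0 : ev [1, 0, 1, 0, 0, 1, 1, 1, 0] = ev [0, 0, 0, 0, 1, 1, 1, 0] :=
    ev_step [] [1, 0, 1] [0, 0] [0, 0, 1, 1, 1, 0] R3 rfl rfl
  have s1 : ev [0, 0, 0, 0, 1, 1, 1, 0] = ev [0, 1, 1, 1, 0] :=
    ev_step [] [0, 0, 0] [] [0, 1, 1, 1, 0] R0 rfl rfl
  exact (s0).trans s1

theorem T1_50 : ev (1 :: [0, 1, 1, 0, 0, 1, 1, 0]) = ev [0, 0, 1, 0, 0, 1, 1, 0] := by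
  have s0 : ev [1, 0, 1, 1, 0, 0, 1, 1, 0] = ev [0, 0, 1, 0, 0, 1, 1, 0] :=
    ev_step [] [1, 0, 1] [0, 0] [1, 0, 0, 1, 1, 0] R3 rfl rfl
  exact s0

theorem T1_51 : ev (1 :: [1, 0, 0, 1, 1, 0, 0, 1]) = ev [1, 1, 0, 0, 1, 1, 0, 0, 1] := by
  rfl

theorem T1_52 : ev (1 :: [1, 1, 0, 0, 1, 1, 0, 0]) = ev [0, 1, 1, 0, 0, 1] := by
  have s0 : ev [1, 1, 1, 0, 0, 1, 1, 0, 0] = ev [0, 1, 0, 0, 1, 1, 1, 0, 0] :=
    ev_step [] [1, 1, 1, 0, 0] [0, 1, 0, 0, 1] [1, 1, 0, 0] R7 rfl rfl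
  have s1 : ev [0, 1, 0, 0, 1, 1, 1, 0, 0] = ev [0, 1, 0, 0, 0, 1, 0, 0, 1] :=
    ev_step [0, 1, 0, 0] [1, 1, 1, 0, 0] [0, 1, 0, 0, 1] [] R7 rfl rfl
  have s2 : ev [0, 1, 0, 0, 0, 1, 0, 0, 1] = ev [0, 1, 1, 0, 0, 1] :=
    ev_step [0, 1] [0, 0, 0] [] [1, 0, 0, 1] R0 rfl rfl
  exact ((s0).trans s1).trans s2

theorem T1_53 : ev (1 :: [0, 0, 1, 0, 0, 1, 1, 0, 0]) = ev [0, 0, 1, 0, 0, 1, 1, 1, 0] := by
  have s0 : ev [1, 0, 0, 1, 0, 0, 1, 1, 0, 0] = ev [0, 0, 1, 1, 1, 0, 1, 1, 0, 0] :=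
    ev_step [] [1, 0, 0, 1, 0] [0, 0, 1, 1, 1] [0, 1, 1, 0, 0] R6 rfl rfl
  have s1 : ev [0, 0, 1, 1, 1, 0, 1, 1, 0, 0] = ev [0, 0, 1, 1, 0, 0, 1, 0, 0] :=
    ev_step [0, 0, 1, 1] [1, 0, 1] [0, 0] [1, 0, 0] R3 rfl rfl
  have s2 : ev [0, 0, 1, 1, 0, 0, 1, 0, 0] = ev [0, 0, 1, 0, 0, 1, 1, 1, 0] :=
    ev_step [0, 0, 1] [1, 0, 0, 1, 0] [0, 0, 1, 1, 1] [0] R6 rfl rfl
  exact ((s0).trans s1).trans s2

theorem T1_54 : ev (1 :: [0, 0, 1, 0, 0, 1, 1, 1, 0]) = ev [0, 0, 1, 1, 0, 0, 1, 1, 0] := by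
  have s0 : ev [1, 0, 0, 1, 0, 0, 1, 1, 1, 0] = ev [0, 0, 1, 1, 1, 0, 1, 1, 1, 0] :=
    ev_step [] [1, 0, 0, 1, 0] [0, 0, 1, 1, 1] [0, 1, 1, 1, 0] R6 rfl rfl
  have s1 : ev [0, 0, 1, 1, 1, 0, 1, 1, 1, 0] = ev [0, 0, 1, 1, 0, 0, 1, 1, 0] :=
    ev_step [0, 0, 1, 1] [1, 0, 1] [0, 0] [1, 1, 0] R3 rfl rfl
  exact (s0).trans s1

theorem T1_55 : ev (1 :: [0, 0, 1, 1, 0, 0, 1, 1, 0]) = ev [0, 1, 1, 0, 0, 1, 1, 0, 0, 1] := by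
  have s0 : ev [1, 0, 0, 1, 1, 0, 0, 1, 1, 0] = ev [0, 1, 1, 0, 0, 1, 1, 0, 0, 1] :=
    ev_step [] [1, 0, 0, 1, 1, 0, 0, 1, 1, 0] [0, 1, 1, 0, 0, 1, 1, 0, 0, 1] [] R12 rfl rfl
  exact s0

theorem T1_56 : ev (1 :: [0, 1, 1, 0, 0, 1, 1, 0, 0]) = ev [0, 0, 1, 0, 0, 1, 1, 0, 0] := by
  have s0 : ev [1, 0, 1, 1, 0, 0, 1, 1, 0, 0] = ev [0, 0, 1, 0, 0, 1, 1, 0, 0] :=
    ev_step [] [1, 0, 1] [0, 0] [1, 0, 0, 1, 1, 0, 0] R3 rfl rfl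
  exact s0

theorem T1_57 : ev (1 :: [1, 0, 0, 1, 1, 0, 0, 1, 1]) = ev [0, 1, 1, 0, 0, 1, 1, 0] := by
  have s0 : ev [1, 1, 0, 0, 1, 1, 0, 0, 1, 1] = ev [0, 1, 1, 0, 0, 1, 1, 0] :=
    ev_step [] [1, 1, 0, 0, 1, 1, 0, 0, 1, 1] [0, 1, 1, 0, 0, 1, 1, 0] [] R11 rfl rfl
  exact s0

theorem T1_58 : ev (1 :: [1, 1, 0, 0, 1, 1, 0, 0, 1]) = ev [0, 1, 1, 0, 0, 1, 1] := by
  have s0 : ev [1, 1, 1, 0, 0, 1, 1, 0, 0, 1] = ev [0, 1, 0, 0, 1, 1, 1, 0, 0, 1] :=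
    ev_step [] [1, 1, 1, 0, 0] [0, 1, 0, 0, 1] [1, 1, 0, 0, 1] R7 rfl rfl
  have s1 : ev [0, 1, 0, 0, 1, 1, 1, 0, 0, 1] = ev [0, 1, 0, 0, 0, 1, 0, 0, 1, 1] :=
    ev_step [0, 1, 0, 0] [1, 1, 1, 0, 0] [0, 1, 0, 0, 1] [1] R7 rfl rfl
  have s2 : ev [0, 1, 0, 0, 0, 1, 0, 0, 1, 1] = ev [0, 1, 1, 0, 0, 1, 1] :=
    ev_step [0, 1] [0, 0, 0] [] [1, 0, 0, 1, 1] R0 rfl rfl
  exact ((s0).trans s1).trans s2

theorem T1_59 : ev (1 :: [0, 1, 1, 0, 0, 1, 1, 0, 0, 1]) = ev [0, 1, 1, 0, 0, 1, 1, 0, 0] := by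
  have s0 : ev [1, 0, 1, 1, 0, 0, 1, 1, 0, 0, 1] = ev [0, 0, 1, 0, 0, 1, 1, 0, 0, 1] :=
    ev_step [] [1, 0, 1] [0, 0] [1, 0, 0, 1, 1, 0, 0, 1] R3 rfl rfl
  have s1 : ev [0, 0, 1, 0, 0, 1, 1, 0, 0, 1] = ev [0, 1, 1, 0, 0, 1, 1, 0, 0] :=
    ev_step [0] [0, 1, 0, 0, 1, 1, 0, 0, 1] [1, 1, 0, 0, 1, 1, 0, 0] [] R9 rfl rfl
  exact (s0).trans s1



theorem closed0 : ∀ w ∈ NF, ∃ w' ∈ NF, ev (0 :: w) = ev w' := by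
  intro w hw
  simp only [NF, List.mem_cons, List.not_mem_nil, or_false] at hw
  rcases hw with rfl | rfl | rfl | rfl | rfl | rfl | rfl | rfl | rfl | rfl | rfl | rfl | rfl | rfl | rfl | rfl | rfl | rfl | rfl | rfl | rfl | rfl | rfl | rfl | rfl | rfl | rfl | rfl | rfl | rfl | rfl | rfl | rfl | rfl | rfl | rfl | rfl | rfl | rfl | rfl | rfl | rfl | rfl | rfl | rfl | rfl | rfl | rfl | rfl | rfl | rfl | rfl | rfl | rfl | rfl | rfl | rfl | rfl | rfl | rfl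
  · exact ⟨_, by decide, T0_0⟩
  · exact ⟨_, by decide, T0_1⟩
  · exact ⟨_, by decide, T0_2⟩
  · exact ⟨_, by decide, T0_3⟩
  · exact ⟨_, by decide, T0_4⟩
  · exact ⟨_, by decide, T0_5⟩
  · exact ⟨_, by decide, T0_6⟩
  · exact ⟨_, by decide, T0_7⟩
  · exact ⟨_, by decide, T0_8⟩
  · exact ⟨_, by decide, T0_9⟩
  · exact ⟨_, by decide, T0_10⟩
  · exact ⟨_, by decide, T0_11⟩
  · exact ⟨_, by decide, T0_12⟩
  · exact ⟨_, by decide, T0_13⟩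
  · exact ⟨_, by decide, T0_14⟩
  · exact ⟨_, by decide, T0_15⟩
  · exact ⟨_, by decide, T0_16⟩
  · exact ⟨_, by decide, T0_17⟩
  · exact ⟨_, by decide, T0_18⟩
  · exact ⟨_, by decide, T0_19⟩
  · exact ⟨_, by decide, T0_20⟩
  · exact ⟨_, by decide, T0_21⟩
  · exact ⟨_, by decide, T0_22⟩
  · exact ⟨_, by decide, T0_23⟩
  · exact ⟨_, by decide, T0_24⟩
  · exact ⟨_, by decide, T0_25⟩
  · exact ⟨_, by decide, T0_26⟩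
  · exact ⟨_, by decide, T0_27⟩
  · exact ⟨_, by decide, T0_28⟩
  · exact ⟨_, by decide, T0_29⟩
  · exact ⟨_, by decide, T0_30⟩
  · exact ⟨_, by decide, T0_31⟩
  · exact ⟨_, by decide, T0_32⟩
  · exact ⟨_, by decide, T0_33⟩
  · exact ⟨_, by decide, T0_34⟩
  · exact ⟨_, by decide, T0_35⟩
  · exact ⟨_, by decide, T0_36⟩
  · exact ⟨_, by decide, T0_37⟩
  · exact ⟨_, by decide, T0_38⟩
  · exact ⟨_, by decide, T0_39⟩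
  · exact ⟨_, by decide, T0_40⟩
  · exact ⟨_, by decide, T0_41⟩
  · exact ⟨_, by decide, T0_42⟩
  · exact ⟨_, by decide, T0_43⟩
  · exact ⟨_, by decide, T0_44⟩
  · exact ⟨_, by decide, T0_45⟩
  · exact ⟨_, by decide, T0_46⟩
  · exact ⟨_, by decide, T0_47⟩
  · exact ⟨_, by decide, T0_48⟩
  · exact ⟨_, by decide, T0_49⟩
  · exact ⟨_, by decide, T0_50⟩
  · exact ⟨_, by decide, T0_51⟩
  · exact ⟨_, by decide, T0_52⟩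
  · exact ⟨_, by decide, T0_53⟩
  · exact ⟨_, by decide, T0_54⟩
  · exact ⟨_, by decide, T0_55⟩
  · exact ⟨_, by decide, T0_56⟩
  · exact ⟨_, by decide, T0_57⟩
  · exact ⟨_, by decide, T0_58⟩
  · exact ⟨_, by decide, T0_59⟩

theorem closed1 : ∀ w ∈ NF, ∃ w' ∈ NF, ev (1 :: w) = ev w' := by
  intro w hw
  simp only [NF, List.mem_cons, List.not_mem_nil, or_false] at hw
  rcases hw with rfl | rfl | rfl | rfl | rfl | rfl | rfl | rfl | rfl | rfl | rfl | rfl | rfl | rfl | rfl | rfl | rfl | rfl | rfl | rfl | rfl | rfl | rfl | rfl | rfl | rfl | rfl | rfl | rfl | rfl | rfl | rfl | rfl | rfl | rfl | rfl | rfl | rfl | rfl | rfl | rfl | rfl | rfl | rfl | rfl | rfl | rfl | rfl | rfl | rfl | rfl | rfl | rfl | rfl | rfl | rfl | rfl | rfl | rfl | rfl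
  · exact ⟨_, by decide, T1_0⟩
  · exact ⟨_, by decide, T1_1⟩
  · exact ⟨_, by decide, T1_2⟩
  · exact ⟨_, by decide, T1_3⟩
  · exact ⟨_, by decide, T1_4⟩
  · exact ⟨_, by decide, T1_5⟩
  · exact ⟨_, by decide, T1_6⟩
  · exact ⟨_, by decide, T1_7⟩
  · exact ⟨_, by decide, T1_8⟩
  · exact ⟨_, by decide, T1_9⟩
  · exact ⟨_, by decide, T1_10⟩
  · exact ⟨_, by decide, T1_11⟩
  · exact ⟨_, by decide, T1_12⟩
  · exact ⟨_, by decide, T1_13⟩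
  · exact ⟨_, by decide, T1_14⟩
  · exact ⟨_, by decide, T1_15⟩
  · exact ⟨_, by decide, T1_16⟩
  · exact ⟨_, by decide, T1_17⟩
  · exact ⟨_, by decide, T1_18⟩
  · exact ⟨_, by decide, T1_19⟩
  · exact ⟨_, by decide, T1_20⟩
  · exact ⟨_, by decide, T1_21⟩
  · exact ⟨_, by decide, T1_22⟩
  · exact ⟨_, by decide, T1_23⟩
  · exact ⟨_, by decide, T1_24⟩
  · exact ⟨_, by decide, T1_25⟩
  · exact ⟨_, by decide, T1_26⟩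
  · exact ⟨_, by decide, T1_27⟩
  · exact ⟨_, by decide, T1_28⟩
  · exact ⟨_, by decide, T1_29⟩
  · exact ⟨_, by decide, T1_30⟩
  · exact ⟨_, by decide, T1_31⟩
  · exact ⟨_, by decide, T1_32⟩
  · exact ⟨_, by decide, T1_33⟩
  · exact ⟨_, by decide, T1_34⟩
  · exact ⟨_, by decide, T1_35⟩
  · exact ⟨_, by decide, T1_36⟩
  · exact ⟨_, by decide, T1_37⟩
  · exact ⟨_, by decide, T1_38⟩
  · exact ⟨_, by decide, T1_39⟩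
  · exact ⟨_, by decide, T1_40⟩
  · exact ⟨_, by decide, T1_41⟩
  · exact ⟨_, by decide, T1_42⟩
  · exact ⟨_, by decide, T1_43⟩
  · exact ⟨_, by decide, T1_44⟩
  · exact ⟨_, by decide, T1_45⟩
  · exact ⟨_, by decide, T1_46⟩
  · exact ⟨_, by decide, T1_47⟩
  · exact ⟨_, by decide, T1_48⟩
  · exact ⟨_, by decide, T1_49⟩
  · exact ⟨_, by decide, T1_50⟩
  · exact ⟨_, by decide, T1_51⟩
  · exact ⟨_, by decide, T1_52⟩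
  · exact ⟨_, by decide, T1_53⟩
  · exact ⟨_, by decide, T1_54⟩
  · exact ⟨_, by decide, T1_55⟩
  · exact ⟨_, by decide, T1_56⟩
  · exact ⟨_, by decide, T1_57⟩
  · exact ⟨_, by decide, T1_58⟩
  · exact ⟨_, by decide, T1_59⟩


/-- the elements represented by the normal forms -/
def T : Set P := {p | ∃ w ∈ NF, p = ev w}

theorem fwd (i : Fin 2) : ∀ p ∈ T, PresentedGroup.of i * p ∈ T := by
  rintro p ⟨w, hw, rfl⟩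
  rw [← ev_cons]
  fin_cases i
  · obtain ⟨w', hw', h⟩ := closed0 w hw
    exact ⟨w', hw', h⟩
  · obtain ⟨w', hw', h⟩ := closed1 w hw
    exact ⟨w', hw', h⟩

theorem x3 (p : P) : PresentedGroup.of (0 : Fin 2) * (PresentedGroup.of 0 * (PresentedGroup.of 0 * p)) = p := by
  have h := rel0
  simp only [ev_cons, ev_nil, mul_one] at h
  rw [← mul_assoc, ← mul_assoc, mul_assoc (PresentedGroup.of 0), h, one_mul]

theorem y5 (p : P) : PresentedGroup.of (1 : Fin 2) * (PresentedGroup.of 1 * (PresentedGroup.of 1 *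
    (PresentedGroup.of 1 * (PresentedGroup.of 1 * p)))) = p := by
  have h := rel1
  simp only [ev_cons, ev_nil, mul_one] at h
  have : PresentedGroup.of (1 : Fin 2) * (PresentedGroup.of 1 * (PresentedGroup.of 1 *
    (PresentedGroup.of 1 * (PresentedGroup.of 1 * p)))) = (PresentedGroup.of (1 : Fin 2) *
    (PresentedGroup.of 1 * (PresentedGroup.of 1 * (PresentedGroup.of 1 * PresentedGroup.of 1)))) * p := by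
    simp only [mul_assoc]
  rw [this, h, one_mul]

/-- the subgroup of elements whose left multiplication preserves `T` -/
def Hs : Subgroup P where
  carrier := {g | ∀ p, p ∈ T ↔ g * p ∈ T}
  one_mem' := by intro p; simp
  mul_mem' := by
    intro a b ha hb p
    rw [mul_assoc, ← ha, ← hb]
  inv_mem' := by
    intro a ha p
    rw [ha (a⁻¹ * p), mul_inv_cancel_left]

theorem gen0_mem_Hs : (PresentedGroup.of (0 : Fin 2) : P) ∈ Hs := by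
  intro p
  constructor
  · exact fwd 0 p
  · intro h
    have := fwd 0 _ (fwd 0 _ h)
    rwa [x3] at this

theorem gen1_mem_Hs : (PresentedGroup.of (1 : Fin 2) : P) ∈ Hs := by
  intro p
  constructor
  · exact fwd 1 p
  · intro h
    have := fwd 1 _ (fwd 1 _ (fwd 1 _ (fwd 1 _ h)))
    rwa [y5] at this

theorem gen_mem_Hs (i : Fin 2) : (PresentedGroup.of i : P) ∈ Hs := by
  fin_cases i
  · exact gen0_mem_Hs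
  · exact gen1_mem_Hs

theorem mem_T (p : P) : p ∈ T := by
  have h := PresentedGroup.generated_by rels Hs gen_mem_Hs p
  have h1 : (1 : P) ∈ T := ⟨[], by decide, ev_nil.symm⟩
  have := (h 1).mp h1
  rwa [mul_one] at this

theorem ev_surj : Function.Surjective (fun w : {w // w ∈ NF.toFinset} => ev w.1) := by
  intro p
  obtain ⟨w, hw, rfl⟩ := mem_T p
  exact ⟨⟨w, List.mem_toFinset.mpr hw⟩, rfl⟩

theorem finite_P : Finite P := Finite.of_surjective _ ev_surj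

theorem card_P_le : Nat.card P ≤ 60 := by
  have h1 := Nat.card_le_card_of_surjective _ ev_surj
  have h2 : Nat.card {w // w ∈ NF.toFinset} = NF.toFinset.card := by
    rw [Nat.card_eq_fintype_card, Fintype.card_coe]
  have h3 : NF.toFinset.card ≤ NF.length := List.toFinset_card_le NF
  have h4 : NF.length = 60 := by decide
  omega

/-- a 3-cycle -/
def pa : alternatingGroup (Fin 5) :=
  ⟨Equiv.swap 0 3 * Equiv.swap 3 1, by rw [Equiv.Perm.mem_alternatingGroup]; decide⟩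

/-- a 5-cycle -/
def pb : alternatingGroup (Fin 5) :=
  ⟨finRotate 5, by rw [Equiv.Perm.mem_alternatingGroup]; decide⟩

theorem pa_pow : pa ^ 3 = 1 := by
  apply Subtype.ext; simp only [pa, Subgroup.coe_pow, Subgroup.coe_one]; decide

theorem pb_pow : pb ^ 5 = 1 := by
  apply Subtype.ext; simp only [pb, Subgroup.coe_pow, Subgroup.coe_one]; decide

theorem pab_pow : (pa * pb) ^ 2 = 1 := by
  apply Subtype.ext; simp only [pa, pb, Subgroup.coe_pow, Subgroup.coe_mul, Subgroup.coe_one]; decide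

theorem pa_ne : pa ≠ 1 := by
  intro h
  have := congrArg Subtype.val h
  simp only [pa, Subgroup.coe_one] at this
  revert this; decide

theorem pb_ne : pb ≠ 1 := by
  intro h
  have := congrArg Subtype.val h
  simp only [pb, Subgroup.coe_one] at this
  revert this; decide

theorem pab_ne : pa * pb ≠ 1 := by
  intro h
  have := congrArg Subtype.val h
  simp only [pa, pb, Subgroup.coe_mul, Subgroup.coe_one] at this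
  revert this; decide

theorem lift_rels : ∀ r ∈ rels, FreeGroup.lift ![pa, pb] r = 1 := by
  intro r hr
  simp only [rels, Set.mem_insert_iff, Set.mem_singleton_iff] at hr
  rcases hr with rfl | rfl | rfl
  · simp [pa_pow]
  · simp [pb_pow]
  · simp [pab_pow]

/-- the homomorphism onto `A₅` -/
def phi : P →* alternatingGroup (Fin 5) := PresentedGroup.toGroup lift_rels

theorem phi_surj : Function.Surjective phi := by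
  rw [← MonoidHom.range_eq_top]
  have ha : pa ∈ phi.range := ⟨PresentedGroup.of 0, by simp [phi]⟩
  have hb : pb ∈ phi.range := ⟨PresentedGroup.of 1, by simp [phi]⟩
  have hab : pa * pb ∈ phi.range := mul_mem ha hb
  have o3 : orderOf pa = 3 := by
    have : Fact (Nat.Prime 3) := ⟨Nat.prime_three⟩
    exact orderOf_eq_prime pa_pow pa_ne
  have o5 : orderOf pb = 5 := by
    have : Fact (Nat.Prime 5) := ⟨Nat.prime_five⟩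
    exact orderOf_eq_prime pb_pow pb_ne
  have o2 : orderOf (pa * pb) = 2 := by
    have : Fact (Nat.Prime 2) := ⟨Nat.prime_two⟩
    exact orderOf_eq_prime pab_pow pab_ne
  have d3 : 3 ∣ Nat.card phi.range := by
    have := orderOf_dvd_natCard (⟨pa, ha⟩ : phi.range)
    rwa [Subgroup.orderOf_mk, o3] at this
  have d5 : 5 ∣ Nat.card phi.range := by
    have := orderOf_dvd_natCard (⟨pb, hb⟩ : phi.range)
    rwa [Subgroup.orderOf_mk, o5] at this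
  have d2 : 2 ∣ Nat.card phi.range := by
    have := orderOf_dvd_natCard (⟨pa * pb, hab⟩ : phi.range)
    rwa [Subgroup.orderOf_mk, o2] at this
  have d30 : 30 ∣ Nat.card phi.range := by
    have h6 : 6 ∣ Nat.card phi.range :=
      Nat.Coprime.mul_dvd_of_dvd_of_dvd (by decide : Nat.Coprime 2 3) d2 d3
    exact Nat.Coprime.mul_dvd_of_dvd_of_dvd (by decide : Nat.Coprime 6 5) h6 d5
  have c60 : Nat.card (alternatingGroup (Fin 5)) = 60 := by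
    rw [nat_card_alternatingGroup, Nat.card_eq_fintype_card, Fintype.card_fin]; rfl
  have hdvd : Nat.card phi.range ∣ 60 := by
    rw [← c60]; exact Subgroup.card_subgroup_dvd_card _
  obtain ⟨k, hk⟩ := d30
  have hk2 : k = 1 ∨ k = 2 := by
    rw [hk] at hdvd
    have : k ∣ 2 := by
      have : 30 * k ∣ 30 * 2 := hdvd
      exact Nat.dvd_of_mul_dvd_mul_left (by norm_num) this
    have := Nat.le_of_dvd (by norm_num) this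
    interval_cases k <;> simp_all
  rcases hk2 with rfl | rfl
  · -- index 2: impossible in a simple group
    exfalso
    have hidx : phi.range.index = 2 := by
      have := Subgroup.index_mul_card phi.range
      rw [c60, hk] at this
      omega
    have hn : phi.range.Normal := Subgroup.normal_of_index_eq_two hidx
    have hsimple : IsSimpleGroup (alternatingGroup (Fin 5)) :=
      alternatingGroup.isSimpleGroup (by rw [Nat.card_eq_fintype_card, Fintype.card_fin])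
    rcases hn.eq_bot_or_eq_top with h | h
    · rw [h, Subgroup.card_bot] at hk; omega
    · rw [h, Subgroup.card_top, c60] at hk; omega
  · apply Subgroup.eq_top_of_card_eq
    rw [hk, c60]

/-- The alternating group of degree 5 has the presentation ⟨x, y | x³ = 1, y⁵ = 1, (xy)² = 1⟩: the group so presented is isomorphic to Alt(5). -/
theorem result :
    Nonempty (PresentedGroup ({FreeGroup.of (0 : Fin 2) ^ 3, FreeGroup.of (1 : Fin 2) ^ 5,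
        (FreeGroup.of (0 : Fin 2) * FreeGroup.of 1) ^ 2} : Set (FreeGroup (Fin 2))) ≃* alternatingGroup (Fin 5)) := by
  have := finite_P
  have c60 : Nat.card (alternatingGroup (Fin 5)) = 60 := by
    rw [nat_card_alternatingGroup, Nat.card_eq_fintype_card, Fintype.card_fin]; rfl
  have hbij : Function.Bijective phi :=
    phi_surj.bijective_of_nat_card_le (by rw [c60]; exact card_P_le)
  exact ⟨MulEquiv.ofBijective phi hbij⟩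

end Cfsg.Agent.S3377
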