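import Mathlib
import Cfsg.Statements.S3379
-- import your own Cfsg.Agent.* helpers here

set_option autoImplicit false
open Cfsg

namespace Cfsg.Agent.S3379

/-- conjugating by powers of `x`. -/
theorem conj_pow_aux {G : Type*} [Group G] {x y : G} {r : ℕ} (h : x⁻¹ * y * x = y ^ r) (j : ℕ) :
    (x ^ j)⁻¹ * y * x ^ j = y ^ (r ^ j) := by
  induction j with
  | zero => simp
  | succ j ih =>
    have e : (x ^ (j + 1))⁻¹ * y * x ^ (j + 1) = x⁻¹ * ((x ^ j)⁻¹ * y * x ^ j) * x := by
      rw [pow_succ]; group
    rw [e, ih]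
    have e2 : x⁻¹ * y ^ (r ^ j) * x = (x⁻¹ * y * x) ^ (r ^ j) := by
      have := conj_pow (a := x⁻¹) (b := y) (i := r ^ j)
      rw [inv_inv] at this
      exact this.symm
    rw [e2, h, ← pow_mul, ← pow_succ']

/-- a group generated by two commuting elements modulo `M` has commutator in `M`. -/
theorem commutator_le_of_comm_mod {G : Type*} [Group G] (M : Subgroup G) [M.Normal] {x y : G}
    (hgen : Subgroup.closure {x, y} = ⊤) (hxy : x⁻¹ * y⁻¹ * x * y ∈ M) : commutator G ≤ M := by
  have hcomm : ∀ a b : G ⧸ M, a * b = b * a := by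
    have hx : (QuotientGroup.mk' M x) * (QuotientGroup.mk' M y) =
        (QuotientGroup.mk' M y) * (QuotientGroup.mk' M x) := by
      rw [← map_mul, ← map_mul]
      apply (QuotientGroup.eq).mpr
      have : (x * y)⁻¹ * (y * x) = (x⁻¹ * y⁻¹ * x * y)⁻¹ := by group
      rw [this]
      exact M.inv_mem hxy
    have hsurj : Function.Surjective (QuotientGroup.mk' M) := QuotientGroup.mk'_surjective M
    have hgen' : Subgroup.closure {QuotientGroup.mk' M x, QuotientGroup.mk' M y} = ⊤ := by
      have := congrArg (Subgroup.map (QuotientGroup.mk' M)) hgen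
      rw [MonoidHom.map_closure, Subgroup.map_top_of_surjective _ hsurj] at this
      rw [← this]
      congr 1
      ext z
      simp [Set.image_pair]
    have hcen : ∀ c : G ⧸ M, (∀ g ∈ ({QuotientGroup.mk' M x, QuotientGroup.mk' M y} : Set (G ⧸ M)),
        g * c = c * g) → c ∈ Subgroup.center (G ⧸ M) := by
      intro c hc
      have h1 : Subgroup.closure {QuotientGroup.mk' M x, QuotientGroup.mk' M y} ≤
          Subgroup.centralizer {c} := by
        rw [Subgroup.closure_le]
        intro g hg
        rw [SetLike.mem_coe, Subgroup.mem_centralizer_iff]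
        intro h hh
        rw [Set.mem_singleton_iff] at hh
        rw [hh]; exact (hc g hg).symm
      rw [hgen'] at h1
      rw [Subgroup.mem_center_iff]
      intro g
      have := (Subgroup.mem_centralizer_iff.mp (h1 (Subgroup.mem_top g))) c rfl
      exact this.symm
    have hxc : QuotientGroup.mk' M x ∈ Subgroup.center (G ⧸ M) := by
      apply hcen
      intro g hg
      rcases hg with rfl | hg
      · rfl
      · rw [Set.mem_singleton_iff] at hg
        rw [hg]; exact hx.symm
    have hyc : QuotientGroup.mk' M y ∈ Subgroup.center (G ⧸ M) := by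
      apply hcen
      intro g hg
      rcases hg with rfl | hg
      · exact hx
      · rw [Set.mem_singleton_iff] at hg
        rw [hg]
    have htop : Subgroup.center (G ⧸ M) = ⊤ := by
      rw [eq_top_iff, ← hgen', Subgroup.closure_le]
      intro g hg
      rcases hg with rfl | hg
      · exact hxc
      · rw [Set.mem_singleton_iff] at hg
        rw [hg]; exact hyc
    intro a b
    have : a ∈ Subgroup.center (G ⧸ M) := by rw [htop]; exact Subgroup.mem_top a
    exact ((Subgroup.mem_center_iff.mp this) b).symm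
  let inst : CommGroup (G ⧸ M) := { (inferInstance : Group (G ⧸ M)) with mul_comm := hcomm }
  have := Abelianization.commutator_subset_ker (QuotientGroup.mk' M)
  rwa [QuotientGroup.ker_mk'] at this

/-- Let G be a finite group all of whose Sylow subgroups are cyclic. Then G is generated by two elements x and y of coprime orders n and m with x⁻¹yx = y^r, where gcd(r − 1, m) = 1 and r^n ≡ 1 (mod m). -/
theorem result {G : Type*} [Group G] [Finite G]
    (hZ : ∀ (p : ℕ) [Fact p.Prime] (P : Sylow p G), IsCyclic (P : Subgroup G)) :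
    ∃ (x y : G) (n m r : ℕ), Subgroup.closure {x, y} = ⊤ ∧ orderOf x = n ∧ orderOf y = m ∧
      x⁻¹ * y * x = y ^ r ∧ Nat.Coprime (r - 1) m ∧ Nat.Coprime n m ∧ 1 ≤ r ∧ r ^ n % m = 1 % m := by
  classical
  have hZG : IsZGroup G := ⟨fun p hp P => by have := Fact.mk hp; exact hZ p P⟩
  have hcycN : IsCyclic (commutator G) := IsZGroup.isCyclic_commutator G
  have hcop : (Nat.card (commutator G)).Coprime (commutator G).index :=
    IsZGroup.coprime_commutator_index G
  obtain ⟨H, hH⟩ := Subgroup.exists_right_complement'_of_coprime hcop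
  have h1 : Abelianization G ≃* H := hH.symm.QuotientMulEquiv
  have hcycH : IsCyclic H := isCyclic_of_surjective _ h1.surjective
  obtain ⟨⟨y, hyN⟩, hy⟩ := hcycN.exists_generator
  obtain ⟨⟨x, hxH⟩, hx⟩ := hcycH.exists_generator
  have hNy : commutator G = Subgroup.zpowers y := by
    ext g
    constructor
    · intro hg
      obtain ⟨k, hk⟩ := Subgroup.mem_zpowers_iff.mp (hy ⟨g, hg⟩)
      refine ⟨k, ?_⟩
      have := congrArg Subtype.val hk
      simpa using this
    · rintro ⟨k, rfl⟩
      exact zpow_mem hyN k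
  have hHx : H = Subgroup.zpowers x := by
    ext g
    constructor
    · intro hg
      obtain ⟨k, hk⟩ := Subgroup.mem_zpowers_iff.mp (hx ⟨g, hg⟩)
      refine ⟨k, ?_⟩
      have := congrArg Subtype.val hk
      simpa using this
    · rintro ⟨k, rfl⟩
      exact zpow_mem hxH k
  have hm : orderOf y = Nat.card (commutator G) := by rw [hNy, Nat.card_zpowers]
  have hn : orderOf x = Nat.card H := by
    have := Nat.card_zpowers x
    rw [← hHx] at this
    exact this.symm
  have hmpos : 0 < orderOf y := orderOf_pos y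
  -- the exponent r
  have hconj : x⁻¹ * y * x ∈ Subgroup.zpowers y := by
    rw [← hNy]
    have := (inferInstance : (commutator G).Normal).conj_mem y hyN x⁻¹
    rwa [inv_inv] at this
  rw [← mem_powers_iff_mem_zpowers] at hconj
  obtain ⟨r₀, hr₀⟩ := hconj
  have hr₀' : x⁻¹ * y * x = y ^ (r₀ + orderOf y) := by
    rw [pow_add, pow_orderOf_eq_one, mul_one]; exact hr₀.symm
  obtain ⟨r, hr, hrdef⟩ : ∃ r, x⁻¹ * y * x = y ^ r ∧ r = r₀ + orderOf y := ⟨_, hr₀', rfl⟩
  have hr1 : 1 ≤ r := by omega
  refine ⟨x, y, orderOf x, orderOf y, r, ?_, rfl, rfl, hr, ?_, ?_, hr1, ?_⟩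
  · -- generation
    rw [eq_top_iff, ← hH.sup_eq_top]
    apply sup_le
    · rw [hNy, Subgroup.zpowers_le]
      exact Subgroup.subset_closure (by simp)
    · rw [hHx, Subgroup.zpowers_le]
      exact Subgroup.subset_closure (by simp)
  · -- gcd (r - 1, m) = 1
    have hgen : Subgroup.closure {x, y} = ⊤ := by
      rw [eq_top_iff, ← hH.sup_eq_top]
      apply sup_le
      · rw [hNy, Subgroup.zpowers_le]
        exact Subgroup.subset_closure (by simp)
      · rw [hHx, Subgroup.zpowers_le]
        exact Subgroup.subset_closure (by simp)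
    have hMn : (Subgroup.zpowers (y ^ (r - 1))).Normal := by
      constructor
      rintro _ ⟨j, rfl⟩ g
      have h2 : g * y * g⁻¹ ∈ Subgroup.zpowers y := by
        rw [← hNy]
        exact (inferInstance : (commutator G).Normal).conj_mem y hyN g
      obtain ⟨k, hk⟩ := h2
      refine ⟨k * j, ?_⟩
      show (y ^ (r - 1)) ^ (k * j) = g * (y ^ (r - 1)) ^ j * g⁻¹
      have h3 : g * (y ^ (r - 1)) ^ j * g⁻¹ = ((g * y * g⁻¹) ^ (r - 1)) ^ j := by
        rw [conj_pow, conj_zpow]
      rw [h3, ← hk, ← zpow_natCast, ← zpow_natCast, ← zpow_mul, ← zpow_mul, ← zpow_mul]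
      congr 1
      ring
    have hxyM : x⁻¹ * y⁻¹ * x * y ∈ Subgroup.zpowers (y ^ (r - 1)) := by
      have e1 : x⁻¹ * y⁻¹ * x * y = (x⁻¹ * y * x)⁻¹ * y := by group
      rw [e1, hr]
      refine ⟨-1, ?_⟩
      show (y ^ (r - 1)) ^ (-1 : ℤ) = (y ^ r)⁻¹ * y
      have : y ^ r = y ^ (r - 1) * y := by rw [← pow_succ, Nat.sub_add_cancel hr1]
      rw [this]; group
    have hle := commutator_le_of_comm_mod (Subgroup.zpowers (y ^ (r - 1))) hgen hxyM
    obtain ⟨k, hk⟩ := hle hyN
    have hk' : y ^ (((r - 1 : ℕ) : ℤ) * k) = y ^ (1 : ℤ) := by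
      rw [zpow_mul, zpow_natCast, zpow_one]; exact hk
    rw [zpow_eq_zpow_iff_modEq] at hk'
    have hdvd := hk'.dvd
    obtain ⟨c, hc⟩ := hdvd
    rw [← Nat.isCoprime_iff_coprime]
    refine ⟨k, c, ?_⟩
    linarith
  · rw [hn, hm, ← hH.symm.index_eq_card]
    exact hcop.symm
  · have h2 := conj_pow_aux hr (orderOf x)
    rw [pow_orderOf_eq_one, inv_one, one_mul, mul_one] at h2
    have h3 : y ^ 1 = y ^ (r ^ orderOf x) := by rw [pow_one]; exact h2
    rw [pow_eq_pow_iff_modEq] at h3
    exact h3.symm

end Cfsg.Agent.S3379
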