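import Cfsg.Statements.S3382
import Mathlib
import Cfsg.Agent.Helper19.AutTwoF

set_option autoImplicit false
open Cfsg

namespace Cfsg.Agent.S3382

open Cfsg.Agent.Helper19.AutTwo

/-- Let q = 2^m + 1 be a prime other than 5. Then the automorphism group of the group of linear maps of F_q² of the forms (x, y) ↦ (a x, ± a⁻¹ y) and (x, y) ↦ (± a⁻¹ y, a x) with a ≠ 0 is itself a 2-group. -/
theorem result (q m : ℕ) [Fact q.Prime] (hq : q = 2 ^ m + 1) (hq5 : q ≠ 5)
    (T : Subgroup ((Fin 2 → ZMod q) ≃ₗ[ZMod q] (Fin 2 → ZMod q)))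
    (hT : ∀ f, f ∈ T ↔ ∃ a s : ZMod q, a ≠ 0 ∧ (s = 1 ∨ s = -1) ∧
      ((∀ v, f v = ![a * v 0, s * a⁻¹ * v 1]) ∨ (∀ v, f v = ![s * a⁻¹ * v 1, a * v 0]))) :
    IsPGroup 2 (MulAut T) := by
  haveI : Finite ((Fin 2 → ZMod q) ≃ₗ[ZMod q] (Fin 2 → ZMod q)) :=
    Finite.of_injective (fun f => (f : (Fin 2 → ZMod q) → (Fin 2 → ZMod q))) DFunLike.coe_injective
  apply isPGroup_two_mulAut
  intro φ r hr hφ
  rcases m with _ | _ | _ | m
  · have hq2 : q = 2 := by rw [hq]; norm_num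
    subst hq2
    exact fix_all_of_units_eq_one hT units_two_eq φ
  · have hq3 : q = 3 := by rw [hq]; norm_num
    subst hq3
    exact fix_all_of_units_eq_one_or hT units_three_eq units_three_ne φ r hr hφ
  · exact absurd (by rw [hq]; norm_num) hq5
  · exact fix_all_of_three_le hq hT (by omega) φ r hr hφ

end Cfsg.Agent.S3382
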