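import Mathlib
import Cfsg.Statements.S3383
-- import your own Cfsg.Agent.* helpers here

set_option autoImplicit false
open Cfsg
open Pointwise

namespace Cfsg.Agent.S3383

/-- Let H be a Frobenius complement in a finite group L and K the Frobenius kernel (as a subgroup). Then K is characteristic in L, and every normal subgroup of L either contains K or is contained in K. -/
theorem result {L : Type*} [Group L] [Finite L]
    (H : Subgroup L) (hH : Cfsg.IsFrobeniusComplement H)
    (K : Subgroup L) (hK : (K : Set L) = Cfsg.frobeniusKernel H) :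
    K.Characteristic ∧ ∀ N : Subgroup L, N.Normal → K ≤ N ∨ N ≤ K := by
  obtain ⟨hHbot, hHtop, hTI⟩ := hH
  have hmemK : ∀ x : L, x ∈ K ↔ (x = 1 ∨ ∀ g : L, x ∉ MulAut.conj g • H) := by
    intro x
    rw [← SetLike.mem_coe, hK]; rfl
  have hmemconj : ∀ (g x : L), x ∈ MulAut.conj g • H ↔ g⁻¹ * x * g ∈ H := by
    intro g x
    rw [Subgroup.mem_pointwise_smul_iff_inv_smul_mem]
    simp [MulAut.smul_def]
  -- K is normal
  have hKn : K.Normal := by
    constructor
    intro x hx g
    rw [hmemK] at hx ⊢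
    rcases hx with rfl | hx
    · left; group
    · right
      intro g' hg'
      apply hx (g⁻¹ * g')
      rw [hmemconj] at hg' ⊢
      have : (g⁻¹ * g')⁻¹ * x * (g⁻¹ * g') = g'⁻¹ * (g * x * g⁻¹) * g' := by group
      rw [this]; exact hg'
  -- K ∩ H = 1
  have hKH : ∀ x : L, x ∈ K → x ∈ H → x = 1 := by
    intro x hxK hxH
    rcases (hmemK x).mp hxK with h | h
    · exact h
    · exfalso
      apply h 1
      rw [hmemconj]
      simpa using hxH
  -- centralizers of nonidentity elements of H lie in H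
  have hcent : ∀ h ∈ H, h ≠ 1 → ∀ g : L, g * h = h * g → g ∈ H := by
    intro h hh hh1 g hg
    by_contra hgH
    have := hTI g hgH
    have h2 : h ∈ H ⊓ MulAut.conj g • H := by
      refine Subgroup.mem_inf.mpr ⟨hh, ?_⟩
      rw [hmemconj]
      have : g⁻¹ * h * g = h := by
        rw [mul_assoc, ← hg, ← mul_assoc, inv_mul_cancel, one_mul]
      rw [this]; exact hh
    rw [this, Subgroup.mem_bot] at h2
    exact hh1 h2
  have key : ∀ N : Subgroup L, N.Normal → K ≤ N ∨ N ≤ K := by
    intro N hN
    by_cases hNK : N ≤ K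
    · right; exact hNK
    · left
      obtain ⟨x, hxN, hxK⟩ := SetLike.not_le_iff_exists.mp hNK
      rw [hmemK] at hxK
      push Not at hxK
      obtain ⟨hx1, g, hg⟩ := hxK
      rw [hmemconj] at hg
      -- h = g⁻¹ x g ∈ N ∩ H, nonidentity
      obtain ⟨h, hh⟩ : ∃ h, h = g⁻¹ * x * g := ⟨_, rfl⟩
      have hhH : h ∈ H := by rw [hh]; exact hg
      have hhN : h ∈ N := by
        rw [hh]
        have := hN.conj_mem x hxN g⁻¹
        rwa [inv_inv] at this
      have hh1 : h ≠ 1 := by
        intro h1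
        apply hx1
        have : x = g * h * g⁻¹ := by rw [hh]; group
        rw [this, h1]; group
      -- the map k ↦ k h k⁻¹ h⁻¹ on K
      let f : K → K := fun k => ⟨k.1 * h * k.1⁻¹ * h⁻¹, by
        have h1 : h * k.1⁻¹ * h⁻¹ ∈ K := hKn.conj_mem _ (K.inv_mem k.2) h
        have : k.1 * h * k.1⁻¹ * h⁻¹ = k.1 * (h * k.1⁻¹ * h⁻¹) := by group
        rw [this]
        exact K.mul_mem k.2 h1⟩
      have hinj : Function.Injective f := by
        intro k k' hkk
        have e : k.1 * h * k.1⁻¹ * h⁻¹ = k'.1 * h * k'.1⁻¹ * h⁻¹ := congrArg Subtype.val hkk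
        have e2 : k.1 * h * k.1⁻¹ = k'.1 * h * k'.1⁻¹ := mul_right_cancel e
        have e3 : (k'.1⁻¹ * k.1) * h = h * (k'.1⁻¹ * k.1) := by
          have : (k'.1⁻¹ * k.1) * h = k'.1⁻¹ * (k.1 * h * k.1⁻¹) * k.1 := by group
          rw [this, e2]; group
        have e4 := hcent h hhH hh1 _ e3
        have e5 := hKH _ (K.mul_mem (K.inv_mem k'.2) k.2) e4
        apply Subtype.ext
        exact (inv_mul_eq_one.mp e5).symm
      have hsurj : Function.Surjective f := Finite.injective_iff_surjective.mp hinj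
      intro y hy
      obtain ⟨k, hk⟩ := hsurj ⟨y, hy⟩
      have e : k.1 * h * k.1⁻¹ * h⁻¹ = y := congrArg Subtype.val hk
      rw [← e]
      exact N.mul_mem (hN.conj_mem h hhN k.1) (N.inv_mem hhN)
  refine ⟨?_, key⟩
  rw [Subgroup.characteristic_iff_map_le]
  intro φ
  have hmapn : (K.map φ.toMonoidHom).Normal := hKn.map _ φ.surjective
  have hcard : Nat.card (K.map φ.toMonoidHom) = Nat.card K :=
    Subgroup.card_map_of_injective φ.injective
  rcases key _ hmapn with h | h
  · exact (Subgroup.eq_of_le_of_card_ge h hcard.le).ge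
  · exact h

end Cfsg.Agent.S3383
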