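import Cfsg.Statements.S3389
import Mathlib
import Cfsg.Agent.Helper14.SylowIn
import Cfsg.Agent.Helper19.Sylow

set_option autoImplicit false
open Cfsg

namespace Cfsg.Agent.S3389

open MulAction Cfsg.Agent.Helper14

section Aux

variable {G : Type*} {Ω : Type*} [Group G] [MulAction G Ω]

/-- the common fixed points of a subgroup. -/
def fixSet (U : Subgroup G) : Set Ω := {x | ∀ u ∈ U, u • x = x}

lemma smul_mem_fixSet {U : Subgroup G} {y : G} (hy : y ∈ Subgroup.normalizer (U : Set G))
    {x : Ω} (hx : x ∈ fixSet U) : y • x ∈ fixSet U := by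
  intro u hu
  have h1 : y⁻¹ * u * y ∈ U := by
    rw [Subgroup.mem_normalizer_iff] at hy
    rw [hy]
    simpa [mul_assoc] using hu
  have := hx _ h1
  rw [mul_smul, mul_smul, inv_smul_eq_iff] at this
  exact this

lemma pow_smul_of_smul {g : G} {x : Ω} (h : g • x = x) (n : ℕ) : g ^ n • x = x := by
  induction n with
  | zero => simp
  | succ n ih => rw [pow_succ, mul_smul, h, ih]

lemma fixSet_subset_fixedBy {U : Subgroup G} {x : G} (hx : x ∈ U) :
    fixSet (Ω := Ω) U ⊆ fixedBy Ω x := fun _ h => h x hx

/-- A `p`-group normalizing `U` fixes a point of `fixSet U` when that set has fewer than `p`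
points. -/
lemma le_stabilizer_of_small [Finite Ω] {p : ℕ} [Fact p.Prime] {U Y : Subgroup G}
    (hY : IsPGroup p Y) (hYU : Y ≤ Subgroup.normalizer (U : Set G)) {a : Ω}
    (ha : a ∈ fixSet U) (hsmall : (fixSet (Ω := Ω) U).ncard < p) : Y ≤ stabilizer G a := by
  have hp : p.Prime := Fact.out
  obtain ⟨n, hn⟩ := hY.card_orbit a
  have hsub : orbit Y a ⊆ fixSet U := by
    rintro _ ⟨y, rfl⟩
    exact smul_mem_fixSet (hYU y.2) ha
  have hle : Nat.card (orbit Y a) ≤ (fixSet (Ω := Ω) U).ncard := by
    rw [Nat.card_coe_set_eq]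
    exact Set.ncard_le_ncard hsub (Set.toFinite _)
  have hn0 : n = 0 := by
    by_contra h
    have : p ≤ p ^ n := Nat.le_self_pow h p
    omega
  rw [hn0, pow_zero, Nat.card_eq_one_iff_unique] at hn
  intro y hy
  rw [mem_stabilizer_iff]
  have h1 := hn.1.elim (⟨(⟨y, hy⟩ : Y) • a, mem_orbit _ _⟩ : orbit Y a) ⟨a, mem_orbit_self a⟩
  exact congrArg Subtype.val h1

/-- Sylow in `D` is Sylow in `H` when normalizing `p`-subgroups of `H` lie in `D`. -/
lemma isSylowIn_of_normalizing [Finite G] {p : ℕ} [Fact p.Prime] {U D H : Subgroup G}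
    (hDH : D ≤ H) (hU : IsSylowIn p U D)
    (hcond : ∀ Y : Subgroup G, IsPGroup p Y → U ≤ Y → Y ≤ H →
      Y ≤ Subgroup.normalizer (U : Set G) → Y ≤ D) : IsSylowIn p U H := by
  refine ⟨hU.1.trans hDH, hU.2.1, ?_⟩
  intro K hKH hKp hUK
  by_contra hne
  have hlt : U < K := lt_of_le_of_ne hUK (fun h => hne h.symm)
  obtain ⟨x, hxK, hxN, hxU⟩ := Cfsg.Agent.Helper19.exists_mem_normalizer_not_mem hKp hlt
  set Y : Subgroup G := K ⊓ Subgroup.normalizer (U : Set G) with hYdef
  have hYp : IsPGroup p Y := hKp.to_le inf_le_left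
  have hUY : U ≤ Y := le_inf hUK Subgroup.le_normalizer
  have hYD : Y ≤ D := hcond Y hYp hUY (inf_le_left.trans hKH) inf_le_right
  have hYU := hU.2.2 Y hYD hYp hUY
  apply hxU
  rw [← hYU]
  exact ⟨hxK, hxN⟩

end Aux

/-- Let G be a finite group acting faithfully and transitively on a finite set Ω with fixity k ≥ 1: every non-identity element fixes at most k points and some non-identity element fixes exactly k points. Then |Z(G)| divides k; if k = 2 then |G| is even; and for every prime p > k dividing |G| and every point α, either p does not divide |G_α| or G_α contains a Sylow p-subgroup of G. -/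
theorem result {G : Type*} [Group G] [Finite G] {Ω : Type*} [Fintype Ω] [MulAction G Ω] [FaithfulSMul G Ω]
    (htr : MulAction.IsPretransitive G Ω) (k : ℕ) (hk : 1 ≤ k)
    (hfix : ∀ g : G, g ≠ 1 → Nat.card (MulAction.fixedBy Ω g) ≤ k) (hex : ∃ g : G, g ≠ 1 ∧ Nat.card (MulAction.fixedBy Ω g) = k) :
    Nat.card (Subgroup.center G) ∣ k ∧ (k = 2 → 2 ∣ Nat.card G) ∧
      ∀ (p : ℕ), p.Prime → k < p → p ∣ Nat.card G → ∀ α : Ω,
        ¬ p ∣ Nat.card (MulAction.stabilizer G α) ∨ ¬ p ∣ (MulAction.stabilizer G α).index := by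
  classical
  refine ⟨?_, ?_, ?_⟩
  · -- the centre acts freely on the fixed points of `g`
    obtain ⟨g, hg1, hgk⟩ := hex
    let S : SubMulAction (Subgroup.center G) Ω :=
      { carrier := fixedBy Ω g
        smul_mem' := by
          intro z x hx
          rw [mem_fixedBy] at hx ⊢
          have hz : g * (z : G) = (z : G) * g := (Subgroup.mem_center_iff.mp z.2 g)
          show g • ((z : G) • x) = (z : G) • x
          rw [← mul_smul, hz, mul_smul, hx] }
    have hfree : ∀ b : S, stabilizer (Subgroup.center G) b = ⊥ := by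
      intro b
      rw [eq_bot_iff]
      intro z hz
      rw [Subgroup.mem_bot]
      rw [mem_stabilizer_iff] at hz
      have hz' : (z : G) • (b : Ω) = b := congrArg Subtype.val hz
      apply Subtype.ext
      apply FaithfulSMul.eq_of_smul_eq_smul (α := Ω)
      intro x
      obtain ⟨y, rfl⟩ := htr.exists_smul_eq (b : Ω) x
      rw [Subgroup.coe_one, one_smul, ← mul_smul, ← (Subgroup.mem_center_iff.mp z.2 y), mul_smul, hz']
    have e := selfEquivOrbitsQuotientProd hfree
    have h1 : Nat.card S = Nat.card (fixedBy Ω g) := rfl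
    rw [← hgk, ← h1, Nat.card_congr e, Nat.card_prod]
    exact dvd_mul_left _ _
  · intro hk2
    obtain ⟨g, hg1, hgk⟩ := hex
    -- an element of prime order fixing exactly two points
    obtain ⟨p, hp, hpg⟩ := Nat.exists_prime_and_dvd (orderOf_eq_one_iff.not.mpr hg1)
    haveI : Fact p.Prime := ⟨hp⟩
    set g' := g ^ (orderOf g / p) with hg'
    have hg'o : orderOf g' = p := by
      rw [hg', orderOf_pow_of_dvd (by
        intro h
        have := Nat.div_eq_zero_iff.mp h
        rcases this with h0 | h0
        · exact hp.ne_zero h0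
        · exact absurd (Nat.le_of_dvd (orderOf_pos g) hpg) (not_le.mpr h0))
        (Nat.div_dvd_of_dvd hpg), Nat.div_div_self hpg (orderOf_pos g).ne']
    have hg'1 : g' ≠ 1 := by
      intro h
      rw [h, orderOf_one] at hg'o
      exact hp.one_lt.ne hg'o
    have hfixsub : fixedBy Ω g ⊆ fixedBy Ω g' := by
      intro x hx
      rw [mem_fixedBy] at hx ⊢
      rw [hg']
      exact pow_smul_of_smul hx _
    have hfixeq : fixedBy Ω g = fixedBy Ω g' := by
      apply Set.eq_of_subset_of_ncard_le hfixsub _ (Set.toFinite _)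
      rw [← Nat.card_coe_set_eq, ← Nat.card_coe_set_eq, hgk]
      exact hfix g' hg'1
    have h2 : (fixedBy Ω g').ncard = 2 := by
      rw [← hfixeq, ← Nat.card_coe_set_eq, hgk, hk2]
    obtain ⟨a, b, hab, hfab⟩ := Set.ncard_eq_two.mp h2
    have hga : g' • a = a := by
      have : a ∈ fixedBy Ω g' := by rw [hfab]; simp
      exact this
    have hgb : g' • b = b := by
      have : b ∈ fixedBy Ω g' := by rw [hfab]; simp
      exact this
    set D : Subgroup G := stabilizer G a ⊓ stabilizer G b with hD
    have hQD : Subgroup.zpowers g' ≤ D := by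
      rw [Subgroup.zpowers_le]
      exact ⟨hga, hgb⟩
    have hQp : IsPGroup p (Subgroup.zpowers g') := by
      apply IsPGroup.of_card (n := 1)
      rw [Nat.card_zpowers, hg'o, pow_one]
    obtain ⟨U, hU, hQU⟩ := exists_isSylowIn_ge hQD hQp
    have hg'U : g' ∈ U := hQU (Subgroup.mem_zpowers g')
    have hfixU : fixSet (Ω := Ω) U = {a, b} := by
      apply Set.Subset.antisymm
      · rw [← hfab]; exact fixSet_subset_fixedBy hg'U
      · intro x hx u hu
        have huD := hU.1 hu
        rcases hx with rfl | hx
        · exact huD.1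
        · rw [Set.mem_singleton_iff] at hx
          rw [hx]; exact huD.2
    have hswap : ∀ {c d : Ω}, fixSet (Ω := Ω) U = {c, d} → c ≠ d → ∀ Y : Subgroup G,
        Y ≤ stabilizer G c → Y ≤ Subgroup.normalizer (U : Set G) → Y ≤ stabilizer G d := by
      intro c d hcd hne Y hYc hYN y hy
      rw [mem_stabilizer_iff]
      have hd : d ∈ fixSet (Ω := Ω) U := by rw [hcd]; simp
      have h1 : y • d ∈ fixSet (Ω := Ω) U := smul_mem_fixSet (hYN hy) hd
      rw [hcd] at h1
      rcases h1 with h1 | h1
      · exfalso
        have h3 : y • c = c := hYc hy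
        have : y • d = y • c := by rw [h1, h3]
        exact hne (smul_left_cancel y this).symm
      · exact h1
    have hUa : IsSylowIn p U (stabilizer G a) := by
      apply isSylowIn_of_normalizing (D := D) inf_le_left hU
      intro Y _ _ hYa hYN
      exact le_inf hYa (hswap hfixU hab Y hYa hYN)
    have hUb : IsSylowIn p U (stabilizer G b) := by
      apply isSylowIn_of_normalizing (D := D) inf_le_right hU
      intro Y _ _ hYb hYN
      have hfixU' : fixSet (Ω := Ω) U = {b, a} := by rw [hfixU, Set.pair_comm]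
      exact le_inf (hswap hfixU' hab.symm Y hYb hYN) hYb
    obtain ⟨x, hx⟩ := htr.exists_smul_eq a b
    have hUx : IsSylowIn p (U.map (cj x)) (stabilizer G b) := by
      have := hUa.map_cj x
      rw [← hx, stabilizer_smul_eq_stabilizer_map_conj]
      exact this
    obtain ⟨y, hy, hyU⟩ := hUx.exists_conj hUb
    set w := y * x with hw
    have hwa : w • a = b := by
      rw [hw, mul_smul, hx]; exact hy
    have hwN : w ∈ Subgroup.normalizer (U : Set G) := by
      rw [Subgroup.mem_normalizer_iff]
      intro u
      have hcomp : (cj y).comp (cj x) = cj w := by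
        ext z
        simp [hw, mul_assoc]
      have hmap : U = U.map (cj w) := by
        rw [← hcomp, ← Subgroup.map_map]
        exact hyU
      constructor
      · intro hu
        rw [hmap]
        exact ⟨u, hu, rfl⟩
      · intro hu
        rw [hmap] at hu
        obtain ⟨u', hu', h'⟩ := hu
        have : u' = u := cj_injective w h'
        rw [← this]; exact hu'
    have hwb : w • b = a := by
      have hb : b ∈ fixSet (Ω := Ω) U := by rw [hfixU]; simp
      have h1 : w • b ∈ fixSet (Ω := Ω) U := smul_mem_fixSet hwN hb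
      rw [hfixU] at h1
      rcases h1 with h1 | h1
      · exact h1
      · exfalso
        rw [Set.mem_singleton_iff] at h1
        have : w • b = w • a := by rw [h1, hwa]
        exact hab (smul_left_cancel w this).symm
    -- `w` has even order
    have heven : 2 ∣ orderOf w := by
      by_contra hodd
      have hodd' : Odd (orderOf w) := Nat.odd_iff.mpr (by omega)
      obtain ⟨j, hj⟩ := hodd'
      have h1 : w ^ (2 * j + 1) = 1 := by rw [← hj]; exact pow_orderOf_eq_one w
      have h2 : w = (w ^ 2) ^ (j + 1) := by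
        rw [← pow_mul]
        have : 2 * (j + 1) = (2 * j + 1) + 1 := by ring
        rw [this, pow_succ, h1, one_mul]
      have h3 : (w ^ 2) • a = a := by rw [sq, mul_smul, hwa, hwb]
      have h4 : w • a = a := by
        rw [h2]; exact pow_smul_of_smul h3 _
      rw [hwa] at h4
      exact hab h4.symm
    exact heven.trans (orderOf_dvd_natCard w)
  · intro p hp hkp hpG α
    haveI : Fact p.Prime := ⟨hp⟩
    by_contra hcon
    push Not at hcon
    obtain ⟨hpα, hpi⟩ := hcon
    obtain ⟨x, hxo⟩ := exists_prime_orderOf_dvd_card' (G := stabilizer G α) p hpα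
    have hxo' : orderOf (x : G) = p := by rw [Subgroup.orderOf_coe]; exact hxo
    have hx1 : (x : G) ≠ 1 := by
      intro h
      rw [h, orderOf_one] at hxo'
      exact hp.one_lt.ne hxo'
    have hQp : IsPGroup p (Subgroup.zpowers (x : G)) := by
      apply IsPGroup.of_card (n := 1)
      rw [Nat.card_zpowers, hxo', pow_one]
    have hQα : Subgroup.zpowers (x : G) ≤ stabilizer G α := by
      rw [Subgroup.zpowers_le]; exact x.2
    obtain ⟨U, hU, hQU⟩ := exists_isSylowIn_ge hQα hQp
    have hxU : (x : G) ∈ U := hQU (Subgroup.mem_zpowers _)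
    have hsmall : (fixSet (Ω := Ω) U).ncard < p := by
      have h1 : (fixSet (Ω := Ω) U).ncard ≤ (fixedBy Ω (x : G)).ncard :=
        Set.ncard_le_ncard (fixSet_subset_fixedBy hxU) (Set.toFinite _)
      have h2 := hfix (x : G) hx1
      rw [Nat.card_coe_set_eq] at h2
      omega
    have hαU : α ∈ fixSet (Ω := Ω) U := fun u hu => hU.1 hu
    have hUtop : IsSylowIn p U ⊤ := by
      apply isSylowIn_of_normalizing (D := stabilizer G α) le_top hU
      intro Y hYp _ _ hYN
      exact le_stabilizer_of_small hYp hYN hαU hsmall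
    let P : Sylow p G :=
      { toSubgroup := U
        isPGroup' := hUtop.2.1
        is_maximal' := fun {Q} hQ hle => hUtop.2.2 Q le_top hQ hle }
    have h1 : ¬ p ∣ (P : Subgroup G).index := P.not_dvd_index
    apply h1
    exact hpi.trans (Subgroup.index_dvd_of_le hU.1)

end Cfsg.Agent.S3389
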