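import Cfsg.Statements.S3390
import Cfsg.Agent.Helper9.S3390FIX3
import Cfsg.Agent.Helper9.S3390BASIC
import Cfsg.Agent.Helper5.S3390SMALL
import Cfsg.Agent.Helper3.S3390ORB
import Cfsg.Agent.Helper20.S3390ORBCARD
import Cfsg.Agent.Helper20.S3390INDEX2
import Cfsg.Agent.Helper4.S3390FROB

set_option autoImplicit false
open Cfsg

namespace Cfsg.Agent.S3390

/-- Let G be a finite group acting faithfully and transitively on a finite set Ω with fixity 2 (every non-identity element fixes at most two points, and some fixes exactly two). Let α ∈ Ω and S a Sylow 2-subgroup of G. Then one of the following holds: the stabilizer S_α of α in S is trivial; S is dihedral or semidihedral and either |S_α| = 2 or |S : S_α| = 2; |S| ≥ 4, S has exactly one orbit of size 2 on Ω, every other S-orbit is regular, and G has a normal subgroup of index 2 or of index |S| which is a Frobenius group; or S ≤ G_α. -/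
theorem result {G : Type*} [Group G] [Finite G] {Ω : Type*} [Fintype Ω] [MulAction G Ω] [FaithfulSMul G Ω] (htr : MulAction.IsPretransitive G Ω)
    (hfix : ∀ g : G, g ≠ 1 → Nat.card (MulAction.fixedBy Ω g) ≤ 2) (hex : ∃ g : G, g ≠ 1 ∧ Nat.card (MulAction.fixedBy Ω g) = 2) (α : Ω) (S : Sylow 2 G) :
    (S : Subgroup G) ⊓ MulAction.stabilizer G α = ⊥ ∨
    (((∃ n : ℕ, Nonempty (↥(S : Subgroup G) ≃* DihedralGroup n)) ∨ Cfsg.IsQuasiDihedral ↥(S : Subgroup G)) ∧
       (Nat.card ↥((S : Subgroup G) ⊓ MulAction.stabilizer G α) = 2 ∨ ((S : Subgroup G) ⊓ MulAction.stabilizer G α).relIndex (S : Subgroup G) = 2)) ∨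
    (4 ≤ Nat.card (S : Subgroup G) ∧
       (∃ ω : Ω, Nat.card (MulAction.orbit ↥(S : Subgroup G) ω) = 2 ∧
          ∀ ω' : Ω, ω' ∉ MulAction.orbit ↥(S : Subgroup G) ω → Nat.card (MulAction.orbit ↥(S : Subgroup G) ω') = Nat.card (S : Subgroup G)) ∧
       ∃ N : Subgroup G, N.Normal ∧ (N.index = 2 ∨ N.index = Nat.card (S : Subgroup G)) ∧ (∃ H : Subgroup ↥N, Cfsg.IsFrobeniusComplement H)) ∨
    (S : Subgroup G) ≤ MulAction.stabilizer G α := by
  open MulAction Cfsg.Agent.S3390P in
  classical
  by_cases hT1 : (S : Subgroup G) ⊓ stabilizer G α = ⊥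
  · exact Or.inl hT1
  by_cases hTS : (S : Subgroup G) ≤ stabilizer G α
  · exact Or.inr (Or.inr (Or.inr hTS))
  have hS2 : IsPGroup 2 (S : Subgroup G) := S.isPGroup'
  obtain ⟨x, hxS, hxα, hxx, hTβ⟩ := BASIC hfix (S : Subgroup G) hS2 α hT1 hTS
  by_cases hidx : ((S : Subgroup G) ⊓ stabilizer G α).relIndex (S : Subgroup G) = 2
  · by_cases hD : (∃ n : ℕ, Nonempty (↥(S : Subgroup G) ≃* DihedralGroup n)) ∨
        Cfsg.IsQuasiDihedral ↥(S : Subgroup G)
    · exact Or.inr (Or.inl ⟨hD, Or.inr hidx⟩)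
    · -- third disjunct
      right; right; left
      have hfree := ORB hfix (S : Subgroup G) hS2 α hT1 x hxS hxα hxx hTβ hidx hD
      have horb := ORBCARD (S : Subgroup G) α x hxS hxα hidx hfree
      -- |S| ≥ 4
      have hT2 : 2 ≤ Nat.card ↥((S : Subgroup G) ⊓ stabilizer G α) := by
        by_contra hlt
        push Not at hlt
        have hpos : 0 < Nat.card ↥((S : Subgroup G) ⊓ stabilizer G α) := Nat.card_pos
        have h1 : Nat.card ↥((S : Subgroup G) ⊓ stabilizer G α) = 1 := by omega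
        exact hT1 (Subgroup.card_eq_one.mp h1)
      have hcard : Nat.card ↥((S : Subgroup G) ⊓ stabilizer G α) *
          ((S : Subgroup G) ⊓ stabilizer G α).relIndex (S : Subgroup G) = Nat.card ↥(S : Subgroup G) := by
        have h := Subgroup.relIndex_mul_relIndex (⊥ : Subgroup G)
          ((S : Subgroup G) ⊓ stabilizer G α) (S : Subgroup G) bot_le inf_le_left
        rwa [Subgroup.relIndex_bot_left, Subgroup.relIndex_bot_left] at h
      rw [hidx] at hcard
      have h4 : 4 ≤ Nat.card ↥(S : Subgroup G) := by omega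
      -- fusion hypothesis for INDEX2
      have hfpf : ∀ s ∈ (S : Subgroup G), s ∉ (S : Subgroup G) ⊓ stabilizer G α → ∀ ω : Ω, s • ω ≠ ω := by
        intro s hs hsT ω hω
        have hs1 : s ≠ 1 := by
          intro h1
          exact hsT (h1 ▸ Subgroup.one_mem _)
        exact hsT (hfree s hs hs1 ω hω).2
      have hfus : ∀ s ∈ (S : Subgroup G), s ∉ (S : Subgroup G) ⊓ stabilizer G α → ∀ g : G,
          g * s * g⁻¹ ∈ (S : Subgroup G) → g * s * g⁻¹ ∉ (S : Subgroup G) ⊓ stabilizer G α := by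
        intro s hs hsT g hgS hgT
        have hfixα : (g * s * g⁻¹) • α = α := hgT.2
        apply hfpf s hs hsT (g⁻¹ • α)
        calc s • g⁻¹ • α = g⁻¹ • ((g * s * g⁻¹) • α) := by
              rw [smul_smul, smul_smul]
              congr 1
              group
          _ = g⁻¹ • α := by rw [hfixα]
      obtain ⟨G₀, hn, hG₀, hmiss, hcont⟩ := INDEX2 S ((S : Subgroup G) ⊓ stabilizer G α) inf_le_left hidx hfus
      have hxT : x ∉ (S : Subgroup G) ⊓ stabilizer G α := fun h => hxα h.2
      have hxG₀ : x ∉ G₀ := hmiss x hxS hxT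
      have hαG₀ : stabilizer G α ≤ G₀ := by
        intro z hz
        apply hcont z
        intro n g hgS
        refine ⟨hgS, ?_⟩
        by_contra hnot
        have hnT : g * z ^ n * g⁻¹ ∉ (S : Subgroup G) ⊓ stabilizer G α := fun h => hnot h.2
        apply hfpf _ hgS hnT (g • α)
        have hzn : z ^ n • α = α := by
          have : z ^ n ∈ stabilizer G α := Subgroup.pow_mem _ hz n
          exact this
        calc (g * z ^ n * g⁻¹) • g • α = g • (z ^ n • α) := by
              rw [smul_smul, smul_smul]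
              congr 1
              group
          _ = g • α := by rw [hzn]
      refine ⟨h4, ⟨α, horb⟩, G₀, hn, Or.inl hG₀, (stabilizer G α).subgroupOf G₀, ?_⟩
      exact FROB htr hfix S α hT1 x hxS hxα hfree G₀ hn hG₀ hαG₀ hxG₀
  · obtain ⟨h2, hD⟩ := SMALL hfix (S : Subgroup G) hS2 α hT1 x hxS hxα hxx hTβ hidx
    exact Or.inr (Or.inl ⟨hD, Or.inl h2⟩)

end Cfsg.Agent.S3390
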