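import Cfsg.Statements.S3391
-- import your own Cfsg.Agent.* helpers here
import Cfsg.Agent.Helper11.SzFixB
import Cfsg.Agent.Helper11.SzBridge

set_option autoImplicit false
open Cfsg

namespace Cfsg.Agent.S3391

/-- Let q = 2^{2m+1} ≥ 8 and let G be isomorphic to the Suzuki group Sz(q). If G acts faithfully and transitively on a finite set Ω with fixity 2 (every non-identity element fixes at most two points, and some fixes exactly two), then either |Ω| = q² + 1 and the action is 2-transitive, or |Ω| = q²(q² + 1) and the point stabilizers have order q − 1. -/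
theorem result {G : Type*} [Group G] [Finite G] (F : Type) [Field F] [Fintype F] (m : ℕ) (hm : 1 ≤ m) (hF : Fintype.card F = 2 ^ (2 * m + 1))
    (e : G ≃* ↥(Cfsg.Lie.Sz F (2 ^ (m + 1)))) {Ω : Type*} [Fintype Ω] [MulAction G Ω] [FaithfulSMul G Ω] (htr : MulAction.IsPretransitive G Ω)
    (hfix : ∀ g : G, g ≠ 1 → Nat.card (MulAction.fixedBy Ω g) ≤ 2) (hex : ∃ g : G, g ≠ 1 ∧ Nat.card (MulAction.fixedBy Ω g) = 2) :
    (Fintype.card Ω = Fintype.card F ^ 2 + 1 ∧ MulAction.IsMultiplyPretransitive G Ω 2) ∨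
    (Fintype.card Ω = Fintype.card F ^ 2 * (Fintype.card F ^ 2 + 1) ∧ ∀ α : Ω, Nat.card (MulAction.stabilizer G α) = Fintype.card F - 1) := by
  classical
  let e' : Cfsg.Sz F m ≃* G := (Cfsg.Agent.Helper11.SzBridge.szEquiv hF hm).trans e.symm
  let act : MulAction (Cfsg.Sz F m) Ω := MulAction.compHom Ω e'.toMonoidHom
  have hsmul : ∀ (s : Cfsg.Sz F m) (x : Ω), s • x = e' s • x := fun _ _ => rfl
  have hfaith : FaithfulSMul (Cfsg.Sz F m) Ω :=
    ⟨fun {s₁ s₂} h => e'.injective (FaithfulSMul.eq_of_smul_eq_smul (α := Ω)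
      (fun x => by rw [← hsmul, ← hsmul]; exact h x))⟩
  have htrS : MulAction.IsPretransitive (Cfsg.Sz F m) Ω :=
    ⟨fun x y => by
      obtain ⟨g, hg⟩ := htr.exists_smul_eq x y
      exact ⟨e'.symm g, by rw [hsmul, e'.apply_symm_apply]; exact hg⟩⟩
  have hfixS : ∀ s : Cfsg.Sz F m, s ≠ 1 → Nat.card (MulAction.fixedBy Ω s) ≤ 2 := by
    intro s hs
    have h1 : MulAction.fixedBy Ω s = MulAction.fixedBy Ω (e' s) := by
      ext x
      rfl
    rw [h1]
    exact hfix (e' s) (fun h => hs (e'.injective (h.trans (map_one e').symm)))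
  have hexS : ∃ s : Cfsg.Sz F m, s ≠ 1 ∧ Nat.card (MulAction.fixedBy Ω s) = 2 := by
    obtain ⟨g, hg1, hg2⟩ := hex
    refine ⟨e'.symm g, ?_, ?_⟩
    · intro h
      apply hg1
      have := congrArg e' h
      rwa [e'.apply_symm_apply, map_one] at this
    · have h1 : MulAction.fixedBy Ω (e'.symm g) = MulAction.fixedBy Ω g := by
        ext x
        show e' (e'.symm g) • x = x ↔ g • x = x
        rw [e'.apply_symm_apply]
      rw [h1]
      exact hg2
  have hcardG : Nat.card G = (2 ^ (2 * m + 1)) ^ 2 * ((2 ^ (2 * m + 1)) ^ 2 + 1) *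
      (2 ^ (2 * m + 1) - 1) := by
    rw [← Nat.card_congr e'.toEquiv, Cfsg.Agent.Helper2.SzO.card_Sz hF hm]
  rcases Cfsg.Agent.Helper11.SzFix.main_S hF hm hfixS hexS with ⟨h1, h2⟩ | h1
  · left
    refine ⟨by rw [hF]; exact h1, ?_⟩
    rw [MulAction.is_two_pretransitive_iff] at h2 ⊢
    intro a b c d hab hcd
    obtain ⟨s, hs1, hs2⟩ := h2 hab hcd
    exact ⟨e' s, hs1, hs2⟩
  · right
    refine ⟨by rw [hF]; exact h1, ?_⟩
    intro α
    have e1 := MulAction.index_stabilizer_of_transitive G α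
    have e2 := Subgroup.card_mul_index (MulAction.stabilizer G α)
    rw [e1, hcardG, Nat.card_eq_fintype_card (α := Ω), h1] at e2
    rw [hF]
    have hpos : 0 < (2 ^ (2 * m + 1)) ^ 2 * ((2 ^ (2 * m + 1)) ^ 2 + 1) := by positivity
    apply Nat.eq_of_mul_eq_mul_right hpos
    rw [e2]
    ring

end Cfsg.Agent.S3391
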