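import Cfsg.Statements.S3412
import Cfsg.Agent.Helper15.S3412.Asm

set_option autoImplicit false
open Cfsg

namespace Cfsg.Agent.S3412

/-- Let H be a finite group whose commuting graph (vertices the non-identity elements, two joined when they commute) is isomorphic to that of PSL_3(3): there is a bijection between the non-identity elements of H and of PSL_3(3) under which two elements commute exactly when their images do. Then H ≅ PSL_3(3). -/
theorem result {H : Type*} [Group H] [Finite H]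
    (f : {h : H // h ≠ 1} ≃ {g : Matrix.ProjectiveSpecialLinearGroup (Fin 3) (ZMod 3) // g ≠ 1})
    (hf : ∀ x y : {h : H // h ≠ 1}, (x : H) * y = y * x ↔ ((f x) : Matrix.ProjectiveSpecialLinearGroup (Fin 3) (ZMod 3)) * (f y) = (f y) * (f x)) :
    Nonempty (H ≃* Matrix.ProjectiveSpecialLinearGroup (Fin 3) (ZMod 3)) := by
  let ψ : Cfsg.Agent.S3412P.L33 ≃* Matrix.ProjectiveSpecialLinearGroup (Fin 3) (ZMod 3) :=
    Cfsg.Agent.S3412P.ASM.pslEquiv
  let e1 : {g : Matrix.ProjectiveSpecialLinearGroup (Fin 3) (ZMod 3) // g ≠ 1} ≃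
      {g : Cfsg.Agent.S3412P.L33 // g ≠ 1} :=
    ψ.symm.toEquiv.subtypeEquiv (fun g => by
      rw [MulEquiv.toEquiv_eq_coe, MulEquiv.coe_toEquiv, Ne, Ne, MulEquiv.map_eq_one_iff])
  have he1 : ∀ g, ((e1 g : Cfsg.Agent.S3412P.L33)) = ψ.symm g.1 := fun g => rfl
  have hf' : Cfsg.Agent.S3412P.IsGraphIso (f.trans e1) := by
    intro x y
    rw [hf x y, Equiv.trans_apply, Equiv.trans_apply, he1, he1, ← map_mul, ← map_mul]
    exact ψ.symm.injective.eq_iff.symm
  obtain ⟨φ⟩ := Cfsg.Agent.S3412P.ASM.main_L33 (f.trans e1) hf'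
  exact ⟨φ.trans ψ⟩

end Cfsg.Agent.S3412
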