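import Cfsg.Statements.S3413
import Mathlib
import Cfsg.Agent.S0420
import Cfsg.Agent.Helper15.NseJ

set_option autoImplicit false
open scoped Pointwise
open Cfsg

namespace Cfsg.Agent.S3413

/-- Let H be a finite group whose commuting graph (vertices the non-identity elements, two joined when they commute) is isomorphic to that of the Mathieu group M_11: there is a bijection between the non-identity elements of H and of M_11 under which two elements commute exactly when their images do. Then H ≅ M_11. -/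
theorem result {H : Type*} [Group H] [Finite H]
    (f : {h : H // h ≠ 1} ≃ {g : ↥Cfsg.Spor.M11 // g ≠ 1})
    (hf : ∀ x y : {h : H // h ≠ 1}, (x : H) * y = y * x ↔ ((f x) : ↥Cfsg.Spor.M11) * (f y) = (f y) * (f x)) :
    Nonempty (H ≃* ↥Cfsg.Spor.M11) := by
  have hMfin : Finite ↥Cfsg.Spor.M11 :=
    Nat.finite_of_card_ne_zero (by rw [Cfsg.Agent.Helper27.card_spor_M11]; norm_num)
  obtain ⟨hsimple, hcard⟩ := Cfsg.Agent.Helper15.NseM.simple_of_graph f hf
    Cfsg.Agent.Helper15.NseM.cnt_spor_M11 Cfsg.Agent.Helper27.card_spor_M11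
  have hd := Cfsg.Agent.Helper27.sqDod_mem_dodecads
  have hp := Cfsg.Agent.Helper27.some_zero_mem_sqDod
  have : Finite ↥(MulAction.stabilizer Cfsg.M24 Cfsg.Spor.squareDodecad ⊓
      MulAction.stabilizer Cfsg.M24 (some 0 : Cfsg.GolayPt)) :=
    Nat.finite_of_card_ne_zero (by
      rw [Cfsg.Agent.Helper27.card_stabilizer_dodecad_pt hd hp]; norm_num)
  obtain ⟨e⟩ := Cfsg.Agent.S0420.m11_unique (G := H) ⟨hsimple, hcard⟩
    ⟨Cfsg.Agent.Helper27.stabilizer_dodecad_pt_simple hd hp,
      Cfsg.Agent.Helper27.card_stabilizer_dodecad_pt hd hp⟩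
  exact ⟨e.trans Cfsg.Agent.Helper27.sporM11Equiv⟩

end Cfsg.Agent.S3413
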