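import Cfsg.Statements.S3419
import Mathlib
import Cfsg.Agent.Helper17.TwoPrimes
import Cfsg.Agent.Helper17.AltSpec

set_option autoImplicit false
open Cfsg

namespace Cfsg.Agent.S3419

/-- Let n ≥ 5 and let G be a finite group with the same order and the same set of element orders as the alternating group of degree n. Then G is not solvable. -/
theorem result {G : Type*} [Group G] [Finite G] (n : ℕ) (hn : 5 ≤ n)
    (hcard : Nat.card G = Nat.card ↥(alternatingGroup (Fin n)))
    (hspec : Set.range (orderOf : G → ℕ) = Set.range (orderOf : ↥(alternatingGroup (Fin n)) → ℕ)) :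
    ¬ Group.IsSolvable G := by
  open Cfsg.Agent.Helper17.AltSpec in
  rcases Nat.lt_or_ge n 11 with hlt | hge
  · interval_cases n
    · -- n = 5 : p = 3, q = 5, a = 1
      refine not_solvable_of_params 5 (by norm_num) hcard hspec (p := 3) (q := 5) (a := 1)
        (by norm_num) (by norm_num) (by norm_num) (by norm_num) (by norm_num) (by norm_num)
        (by decide) (by decide) (by decide) (by decide) ?_ (by norm_num)
      intro i h1 h2
      interval_cases i <;> norm_num
    · -- n = 6 : p = 3, q = 5, a = 2
      refine not_solvable_of_params 6 (by norm_num) hcard hspec (p := 3) (q := 5) (a := 2)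
        (by norm_num) (by norm_num) (by norm_num) (by norm_num) (by norm_num) (by norm_num)
        (by decide) (by decide) (by decide) (by decide) ?_ (by norm_num)
      intro i h1 h2
      interval_cases i <;> norm_num
    · -- n = 7 : p = 5, q = 7, a = 1
      refine not_solvable_of_params 7 (by norm_num) hcard hspec (p := 5) (q := 7) (a := 1)
        (by norm_num) (by norm_num) (by norm_num) (by norm_num) (by norm_num) (by norm_num)
        (by decide) (by decide) (by decide) (by decide) ?_ (by norm_num)
      intro i h1 h2
      interval_cases i <;> norm_num
    · -- n = 8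
      refine not_solvable_of_params 8 (by norm_num) hcard hspec (p := 5) (q := 7) (a := 1)
        (by norm_num) (by norm_num) (by norm_num) (by norm_num) (by norm_num) (by norm_num)
        (by decide) (by decide) (by decide) (by decide) ?_ (by norm_num)
      intro i h1 h2
      interval_cases i <;> norm_num
    · -- n = 9
      refine not_solvable_of_params 9 (by norm_num) hcard hspec (p := 5) (q := 7) (a := 1)
        (by norm_num) (by norm_num) (by norm_num) (by norm_num) (by norm_num) (by norm_num)
        (by decide) (by decide) (by decide) (by decide) ?_ (by norm_num)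
      intro i h1 h2
      interval_cases i <;> norm_num
    · -- n = 10 : p = 5, q = 7, a = 2
      refine not_solvable_of_params 10 (by norm_num) hcard hspec (p := 5) (q := 7) (a := 2)
        (by norm_num) (by norm_num) (by norm_num) (by norm_num) (by norm_num) (by norm_num)
        (by decide) (by decide) (by decide) (by decide) ?_ (by norm_num)
      intro i h1 h2
      interval_cases i <;> norm_num
  · obtain ⟨p, q, hp, hq, h1, h2, h3⟩ := Cfsg.Agent.Helper17.TwoPrimes.exists_two_primes_half n hge
    have hp6 : 6 ≤ p := by omega
    have hpn : p ≤ n := by omega
    refine not_solvable_of_params n (by omega) hcard hspec (p := p) (q := q) (a := 1)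
      hp hq (by omega) (by omega) (by omega) (by omega)
      ((Nat.Prime.dvd_factorial hq).mpr h3) (not_sq_dvd_factorial hq h3 (by omega))
      ((Nat.Prime.dvd_factorial hp).mpr hpn) (not_sq_dvd_factorial hp hpn h1) ?_ ?_
    · intro i hi1 hi2
      have hi : i = 1 := by omega
      subst hi
      rw [pow_one]
      intro hd
      have := Nat.le_of_dvd (by omega) hd
      omega
    · intro hd
      obtain ⟨c, hc⟩ := hd
      have hpodd : Odd p := hp.odd_of_ne_two (by omega)
      have hqodd : Odd q := hq.odd_of_ne_two (by omega)
      obtain ⟨u, hu⟩ := hpodd
      obtain ⟨v, hv⟩ := hqodd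
      rcases Nat.lt_or_ge c 2 with hc2 | hc2
      · interval_cases c
        · omega
        · omega
      · have : 2 * p ≤ p * c := by nlinarith
        omega

end Cfsg.Agent.S3419
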