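import Cfsg.Statements.S3420
import Mathlib
import Cfsg.Agent.Helper17.TwoPrimes
import Cfsg.Agent.Helper17.AltSpec2

set_option autoImplicit false
open Cfsg

namespace Cfsg.Agent.S3420

/-- Let n ≥ 11 and let G be a finite group with the same order and the same set of element orders as the alternating group of degree n. Then G has normal subgroups N < H such that H/N is a non-abelian simple group whose order is divisible by every prime p with n/2 < p ≤ n. -/
theorem result {G : Type*} [Group G] [Finite G] (n : ℕ) (hn : 11 ≤ n)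
    (hcard : Nat.card G = Nat.card ↥(alternatingGroup (Fin n)))
    (hspec : Set.range (orderOf : G → ℕ) = Set.range (orderOf : ↥(alternatingGroup (Fin n)) → ℕ)) :
    ∃ (N H : Subgroup G) (_ : N.Normal), H.Normal ∧ N < H ∧
      IsSimpleGroup (↥H ⧸ N.subgroupOf H) ∧ ¬ IsMulCommutative (↥H ⧸ N.subgroupOf H) ∧
      ∀ p : ℕ, p.Prime → n < 2 * p → p ≤ n → p ∣ Nat.card (↥H ⧸ N.subgroupOf H) := by
  open Cfsg.Agent.Helper17.AltSpec in
  obtain ⟨p₀, p₁, hp₀, hp₁, h1, h2, h3⟩ :=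
    Cfsg.Agent.Helper17.TwoPrimes.exists_two_primes_half n hn
  let Pr : Set ℕ := {p | p.Prime ∧ n < 2 * p ∧ p ≤ n}
  have h2m : 2 * Nat.card G = n.factorial := by rw [hcard, two_mul_card_alt n (by omega)]
  have hprime : ∀ p ∈ Pr, p.Prime := fun p hp => hp.1
  have hne2 : ∀ p ∈ Pr, p ≠ 2 := by
    intro p hp
    have := hp.2.1
    omega
  have hdiv : ∀ p ∈ Pr, p ∣ Nat.card G := by
    intro p hp
    have h := (odd_prime_pow_dvd_iff (k := 1) (m := Nat.card G) hp.1 (hne2 p hp)).mp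
      (by rw [pow_one, h2m]; exact (Nat.Prime.dvd_factorial hp.1).mpr hp.2.2)
    simpa using h
  have hdiv2 : ∀ p ∈ Pr, ¬ p ^ 2 ∣ Nat.card G := by
    intro p hp h
    exact not_sq_dvd_factorial hp.1 hp.2.2 hp.2.1
      (h2m ▸ (odd_prime_pow_dvd_iff (k := 2) (m := Nat.card G) hp.1 (hne2 p hp)).mpr h)
  have hnoelt : ∀ p ∈ Pr, ∀ q ∈ Pr, p ≠ q → ∀ g : G, orderOf g ≠ p * q := by
    intro p hp q hq hpq g hg
    have hmem : p * q ∈ Set.range (orderOf : G → ℕ) := ⟨g, hg⟩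
    rw [hspec] at hmem
    obtain ⟨σ, hσ⟩ := hmem
    have h3 : orderOf (σ : Equiv.Perm (Fin n)) = p * q := by rw [Subgroup.orderOf_coe, hσ]
    have hsum : n < p + q := by
      have := hp.2.1
      have := hq.2.1
      omega
    exact no_orderOf_eq_mul (σ : Equiv.Perm (Fin n)) hp.1 hq.1 hpq hsum h3
  have hsub : ∀ p ∈ Pr, ∀ q ∈ Pr, p ≠ q → ¬ p ∣ q - 1 := by
    intro p hp q hq hpq hd
    obtain ⟨c, hc⟩ := hd
    have hpodd : Odd p := hp.1.odd_of_ne_two (hne2 p hp)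
    have hqodd : Odd q := hq.1.odd_of_ne_two (hne2 q hq)
    obtain ⟨u, hu⟩ := hpodd
    obtain ⟨v, hv⟩ := hqodd
    have := hp.2.1
    have := hq.2.2
    have := hq.1.two_le
    rcases Nat.lt_or_ge c 2 with hc2 | hc2
    · interval_cases c
      · omega
      · omega
    · have : 2 * p ≤ p * c := by nlinarith
      omega
  have h₀ : p₀ ∈ Pr := ⟨hp₀, h1, by omega⟩
  have h₁ : p₁ ∈ Pr := ⟨hp₁, by omega, h3⟩
  obtain ⟨N, H, hNn, hHn, hNH, hsimple, hnc, hall⟩ :=
    exists_simple_section Pr hprime hdiv hdiv2 hnoelt hsub h₀ h₁ (by omega)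
  exact ⟨N, H, hNn, hHn, hNH, hsimple, hnc, fun p hp hp1 hp2 => hall p ⟨hp, hp1, hp2⟩⟩

end Cfsg.Agent.S3420
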