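import Cfsg.Statements.S3430
import Mathlib
import Cfsg.Agent.Helper17.Zsigmondy4

set_option autoImplicit false
open Cfsg

namespace Cfsg.Agent.S3430

/-- the excluded pairs with `n ≥ 3` -/
def LE : List (ℕ × ℕ) :=
  [(2, 4), (2, 6), (2, 10), (2, 12), (2, 18), (3, 4), (3, 6), (5, 6)]

/-- explicit large primitive prime divisors for the pairs of `TList` outside `LE` -/
def W : List (ℕ × ℕ × ℕ) :=
  [(2, 3, 7), (2, 5, 31), (2, 8, 17), (2, 14, 43), (2, 15, 151), (2, 20, 41), (3, 3, 13),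
    (3, 10, 61), (3, 12, 73), (4, 3, 7), (4, 4, 17), (4, 6, 13), (6, 6, 31)]

set_option maxRecDepth 100000 in
theorem W_spec : ∀ x ∈ W, x.2.2 ∣ x.1 ^ x.2.1 - 1 ∧
    (∀ i : ℕ, 1 ≤ i → i < x.2.1 → ¬ x.2.2 ∣ x.1 ^ i - 1) ∧ x.2.1 + 1 < x.2.2 := by
  decide +kernel

theorem W_prime : ∀ x ∈ W, x.2.2.Prime := by
  intro x hx
  simp only [W, List.mem_cons, List.not_mem_nil, or_false] at hx
  rcases hx with rfl | rfl | rfl | rfl | rfl | rfl | rfl | rfl | rfl | rfl | rfl | rfl | rfl <;>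
    norm_num

set_option maxRecDepth 100000 in
theorem W_cover : ∀ x ∈ Cfsg.Agent.Helper17.Zsig.TList, x ∈ LE ∨ ∃ y ∈ W, y.1 = x.1 ∧ y.2.1 = x.2 := by
  decide +kernel

/-- the case `n = 2` -/
theorem case_two (q : ℕ) (hq : 2 ≤ q)
    (h1 : ¬ ∃ s t : ℕ, t ≤ 1 ∧ q + 1 = 2 ^ s * 3 ^ t) :
    ∃ p : ℕ, p.Prime ∧ p ∣ q ^ 2 - 1 ∧ (∀ i : ℕ, 1 ≤ i → i < 2 → ¬ p ∣ q ^ i - 1) ∧
      (2 + 1 < p ∨ p ^ 2 ∣ q ^ 2 - 1) := by
  have hfac : q ^ 2 - 1 = (q - 1) * (q + 1) := by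
    obtain ⟨k, rfl⟩ : ∃ k, q = k + 1 := ⟨q - 1, by omega⟩
    have : (k + 1) ^ 2 = k * (k + 1 + 1) + 1 := by ring
    rw [this]
    simp
  -- a prime `p ∣ q + 1`, `p ≠ 2`, is primitive
  have hprim : ∀ p : ℕ, p.Prime → p ≠ 2 → p ∣ q + 1 →
      ∀ i : ℕ, 1 ≤ i → i < 2 → ¬ p ∣ q ^ i - 1 := by
    intro p hp hp2 hpq i hi hi2 hdvd
    have hi1 : i = 1 := by omega
    subst hi1
    rw [pow_one] at hdvd
    have h2 : p ∣ (q + 1) - (q - 1) := Nat.dvd_sub hpq hdvd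
    have h3 : (q + 1) - (q - 1) = 2 := by omega
    rw [h3] at h2
    exact hp2 ((Nat.prime_dvd_prime_iff_eq hp Nat.prime_two).1 h2)
  by_cases hex : ∃ p : ℕ, p.Prime ∧ p ∣ q + 1 ∧ 3 < p
  · obtain ⟨p, hp, hpq, hp3⟩ := hex
    refine ⟨p, hp, ?_, hprim p hp (by omega) hpq, Or.inl hp3⟩
    rw [hfac]; exact Dvd.dvd.mul_left hpq _
  · push Not at hex
    -- `q + 1 = 2^s * 3^t`
    obtain ⟨s, m, hm2, hqm⟩ := Nat.exists_eq_pow_mul_and_not_dvd (n := q + 1) (by omega) 2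
      (by norm_num)
    have hm0 : m ≠ 0 := by
      rintro rfl
      omega
    obtain ⟨t, w, hw3, hmw⟩ := Nat.exists_eq_pow_mul_and_not_dvd (n := m) hm0 3 (by norm_num)
    have hw1 : w = 1 := by
      by_contra hne
      obtain ⟨p, hp, hpw⟩ := Nat.exists_prime_and_dvd hne
      have hpm : p ∣ m := hpw.trans ⟨3 ^ t, by rw [hmw]; ring⟩
      have hpq : p ∣ q + 1 := hpm.trans ⟨2 ^ s, by rw [hqm]; ring⟩
      have hle := hex p hp hpq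
      have h2 := hp.two_le
      have : p = 2 ∨ p = 3 := by omega
      rcases this with rfl | rfl
      · exact hm2 hpm
      · exact hw3 hpw
    subst hw1
    rw [mul_one] at hmw
    subst hmw
    have ht2 : 2 ≤ t := by
      by_contra hlt
      exact h1 ⟨s, t, by omega, hqm⟩
    have h9 : 3 ^ 2 ∣ q + 1 := by
      rw [hqm]
      exact Dvd.dvd.mul_left (pow_dvd_pow 3 ht2) _
    have h3 : 3 ∣ q + 1 := (dvd_pow_self 3 (by norm_num)).trans h9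
    refine ⟨3, Nat.prime_three, ?_, hprim 3 Nat.prime_three (by norm_num) h3, Or.inr ?_⟩
    · rw [hfac]; exact Dvd.dvd.mul_left h3 _
    · rw [hfac]; exact Dvd.dvd.mul_left h9 _

/-- Let q, n ≥ 2 be integers. Unless (n = 2 and q + 1 = 2^s·3^t for some s ≥ 0 and t ≤ 1), or (q = 2 and n ∈ {4, 6, 10, 12, 18}), or (q = 3 and n ∈ {4, 6}), or (q, n) = (5, 6), there is a prime p dividing q^n − 1 but no q^i − 1 with 1 ≤ i < n (a primitive prime divisor), such that p > n + 1 or p² divides q^n − 1. -/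
theorem result (q n : ℕ) (hq : 2 ≤ q) (hn : 2 ≤ n)
    (h1 : ¬ (n = 2 ∧ ∃ s t : ℕ, t ≤ 1 ∧ q + 1 = 2 ^ s * 3 ^ t))
    (h2 : ¬ (q = 2 ∧ (n = 4 ∨ n = 6 ∨ n = 10 ∨ n = 12 ∨ n = 18)))
    (h3 : ¬ (q = 3 ∧ (n = 4 ∨ n = 6))) (h4 : ¬ (q = 5 ∧ n = 6)) :
    ∃ p : ℕ, p.Prime ∧ p ∣ q ^ n - 1 ∧ (∀ i : ℕ, 1 ≤ i → i < n → ¬ p ∣ q ^ i - 1) ∧ (n + 1 < p ∨ p ^ 2 ∣ q ^ n - 1) := by
  rcases Nat.lt_or_ge n 3 with hn3 | hn3
  · have hn2 : n = 2 := by omega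
    subst hn2
    exact case_two q hq (fun h => h1 ⟨rfl, h⟩)
  · by_cases hT : (q, n) ∈ Cfsg.Agent.Helper17.Zsig.TList
    · rcases W_cover (q, n) hT with h | ⟨y, hy, hy1, hy2⟩
      · exfalso
        simp only [LE, List.mem_cons, Prod.mk.injEq, List.not_mem_nil, or_false] at h
        rcases h with ⟨rfl, rfl⟩ | ⟨rfl, rfl⟩ | ⟨rfl, rfl⟩ | ⟨rfl, rfl⟩ | ⟨rfl, rfl⟩ |
          ⟨rfl, rfl⟩ | ⟨rfl, rfl⟩ | ⟨rfl, rfl⟩
        · exact h2 ⟨rfl, by norm_num⟩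
        · exact h2 ⟨rfl, by norm_num⟩
        · exact h2 ⟨rfl, by norm_num⟩
        · exact h2 ⟨rfl, by norm_num⟩
        · exact h2 ⟨rfl, by norm_num⟩
        · exact h3 ⟨rfl, by norm_num⟩
        · exact h3 ⟨rfl, by norm_num⟩
        · exact h4 ⟨rfl, rfl⟩
      · obtain ⟨h5, h6, h7⟩ := W_spec y hy
        have h8 := W_prime y hy
        simp only at hy1 hy2
        rw [hy1] at h5 h6
        rw [hy2] at h5 h6 h7
        exact ⟨y.2.2, h8, h5, h6, Or.inl h7⟩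
    · exact Cfsg.Agent.Helper17.Zsig.large_prim_prime hq hn3 hT

end Cfsg.Agent.S3430
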