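import Cfsg.Statements.S3431
import Cfsg.Agent.Helper15.NseS6
import Cfsg.Agent.Helper15.NseS7

set_option autoImplicit false
open Cfsg

namespace Cfsg.Agent.S3431

open Cfsg.Agent.Helper15.NseS Cfsg.Agent.Helper15.Nse

/-- Let n be 4, 5 or 6 and let G be a finite group whose set of sizes of same-order classes (the set of numbers #{g : o(g) = m} over the element orders m of G) equals that of the alternating group of degree n. Then G is isomorphic to that alternating group. -/
theorem result {G : Type*} [Group G] [Finite G] (n : ℕ) (hn : n = 4 ∨ n = 5 ∨ n = 6)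
    (h : ((fun m : ℕ => Nat.card {g : G // orderOf g = m}) '' Set.range (orderOf : G → ℕ)) = ((fun m : ℕ => Nat.card {g : ↥(alternatingGroup (Fin n)) // orderOf g = m}) '' Set.range (orderOf : ↥(alternatingGroup (Fin n)) → ℕ))) :
    Nonempty (G ≃* ↥(alternatingGroup (Fin n))) := by
  rcases hn with rfl | rfl | rfl
  · rw [nseA4] at h
    have hp := profile_of_nse (G := G) [3, 8] (by decide) 3 (by decide) (by decide) h
    obtain ⟨h1, h2, h3⟩ := profile4 hp
    exact iso_A4 h1 h2 h3
  · rw [nseA5] at h
    have hp := profile_of_nse (G := G) [15, 20, 24] (by decide) 15 (by decide) (by decide) h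
    obtain ⟨h1, h2, h3, h4⟩ := profile5 hp
    exact iso_A5 h1 h2 h3 h4
  · rw [nseA6] at h
    have hp := profile_of_nse (G := G) [45, 80, 90, 144] (by decide) 45 (by decide) (by decide) h
    obtain ⟨h1, -, h3, -, h5, h6⟩ := profile6 hp
    exact iso_A6 h1 h3 h5 h6

end Cfsg.Agent.S3431
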