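import Mathlib
import Cfsg.Statements.S3437
import Cfsg.Agent.Helper13.Frob2OData
import Cfsg.Agent.Helper13.SL33Spec
import Cfsg.Agent.Helper2.L27
import Cfsg.Agent.Helper24.Burnside

set_option autoImplicit false
set_option linter.style.haveILetI false

namespace Cfsg.Agent.S3437

open Cfsg.Agent.Helper13.Frob2O

section ok

theorem pow_of_ok (a : M4) (h : Ok a) : a ^ 8 = 1 ∨ a ^ 6 = 1 := by
  rcases h with h | h | h | h | h | h
  · left; rw [h, one_pow]
  · left; rw [h]; exact Even.neg_one_pow (by decide)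
  · left
    have : a ^ 8 = (a * a) ^ 4 := by rw [← pow_two, ← pow_mul]
    rw [this, h]; exact Even.neg_one_pow (by decide)
  · left
    have : a ^ 8 = ((a * a) * (a * a)) ^ 2 := by
      rw [← pow_two, ← pow_two, ← pow_mul, ← pow_mul]
    rw [this, h]; exact Even.neg_one_pow (by decide)
  · right
    have : a ^ 6 = (a * a * a) ^ 2 := by
      rw [← pow_two, ← pow_succ, ← pow_mul]
    rw [this, h]; exact Even.neg_one_pow (by decide)
  · right
    have h3 : a ^ 3 = 1 := by
      have : a ^ 3 - 1 = (a - 1) * (a * a + a + 1) := by noncomm_ring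
      rw [h, mul_zero, sub_eq_zero] at this
      exact this
    have : a ^ 6 = (a ^ 3) ^ 2 := by rw [← pow_mul]
    rw [this, h3, one_pow]

theorem smul_eq_zero_13 (c : ZMod 13) (hc : c ≠ 0) (v : Fin 4 → ZMod 13) (h : c • v = 0) : v = 0 := by
  rcases smul_eq_zero.mp h with h' | h'
  · exact absurd h' hc
  · exact h'

theorem fpf_of_ok (a : M4) (h : Ok a) (hne : a ≠ 1) (v : Fin 4 → ZMod 13)
    (hv : a.mulVec v = v) : v = 0 := by
  have hpow : ∀ n : ℕ, (a ^ n).mulVec v = v := by
    intro n
    induction n with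
    | zero => simp
    | succ n ih => rw [pow_succ, ← Matrix.mulVec_mulVec, hv, ih]
  have hneg : ∀ n : ℕ, a ^ n = -1 → v = 0 := by
    intro n hn
    have := hpow n
    rw [hn, Matrix.neg_mulVec, Matrix.one_mulVec] at this
    apply smul_eq_zero_13 2 (by decide) v
    rw [two_smul]
    nth_rewrite 1 [← this]
    exact neg_add_cancel v
  rcases h with h | h | h | h | h | h
  · exact absurd h hne
  · exact hneg 1 (by rw [pow_one, h])
  · exact hneg 2 (by rw [pow_two, h])
  · exact hneg 4 (by
      have : a ^ 4 = (a * a) * (a * a) := by rw [← pow_two, ← pow_two, ← pow_mul]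
      rw [this, h])
  · exact hneg 3 (by
      have : a ^ 3 = a * a * a := by rw [← pow_two, ← pow_succ]
      rw [this, h])
  · have := congrArg (fun M : M4 => M.mulVec v) h
    simp only [Matrix.add_mulVec, Matrix.zero_mulVec, Matrix.one_mulVec] at this
    rw [← Matrix.mulVec_mulVec, hv, hv] at this
    apply smul_eq_zero_13 3 (by decide) v
    rw [← this]
    module

end ok

section K

def uA : M4ˣ := ⟨gA, gAi, gA_inv.1, gA_inv.2⟩
def uB : M4ˣ := ⟨gB, gBi, gB_inv.1, gB_inv.2⟩
def uC : M4ˣ := ⟨gC, gCi, gC_inv.1, gC_inv.2⟩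

/-- the binary octahedral group. -/
def K : Subgroup M4ˣ := Subgroup.closure {uA, uB, uC}

theorem mem_K (g : M4ˣ) (hg : g ∈ K) : ∃ k : Fin 48, (g : M4) = Lf k := by
  unfold K at hg
  induction hg using Subgroup.closure_induction_left with
  | one => exact ⟨28, Lf_one.symm⟩
  | mul_left x hx y hy ih =>
    obtain ⟨k, hk⟩ := ih
    simp only [Set.mem_insert_iff, Set.mem_singleton_iff] at hx
    rcases hx with rfl | rfl | rfl
    · exact ⟨sA k, by rw [Units.val_mul, hk]; exact hA k⟩
    · exact ⟨sB k, by rw [Units.val_mul, hk]; exact hB k⟩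
    · exact ⟨sC k, by rw [Units.val_mul, hk]; exact hC k⟩
  | inv_mul_cancel x hx y hy ih =>
    obtain ⟨k, hk⟩ := ih
    simp only [Set.mem_insert_iff, Set.mem_singleton_iff] at hx
    rcases hx with rfl | rfl | rfl
    · exact ⟨sAi k, by rw [Units.val_mul, hk]; exact hAi k⟩
    · exact ⟨sBi k, by rw [Units.val_mul, hk]; exact hBi k⟩
    · exact ⟨sCi k, by rw [Units.val_mul, hk]; exact hCi k⟩

theorem ok_K (g : M4ˣ) (hg : g ∈ K) : Ok (g : M4) := by
  obtain ⟨k, hk⟩ := mem_K g hg
  rw [hk]
  exact ok_all k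

theorem pow_K (g : K) : g ^ 8 = 1 ∨ g ^ 6 = 1 := by
  rcases pow_of_ok _ (ok_K g.1 g.2) with h | h
  · left
    apply Subtype.ext
    apply Units.ext
    rw [Subgroup.coe_pow, Units.val_pow_eq_pow_val, h]
    rfl
  · right
    apply Subtype.ext
    apply Units.ext
    rw [Subgroup.coe_pow, Units.val_pow_eq_pow_val, h]
    rfl

theorem fpf_K (g : K) (hne : g ≠ 1) (v : Fin 4 → ZMod 13)
    (hv : ((g : M4ˣ) : M4).mulVec v = v) : v = 0 := by
  apply fpf_of_ok _ (ok_K g.1 g.2) _ v hv
  intro h
  apply hne
  apply Subtype.ext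
  apply Units.ext
  rw [h]
  rfl

end K

section semidirect

abbrev V4 := Multiplicative (Fin 4 → ZMod 13)

/-- the action of a matrix unit on column vectors. -/
def matAct : M4ˣ →* MulAut V4 where
  toFun u :=
    { toFun := fun v => Multiplicative.ofAdd ((u : M4).mulVec (Multiplicative.toAdd v))
      invFun := fun v => Multiplicative.ofAdd ((u⁻¹ : M4ˣ).val.mulVec (Multiplicative.toAdd v))
      left_inv := fun v => by
        apply Multiplicative.toAdd.injective
        simp only [toAdd_ofAdd, Matrix.mulVec_mulVec]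
        rw [← Units.val_mul, inv_mul_cancel]
        simp
      right_inv := fun v => by
        apply Multiplicative.toAdd.injective
        simp only [toAdd_ofAdd, Matrix.mulVec_mulVec]
        rw [← Units.val_mul, mul_inv_cancel]
        simp
      map_mul' := fun v w => by
        apply Multiplicative.toAdd.injective
        simp only [toAdd_ofAdd, toAdd_mul, Matrix.mulVec_add] }
  map_one' := by
    apply MulEquiv.ext
    intro v
    apply Multiplicative.toAdd.injective
    change ((1 : M4ˣ) : M4).mulVec (Multiplicative.toAdd v) = Multiplicative.toAdd v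
    rw [Units.val_one, Matrix.one_mulVec]
  map_mul' a b := by
    apply MulEquiv.ext
    intro v
    apply Multiplicative.toAdd.injective
    change ((a * b : M4ˣ) : M4).mulVec (Multiplicative.toAdd v) =
      (a : M4).mulVec ((b : M4).mulVec (Multiplicative.toAdd v))
    rw [Matrix.mulVec_mulVec, Units.val_mul]

theorem matAct_apply (u : M4ˣ) (v : V4) :
    matAct u v = Multiplicative.ofAdd ((u : M4).mulVec (Multiplicative.toAdd v)) := rfl

abbrev HG := V4 ⋊[matAct.comp K.subtype] K

instance : Finite K := inferInstance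

instance : Finite HG := Finite.of_equiv _ SemidirectProduct.equivProd.symm

theorem pow_thirteen (v : V4) : v ^ 13 = 1 := by
  apply Multiplicative.toAdd.injective
  rw [toAdd_pow, toAdd_one]
  ext i
  simp only [Pi.smul_apply, Pi.zero_apply, nsmul_eq_mul]
  have : ((13 : ℕ) : ZMod 13) = 0 := by decide
  rw [this, zero_mul]

theorem orderOf_of_right_ne (h : HG) (hne : h.right ≠ 1) : orderOf h = orderOf h.right := by
  apply Nat.dvd_antisymm
  · apply orderOf_dvd_of_pow_eq_one
    set n := orderOf h.right with hn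
    have hr : (h ^ n).right = 1 := by
      rw [← SemidirectProduct.rightHom_eq_right, map_pow, SemidirectProduct.rightHom_eq_right, hn,
        pow_orderOf_eq_one]
    set u := (h ^ n).left with hu
    have hcomm : h ^ n * h = h * h ^ n := by
      rw [← pow_succ, ← pow_succ']
    have hl := congrArg SemidirectProduct.left hcomm
    rw [SemidirectProduct.mul_left, SemidirectProduct.mul_left, hr, map_one, MulAut.one_apply,
      ← hu] at hl
    have hfix : (matAct.comp K.subtype) h.right u = u := by
      have : u * h.left = (matAct.comp K.subtype) h.right u * h.left := by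
        rw [hl, mul_comm]
      exact (mul_right_cancel this).symm
    have hu1 : u = 1 := by
      have hv := fpf_K h.right hne (Multiplicative.toAdd u) (by
        have := congrArg Multiplicative.toAdd hfix
        simpa [matAct_apply] using this)
      apply Multiplicative.toAdd.injective
      rw [hv]; rfl
    apply SemidirectProduct.ext
    · rw [← hu, hu1]; rfl
    · rw [hr]; rfl
  · apply orderOf_dvd_of_pow_eq_one
    rw [← SemidirectProduct.rightHom_eq_right, ← map_pow, pow_orderOf_eq_one, map_one]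

theorem orderOf_of_right_eq (h : HG) (he : h.right = 1) : orderOf h = 1 ∨ orderOf h = 13 := by
  have h13 : h ^ 13 = 1 := by
    have hh : h = SemidirectProduct.inl h.left := by
      apply SemidirectProduct.ext
      · simp
      · simp [he]
    rw [hh, ← map_pow, pow_thirteen, map_one]
  have := orderOf_dvd_of_pow_eq_one h13
  exact (Nat.dvd_prime (by norm_num)).mp this

theorem orderOf_K_mem (g : K) : orderOf g ∈ ({1, 2, 3, 4, 6, 8} : Set ℕ) := by
  rcases pow_K g with h | h
  · have h1 : orderOf g ∈ Nat.divisors 8 := by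
      rw [Nat.mem_divisors]; exact ⟨orderOf_dvd_of_pow_eq_one h, by norm_num⟩
    have h2 : Nat.divisors 8 = {1, 2, 4, 8} := by decide
    rw [h2] at h1
    simp only [Finset.mem_insert, Finset.mem_singleton] at h1
    rcases h1 with h1 | h1 | h1 | h1 <;> rw [h1] <;> simp
  · have h1 : orderOf g ∈ Nat.divisors 6 := by
      rw [Nat.mem_divisors]; exact ⟨orderOf_dvd_of_pow_eq_one h, by norm_num⟩
    have h2 : Nat.divisors 6 = {1, 2, 3, 6} := by decide
    rw [h2] at h1
    simp only [Finset.mem_insert, Finset.mem_singleton] at h1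
    rcases h1 with h1 | h1 | h1 | h1 <;> rw [h1] <;> simp

theorem orderOf_HG_mem (h : HG) : orderOf h ∈ ({1, 2, 3, 4, 6, 8, 13} : Set ℕ) := by
  by_cases he : h.right = 1
  · rcases orderOf_of_right_eq h he with h1 | h1 <;> rw [h1] <;> simp
  · rw [orderOf_of_right_ne h he]
    have := orderOf_K_mem h.right
    simp only [Set.mem_insert_iff, Set.mem_singleton_iff] at this ⊢
    rcases this with h1 | h1 | h1 | h1 | h1 | h1 <;> rw [h1] <;> simp

theorem order_gA : orderOf gA = 8 :=
  orderOf_eq_prime_pow (p := 2) (n := 2) (by decide) (by decide)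
theorem order_gA2 : orderOf (gA ^ 2) = 4 :=
  orderOf_eq_prime_pow (p := 2) (n := 1) (by decide) (by decide)
theorem order_gA4 : orderOf (gA ^ 4) = 2 :=
  orderOf_eq_prime (by decide) (by decide)
theorem order_gC : orderOf gC = 3 :=
  orderOf_eq_prime (by decide) (by decide)
theorem order_g6 : orderOf (gA ^ 4 * gC) = 6 := by
  rw [orderOf_eq_iff (by norm_num)]
  refine ⟨by decide, ?_⟩
  intro m hm hpos
  interval_cases m <;> decide

theorem uA_mem : uA ∈ K := Subgroup.subset_closure (by simp)
theorem uC_mem : uC ∈ K := Subgroup.subset_closure (by simp)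

theorem orderOf_inr (g : M4ˣ) (hg : g ∈ K) :
    orderOf (SemidirectProduct.inr ⟨g, hg⟩ : HG) = orderOf (g : M4) := by
  rw [orderOf_injective _ SemidirectProduct.inr_injective, ← Subgroup.orderOf_coe, orderOf_units]

theorem range_orderOf_HG : Set.range (orderOf : HG → ℕ) = {1, 2, 3, 4, 6, 8, 13} := by
  apply Set.Subset.antisymm
  · rintro _ ⟨h, rfl⟩
    exact orderOf_HG_mem h
  · intro n hn
    simp only [Set.mem_insert_iff, Set.mem_singleton_iff] at hn
    rcases hn with rfl | rfl | rfl | rfl | rfl | rfl | rfl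
    · exact ⟨1, orderOf_one⟩
    · refine ⟨SemidirectProduct.inr ⟨uA ^ 4, K.pow_mem uA_mem 4⟩, ?_⟩
      rw [orderOf_inr, Units.val_pow_eq_pow_val]
      exact order_gA4
    · refine ⟨SemidirectProduct.inr ⟨uC, uC_mem⟩, ?_⟩
      rw [orderOf_inr]
      exact order_gC
    · refine ⟨SemidirectProduct.inr ⟨uA ^ 2, K.pow_mem uA_mem 2⟩, ?_⟩
      rw [orderOf_inr, Units.val_pow_eq_pow_val]
      exact order_gA2
    · refine ⟨SemidirectProduct.inr ⟨uA ^ 4 * uC, K.mul_mem (K.pow_mem uA_mem 4) uC_mem⟩, ?_⟩
      rw [orderOf_inr, Units.val_mul, Units.val_pow_eq_pow_val]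
      exact order_g6
    · refine ⟨SemidirectProduct.inr ⟨uA, uA_mem⟩, ?_⟩
      rw [orderOf_inr]
      exact order_gA
    · refine ⟨SemidirectProduct.inl (Multiplicative.ofAdd (Pi.single 0 1)), ?_⟩
      rcases orderOf_of_right_eq (SemidirectProduct.inl (Multiplicative.ofAdd (Pi.single 0 1)) : HG)
        (by simp) with h | h
      · exfalso
        rw [orderOf_eq_one_iff] at h
        have h1 := congrArg SemidirectProduct.left h
        rw [SemidirectProduct.left_inl, SemidirectProduct.one_left] at h1
        have h2 := congrFun (congrArg Multiplicative.toAdd h1) 0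
        simp at h2
      · exact h

end semidirect

section solvable

theorem two_three (n : ℕ) (hn : n ≠ 0) (h : ∀ p : ℕ, p.Prime → p ∣ n → p = 2 ∨ p = 3) :
    ∃ a b : ℕ, n = 2 ^ a * 3 ^ b := by
  induction n using Nat.strong_induction_on with
  | _ n ih =>
    by_cases h1 : n = 1
    · exact ⟨0, 0, by rw [h1]; norm_num⟩
    · have hp := Nat.minFac_prime h1
      obtain ⟨m, hm⟩ := Nat.minFac_dvd n
      have hm0 : m ≠ 0 := by
        rintro rfl
        rw [mul_zero] at hm
        exact hn hm
      have hlt : m < n := by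
        have := hp.two_le
        nlinarith [Nat.pos_of_ne_zero hm0]
      obtain ⟨a, b, hab⟩ := ih m hlt hm0 (fun p hp' hd => h p hp' (hm ▸ Dvd.dvd.mul_left hd _))
      rcases h _ hp (Nat.minFac_dvd n) with h2 | h3
      · exact ⟨a + 1, b, by rw [hm, h2, hab]; ring⟩
      · exact ⟨a, b + 1, by rw [hm, h3, hab]; ring⟩

theorem K_solvable : Group.IsSolvable K := by
  have hexp : ∀ g : K, g ^ 24 = 1 := by
    intro g
    rcases pow_K g with h | h
    · have : g ^ 24 = (g ^ 8) ^ 3 := by rw [← pow_mul]
      rw [this, h, one_pow]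
    · have : g ^ 24 = (g ^ 6) ^ 4 := by rw [← pow_mul]
      rw [this, h, one_pow]
  obtain ⟨a, b, hab⟩ := two_three (Nat.card K) Nat.card_pos.ne' (by
    intro p hp hd
    haveI := Fact.mk hp
    obtain ⟨g, hg⟩ := exists_prime_orderOf_dvd_card' p hd
    have h24 : p ∣ 24 := by
      rw [← hg]
      exact orderOf_dvd_of_pow_eq_one (hexp g)
    have h24' : (24 : ℕ) = 2 ^ 3 * 3 := by norm_num
    rw [h24'] at h24
    rcases (Nat.Prime.dvd_mul hp).mp h24 with h | h
    · left
      exact (Nat.prime_dvd_prime_iff_eq hp Nat.prime_two).mp (hp.dvd_of_dvd_pow h)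
    · right
      exact (Nat.prime_dvd_prime_iff_eq hp Nat.prime_three).mp h)
  exact Cfsg.Agent.Helper24.isSolvable_of_card_eq_prime_pow_mul 2 3 a b Nat.prime_two
    Nat.prime_three hab

theorem HG_solvable : Group.IsSolvable HG := by
  haveI := K_solvable
  refine Group.isSolvable_of_ker_le_range (SemidirectProduct.inl : V4 →* HG)
    (SemidirectProduct.rightHom : HG →* K) ?_
  rw [SemidirectProduct.range_inl_eq_ker_rightHom]

end solvable

section psl

open Cfsg.Agent.Helper13.SL33Spec

theorem center_S33 : Subgroup.center S33 = ⊥ := by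
  rw [eq_bot_iff]
  intro A hA
  rw [Matrix.SpecialLinearGroup.mem_center_iff] at hA
  obtain ⟨r, hr, hA⟩ := hA
  have hr1 : r = 1 := by
    have : ∀ x : ZMod 3, x ^ 3 = 1 → x = 1 := by decide
    exact this r (by simpa using hr)
  rw [Subgroup.mem_bot]
  apply Subtype.ext
  rw [← hA, hr1]
  simp

/-- `SL₃(𝔽₃) ≃* PSL₃(𝔽₃)`. -/
noncomputable def e33 : S33 ≃* Matrix.ProjectiveSpecialLinearGroup (Fin 3) (ZMod 3) :=
  (QuotientGroup.quotientBot).symm.trans (QuotientGroup.quotientMulEquivOfEq center_S33.symm)

theorem range_orderOf_congr {G G' : Type*} [Group G] [Group G'] (e : G ≃* G') :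
    Set.range (orderOf : G → ℕ) = Set.range (orderOf : G' → ℕ) := by
  ext n
  constructor
  · rintro ⟨g, rfl⟩
    exact ⟨e g, e.orderOf_eq g⟩
  · rintro ⟨g, rfl⟩
    exact ⟨e.symm g, e.symm.orderOf_eq g⟩

end psl

open Cfsg

/-- There is a finite solvable group with exactly the same set of element orders as the simple group PSL(3,3). -/
theorem result {F : Type*} [Field F] [Fintype F] (hF : Fintype.card F = 3) :
    ∃ (H : Type) (_ : Group H) (_ : Fintype H), Group.IsSolvable H ∧
      Set.range (orderOf : H → ℕ) = Set.range (orderOf : Matrix.ProjectiveSpecialLinearGroup (Fin 3) F → ℕ) := by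
  let e : ZMod 3 ≃+* F := ZMod.ringEquivOfPrime F Nat.prime_three hF
  let E : Cfsg.Agent.Helper13.SL33Spec.S33 ≃* Matrix.ProjectiveSpecialLinearGroup (Fin 3) F :=
    e33.trans (Cfsg.Agent.Helper2.L27.pslCongr e)
  refine ⟨HG, inferInstance, Fintype.ofFinite HG, HG_solvable, ?_⟩
  rw [range_orderOf_HG, ← range_orderOf_congr E, Cfsg.Agent.Helper13.SL33Spec.range_orderOf]

end Cfsg.Agent.S3437
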