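import Mathlib
import Cfsg.Statements.S3438
import Cfsg.Agent.Helper13.FrobK7
import Cfsg.Agent.Helper13.SU33Spec

set_option autoImplicit false

namespace Cfsg.Agent.S3438

open Cfsg

/-- There is a finite solvable group with exactly the same set of element orders as the simple group PSU(3,3) (realised over the field with 9 elements). -/
theorem result {F : Type*} [Field F] [Fintype F] (hF : Fintype.card F = 9) :
    ∃ (H : Type) (_ : Group H) (_ : Fintype H), Group.IsSolvable H ∧ Set.range (orderOf : H → ℕ) = Set.range (orderOf : Cfsg.PSU 3 F 3 → ℕ) := by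
  refine ⟨Cfsg.Agent.Helper13.FrobK7.HG, inferInstance,
    Fintype.ofFinite Cfsg.Agent.Helper13.FrobK7.HG, Cfsg.Agent.Helper13.FrobK7.HG_solvable, ?_⟩
  rw [Cfsg.Agent.Helper13.FrobK7.range_orderOf_HG,
    Cfsg.Agent.Helper13.SU33Spec.range_orderOf_PSU hF]

end Cfsg.Agent.S3438
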