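import Cfsg.Statements.S3448
import Mathlib
import Cfsg.Agent.Helper17.A5Spec
-- import your own Cfsg.Agent.* helpers here

set_option autoImplicit false
open Cfsg

namespace Cfsg.Agent.S3448

/-- The set of element orders of the direct product of two copies of the alternating group of degree 5 is {1, 2, 3, 5, 6, 10, 15}. (It is shared by the direct product of two Frobenius groups of orders 50 and 75, so this direct product is not determined by its element orders.) -/
theorem result : Set.range (orderOf : alternatingGroup (Fin 5) × alternatingGroup (Fin 5) → ℕ) = {1, 2, 3, 5, 6, 10, 15} := by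
  apply Set.Subset.antisymm
  · rintro _ ⟨⟨a, b⟩, rfl⟩
    rw [Prod.orderOf]
    have ha := Cfsg.Agent.Helper17.a5_orderOf_mem a
    have hb := Cfsg.Agent.Helper17.a5_orderOf_mem b
    simp only [Set.mem_insert_iff, Set.mem_singleton_iff] at ha hb ⊢
    rcases ha with ha | ha | ha | ha <;> rcases hb with hb | hb | hb | hb <;>
      rw [ha, hb] <;> decide
  · intro n hn
    simp only [Set.mem_insert_iff, Set.mem_singleton_iff] at hn
    have h2 := Cfsg.Agent.Helper17.orderOf_a5two
    have h3 := Cfsg.Agent.Helper17.orderOf_a5three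
    have h5 := Cfsg.Agent.Helper17.orderOf_a5five
    rcases hn with rfl | rfl | rfl | rfl | rfl | rfl | rfl
    · exact ⟨1, orderOf_one⟩
    · exact ⟨(Cfsg.Agent.Helper17.a5two, 1), by rw [Prod.orderOf]; simp [h2]⟩
    · exact ⟨(Cfsg.Agent.Helper17.a5three, 1), by rw [Prod.orderOf]; simp [h3]⟩
    · exact ⟨(Cfsg.Agent.Helper17.a5five, 1), by rw [Prod.orderOf]; simp [h5]⟩
    · exact ⟨(Cfsg.Agent.Helper17.a5two, Cfsg.Agent.Helper17.a5three), by rw [Prod.orderOf]; simp only [h2, h3]; decide⟩
    · exact ⟨(Cfsg.Agent.Helper17.a5two, Cfsg.Agent.Helper17.a5five), by rw [Prod.orderOf]; simp only [h2, h5]; decide⟩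
    · exact ⟨(Cfsg.Agent.Helper17.a5three, Cfsg.Agent.Helper17.a5five), by rw [Prod.orderOf]; simp only [h3, h5]; decide⟩

end Cfsg.Agent.S3448
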