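import Cfsg.Statements.S3449
import Mathlib
import Cfsg.Agent.Helper17.A5Spec
-- import your own Cfsg.Agent.* helpers here

set_option autoImplicit false
open Cfsg

namespace Cfsg.Agent.S3449

/-- The direct product of three copies of the alternating group of degree 5 has exactly the same set of element orders as the cyclic group of order 30, namely the divisors of 30; in particular a direct power of a non-abelian simple group need not be determined by its element orders. -/
theorem result : Set.range (orderOf : alternatingGroup (Fin 5) × alternatingGroup (Fin 5) × alternatingGroup (Fin 5) → ℕ) =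
      Set.range (orderOf : Multiplicative (ZMod 30) → ℕ) := by
  have hZ : Set.range (orderOf : Multiplicative (ZMod 30) → ℕ) = {n | n ∣ 30} := by
    apply Set.Subset.antisymm
    · rintro _ ⟨g, rfl⟩
      have : orderOf g ∣ Nat.card (Multiplicative (ZMod 30)) := orderOf_dvd_natCard g
      simpa using this
    · intro n hn
      have hn' : n ∣ 30 := hn
      have hcyc : IsCyclic (Multiplicative (ZMod 30)) := inferInstance
      obtain ⟨g, hg⟩ := hcyc.exists_generator
      have hord : orderOf g = 30 := by
        rw [orderOf_eq_card_of_forall_mem_zpowers hg]; simp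
      obtain ⟨k, hk⟩ := hn'
      refine ⟨g ^ k, ?_⟩
      rw [orderOf_pow' g (by rintro rfl; simp at hk), hord]
      have hk0 : k ≠ 0 := by rintro rfl; simp at hk
      have : Nat.gcd 30 k = k := Nat.gcd_eq_right ⟨n, by rw [hk, mul_comm]⟩
      rw [this, hk, Nat.mul_div_cancel _ (Nat.pos_of_ne_zero hk0)]
  rw [hZ]
  apply Set.Subset.antisymm
  · rintro _ ⟨⟨a, b, c⟩, rfl⟩
    rw [Prod.orderOf, Prod.orderOf]
    have ha := Cfsg.Agent.Helper17.a5_orderOf_mem a
    have hb := Cfsg.Agent.Helper17.a5_orderOf_mem b
    have hc := Cfsg.Agent.Helper17.a5_orderOf_mem c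
    simp only [Set.mem_insert_iff, Set.mem_singleton_iff] at ha hb hc
    show _ ∣ 30
    rcases ha with ha | ha | ha | ha <;> rcases hb with hb | hb | hb | hb <;>
      rcases hc with hc | hc | hc | hc <;> rw [ha, hb, hc] <;> decide
  · intro n hn
    have hn' : n ∣ 30 := hn
    have hmem : n ∈ Nat.divisors 30 := Nat.mem_divisors.mpr ⟨hn', by norm_num⟩
    have hdiv : Nat.divisors 30 = {1, 2, 3, 5, 6, 10, 15, 30} := by decide
    rw [hdiv] at hmem
    simp only [Finset.mem_insert, Finset.mem_singleton] at hmem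
    have h2 := Cfsg.Agent.Helper17.orderOf_a5two
    have h3 := Cfsg.Agent.Helper17.orderOf_a5three
    have h5 := Cfsg.Agent.Helper17.orderOf_a5five
    rcases hmem with rfl | rfl | rfl | rfl | rfl | rfl | rfl | rfl
    · exact ⟨1, orderOf_one⟩
    · exact ⟨(Cfsg.Agent.Helper17.a5two, 1, 1), by rw [Prod.orderOf, Prod.orderOf]; simp [h2]⟩
    · exact ⟨(Cfsg.Agent.Helper17.a5three, 1, 1), by rw [Prod.orderOf, Prod.orderOf]; simp [h3]⟩
    · exact ⟨(Cfsg.Agent.Helper17.a5five, 1, 1), by rw [Prod.orderOf, Prod.orderOf]; simp [h5]⟩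
    · exact ⟨(Cfsg.Agent.Helper17.a5two, Cfsg.Agent.Helper17.a5three, 1), by
        rw [Prod.orderOf, Prod.orderOf]; simp only [h2, h3, orderOf_one]; decide⟩
    · exact ⟨(Cfsg.Agent.Helper17.a5two, Cfsg.Agent.Helper17.a5five, 1), by
        rw [Prod.orderOf, Prod.orderOf]; simp only [h2, h5, orderOf_one]; decide⟩
    · exact ⟨(Cfsg.Agent.Helper17.a5three, Cfsg.Agent.Helper17.a5five, 1), by
        rw [Prod.orderOf, Prod.orderOf]; simp only [h3, h5, orderOf_one]; decide⟩
    · exact ⟨(Cfsg.Agent.Helper17.a5two, Cfsg.Agent.Helper17.a5three, Cfsg.Agent.Helper17.a5five), by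
        rw [Prod.orderOf, Prod.orderOf]; simp only [h2, h3, h5]; decide⟩

end Cfsg.Agent.S3449
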