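import Cfsg.Statements.S3485
import Cfsg.Agent.Helper14.J2J4
import Cfsg.Agent.Helper14.J2S2
import Cfsg.Agent.Helper14.S8Spec

set_option autoImplicit false
open Cfsg

namespace Cfsg.Agent.S3485

/-- The symmetric group of degree 8 and the Hall–Janko sporadic group J₂ have exactly the same set of element orders (namely 1, 2, 3, 4, 5, 6, 7, 8, 10, 12, 15); in particular J₂ is not determined by its element orders. -/
theorem result : Set.range (orderOf : Equiv.Perm (Fin 8) → ℕ) = Set.range (orderOf : Cfsg.Spor.J2 → ℕ) := by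
  have h1 : Set.range (orderOf : Cfsg.Spor.J2 → ℕ) =
      Set.range (orderOf : Cfsg.Agent.Helper14.J2P.G → ℕ) := by
    ext m
    constructor
    · rintro ⟨x, rfl⟩
      exact ⟨Cfsg.Agent.Helper14.J2.j2Equiv x,
        MulEquiv.orderOf_eq Cfsg.Agent.Helper14.J2.j2Equiv x⟩
    · rintro ⟨y, rfl⟩
      refine ⟨Cfsg.Agent.Helper14.J2.j2Equiv.symm y, ?_⟩
      exact MulEquiv.orderOf_eq Cfsg.Agent.Helper14.J2.j2Equiv.symm y
  rw [h1, Cfsg.Agent.Helper14.J2P.range_orderOf_G, Cfsg.Agent.Helper14.S8Spec.range_orderOf]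
  ext m
  simp only [Set.mem_ofPred_eq, Cfsg.Agent.Helper14.J2P.allowed]
  constructor
  · intro h
    revert m
    decide
  · intro h
    revert m
    decide

end Cfsg.Agent.S3485
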