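import Cfsg.Statements.S3491
import Mathlib
import Cfsg.Agent.Helper17.AffSLFam
import Cfsg.Agent.Helper17.A6Spec
-- import your own Cfsg.Agent.* helpers here

set_option autoImplicit false
open Cfsg

namespace Cfsg.Agent.S3491

/-- The alternating group of degree 6 is not determined by its set of element orders, not even up to finitely many groups: for every bound N there is a finite group of order greater than N with exactly the same set of element orders as the alternating group of degree 6. -/
theorem result (N : ℕ) : ∃ (H : Type) (_ : Group H) (_ : Fintype H), N < Fintype.card H ∧ Set.range (orderOf : H → ℕ) = Set.range (orderOf : alternatingGroup (Fin 6) → ℕ) := by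
  have : Fact (Nat.Prime 2) := ⟨Nat.prime_two⟩
  let _ : Fintype (GaloisField 2 2) := Fintype.ofFinite _
  have hF : Fintype.card (GaloisField 2 2) = 4 := by
    rw [← Nat.card_eq_fintype_card, GaloisField.card 2 2 (by norm_num)]
    norm_num
  have : CharP (GaloisField 2 2) 2 := Helper17.charP_two_of_card_four hF
  refine ⟨Helper17.affFam (GaloisField 2 2) N, inferInstance, Fintype.ofFinite _, ?_, ?_⟩
  · rw [Fintype.card_eq_nat_card]
    exact Helper17.card_affFam_gt N
  · rw [Helper17.affFam_spectrum hF N, Helper17.a6_spectrum]

end Cfsg.Agent.S3491
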