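import Cfsg.Statements.S3493
import Cfsg.Agent.Helper29.S3501BRIDGE
import Cfsg.Agent.Helper21.S3556ABEL
import Cfsg.Agent.Helper18.S3493HS
import Cfsg.Agent.Helper28.S3493DOUBLE
import Cfsg.Agent.Helper3.S3493SD2
import Cfsg.Agent.Helper23.S3493REGCASE

set_option autoImplicit false
open Cfsg

namespace Cfsg.Agent.S3493

/-- An extremely primitive permutation group is of affine type or almost simple. Let a finite group G act faithfully and primitively on a finite set Ω with at least two points, in such a way that every point stabilizer acts primitively on each of its own orbits in Ω (an orbit of size one counts as primitive). Then either G has a non-trivial abelian normal subgroup whose elements other than the identity fix no point (affine type), or G has a non-abelian simple normal subgroup with trivial centralizer (almost simple). -/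
theorem result {G : Type*} [Group G] [Finite G] {Ω : Type*} [Fintype Ω] [MulAction G Ω] [FaithfulSMul G Ω] (hΩ : 2 ≤ Fintype.card Ω) (hprim : MulAction.IsPreprimitive G Ω) (hep : ∀ (α : Ω) (ω : Ω), MulAction.IsPreprimitive (MulAction.stabilizer G α) (MulAction.orbit (MulAction.stabilizer G α) ω)) :
    (∃ N : Subgroup G, N.Normal ∧ N ≠ ⊥ ∧ IsMulCommutative N ∧ ∀ ω : Ω, MulAction.stabilizer N ω = ⊥) ∨ (∃ T : Subgroup G, T.Normal ∧ IsSimpleGroup T ∧ ¬ IsMulCommutative T ∧ Subgroup.centralizer (T : Set G) = ⊥) := by
  classical
  have : MulAction.IsPreprimitive G Ω := hprim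
  have hnt : Nontrivial Ω := Fintype.one_lt_card_iff_nontrivial.mp (by omega)
  obtain ⟨a⟩ : Nonempty Ω := inferInstance
  -- `G` is non-trivial
  have htop : (⊤ : Subgroup G) ≠ ⊥ := by
    intro h
    obtain ⟨b, hb⟩ := exists_ne a
    have htr : MulAction.IsPretransitive G Ω := hprim.toIsPretransitive
    obtain ⟨g, hg⟩ := MulAction.exists_smul_eq G a b
    have hg1 : g ∈ (⊤ : Subgroup G) := Subgroup.mem_top g
    rw [h, Subgroup.mem_bot] at hg1
    rw [hg1, one_smul] at hg
    exact hb hg.symm
  -- a minimal normal subgroup
  let S : Set (Subgroup G) := {K | K.Normal ∧ K ≠ ⊥}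
  have hS : S.Nonempty := ⟨⊤, inferInstance, htop⟩
  obtain ⟨N, hNS, hNmin⟩ := wellFounded_lt.has_min S hS
  have hNn : N.Normal := hNS.1
  have hN : N ≠ ⊥ := hNS.2
  have hmin : ∀ M : Subgroup G, M.Normal → M ≤ N → M = ⊥ ∨ M = N := by
    intro M hM hMN
    by_cases hMb : M = ⊥
    · exact Or.inl hMb
    · right
      by_contra hne'
      exact hNmin M ⟨hM, hMb⟩ (lt_of_le_of_ne hMN hne')
  have hNt : MulAction.IsPretransitive N Ω := Cfsg.Agent.S3501P.DER.normal_transitive N hN
  by_cases hab : IsMulCommutative N
  · left
    exact ⟨N, hNn, hN, hab, fun ω => Cfsg.Agent.S3556P.ABEL.aux_regular N hab ω⟩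
  · obtain ⟨T, instT, m, e, hT, hnabT, hm, hcase⟩ :=
      Cfsg.Agent.S3501P.BRIDGE.core N hN hmin hab a
    by_cases hm1 : m = 1
    · subst hm1
      by_cases hC : Subgroup.centralizer (N : Set G) = ⊥
      · right
        refine ⟨N, hNn, ?_, hab, hC⟩
        let e1 : (Fin 1 → T) ≃* T :=
          { toFun := fun f => f 0
            invFun := fun t _ => t
            left_inv := fun f => by
              funext i
              have : i = 0 := Subsingleton.elim _ _
              rw [this]
            right_inv := fun t => rfl
            map_mul' := fun f g => rfl }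
        have : Nontrivial N := (Subgroup.nontrivial_iff_ne_bot N).mpr hN
        have : IsSimpleGroup T := hT
        exact IsSimpleGroup.isSimpleGroup_of_surjective ((e.trans e1).symm : T →* N)
          (e.trans e1).symm.surjective
      · exact (Cfsg.Agent.S3493P.HS hprim hep N hN hmin hab hC a).elim
    · exfalso
      have hm2 : 2 ≤ m := by omega
      by_cases hNa : N ⊓ MulAction.stabilizer G a = ⊥
      · apply Cfsg.Agent.S3493P.REGCASE hprim hep N hN hmin a e hT hnabT hm2
        intro n hn
        have : (n : G) ∈ N ⊓ MulAction.stabilizer G a := ⟨n.2, hn⟩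
        rw [hNa, Subgroup.mem_bot] at this
        exact Subtype.ext this
      · have : Nontrivial T := hT.toNontrivial
        obtain ⟨hm', hd⟩ := Cfsg.Agent.S3493P.H28.DOUBLE hprim hep N a hNa e hm2 hcase
        subst hm'
        apply Cfsg.Agent.S3493P.SD2 hprim hep N hN a hT hnabT e
        intro n
        rw [hd n]
        constructor
        · intro h
          exact h 0 1
        · intro h i j
          fin_cases i <;> fin_cases j <;> first | rfl | exact h | exact h.symm

end Cfsg.Agent.S3493
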