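import Cfsg.Statements.S3495
import Mathlib
import Cfsg.Agent.Helper17.Manning
-- import your own Cfsg.Agent.* helpers here

set_option autoImplicit false
open Cfsg
open MulAction
open scoped Pointwise

namespace Cfsg.Agent.S3495

/-- Let a finite group G act faithfully and primitively on a finite set Ω with non-trivial point stabilizers, each acting primitively on every one of its orbits (an extremely primitive group), and suppose G has an elementary abelian normal p-subgroup N acting regularly on Ω (affine type). Then every non-trivial subgroup M of a point stabilizer G_α that is normal in G_α has the same orbits on Ω as G_α, and normalizes no subgroup of N other than 1 and N. -/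
theorem result {G : Type*} [Group G] [Finite G] {Ω : Type*} [Fintype Ω] [MulAction G Ω] [FaithfulSMul G Ω] (hprim : MulAction.IsPreprimitive G Ω) (hH : ∀ α : Ω, MulAction.stabilizer G α ≠ ⊥) (hep : ∀ (α : Ω) (ω : Ω), MulAction.IsPreprimitive (MulAction.stabilizer G α) (MulAction.orbit (MulAction.stabilizer G α) ω))
    (N : Subgroup G) [N.Normal] (hNc : IsMulCommutative N) (p : ℕ) (hp : p.Prime) (hNp : ∀ n ∈ N, n ^ p = 1)
    (hNtr : MulAction.IsPretransitive N Ω) (hNreg : ∀ ω : Ω, MulAction.stabilizer N ω = ⊥) (α : Ω) (M : Subgroup G) (hM : M ≠ ⊥) (hMle : M ≤ MulAction.stabilizer G α)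
    (hMn : MulAction.stabilizer G α ≤ Subgroup.normalizer (M : Set G)) :
    (∀ ω : Ω, MulAction.orbit M ω = MulAction.orbit (MulAction.stabilizer G α) ω) ∧
    (∀ L : Subgroup G, L ≤ N → M ≤ Subgroup.normalizer (L : Set G) → L = ⊥ ∨ L = N) := by
  have E := Helper17.extPrim_of_hyps hprim hH hep
  have hMnorm : ∀ h ∈ stabilizer G α, ∀ k ∈ M, h * k * h⁻¹ ∈ M :=
    Subgroup.le_normalizer_iff.mp hMn
  -- M fixes only α
  have hMfix : ∀ ω, ω ≠ α → ∃ m ∈ M, m • ω ≠ ω := by
    intro ω hω
    by_contra hcon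
    push Not at hcon
    apply hM
    rw [eq_bot_iff]
    intro m hm
    rw [Subgroup.mem_bot]
    refine E.manning hω (mem_stabilizer_iff.mp (hMle hm)) (fun g hg => ?_)
    have h1 : g⁻¹ * m * g ∈ M := by
      have := hMnorm g⁻¹ (Subgroup.inv_mem _ (mem_stabilizer_iff.mpr hg)) m hm
      simpa using this
    have h2 := hcon _ h1
    rw [mul_smul, mul_smul, inv_smul_eq_iff] at h2
    exact h2
  have hpart_a : ∀ ω : Ω, orbit M ω = orbit (stabilizer G α) ω := by
    intro ω
    apply Set.Subset.antisymm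
    · rintro _ ⟨⟨m, hm⟩, rfl⟩
      exact ⟨⟨m, hMle hm⟩, rfl⟩
    · rintro _ ⟨⟨h, hh⟩, rfl⟩
      by_cases hω : ω = α
      · refine ⟨1, ?_⟩
        show (1 : M) • ω = h • ω
        rw [one_smul, hω]
        exact (mem_stabilizer_iff.mp hh).symm
      · obtain ⟨n, hn, hnω⟩ := E.quasi α ω M hMle hMnorm (hMfix ω hω) h hh
        exact ⟨⟨n, hn⟩, hnω⟩
  refine ⟨hpart_a, ?_⟩
  intro L hLN hML
  by_cases hL : L = ⊥
  · left; exact hL
  right
  have hMLnorm : ∀ h ∈ M, ∀ k ∈ L, h * k * h⁻¹ ∈ L := Subgroup.le_normalizer_iff.mp hML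
  have hreg : ∀ n ∈ N, ∀ ω : Ω, n • ω = ω → n = 1 := by
    intro n hn ω hnω
    have hmem : (⟨n, hn⟩ : N) ∈ stabilizer N ω := by
      rw [mem_stabilizer_iff]; exact hnω
    rw [hNreg ω, Subgroup.mem_bot] at hmem
    exact congrArg Subtype.val hmem
  -- the block B = L α
  obtain ⟨B, hBdef⟩ : ∃ B : Set Ω, B = {x | ∃ l ∈ L, l • α = x} := ⟨_, rfl⟩
  have hαB : α ∈ B := by rw [hBdef]; exact ⟨1, L.one_mem, one_smul _ _⟩
  -- B is invariant under L
  have hBL : L ≤ stabilizer G B := by
    intro l hl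
    rw [mem_stabilizer_set]
    intro x
    rw [hBdef]
    constructor
    · rintro ⟨l', hl', hx⟩
      refine ⟨l⁻¹ * l', L.mul_mem (L.inv_mem hl) hl', ?_⟩
      rw [mul_smul, hx, inv_smul_smul]
    · rintro ⟨l', hl', rfl⟩
      exact ⟨l * l', L.mul_mem hl hl', mul_smul _ _ _⟩
  -- B is invariant under M
  have hBM : ∀ m ∈ M, ∀ x ∈ B, m • x ∈ B := by
    intro m hm x hx
    rw [hBdef] at hx ⊢
    obtain ⟨l, hl, rfl⟩ := hx
    refine ⟨m * l * m⁻¹, hMLnorm m hm l hl, ?_⟩
    have : m⁻¹ • α = α := by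
      rw [inv_smul_eq_iff]; exact (mem_stabilizer_iff.mp (hMle hm)).symm
    rw [mul_smul, mul_smul, this]
  -- hence under G_α
  have hBH : stabilizer G α ≤ stabilizer G B := by
    have hfwd : ∀ h ∈ stabilizer G α, ∀ x ∈ B, h • x ∈ B := by
      intro h hh x hx
      have : h • x ∈ orbit M x := by
        rw [hpart_a]; exact ⟨⟨h, hh⟩, rfl⟩
      obtain ⟨⟨m, hm⟩, hmx⟩ := this
      have hmx' : m • x = h • x := hmx
      rw [← hmx']
      exact hBM m hm x hx
    intro h hh
    rw [mem_stabilizer_set]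
    intro x
    constructor
    · intro hx
      have := hfwd h⁻¹ (Subgroup.inv_mem _ hh) _ hx
      rwa [inv_smul_smul] at this
    · exact hfwd h hh x
  -- L ⊄ G_α
  have hLnot : ¬ L ≤ stabilizer G α := by
    intro hle
    apply hL
    rw [eq_bot_iff]
    intro l hl
    rw [Subgroup.mem_bot]
    exact hreg l (hLN hl) α (mem_stabilizer_iff.mp (hle hl))
  have htop : stabilizer G α ⊔ L = ⊤ := by
    rcases (E.coatom α).le_iff.mp (le_sup_left : stabilizer G α ≤ stabilizer G α ⊔ L) with h | h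
    · exact h
    · exfalso; apply hLnot; rw [← h]; exact le_sup_right
  have hBtop : ∀ g : G, g ∈ stabilizer G B := by
    intro g
    have : stabilizer G α ⊔ L ≤ stabilizer G B := sup_le hBH hBL
    rw [htop] at this
    exact this (Subgroup.mem_top g)
  apply le_antisymm hLN
  intro n hn
  have hnB : n • α ∈ B := (mem_stabilizer_set.mp (hBtop n) α).mpr hαB
  rw [hBdef] at hnB
  obtain ⟨l, hl, hlα⟩ := hnB
  have h1 : l⁻¹ * n = 1 := by
    apply hreg (l⁻¹ * n) (N.mul_mem (N.inv_mem (hLN hl)) hn) α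
    rw [mul_smul, ← hlα, inv_smul_smul]
  have : n = l := by
    rw [inv_mul_eq_one] at h1; exact h1.symm
  rw [this]; exact hl

end Cfsg.Agent.S3495
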