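import Cfsg.Statements.S3496
import Mathlib
import Cfsg.Agent.Helper17.SolvExtPrim
import Cfsg.Agent.S3495

set_option autoImplicit false
open Cfsg

namespace Cfsg.Agent.S3496

/-- The soluble extremely primitive groups. Let a finite solvable group G act faithfully and primitively on a finite set Ω with p ^ d points (p prime), with non-trivial point stabilizers each acting primitively on every one of its orbits. Then there is a prime q such that every orbit of a point stabilizer G_α other than {α} has exactly q points, q divides p ^ d − 1 but no p ^ i − 1 with 0 < i < d, and G_α has a normal subgroup T of order q with G_α generated by T and one further element and the order of G_α dividing q·d (so G_α is cyclic of order q, or an extension of T by a cyclic group of order dividing d). -/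
theorem result {G : Type*} [Group G] [Finite G] {Ω : Type*} [Fintype Ω] [MulAction G Ω] [FaithfulSMul G Ω] [Group.IsSolvable G] (p d : ℕ) (hp : p.Prime) (hcard : Fintype.card Ω = p ^ d)
    (hprim : MulAction.IsPreprimitive G Ω) (hH : ∀ α : Ω, MulAction.stabilizer G α ≠ ⊥) (hep : ∀ (α : Ω) (ω : Ω), MulAction.IsPreprimitive (MulAction.stabilizer G α) (MulAction.orbit (MulAction.stabilizer G α) ω)) (α : Ω) :
    ∃ q : ℕ, q.Prime ∧ (∀ ω : Ω, ω ≠ α → Nat.card (MulAction.orbit (MulAction.stabilizer G α) ω) = q) ∧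
      q ∣ p ^ d - 1 ∧ (∀ i : ℕ, 0 < i → i < d → ¬ q ∣ p ^ i - 1) ∧
      ∃ T : Subgroup G, T ≤ MulAction.stabilizer G α ∧ MulAction.stabilizer G α ≤ Subgroup.normalizer (T : Set G) ∧ Nat.card T = q ∧
        (∃ h : G, MulAction.stabilizer G α = T ⊔ Subgroup.zpowers h) ∧ Nat.card (MulAction.stabilizer G α) ∣ q * d := by
  classical
  haveI : Fact p.Prime := ⟨hp⟩
  haveI := hprim
  have E := Cfsg.Agent.Helper17.extPrim_of_hyps hprim hH hep
  haveI : Nonempty Ω := ⟨α⟩
  -- G is non-trivial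
  haveI : Nontrivial G := by
    obtain ⟨h, hh1⟩ := (Subgroup.ne_bot_iff_exists_ne_one.mp (hH α))
    exact ⟨⟨(h : G), 1, fun h1 => hh1 (Subtype.ext h1)⟩⟩
  -- the regular normal subgroup
  obtain ⟨r, N, hr, hNn, hNne, hNp, hNc, hNexp⟩ :=
    Cfsg.Agent.Helper1.exists_normal_pgroup_of_solvable (G := G)
  haveI := hNn
  have hNab : ∀ a ∈ N, ∀ b ∈ N, a * b = b * a := by
    intro a ha b hb
    have := hNc.is_comm.comm (⟨a, ha⟩ : N) ⟨b, hb⟩
    exact congrArg Subtype.val this
  have hNreg : ∀ n ∈ N, ∀ ω : Ω, n • ω = ω → n = 1 :=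
    fun n hn ω h => Cfsg.Agent.Helper17.abelian_normal_semiregular N hNab hNne hn h
  have hNtr : ∀ x y : Ω, ∃ n ∈ N, n • x = y := fun x y => Cfsg.Agent.Helper17.normal_exists_smul_eq N hNne x y
  have hΩcard : Nat.card Ω = p ^ d := by rw [Nat.card_eq_fintype_card, hcard]
  have hNcard : Nat.card N = p ^ d := by
    rw [← Cfsg.Agent.Helper17.abelian_normal_card (Δ := Ω) N hNab hNne, hΩcard]
  have hrp : r = p := by
    haveI : Fact r.Prime := ⟨hr⟩
    obtain ⟨k, hk⟩ := IsPGroup.iff_card.mp hNp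
    haveI : Nontrivial N := (Subgroup.nontrivial_iff_ne_bot N).mpr hNne
    have h1 : 1 < Nat.card N := Finite.one_lt_card
    have hk0 : k ≠ 0 := by
      rintro rfl
      rw [pow_zero] at hk
      omega
    have h2 : r ∣ p ^ d := by
      rw [← hNcard, hk]; exact dvd_pow_self r hk0
    exact (Nat.prime_dvd_prime_iff_eq hr hp).mp (hr.dvd_of_dvd_pow h2)
  rw [hrp] at hNexp
  -- the abelian normal subgroup of the stabilizer
  haveI : Nontrivial (MulAction.stabilizer G α) :=
    (Subgroup.nontrivial_iff_ne_bot _).mpr (hH α)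
  obtain ⟨q, M₀, hq, hM₀n, hM₀ne, -, hM₀c, hM₀exp⟩ :=
    Cfsg.Agent.Helper1.exists_normal_pgroup_of_solvable (G := MulAction.stabilizer G α)
  haveI : Fact q.Prime := ⟨hq⟩
  set M : Subgroup G := M₀.map (MulAction.stabilizer G α).subtype with hMdef
  have hMne : M ≠ ⊥ := by
    rw [hMdef]
    exact (Subgroup.map_eq_bot_iff_of_injective _ (Subgroup.subtype_injective _)).not.mpr hM₀ne
  have hMle : M ≤ MulAction.stabilizer G α := Subgroup.map_subtype_le M₀
  have hMnorm : ∀ h ∈ MulAction.stabilizer G α, ∀ k ∈ M, h * k * h⁻¹ ∈ M := by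
    rintro h hh _ ⟨k₀, hk₀, rfl⟩
    exact ⟨⟨h, hh⟩ * k₀ * ⟨h, hh⟩⁻¹, hM₀n.conj_mem k₀ hk₀ ⟨h, hh⟩, rfl⟩
  have hMab : ∀ a ∈ M, ∀ b ∈ M, a * b = b * a := by
    rintro _ ⟨a₀, ha₀, rfl⟩ _ ⟨b₀, hb₀, rfl⟩
    have := hM₀c.is_comm.comm (⟨a₀, ha₀⟩ : M₀) ⟨b₀, hb₀⟩
    have h2 := congrArg (fun x : M₀ => ((x : MulAction.stabilizer G α) : G)) this
    exact h2
  have hMexp : ∀ m ∈ M, m ^ q = 1 := by
    rintro _ ⟨m₀, hm₀, rfl⟩
    have := hM₀exp m₀ hm₀
    have h2 := congrArg (fun x : MulAction.stabilizer G α => (x : G)) this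
    exact h2
  have hMn : MulAction.stabilizer G α ≤ Subgroup.normalizer (M : Set G) := by
    intro h hh
    rw [Subgroup.mem_normalizer_iff]
    intro x
    refine ⟨hMnorm h hh x, fun hx => ?_⟩
    have := hMnorm h⁻¹ (Subgroup.inv_mem _ hh) _ hx
    simpa [mul_assoc] using this
  -- irreducibility, from S3495
  have hNtr' : MulAction.IsPretransitive N Ω := Cfsg.Agent.Helper17.normal_pretransitive N hNne
  have hNreg' : ∀ ω : Ω, MulAction.stabilizer N ω = ⊥ := by
    intro ω
    rw [eq_bot_iff]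
    intro n hn
    rw [Subgroup.mem_bot]
    exact Subtype.ext (hNreg n n.2 ω (MulAction.mem_stabilizer_iff.mp hn))
  have h95 := Cfsg.Agent.S3495.result hprim hH hep N hNc p hp hNexp hNtr' hNreg' α M hMne hMle hMn
  have S : Cfsg.Agent.Helper17.SolvSetup G Ω N M α p d q :=
    { E := E
      Nnormal := hNn
      Nab := hNab
      Nexp := hNexp
      Nreg := hNreg
      Ntr := hNtr
      Ncard := hNcard
      Ωcard := hΩcard
      Mne := hMne
      Mle := hMle
      Mnorm := hMnorm
      Mab := hMab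
      Mexp := hMexp
      irr := h95.2 }
  refine ⟨q, hq, ?_, S.q_dvd, fun i hi0 hid => S.prim_div hi0 hid, M, hMle, hMn, S.card_M,
    S.structure_H.1, S.structure_H.2⟩
  intro ω hω
  rw [E.card_orbit_eq hMne hMle hMnorm hMab hω, S.card_M]

end Cfsg.Agent.S3496
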