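import Cfsg.Statements.S3497
import Mathlib
import Cfsg.Agent.Helper17.Manning
import Cfsg.Agent.Helper17.PrimAb
import Cfsg.Agent.Helper7.Fitting
-- import your own Cfsg.Agent.* helpers here

set_option autoImplicit false
open Cfsg
open MulAction

namespace Cfsg.Agent.S3497

/-- Restrictions on the point stabilizer of an extremely primitive group. Let a finite group G act faithfully and primitively on a finite set Ω with point stabilizers H = G_α whose order is neither 1 nor a prime, each acting primitively on every one of its orbits. Then H has trivial center, the Fitting subgroup F(H) is an elementary abelian p-group for some prime p, and if F(H) ≠ 1 has order p ^ e then p ^ e divides the number of points minus one and H / F(H) embeds in GL_e(p) (there is a homomorphism from H to GL_e(p) with kernel exactly F(H)). -/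
theorem result {G : Type*} [Group G] [Finite G] {Ω : Type*} [Fintype Ω] [MulAction G Ω] [FaithfulSMul G Ω] (hprim : MulAction.IsPreprimitive G Ω) (hep : ∀ (α : Ω) (ω : Ω), MulAction.IsPreprimitive (MulAction.stabilizer G α) (MulAction.orbit (MulAction.stabilizer G α) ω)) (α : Ω)
    (hH1 : MulAction.stabilizer G α ≠ ⊥) (hHp : ¬ (Nat.card (MulAction.stabilizer G α)).Prime) :
    Subgroup.center (MulAction.stabilizer G α) = ⊥ ∧
    IsMulCommutative (Cfsg.fittingSubgroup (MulAction.stabilizer G α)) ∧
    ∃ p e : ℕ, p.Prime ∧ Nat.card (Cfsg.fittingSubgroup (MulAction.stabilizer G α)) = p ^ e ∧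
      (∀ x ∈ Cfsg.fittingSubgroup (MulAction.stabilizer G α), x ^ p = 1) ∧
      (Cfsg.fittingSubgroup (MulAction.stabilizer G α) ≠ ⊥ →
        p ^ e ∣ Fintype.card Ω - 1 ∧
        ∃ φ : MulAction.stabilizer G α →* GL (Fin e) (ZMod p), φ.ker = Cfsg.fittingSubgroup (MulAction.stabilizer G α)) := by
  classical
  have htrans := hprim.toIsPretransitive
  -- all stabilizers are non-trivial
  have hH : ∀ β : Ω, stabilizer G β ≠ ⊥ := by
    intro β
    obtain ⟨g, rfl⟩ := exists_smul_eq G α β
    intro h
    apply hH1
    have h1 := Helper17.card_stab_smul g α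
    rw [h, Subgroup.card_bot] at h1
    exact (Subgroup.card_eq_one).mp h1.symm
  have E := Helper17.extPrim_of_hyps hprim hH hep
  -- facts about the action on a non-trivial orbit
  have hfaith : ∀ ω : Ω, ω ≠ α →
      FaithfulSMul (stabilizer G α) (orbit (stabilizer G α) ω) := by
    intro ω hω
    refine ⟨fun {h h'} hyp => ?_⟩
    have key : (h'⁻¹ * h : stabilizer G α).1 = 1 := by
      refine E.manning hω (mem_stabilizer_iff.mp (h'⁻¹ * h).2) (fun g hg => ?_)
      have h1 := congrArg Subtype.val (hyp ⟨g • ω, ⟨⟨g, hg⟩, rfl⟩⟩)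
      have h2 : (h : G) • g • ω = (h' : G) • g • ω := h1
      show ((h'⁻¹ * h : stabilizer G α) : G) • g • ω = g • ω
      rw [Subgroup.coe_mul, Subgroup.coe_inv, mul_smul, h2, inv_smul_smul]
    have : h'⁻¹ * h = 1 := Subtype.ext key
    rw [inv_mul_eq_one] at this
    exact this.symm
  have hnontriv : ∀ ω : Ω, ω ≠ α → Nontrivial (orbit (stabilizer G α) ω) := by
    intro ω hω
    have : ∃ h ∈ stabilizer G α, h • ω ≠ ω := by
      by_contra hcon
      push Not at hcon
      exact hω (E.fix_stab (fun h hh => mem_stabilizer_iff.mpr (hcon h hh)))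
    obtain ⟨h, hh, hne⟩ := this
    refine ⟨⟨⟨h • ω, ⟨⟨h, hh⟩, rfl⟩⟩, ⟨ω, mem_orbit_self ω⟩, fun heq => hne ?_⟩⟩
    exact congrArg Subtype.val heq
  -- a point other than α
  obtain ⟨ω0, hω0⟩ : ∃ ω0 : Ω, ω0 ≠ α := by
    by_contra hcon
    push Not at hcon
    apply hH1
    rw [eq_bot_iff]
    intro h _
    rw [Subgroup.mem_bot]
    apply E.faith
    intro x
    rw [hcon x, hcon (h • α)]
  have hf0 := hfaith ω0 hω0
  have hn0 := hnontriv ω0 hω0
  have hp0 := hep α ω0
  refine ⟨?_, ?_⟩
  · by_contra hZ
    exact hHp (Helper17.prime_card_of_center_ne_bot (Δ := orbit (stabilizer G α) ω0) hZ)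
  have hFnil : Group.IsNilpotent (Cfsg.fittingSubgroup (stabilizer G α)) :=
    Cfsg.Agent.Helper7.fittingSubgroup_isNilpotent
  by_cases hF : Cfsg.fittingSubgroup (stabilizer G α) = ⊥
  · refine ⟨?_, 2, 0, Nat.prime_two, ?_, ?_, fun h => absurd hF h⟩
    · refine ⟨⟨fun a b => ?_⟩⟩
      have ha : (a : stabilizer G α) = 1 := Subgroup.mem_bot.mp (le_of_eq hF a.2)
      have hb : (b : stabilizer G α) = 1 := Subgroup.mem_bot.mp (le_of_eq hF b.2)
      apply Subtype.ext
      rw [Subgroup.coe_mul, Subgroup.coe_mul, ha, hb]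
    · rw [hF, Subgroup.card_bot, pow_zero]
    · intro x hx
      rw [hF, Subgroup.mem_bot] at hx
      rw [hx, one_pow]
  · have hab := Helper17.nilpotent_normal_abelian (Δ := orbit (stabilizer G α) ω0)
      (Cfsg.fittingSubgroup (stabilizer G α)) hF
    obtain ⟨p, hp, hexp⟩ := Helper17.abelian_normal_elementary
      (Δ := orbit (stabilizer G α) ω0) (Cfsg.fittingSubgroup (stabilizer G α)) hab hF
    have : Fact p.Prime := ⟨hp⟩
    have hpg : IsPGroup p (Cfsg.fittingSubgroup (stabilizer G α)) := by
      intro x
      refine ⟨1, ?_⟩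
      apply Subtype.ext
      rw [pow_one, Subgroup.coe_pow, hexp _ x.2]
      rfl
    obtain ⟨e, he⟩ := IsPGroup.iff_card.mp hpg
    refine ⟨⟨⟨fun a b => Subtype.ext (hab a a.2 b b.2)⟩⟩, p, e, hp, he, hexp, fun _ => ⟨?_, ?_⟩⟩
    · -- F acts freely on the complement of α
      have hfree : ∀ x : SubMulAction.ofStabilizer G α,
          stabilizer (Cfsg.fittingSubgroup (stabilizer G α)) x = ⊥ := by
        intro x
        have hxα : (x : Ω) ≠ α := SubMulAction.neq_of_mem_ofStabilizer G α
        rw [eq_bot_iff]
        intro f hf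
        rw [Subgroup.mem_bot]
        have hfx : f • x = x := mem_stabilizer_iff.mp hf
        have hfx' : ((f : stabilizer G α) : G) • (x : Ω) = x := congrArg Subtype.val hfx
        have := hfaith _ hxα
        have := hep α (x : Ω)
        apply Subtype.ext
        apply Helper17.abelian_normal_semiregular (Δ := orbit (stabilizer G α) (x : Ω))
          (Cfsg.fittingSubgroup (stabilizer G α)) hab hF f.2
          (δ := ⟨(x : Ω), mem_orbit_self _⟩)
        exact Subtype.ext hfx'
      have hequiv := MulAction.selfEquivOrbitsQuotientProd hfree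
      have hcard := Nat.card_congr hequiv
      rw [Nat.card_prod, SubMulAction.nat_card_ofStabilizer_eq, Nat.card_eq_fintype_card, he]
        at hcard
      rw [hcard]
      exact Dvd.intro_left _ rfl
    · obtain ⟨φ, hφ⟩ := Helper17.exists_hom_GL_of_elementary
        (Cfsg.fittingSubgroup (stabilizer G α)) hab p e hexp he
      refine ⟨φ, ?_⟩
      rw [hφ]
      apply le_antisymm
      · intro c hc
        rw [Subgroup.mem_centralizer_iff] at hc
        apply Helper17.centralizer_abelian_normal_le (Δ := orbit (stabilizer G α) ω0)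
          (Cfsg.fittingSubgroup (stabilizer G α)) hab hF
        intro n hn
        exact (hc n hn).symm
      · intro c hc
        rw [Subgroup.mem_centralizer_iff]
        intro n hn
        exact hab n hn c hc

end Cfsg.Agent.S3497
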