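import Cfsg.Statements.S3498
import Mathlib
import Cfsg.Agent.Helper17.Basic
-- import your own Cfsg.Agent.* helpers here

set_option autoImplicit false
open Cfsg

namespace Cfsg.Agent.S3498


theorem not_isPGroup_of_simple {T : Type*} [Group T] [Finite T] (hT : IsSimpleGroup T)
    (hTc : ¬ IsMulCommutative T) (q : ℕ) [Fact q.Prime] : ¬ IsPGroup q T := by
  intro hq
  have hnt : Nontrivial T := hT.toNontrivial
  have hc : Nontrivial (Subgroup.center T) := hq.center_nontrivial
  have hct : Subgroup.center T = ⊤ := by
    rcases hT.eq_bot_or_eq_top_of_normal (Subgroup.center T) inferInstance with h | h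
    · exfalso
      rw [h] at hc
      exact not_subsingleton _ (inferInstance : Subsingleton (⊥ : Subgroup T))
    · exact h
  apply hTc
  refine ⟨⟨fun a b => ?_⟩⟩
  have : a ∈ Subgroup.center T := by rw [hct]; trivial
  exact (Subgroup.mem_center_iff.mp this b).symm

/-- the simple case: a nonabelian finite simple group has no maximal subgroup of prime order -/
theorem caseB {G : Type*} [Group G] [Finite G] (hG : ∀ K : Subgroup G, K.Normal → K = ⊥ ∨ K = ⊤)
    (H : Subgroup G) (hmax : IsCoatom H) (p : ℕ) [hp : Fact p.Prime] (hH : Nat.card H = p) : False := by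
  have hHne : H ≠ ⊤ := hmax.1
  have hHbot : H ≠ ⊥ := by
    intro h
    rw [h, Subgroup.card_bot] at hH
    exact hp.out.one_lt.ne hH
  have hnn : ¬ H.Normal := fun h => by
    rcases hG H h with h | h
    · exact hHbot h
    · exact hHne h
  -- normalizer H = H
  have hNH : Subgroup.normalizer (H : Set G) = H := by
    rcases eq_or_lt_of_le (Subgroup.le_normalizer : H ≤ Subgroup.normalizer (H : Set G)) with h | h
    · exact h.symm
    · exfalso
      have := hmax.2 _ h
      exact hnn (Subgroup.normalizer_eq_top_iff.mp this)
  have hHp : IsPGroup p H := IsPGroup.of_card (n := 1) (by rw [hH, pow_one])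
  obtain ⟨Q, hQ⟩ := hHp.exists_le_sylow
  -- Q = H
  have hQH : (Q : Subgroup G) = H := by
    by_contra hne
    have hlt : H < (Q : Subgroup G) := lt_of_le_of_ne hQ (Ne.symm hne)
    -- normalizer condition in the p-group Q
    have hnil : Group.IsNilpotent (Q : Subgroup G) := Q.2.isNilpotent
    have hnc := Group.normalizerCondition_of_isNilpotent (G := (Q : Subgroup G))
    have hlt' : H.subgroupOf Q < ⊤ := by
      rw [lt_top_iff_ne_top]
      intro h
      rw [Subgroup.subgroupOf_eq_top] at h
      exact hne (le_antisymm h hQ)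
    have := hnc _ hlt'
    obtain ⟨x, hx, hxn⟩ := SetLike.exists_of_lt this
    have hx' : (x : G) ∈ Subgroup.normalizer (H : Set G) := by
      rw [Subgroup.mem_normalizer_iff] at hx ⊢
      intro g
      constructor
      · intro hg
        by_cases hgQ : g ∈ (Q : Subgroup G)
        · have := (hx ⟨g, hgQ⟩).mp (by simpa [Subgroup.mem_subgroupOf] using hg)
          simpa [Subgroup.mem_subgroupOf] using this
        · exact absurd (hQ hg) hgQ
      · intro hg
        have hgQ : g ∈ (Q : Subgroup G) := by
          have h1 : (x : G) * g * (x : G)⁻¹ ∈ (Q : Subgroup G) := hQ hg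
          have := (Q : Subgroup G).mul_mem ((Q : Subgroup G).mul_mem ((Q : Subgroup G).inv_mem x.2) h1) x.2
          simpa [mul_assoc] using this
        have := (hx ⟨g, hgQ⟩).mpr (by simpa [Subgroup.mem_subgroupOf] using hg)
        simpa [Subgroup.mem_subgroupOf] using this
    rw [hNH] at hx'
    exact hxn (by simpa [Subgroup.mem_subgroupOf] using hx')
  -- H abelian
  have hHc : IsMulCommutative H := by
    have : IsCyclic H := isCyclic_of_prime_card hH
    exact ⟨⟨fun a b => IsCyclic.commGroup.mul_comm a b⟩⟩
  have hcent : Subgroup.normalizer ((Q : Subgroup G) : Set G) ≤ Subgroup.centralizer ((Q : Subgroup G) : Set G) := by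
    rw [hQH, hNH]
    intro x hx
    rw [Subgroup.mem_centralizer_iff]
    intro y hy
    have := hHc.is_comm.comm ⟨y, hy⟩ ⟨x, hx⟩
    exact congrArg Subtype.val this
  have hcompl := MonoidHom.ker_transferSylow_isComplement' Q hcent
  have hcard := hcompl.card_mul_card
  have hQcard : Nat.card (Q : Subgroup G) = p := by rw [hQH, hH]
  rw [hQcard] at hcard
  rcases hG _ (MonoidHom.normal_ker (MonoidHom.transferSylow Q hcent)) with h | h
  · rw [h, Subgroup.card_bot, one_mul] at hcard
    -- |G| = p = |H|
    apply hHne
    apply Subgroup.eq_top_of_card_eq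
    rw [hH, hcard]
  · rw [h, Subgroup.card_top] at hcard
    have hpos : 0 < Nat.card G := Nat.card_pos
    have : Nat.card G * p = Nat.card G * 1 := by rw [hcard, mul_one]
    have := Nat.eq_of_mul_eq_mul_left hpos this
    exact hp.out.one_lt.ne' this

/-- A maximal subgroup of a finite almost simple group does not have prime order. Here G is almost simple in the sense that it has a non-abelian simple normal subgroup T with trivial centralizer. -/
theorem result {G : Type*} [Group G] [Finite G] (T : Subgroup G) [T.Normal] (hT : IsSimpleGroup T) (hTc : ¬ IsMulCommutative T)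
    (hC : Subgroup.centralizer (T : Set G) = ⊥) (H : Subgroup G) (hmax : IsCoatom H) : ¬ (Nat.card H).Prime := by
  classical
  intro hprime
  set p := Nat.card H with hp
  have : Fact p.Prime := ⟨hprime⟩
  have hHcyc : IsCyclic H := isCyclic_of_prime_card hp.symm
  have hHcomm : ∀ a ∈ H, ∀ b ∈ H, a * b = b * a := by
    intro a ha b hb
    have := IsCyclic.commGroup.mul_comm (⟨a, ha⟩ : H) ⟨b, hb⟩
    exact congrArg Subtype.val this
  by_cases hHT : H ≤ T
  · -- Case B
    have hT_top : T = ⊤ := by
      rcases eq_or_lt_of_le hHT with h | h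
      · exfalso
        apply hTc
        refine ⟨⟨fun a b => ?_⟩⟩
        apply Subtype.ext
        exact hHcomm a (h ▸ a.2) b (h ▸ b.2)
      · exact hmax.2 _ h
    subst hT_top
    apply caseB (G := G) ?_ H hmax p hp.symm
    intro K hK
    rcases hT.eq_bot_or_eq_top_of_normal (K.subgroupOf ⊤) inferInstance with h | h
    · left
      rw [Subgroup.subgroupOf_eq_bot, disjoint_top] at h
      exact h
    · right
      rw [Subgroup.subgroupOf_eq_top, top_le_iff] at h
      exact h
  · -- Case A
    have hTnt : Nontrivial T := hT.toNontrivial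
    have hinf : H ⊓ T = ⊥ := by
      have hdvd : Nat.card (H ⊓ T : Subgroup G) ∣ p := Subgroup.card_dvd_of_le inf_le_left
      rcases (Nat.dvd_prime hprime).mp hdvd with h | h
      · exact Subgroup.card_eq_one.mp h
      · exfalso
        apply hHT
        have : H ⊓ T = H := Subgroup.eq_of_le_of_card_ge inf_le_left (by rw [h])
        rw [← this]; exact inf_le_right
    have hTH : ¬ T ≤ H := by
      intro hle
      apply hTc
      refine ⟨⟨fun a b => ?_⟩⟩
      apply Subtype.ext
      exact hHcomm a (hle a.2) b (hle b.2)
    have hsup : T ⊔ H = ⊤ := by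
      apply hmax.2
      refine lt_of_le_of_ne le_sup_right ?_
      intro h
      apply hTH
      rw [h]; exact le_sup_left
    have hcardG : Nat.card G = Nat.card T * p := by
      have := Cfsg.Agent.Helper17.card_sup_mul_card_inf T H
        (by rw [Subgroup.normalizer_eq_top_iff.mpr inferInstance]; exact le_top)
      rw [hsup, inf_comm, hinf, Subgroup.card_top, Subgroup.card_bot, mul_one] at this
      exact this
    -- choose the prime q
    have hcardT1 : Nat.card T ≠ 1 := by
      intro h
      have := (Nat.card_eq_one_iff_unique.mp h).1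
      exact not_subsingleton T this
    obtain ⟨q, hq, hqT, hnd⟩ : ∃ q : ℕ, ∃ hq : q.Prime, q ∣ Nat.card T ∧
        ¬ p ∣ Nat.card (Sylow q T) := by
      by_cases hpT : p ∣ Nat.card T
      · exact ⟨p, hprime, hpT, not_dvd_card_sylow p T⟩
      · refine ⟨(Nat.card T).minFac, Nat.minFac_prime hcardT1, Nat.minFac_dvd _, ?_⟩
        have : Fact (Nat.card T).minFac.Prime := ⟨Nat.minFac_prime hcardT1⟩
        intro hd
        apply hpT
        obtain ⟨R0⟩ : Nonempty (Sylow (Nat.card T).minFac T) := inferInstance
        exact hd.trans ((Sylow.card_dvd_index R0).trans (Subgroup.index_dvd_card _))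
    have : Fact q.Prime := ⟨hq⟩
    -- the action of H on Sylow q T
    let act : MulAction H (Sylow q T) :=
      MulAction.compHom (Sylow q T) ((MulAut.conjNormal (H := T)).comp H.subtype)
    have hHp : IsPGroup p H := IsPGroup.of_card (n := 1) (by rw [← hp, pow_one])
    obtain ⟨R, hR⟩ := hHp.nonempty_fixed_point_of_prime_not_dvd_card (Sylow q T) hnd
    have hRfix : ∀ h ∈ H, ∀ x : T, x ∈ R → (⟨h * x * h⁻¹, ‹T.Normal›.conj_mem x x.2 h⟩ : T) ∈ R := by
      intro h hh x hx
      have h1 : (⟨h, hh⟩ : H) • R = R := hR ⟨h, hh⟩
      have h2 : (MulAut.conjNormal (H := T) h) • R = R := h1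
      have h3 : (MulAut.conjNormal (H := T) h) • (x : T) ∈ (MulAut.conjNormal (H := T) h) • R := by
        show _ ∈ ((MulAut.conjNormal (H := T) h) • R : Sylow q T).toSubgroup
        rw [Sylow.pointwise_smul_def]
        exact Subgroup.smul_mem_pointwise_smul _ _ _ hx
      rw [h2] at h3
      have h4 : (MulAut.conjNormal (H := T) h) • (x : T) = ⟨h * x * h⁻¹, ‹T.Normal›.conj_mem x x.2 h⟩ := by
        apply Subtype.ext
        simp [MulAut.smul_def, MulAut.conjNormal_apply]
      rw [h4] at h3
      exact h3
    set P : Subgroup G := (R : Subgroup T).map T.subtype with hP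
    have hPT : P ≤ T := by
      rintro _ ⟨x, _, rfl⟩
      exact x.2
    have hPcard : Nat.card P = Nat.card (R : Subgroup T) :=
      Nat.card_congr ((R : Subgroup T).equivMapOfInjective T.subtype T.subtype_injective).symm.toEquiv
    have hRne : (R : Subgroup T) ≠ ⊥ := Sylow.ne_bot_of_dvd_card R hqT
    have hPne : P ≠ ⊥ := by
      intro h
      apply hRne
      rw [hP, Subgroup.map_eq_bot_iff_of_injective _ T.subtype_injective] at h
      exact h
    have hPneT : P ≠ T := by
      intro h
      apply not_isPGroup_of_simple hT hTc q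
      have hRtop : (R : Subgroup T) = ⊤ := by
        apply Subgroup.eq_top_of_card_eq
        rw [← hPcard, h]
      have := R.2
      rw [hRtop] at this
      exact this.of_equiv Subgroup.topEquiv
    have hnorm : H ≤ Subgroup.normalizer (P : Set G) := by
      have hconj : ∀ h ∈ H, ∀ y ∈ P, h * y * h⁻¹ ∈ P := by
        rintro h hh _ ⟨x, hx, rfl⟩
        exact ⟨_, hRfix h hh x hx, rfl⟩
      intro h hh
      rw [Subgroup.mem_normalizer_iff]
      intro y
      constructor
      · exact hconj h hh y
      · intro hy
        have := hconj h⁻¹ (H.inv_mem hh) _ hy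
        simpa [mul_assoc] using this
    have hPH : P ⊓ H = ⊥ := by
      rw [eq_bot_iff, ← hinf]
      exact le_inf inf_le_right (inf_le_left.trans hPT)
    have hPH' : ¬ P ≤ H := by
      intro hle
      apply hPne
      rw [eq_bot_iff, ← hPH]
      exact le_inf le_rfl hle
    have hsup2 : P ⊔ H = ⊤ := by
      apply hmax.2
      refine lt_of_le_of_ne le_sup_right ?_
      intro h
      apply hPH'
      rw [h]; exact le_sup_left
    have hcard2 := Cfsg.Agent.Helper17.card_sup_mul_card_inf P H hnorm
    rw [hsup2, hPH, Subgroup.card_top, Subgroup.card_bot, mul_one, hcardG, ← hp] at hcard2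
    have hPTcard : Nat.card T = Nat.card P := Nat.eq_of_mul_eq_mul_right hprime.pos hcard2
    exact hPneT (Subgroup.eq_of_le_of_card_ge hPT (by rw [hPTcard]))

end Cfsg.Agent.S3498
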