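import Mathlib
import Cfsg.Statements.S3504
-- import your own Cfsg.Agent.* helpers here

set_option autoImplicit false
open Cfsg

namespace Cfsg.Agent.S3504

open Equiv

/-- cycle type of a derangement of prime order -/
theorem cycleType_of_derangement {n : ℕ} {g : Perm (Fin n)} (hp : (orderOf g).Prime)
    (hd : ∀ i : Fin n, g i ≠ i) :
    orderOf g ∣ n ∧ g.cycleType = Multiset.replicate (n / orderOf g) (orderOf g) := by
  obtain ⟨k, hk⟩ := Perm.cycleType_prime_order hp
  have hsum : g.cycleType.sum = n := by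
    rw [Perm.sum_cycleType]
    have : g.support = Finset.univ := by
      ext i
      simp [Perm.mem_support, hd i]
    rw [this, Finset.card_univ, Fintype.card_fin]
  rw [hk, Multiset.sum_replicate, smul_eq_mul] at hsum
  have hdvd : orderOf g ∣ n := ⟨k + 1, by linarith⟩
  refine ⟨hdvd, ?_⟩
  have : n / orderOf g = k + 1 :=
    Nat.div_eq_of_eq_mul_left hp.pos hsum.symm
  rw [this, hk]

/-- existence of a derangement of prime order `p ∣ n` -/
theorem exists_derangement {n p : ℕ} (hp : p.Prime) (hpn : p ∣ n) (hn : 0 < n) :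
    ∃ g : Perm (Fin n), g.cycleType = Multiset.replicate (n / p) p ∧ orderOf g = p ∧
      ∀ i : Fin n, g i ≠ i := by
  have hnp : 0 < n / p := Nat.div_pos (Nat.le_of_dvd hn hpn) hp.pos
  have hsum : (Multiset.replicate (n / p) p).sum = n := by
    rw [Multiset.sum_replicate, smul_eq_mul]
    exact Nat.div_mul_cancel hpn
  obtain ⟨g, hg⟩ := (Perm.exists_with_cycleType_iff (α := Fin n)
    (m := Multiset.replicate (n / p) p)).mpr ⟨by rw [hsum, Fintype.card_fin], by
      intro a ha
      rw [Multiset.eq_of_mem_replicate ha]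
      exact hp.two_le⟩
  refine ⟨g, hg, ?_, ?_⟩
  · rw [← Perm.lcm_cycleType, hg]
    obtain ⟨k, hk⟩ : ∃ k, n / p = k + 1 := ⟨n / p - 1, by omega⟩
    rw [hk]
    clear hk hg hsum hnp
    induction k with
    | zero => simp
    | succ k ih =>
      rw [Multiset.replicate_succ, Multiset.lcm_cons, ih]
      simp
  · have hsupp : g.support.card = n := by
      rw [← Perm.sum_cycleType, hg, hsum]
    have : g.support = Finset.univ := by
      apply Finset.eq_univ_of_card
      rw [hsupp, Fintype.card_fin]
    intro i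
    have hi : i ∈ g.support := by rw [this]; exact Finset.mem_univ i
    exact Perm.mem_support.mp hi

/-- For n ≥ 5, the fixed-point-free permutations of prime order in the symmetric group of degree n form a single conjugacy class if and only if n is a prime power. -/
theorem result (n : ℕ) (hn : 5 ≤ n) :
    Nat.card {c : ConjClasses (Equiv.Perm (Fin n)) // ∃ g : Equiv.Perm (Fin n), ConjClasses.mk g = c ∧ (orderOf g).Prime ∧ ∀ i : Fin n, g i ≠ i} = 1 ↔ IsPrimePow n := by
  have hn0 : 0 < n := by omega
  have hex : ∀ p : {p // p ∈ n.primeFactors}, ∃ g : Perm (Fin n),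
      g.cycleType = Multiset.replicate (n / p.1) p.1 ∧ orderOf g = p.1 ∧ ∀ i : Fin n, g i ≠ i :=
    fun p => exists_derangement (Nat.prime_of_mem_primeFactors p.2)
      (Nat.dvd_of_mem_primeFactors p.2) hn0
  choose gp hgp1 hgp2 hgp3 using hex
  let f : {p // p ∈ n.primeFactors} → {c : ConjClasses (Equiv.Perm (Fin n)) //
      ∃ g : Equiv.Perm (Fin n), ConjClasses.mk g = c ∧ (orderOf g).Prime ∧ ∀ i : Fin n, g i ≠ i} :=
    fun p => ⟨ConjClasses.mk (gp p), gp p, rfl, by
      rw [hgp2]; exact Nat.prime_of_mem_primeFactors p.2, hgp3 p⟩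
  have hbij : Function.Bijective f := by
    constructor
    · intro p q hpq
      have h1 : ConjClasses.mk (gp p) = ConjClasses.mk (gp q) := congrArg Subtype.val hpq
      rw [ConjClasses.mk_eq_mk_iff_isConj, Perm.isConj_iff_cycleType_eq] at h1
      have h2 : orderOf (gp p) = orderOf (gp q) := by
        rw [← Perm.lcm_cycleType, ← Perm.lcm_cycleType, h1]
      rw [hgp2, hgp2] at h2
      exact Subtype.ext h2
    · rintro ⟨c, g, rfl, hg1, hg2⟩
      obtain ⟨hdvd, hct⟩ := cycleType_of_derangement hg1 hg2
      have hmem : orderOf g ∈ n.primeFactors :=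
        Nat.mem_primeFactors.mpr ⟨hg1, hdvd, by omega⟩
      refine ⟨⟨orderOf g, hmem⟩, ?_⟩
      apply Subtype.ext
      show ConjClasses.mk (gp ⟨orderOf g, hmem⟩) = ConjClasses.mk g
      rw [ConjClasses.mk_eq_mk_iff_isConj, Perm.isConj_iff_cycleType_eq, hgp1, hct]
  rw [← Nat.card_congr (Equiv.ofBijective f hbij), Nat.card_eq_fintype_card, Fintype.card_coe,
    isPrimePow_iff_card_primeFactors_eq_one]

end Cfsg.Agent.S3504
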