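import Cfsg.Statements.S3508
import Mathlib
import Cfsg.Agent.Helper17.SolvExtPrim
import Cfsg.Agent.Helper4.Basic

set_option autoImplicit false
open Cfsg

namespace Cfsg.Agent.S3508

open Polynomial in
lemma geom_sum_eq_pow (p : ℕ) [Fact p.Prime] (k : ℕ) :
    (∑ i ∈ Finset.range (p ^ k), (X : (ZMod p)[X]) ^ i) = (X - 1) ^ (p ^ k - 1) := by
  have hq : 0 < p ^ k := pow_pos (Fact.out : p.Prime).pos k
  have h1 : (∑ i ∈ Finset.range (p ^ k), (X : (ZMod p)[X]) ^ i) * (X - 1) = X ^ (p ^ k) - 1 :=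
    geom_sum_mul _ _
  have h2 : (X - 1 : (ZMod p)[X]) ^ (p ^ k) = X ^ (p ^ k) - 1 := by
    rw [sub_pow_char_pow, one_pow]
  have h3 : (X - 1 : (ZMod p)[X]) ^ (p ^ k) = (X - 1) ^ (p ^ k - 1) * (X - 1) := by
    rw [← pow_succ, Nat.sub_add_cancel hq]
  have hne : (X - 1 : (ZMod p)[X]) ≠ 0 := by
    have := X_sub_C_ne_zero (1 : ZMod p)
    simpa using this
  apply mul_right_cancel₀ hne
  rw [h1, ← h3, h2]

open scoped IsMulCommutative in
open Polynomial Cfsg.Agent.Helper17 in
lemma aux {G : Type*} [Group G] {Ω : Type*} [MulAction G Ω] [FaithfulSMul G Ω]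
    (p m : ℕ) [Fact p.Prime] (N : Subgroup G) [N.Normal] [IsMulCommutative N]
    [Module (ZMod p) (Additive N)] [Finite N]
    (hNcard : Nat.card N = p ^ m)
    (hNtr : ∀ x y : Ω, ∃ n ∈ N, n • x = y) (α : Ω)
    (g : G) (r : ℕ) (hr : 1 ≤ r) (hg : g ^ (p ^ r) = 1) (hlt : m < p ^ (r - 1)) :
    g ^ (p ^ (r - 1)) = 1 := by
  have hp : p.Prime := Fact.out
  haveI : Finite (Additive N) := inferInstanceAs (Finite N)
  haveI : Module.Finite (ZMod p) (Additive N) := Module.Finite.of_finite
  have hfin : Module.finrank (ZMod p) (Additive N) = m := by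
    have h1 := Module.natCard_eq_pow_finrank (K := ZMod p) (V := Additive N)
    have h2 : Nat.card (Additive N) = p ^ m := hNcard
    rw [Nat.card_zmod, h2] at h1
    exact (Nat.pow_right_injective hp.two_le h1).symm
  obtain ⟨n, hn, hnα⟩ := hNtr α (g • α)
  set h : G := n⁻¹ * g with hh
  have hgnh : g = n * h := by rw [hh, mul_inv_cancel_left]
  have hhα : h • α = α := by rw [hh, mul_smul, ← hnα, inv_smul_smul]
  have hcomm : ∀ a ∈ N, ∀ b ∈ N, a * b = b * a := by
    intro a ha b hb
    have := mul_comm (⟨a, ha⟩ : N) ⟨b, hb⟩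
    exact congrArg Subtype.val this
  set c : Module.End (ZMod p) (Additive N) := conjEnd N p h with hc
  have hcg : conjEnd N p g = c := by
    rw [hgnh, map_mul]
    have : conjEnd N p n = 1 := by
      rw [conjEnd_eq_one_iff]
      intro n' hn'
      rw [hcomm n hn n' hn', mul_inv_cancel_right]
    rw [this, one_mul]
  set ν : Module.End (ZMod p) (Additive N) := c - 1 with hν
  have haeν : ∀ j : ℕ, aeval c ((X - 1 : (ZMod p)[X]) ^ j) = ν ^ j := by
    intro j
    rw [map_pow, map_sub, aeval_X, map_one]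
  have hνpr : ν ^ (p ^ r) = 0 := by
    rw [← haeν, sub_pow_char_pow, one_pow, map_sub, map_pow, aeval_X, map_one, ← hcg, ← map_pow,
      hg, map_one, sub_self]
  have hνm : ν ^ m = 0 := by
    have hnil : IsNilpotent ν := ⟨p ^ r, hνpr⟩
    have h1 := LinearMap.aeval_self_charpoly ν
    rw [hnil.charpoly_eq_X_pow_finrank, hfin, map_pow, aeval_X] at h1
    exact h1
  set q := p ^ (r - 1) with hq
  have hνq1 : ν ^ (q - 1) = 0 := by
    have : q - 1 = m + (q - 1 - m) := by omega
    rw [this, pow_add, hνm, zero_mul]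
  have hνq : ν ^ q = 0 := by
    have : q = m + (q - m) := by omega
    rw [this, pow_add, hνm, zero_mul]
  have hsum : ∑ i ∈ Finset.range q, c ^ i = 0 := by
    have h1 := congrArg (aeval c) (geom_sum_eq_pow p (r - 1))
    rw [haeν, ← hq, hνq1, map_sum] at h1
    simpa [map_pow, aeval_X] using h1
  have hcq : c ^ q = 1 := by
    have h1 : aeval c ((X - 1 : (ZMod p)[X]) ^ q) = ν ^ q := haeν q
    rw [hq, sub_pow_char_pow, one_pow, map_sub, map_pow, aeval_X, map_one, ← hq, hνq,
      sub_eq_zero] at h1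
    exact h1
  -- the product formula
  have hform : ∀ k : ℕ, ∃ (nk : G) (hnk : nk ∈ N), g ^ k = nk * h ^ k ∧
      Additive.ofMul (⟨nk, hnk⟩ : N) =
        (∑ i ∈ Finset.range k, c ^ i) (Additive.ofMul (⟨n, hn⟩ : N)) := by
    intro k
    induction k with
    | zero =>
      refine ⟨1, N.one_mem, by simp, ?_⟩
      simp only [Finset.range_zero, Finset.sum_empty, LinearMap.zero_apply]
      rfl
    | succ k ih =>
      obtain ⟨nk, hnk, h1, h2⟩ := ih
      have hconj : h ^ k * n * (h ^ k)⁻¹ ∈ N := ‹N.Normal›.conj_mem n hn _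
      refine ⟨nk * (h ^ k * n * (h ^ k)⁻¹), N.mul_mem hnk hconj, ?_, ?_⟩
      · rw [pow_succ, h1, pow_succ]
        nth_rewrite 1 [hgnh]
        group
      · rw [Finset.sum_range_succ, LinearMap.add_apply, ← h2, hc, ← map_pow, conjEnd_ofMul]
        rfl
  obtain ⟨nq, hnq, h1, h2⟩ := hform q
  rw [hsum, LinearMap.zero_apply] at h2
  have hnq1 : nq = 1 := by
    have : (⟨nq, hnq⟩ : N) = 1 := h2
    exact congrArg Subtype.val this
  have hhq : h ^ q = 1 := by
    have h3 : conjEnd N p (h ^ q) = 1 := by rw [map_pow, ← hc, hcq]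
    rw [conjEnd_eq_one_iff] at h3
    apply FaithfulSMul.eq_of_smul_eq_smul (α := Ω)
    intro x
    obtain ⟨n', hn', rfl⟩ := hNtr α x
    have h4 : h ^ q * n' = n' * h ^ q := by
      calc h ^ q * n' = (h ^ q * n' * (h ^ q)⁻¹) * h ^ q := by group
        _ = n' * h ^ q := by rw [h3 n' hn']
    have h5 : h ^ q • α = α := by
      have : ∀ j : ℕ, h ^ j • α = α := by
        intro j
        induction j with
        | zero => simp
        | succ j ih => rw [pow_succ, mul_smul, hhα, ih]
      exact this q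
    rw [one_smul, ← mul_smul, h4, mul_smul, h5]
  rw [h1, hnq1, hhq, one_mul]

open scoped IsMulCommutative in
lemma key_bound {G : Type*} [Group G] [Finite G] {Ω : Type*} [Fintype Ω] [MulAction G Ω]
    [FaithfulSMul G Ω] (p m : ℕ) (hp : p.Prime) (hcard : Fintype.card Ω = p ^ m)
    (N : Subgroup G) [N.Normal] (hNc : IsMulCommutative N) (hNp : ∀ n ∈ N, n ^ p = 1)
    (hNtr : MulAction.IsPretransitive N Ω) (hNreg : ∀ ω : Ω, MulAction.stabilizer N ω = ⊥)
    (g : G) (r : ℕ) (hr : 1 ≤ r) (hg : orderOf g = p ^ r) : p ^ (r - 1) ≤ m := by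
  classical
  haveI : Fact p.Prime := ⟨hp⟩
  haveI := hNc
  by_contra hlt
  push Not at hlt
  letI : Module (ZMod p) (Additive N) := Cfsg.Agent.Helper17.modOfExp N p hNp
  have hNtr' : ∀ x y : Ω, ∃ n ∈ N, n • x = y := by
    intro x y
    obtain ⟨⟨n, hn⟩, h⟩ := hNtr.exists_smul_eq x y
    exact ⟨n, hn, h⟩
  obtain ⟨α⟩ : Nonempty Ω := by
    have : 0 < Fintype.card Ω := by rw [hcard]; exact pow_pos hp.pos m
    exact Fintype.card_pos_iff.mp this
  have hNcard : Nat.card N = p ^ m := by
    rw [← hcard, ← Nat.card_eq_fintype_card]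
    exact (Cfsg.Agent.Helper4.card_eq_of_regular (G := N) α (hNreg α)).symm
  have hgp : g ^ (p ^ r) = 1 := by rw [← hg]; exact pow_orderOf_eq_one g
  have h1 := aux p m N hNcard hNtr' α g r hr hgp hlt
  have h2 := orderOf_dvd_of_pow_eq_one h1
  rw [hg] at h2
  have h3 := Nat.le_of_dvd (pow_pos hp.pos _) h2
  have h4 : p ^ (r - 1) < p ^ r := Nat.pow_lt_pow_right hp.one_lt (by omega)
  omega

/-- Let a finite group G act faithfully on a set Ω with p ^ m points (p prime) and have an elementary abelian normal p-subgroup N acting regularly on Ω (so G is a group of affine transformations of an m-dimensional space over the field with p elements). If G contains an element of order p ^ r with r ≥ 1, then p ^ (r − 1) ≤ m. In particular an element of order p ^ m forces m ≤ 2, and m ≤ 1 when p is odd. -/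
theorem result {G : Type*} [Group G] [Finite G] {Ω : Type*} [Fintype Ω] [MulAction G Ω] [FaithfulSMul G Ω] (p m : ℕ) (hp : p.Prime) (hcard : Fintype.card Ω = p ^ m)
    (N : Subgroup G) [N.Normal] (hNc : IsMulCommutative N) (hNp : ∀ n ∈ N, n ^ p = 1)
    (hNtr : MulAction.IsPretransitive N Ω) (hNreg : ∀ ω : Ω, MulAction.stabilizer N ω = ⊥)
    (g : G) (r : ℕ) (hr : 1 ≤ r) (hg : orderOf g = p ^ r) :
    p ^ (r - 1) ≤ m ∧ (r = m → m ≤ 2 ∧ (2 < p → m ≤ 1)) := by
  have key : p ^ (r - 1) ≤ m := key_bound p m hp hcard N hNc hNp hNtr hNreg g r hr hg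
  refine ⟨key, fun hrm => ?_⟩
  subst hrm
  have h2 : ∀ k : ℕ, 3 ≤ k → k < 2 ^ (k - 1) := by
    intro k hk
    induction k with
    | zero => omega
    | succ k ih =>
      rcases Nat.eq_or_lt_of_le hk with h | h
      · have : k = 2 := by omega
        subst this; norm_num
      · have := ih (by omega)
        have e : k + 1 - 1 = (k - 1) + 1 := by omega
        rw [e, pow_succ]
        omega
  have hle : 2 ^ (r - 1) ≤ p ^ (r - 1) := Nat.pow_le_pow_left hp.two_le _
  constructor
  · by_contra hcon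
    push Not at hcon
    have := h2 r (by omega)
    omega
  · intro hp3
    by_contra hcon
    push Not at hcon
    have h3 : 3 ^ (r - 1) ≤ p ^ (r - 1) := Nat.pow_le_pow_left (by omega) _
    rcases Nat.lt_or_ge r 3 with h | h
    · have : r = 2 := by omega
      subst this
      simp at key
      omega
    · have := h2 r h
      omega

end Cfsg.Agent.S3508
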