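import Cfsg.Statements.S3511
import Mathlib
-- import your own Cfsg.Agent.* helpers here

set_option autoImplicit false
open Cfsg

namespace Cfsg.Agent.S3511

/-- Let a finite group G act faithfully on a set Ω. If every element of G of square-free order has a regular cycle (an orbit of the cyclic group it generates with trivial stabilizer), then every element of G has a regular cycle. -/
theorem result {G : Type*} [Group G] [Finite G] {Ω : Type*} [MulAction G Ω] [FaithfulSMul G Ω]
    (h : ∀ g : G, Squarefree (orderOf g) → ∃ ω : Ω, MulAction.stabilizer (Subgroup.zpowers g) ω = ⊥) (g : G) :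
    ∃ ω : Ω, MulAction.stabilizer (Subgroup.zpowers g) ω = ⊥ := by
  classical
  set n := orderOf g with hn
  have hn0 : 0 < n := orderOf_pos g
  set r := ∏ p ∈ n.primeFactors, p with hr
  have hrn : r ∣ n := Nat.prod_primeFactors_dvd n
  obtain ⟨m, hm⟩ := hrn
  have hm0 : m ≠ 0 := by rintro rfl; simp at hm; omega
  have hr0 : r ≠ 0 := by rintro h0; rw [h0] at hm; simp at hm; omega
  have hsq : Squarefree r := by
    apply Finset.squarefree_prod_of_pairwise_isCoprime
    · intro p hp q hq hpq
      have hp' := Nat.prime_of_mem_primeFactors hp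
      have hq' := Nat.prime_of_mem_primeFactors hq
      exact Nat.coprime_iff_isRelPrime.mp ((Nat.coprime_primes hp' hq').mpr hpq)
    · intro p hp
      exact (Nat.prime_of_mem_primeFactors hp).prime.squarefree
  have hord : orderOf (g ^ m) = r := by
    rw [orderOf_pow' g hm0, ← hn]
    have : Nat.gcd n m = m := Nat.gcd_eq_right ⟨r, by rw [hm, mul_comm]⟩
    rw [this, hm, Nat.mul_div_cancel _ (Nat.pos_of_ne_zero hm0)]
  obtain ⟨ω, hω⟩ := h (g ^ m) (by rw [hord]; exact hsq)
  refine ⟨ω, ?_⟩
  rw [eq_bot_iff]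
  rintro ⟨x, hx⟩ hxω
  rw [Subgroup.mem_bot]
  apply Subtype.ext
  show x = 1
  have hxω' : x • ω = ω := by
    have := MulAction.mem_stabilizer_iff.mp hxω
    exact this
  by_contra hx1
  set d := orderOf x with hd
  have hd1 : d ≠ 1 := by
    intro h1
    exact hx1 (orderOf_eq_one_iff.mp h1)
  have hd0 : 0 < d := orderOf_pos x
  obtain ⟨p, hp, hpd⟩ := Nat.exists_prime_and_dvd hd1
  set y := x ^ (d / p) with hy
  have hyord : orderOf y = p := by
    rw [hy, hd]
    exact orderOf_pow_orderOf_div (orderOf_pos x).ne' hpd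
  have hy1 : y ≠ 1 := by
    intro h1
    rw [h1, orderOf_one] at hyord
    exact hp.one_lt.ne hyord
  have hyω : y • ω = ω := by
    exact smul_eq_self_of_mem_zpowers (x := y) (y := x)
      (by rw [hy]; exact Subgroup.pow_mem _ (Subgroup.mem_zpowers x) _) hxω' 
  -- x is a natural power of g
  have hxpow : x ∈ Submonoid.powers g := (mem_powers_iff_mem_zpowers).mpr hx
  obtain ⟨k, hk⟩ := hxpow
  have hk' : g ^ k = x := hk
  -- d ∣ n
  have hdn : d ∣ n := by
    rw [hd, ← hk']
    exact orderOf_pow_dvd k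
  have hpn : p ∣ n := hpd.trans hdn
  have hpr : p ∣ r := by
    rw [hr]
    exact Finset.dvd_prod_of_mem _ (Nat.mem_primeFactors.mpr ⟨hp, hpn, hn0.ne'⟩)
  obtain ⟨r', hr'⟩ := hpr
  -- y = g ^ j with j = k * (d / p)
  set j := k * (d / p) with hj
  have hyg : y = g ^ j := by rw [hy, ← hk', ← pow_mul]
  have hypow : g ^ (j * p) = 1 := by
    rw [pow_mul, ← hyg, ← hyord, pow_orderOf_eq_one]
  have hndvd : n ∣ j * p := orderOf_dvd_of_pow_eq_one hypow
  -- n = p * (r' * m)
  have hn' : n = p * (r' * m) := by rw [hm, hr', mul_assoc]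
  have hdvd2 : r' * m ∣ j := by
    rw [hn', mul_comm j p] at hndvd
    exact Nat.dvd_of_mul_dvd_mul_left hp.pos hndvd
  obtain ⟨j', hj'⟩ := hdvd2
  have hymem : y ∈ Subgroup.zpowers (g ^ m) := by
    refine ⟨((r' * j' : ℕ) : ℤ), ?_⟩
    show (g ^ m) ^ ((r' * j' : ℕ) : ℤ) = y
    rw [zpow_natCast, ← pow_mul, hyg, hj']
    congr 1
    ring
  have : (⟨y, hymem⟩ : Subgroup.zpowers (g ^ m)) ∈ MulAction.stabilizer (Subgroup.zpowers (g ^ m)) ω := by
    rw [MulAction.mem_stabilizer_iff]
    exact hyω
  rw [hω, Subgroup.mem_bot] at this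
  exact hy1 (congrArg Subtype.val this)

end Cfsg.Agent.S3511
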