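import Cfsg.Statements.S3515
import Mathlib
import Cfsg.Agent.Helper17.AffineTriple
-- import your own Cfsg.Agent.* helpers here

set_option autoImplicit false
open Cfsg

namespace Cfsg.Agent.S3515

/-- Every primitive affine permutation group of degree p² is 3-closed. Let p be a prime and G a group of permutations of the plane V = F_p² consisting of affine maps x ↦ Ax + b, containing all translations, and acting primitively on V. Then any permutation σ of V that agrees on every triple of points with some element of G (σ preserves every G-orbit on ordered triples) already lies in G. -/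
theorem result (p : ℕ) [Fact p.Prime] (G : Subgroup (Equiv.Perm (Fin 2 → ZMod p)))
    (haff : (G : Set (Equiv.Perm (Fin 2 → ZMod p))) ⊆ {τ : Equiv.Perm (Fin 2 → ZMod p) | ∃ (A : (Fin 2 → ZMod p) ≃ₗ[ZMod p] (Fin 2 → ZMod p)) (b : Fin 2 → ZMod p), ∀ x, τ x = A x + b})
    (htrans : ∀ b : Fin 2 → ZMod p, ∃ g ∈ G, ∀ x, g x = x + b) (hprim : MulAction.IsPreprimitive G (Fin 2 → ZMod p))
    (σ : Equiv.Perm (Fin 2 → ZMod p)) (hσ : (∀ t : Fin 3 → (Fin 2 → ZMod p), ∃ g ∈ G, ∀ i, σ (t i) = g (t i))) : σ ∈ G := by
  obtain ⟨g, hg, hgt⟩ := hσ ![0, ![1, 0], ![0, 1]]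
  have e0 : σ 0 = g 0 := hgt 0
  have e1 : σ ![1, 0] = g ![1, 0] := hgt 1
  have e2 : σ ![0, 1] = g ![0, 1] := hgt 2
  suffices σ = g by rw [this]; exact hg
  by_cases hp : p = 2
  · subst hp
    apply Helper17.perm_eq_of_agree_off_point σ g ![1, 1]
    intro x hx
    rcases Helper17.zmod2_plane_cases x with h | h | h | h
    · rw [h]; exact e0
    · rw [h]; exact e1
    · rw [h]; exact e2
    · exact absurd h hx
  · obtain ⟨A, b, hA⟩ := Helper17.affine_of_triples p hp 2 σ (fun t => by
      obtain ⟨g', hg', hgt'⟩ := hσ t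
      obtain ⟨A', b', hA'⟩ := haff hg'
      exact ⟨A', b', fun i => by rw [hgt' i, hA']⟩)
    obtain ⟨A', b', hA'⟩ := haff hg
    have hb : b = b' := by
      have := e0
      rw [hA, hA', map_zero, map_zero, zero_add, zero_add] at this
      exact this
    subst hb
    have h1 : A ![1, 0] = A' ![1, 0] := by
      have := e1
      rw [hA, hA'] at this
      exact add_right_cancel this
    have h2 : A ![0, 1] = A' ![0, 1] := by
      have := e2
      rw [hA, hA'] at this
      exact add_right_cancel this
    ext1 x
    rw [hA, hA']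
    congr 1
    have hx : x = x 0 • ![1, 0] + x 1 • ![0, 1] := by
      ext i; fin_cases i <;> simp
    rw [hx, map_add, map_add, map_smul, map_smul, map_smul, map_smul, h1, h2]

end Cfsg.Agent.S3515
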