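import Cfsg.Statements.S3516
import Mathlib
-- import your own Cfsg.Agent.* helpers here

set_option autoImplicit false
open Cfsg

namespace Cfsg.Agent.Helper17

/-- Adjust a linear automorphism off a proper subspace to have determinant one. -/
theorem exists_det_one_agree {K V : Type*} [Field K] [AddCommGroup V] [Module K V]
    [FiniteDimensional K V] (A : V ≃ₗ[K] V) (W : Submodule K V) (hW : W < ⊤) :
    ∃ A' : V ≃ₗ[K] V, LinearMap.det (A' : V →ₗ[K] V) = 1 ∧ ∀ w ∈ W, A' w = A w := by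
  obtain ⟨φ, hφ, hWφ⟩ := W.exists_le_ker_of_lt_top hW
  obtain ⟨e, he⟩ : ∃ e, φ e ≠ 0 := by
    by_contra h
    push Not at h
    exact hφ (LinearMap.ext h)
  have hdet : LinearMap.det (A : V →ₗ[K] V) ≠ 0 := (LinearEquiv.isUnit_det' A).ne_zero
  obtain ⟨c, hc⟩ : ∃ c, c = (LinearMap.det (A : V →ₗ[K] V))⁻¹ := ⟨_, rfl⟩
  have hc0 : c ≠ 0 := by rw [hc]; exact inv_ne_zero hdet
  obtain ⟨v, hv⟩ : ∃ v, v = ((c - 1) / φ e) • e := ⟨_, rfl⟩
  have hφv : 1 + φ v = c := by
    rw [hv, map_smul, smul_eq_mul, div_mul_cancel₀ _ he]; ring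
  have hu : IsUnit (1 + φ v) := by rw [hφv]; exact hc0.isUnit
  refine ⟨(LinearEquiv.dilatransvection hu).trans A, ?_, ?_⟩
  · have : (((LinearEquiv.dilatransvection hu).trans A : V ≃ₗ[K] V) : V →ₗ[K] V) =
        (A : V →ₗ[K] V) ∘ₗ (LinearMap.transvection φ v) := by
      ext x; rfl
    rw [this, LinearMap.det_comp, LinearMap.transvection.det, hφv, hc, mul_inv_cancel₀ hdet]
  · intro w hw
    have h0 : φ w = 0 := hWφ hw
    rw [LinearEquiv.trans_apply, LinearEquiv.dilatransvection.apply, h0, zero_smul, add_zero]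

end Cfsg.Agent.Helper17

namespace Cfsg.Agent.S3516

/-- Let p be an odd prime, d ≥ 3, and G a group of affine permutations x ↦ Ax + b of V = F_p^d containing all translations and all maps x ↦ Ax with A of determinant 1. Then the 3-closure of G is the full affine group: a permutation σ of V agrees on every triple of points with some element of G if and only if σ is an affine map. -/
theorem result (p : ℕ) [Fact p.Prime] (hp : p ≠ 2) (d : ℕ) (hd : 3 ≤ d) (G : Subgroup (Equiv.Perm (Fin d → ZMod p)))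
    (haff : (G : Set (Equiv.Perm (Fin d → ZMod p))) ⊆ {τ : Equiv.Perm (Fin d → ZMod p) | ∃ (A : (Fin d → ZMod p) ≃ₗ[ZMod p] (Fin d → ZMod p)) (b : Fin d → ZMod p), ∀ x, τ x = A x + b})
    (htrans : ∀ b : Fin d → ZMod p, ∃ g ∈ G, ∀ x, g x = x + b)
    (hsl : ∀ A : (Fin d → ZMod p) ≃ₗ[ZMod p] (Fin d → ZMod p), LinearMap.det (A : (Fin d → ZMod p) →ₗ[ZMod p] (Fin d → ZMod p)) = 1 → ∃ g ∈ G, ∀ x, g x = A x)
    (σ : Equiv.Perm (Fin d → ZMod p)) :
    (∀ t : Fin 3 → (Fin d → ZMod p), ∃ g ∈ G, ∀ i, σ (t i) = g (t i)) ↔ σ ∈ {τ : Equiv.Perm (Fin d → ZMod p) | ∃ (A : (Fin d → ZMod p) ≃ₗ[ZMod p] (Fin d → ZMod p)) (b : Fin d → ZMod p), ∀ x, τ x = A x + b} := by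
  have hpp : (Fact.out : p.Prime) = Fact.out := rfl
  have h2 : (2 : ZMod p) ≠ 0 := by
    intro h
    have h' : ((2 : ℕ) : ZMod p) = 0 := by exact_mod_cast h
    rw [ZMod.natCast_eq_zero_iff] at h'
    exact hp ((Nat.prime_dvd_prime_iff_eq Fact.out Nat.prime_two).mp h')
  constructor
  · intro h
    -- σ preserves affine combinations along lines
    obtain ⟨f, hf⟩ : ∃ f : (Fin d → ZMod p) → (Fin d → ZMod p), ∀ x, f x = σ x - σ 0 :=
      ⟨_, fun _ => rfl⟩
    have hsmul : ∀ (c : ZMod p) (y : Fin d → ZMod p), f (c • y) = c • f y := by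
      intro c y
      obtain ⟨g, hg, hgt⟩ := h ![0, y, c • y]
      obtain ⟨A, b, hA⟩ := haff hg
      have e0 : σ 0 = A 0 + b := by rw [← hA]; exact hgt 0
      have e1 : σ y = A y + b := by rw [← hA]; exact hgt 1
      have e2 : σ (c • y) = A (c • y) + b := by rw [← hA]; exact hgt 2
      rw [hf, hf, e0, e1, e2, map_zero, map_smul, zero_add, add_sub_cancel_right,
        add_sub_cancel_right]
    have hmid : ∀ x y : Fin d → ZMod p, f ((2 : ZMod p)⁻¹ • (x + y)) =
        (2 : ZMod p)⁻¹ • (f x + f y) := by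
      intro x y
      obtain ⟨g, hg, hgt⟩ := h ![x, y, (2 : ZMod p)⁻¹ • (x + y)]
      obtain ⟨A, b, hA⟩ := haff hg
      have e0 : σ x = A x + b := by rw [← hA]; exact hgt 0
      have e1 : σ y = A y + b := by rw [← hA]; exact hgt 1
      have e2 : σ ((2 : ZMod p)⁻¹ • (x + y)) = A ((2 : ZMod p)⁻¹ • (x + y)) + b := by
        rw [← hA]; exact hgt 2
      have hxy : f x + f y = A x + A y + (2 : ZMod p) • (b - σ 0) := by
        rw [hf, hf, e0, e1, two_smul]; abel
      rw [hf, e2, hxy, map_smul, map_add,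
        smul_add (2⁻¹ : ZMod p) (A x + A y) ((2 : ZMod p) • (b - σ 0)), smul_smul,
        inv_mul_cancel₀ h2, one_smul]
      abel
    have hadd : ∀ x y : Fin d → ZMod p, f (x + y) = f x + f y := by
      intro x y
      have e : x + y = (2 : ZMod p) • ((2 : ZMod p)⁻¹ • (x + y)) := by
        rw [smul_smul, mul_inv_cancel₀ h2, one_smul]
      rw [e, hsmul, hmid, smul_smul, mul_inv_cancel₀ h2, one_smul]
    let L : (Fin d → ZMod p) →ₗ[ZMod p] (Fin d → ZMod p) :=
      { toFun := f
        map_add' := hadd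
        map_smul' := fun c y => by simpa using hsmul c y }
    have hbij : Function.Bijective L := by
      constructor
      · intro x y hxy
        have h1 : f x = f y := hxy
        rw [hf, hf, sub_left_inj] at h1
        exact σ.injective h1
      · intro y
        obtain ⟨x, hx⟩ := σ.surjective (y + σ 0)
        refine ⟨x, ?_⟩
        show f x = y
        rw [hf, hx, add_sub_cancel_right]
    refine ⟨LinearEquiv.ofBijective L hbij, σ 0, fun x => ?_⟩
    show σ x = f x + σ 0
    rw [hf, sub_add_cancel]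
  · rintro ⟨A, b, hA⟩ t
    -- the subspace spanned by the differences
    obtain ⟨W, hWdef⟩ : ∃ W : Submodule (ZMod p) (Fin d → ZMod p),
        W = Submodule.span (ZMod p) (Set.range ![t 1 - t 0, t 2 - t 0]) := ⟨_, rfl⟩
    have hWlt : W < ⊤ := by
      rw [lt_top_iff_ne_top]
      intro htop
      have h1 : Module.finrank (ZMod p) W ≤ 2 := by
        rw [hWdef]
        have := finrank_range_le_card (R := ZMod p) ![t 1 - t 0, t 2 - t 0]
        simpa [Set.finrank] using this
      rw [htop, finrank_top, Module.finrank_fin_fun] at h1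
      omega
    obtain ⟨A', hdet, hagree⟩ := Helper17.exists_det_one_agree A W hWlt
    obtain ⟨g1, hg1, hg1x⟩ := hsl A' hdet
    obtain ⟨g2, hg2, hg2x⟩ := htrans (A (t 0) + b - A' (t 0))
    refine ⟨g2 * g1, G.mul_mem hg2 hg1, fun i => ?_⟩
    have hmem : t i - t 0 ∈ W := by
      rw [hWdef]
      fin_cases i
      · simp
      · exact Submodule.subset_span ⟨0, rfl⟩
      · exact Submodule.subset_span ⟨1, rfl⟩
    have h3 := hagree _ hmem
    rw [map_sub, map_sub] at h3
    rw [Equiv.Perm.mul_apply, hg2x, hg1x, hA]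
    have : A' (t i) = A (t i) - A (t 0) + A' (t 0) := by rw [← h3]; abel
    rw [this]; abel

end Cfsg.Agent.S3516
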