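import Cfsg.Statements.S3517
import Mathlib
-- import your own Cfsg.Agent.* helpers here

set_option autoImplicit false
open Cfsg

namespace Cfsg.Agent.Helper17

/-- `GL(V)` is transitive on linearly independent families. -/
theorem exists_linearEquiv_of_linearIndependent {K V ι : Type*} [Field K] [AddCommGroup V]
    [Module K V] [FiniteDimensional K V] {v v' : ι → V}
    (hv : LinearIndependent K v) (hv' : LinearIndependent K v') :
    ∃ g : V ≃ₗ[K] V, ∀ i, g (v i) = v' i := by
  let f := (Module.Basis.span hv).equiv (Module.Basis.span hv') (Equiv.refl ι)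
  obtain ⟨g, hg⟩ := Submodule.exists_linearEquiv_restrict_eq f
  refine ⟨g, fun i => ?_⟩
  have h := hg (Module.Basis.span hv i)
  rw [Module.Basis.equiv_apply] at h
  simp only [Equiv.refl_apply, Module.Basis.span_apply] at h
  exact h.symm

theorem exists_linearEquiv_single {K V : Type*} [Field K] [AddCommGroup V]
    [Module K V] [FiniteDimensional K V] {u w : V} (hu : u ≠ 0) (hw : w ≠ 0) :
    ∃ g : V ≃ₗ[K] V, g u = w := by
  have h1 : LinearIndependent K (fun _ : Unit => u) := (linearIndependent_unique_iff (v := fun _ : Unit => u)).mpr hu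
  have h2 : LinearIndependent K (fun _ : Unit => w) := (linearIndependent_unique_iff (v := fun _ : Unit => w)).mpr hw
  obtain ⟨g, hg⟩ := exists_linearEquiv_of_linearIndependent h1 h2
  exact ⟨g, hg ()⟩

theorem zmod2_pair_li {V : Type*} [AddCommGroup V] [Module (ZMod 2) V] {x y : V}
    (hx : x ≠ 0) (hy : y ≠ 0) (hxy : x ≠ y) : LinearIndependent (ZMod 2) ![x, y] := by
  rw [LinearIndependent.pair_iff]
  intro s t hst
  have h01 : ∀ t : ZMod 2, t = 0 ∨ t = 1 := by decide
  rcases h01 s with hs | hs <;> rcases h01 t with ht | ht <;> subst hs <;> subst ht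
  · exact ⟨rfl, rfl⟩
  · simp only [zero_smul, one_smul, zero_add] at hst; exact absurd hst hy
  · simp only [zero_smul, one_smul, add_zero] at hst; exact absurd hst hx
  · simp only [one_smul] at hst
    exfalso; apply hxy
    have := ZModModule.add_self y
    calc x = x + (y + y) := by rw [this, add_zero]
      _ = (x + y) + y := by abel
      _ = y := by rw [hst, zero_add]

theorem zmod2_two_point {V : Type*} [AddCommGroup V] [Module (ZMod 2) V]
    [FiniteDimensional (ZMod 2) V] {u1 u2 w1 w2 : V}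
    (h1 : u1 = 0 ↔ w1 = 0) (h2 : u2 = 0 ↔ w2 = 0) (h12 : u1 = u2 ↔ w1 = w2) :
    ∃ A : V ≃ₗ[ZMod 2] V, A u1 = w1 ∧ A u2 = w2 := by
  by_cases hu1 : u1 = 0
  · have hw1 := h1.mp hu1
    by_cases hu2 : u2 = 0
    · have hw2 := h2.mp hu2
      exact ⟨LinearEquiv.refl _ _, by simp [hu1, hw1], by simp [hu2, hw2]⟩
    · have hw2 : w2 ≠ 0 := fun h => hu2 (h2.mpr h)
      obtain ⟨A, hA⟩ := exists_linearEquiv_single (K := ZMod 2) hu2 hw2
      exact ⟨A, by rw [hu1, hw1, map_zero], hA⟩
  · have hw1 : w1 ≠ 0 := fun h => hu1 (h1.mpr h)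
    by_cases hu2 : u2 = 0
    · have hw2 := h2.mp hu2
      obtain ⟨A, hA⟩ := exists_linearEquiv_single (K := ZMod 2) hu1 hw1
      exact ⟨A, hA, by rw [hu2, hw2, map_zero]⟩
    · have hw2 : w2 ≠ 0 := fun h => hu2 (h2.mpr h)
      by_cases hu : u1 = u2
      · have hw := h12.mp hu
        obtain ⟨A, hA⟩ := exists_linearEquiv_single (K := ZMod 2) hu1 hw1
        exact ⟨A, hA, by rw [← hu, ← hw, hA]⟩
      · have hw : w1 ≠ w2 := fun h => hu (h12.mpr h)
        obtain ⟨A, hA⟩ := exists_linearEquiv_of_linearIndependent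
          (zmod2_pair_li hu1 hu2 hu) (zmod2_pair_li hw1 hw2 hw)
        exact ⟨A, hA 0, hA 1⟩

end Cfsg.Agent.Helper17

namespace Cfsg.Agent.S3517

/-- For d ≥ 3, the 3-closure of the affine group AGL_d(2) acting on F_2^d is the full symmetric group: every permutation of F_2^d agrees on every ordered triple of points with some affine map (AGL_d(2) is 3-transitive). -/
theorem result (d : ℕ) (hd : 3 ≤ d) (σ : Equiv.Perm (Fin d → ZMod 2)) (t : Fin 3 → (Fin d → ZMod 2)) :
    ∃ (A : (Fin d → ZMod 2) ≃ₗ[ZMod 2] (Fin d → ZMod 2)) (b : Fin d → ZMod 2), ∀ i, σ (t i) = A (t i) + b := by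
  have hc : ∀ x y : Fin d → ZMod 2, x + y = 0 ↔ x = y := by
    intro x y
    constructor
    · intro h
      have := ZModModule.add_self y
      calc x = x + (y + y) := by rw [this, add_zero]
        _ = (x + y) + y := by abel
        _ = y := by rw [h, zero_add]
    · intro h; rw [h]; exact ZModModule.add_self y
  have hcancel : ∀ x y z : Fin d → ZMod 2, x + z = y + z ↔ x = y := fun x y z => add_left_inj z
  obtain ⟨A, hA1, hA2⟩ := Helper17.zmod2_two_point
    (u1 := t 1 + t 0) (u2 := t 2 + t 0) (w1 := σ (t 1) + σ (t 0)) (w2 := σ (t 2) + σ (t 0))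
    (by rw [hc, hc, σ.injective.eq_iff])
    (by rw [hc, hc, σ.injective.eq_iff])
    (by rw [hcancel, hcancel, σ.injective.eq_iff])
  refine ⟨A, σ (t 0) + A (t 0), ?_⟩
  have hAA : ∀ x : Fin d → ZMod 2, A x + A x = 0 := fun x => ZModModule.add_self _
  intro i
  fin_cases i
  · show σ (t 0) = A (t 0) + (σ (t 0) + A (t 0))
    calc σ (t 0) = σ (t 0) + (A (t 0) + A (t 0)) := by rw [hAA, add_zero]
      _ = _ := by abel
  · show σ (t 1) = A (t 1) + (σ (t 0) + A (t 0))
    have : A (t 1) + A (t 0) = σ (t 1) + σ (t 0) := by rw [← map_add, hA1]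
    have h0 := ZModModule.add_self (σ (t 0))
    calc σ (t 1) = (σ (t 1) + σ (t 0)) + σ (t 0) := by rw [add_assoc, h0, add_zero]
      _ = (A (t 1) + A (t 0)) + σ (t 0) := by rw [this]
      _ = _ := by abel
  · show σ (t 2) = A (t 2) + (σ (t 0) + A (t 0))
    have : A (t 2) + A (t 0) = σ (t 2) + σ (t 0) := by rw [← map_add, hA2]
    have h0 := ZModModule.add_self (σ (t 0))
    calc σ (t 2) = (σ (t 2) + σ (t 0)) + σ (t 0) := by rw [add_assoc, h0, add_zero]
      _ = (A (t 2) + A (t 0)) + σ (t 0) := by rw [this]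
      _ = _ := by abel

end Cfsg.Agent.S3517
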