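import Cfsg.Statements.S3520
import Cfsg.Agent.Helper29.S3501BRIDGE
import Cfsg.Agent.Helper4.S3501DERN
import Cfsg.Agent.Helper11.S3501TWOSINGLE
import Cfsg.Agent.Helper21.S3556ABEL
import Cfsg.Agent.Helper25.S3501FINT
import Cfsg.Agent.Helper9.S3520KAPPAthree
import Cfsg.Agent.Helper9.S3520KAPPAtwo
import Cfsg.Agent.Helper28.S3520AFIX1
import Cfsg.Agent.Helper4.S3520ACOUNT
import Cfsg.Agent.Helper23.S3520ATWOTRANS
import Cfsg.Agent.Helper23.S3520ANONFROB
import Cfsg.Agent.Helper19.S3520PNOT
import Cfsg.Agent.Helper5.S3520B1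
import Cfsg.Agent.Lead.S3520CENT2
import Cfsg.Agent.Helper3.S3520PROD3
import Cfsg.Agent.Helper25.S3520DIAG3

set_option autoImplicit false
set_option linter.style.haveILetI false
open Cfsg

namespace Cfsg.Agent.S3520

open MulAction Cfsg.Agent.S3520P

/-- Let a finite group G act faithfully and primitively on a finite set Ω with at least two points, suppose G is not almost simple (no non-abelian simple normal subgroup with trivial centralizer), and suppose the derangements of G form exactly two conjugacy classes. Then either Ω has 3 points and G has order 3; or G has a non-trivial abelian normal subgroup N acting regularly, every non-identity element of G fixes at most one point (so, when n > 3, G is a Frobenius group with kernel N), the number n of points is odd and a point stabilizer has order (n − 1)/2; or G is 2-transitive with a non-trivial abelian regular normal subgroup and some non-identity element fixes at least two points (a non-Frobenius 2-transitive affine group). -/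
theorem result {G : Type*} [Group G] [Finite G] {Ω : Type*} [Fintype Ω] [MulAction G Ω] [FaithfulSMul G Ω] (hΩ : 2 ≤ Fintype.card Ω) (hprim : MulAction.IsPreprimitive G Ω) (hnas : ¬ ∃ T : Subgroup G, T.Normal ∧ IsSimpleGroup T ∧ ¬ IsMulCommutative T ∧ Subgroup.centralizer (T : Set G) = ⊥)
    (hκ : Nat.card {c : ConjClasses G // ∃ g : G, ConjClasses.mk g = c ∧ ∀ ω : Ω, g • ω ≠ ω} = 2) (α : Ω) :
    (Fintype.card Ω = 3 ∧ Nat.card G = 3) ∨
    ((∃ N : Subgroup G, N.Normal ∧ N ≠ ⊥ ∧ IsMulCommutative N ∧ ∀ ω : Ω, MulAction.stabilizer N ω = ⊥) ∧ (∀ g : G, g ≠ 1 → Nat.card (MulAction.fixedBy Ω g) ≤ 1) ∧ ¬ 2 ∣ Fintype.card Ω ∧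
        2 * Nat.card (MulAction.stabilizer G α) = Fintype.card Ω - 1) ∨
    ((∃ N : Subgroup G, N.Normal ∧ N ≠ ⊥ ∧ IsMulCommutative N ∧ ∀ ω : Ω, MulAction.stabilizer N ω = ⊥) ∧ MulAction.IsMultiplyPretransitive G Ω 2 ∧ ∃ g : G, g ≠ 1 ∧ 2 ≤ Nat.card (MulAction.fixedBy Ω g)) := by
  classical
  have h3 : ∀ x y z : G, (∀ ω : Ω, x • ω ≠ ω) → (∀ ω : Ω, y • ω ≠ ω) → (∀ ω : Ω, z • ω ≠ ω) →
      ¬ IsConj x y → ¬ IsConj x z → ¬ IsConj y z → False :=
    fun x y z hx hy hz => KAPPA.three hκ x y z hx hy hz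
  by_cases hA : ∃ N : Subgroup G, N.Normal ∧ N ≠ ⊥ ∧ IsMulCommutative N
  · -- case A: an abelian normal subgroup
    obtain ⟨N, hNn, hN, hab⟩ := hA
    haveI := hNn
    haveI htr : IsPretransitive N Ω := Cfsg.Agent.S3501P.DER.normal_transitive N hN
    have hreg : ∀ ω : Ω, stabilizer N ω = ⊥ :=
      fun ω => Cfsg.Agent.S3556P.ABEL.aux_regular N hab ω
    have hNder : ∀ x ∈ N, x ≠ 1 → ∀ ω : Ω, x • ω ≠ ω := by
      intro x hx hx1 ω hfix
      have : (⟨x, hx⟩ : N) ∈ stabilizer N ω := hfix
      rw [hreg ω, Subgroup.mem_bot] at this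
      exact hx1 (congrArg Subtype.val this)
    by_cases hall : ∀ g : G, (∀ ω : Ω, g • ω ≠ ω) → g ∈ N
    · right; left
      have hs := A.FIX1 N hab htr hall
      obtain ⟨x, y, hx, hy, hxy, hcov⟩ := KAPPA.two hκ
      have hcount := A.COUNT N hab htr hreg hall hs x y hx hy hxy hcov α
      have hfix : ∀ g : G, g ≠ 1 → Nat.card (MulAction.fixedBy Ω g) ≤ 1 := by
        intro g hg
        rw [Finite.card_le_one_iff_subsingleton]
        refine ⟨fun u v => ?_⟩
        by_contra huv
        have huv' : (u : Ω) ≠ (v : Ω) := fun h => huv (Subtype.ext h)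
        exact hs g hg u v huv' u.2 v.2
      refine ⟨⟨N, hNn, hN, hab, hreg⟩, hfix, ?_, hcount⟩
      intro h2
      omega
    · right; right
      push Not at hall
      obtain ⟨z, hz, hzN⟩ := hall
      have hconj : ∀ x ∈ N, ∀ y ∈ N, x ≠ 1 → y ≠ 1 → IsConj x y := by
        intro x hx y hy hx1 hy1
        by_contra hxy
        have hnz : ∀ w ∈ N, ¬ IsConj w z := by
          intro w hw hwz
          obtain ⟨c, hc⟩ := isConj_iff.mp hwz
          apply hzN
          rw [← hc]
          exact hNn.conj_mem w hw c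
        exact h3 x y z (hNder x hx hx1) (hNder y hy hy1) hz hxy (hnz x hx) (hnz y hy)
      exact ⟨⟨N, hNn, hN, hab, hreg⟩, A.TWOTRANS N hab htr hreg hconj,
        A.NONFROB hΩ N htr hreg z hz hzN⟩
  · -- case B: impossible
    exfalso
    have htop : (⊤ : Subgroup G) ≠ ⊥ := by
      intro h
      haveI := hprim.toIsPretransitive
      have h1 : Fintype.card Ω ≤ 1 := by
        rw [Fintype.card_le_one_iff]
        intro a b
        obtain ⟨g, hg⟩ := exists_smul_eq G a b
        have hg1 : g = 1 := by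
          have : g ∈ (⊤ : Subgroup G) := Subgroup.mem_top g
          rw [h, Subgroup.mem_bot] at this
          exact this
        rw [hg1, one_smul] at hg
        exact hg
      omega
    obtain ⟨N, hNn, hN, -, hmin⟩ := Cfsg.Agent.S3501P.MINNORMAL (⊤ : Subgroup G) htop
    haveI := hNn
    have hnab : ¬ IsMulCommutative N := fun hab => hA ⟨N, hNn, hN, hab⟩
    have hnp : ∀ p : ℕ, p.Prime → ¬ IsPGroup p N := fun p hp => PNOT hA N hN p hp
    have hC := B1 hprim hΩ h3 N hN hnp
    haveI htr : IsPretransitive N Ω := Cfsg.Agent.S3501P.DER.normal_transitive N hN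
    obtain ⟨T, instT, m, e, hTs, hTna, hm, hcase⟩ :=
      Cfsg.Agent.S3501P.BRIDGE.core N hN hmin hnab α
    letI : Group T := instT
    haveI : Finite T := Cfsg.Agent.S3501P.FINT m hm e
    obtain ⟨hlt, s, s', hs1, hs'1, hne⟩ := CENT2 hTs hTna
    rcases hcase with ⟨K, hK, hst⟩ | ⟨k, c, hk, hc, hst⟩
    · by_cases hm2 : 2 ≤ m
      · exact PROD3 h3 N htr α hlt s s' hs1 hs'1 hne hm2 e K hK hst
      · have hm1 : m = 1 := by omega
        subst hm1
        haveI := hTs
        have hNs : IsSimpleGroup N := Cfsg.Agent.S3501P.M1SIMPLE N e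
        exact hnas ⟨N, hNn, hNs, hnab, hC⟩
    · exact DIAG3 h3 N htr α hlt s s' hs1 hs'1 hne hm e k c hk hc hst

end Cfsg.Agent.S3520
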