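import Cfsg.Statements.S3554
-- import your own Cfsg.Agent.* helpers here

set_option autoImplicit false
open Cfsg

namespace Cfsg.Agent.S3554

/-- Let G act faithfully and transitively on a finite set and suppose G has a non-trivial cyclic normal subgroup. Then some element of G of prime order fixes no point. -/
theorem result {G Ω : Type*} [Group G] [Finite G] [MulAction G Ω] [FaithfulSMul G Ω] [Finite Ω]
    (htrans : MulAction.IsPretransitive G Ω) (C : Subgroup G) (hC : C.Normal) (hC1 : C ≠ ⊥) (hcyc : IsCyclic ↥C) :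
    ∃ g : G, (orderOf g).Prime ∧ ∀ ω : Ω, g • ω ≠ ω := by
  classical
  obtain ⟨c, hc⟩ := hcyc.exists_generator
  have hn1 : orderOf c ≠ 1 := by
    intro h
    rw [orderOf_eq_one_iff] at h
    apply hC1
    rw [Subgroup.eq_bot_iff_forall]
    intro x hx
    have hx' := hc ⟨x, hx⟩
    rw [h] at hx'
    rw [Subgroup.zpowers_one_eq_bot, Subgroup.mem_bot] at hx'
    exact congrArg Subtype.val hx'
  have hnpos : 0 < orderOf c := orderOf_pos c
  have hp : (orderOf c).minFac.Prime := Nat.minFac_prime hn1
  have hpn : (orderOf c).minFac ∣ orderOf c := Nat.minFac_dvd _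
  set n := orderOf c with hn
  set p := n.minFac with hpdef
  obtain ⟨d, hd⟩ := hpn
  have hdpos : 0 < d := by
    rcases Nat.eq_zero_or_pos d with h | h
    · rw [h, mul_zero] at hd; omega
    · exact h
  have hg : orderOf (c ^ d) = p := by
    rw [orderOf_pow_of_dvd hdpos.ne' ⟨p, by rw [← hn, hd, mul_comm]⟩, ← hn, hd]
    exact Nat.mul_div_cancel _ hdpos
  refine ⟨((c ^ d : C) : G), ?_, ?_⟩
  · rw [Subgroup.orderOf_coe, hg]; exact hp
  · intro ω hω
    -- g fixes all points
    have hall : ∀ ω' : Ω, ((c ^ d : C) : G) • ω' = ω' := by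
      intro ω'
      obtain ⟨h, rfl⟩ := MulAction.exists_smul_eq G ω ω'
      have hy : h⁻¹ * ((c ^ d : C) : G) * h ∈ C := by
        have := hC.conj_mem _ (c ^ d : C).2 h⁻¹
        simpa using this
      obtain ⟨k, hk⟩ := Subgroup.mem_zpowers_iff.mp (hc ⟨_, hy⟩)
      have hyp : (⟨h⁻¹ * ((c ^ d : C) : G) * h, hy⟩ : C) ^ p = 1 := by
        apply Subtype.ext
        simp only [Subgroup.coe_pow, Subgroup.coe_one]
        have : (h⁻¹ * (c : G) ^ d * h) ^ p = h⁻¹ * ((c : G) ^ d) ^ p * h := by
          rw [show h⁻¹ * (c : G) ^ d * h = h⁻¹ * (c : G) ^ d * h⁻¹⁻¹ by simp, conj_pow]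
          simp
        rw [this, ← pow_mul, mul_comm d p, ← hd]
        have : (c : G) ^ n = 1 := by
          rw [hn, ← Subgroup.orderOf_coe]; exact pow_orderOf_eq_one _
        rw [this]; simp
      rw [← hk, ← zpow_natCast, ← zpow_mul, ← orderOf_dvd_iff_zpow_eq_one, ← hn, hd] at hyp
      have hdk : (d : ℤ) ∣ k := by
        have h1 : ((p * d : ℕ) : ℤ) = (d : ℤ) * (p : ℤ) := by push_cast; ring
        rw [h1] at hyp
        exact Int.dvd_of_mul_dvd_mul_right (by exact_mod_cast hp.pos.ne') hyp
      obtain ⟨j, hj⟩ := hdk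
      have hyj : h⁻¹ * ((c ^ d : C) : G) * h = ((c ^ d : C) : G) ^ j := by
        have := congrArg Subtype.val hk
        simp only at this
        rw [← this, hj, zpow_mul, zpow_natCast]
        simp
      have hfixj : (((c ^ d : C) : G) ^ j) • ω = ω := by
        have : ((c ^ d : C) : G) ∈ MulAction.stabilizer G ω := hω
        exact (MulAction.stabilizer G ω).zpow_mem this j
      calc ((c ^ d : C) : G) • h • ω = (h * (h⁻¹ * ((c ^ d : C) : G) * h)) • ω := by
            rw [← mul_smul]; congr 1; group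
        _ = h • ω := by rw [hyj, mul_smul, hfixj]
    have h1 : ((c ^ d : C) : G) = 1 := by
      apply FaithfulSMul.eq_of_smul_eq_smul (α := Ω)
      intro a; rw [hall a, one_smul]
    have : orderOf ((c ^ d : C) : G) = 1 := by rw [h1, orderOf_one]
    rw [Subgroup.orderOf_coe, hg] at this
    exact hp.one_lt.ne' this

end Cfsg.Agent.S3554
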