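import Cfsg.Statements.S3556
import Cfsg.Agent.Helper29.S3501BRIDGE
import Cfsg.Agent.Helper21.S3556ABEL
import Cfsg.Agent.Lead.S3556CENT
import Cfsg.Agent.Helper5.S3556M2

set_option autoImplicit false
open Cfsg

namespace Cfsg.Agent.S3556

/-- Let G act faithfully and primitively on a finite set with at least two points, and suppose that for some fixed prime p every element of G fixing no point has order a power of p. Then G is of affine type (it has a regular normal subgroup that is an elementary abelian r-group for some prime r) or almost simple (it has a non-abelian simple normal subgroup with trivial centralizer). -/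
theorem result {G Ω : Type*} [Group G] [Finite G] [MulAction G Ω] [FaithfulSMul G Ω] [Finite Ω]
    (hprim : MulAction.IsPreprimitive G Ω) (hΩ : 2 ≤ Nat.card Ω) (p : ℕ) (hp : p.Prime)
    (hder : ∀ g : G, (∀ ω : Ω, g • ω ≠ ω) → ∃ k : ℕ, orderOf g = p ^ k) :
    (∃ (N : Subgroup G) (r : ℕ), r.Prime ∧ N.Normal ∧ Cfsg.IsElementaryAbelian r N ∧
      MulAction.IsPretransitive N Ω ∧ ∀ a : Ω, MulAction.stabilizer N a = ⊥) ∨
    (∃ T : Subgroup G, T.Normal ∧ IsSimpleGroup ↥T ∧ ¬ IsMulCommutative ↥T ∧
      Subgroup.centralizer (T : Set G) = ⊥) := by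
  have : MulAction.IsPreprimitive G Ω := hprim
  -- a point
  have hne : Nonempty Ω := by
    have : Nat.card Ω ≠ 0 := by omega
    exact (Nat.card_ne_zero.mp this).1
  obtain ⟨a⟩ := hne
  -- `G` is non-trivial
  have htop : (⊤ : Subgroup G) ≠ ⊥ := by
    intro h
    have hsub : Subsingleton G := by
      constructor
      intro x y
      have hx : x ∈ (⊤ : Subgroup G) := Subgroup.mem_top x
      have hy : y ∈ (⊤ : Subgroup G) := Subgroup.mem_top y
      rw [h, Subgroup.mem_bot] at hx hy
      rw [hx, hy]
    -- transitive with trivial group: one point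
    have htr : MulAction.IsPretransitive G Ω := hprim.toIsPretransitive
    have hle : Nat.card Ω ≤ 1 := by
      rw [Finite.card_le_one_iff_subsingleton]
      constructor
      intro x y
      obtain ⟨g, hg⟩ := MulAction.exists_smul_eq G x y
      have : g = 1 := Subsingleton.elim _ _
      rw [this, one_smul] at hg
      exact hg
    omega
  -- a minimal normal subgroup
  let S : Set (Subgroup G) := {K | K.Normal ∧ K ≠ ⊥}
  have hS : S.Nonempty := ⟨⊤, inferInstance, htop⟩
  obtain ⟨N, hNS, hNmin⟩ := wellFounded_lt.has_min S hS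
  have hNn : N.Normal := hNS.1
  have hN : N ≠ ⊥ := hNS.2
  have hmin : ∀ M : Subgroup G, M.Normal → M ≤ N → M = ⊥ ∨ M = N := by
    intro M hM hMN
    by_cases hMb : M = ⊥
    · exact Or.inl hMb
    · right
      by_contra hne'
      exact hNmin M ⟨hM, hMb⟩ (lt_of_le_of_ne hMN hne')
  by_cases hab : IsMulCommutative N
  · left
    obtain ⟨r, hr, hE, ht, hreg⟩ := Cfsg.Agent.S3556P.ABEL hprim N hN hmin hab
    exact ⟨N, r, hr, hNn, hE, ht, hreg⟩
  · right
    have hC := Cfsg.Agent.S3556P.CENT hprim p hp hder N hab
    obtain ⟨T, instT, m, e, hT, hnabT, hm, hcase⟩ := Cfsg.Agent.S3501P.BRIDGE.core N hN hmin hab a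
    by_cases hm1 : m = 1
    · subst hm1
      refine ⟨N, hNn, ?_, hab, hC⟩
      -- `N ≃* (Fin 1 → T) ≃* T`
      let e1 : (Fin 1 → T) ≃* T :=
        { toFun := fun f => f 0
          invFun := fun t _ => t
          left_inv := fun f => by
            funext i
            have : i = 0 := Subsingleton.elim _ _
            rw [this]
          right_inv := fun t => rfl
          map_mul' := fun f g => rfl }
      have : Nontrivial N := (Subgroup.nontrivial_iff_ne_bot N).mpr hN
      have : IsSimpleGroup T := hT
      exact IsSimpleGroup.isSimpleGroup_of_surjective ((e.trans e1).symm : T →* N)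
        (e.trans e1).symm.surjective
    · exfalso
      have hNt : MulAction.IsPretransitive N Ω := Cfsg.Agent.S3501P.DER.normal_transitive N hN
      exact Cfsg.Agent.S3556P.M2 p hp hder N a hT hnabT e (by omega) hcase


end Cfsg.Agent.S3556
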