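import Cfsg.Statements.S3557
import Cfsg.Agent.Helper10.S3557MAIN
import Cfsg.Agent.Helper2.S3557ORB

set_option autoImplicit false
open Cfsg

namespace Cfsg.Agent.S3557

open MulAction Cfsg.Agent.S3557P

theorem result {G Ω : Type*} [Group G] [Finite G] [MulAction G Ω] [FaithfulSMul G Ω] [Finite Ω]
    (htrans : MulAction.IsPretransitive G Ω) (p : ℕ) (hp : p.Prime) (hcard : Nat.card Ω = 2 * p ^ 2)
    (hcl : ∀ σ : Equiv.Perm Ω, (∀ a b : Ω, ∃ g : G, σ a = g • a ∧ σ b = g • b) → ∃ g : G, ∀ a : Ω, σ a = g • a) :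
    ∃ g : G, (orderOf g).Prime ∧ ∀ ω : Ω, g • ω ≠ ω := by
  classical
  have := htrans
  have : Fact p.Prime := ⟨hp⟩
  have hΩ : Nonempty Ω := by
    have : 0 < Nat.card Ω := by rw [hcard]; exact Nat.mul_pos (by norm_num) (pow_pos hp.pos 2)
    exact (Nat.card_pos_iff.1 this).1
  let P : Sylow p G := default
  have hPp : IsPGroup p ↥(P : Subgroup G) := P.isPGroup'
  -- orbit sizes are powers of `p`
  have hpow : ∀ x : Ω, ∃ k : ℕ, Nat.card (orbit ↥(P : Subgroup G) x) = p ^ k := by
    intro x
    obtain ⟨n, hn⟩ := IsPGroup.iff_card.1 hPp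
    have hdvd : Nat.card (orbit ↥(P : Subgroup G) x) ∣ p ^ n := by
      rw [← hn, Nat.card_coe_set_eq, ← MulAction.index_stabilizer]
      exact Subgroup.index_dvd_card _
    obtain ⟨k, -, hk⟩ := (Nat.dvd_prime_pow hp).1 hdvd
    exact ⟨k, hk⟩
  have hle : ∀ x : Ω, Nat.card (orbit ↥(P : Subgroup G) x) ≤ 2 * p ^ 2 := by
    intro x
    rw [← hcard]
    exact Nat.card_le_card_of_injective _ Subtype.val_injective
  rcases eq_or_ne p 2 with rfl | hp2
  · -- `|Ω| = 8`, `P` is transitive
    have hfac : (Nat.card Ω).factorization 2 = 3 := by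
      rw [hcard]
      have : (2 * 2 ^ 2 : ℕ) = 2 ^ 3 := by norm_num
      rw [this, Nat.Prime.factorization_pow Nat.prime_two]
      simp
    have horb : ∀ x : Ω, Nat.card (orbit ↥(P : Subgroup G) x) = 8 := by
      intro x
      have h1 := ORB 2 P x
      rw [hfac] at h1
      have h2 := hle x
      have h3 : 0 < Nat.card (orbit ↥(P : Subgroup G) x) := by
        obtain ⟨k, hk⟩ := hpow x
        rw [hk]; positivity
      have := Nat.le_of_dvd h3 h1
      omega
    have htr : IsPretransitive ↥(P : Subgroup G) Ω := by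
      obtain ⟨x0⟩ := hΩ
      have huniv : orbit ↥(P : Subgroup G) x0 = Set.univ := by
        apply Set.eq_univ_of_forall
        by_contra h
        simp only [not_forall] at h
        obtain ⟨y, hy⟩ := h
        have hlt : Nat.card (orbit ↥(P : Subgroup G) x0) < Nat.card Ω := by
          have : Fintype Ω := Fintype.ofFinite Ω
          rw [Nat.card_eq_fintype_card, Nat.card_eq_fintype_card, ← Set.toFinset_card]
          apply Finset.card_lt_univ_of_notMem (x := y)
          simpa using hy
        rw [horb x0, hcard] at hlt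
        omega
      refine ⟨fun x y => ?_⟩
      have hx : x ∈ orbit ↥(P : Subgroup G) x0 := huniv ▸ Set.mem_univ x
      have hy : y ∈ orbit ↥(P : Subgroup G) x0 := huniv ▸ Set.mem_univ y
      obtain ⟨g, rfl⟩ := hx
      obtain ⟨h, rfl⟩ := hy
      exact ⟨h * g⁻¹, by rw [mul_smul, inv_smul_smul]⟩
    have := htr
    have : Nontrivial ↥(P : Subgroup G) := by
      obtain ⟨x0⟩ := hΩ
      by_contra h
      rw [not_nontrivial_iff_subsingleton] at h
      have h1 : orbit ↥(P : Subgroup G) x0 = {x0} := by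
        ext y
        constructor
        · rintro ⟨g, rfl⟩
          show g • x0 = x0
          rw [Subsingleton.elim g 1, one_smul]
        · rintro rfl; exact mem_orbit_self _
      have h2 := horb x0
      rw [h1, Nat.card_eq_fintype_card, Fintype.card_unique] at h2
      omega
    obtain ⟨g, hg2, hg⟩ := TRANS (P := ↥(P : Subgroup G)) (Ω := Ω) 2 hPp
    refine ⟨(g : G), ?_, fun ω => hg ω⟩
    rw [Subgroup.orderOf_coe, hg2]
    exact Nat.prime_two
  · -- `p` odd
    have hp3 : 3 ≤ p := by
      have := hp.two_le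
      omega
    have hfac : (Nat.card Ω).factorization p = 2 := by
      rw [hcard, Nat.factorization_mul (by norm_num) (pow_ne_zero 2 hp.ne_zero),
        Nat.Prime.factorization_pow hp]
      simp only [Finsupp.coe_add, Pi.add_apply, Finsupp.single_eq_same]
      rw [Nat.factorization_eq_zero_of_not_dvd]
      intro h
      exact hp2 ((Nat.prime_dvd_prime_iff_eq hp Nat.prime_two).1 h)
    have horb : ∀ x : Ω, Nat.card (orbit ↥(P : Subgroup G) x) = p ^ 2 := by
      intro x
      obtain ⟨k, hk⟩ := hpow x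
      have h1 := ORB p P x
      rw [hfac, hk] at h1
      have h2 := hle x
      rw [hk] at h2
      have hk2 : 2 ≤ k := (Nat.pow_dvd_pow_iff_le_right hp.one_lt).1 h1
      have hk3 : k < 3 := by
        by_contra h
        have h3 : p ^ 3 ≤ p ^ k := Nat.pow_le_pow_right hp.pos (by omega)
        have h4 : 2 * p ^ 2 < p ^ 3 := by
          have : p ^ 3 = p * p ^ 2 := by ring
          rw [this]
          exact Nat.mul_lt_mul_of_lt_of_le (by omega) le_rfl (pow_pos hp.pos 2)
        omega
      have : k = 2 := by omega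
      rw [hk, this]
    obtain ⟨σ, hloc, hfpf, hσp⟩ := MAIN (P := ↥(P : Subgroup G)) (Ω := Ω) p hPp hcard horb
    exact CLOSE hcl p hp σ (fun a b => by
      obtain ⟨g, h1, h2⟩ := hloc a b
      exact ⟨(g : G), h1, h2⟩) hfpf hσp

end Cfsg.Agent.S3557
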