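import Cfsg.Statements.S3575
import Mathlib
import Cfsg.Agent.Helper2.UniformPart
import Cfsg.Agent.Helper2.UniformPartArith

set_option autoImplicit false
open Cfsg

namespace Cfsg.Agent.S3575

open Cfsg.Agent.Helper2.UPart

/-- Let a, b ≥ 2 and consider the symmetric group of degree a·b acting on the partitions of an (a·b)-set into b parts of size a (encoded as maps onto a b-element set all of whose fibres have a elements; a permutation fixes such a partition when it permutes the fibres). Let r be a prime dividing the number (ab)!/((a!)^b·b!) of such partitions, and let ℓ and k be the remainders of a and b modulo r. Then every permutation of order r fixes some such partition if and only if r ≤ a and one of the following holds: ℓ = 0; or k = 0 and ℓ = 1; or ℓ and k are non-zero, k·ℓ < r, and either b < r or (k + r)·ℓ ≤ k·a + r. -/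
theorem result (a b : ℕ) (ha : 2 ≤ a) (hb : 2 ≤ b) (r : ℕ) (hr : r.Prime)
    (hrd : r ∣ (a * b).factorial / (a.factorial ^ b * b.factorial)) :
    (∀ σ : Equiv.Perm (Fin (a * b)), orderOf σ = r →
        ∃ f : Fin (a * b) → Fin b, (∀ j : Fin b, Nat.card {x : Fin (a * b) // f x = j} = a) ∧
          ∃ π : Equiv.Perm (Fin b), ∀ x : Fin (a * b), f (σ x) = π (f x)) ↔
      (r ≤ a ∧ (a % r = 0 ∨ (b % r = 0 ∧ a % r = 1) ∨
        (a % r ≠ 0 ∧ b % r ≠ 0 ∧ (b % r) * (a % r) < r ∧ (b < r ∨ (b % r + r) * (a % r) ≤ (b % r) * a + r)))) := by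
  have hrab : r ≤ a * b := le_of_dvd_count a b r (by omega) hr hrd
  rw [bridge a b r ha hr, rhs_iff a b r ha hb hr.two_le]
  have hA := Nat.div_add_mod a r
  have hB := Nat.div_add_mod b r
  have hℓ := Nat.mod_lt a hr.pos
  have hk := Nat.mod_lt b hr.pos
  generalize a / r = A at *
  generalize a % r = ℓ at *
  generalize b / r = B at *
  generalize b % r = k at *
  have ha' : a = A * r + ℓ := by rw [← hA]; ring
  have hb' : b = B * r + k := by rw [← hB]; ring
  subst ha' hb'
  exact arith A ℓ B k r hr.two_le hℓ hk ha hrab

end Cfsg.Agent.S3575
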