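import Cfsg.Statements.S3590
import Cfsg.Agent.Helper5.S3590ASM

set_option autoImplicit false
open Cfsg

namespace Cfsg.Agent.S3590

/-- Let F be a finite field of characteristic 2. Then PSp(8,F) is not determined by its set of element orders, not even up to finitely many groups: for every bound there is a finite group of larger order with exactly the same set of element orders as PSp(8,F). -/
theorem result {F : Type*} [Field F] [Fintype F]
    [CharP F 2] (M : ℕ) :
    ∃ (H : Type) (_ : Group H) (_ : Fintype H), M < Fintype.card H ∧ Set.range (orderOf : H → ℕ) = Set.range (orderOf : Cfsg.PSp 4 F → ℕ) := by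
  classical
  -- a copy of `F` in `Type`
  let F' : Type := Shrink.{0} F
  let e : F' ≃+* F := Shrink.ringEquiv.{0} F
  let _ : Fintype F' := Fintype.ofEquiv F e.symm.toEquiv
  have : CharP F' 2 := RingHom.charP (e : F' →+* F) e.injective 2
  have hcard : Fintype.card F' = Fintype.card F := Fintype.card_congr e.toEquiv
  obtain ⟨a, b, han⟩ := Cfsg.Agent.Helper28.LB.exists_aniso_binary (K := F')
  obtain ⟨hfin, hbig⟩ :=
    Cfsg.Agent.S3590P.aff_finite_card (Cfsg.Agent.S3590P.rhoO F' (Cfsg.quadFormMinus 3 F' a b)) M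
  have := hfin
  let _ : Fintype (Cfsg.Agent.S3590P.Aff (Cfsg.Agent.S3590P.rhoO F' (Cfsg.quadFormMinus 3 F' a b))
      (Fin (M + 1))) := Fintype.ofFinite _
  refine ⟨Cfsg.Agent.S3590P.Aff (Cfsg.Agent.S3590P.rhoO F' (Cfsg.quadFormMinus 3 F' a b))
    (Fin (M + 1)), inferInstance, inferInstance, ?_, ?_⟩
  · rw [← Nat.card_eq_fintype_card]
    exact hbig
  · rw [Cfsg.Agent.S3590P.ASM.spec_aff a b han (Fin (M + 1)), Cfsg.Agent.S3590P.spec_psp, hcard]

end Cfsg.Agent.S3590
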