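import Cfsg.Statements.S3592
import Mathlib
import Cfsg.Agent.S0420
import Cfsg.Agent.Helper15.NseD
import Cfsg.Agent.Helper15.NseG

set_option autoImplicit false
open scoped Pointwise
open Cfsg

namespace Cfsg.Agent.S3592

/-- Let M be the Mathieu group M₁₁ (order 7920). If a finite group G has the same order as M and the same set of values of the function 'number of elements of order n' (taken over the element orders n that occur), then G is isomorphic to M. -/
theorem result {G : Type*} [Group G] [Finite G]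
    (hcard : Nat.card G = Nat.card ↥Cfsg.Spor.M11)
    (hnse : {c : ℕ | 0 < c ∧ ∃ n : ℕ, c = Nat.card {g : G // orderOf g = n}} =
      {c : ℕ | 0 < c ∧ ∃ n : ℕ, c = Nat.card {g : ↥Cfsg.Spor.M11 // orderOf g = n}}) :
    Nonempty (G ≃* ↥Cfsg.Spor.M11) := by
  rw [Cfsg.Agent.Helper27.card_spor_M11] at hcard
  rw [Cfsg.Agent.Helper15.NseM.nse_spor_M11] at hnse
  have hsimple : IsSimpleGroup G := Cfsg.Agent.Helper15.Nse.simple_of_nse hcard hnse
  have hd := Cfsg.Agent.Helper27.sqDod_mem_dodecads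
  have hp := Cfsg.Agent.Helper27.some_zero_mem_sqDod
  have : Finite ↥(MulAction.stabilizer Cfsg.M24 Cfsg.Spor.squareDodecad ⊓
      MulAction.stabilizer Cfsg.M24 (some 0 : Cfsg.GolayPt)) :=
    Nat.finite_of_card_ne_zero (by
      rw [Cfsg.Agent.Helper27.card_stabilizer_dodecad_pt hd hp]; norm_num)
  obtain ⟨e⟩ := Cfsg.Agent.S0420.m11_unique (G := G) ⟨hsimple, hcard⟩
    ⟨Cfsg.Agent.Helper27.stabilizer_dodecad_pt_simple hd hp,
      Cfsg.Agent.Helper27.card_stabilizer_dodecad_pt hd hp⟩
  exact ⟨e.trans Cfsg.Agent.Helper27.sporM11Equiv⟩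

end Cfsg.Agent.S3592
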