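import Cfsg.Statements.S3620
import Mathlib
import Cfsg.Agent.Helper20.MargJ

set_option autoImplicit false
open Cfsg

namespace Cfsg.Agent.S3620

/-- Let G act faithfully on a finite set in such a way that every non-trivial normal subgroup of G is transitive (G is quasiprimitive). Let Γ be a subset with more than one point and fewer than half of the points, such that the pointwise stabilizer of the complement of Γ acts transitively on Γ. Then G induces every even permutation of the set (G is the alternating or the symmetric group). -/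
theorem result {G Ω : Type*} [Group G] [Finite G] [MulAction G Ω] [FaithfulSMul G Ω] [Fintype Ω] [DecidableEq Ω]
    (hqp : ∀ N : Subgroup G, N.Normal → N ≠ ⊥ → MulAction.IsPretransitive ↥N Ω)
    (Γ : Set Ω) (hΓ1 : 1 < Γ.ncard) (hΓ2 : 2 * Γ.ncard < Fintype.card Ω)
    (hJ : MulAction.IsPretransitive ↥(fixingSubgroup G Γᶜ) ↥(SubMulAction.ofFixingSubgroup G Γᶜ)) :
    ∀ σ : Equiv.Perm Ω, Equiv.Perm.sign σ = 1 → ∃ x : G, (MulAction.toPerm x : Equiv.Perm Ω) = σ := by
  classical
  have hΓJ : Cfsg.Agent.Helper20.Marg.IsJordan G Γ := by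
    intro x hx y hy
    have hx' : x ∈ SubMulAction.ofFixingSubgroup G Γᶜ := by
      rw [SubMulAction.mem_ofFixingSubgroup_iff]
      exact fun h => h hx
    have hy' : y ∈ SubMulAction.ofFixingSubgroup G Γᶜ := by
      rw [SubMulAction.mem_ofFixingSubgroup_iff]
      exact fun h => h hy
    obtain ⟨⟨h, hh⟩, hhxy⟩ := MulAction.exists_smul_eq (↥(fixingSubgroup G Γᶜ))
      (⟨x, hx'⟩ : ↥(SubMulAction.ofFixingSubgroup G Γᶜ)) ⟨y, hy'⟩
    refine ⟨h, ?_, ?_⟩
    · intro z hz
      exact (mem_fixingSubgroup_iff G).mp hh z hz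
    · exact congrArg Subtype.val hhxy
  have hprim : MulAction.IsPreprimitive G Ω :=
    Cfsg.Agent.Helper20.Marg.isPreprimitive_of_quasiprimitive hqp hΓJ hΓ1 hΓ2
  have hle := Cfsg.Agent.Helper20.Marg.alternatingGroup_le_range_of_isPreprimitive hprim hΓJ hΓ1 hΓ2
  intro σ hσ
  have hmem : σ ∈ alternatingGroup Ω := Equiv.Perm.mem_alternatingGroup.mpr hσ
  obtain ⟨x, hx⟩ := hle hmem
  exact ⟨x, hx⟩

end Cfsg.Agent.S3620
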