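import Cfsg.Statements.S3622
-- import your own Cfsg.Agent.* helpers here

set_option autoImplicit false
open Cfsg

namespace Cfsg.Agent.S3622

/-- Let G be a group of permutations of a finite set, m ≥ 2, and α a point. Say a permutation σ is k-approximated by a set S of permutations if for every k points there is a member of S agreeing with σ at those points. Suppose every permutation that is (m-1)-approximated by the stabilizer of α in G lies in that stabilizer (the stabilizer is (m-1)-closed). Then every permutation that is m-approximated by G lies in G (G is m-closed). -/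
theorem result {Ω : Type*} [Finite Ω] (G : Subgroup (Equiv.Perm Ω)) (m : ℕ) (hm : 2 ≤ m) (α : Ω)
    (hclosed : ∀ σ : Equiv.Perm Ω,
      (∀ t : Fin (m - 1) → Ω, ∃ g ∈ MulAction.stabilizer ↥G α, ∀ i, (g : Equiv.Perm Ω) (t i) = σ (t i)) →
      σ ∈ G ∧ σ α = α) :
    ∀ σ : Equiv.Perm Ω, (∀ t : Fin m → Ω, ∃ g ∈ G, ∀ i, g (t i) = σ (t i)) → σ ∈ G := by
  classical
  intro σ hσ
  -- step 1: find g0 in G with g0 α = σ α
  obtain ⟨g0, hg0, hg0α⟩ := hσ (fun _ => α)
  have hm0 : 0 < m := by omega
  have hg0α' : g0 α = σ α := hg0α ⟨0, hm0⟩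
  -- τ = g0⁻¹ * σ fixes α
  have hτ := hclosed (g0⁻¹ * σ) ?_
  · have : σ = g0 * (g0⁻¹ * σ) := by group
    rw [this]
    exact G.mul_mem hg0 hτ.1
  · intro t
    -- extend t by α
    have hm1 : m - 1 + 1 = m := by omega
    let t' : Fin m → Ω := fun i => if h : (i : ℕ) < m - 1 then t ⟨i, h⟩ else α
    obtain ⟨g, hg, hgt⟩ := hσ t'
    have hlast : g α = σ α := by
      have := hgt ⟨m - 1, by omega⟩
      simpa [t'] using this
    refine ⟨⟨g0⁻¹ * g, G.mul_mem (G.inv_mem hg0) hg⟩, ?_, ?_⟩
    · rw [MulAction.mem_stabilizer_iff]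
      change (g0⁻¹ * g) α = α
      rw [Equiv.Perm.mul_apply, hlast, ← hg0α']
      simp
    · intro i
      have := hgt ⟨i, by omega⟩
      have hi : ((⟨(i : ℕ), by omega⟩ : Fin m) : ℕ) < m - 1 := i.2
      simp only [t', hi, dite_true] at this
      change (g0⁻¹ * g) (t i) = (g0⁻¹ * σ) (t i)
      rw [Equiv.Perm.mul_apply, Equiv.Perm.mul_apply]
      have h2 : g (t i) = σ (t i) := by simpa using this
      rw [h2]

end Cfsg.Agent.S3622
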