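import Cfsg.Statements.S3626
import Cfsg.Agent.Helper6.S3626.Asm

set_option autoImplicit false
open Cfsg

namespace Cfsg.Agent.S3626

open Cfsg.Agent.S3626P

/-- Let R be the small Ree group over the field with q = 3^(2m+1) ≥ 27 elements. Then there are finite groups of arbitrarily large order with exactly the same set of element orders as R × R × R. -/
theorem result {K : Type*} [Field K] [Fintype K] {m : ℕ} (hm : 1 ≤ m) (hK : Fintype.card K = 3 ^ (2 * m + 1)) (N : ℕ) :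
    ∃ (H : Type) (_ : Group H) (_ : Fintype H), N < Fintype.card H ∧
      Set.range (orderOf : H → ℕ) = Set.range (orderOf : ↥(Cfsg.Lie.twistedG2 K (3 ^ m)) × ↥(Cfsg.Lie.twistedG2 K (3 ^ m)) × ↥(Cfsg.Lie.twistedG2 K (3 ^ m)) → ℕ) := by
  have hchar : CharP K 3 := charP_three hK
  have hfinR : Finite ↥(Cfsg.Lie.twistedG2 K (3 ^ m)) := Subtype.finite
  have hfinY : Finite ↥(Y (frobS K m)) := Subtype.finite
  have hn := ASM.K0_normal ↥(Cfsg.Lie.twistedG2 K (3 ^ m)) (frobS K m)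
  obtain ⟨H, hG, hF, hN, hsp⟩ :=
    Cfsg.Agent.S3444.result (ASM.K0 ↥(Cfsg.Lie.twistedG2 K (3 ^ m)) (frobS K m))
      (ASM.K0_ne_bot _ _) (ASM.K0_solvable _ _) N
  exact ⟨H, hG, hF, hN, hsp.trans (ASM.range_orderOf_eq hm hK)⟩

end Cfsg.Agent.S3626
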