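import Cfsg.Statements.S3627
import Cfsg.Agent.Helper14.J1Spec
import Cfsg.Agent.S3444
-- import your own Cfsg.Agent.* helpers here

set_option autoImplicit false
open Cfsg

namespace Cfsg.Agent.S3627

open Cfsg.Agent.Helper14.J1

/-- element orders of a direct product -/
theorem range_orderOf_prod {A B : Type*} [Group A] [Group B] (sA sB : Finset ℕ)
    (hA : Set.range (orderOf : A → ℕ) = ↑sA) (hB : Set.range (orderOf : B → ℕ) = ↑sB) :
    Set.range (orderOf : A × B → ℕ) = ↑(Finset.image₂ Nat.lcm sA sB) := by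
  ext m
  simp only [Set.mem_range, Finset.coe_image₂, Set.mem_image2, Finset.mem_coe]
  constructor
  · rintro ⟨⟨a, b⟩, rfl⟩
    refine ⟨orderOf a, ?_, orderOf b, ?_, (Prod.orderOf (a, b)).symm⟩
    · rw [← Finset.mem_coe, ← hA]; exact ⟨a, rfl⟩
    · rw [← Finset.mem_coe, ← hB]; exact ⟨b, rfl⟩
  · rintro ⟨p, hp, q, hq, rfl⟩
    rw [← Finset.mem_coe, ← hA] at hp
    rw [← Finset.mem_coe, ← hB] at hq
    obtain ⟨a, rfl⟩ := hp
    obtain ⟨b, rfl⟩ := hq
    exact ⟨(a, b), Prod.orderOf (a, b)⟩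

/-- element orders of the dihedral group of order 14 -/
theorem range_orderOf_dihedral :
    Set.range (orderOf : DihedralGroup 7 → ℕ) = ↑({1, 2, 7} : Finset ℕ) := by
  ext m
  constructor
  · rintro ⟨x, rfl⟩
    rcases x with i | i
    · rw [DihedralGroup.orderOf_r]
      have h : ∀ i : ZMod 7, 7 / Nat.gcd 7 i.val ∈ ({1, 2, 7} : Finset ℕ) := by decide
      exact h i
    · rw [DihedralGroup.orderOf_sr]
      decide
  · intro hm
    have hm' : m ∈ ({1, 2, 7} : Finset ℕ) := hm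
    simp only [Finset.mem_insert, Finset.mem_singleton] at hm'
    rcases hm' with rfl | rfl | rfl
    · exact ⟨1, orderOf_one⟩
    · exact ⟨DihedralGroup.sr 0, DihedralGroup.orderOf_sr 0⟩
    · exact ⟨DihedralGroup.r 1, DihedralGroup.orderOf_r_one⟩

set_option maxHeartbeats 0 in
set_option maxRecDepth 1000000 in
theorem lcm_sets_eq :
    Finset.image₂ Nat.lcm spec (Finset.image₂ Nat.lcm spec (Finset.image₂ Nat.lcm spec
      ({1, 2, 7} : Finset ℕ))) =
    Finset.image₂ Nat.lcm spec (Finset.image₂ Nat.lcm spec (Finset.image₂ Nat.lcm spec spec)) := by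
  decide +kernel

theorem spec_eq :
    Set.range (orderOf : G0 × G0 × G0 × DihedralGroup 7 → ℕ) =
      Set.range (orderOf : G0 × G0 × G0 × G0 → ℕ) := by
  have h1 := range_orderOf_prod (A := G0) (B := DihedralGroup 7) spec {1, 2, 7} range_orderOf
    range_orderOf_dihedral
  have h2 := range_orderOf_prod (A := G0) (B := G0 × DihedralGroup 7) spec _ range_orderOf h1
  have h3 := range_orderOf_prod (A := G0) (B := G0 × G0 × DihedralGroup 7) spec _ range_orderOf h2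
  have k1 := range_orderOf_prod (A := G0) (B := G0) spec spec range_orderOf range_orderOf
  have k2 := range_orderOf_prod (A := G0) (B := G0 × G0) spec _ range_orderOf k1
  have k3 := range_orderOf_prod (A := G0) (B := G0 × G0 × G0) spec _ range_orderOf k2
  exact h3.trans ((congrArg _ lcm_sets_eq).trans k3.symm)

theorem d7_mul : ∀ d d' : DihedralGroup 7, d ^ 7 = 1 → d' ^ 7 = 1 → (d * d') ^ 7 = 1 := by decide

theorem d7_comm : ∀ d d' : DihedralGroup 7, d ^ 7 = 1 → d' ^ 7 = 1 → d * d' = d' * d := by decide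

/-- the normal subgroup of order 7 -/
def K : Subgroup (G0 × G0 × G0 × DihedralGroup 7) where
  carrier := {x | x.1 = 1 ∧ x.2.1 = 1 ∧ x.2.2.1 = 1 ∧ x.2.2.2 ^ 7 = 1}
  mul_mem' := by
    rintro ⟨a, b, c, d⟩ ⟨a', b', c', d'⟩ ⟨h1, h2, h3, h4⟩ ⟨h1', h2', h3', h4'⟩
    simp only at h1 h2 h3 h4 h1' h2' h3' h4'
    subst h1 h2 h3 h1' h2' h3'
    exact ⟨one_mul _, one_mul _, one_mul _, d7_mul d d' h4 h4'⟩
  one_mem' := ⟨rfl, rfl, rfl, one_pow _⟩
  inv_mem' := by
    rintro ⟨a, b, c, d⟩ ⟨h1, h2, h3, h4⟩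
    simp only at h1 h2 h3 h4
    subst h1 h2 h3
    refine ⟨inv_one, inv_one, inv_one, ?_⟩
    show d⁻¹ ^ 7 = 1
    rw [inv_pow, h4, inv_one]

instance K_normal : K.Normal := by
  refine ⟨?_⟩
  rintro ⟨a, b, c, d⟩ ⟨h1, h2, h3, h4⟩ ⟨a', b', c', d'⟩
  simp only at h1 h2 h3 h4
  subst h1 h2 h3
  refine ⟨?_, ?_, ?_, ?_⟩
  · show a' * 1 * a'⁻¹ = 1
    group
  · show b' * 1 * b'⁻¹ = 1
    group
  · show c' * 1 * c'⁻¹ = 1
    group
  · show (d' * d * d'⁻¹) ^ 7 = 1
    rw [conj_pow, h4]; group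

theorem K_ne_bot : K ≠ ⊥ := by
  intro h
  have hmem : ((1 : G0), (1 : G0), (1 : G0), DihedralGroup.r (1 : ZMod 7)) ∈ K := by
    refine ⟨rfl, rfl, rfl, ?_⟩
    show DihedralGroup.r (1 : ZMod 7) ^ 7 = 1
    decide
  rw [h, Subgroup.mem_bot] at hmem
  have h2 : DihedralGroup.r (1 : ZMod 7) = 1 := congrArg (fun x => x.2.2.2) hmem
  revert h2
  decide

theorem K_solvable : Group.IsSolvable K := by
  apply Group.isSolvable_of_comm
  rintro ⟨⟨a, b, c, d⟩, h1, h2, h3, h4⟩ ⟨⟨a', b', c', d'⟩, h1', h2', h3', h4'⟩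
  simp only at h1 h2 h3 h4 h1' h2' h3' h4'
  subst h1 h2 h3 h1' h2' h3'
  apply Subtype.ext
  show ((1 : G0) * 1, (1 : G0) * 1, (1 : G0) * 1, d * d') = ((1 : G0) * 1, (1 : G0) * 1, (1 : G0) * 1, d' * d)
  rw [d7_comm d d' h4 h4']

/-- Let J be the first Janko group. Then there are finite groups of arbitrarily large order with exactly the same set of element orders as J × J × J × J. -/
theorem result (N : ℕ) : ∃ (H : Type) (_ : Group H) (_ : Fintype H), N < Fintype.card H ∧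
      Set.range (orderOf : H → ℕ) = Set.range (orderOf : ↥Cfsg.Spor.J1 × ↥Cfsg.Spor.J1 × ↥Cfsg.Spor.J1 × ↥Cfsg.Spor.J1 → ℕ) := by
  obtain ⟨H, hG, hF, hN, hsp⟩ :=
    Cfsg.Agent.S3444.result (G := G0 × G0 × G0 × DihedralGroup 7) K K_ne_bot K_solvable N
  exact ⟨H, hG, hF, hN, hsp.trans spec_eq⟩

end Cfsg.Agent.S3627
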