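import Cfsg.Statements.S3639
-- import your own Cfsg.Agent.* helpers here
import Cfsg.Agent.Helper11.SzGraphB

set_option autoImplicit false
open Cfsg

namespace Cfsg.Agent.S3639

/-- Let S be the Suzuki group over the field with q = 2^(2m+1) ≥ 8 elements. Then there are finite groups of arbitrarily large order with the same prime graph as S. -/
theorem result {F : Type*} [Field F] [Fintype F] {m : ℕ} (hm : 1 ≤ m) (hF : Fintype.card F = 2 ^ (2 * m + 1)) (N : ℕ) :
    ∃ (H : Type) (_ : Group H) (_ : Fintype H), N < Fintype.card H ∧ ((∀ r : ℕ, r.Prime → (r ∣ Nat.card ↥(Cfsg.Lie.Sz F (2 ^ (m + 1))) ↔ r ∣ Nat.card H)) ∧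
      (∀ r s : ℕ, r.Prime → s.Prime → r ≠ s → ((∃ x : ↥(Cfsg.Lie.Sz F (2 ^ (m + 1))), orderOf x = r * s) ↔ (∃ y : H, orderOf y = r * s)))) := by
  classical
  let S := ↥(Cfsg.Sz F m)
  let A := Fin (N + 1) → (Fin 4 → F)
  have hexp : ∀ a : A, a + a = 0 := by
    intro a
    have h2 := Cfsg.Agent.Helper2.SzO.two_eq_zero hF
    funext i j
    change a i j + a i j = 0
    linear_combination (a i j) * h2
  have hfix : ∀ (g : S) (s : ℕ), s.Prime → s ≠ 2 → orderOf g = s → ∀ v : A, g • v = v → v = 0 := by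
    intro g s hs hs2 hg v hv
    funext i
    exact Cfsg.Agent.Helper11.SzGraph.no_fixed_vector hF hm g s hs hs2 hg (v i) (congrFun hv i)
  have hfin : Finite (Cfsg.Agent.Helper11.SzGraph.SD S A) :=
    Finite.of_equiv _ SemidirectProduct.equivProd.symm
  let e : Shrink.{0} (Cfsg.Agent.Helper11.SzGraph.SD S A) ≃* Cfsg.Agent.Helper11.SzGraph.SD S A :=
    Shrink.mulEquiv
  let eS : S ≃* ↥(Cfsg.Lie.Sz F (2 ^ (m + 1))) := Cfsg.Agent.Helper11.SzBridge.szEquiv hF hm
  have hcardA : Nat.card A = (Fintype.card F ^ 4) ^ (N + 1) := by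
    rw [Nat.card_eq_fintype_card]
    simp [A]
  have hcardH : Nat.card (Shrink.{0} (Cfsg.Agent.Helper11.SzGraph.SD S A)) = Nat.card A * Nat.card S := by
    rw [Nat.card_congr e.toEquiv, Cfsg.Agent.Helper11.SzGraph.card_SD]
  have hcardS : Nat.card S = Nat.card ↥(Cfsg.Lie.Sz F (2 ^ (m + 1))) := Nat.card_congr eS.toEquiv
  have hSpos : 0 < Nat.card S := Nat.card_pos
  refine ⟨Shrink.{0} (Cfsg.Agent.Helper11.SzGraph.SD S A), inferInstance, Fintype.ofFinite _, ?_, ?_, ?_⟩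
  · rw [Fintype.card_eq_nat_card, hcardH, hcardA, hF]
    have h1 : N < 2 ^ (N + 1) := lt_trans (Nat.lt_succ_self N) Nat.lt_two_pow_self
    have h2 : 2 ^ (N + 1) ≤ ((2 ^ (2 * m + 1)) ^ 4) ^ (N + 1) := by
      apply Nat.pow_le_pow_left
      calc 2 = 2 ^ 1 := by norm_num
        _ ≤ 2 ^ ((2 * m + 1) * 4) := Nat.pow_le_pow_right (by norm_num) (by omega)
        _ = (2 ^ (2 * m + 1)) ^ 4 := by rw [pow_mul]
    calc N < ((2 ^ (2 * m + 1)) ^ 4) ^ (N + 1) := lt_of_lt_of_le h1 h2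
      _ ≤ ((2 ^ (2 * m + 1)) ^ 4) ^ (N + 1) * Nat.card S := Nat.le_mul_of_pos_right _ hSpos
  · intro r hr
    rw [hcardH, ← hcardS]
    constructor
    · intro h
      exact Dvd.dvd.mul_left h _
    · intro h
      rcases (Nat.Prime.dvd_mul hr).mp h with h1 | h1
      · rw [hcardA, hF] at h1
        have hr2 : r = 2 := by
          have := hr.dvd_of_dvd_pow (hr.dvd_of_dvd_pow (hr.dvd_of_dvd_pow h1))
          exact (Nat.prime_dvd_prime_iff_eq hr Nat.prime_two).mp this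
        rw [hr2, hcardS, Cfsg.Agent.Helper11.SzLie.card_lieSz hF hm]
        apply Dvd.dvd.mul_right
        apply Dvd.dvd.mul_right
        rw [← pow_mul]
        exact dvd_pow_self 2 (by omega)
      · exact h1
  · intro r s hr hs hrs
    have key := Cfsg.Agent.Helper11.SzGraph.exists_orderOf (S := S) (A := A) hexp hfix r s hr hs hrs
    constructor
    · rintro ⟨x, hx⟩
      obtain ⟨y, hy⟩ := key.mp ⟨eS.symm x, by rw [MulEquiv.orderOf_eq, hx]⟩
      exact ⟨e.symm y, by rw [MulEquiv.orderOf_eq, hy]⟩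
    · rintro ⟨y, hy⟩
      obtain ⟨x, hx⟩ := key.mpr ⟨e y, by rw [MulEquiv.orderOf_eq, hy]⟩
      exact ⟨eS x, by rw [MulEquiv.orderOf_eq, hx]⟩

end Cfsg.Agent.S3639
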