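import Cfsg.Statements.S3641
import Cfsg.Agent.S0732
import Cfsg.Agent.Helper16.S3641Defs
import Cfsg.Agent.Helper15.S3641ARITH
import Cfsg.Agent.Helper9.S3641PERM
import Cfsg.Agent.Helper22.S3641N2
import Cfsg.Agent.Helper25.S3641N3
import Cfsg.Agent.Helper25.S3641ORD9
import Cfsg.Agent.Helper4.S3641LIFT
import Cfsg.Agent.Helper5.S3641NO519
import Cfsg.Agent.Helper21.S3641KTRIV
import Cfsg.Agent.Helper3.S3641TRANSPORT

set_option autoImplicit false
set_option linter.style.haveILetI false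
open Cfsg

namespace Cfsg.Agent.S3641

open Cfsg.Agent.S3641P

/-- Let G be a finite group with trivial centre whose set of Sylow numbers (numbers of Sylow r-subgroups, r over the prime divisors of its order) is exactly {18, 136, 153}. Then G is isomorphic to PSL(2, 17) or to PGL(2, 17). -/
theorem result {G : Type*} [Group G] [Finite G] (hZ : Subgroup.center G = ⊥) (hNS : {c : ℕ | ∃ r : ℕ, r.Prime ∧ r ∣ Nat.card G ∧ c = Nat.card (Sylow r G)} = ({18, 136, 153} : Set ℕ))
    {F : Type*} [Field F] [Fintype F] (hF : Fintype.card F = 17) :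
    Nonempty (G ≃* Matrix.ProjectiveSpecialLinearGroup (Fin 2) F) ∨ Nonempty (G ≃* (GL (Fin 2) F ⧸ Subgroup.center (GL (Fin 2) F))) := by
  classical
  haveI h17 : Fact (Nat.Prime 17) := ⟨by norm_num⟩
  haveI h2 : Fact (Nat.Prime 2) := ⟨by norm_num⟩
  haveI h3 : Fact (Nat.Prime 3) := ⟨by norm_num⟩
  obtain ⟨hn17, hn2, hn3, hprimes, hn5, hn19⟩ := ARITH hNS
  haveI : Fintype (Sylow 17 G) := Fintype.ofFinite _
  obtain ⟨d, hZ18⟩ := PERM (G := G) hn17
  set φ : G →* Equiv.Perm (Sylow 17 G) := MulAction.toPermHom G (Sylow 17 G) with hφ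
  set H : Subgroup (Equiv.Perm (Sylow 17 G)) := φ.range with hH
  haveI := hZ18.htr
  have hd17 : d < 17 := by
    have := Nat.le_of_dvd (by norm_num) hZ18.hd
    omega
  have hS := Cfsg.Agent.S0732.result (α := Sylow 17 G) (p := 17) (d := d) (by norm_num)
    (by rw [hZ18.hΩ]) H (by rw [hZ18.hcard]) hd17
  -- the surjection onto `H`
  let f : G →* H := φ.rangeRestrict
  have hf : Function.Surjective f := φ.rangeRestrict_surjective
  have hker : f.ker = φ.ker := φ.ker_rangeRestrict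
  -- `d`, an element of order 9, and the isomorphism type
  have hmain : (d = 8 ∨ d = 16) ∧ (∃ x : H, orderOf x = 9) ∧
      (Nonempty (H ≃* Matrix.ProjectiveSpecialLinearGroup (Fin 2) F) ∨
        Nonempty (H ≃* (GL (Fin 2) F ⧸ Subgroup.center (GL (Fin 2) F)))) := by
    rcases hS with ⟨hd, ⟨e⟩⟩ | ⟨hd, ⟨e⟩⟩ | ⟨q, hq, h18, -⟩
    · refine ⟨Or.inr (by omega), ?_, Or.inr ?_⟩
      · obtain ⟨x, hx⟩ := ORD9.pgl
        exact ⟨e.symm x, by rw [MulEquiv.orderOf_eq]; exact hx⟩
      · obtain ⟨t⟩ := TRANSPORT.pgl hF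
        exact ⟨e.trans t⟩
    · refine ⟨Or.inl (by omega), ?_, Or.inl ?_⟩
      · obtain ⟨x, hx⟩ := ORD9.psl
        exact ⟨e.symm x, by rw [MulEquiv.orderOf_eq]; exact hx⟩
      · obtain ⟨t⟩ := TRANSPORT.psl hF
        exact ⟨e.trans t⟩
    · exfalso
      have hq2 : 2 ≤ q := hq.two_le
      have : q ≤ 4 := by
        by_contra hcon
        push Not at hcon
        have : (2 : ℕ) ^ 5 ≤ 2 ^ q := Nat.pow_le_pow_right (by norm_num) hcon
        omega
      interval_cases q <;> omega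
  obtain ⟨hd, h9, hiso⟩ := hmain
  -- Sylow numbers of `H`
  have hH2 : Nat.card (Sylow 2 H) = 153 := N2 H d hZ18 hd
  have hH3 : Nat.card (Sylow 3 H) = 136 := by
    apply N3 H d hZ18 hd h9
    rw [← hn3]; exact LIFT.dvd f hf 3
  -- the kernel normalises every Sylow 17-subgroup
  have hK17 : ∀ P : Sylow 17 G, φ.ker ≤ Subgroup.normalizer ((P : Subgroup G) : Set G) := by
    intro P k hk
    have h1 : φ k = 1 := hk
    have h2 : k • P = P := by
      have : φ k P = P := by rw [h1]; rfl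
      exact this
    exact Sylow.smul_eq_iff_mem_normalizer.mp h2
  -- index of the kernel
  have hindex : φ.ker.index = 18 * 17 * d := by
    rw [Subgroup.index_ker, ← hZ18.hcard]
  have hK : φ.ker = ⊥ := by
    apply KTRIV hZ
    intro r hr hrG R
    rcases hprimes r hr.out hrG with rfl | rfl | rfl | rfl | rfl
    · rw [← hker]; exact LIFT f hf 2 (by rw [hH2, hn2]) R
    · rw [← hker]; exact LIFT f hf 3 (by rw [hH3, hn3]) R
    · exfalso
      refine NO519 φ.ker hK17 5 (Or.inl rfl) ?_ (Or.inl (hn5 hrG))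
      rw [hindex]
      rcases hd with rfl | rfl <;> norm_num
    · exact hK17 R
    · exfalso
      refine NO519 φ.ker hK17 19 (Or.inr rfl) ?_ (Or.inr (hn19 hrG))
      rw [hindex]
      rcases hd with rfl | rfl <;> norm_num
  have hinj : Function.Injective φ := (MonoidHom.ker_eq_bot_iff φ).mp hK
  let E : G ≃* H := MonoidHom.ofInjective hinj
  rcases hiso with ⟨⟨e⟩⟩ | ⟨⟨e⟩⟩
  · exact Or.inl ⟨E.trans e⟩
  · exact Or.inr ⟨E.trans e⟩

end Cfsg.Agent.S3641
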