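import Cfsg.Statements.S3662
import Cfsg.Agent.Helper19.G24.Mod
import Cfsg.Agent.Helper17.SolvRad
import Cfsg.Agent.Helper13.G2UG

set_option autoImplicit false
open Cfsg

namespace Cfsg.Agent.S3662

open Cfsg.Lie Cfsg.Agent.Helper19.Sp4 Cfsg.Agent.Helper19.G24 SemidirectProduct

/-- the prime divisors of `#G₂(4)` -/
theorem prime_cases {q : ℕ} (hq : q.Prime) (h : q ∣ 251596800) :
    q = 2 ∨ q = 3 ∨ q = 5 ∨ q = 7 ∨ q = 13 := by
  have e : (251596800 : ℕ) = 2 ^ 12 * 3 ^ 3 * 5 ^ 2 * 7 * 13 := by norm_num
  rw [e] at h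
  have p7 : Nat.Prime 7 := by norm_num
  have p13 : Nat.Prime 13 := by norm_num
  rcases (Nat.Prime.dvd_mul hq).mp h with h | h
  · rcases (Nat.Prime.dvd_mul hq).mp h with h | h
    · rcases (Nat.Prime.dvd_mul hq).mp h with h | h
      · rcases (Nat.Prime.dvd_mul hq).mp h with h | h
        · exact Or.inl ((Nat.prime_dvd_prime_iff_eq hq Nat.prime_two).mp (hq.dvd_of_dvd_pow h))
        · exact Or.inr (Or.inl ((Nat.prime_dvd_prime_iff_eq hq Nat.prime_three).mp (hq.dvd_of_dvd_pow h)))
      · exact Or.inr (Or.inr (Or.inl ((Nat.prime_dvd_prime_iff_eq hq Nat.prime_five).mp (hq.dvd_of_dvd_pow h))))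
    · exact Or.inr (Or.inr (Or.inr (Or.inl ((Nat.prime_dvd_prime_iff_eq hq p7).mp h))))
  · exact Or.inr (Or.inr (Or.inr (Or.inr ((Nat.prime_dvd_prime_iff_eq hq p13).mp h))))

/-- the split extension of the six-dimensional module by `G₂(4)` -/
abbrev H1 : Type := Multiplicative V6 ⋊[phi] St

/-- the split extension has the prime graph of `G₂(4)` -/
theorem samePG_H1 : SamePG St H1 := by
  apply samePG_semidirect phi
  · exact mul_self_V6
  · rw [card_St]
    norm_num
  · intro q hq hq2 hqG
    rw [card_St] at hqG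
    rcases prime_cases hq hqG with rfl | rfl | rfl | rfl | rfl
    · exact absurd rfl hq2
    · exact Or.inl ⟨stW w6, order_w6⟩
    · exact Or.inl ⟨stW w10, order_w10⟩
    · right
      have : Fact (Nat.Prime 7) := ⟨hq⟩
      exact fpf_of_one phi 7 (by rw [card_St]; norm_num) (stW w7) order_w7 fpf_w7
    · right
      have : Fact (Nat.Prime 13) := ⟨hq⟩
      exact fpf_of_one phi 13 (by rw [card_St]; norm_num) (stW w13) order_w13 fpf_w13

instance : Finite H1 := Finite.of_equiv _ (SemidirectProduct.equivProd (φ := phi)).symm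

/-- the groups of the statement over any field with four elements -/
theorem samePG_group {F : Type*} [Field F] [Fintype F] (hF : Fintype.card F = 4) :
    SamePG ↥(chevG2.group F) St := by
  have e : F ≃+* F4 := FiniteField.ringEquivOfCardEq (by rw [hF, F4.card_eq])
  obtain ⟨e1⟩ := Cfsg.Agent.Helper13.G2UG.group_base_change chevG2 e
  obtain ⟨e2⟩ := exists_iso
  exact SamePG.of_equiv (e1.trans e2.symm)

/-- The prime graph of a finite group has the prime divisors of its order as vertices, two distinct primes p, q being joined when the group has an element of order pq; two groups have the same prime graph when they have the same prime divisors and the same joined pairs. Let F be the field with 4 elements and L the Chevalley group of type G₂ over F. There are finite groups of arbitrarily large order with the same prime graph as L. -/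
theorem result {F : Type*} [Field F] [Fintype F] (hF : Fintype.card F = 4) (N : ℕ) :
    ∃ (H : Type) (_ : Group H) (_ : Finite H), N < Nat.card H ∧
      ((∀ p : ℕ, p.Prime → (p ∣ Nat.card ↥(Cfsg.Lie.chevG2.group F) ↔ p ∣ Nat.card H)) ∧
      (∀ p q : ℕ, p.Prime → q.Prime → p ≠ q → ((∃ g : ↥(Cfsg.Lie.chevG2.group F), orderOf g = p * q) ↔ (∃ g : H, orderOf g = p * q)))) := by
  -- the normal subgroup of exponent two
  set V₁ : Subgroup H1 := (inl : Multiplicative V6 →* H1).range with hV₁
  have hV₁n : V₁.Normal := by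
    rw [hV₁, range_inl_eq_ker_rightHom]
    exact MonoidHom.normal_ker _
  have hV₁ne : V₁ ≠ ⊥ := by
    intro h
    have hm : (inl (Multiplicative.ofAdd (fun _ => (1 : F4)) : Multiplicative V6) : H1) ∈ V₁ := ⟨_, rfl⟩
    rw [h, Subgroup.mem_bot] at hm
    have h2 := inl_injective (φ := phi) (hm.trans (map_one _).symm)
    have h3 := congrFun (Multiplicative.ofAdd.injective h2) 0
    revert h3
    decide
  have hexp : ∀ x : V₁, x ^ 2 = 1 := by
    rintro ⟨x, n, rfl⟩
    apply Subtype.ext
    show (inl n : H1) ^ 2 = 1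
    rw [← map_pow, pow_two, mul_self_V6]
    exact map_one _
  obtain ⟨G', hG', hF', hcard, hsp⟩ :=
    Cfsg.Agent.Helper17.exists_large_isospectral N H1 V₁ hV₁n hV₁ne 2 Nat.prime_two hexp
  have hPG : SamePG ↥(chevG2.group F) G' :=
    ((samePG_group hF).trans samePG_H1).trans (SamePG.of_range hsp).symm
  refine ⟨G', hG', hF', ?_, hPG.1, hPG.2⟩
  calc N < 2 ^ N := Nat.lt_two_pow_self
    _ ≤ 2 ^ N * Nat.card H1 := Nat.le_mul_of_pos_right _ Nat.card_pos
    _ ≤ Nat.card G' := hcard

end Cfsg.Agent.S3662
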