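import Cfsg.Statements.S3682
import Cfsg.Agent.Helper10.WBBridge

set_option autoImplicit false
open Cfsg

namespace Cfsg.Agent.S3682

/-- Wielandt's bound toward the Sims conjecture. Let a finite group G act faithfully and primitively on a set Ω, let a and b be points, and suppose the orbit of b under the stabilizer of a has length d ≥ 2. Then there are a prime p and a normal p-subgroup P of the stabilizer of a, all of whose elements fix b, such that the index of P in the stabilizer of a divides d! · ((d - 1)!)^d. -/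
theorem result {G Ω : Type*} [Group G] [Finite G] [MulAction G Ω] [FaithfulSMul G Ω] [Finite Ω]
    (hprim : MulAction.IsPreprimitive G Ω) (a b : Ω) (d : ℕ) (hd : Nat.card (MulAction.orbit (MulAction.stabilizer G a) b) = d) (h2 : 2 ≤ d) :
    ∃ p : ℕ, p.Prime ∧ ∃ P : Subgroup (MulAction.stabilizer G a), P.Normal ∧ IsPGroup p P ∧ (∀ g : P, ((g : MulAction.stabilizer G a) : G) • b = b) ∧
      P.index ∣ Nat.factorial d * (Nat.factorial (d - 1)) ^ d := by
  open Cfsg.Agent.Helper10.WB Cfsg.Agent.Helper10.TW in
  have hpt : MulAction.IsPretransitive G Ω := hprim.toIsPretransitive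
  have hmov := exists_moving (G := G) a b d hd h2
  by_cases hA : cA₂ (MulAction.stabilizer G a) (MulAction.stabilizer G b) = ⊥
  · refine ⟨2, Nat.prime_two, ⊥, inferInstance, IsPGroup.of_bot, ?_, ?_⟩
    · rintro ⟨g, hg⟩
      rw [Subgroup.mem_bot] at hg
      subst hg
      simp
    · rw [Subgroup.index_bot]
      exact card_stabilizer_dvd a b d hd (Or.inl hA)
  by_cases hB : cA₂ (MulAction.stabilizer G b) (MulAction.stabilizer G a) = ⊥
  · refine ⟨2, Nat.prime_two, ⊥, inferInstance, IsPGroup.of_bot, ?_, ?_⟩
    · rintro ⟨g, hg⟩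
      rw [Subgroup.mem_bot] at hg
      subst hg
      simp
    · rw [Subgroup.index_bot]
      exact card_stabilizer_dvd a b d hd (Or.inr hB)
  have S := setup_of_action hprim a b hmov hA hB
  obtain ⟨p, hp, hA₂, _⟩ := S.exists_prime
  refine ⟨p, hp, (cA₂ (MulAction.stabilizer G a) (MulAction.stabilizer G b)).subgroupOf
    (MulAction.stabilizer G a), Subgroup.normal_subgroupOf_of_le_normalizer S.M₁_le_normalizer_A₂,
    hA₂.comap_subtype, ?_, relIndex_cA₂_dvd a b d hd⟩
  rintro ⟨g, hg⟩
  rw [Subgroup.mem_subgroupOf] at hg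
  exact MulAction.mem_stabilizer_iff.1 (S.A₂_le_M₂ hg)

end Cfsg.Agent.S3682
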