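import Cfsg.Statements.S3683
-- import your own Cfsg.Agent.* helpers here

set_option autoImplicit false
open Cfsg

namespace Cfsg.Agent.S3683

/-- Let a finite group G act faithfully and primitively on a set Ω, and suppose the stabilizer of a point a fixes a second point b ≠ a (a suborbit of length 1 other than {a}). Then the stabilizer of a is trivial and G is cyclic of prime order. -/
theorem result {G Ω : Type*} [Group G] [Finite G] [MulAction G Ω] [FaithfulSMul G Ω] [Finite Ω]
    (hprim : MulAction.IsPreprimitive G Ω) (a b : Ω) (hab : a ≠ b) (hfix : ∀ g : G, g • a = a → g • b = b) :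
    MulAction.stabilizer G a = ⊥ ∧ IsCyclic G ∧ (Nat.card G).Prime := by
  classical
  have : Nontrivial Ω := ⟨⟨a, b, hab⟩⟩
  have := hprim
  have hca : IsCoatom (MulAction.stabilizer G a) :=
    MulAction.IsPreprimitive.isCoatom_stabilizer_of_isPreprimitive G a
  have hcb : IsCoatom (MulAction.stabilizer G b) :=
    MulAction.IsPreprimitive.isCoatom_stabilizer_of_isPreprimitive G b
  have hle : MulAction.stabilizer G a ≤ MulAction.stabilizer G b := fun g hg => hfix g hg
  have heq : MulAction.stabilizer G a = MulAction.stabilizer G b := by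
    rcases eq_or_lt_of_le hle with h | h
    · exact h
    · exact absurd (hca.2 _ h) hcb.1
  -- the stabilizer is normal
  obtain ⟨g, hg⟩ := MulAction.exists_smul_eq G a b
  have hgN : g ∈ Subgroup.normalizer ((MulAction.stabilizer G a : Subgroup G) : Set G) := by
    rw [Subgroup.mem_normalizer_iff]
    intro h
    have h1 : MulAction.stabilizer G (g • a) = (MulAction.stabilizer G a).map (MulAut.conj g).toMonoidHom :=
      MulAction.stabilizer_smul_eq_stabilizer_map_conj g a
    constructor
    · intro hh
      have : g * h * g⁻¹ ∈ MulAction.stabilizer G (g • a) := by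
        rw [h1]; exact ⟨h, hh, rfl⟩
      rw [hg, ← heq] at this
      exact this
    · intro hh
      have : g * h * g⁻¹ ∈ MulAction.stabilizer G (g • a) := by
        rw [hg, ← heq]; exact hh
      rw [h1] at this
      obtain ⟨k, hk, hk'⟩ := this
      have : k = h := by
        simp only [MulEquiv.coe_toMonoidHom, MulAut.conj_apply] at hk'
        have := congrArg (fun t => g⁻¹ * t * g) hk'
        simpa [mul_assoc] using this
      rw [← this]; exact hk
  have hgnot : g ∉ MulAction.stabilizer G a := by
    intro h
    rw [MulAction.mem_stabilizer_iff] at h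
    exact hab (h.symm.trans hg)
  have hnorm : Subgroup.normalizer ((MulAction.stabilizer G a : Subgroup G) : Set G) = ⊤ := by
    apply hca.2
    apply lt_of_le_of_ne Subgroup.le_normalizer
    intro h
    apply hgnot
    rw [h]; exact hgN
  have hN : (MulAction.stabilizer G a).Normal := Subgroup.normalizer_eq_top_iff.mp hnorm
  have hbot : MulAction.stabilizer G a = ⊥ := by
    rw [Subgroup.eq_bot_iff_forall]
    intro x hx
    apply FaithfulSMul.eq_of_smul_eq_smul (α := Ω)
    intro c
    obtain ⟨k, rfl⟩ := MulAction.exists_smul_eq G a c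
    have : k⁻¹ * x * k ∈ MulAction.stabilizer G a := by
      have := hN.conj_mem x hx k⁻¹
      simpa using this
    rw [MulAction.mem_stabilizer_iff] at this
    rw [one_smul]
    calc x • k • a = k • (k⁻¹ * x * k) • a := by simp [mul_smul]
      _ = k • a := by rw [this]
  refine ⟨hbot, ?_⟩
  rw [hbot] at hca
  -- every nontrivial subgroup is top
  have hsub : ∀ H : Subgroup G, H ≠ ⊥ → H = ⊤ := fun H hH => hca.2 H (bot_lt_iff_ne_bot.mpr hH)
  have hne : (⊥ : Subgroup G) ≠ ⊤ := hca.1
  obtain ⟨x, hx⟩ : ∃ x : G, x ≠ 1 := by
    by_contra hcon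
    push Not at hcon
    apply hne
    rw [eq_comm, Subgroup.eq_bot_iff_forall]
    intro x _; exact hcon x
  have hzx : Subgroup.zpowers x = ⊤ := hsub _ (by
    intro h
    apply hx
    have : x ∈ Subgroup.zpowers x := Subgroup.mem_zpowers x
    rw [h, Subgroup.mem_bot] at this
    exact this)
  have hcyc : IsCyclic G := ⟨⟨x, fun y => by
    have : y ∈ Subgroup.zpowers x := by rw [hzx]; trivial
    exact this⟩⟩
  refine ⟨hcyc, ?_⟩
  have hcard1 : Nat.card G ≠ 1 := by
    intro h
    rw [Nat.card_eq_one_iff_unique] at h
    exact hx (h.1.elim x 1)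
  obtain ⟨p, hp, hpd⟩ := Nat.exists_prime_and_dvd hcard1
  have : Fact p.Prime := ⟨hp⟩
  obtain ⟨y, hy⟩ := exists_prime_orderOf_dvd_card' p hpd
  have hzy : Subgroup.zpowers y = ⊤ := hsub _ (by
    intro h
    have : y ∈ Subgroup.zpowers y := Subgroup.mem_zpowers y
    rw [h, Subgroup.mem_bot] at this
    rw [this, orderOf_one] at hy
    exact hp.one_lt.ne hy)
  have : Nat.card G = p := by
    rw [← hy, ← Nat.card_zpowers, hzy, Subgroup.card_top]
  rw [this]; exact hp

end Cfsg.Agent.S3683
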