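import Mathlib
import Cfsg.Statements.S3733
import Cfsg.Agent.Helper19.ConjAction

set_option autoImplicit false
open Cfsg

namespace Cfsg.Agent.S3733

open Cfsg.Agent.Helper19
open scoped IsMulCommutative

section
variable {G : Type*} [Group G] [Finite G]

/-- The finite set of elements of a subgroup. -/
noncomputable def fs (B : Subgroup G) : Finset G := (Set.toFinite (B : Set G)).toFinset

lemma mem_fs {B : Subgroup G} {g : G} : g ∈ fs B ↔ g ∈ B := by
  simp [fs]

variable (V : Subgroup G) [hVab : IsMulCommutative V]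

/-- The "trace" of `v` over a finite set `S` of elements. -/
noncomputable def tr (S : Finset G) (v : V) : V := ∏ a ∈ S, cjHom V a v

lemma tr_fixed {B : Subgroup G} (hB : B ≤ Subgroup.normalizer (V : Set G)) {c : G} (hc : c ∈ B)
    (v : V) : cjHom V c (tr V (fs B) v) = tr V (fs B) v := by
  unfold tr
  rw [map_prod]
  refine Finset.prod_equiv (Equiv.mulLeft c) ?_ ?_
  · intro b
    simp only [mem_fs, Equiv.coe_mulLeft]
    exact ⟨fun hb => B.mul_mem hc hb, fun hb => by simpa using B.mul_mem (B.inv_mem hc) hb⟩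
  · intro b hb
    rw [mem_fs] at hb
    rw [cjHom_mul (hB hc) (hB hb)]
    rfl

lemma tr_mem_centralizer {B : Subgroup G} (hB : B ≤ Subgroup.normalizer (V : Set G)) (v : V) :
    ((tr V (fs B) v : V) : G) ∈ V ⊓ Subgroup.centralizer (B : Set G) := by
  refine Subgroup.mem_inf.mpr ⟨(tr V (fs B) v).2, ?_⟩
  rw [Subgroup.mem_centralizer_iff]
  intro c hc
  have h := congrArg (Subtype.val) (tr_fixed V hB hc v)
  rw [cjHom_coe (hB hc)] at h
  calc c * ((tr V (fs B) v : V) : G) = (c * ((tr V (fs B) v : V) : G) * c⁻¹) * c := by group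
    _ = _ := by rw [h]

lemma tr_eq_mul_erase [DecidableEq G] (B : Subgroup G) (v : V) :
    tr V (fs B) v = v * ∏ b ∈ (fs B).erase 1, cjHom V b v := by
  unfold tr
  rw [← Finset.mul_prod_erase (fs B) _ (mem_fs.mpr B.one_mem), cjHom_one]

end

theorem result {G : Type*} [Group G] [Finite G] (A V : Subgroup G) (hVab : IsMulCommutative V) (hV : V ≠ ⊥) (hAV : A ≤ Subgroup.normalizer (V : Set G)) (𝒜 : Finset (Subgroup G)) (hne : 𝒜.Nonempty) (hprop : ∀ B ∈ 𝒜, B < A) (hpart : ∀ a ∈ A, a ≠ 1 → ∃! B, B ∈ 𝒜 ∧ a ∈ B) (hk : (𝒜.card - 1).Coprime (Nat.card V)) : ∃ B ∈ 𝒜, V ⊓ Subgroup.centralizer (B : Set G) ≠ ⊥ := by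
  classical
  by_contra hcon
  push Not at hcon
  apply hV
  -- every trace over a member of the partition is trivial
  have hB1 : ∀ B ∈ 𝒜, ∀ v : V, tr V (fs B) v = 1 := by
    intro B hB v
    have h := tr_mem_centralizer V ((hprop B hB).le.trans hAV) v
    rw [hcon B hB, Subgroup.mem_bot] at h
    exact Subtype.ext h
  -- the trace over `A` is trivial too
  have hA1 : ∀ v : V, tr V (fs A) v = 1 := by
    intro v
    obtain ⟨B, hB⟩ := hne
    have h := tr_mem_centralizer V hAV v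
    have hle : V ⊓ Subgroup.centralizer (A : Set G) ≤ V ⊓ Subgroup.centralizer (B : Set G) :=
      inf_le_inf_left _ (Subgroup.centralizer_le (hprop B hB).le)
    have h' := hle h
    rw [hcon B hB, Subgroup.mem_bot] at h'
    exact Subtype.ext h'
  -- the partition of `A \ {1}`
  have hunion : (fs A).erase 1 = 𝒜.biUnion (fun B => (fs B).erase 1) := by
    ext a
    simp only [Finset.mem_erase, mem_fs, Finset.mem_biUnion]
    constructor
    · rintro ⟨ha1, haA⟩
      obtain ⟨B, ⟨hB, haB⟩, -⟩ := hpart a haA ha1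
      exact ⟨B, hB, ha1, haB⟩
    · rintro ⟨B, hB, ha1, haB⟩
      exact ⟨ha1, (hprop B hB).le haB⟩
  have hdisj : (𝒜 : Set (Subgroup G)).PairwiseDisjoint (fun B => (fs B).erase 1) := by
    intro B hB C hC hBC
    rw [Function.onFun, Finset.disjoint_left]
    intro a haB haC
    simp only [Finset.mem_erase, mem_fs] at haB haC
    obtain ⟨D, -, hD⟩ := hpart a ((hprop B hB).le haB.2) haB.1
    exact hBC ((hD B ⟨hB, haB.2⟩).trans (hD C ⟨hC, haC.2⟩).symm)
  -- every element of V is killed by `|𝒜| - 1`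
  have hpow : ∀ v : V, v ^ (𝒜.card - 1) = 1 := by
    intro v
    have h1 := tr_eq_mul_erase V A v
    rw [hA1 v, hunion, Finset.prod_biUnion hdisj] at h1
    have h2 : ∀ B ∈ 𝒜, ∏ b ∈ (fs B).erase 1, cjHom V b v = v⁻¹ := by
      intro B hB
      have := tr_eq_mul_erase V B v
      rw [hB1 B hB v] at this
      exact (inv_eq_of_mul_eq_one_right this.symm).symm
    rw [Finset.prod_congr rfl h2, Finset.prod_const] at h1
    have hcard : 𝒜.card = (𝒜.card - 1) + 1 := by
      have := Finset.card_pos.mpr hne; omega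
    rw [hcard, pow_succ, inv_pow] at h1
    have : v * ((v ^ (𝒜.card - 1))⁻¹ * v⁻¹) = (v ^ (𝒜.card - 1))⁻¹ := by
      rw [mul_comm ((v ^ (𝒜.card - 1))⁻¹) v⁻¹, ← mul_assoc, mul_inv_cancel, one_mul]
    rw [this] at h1
    exact inv_eq_one.mp h1.symm
  rw [Subgroup.eq_bot_iff_forall]
  intro x hx
  have h1 : orderOf (⟨x, hx⟩ : V) ∣ 𝒜.card - 1 := orderOf_dvd_of_pow_eq_one (hpow ⟨x, hx⟩)
  have h2 : orderOf (⟨x, hx⟩ : V) ∣ Nat.card V := orderOf_dvd_natCard _
  have h3 : orderOf (⟨x, hx⟩ : V) = 1 := Nat.eq_one_of_dvd_coprimes hk h1 h2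
  have := orderOf_eq_one_iff.mp h3
  exact congrArg Subtype.val this

end Cfsg.Agent.S3733
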