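import Mathlib
import Cfsg.Statements.S3748
import Cfsg.Agent.Helper19.Subnormal
import Cfsg.Agent.Helper7.Fitting
import Cfsg.Agent.S0064

set_option autoImplicit false
open Cfsg

namespace Cfsg.Agent.S3748

open Cfsg.Agent.Helper19

/-- If conjugation by every element of `T` maps the family `S` into itself, then `T` normalizes
the join of `S`. -/
lemma le_normalizer_sSup {G : Type*} [Group G] {T : Subgroup G} {S : Set (Subgroup G)}
    (h : ∀ g ∈ T, ∀ L ∈ S, L.map (MulAut.conj g).toMonoidHom ∈ S) :
    T ≤ Subgroup.normalizer ((sSup S : Subgroup G) : Set G) := by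
  have key : ∀ g ∈ T, (sSup S).map (MulAut.conj g).toMonoidHom ≤ sSup S := by
    intro g hg
    rw [Subgroup.map_le_iff_le_comap]
    apply sSup_le
    intro L hL
    rw [← Subgroup.map_le_iff_le_comap]
    exact le_sSup (h g hg L hL)
  intro g hg
  rw [mem_normalizer_iff_map_conj]
  apply le_antisymm (key g hg)
  have h1 := Subgroup.map_mono (f := (MulAut.conj g).toMonoidHom) (key g⁻¹ (T.inv_mem hg))
  rwa [map_conj_map_conj, mul_inv_cancel, map_conj_one] at h1

theorem result {G : Type*} [Group G] [Finite G] (M : Subgroup G) (hM : M ≠ ⊤) (hprim : ∀ N : Subgroup G, N ≤ M → M ≤ Subgroup.normalizer (N : Set G) → N ≠ ⊥ → Subgroup.normalizer (N : Set G) = M) : (∀ L : Subgroup G, L.IsSubnormal → L ≤ M → L = ⊥) ∧ M ⊓ Cfsg.fittingSubgroup G = ⊥ := by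
  have part1 : ∀ L : Subgroup G, L.IsSubnormal → L ≤ M → L = ⊥ := by
    have htop : (⊤ : Subgroup G) ≠ ⊥ := by
      intro h
      apply hM
      rw [eq_top_iff, h]
      exact bot_le
    obtain ⟨A, hA, -⟩ := exists_isMinNormal_le (N := (⊤ : Subgroup G)) inferInstance htop
    set S : Set (Subgroup G) := {L : Subgroup G | L.IsSubnormal ∧ L ≤ M} with hS
    set D : Subgroup G := sSup S with hD
    have hDM : D ≤ M := sSup_le (fun L hL => hL.2)
    have hMD : M ≤ Subgroup.normalizer (D : Set G) := by
      apply le_normalizer_sSup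
      intro g hg L hL
      refine ⟨hL.1.map (MulAut.conj g).surjective, ?_⟩
      intro y hy
      rw [mem_map_conj] at hy
      have := hL.2 hy
      have h2 : y = g * (g⁻¹ * y * g) * g⁻¹ := by group
      rw [h2]
      exact M.mul_mem (M.mul_mem hg this) (M.inv_mem hg)
    have hAD : A ≤ Subgroup.normalizer (D : Set G) := by
      apply le_normalizer_sSup
      intro g hg L hL
      have hgL : g ∈ Subgroup.normalizer (L : Set G) := hA.le_normalizer_of_isSubnormal hL.1 hg
      rw [mem_normalizer_iff_map_conj.mp hgL]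
      exact hL
    intro L hL hLM
    by_contra hL0
    have hD0 : D ≠ ⊥ := by
      intro h
      apply hL0
      rw [eq_bot_iff, ← h]
      exact le_sSup ⟨hL, hLM⟩
    have hND : Subgroup.normalizer (D : Set G) = M := hprim D hDM hMD hD0
    have hAM : A ≤ M := hND ▸ hAD
    have hAn : A.Normal := hA.1
    have hNA : Subgroup.normalizer (A : Set G) = ⊤ := Subgroup.normalizer_eq_top_iff.mpr hAn
    have := hprim A hAM (by rw [hNA]; exact le_top) hA.2.1
    rw [hNA] at this
    exact hM this.symm
  refine ⟨part1, ?_⟩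
  apply part1 _ _ inf_le_left
  have hF : Group.IsNilpotent (Cfsg.fittingSubgroup G) :=
    Cfsg.Agent.Helper7.fittingSubgroup_isNilpotent
  have hFn : (Cfsg.fittingSubgroup G).Normal := Cfsg.Agent.Helper7.fittingSubgroup_normal G
  have h1 : ((M ⊓ Cfsg.fittingSubgroup G).subgroupOf (Cfsg.fittingSubgroup G)).IsSubnormal :=
    Cfsg.Agent.S0064.isSubnormal_of_normalizerCondition
      Group.normalizerCondition_of_isNilpotent _
  exact Subgroup.IsSubnormal.trans inf_le_right h1 hFn.isSubnormal

end Cfsg.Agent.S3748
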