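import Mathlib
import Cfsg.Statements.S3735
import Cfsg.Agent.Helper19.Subnormal
import Cfsg.Agent.S3748

set_option autoImplicit false
open Cfsg

namespace Cfsg.Agent.S3735

open Cfsg.Agent.Helper19

/-- `T` is a minimal nontrivial `A`-invariant subgroup. -/
def MinInv {G : Type*} [Group G] (A T : Subgroup G) : Prop :=
  T ≠ ⊥ ∧ A ≤ Subgroup.normalizer (T : Set G) ∧
    ∀ C : Subgroup G, C ≤ T → A ≤ Subgroup.normalizer (C : Set G) → C = ⊥ ∨ C = T

lemma MinInv.map_conj {G : Type*} [Group G] {A T : Subgroup G} (hT : MinInv A T) {k : G}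
    (hk : k ∈ Subgroup.normalizer (A : Set G)) :
    MinInv A (T.map (MulAut.conj k).toMonoidHom) := by
  obtain ⟨hT0, hAT, hmin⟩ := hT
  refine ⟨fun h => hT0 (map_conj_eq_bot_iff.mp h), le_normalizer_map_conj hAT hk, ?_⟩
  intro C hC hAC
  have hk' : k⁻¹ ∈ Subgroup.normalizer (A : Set G) := Subgroup.inv_mem _ hk
  have h1 : C.map (MulAut.conj k⁻¹).toMonoidHom ≤ T := by
    have := Subgroup.map_mono (f := (MulAut.conj k⁻¹).toMonoidHom) hC
    rwa [map_conj_map_conj, inv_mul_cancel, map_conj_one] at this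
  have hback : (C.map (MulAut.conj k⁻¹).toMonoidHom).map (MulAut.conj k).toMonoidHom = C := by
    rw [map_conj_map_conj, mul_inv_cancel, map_conj_one]
  rcases hmin _ h1 (le_normalizer_map_conj hAC hk') with h | h
  · left; exact map_conj_eq_bot_iff.mp h
  · right; rw [← hback, h]

/-- Every nontrivial `A`-invariant subgroup contains a minimal one. -/
lemma exists_minInv_le {G : Type*} [Group G] [Finite G] {A W : Subgroup G} (hW0 : W ≠ ⊥)
    (hAW : A ≤ Subgroup.normalizer (W : Set G)) : ∃ T : Subgroup G, T ≤ W ∧ MinInv A T := by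
  obtain ⟨B, hBW, hBmin⟩ := exists_minimal_le_of_wellFoundedLT
    (fun B : Subgroup G => B ≠ ⊥ ∧ A ≤ Subgroup.normalizer (B : Set G)) W ⟨hW0, hAW⟩
  refine ⟨B, hBW, hBmin.prop.1, hBmin.prop.2, ?_⟩
  intro C hCB hAC
  by_cases hC0 : C = ⊥
  · exact Or.inl hC0
  · exact Or.inr (le_antisymm hCB (hBmin.le_of_le ⟨hC0, hAC⟩ hCB))

lemma le_normalizer_sup {G : Type*} [Group G] {A U W : Subgroup G}
    (hU : A ≤ Subgroup.normalizer (U : Set G)) (hW : A ≤ Subgroup.normalizer (W : Set G)) :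
    A ≤ Subgroup.normalizer ((U ⊔ W : Subgroup G) : Set G) :=
  (le_inf hU hW).trans (Subgroup.normalizer_inf_normalizer_le_normalizer_sup U W)

lemma le_normalizer_inf {G : Type*} [Group G] {A U W : Subgroup G}
    (hU : A ≤ Subgroup.normalizer (U : Set G)) (hW : A ≤ Subgroup.normalizer (W : Set G)) :
    A ≤ Subgroup.normalizer ((U ⊓ W : Subgroup G) : Set G) :=
  (le_inf hU hW).trans Subgroup.inf_normalizer_le_normalizer_inf

/-- Inside an abelian subgroup `V`, every element of `W ⊔ T` is a product. -/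
lemma exists_mul_of_mem_sup {G : Type*} [Group G] [Finite G] {V W T : Subgroup G}
    (hV : IsMulCommutative V) (hW : W ≤ V) (hT : T ≤ V) {x : G} (hx : x ∈ W ⊔ T) :
    ∃ w ∈ W, ∃ t ∈ T, w * t = x := by
  have hWT : W ≤ Subgroup.normalizer (T : Set G) := by
    intro w hw
    apply mem_normalizer_of_forall
    intro t ht
    have h1 : (⟨w, hW hw⟩ : V) * ⟨t, hT ht⟩ = ⟨t, hT ht⟩ * ⟨w, hW hw⟩ := hV.is_comm.comm _ _
    have h2 : w * t = t * w := congrArg Subtype.val h1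
    rw [h2, mul_inv_cancel_right]
    exact ht
  have h1 : x ∈ ((W ⊔ T : Subgroup G) : Set G) := hx
  rw [Subgroup.coe_mul_of_left_le_normalizer_right W T hWT] at h1
  obtain ⟨w, hw, t, ht, hwt⟩ := Set.mem_mul.mp h1
  exact ⟨w, hw, t, ht, hwt⟩

theorem result {G : Type*} [Group G] [Finite G] (H A V : Subgroup G) (hVab : IsMulCommutative V) (hHV : H ≤ Subgroup.normalizer (V : Set G)) (hAH : A ≤ H) (hAn : H ≤ Subgroup.normalizer (A : Set G)) (hss : ∀ U : Subgroup G, U ≤ V → H ≤ Subgroup.normalizer (U : Set G) → ∃ W : Subgroup G, W ≤ V ∧ H ≤ Subgroup.normalizer (W : Set G) ∧ U ⊓ W = ⊥ ∧ U ⊔ W = V) (U : Subgroup G) (hUV : U ≤ V) (hAU : A ≤ Subgroup.normalizer (U : Set G)) : ∃ W : Subgroup G, W ≤ V ∧ A ≤ Subgroup.normalizer (W : Set G) ∧ U ⊓ W = ⊥ ∧ U ⊔ W = V := by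
  -- the socle of `V` as an `A`-group
  set Simp : Set (Subgroup G) := {T : Subgroup G | T ≤ V ∧ MinInv A T} with hSimp
  set S : Subgroup G := sSup Simp with hS
  have hSV : S ≤ V := sSup_le (fun T hT => hT.1)
  have hHS : H ≤ Subgroup.normalizer (S : Set G) := by
    apply Cfsg.Agent.S3748.le_normalizer_sSup
    intro h hh T hT
    exact ⟨map_conj_le_of_mem_normalizer hT.1 (hHV hh), hT.2.map_conj (hAn hh)⟩
  have hSeq : S = V := by
    obtain ⟨W0, hW0V, hHW0, hinf, hsup⟩ := hss S hSV hHS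
    have hW0 : W0 = ⊥ := by
      by_contra hne
      obtain ⟨T, hTW, hT⟩ := exists_minInv_le hne (hAH.trans hHW0)
      have hTS : T ≤ S := le_sSup ⟨hTW.trans hW0V, hT⟩
      apply hT.1
      rw [eq_bot_iff, ← hinf]
      exact le_inf hTS hTW
    rw [hW0, sup_bot_eq] at hsup
    exact hsup
  -- a maximal `A`-invariant subgroup of `V` meeting `U` trivially
  obtain ⟨W, -, hWmax⟩ := exists_maximal_ge_of_wellFoundedGT
    (fun W : Subgroup G => W ≤ V ∧ A ≤ Subgroup.normalizer (W : Set G) ∧ U ⊓ W = ⊥) ⊥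
    ⟨bot_le, by rw [Subgroup.normalizer_eq_top]; exact le_top, by simp⟩
  obtain ⟨hWV, hAW, hUW⟩ := hWmax.prop
  refine ⟨W, hWV, hAW, hUW, ?_⟩
  by_contra hne
  have hUWV : U ⊔ W ≤ V := sup_le hUV hWV
  -- some minimal invariant subgroup is not inside `U ⊔ W`
  have hex : ∃ T ∈ Simp, ¬ T ≤ U ⊔ W := by
    by_contra hall
    push Not at hall
    apply hne
    apply le_antisymm hUWV
    rw [← hSeq]
    exact sSup_le hall
  obtain ⟨T, ⟨hTV, hT0, hAT, hTmin⟩, hTUW⟩ := hex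
  have hAUW : A ≤ Subgroup.normalizer ((U ⊔ W : Subgroup G) : Set G) := le_normalizer_sup hAU hAW
  have hinfT : (U ⊔ W) ⊓ T = ⊥ := by
    rcases hTmin ((U ⊔ W) ⊓ T) inf_le_right (le_normalizer_inf hAUW hAT) with h | h
    · exact h
    · exact absurd (h ▸ inf_le_left) hTUW
  have hW' : W ⊔ T ≤ V ∧ A ≤ Subgroup.normalizer ((W ⊔ T : Subgroup G) : Set G) ∧
      U ⊓ (W ⊔ T) = ⊥ := by
    refine ⟨sup_le hWV hTV, le_normalizer_sup hAW hAT, ?_⟩
    rw [eq_bot_iff]
    rintro x ⟨hxU, hxWT⟩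
    obtain ⟨w, hw, t, ht, hwt⟩ := exists_mul_of_mem_sup hVab hWV hTV hxWT
    have ht' : t = w⁻¹ * x := by rw [← hwt]; group
    have h1 : t ∈ (U ⊔ W) ⊓ T := by
      refine ⟨?_, ht⟩
      rw [ht']
      exact Subgroup.mul_mem _ (Subgroup.mem_sup_right (W.inv_mem hw)) (Subgroup.mem_sup_left hxU)
    rw [hinfT, Subgroup.mem_bot] at h1
    rw [h1, mul_one] at hwt
    have h2 : x ∈ U ⊓ W := ⟨hxU, hwt ▸ hw⟩
    rwa [hUW] at h2
  have hle : W ⊔ T ≤ W := hWmax.le_of_ge hW' le_sup_left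
  exact hTUW ((le_sup_right.trans hle).trans le_sup_right)

end Cfsg.Agent.S3735
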