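import Mathlib
import Cfsg.Statements.S3737
import Cfsg.Agent.Helper19.Baer
import Cfsg.Agent.Lead.ThompsonPQ

set_option autoImplicit false
open Cfsg

namespace Cfsg.Agent.S3737

open Subgroup Cfsg.Agent.Helper19.Baer
open scoped commutatorElement

variable {X : Type*} [Group X]

/-- conjugation by a normalizing element, as an endomorphism of `↥G` -/
def cjOn (G : Subgroup X) (a : X) (ha : a ∈ normalizer (G : Set X)) : ↥G →* ↥G where
  toFun w := ⟨a * w * a⁻¹, (mem_normalizer_iff.1 ha w).1 w.2⟩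
  map_one' := by ext; simp
  map_mul' u v := by ext; simp [mul_assoc]

theorem cjOn_val (G : Subgroup X) (a : X) (ha : a ∈ normalizer (G : Set X)) (w : ↥G) :
    ((cjOn G a ha w : ↥G) : X) = a * w * a⁻¹ := rfl

theorem le_normalizer_commutator' {A B C : Subgroup X} (hB : A ≤ normalizer (B : Set X))
    (hC : A ≤ normalizer (C : Set X)) : A ≤ normalizer ((⁅B, C⁆ : Subgroup X) : Set X) := by
  intro g hg
  rw [mem_normalizer_iff_map_conj_eq, Subgroup.map_commutator,
    mem_normalizer_iff_map_conj_eq.mp (hB hg), mem_normalizer_iff_map_conj_eq.mp (hC hg)]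

section ClassTwo

variable (G : Subgroup X) (d : Data ↥G)

/-- the action of a normalizing element on the Baer group -/
def φ (a : X) (ha : a ∈ normalizer (G : Set X)) : BaerT d →* BaerT d :=
  BaerT.bmap (cjOn G a ha)

theorem φ_val (a : X) (ha : a ∈ normalizer (G : Set X)) (w : BaerT d) :
    (((φ G d a ha w).val : ↥G) : X) = a * (w.val : X) * a⁻¹ := rfl

theorem φ_mul (a b : X) (ha : a ∈ normalizer (G : Set X)) (hb : b ∈ normalizer (G : Set X))
    (w : BaerT d) : φ G d (a * b) (mul_mem ha hb) w = φ G d a ha (φ G d b hb w) := by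
  apply BaerT.ext'
  apply Subtype.ext
  rw [φ_val, φ_val, φ_val]
  group

theorem φ_one (w : BaerT d) : φ G d 1 (one_mem _) w = w := by
  apply BaerT.ext'
  apply Subtype.ext
  rw [φ_val]
  group

theorem φ_eq_self_iff (a : X) (ha : a ∈ normalizer (G : Set X)) (w : BaerT d) :
    φ G d a ha w = w ↔ a * (w.val : X) = (w.val : X) * a := by
  constructor
  · intro h
    have h1 : a * (w.val : X) * a⁻¹ = (w.val : X) := by rw [← φ_val G d a ha w, h]
    calc a * (w.val : X) = a * (w.val : X) * a⁻¹ * a := by group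
      _ = (w.val : X) * a := by rw [h1]
  · intro h
    apply BaerT.ext'
    apply Subtype.ext
    rw [φ_val, h]
    group

/-- the trace map of `Q` on the Baer group -/
noncomputable def τ [Finite X] (Q : Subgroup X) (hQG : Q ≤ normalizer (G : Set X)) :
    BaerT d →* BaerT d :=
  letI : Fintype ↥Q := Fintype.ofFinite _
  ∏ q : ↥Q, φ G d (q : X) (hQG q.2)

theorem τ_apply [Finite X] (Q : Subgroup X) (hQG : Q ≤ normalizer (G : Set X)) (w : BaerT d) :
    letI : Fintype ↥Q := Fintype.ofFinite _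
    τ G d Q hQG w = ∏ q : ↥Q, φ G d (q : X) (hQG q.2) w := by
  unfold τ
  rw [MonoidHom.finsetProd_apply]

/-- the trace is `Q`-fixed -/
theorem φ_τ [Finite X] (Q : Subgroup X) (hQG : Q ≤ normalizer (G : Set X)) (r : ↥Q)
    (w : BaerT d) : φ G d (r : X) (hQG r.2) (τ G d Q hQG w) = τ G d Q hQG w := by
  letI : Fintype ↥Q := Fintype.ofFinite _
  rw [τ_apply, map_prod]
  have h1 : ∀ q : ↥Q, φ G d (r : X) (hQG r.2) (φ G d (q : X) (hQG q.2) w) =
      φ G d ((Equiv.mulLeft r q : ↥Q) : X) (hQG (Equiv.mulLeft r q).2) w := by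
    intro q
    rw [← φ_mul]
    rfl
  simp_rw [h1]
  exact Equiv.prod_comp (Equiv.mulLeft r) (fun q : ↥Q => φ G d (q : X) (hQG q.2) w)

/-- conjugation by an element normalizing `Q`, as a permutation of `Q` -/
def cQ (Q : Subgroup X) (a : X) (ha : a ∈ normalizer (Q : Set X)) : ↥Q ≃ ↥Q where
  toFun q := ⟨a * q * a⁻¹, (mem_normalizer_iff.1 ha q).1 q.2⟩
  invFun q := ⟨a⁻¹ * q * a, by
    have := (mem_normalizer_iff.1 (inv_mem ha) q).1 q.2
    rwa [inv_inv] at this⟩
  left_inv q := by ext; simp [mul_assoc]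
  right_inv q := by ext; simp [mul_assoc]

/-- the trace commutes with elements normalizing `Q` and `G` -/
theorem φ_τ_comm [Finite X] (Q : Subgroup X) (hQG : Q ≤ normalizer (G : Set X)) (a : X)
    (haQ : a ∈ normalizer (Q : Set X)) (haG : a ∈ normalizer (G : Set X)) (w : BaerT d) :
    φ G d a haG (τ G d Q hQG w) = τ G d Q hQG (φ G d a haG w) := by
  letI : Fintype ↥Q := Fintype.ofFinite _
  rw [τ_apply, τ_apply, map_prod]
  have h1 : ∀ q : ↥Q, φ G d a haG (φ G d (q : X) (hQG q.2) w) =
      φ G d ((cQ Q a haQ q : ↥Q) : X) (hQG (cQ Q a haQ q).2) (φ G d a haG w) := by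
    intro q
    apply BaerT.ext'
    apply Subtype.ext
    rw [φ_val, φ_val, φ_val, φ_val]
    show a * ((q : X) * (w.val : X) * (q : X)⁻¹) * a⁻¹ =
      (a * (q : X) * a⁻¹) * (a * (w.val : X) * a⁻¹) * (a * (q : X) * a⁻¹)⁻¹
    group
  simp_rw [h1]
  exact Equiv.prod_comp (cQ Q a haQ) (fun q : ↥Q => φ G d (q : X) (hQG q.2) (φ G d a haG w))

/-- on `Q`-fixed elements the trace is the `|Q|`-th power -/
theorem τ_of_fixed [Finite X] (Q : Subgroup X) (hQG : Q ≤ normalizer (G : Set X)) (w : BaerT d)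
    (hw : ∀ q : ↥Q, φ G d (q : X) (hQG q.2) w = w) : τ G d Q hQG w = w ^ Nat.card Q := by
  letI : Fintype ↥Q := Fintype.ofFinite _
  rw [τ_apply]
  simp_rw [hw]
  rw [Finset.prod_const, Finset.card_univ, Nat.card_eq_fintype_card]

end ClassTwo

/-- The class-two case, via the Baer trick. -/
theorem class_two_case [Finite X] {p : ℕ} [Fact p.Prime] (hp : p ≠ 2) (P Q G : Subgroup X)
    (hP : IsPGroup p P) (hQ : (Nat.card Q).Coprime p) (hPQ : P ≤ normalizer (Q : Set X))
    (hG : IsPGroup p G) (hPG : P ≤ normalizer (G : Set X)) (hQG : Q ≤ normalizer (G : Set X))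
    (hC : G ⊓ centralizer (P : Set X) ≤ centralizer (Q : Set X))
    (hcl : ∀ x y : ↥G, ⁅x, y⁆ ∈ center ↥G) : Q ≤ centralizer (G : Set X) := by
  have hpp : p.Prime := Fact.out
  obtain ⟨n, hn⟩ := hG.exists_card_eq
  have hodd : Odd (p ^ n) := (hpp.odd_of_ne_two hp).pow
  obtain ⟨h, hh⟩ := hodd
  -- `2 * (h + 1) = p ^ n + 1`
  let d : Data ↥G :=
    { h := h + 1
      central := hcl
      half := by
        intro z
        rw [← pow_mul]
        have e : (h + 1) * 2 = p ^ n + 1 := by omega
        rw [e, pow_succ, ← hn, pow_card_eq_one', one_mul] }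
  have hcardB : Nat.card (BaerT d) = p ^ n := by rw [BaerT.card_eq, hn]
  -- it suffices that `Q` acts trivially on the Baer group
  suffices hfix : ∀ (w : BaerT d) (q : ↥Q), φ G d (q : X) (hQG q.2) w = w by
    intro q hq
    rw [mem_centralizer_iff]
    intro g hg
    have := (φ_eq_self_iff G d q (hQG hq) ⟨⟨g, hg⟩⟩).mp (hfix ⟨⟨g, hg⟩⟩ ⟨q, hq⟩)
    exact this.symm
  by_cases hK : (τ G d Q hQG).ker = ⊥
  · -- the trace is injective, hence surjective
    have hinj : Function.Injective (τ G d Q hQG) := (MonoidHom.ker_eq_bot_iff _).mp hK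
    have hsurj : Function.Surjective (τ G d Q hQG) := Finite.surjective_of_injective hinj
    intro w q
    obtain ⟨w', rfl⟩ := hsurj w
    exact φ_τ G d Q hQG q w'
  · exfalso
    -- `P` acts on the kernel of the trace
    letI : MulAction ↥P ↥(τ G d Q hQG).ker :=
      { smul := fun a k => ⟨φ G d (a : X) (hPG a.2) k.1, by
          rw [MonoidHom.mem_ker, ← φ_τ_comm G d Q hQG (a : X) (hPQ a.2) (hPG a.2),
            (MonoidHom.mem_ker).mp k.2, map_one]⟩
        one_smul := fun k => Subtype.ext (φ_one G d k.1)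
        mul_smul := fun a b k => Subtype.ext (φ_mul G d (a : X) (b : X) (hPG a.2) (hPG b.2) k.1) }
    have hsmul : ∀ (a : ↥P) (k : ↥(τ G d Q hQG).ker), ((a • k : ↥(τ G d Q hQG).ker) : BaerT d) =
        φ G d (a : X) (hPG a.2) k.1 := fun _ _ => rfl
    have hdvd : p ∣ Nat.card ↥(τ G d Q hQG).ker := by
      have h1 : Nat.card ↥(τ G d Q hQG).ker ∣ p ^ n := by
        rw [← hcardB]; exact Subgroup.card_subgroup_dvd_card _
      obtain ⟨j, -, hj⟩ := (Nat.dvd_prime_pow hpp).mp h1
      have hj0 : j ≠ 0 := by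
        rintro rfl
        rw [pow_zero] at hj
        exact hK (Subgroup.card_eq_one.mp hj)
      rw [hj]; exact dvd_pow_self p hj0
    have hone : (1 : ↥(τ G d Q hQG).ker) ∈ MulAction.fixedPoints ↥P ↥(τ G d Q hQG).ker := by
      intro a
      apply Subtype.ext
      rw [hsmul]
      exact map_one _
    obtain ⟨b, hb, hb1⟩ := hP.exists_fixed_point_of_prime_dvd_card_of_fixed_point _ hdvd hone
    have hbP : ∀ a : ↥P, φ G d (a : X) (hPG a.2) b.1 = b.1 := by
      intro a
      have := hb a
      rw [← hsmul, this]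
    -- `b` is centralized by `P`, hence by `Q`
    have hbC : ((b.1.val : ↥G) : X) ∈ centralizer (Q : Set X) := by
      apply hC
      refine ⟨b.1.val.2, ?_⟩
      show ((b.1.val : ↥G) : X) ∈ centralizer (P : Set X)
      rw [mem_centralizer_iff]
      intro a ha
      exact (φ_eq_self_iff G d a (hPG ha) b.1).mp (hbP ⟨a, ha⟩)
    have hbQ : ∀ q : ↥Q, φ G d (q : X) (hQG q.2) b.1 = b.1 := by
      intro q
      rw [φ_eq_self_iff]
      exact mem_centralizer_iff.mp hbC q q.2
    have h1 : b.1 ^ Nat.card Q = 1 := by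
      rw [← τ_of_fixed G d Q hQG b.1 hbQ]
      exact (MonoidHom.mem_ker).mp b.2
    have h2 : b.1 ^ p ^ n = 1 := by
      rw [← hcardB]; exact pow_card_eq_one'
    have h3 : b.1 ^ Nat.gcd (Nat.card Q) (p ^ n) = 1 := pow_gcd_eq_one.mpr ⟨h1, h2⟩
    have h4 : Nat.gcd (Nat.card Q) (p ^ n) = 1 := Nat.Coprime.pow_right n hQ
    rw [h4, pow_one] at h3
    apply hb1
    apply Subtype.ext
    rw [h3]; rfl

theorem aux [Finite X] {p : ℕ} [Fact p.Prime] (hp : p ≠ 2) (P Q : Subgroup X)
    (hP : IsPGroup p P) (hQ : (Nat.card Q).Coprime p) (hPQ : P ≤ normalizer (Q : Set X)) (n : ℕ) :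
    ∀ G : Subgroup X, Nat.card G = n → IsPGroup p G →
    P ≤ normalizer (G : Set X) → Q ≤ normalizer (G : Set X) →
    G ⊓ centralizer (P : Set X) ≤ centralizer (Q : Set X) →
    Q ≤ centralizer (G : Set X) := by
  induction n using Nat.strong_induction_on with
  | _ n ih =>
  intro G hn hG hPG hQG hC
  have hcopQG : (Nat.card Q).Coprime (Nat.card G) := by
    obtain ⟨k, hk⟩ := hG.exists_card_eq
    rw [hk]; exact Nat.Coprime.pow_right k hQ
  have hsolvG : Group.IsSolvable Q ∨ Group.IsSolvable G := by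
    right
    have : Group.IsNilpotent G := hG.isNilpotent
    infer_instance
  by_cases hGbot : G = ⊥
  · rw [hGbot]
    intro q _
    rw [mem_centralizer_iff]
    intro h hh
    have : h = 1 := by simpa using hh
    rw [this]; simp
  set W : Subgroup X := ⁅G, Q⁆ with hW
  have hWG : W ≤ G := Cfsg.Agent.Lead.commutator_le_of_le_normalizer hQG
  by_cases hWeq : W = G
  · -- `[G,Q] = G`: then `G` has class at most two
    set D : Subgroup X := ⁅G, G⁆ with hD
    have hDlt : D < G := Cfsg.Agent.Lead.commutator_lt_of_isPGroup hG hG le_normalizer hGbot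
    have hDG : D ≤ G := hDlt.le
    have hDcard : Nat.card D < n := by
      rw [← hn]
      exact lt_of_le_of_ne (card_le_of_le hDG)
        (fun h => hDlt.ne (eq_of_le_of_card_ge hDG (le_of_eq h.symm)))
    have hQD : Q ≤ centralizer (D : Set X) :=
      ih (Nat.card D) hDcard D rfl (hG.to_le hDG) (le_normalizer_commutator' hPG hPG)
        (le_normalizer_commutator' hQG hQG) ((inf_le_inf_right _ hDG).trans hC)
    have h1 : ⁅⁅Q, D⁆, G⁆ = ⊥ := by
      have : ⁅Q, D⁆ = ⊥ := by
        rw [commutator_eq_bot_iff_le_centralizer]; exact hQD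
      rw [this, commutator_bot_left]
    have h2 : ⁅⁅D, G⁆, Q⁆ = ⊥ := by
      have h3 : ⁅D, G⁆ ≤ D :=
        Cfsg.Agent.Lead.commutator_le_of_le_normalizer (le_normalizer_commutator' le_normalizer le_normalizer)
      have h4 : ⁅D, Q⁆ = ⊥ := by
        rw [commutator_comm, commutator_eq_bot_iff_le_centralizer]; exact hQD
      rw [eq_bot_iff, ← h4]
      exact commutator_mono h3 le_rfl
    have h5 : ⁅⁅G, Q⁆, D⁆ = ⊥ := commutator_commutator_eq_bot_of_rotate h1 h2
    rw [← hW, hWeq] at h5
    have h6 : G ≤ centralizer (D : Set X) := commutator_eq_bot_iff_le_centralizer.mp h5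
    apply class_two_case hp P Q G hP hQ hPQ hG hPG hQG hC
    intro x y
    rw [Subgroup.mem_center_iff]
    intro g
    apply Subtype.ext
    have hxy : ((⁅x, y⁆ : ↥G) : X) ∈ D := by
      rw [hD]
      have : ((⁅x, y⁆ : ↥G) : X) = ⁅(x : X), (y : X)⁆ := by
        simp [commutatorElement_def]
      rw [this]
      exact commutator_mem_commutator x.2 y.2
    have := mem_centralizer_iff.mp (h6 g.2) _ hxy
    rw [Subgroup.coe_mul, Subgroup.coe_mul]
    exact this.symm
  · -- `[G,Q] < G`
    have hWcard : Nat.card W < n := by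
      rw [← hn]
      exact lt_of_le_of_ne (card_le_of_le hWG)
        (fun h => hWeq (eq_of_le_of_card_ge hWG (le_of_eq h.symm)))
    have hQW : Q ≤ centralizer (W : Set X) :=
      ih (Nat.card W) hWcard W rfl (hG.to_le hWG)
        (le_normalizer_commutator' hPG hPQ)
        (Cfsg.Agent.Lead.le_normalizer_commutator_right G Q)
        ((inf_le_inf_right _ hWG).trans hC)
    have h1 : ⁅⁅G, Q⁆, Q⁆ = ⊥ := by
      rw [commutator_eq_bot_iff_le_centralizer]; exact le_centralizer_iff.mp hQW
    rw [Cfsg.Agent.Lead.coprime_commutator_commutator Q G hQG hcopQG hsolvG] at h1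
    exact le_centralizer_iff.mp (commutator_eq_bot_iff_le_centralizer.mp h1)

/-- Thompson's strengthening of the P × Q lemma for odd primes. Let p be an odd prime and let P, Q and G be subgroups of a finite group with P a p-group, Q of order prime to p and normalized by P, and G a p-group normalized by both P and Q. If every element of G centralized by P is centralized by Q, then Q centralizes G. -/
theorem result {X : Type*} [Group X] [Finite X] {p : ℕ} [Fact p.Prime] (hp : p ≠ 2) (P Q G : Subgroup X) (hP : IsPGroup p P) (hQ : (Nat.card Q).Coprime p) (hPQ : P ≤ Subgroup.normalizer (Q : Set X)) (hG : IsPGroup p G) (hPG : P ≤ Subgroup.normalizer (G : Set X)) (hQG : Q ≤ Subgroup.normalizer (G : Set X)) (hC : G ⊓ Subgroup.centralizer (P : Set X) ≤ Subgroup.centralizer (Q : Set X)) : Q ≤ Subgroup.centralizer (G : Set X) := by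
  exact aux hp P Q hP hQ hPQ _ G rfl hG hPG hQG hC

end Cfsg.Agent.S3737
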