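import Cfsg.Statements.S3741
import Mathlib
import Cfsg.Agent.Helper9.HomCount
import Cfsg.Agent.Helper9.PrimeOrderNormal

set_option autoImplicit false
open Cfsg

namespace Cfsg.Agent.S3741
open scoped Pointwise commutatorElement

/-- Let A and B be subgroups of a finite p-group with [A, B] ≤ A ∩ B and [A, B] of order at most p. Then |A : C_A(B)| = |B : C_B(A)|. -/
theorem result {G : Type*} [Group G] [Finite G] {p : ℕ} [Fact p.Prime] (hG : IsPGroup p G) (A B : Subgroup G) (hAB : ⁅A, B⁆ ≤ A ⊓ B) (hcard : Nat.card ↥⁅A, B⁆ ≤ p) : (A ⊓ Subgroup.centralizer (B : Set G)).relIndex A = (B ⊓ Subgroup.centralizer (A : Set G)).relIndex B := by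
  classical
  have hp : p.Prime := Fact.out
  rw [Subgroup.inf_relIndex_left, Subgroup.inf_relIndex_left]
  by_cases hbot : ⁅A, B⁆ = ⊥
  · have h1 : A ≤ Subgroup.centralizer (B : Set G) :=
      Subgroup.commutator_eq_bot_iff_le_centralizer.mp hbot
    have h2 : B ≤ Subgroup.centralizer (A : Set G) := by
      rw [Subgroup.commutator_comm] at hbot
      exact Subgroup.commutator_eq_bot_iff_le_centralizer.mp hbot
    rw [Subgroup.relIndex_eq_one.mpr h1, Subgroup.relIndex_eq_one.mpr h2]
  · have hZA : ⁅A, B⁆ ≤ A := hAB.trans inf_le_left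
    have hZB : ⁅A, B⁆ ≤ B := hAB.trans inf_le_right
    have hZcard : Nat.card ↥⁅A, B⁆ = p := by
      obtain ⟨k, hk⟩ := (hG.to_subgroup ⁅A, B⁆).exists_card_eq
      have hne : Nat.card ↥⁅A, B⁆ ≠ 1 := by
        intro h1
        exact hbot (Subgroup.card_eq_one.mp h1)
      rw [hk] at hcard hne ⊢
      rcases k with _ | k
      · simp at hne
      · rcases k with _ | k
        · simp
        · exfalso
          have : p * p ≤ p ^ (k + 1 + 1) := by
            calc p * p = p ^ 2 := (sq p).symm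
              _ ≤ p ^ (k + 1 + 1) := Nat.pow_le_pow_right hp.pos (by omega)
          have h2 := hp.two_le
          nlinarith
    have hcomm : ∀ a ∈ A, ∀ b ∈ B, ⁅a, b⁆ ∈ ⁅A, B⁆ := fun a ha b hb =>
      Subgroup.commutator_mem_commutator ha hb
    have hAn1 : ∀ a ∈ A, ∀ z ∈ ⁅A, B⁆, a * z * a⁻¹ ∈ ⁅A, B⁆ := by
      intro a ha z hz
      have h1 := hcomm a ha z (hZB hz)
      have h2 := Subgroup.mul_mem _ h1 hz
      rw [commutatorElement_def] at h2
      simpa using h2
    have hBn1 : ∀ b ∈ B, ∀ z ∈ ⁅A, B⁆, b * z * b⁻¹ ∈ ⁅A, B⁆ := by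
      intro b hb z hz
      have h1 := hcomm z (hZA hz) b hb
      have h2 := Subgroup.mul_mem _ (Subgroup.inv_mem _ hz) h1
      rw [commutatorElement_def] at h2
      have h3 := Subgroup.inv_mem _ h2
      have e : (z⁻¹ * (z * b * z⁻¹ * b⁻¹))⁻¹ = b * z * b⁻¹ := by group
      rwa [e] at h3
    have hAn : A ≤ Subgroup.normalizer ((⁅A, B⁆ : Subgroup G) : Set G) := by
      intro a ha
      rw [Subgroup.mem_normalizer_iff]
      intro z
      constructor
      · exact hAn1 a ha z
      · intro h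
        have := hAn1 a⁻¹ (A.inv_mem ha) _ h
        have e : a⁻¹ * (a * z * a⁻¹) * a⁻¹⁻¹ = z := by group
        rwa [e] at this
    have hBn : B ≤ Subgroup.normalizer ((⁅A, B⁆ : Subgroup G) : Set G) := by
      intro b hb
      rw [Subgroup.mem_normalizer_iff]
      intro z
      constructor
      · exact hBn1 b hb z
      · intro h
        have := hBn1 b⁻¹ (B.inv_mem hb) _ h
        have e : b⁻¹ * (b * z * b⁻¹) * b⁻¹⁻¹ = z := by group
        rwa [e] at this
    have hAc := Cfsg.Agent.Helper9.le_centralizer_of_le_normalizer_of_card_prime ⁅A, B⁆ A hZcard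
      (hG.to_subgroup A) hAn
    have hBc := Cfsg.Agent.Helper9.le_centralizer_of_le_normalizer_of_card_prime ⁅A, B⁆ B hZcard
      (hG.to_subgroup B) hBn
    exact Cfsg.Agent.Helper9.relIndex_centralizer_eq ⁅A, B⁆ A B hZcard hAc hBc hcomm

end Cfsg.Agent.S3741
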