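import Mathlib
import Cfsg.Statements.S3746
import Cfsg.Agent.Helper7.Quasisimple

set_option autoImplicit false
open Cfsg
open scoped commutatorElement

namespace Cfsg.Agent.S3746

open Cfsg.Agent.Helper7

lemma comm_center_mul_left {G : Type*} [Group G] {z : G} (hz : z ∈ Subgroup.center G) (a g : G) :
    ⁅z * a, g⁆ = ⁅a, g⁆ := by
  rw [Subgroup.mem_center_iff] at hz
  rw [commutatorElement_def, commutatorElement_def]
  calc z * a * g * (z * a)⁻¹ * g⁻¹ = z * (a * g * a⁻¹) * z⁻¹ * g⁻¹ := by group
    _ = (a * g * a⁻¹) * z * z⁻¹ * g⁻¹ := by rw [hz (a * g * a⁻¹)]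
    _ = a * g * a⁻¹ * g⁻¹ := by group

lemma comm_center_mul_right {G : Type*} [Group G] {z : G} (hz : z ∈ Subgroup.center G) (a g : G) :
    ⁅a, z * g⁆ = ⁅a, g⁆ := by
  rw [Subgroup.mem_center_iff] at hz
  rw [commutatorElement_def, commutatorElement_def]
  calc a * (z * g) * a⁻¹ * (z * g)⁻¹ = a * z * (g * a⁻¹ * g⁻¹) * z⁻¹ := by group
    _ = z * a * (g * a⁻¹ * g⁻¹) * z⁻¹ := by rw [hz a]
    _ = a * (g * a⁻¹ * g⁻¹) * z * z⁻¹ := by
        rw [mul_assoc z, ← hz (a * (g * a⁻¹ * g⁻¹))]
    _ = a * g * a⁻¹ * g⁻¹ := by group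

theorem result {G : Type*} [Group G] [Finite G] (Z : Subgroup G) (hZ : Z ≤ Subgroup.center G) [Z.Normal] (E : Subgroup G) (hZE : Z ≤ E) (hE : Cfsg.IsComponent (E.map (QuotientGroup.mk' Z))) : Cfsg.IsComponent ⁅E, E⁆ := by
  obtain ⟨hsn, hperf, hsimple⟩ := hE
  set π := QuotientGroup.mk' Z with hπ
  set Eb : Subgroup (G ⧸ Z) := E.map π with hEb
  set D : Subgroup G := ⁅E, E⁆ with hD
  have hDE : D ≤ E := Subgroup.commutator_le_self E
  -- `E` is the full preimage of its image
  have hEcomap : Eb.comap π = E := by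
    rw [hEb, Subgroup.comap_map_eq, hπ, QuotientGroup.ker_mk', sup_eq_left.mpr hZE]
  -- the image of `D` is all of `Eb`
  have hDmap : D.map π = Eb := by
    rw [hD, Subgroup.map_commutator]
    exact Subgroup.isPerfect_iff.mp hperf
  have hDZ : D ⊔ Z = E := by
    have h1 : (D.map π).comap π = Eb.comap π := by rw [hDmap]
    rwa [Subgroup.comap_map_eq, hπ, QuotientGroup.ker_mk', hEcomap] at h1
  constructor
  · -- subnormality
    have hEsn : E.IsSubnormal := by
      rw [← hEcomap]; exact hsn.comap π
    have hn : (D.subgroupOf E).Normal := by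
      rw [Subgroup.normal_subgroupOf_iff_le_normalizer hDE]
      intro e he
      have : e ∈ Subgroup.normalizer ((⁅E, E⁆ : Subgroup G) : Set G) := by
        have h1 : E ≤ Subgroup.normalizer (E : Set G) := Subgroup.le_normalizer
        rw [Subgroup.mem_normalizer_iff]
        intro x
        constructor
        · intro hx
          have : (⁅E, E⁆).map (MulAut.conj e).toMonoidHom ≤ ⁅E, E⁆ := by
            rw [Subgroup.map_commutator]
            apply Subgroup.commutator_mono <;>
            · rintro _ ⟨y, hy, rfl⟩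
              simp only [MulEquiv.coe_toMonoidHom, MulAut.conj_apply]
              exact E.mul_mem (E.mul_mem he hy) (E.inv_mem he)
          apply this
          exact ⟨x, hx, by simp [MulAut.conj_apply]⟩
        · intro hx
          have : (⁅E, E⁆).map (MulAut.conj e⁻¹).toMonoidHom ≤ ⁅E, E⁆ := by
            rw [Subgroup.map_commutator]
            apply Subgroup.commutator_mono <;>
            · rintro _ ⟨y, hy, rfl⟩
              simp only [MulEquiv.coe_toMonoidHom, MulAut.conj_apply]
              exact E.mul_mem (E.mul_mem (E.inv_mem he) hy) (E.inv_mem (E.inv_mem he))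
          have h2 := this ⟨e * x * e⁻¹, hx, rfl⟩
          simpa [MulAut.conj_apply, mul_assoc] using h2
      exact this
    exact Subgroup.IsSubnormal.trans hDE hn.isSubnormal hEsn
  · -- quasisimplicity
    have hDperf : Group.IsPerfect ↥D := by
      rw [Subgroup.isPerfect_iff]
      apply le_antisymm (Subgroup.commutator_le_self D)
      calc D = ⁅D ⊔ Z, D ⊔ Z⁆ := by rw [hDZ]
        _ ≤ ⁅D ⊔ Subgroup.center G, D ⊔ Subgroup.center G⁆ :=
            Subgroup.commutator_mono (sup_le_sup_left hZ D) (sup_le_sup_left hZ D)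
        _ = ⁅D, D⁆ := commutator_sup_center_both D D
    have hS : IsSimpleGroup (↥Eb ⧸ Subgroup.center ↥Eb) := hsimple
    have hna : ¬ IsMulCommutative (↥Eb ⧸ Subgroup.center ↥Eb) := by
      intro hc
      have : Group.IsPerfect ↥Eb := hperf
      have h1 : Group.IsPerfect (↥Eb ⧸ Subgroup.center ↥Eb) := inferInstance
      have : Subsingleton (↥Eb ⧸ Subgroup.center ↥Eb) :=
        Group.IsPerfect.subsingleton_of_isMulCommutative
      exact not_nontrivial _ hS.toNontrivial
    -- the homomorphism `D → Eb / Z(Eb)`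
    let g : ↥D →* ↥Eb := (π.subgroupMap E).comp (Subgroup.inclusion hDE)
    have hg : Function.Surjective g := by
      rintro ⟨eb, heb⟩
      have h1 : eb ∈ D.map π := by rw [hDmap]; exact heb
      obtain ⟨d, hd, rfl⟩ := h1
      exact ⟨⟨d, hd⟩, Subtype.ext rfl⟩
    let f : ↥D →* ↥Eb ⧸ Subgroup.center ↥Eb := (QuotientGroup.mk' (Subgroup.center ↥Eb)).comp g
    have hf : Function.Surjective f :=
      (QuotientGroup.mk'_surjective _).comp hg
    have hker : f.ker ≤ Subgroup.center ↥D := by
      intro c hc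
      rw [MonoidHom.mem_ker] at hc
      have hc' : g c ∈ Subgroup.center ↥Eb := by
        have : (QuotientGroup.mk' (Subgroup.center ↥Eb)) (g c) = 1 := hc
        rwa [QuotientGroup.mk'_apply, QuotientGroup.eq_one_iff] at this
      -- `[c, e] ∈ Z` for `e ∈ E`
      have hcZ : ∀ e ∈ E, ⁅(c : G), e⁆ ∈ Z := by
        intro e he
        rw [← QuotientGroup.eq_one_iff, commutatorElement_def]
        have h1 := Subgroup.mem_center_iff.mp hc' ⟨π e, Subgroup.mem_map_of_mem π he⟩
        have h2 : π e * π (c : G) = π (c : G) * π e := congrArg Subtype.val h1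
        have h3 : π ((c : G) * e * (c : G)⁻¹ * e⁻¹) = 1 := by
          rw [map_mul, map_mul, map_mul, map_inv, map_inv, ← h2]
          group
        exact h3
      -- `c` centralizes `D`
      have hcent : D ≤ Subgroup.centralizer ({(c : G)} : Set G) := by
        refine (Subgroup.commutator_le (H₁ := E) (H₂ := E)).mpr ?_
        intro e1 he1 e2 he2
        rw [Subgroup.mem_centralizer_iff]
        intro y hy
        rw [Set.mem_singleton_iff] at hy
        subst hy
        have hz1 : ⁅(c : G), e1⁆ ∈ Subgroup.center G := hZ (hcZ e1 he1)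
        have hz2 : ⁅(c : G), e2⁆ ∈ Subgroup.center G := hZ (hcZ e2 he2)
        have hc1 : (c : G) * e1 * (c : G)⁻¹ = ⁅(c : G), e1⁆ * e1 := by
          rw [commutatorElement_def]; group
        have hc2 : (c : G) * e2 * (c : G)⁻¹ = ⁅(c : G), e2⁆ * e2 := by
          rw [commutatorElement_def]; group
        have h4 : (c : G) * ⁅e1, e2⁆ * (c : G)⁻¹ = ⁅e1, e2⁆ := by
          have : (c : G) * ⁅e1, e2⁆ * (c : G)⁻¹ =
              ⁅(c : G) * e1 * (c : G)⁻¹, (c : G) * e2 * (c : G)⁻¹⁆ := by
            simp only [commutatorElement_def]; group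
          rw [this, hc1, hc2, comm_center_mul_left hz1, comm_center_mul_right hz2]
        calc (c : G) * ⁅e1, e2⁆ = (c : G) * ⁅e1, e2⁆ * (c : G)⁻¹ * (c : G) := by group
          _ = ⁅e1, e2⁆ * (c : G) := by rw [h4]
      rw [Subgroup.mem_center_iff]
      intro d
      apply Subtype.ext
      have := Subgroup.mem_centralizer_iff.mp (hcent d.2) (c : G) rfl
      exact this.symm
    exact isQuasisimple_of_surjective hna f hf hker hDperf

end Cfsg.Agent.S3746
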