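import Cfsg.Statements.S3747
import Mathlib
import Cfsg.Agent.Helper7.Layer
import Cfsg.Agent.Helper7.Fitting
import Cfsg.Agent.Helper7.Quasisimple
import Cfsg.Agent.Helper7.Components
import Cfsg.Agent.Helper7.ExtLayer

set_option autoImplicit false
open Cfsg

namespace Cfsg.Agent.S3747


open Subgroup Cfsg.Agent.Helper7 in
theorem center_map_conj_eq_bot {G : Type*} [Group G] (K : Subgroup G)
    (hZ : Subgroup.center ↥K = ⊥) (g : G) :
    K.map (MulAut.conj g).toMonoidHom ⊓
      Subgroup.centralizer ((K.map (MulAut.conj g).toMonoidHom : Subgroup G) : Set G) = ⊥ := by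
  rw [← map_subtype_center]
  have e := K.equivMapOfInjective (MulAut.conj g).toMonoidHom (MulAut.conj g).injective
  have h := map_center_mulEquiv e
  rw [hZ, Subgroup.map_bot] at h
  rw [← h, Subgroup.map_bot]

open Subgroup Cfsg.Agent.Helper7 in
theorem partA {G : Type*} [Group G] [Finite G] (K : Subgroup G) (hK : Cfsg.IsComponent K)
    (hZ : Subgroup.center ↥K = ⊥) :
    Subgroup.normalClosure (K : Set G) ≠ ⊥ ∧ ∀ N : Subgroup G, N.Normal →
      N ≤ Subgroup.normalClosure (K : Set G) → N = ⊥ ∨ N = Subgroup.normalClosure (K : Set G) := by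
  classical
  constructor
  · intro h
    apply IsComponent.ne_bot hK
    rw [eq_bot_iff, ← h]
    exact Subgroup.le_normalClosure
  · intro N hN hle
    rcases component_le_or_commutator_eq_bot hK hN.isSubnormal with h | h
    · right
      exact le_antisymm hle (Subgroup.normalClosure_le_normal h)
    · left
      have hfin : (Set.range fun g : G => K.map (MulAut.conj g).toMonoidHom).Finite :=
        Set.toFinite _
      set s := hfin.toFinset with hs
      have hmem : ∀ g : G, K.map (MulAut.conj g).toMonoidHom ∈ s := by
        intro g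
        rw [hs, Set.Finite.mem_toFinset]
        exact ⟨g, rfl⟩
      set M : Subgroup G := ⨆ L ∈ s, L with hM
      have h1 : ∀ g : G, K.map (MulAut.conj g).toMonoidHom ≤ M := by
        intro g
        rw [hM]
        exact le_biSup (fun L => L) (hmem g)
      have hMn : M.Normal := by
        apply normal_of_forall_map_conj_le
        intro g
        rw [hM, Subgroup.map_iSup]
        apply iSup_le
        intro L
        rw [Subgroup.map_iSup]
        apply iSup_le
        intro hL
        rw [hs, Set.Finite.mem_toFinset] at hL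
        obtain ⟨h', rfl⟩ := hL
        have : (K.map (MulAut.conj h').toMonoidHom).map (MulAut.conj g).toMonoidHom
            = K.map (MulAut.conj (g * h')).toMonoidHom := by
          rw [Subgroup.map_map]
          congr 1
          ext x
          simp [MulAut.conj_apply, mul_assoc]
        rw [this]
        exact h1 (g * h')
      have hKM : K ≤ M := by
        intro k hk
        have := h1 1 ⟨k, hk, rfl⟩
        simpa using this
      have hcl : Subgroup.normalClosure (K : Set G) ≤ M :=
        Subgroup.normalClosure_le_normal hKM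
      have hKN : ∀ k ∈ K, ∀ n ∈ N, k * n = n * k :=
        commutator_eq_bot_iff_forall_commute.1 h
      have hNc : N ≤ Subgroup.centralizer (M : Set G) := by
        rw [Subgroup.le_centralizer_iff, hM]
        apply iSup₂_le
        intro L hL
        rw [hs, Set.Finite.mem_toFinset] at hL
        obtain ⟨g, rfl⟩ := hL
        rintro x ⟨k, hk, rfl⟩
        rw [Subgroup.mem_centralizer_iff]
        intro n hn
        have hn' : g⁻¹ * n * g ∈ N := by
          have := hN.conj_mem n hn g⁻¹
          simpa using this
        have := hKN k hk _ hn'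
        simp only [MulEquiv.coe_toMonoidHom, MulAut.conj_apply]
        calc n * (g * k * g⁻¹) = g * ((g⁻¹ * n * g) * k) * g⁻¹ := by group
          _ = g * (k * (g⁻¹ * n * g)) * g⁻¹ := by rw [this]
          _ = g * k * g⁻¹ * n := by group
      have hcomm : ∀ L ∈ s, ∀ K' ∈ s, L ≠ K' → ⁅L, K'⁆ = ⊥ := by
        intro L hL K' hK' hne
        rw [hs, Set.Finite.mem_toFinset] at hL hK'
        obtain ⟨g, rfl⟩ := hL
        obtain ⟨g', rfl⟩ := hK'
        exact components_commute (isComponent_map_conj hK g) (isComponent_map_conj hK g') hne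
      have hc := center_biSup_le s hcomm
      have hbot : (⨆ L ∈ s, (L ⊓ Subgroup.centralizer (L : Set G))) = ⊥ := by
        rw [eq_bot_iff]
        apply iSup₂_le
        intro L hL
        rw [hs, Set.Finite.mem_toFinset] at hL
        obtain ⟨g, rfl⟩ := hL
        rw [center_map_conj_eq_bot K hZ g]
      rw [hbot, ← hM] at hc
      rw [eq_bot_iff]
      intro z hz
      exact hc (Subgroup.mem_inf.2 ⟨hcl (hle hz), hNc hz⟩)

open Subgroup Cfsg.Agent.Helper7 in
open scoped commutatorElement in
theorem minNormal_le_layer {G : Type*} [Group G] [Finite G] (hF : Cfsg.fittingSubgroup G = ⊥)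
    (N : Subgroup G) (hN0 : N ≠ ⊥) (hNn : N.Normal)
    (hmin : ∀ N' : Subgroup G, N'.Normal → N' ≤ N → N' = ⊥ ∨ N' = N) : N ≤ Cfsg.layer G := by
  classical
  obtain ⟨S, ⟨hSsn, hS0, hSN⟩, hSmin⟩ := Set.exists_min_image
    {S : Subgroup G | S.IsSubnormal ∧ S ≠ ⊥ ∧ S ≤ N} (fun S => Nat.card S) (Set.toFinite _)
    ⟨N, hNn.isSubnormal, hN0, le_rfl⟩
  have hnt : Nontrivial S := by
    rw [Subgroup.nontrivial_iff_ne_bot]
    exact hS0
  have hsimple : IsSimpleGroup S := by
    refine { exists_pair_ne := hnt.exists_pair_ne, eq_bot_or_eq_top_of_normal := ?_ }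
    intro T hT
    by_cases hT0 : T = ⊥
    · left; exact hT0
    · right
      have h1 : (T.map S.subtype).IsSubnormal := (Subgroup.Normal.isSubnormal hT).trans' hSsn
      have h2 : T.map S.subtype ≠ ⊥ := by
        intro h
        apply hT0
        exact (Subgroup.map_eq_bot_iff_of_injective T S.subtype_injective).1 h
      have h3 : T.map S.subtype ≤ N := (Subgroup.map_subtype_le T).trans hSN
      have h4 := hSmin (T.map S.subtype) ⟨h1, h2, h3⟩
      have h5 : Nat.card (T.map S.subtype) = Nat.card T :=
        Subgroup.card_map_of_injective S.subtype_injective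
      rw [h5] at h4
      exact Subgroup.eq_top_of_le_card T h4
  have hna : ¬ IsMulCommutative S := by
    intro hc
    have hnil : Group.IsNilpotent S := isNilpotent_of_isMulCommutative S
    have := subnormal_nilpotent_le_fittingSubgroup hSsn hnil
    rw [hF] at this
    exact hS0 (eq_bot_iff.2 this)
  have hperf : Group.IsPerfect S := by
    rw [Group.isPerfect_def]
    rcases (inferInstance : (commutator S).Normal).eq_bot_or_eq_top with h | h
    · exfalso
      apply hna
      refine ⟨⟨fun a b => ?_⟩⟩
      have : ⁅a, b⁆ ∈ commutator S := by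
        rw [_root_.commutator_def]
        exact Subgroup.commutator_mem_commutator (Subgroup.mem_top a) (Subgroup.mem_top b)
      rw [h, Subgroup.mem_bot] at this
      exact commutatorElement_eq_one_iff_mul_comm.1 this
    · exact h
  have hq : Cfsg.IsQuasisimple S := by
    apply isQuasisimple_of_surjective hna (MonoidHom.id S) Function.surjective_id _ hperf
    intro x hx
    rw [MonoidHom.mem_ker, MonoidHom.id_apply] at hx
    rw [hx]
    exact one_mem _
  have hcomp : Cfsg.IsComponent S := ⟨hSsn, hq⟩
  have hSl : S ≤ Cfsg.layer G := IsComponent.le_layer hcomp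
  have hcl1 : Subgroup.normalClosure (S : Set G) ≤ Cfsg.layer G :=
    Subgroup.normalClosure_le_normal hSl
  have hcl2 : Subgroup.normalClosure (S : Set G) ≤ N :=
    Subgroup.normalClosure_le_normal hSN
  rcases hmin _ Subgroup.normalClosure_normal hcl2 with h | h
  · exfalso
    apply hS0
    rw [eq_bot_iff, ← h]
    exact Subgroup.le_normalClosure
  · rw [← h]
    exact hcl1

open Subgroup Cfsg.Agent.Helper7 in
theorem center_component_eq_bot {G : Type*} [Group G] [Finite G]
    (hF : Cfsg.fittingSubgroup G = ⊥) (L : Subgroup G) (hL : Cfsg.IsComponent L) :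
    Subgroup.center ↥L = ⊥ := by
  have h1 : ((Subgroup.center L).map L.subtype).IsSubnormal :=
    (Subgroup.Normal.isSubnormal (inferInstance : (Subgroup.center L).Normal)).trans' hL.1
  have hnil : Group.IsNilpotent ↥((Subgroup.center L).map L.subtype) :=
    isNilpotent_of_isMulCommutative _
  have := subnormal_nilpotent_le_fittingSubgroup h1 hnil
  rw [hF, le_bot_iff] at this
  exact (Subgroup.map_eq_bot_iff_of_injective _ L.subtype_injective).1 this

/-- Let G be a finite group. (a) If K is a component of G with trivial centre, then the normal closure of K in G is a minimal normal subgroup of G. (b) If the Fitting subgroup of G is trivial, then the layer E(G) is generated by the minimal normal subgroups of G. -/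
theorem result {G : Type*} [Group G] [Finite G] : (∀ K : Subgroup G, Cfsg.IsComponent K → Subgroup.center ↥K = ⊥ → (Subgroup.normalClosure (K : Set G) ≠ ⊥ ∧ ∀ N : Subgroup G, N.Normal → N ≤ Subgroup.normalClosure (K : Set G) → N = ⊥ ∨ N = Subgroup.normalClosure (K : Set G))) ∧ (Cfsg.fittingSubgroup G = ⊥ → sSup {N : Subgroup G | N ≠ ⊥ ∧ N.Normal ∧ ∀ N' : Subgroup G, N'.Normal → N' ≤ N → N' = ⊥ ∨ N' = N} = Cfsg.layer G) := by
  refine ⟨fun K hK hZ => partA K hK hZ, fun hF => ?_⟩
  apply le_antisymm
  · apply sSup_le
    rintro N ⟨hN0, hNn, hmin⟩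
    exact minNormal_le_layer hF N hN0 hNn hmin
  · rw [Cfsg.Agent.Helper7.layer_le_iff]
    intro L hL
    have hZ := center_component_eq_bot hF L hL
    obtain ⟨h1, h2⟩ := partA L hL hZ
    exact Subgroup.le_normalClosure.trans (le_sSup ⟨h1, Subgroup.normalClosure_normal, h2⟩)

end Cfsg.Agent.S3747
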