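import Mathlib
import Cfsg.Statements.S3749
import Cfsg.Agent.Helper19.Cores
import Cfsg.Agent.Helper19.Sylow
import Cfsg.Agent.Helper3.SylowSubnormal
import Cfsg.Agent.S0065
import Cfsg.Agent.Lead.CoprimeSylow

set_option autoImplicit false
open Cfsg
open scoped Pointwise

namespace Cfsg.Agent.S3749

open Cfsg.Agent.Helper19 Cfsg.Agent.Lead

theorem result {G : Type*} [Group G] [Finite G] (M : Subgroup G) (hM : M ≠ ⊤) (hprim : ∀ N : Subgroup G, N ≤ M → M ≤ Subgroup.normalizer (N : Set G) → N ≠ ⊥ → Subgroup.normalizer (N : Set G) = M) {p : ℕ} [Fact p.Prime] (hOp : Cfsg.pCore p ↥M ≠ ⊥) (N : Subgroup G) [N.Normal] (hMN : M ⊓ N = ⊥) : ¬ p ∣ Nat.card N ∧ (∀ q : ℕ, [Fact q.Prime] → ∃! Q : Sylow q ↥N, M ≤ Subgroup.normalizer ((Q : Subgroup ↥N).map N.subtype : Set G)) ∧ ((∃ q r : ℕ, q.Prime ∧ r.Prime ∧ q ≠ r ∧ q ∣ Nat.card N ∧ r ∣ Nat.card N) → ¬ IsCoatom M) := by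
  have hp : p.Prime := Fact.out
  set P : Subgroup G := (Cfsg.pCore p ↥M).map M.subtype with hP
  have hPM : P ≤ M := Subgroup.map_subtype_le _
  have hP0 : P ≠ ⊥ := by
    rw [hP, Ne, Subgroup.map_eq_bot_iff_of_injective _ M.subtype_injective]
    exact hOp
  have hPp : IsPGroup p P := isPGroup_map_subtype (pCore_isPGroup p)
  have hMP : M ≤ Subgroup.normalizer (P : Set G) := by
    rw [← Subgroup.normal_subgroupOf_iff_le_normalizer hPM]
    have h1 : P.subgroupOf M = Cfsg.pCore p ↥M :=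
      Subgroup.comap_map_eq_self_of_injective M.subtype_injective _
    rw [h1]
    infer_instance
  have hNP : Subgroup.normalizer (P : Set G) = M := hprim P hPM hMP hP0
  have hCNP : ∀ z ∈ N, z ∈ Subgroup.centralizer (P : Set G) → z = 1 := by
    intro z hzN hzC
    have h1 : z ∈ M ⊓ N := ⟨hNP ▸ (Subgroup.centralizer_le_normalizer (P : Set G) hzC), hzN⟩
    rwa [hMN, Subgroup.mem_bot] at h1
  -- `p` does not divide `|N|`
  have hpN : ¬ p ∣ Nat.card N := by
    intro hdvd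
    obtain ⟨S, hPS⟩ := hPp.exists_le_sylow
    have hcard := Cfsg.Agent.Helper3.card_sylow_inf_normal S N
    have hpos : 0 < (Nat.card N).factorization p :=
      hp.factorization_pos_of_dvd Nat.card_pos.ne' hdvd
    have hne : N.subgroupOf (S : Subgroup G) ≠ ⊥ := by
      intro h
      have h1 : Nat.card (N.subgroupOf (S : Subgroup G)) = 1 := by rw [h]; simp
      rw [Cfsg.Agent.Helper3.card_subgroupOf_eq_card_inf, inf_comm, hcard] at h1
      exact absurd h1 (Nat.one_lt_pow hpos.ne' hp.one_lt).ne'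
    have hnil : Group.IsNilpotent (S : Subgroup G) := S.isPGroup'.isNilpotent
    have hz := Cfsg.Agent.S0065.inf_center_ne_bot (N.subgroupOf (S : Subgroup G)) hne
    obtain ⟨z, hz1⟩ := (Subgroup.ne_bot_iff_exists_ne_one).mp hz
    obtain ⟨hzN, hzZ⟩ := Subgroup.mem_inf.mp z.2
    have h2 : (((z : ↥(S : Subgroup G))) : G) = 1 := by
      apply hCNP _ (Subgroup.mem_subgroupOf.mp hzN)
      rw [Subgroup.mem_centralizer_iff]
      intro x hx
      have := Subgroup.mem_center_iff.mp hzZ ⟨x, hPS hx⟩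
      exact congrArg Subtype.val this
    apply hz1
    apply Subtype.ext
    apply Subtype.ext
    exact h2
  have hPN : P ≤ Subgroup.normalizer (N : Set G) := by
    rw [Subgroup.normalizer_eq_top]; exact le_top
  have hcop : (Nat.card P).Coprime (Nat.card N) := by
    obtain ⟨k, hk⟩ := IsPGroup.iff_card.mp hPp
    rw [hk]
    exact Nat.Coprime.pow_left k ((Nat.Prime.coprime_iff_not_dvd hp).mpr hpN)
  have hPsolv : Group.IsSolvable P := by
    have : Group.IsNilpotent P := hPp.isNilpotent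
    infer_instance
  -- uniqueness of `P`-invariant Sylow subgroups of `N`
  have huniq : ∀ (q : ℕ) [Fact q.Prime] (Q1 Q2 : Sylow q ↥N),
      P ≤ Subgroup.normalizer ((Q1 : Subgroup ↥N).map N.subtype : Set G) →
      P ≤ Subgroup.normalizer ((Q2 : Subgroup ↥N).map N.subtype : Set G) → Q1 = Q2 := by
    intro q _ Q1 Q2 h1 h2
    obtain ⟨c, hcC, hc⟩ :=
      coprime_invariant_sylow_conj P N hPN hcop (Or.inl hPsolv) q Q1 Q2 h1 h2
    have h3 : (c : G) = 1 := hCNP _ c.2 hcC
    have h4 : c = 1 := Subtype.ext h3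
    rw [h4, map_one, one_smul] at hc
    exact hc
  -- existence of an `M`-invariant Sylow subgroup
  have hex : ∀ (q : ℕ) [Fact q.Prime], ∃ Q : Sylow q ↥N,
      M ≤ Subgroup.normalizer ((Q : Subgroup ↥N).map N.subtype : Set G) := by
    intro q _
    obtain ⟨Q0, hQ0⟩ := coprime_exists_invariant_sylow P N hPN hcop (Or.inl hPsolv) q
    refine ⟨Q0, ?_⟩
    intro m hm
    rw [← conj_smul_eq_self_iff_mem_normalizer]
    have hmN : m ∈ Subgroup.normalizer (N : Set G) := by
      rw [Subgroup.normalizer_eq_top]; trivial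
    obtain ⟨Q1, hQ1⟩ := sylowSet_conj_mem hmN (p := q) (K := N)
      (Q := (Q0 : Subgroup ↥N).map N.subtype) ⟨Q0, rfl⟩
    have hPQ1 : P ≤ Subgroup.normalizer ((Q1 : Subgroup ↥N).map N.subtype : Set G) := by
      rw [← hQ1]
      intro x hx
      rw [← conj_smul_eq_self_iff_mem_normalizer]
      rw [smul_smul, ← map_mul]
      have hx' : m⁻¹ * x * m ∈ P := (Subgroup.mem_normalizer_iff''.mp (hMP hm) x).mp hx
      have h5 : x * m = m * (m⁻¹ * x * m) := by group
      rw [h5, map_mul, mul_smul, (conj_smul_eq_self_iff_mem_normalizer _ _).mpr (hQ0 hx')]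
    have h6 := huniq q Q1 Q0 hPQ1 hQ0
    rw [hQ1, h6]
  refine ⟨hpN, ?_, ?_⟩
  · intro q _
    obtain ⟨Q0, hQ0⟩ := hex q
    refine ⟨Q0, hQ0, ?_⟩
    intro Q1 hQ1
    exact huniq q Q1 Q0 (hPM.trans hQ1) (hPM.trans hQ0)
  · rintro ⟨q, r, hq, hr, hqr, hqN, hrN⟩ hco
    have : Fact q.Prime := ⟨hq⟩
    obtain ⟨Q0, hQ0⟩ := hex q
    set Q : Subgroup G := (Q0 : Subgroup ↥N).map N.subtype with hQ
    have hQN : Q ≤ N := Subgroup.map_subtype_le _
    have hQ0' : Q ≠ ⊥ := by
      rw [hQ, Ne, Subgroup.map_eq_bot_iff_of_injective _ N.subtype_injective]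
      exact Q0.ne_bot_of_dvd_card hqN
    have hlt : M < M ⊔ Q := by
      refine lt_of_le_of_ne le_sup_left (fun h => ?_)
      have h1 : Q ≤ M := by rw [h]; exact le_sup_right
      apply hQ0'
      rw [eq_bot_iff, ← hMN]
      exact le_inf h1 hQN
    have htop : M ⊔ Q = ⊤ := hco.2 _ hlt
    have hNQ : N ≤ Q := by
      intro n hn
      have h1 : n ∈ ((M ⊔ Q : Subgroup G) : Set G) := by rw [htop]; trivial
      rw [Subgroup.coe_mul_of_left_le_normalizer_right M Q hQ0] at h1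
      obtain ⟨m, hm, y, hy, hmy⟩ := Set.mem_mul.mp h1
      have h2 : m = n * y⁻¹ := by rw [← hmy]; group
      have h3 : m ∈ M ⊓ N := ⟨hm, h2 ▸ N.mul_mem hn (N.inv_mem (hQN hy))⟩
      rw [hMN, Subgroup.mem_bot] at h3
      rw [h3, one_mul] at hmy
      rw [← hmy]; exact hy
    have hQq : IsPGroup q Q := isPGroup_map_subtype Q0.isPGroup'
    obtain ⟨k, hk⟩ := IsPGroup.iff_card.mp hQq
    have h4 : Nat.card N ∣ Nat.card Q := Subgroup.card_dvd_of_le hNQ
    rw [hk] at h4
    have h5 : r ∣ q ^ k := hrN.trans h4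
    have h6 : r ∣ q := hr.dvd_of_dvd_pow h5
    exact hqr ((Nat.prime_dvd_prime_iff_eq hr hq).mp h6).symm
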