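import Mathlib
import Cfsg.Statements.S3750
import Cfsg.Agent.S3748
import Cfsg.Agent.Helper7.FStar2
import Cfsg.Agent.Helper7.Layer
import Cfsg.Agent.S0065

set_option autoImplicit false
open Cfsg

namespace Cfsg.Agent.S3750

open Cfsg.Agent.Helper19 Cfsg.Agent.Helper7

theorem result {G : Type*} [Group G] [Finite G] (M : Subgroup G) (hM : M ≠ ⊤) (hprim : ∀ N : Subgroup G, N ≤ M → M ≤ Subgroup.normalizer (N : Set G) → N ≠ ⊥ → Subgroup.normalizer (N : Set G) = M) (N : Subgroup G) [N.Normal] (hMF : M ⊓ (Cfsg.generalizedFittingSubgroup ↥N).map N.subtype ≠ ⊥) : Cfsg.fittingSubgroup G = ⊥ ∧ (Cfsg.generalizedFittingSubgroup ↥N).map N.subtype = Cfsg.generalizedFittingSubgroup G ∧ Cfsg.generalizedFittingSubgroup G = Cfsg.layer G ∧ ∀ K : Subgroup G, K.Normal → K ≠ ⊥ → (∀ K' : Subgroup G, K'.Normal → K' ≤ K → K' = ⊥ ∨ K' = K) → K ≤ N := by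
  have hsub := (Cfsg.Agent.S3748.result M hM hprim).1
  set F1 : Subgroup G := (Cfsg.generalizedFittingSubgroup ↥N).map N.subtype with hF1
  have hF1eq : Cfsg.generalizedFittingSubgroup G ⊓ N = F1 := generalizedFitting_inf_normal N
  have hF1N : F1 ≤ N := Subgroup.map_subtype_le _
  have hF1n : F1.Normal := by rw [← hF1eq]; infer_instance
  set D : Subgroup G := M ⊓ F1 with hD
  have hDM : D ≤ M := inf_le_left
  have hMD : M ≤ Subgroup.normalizer (D : Set G) := by
    have h1 : M ≤ Subgroup.normalizer (M : Set G) := Subgroup.le_normalizer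
    have h2 : M ≤ Subgroup.normalizer (F1 : Set G) := by
      rw [Subgroup.normalizer_eq_top]; exact le_top
    exact (le_inf h1 h2).trans Subgroup.inf_normalizer_le_normalizer_inf
  have hND : Subgroup.normalizer (D : Set G) = M := hprim D hDM hMD hMF
  -- a subnormal subgroup centralizing `D` is trivial
  have hcent : ∀ X : Subgroup G, X.IsSubnormal → (∀ x ∈ X, ∀ d ∈ D, d * x = x * d) → X = ⊥ := by
    intro X hX hc
    apply hsub X hX
    intro x hx
    rw [← hND]
    apply Subgroup.centralizer_le_normalizer (D : Set G)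
    rw [Subgroup.mem_centralizer_iff]
    exact hc x hx
  -- (d)
  have hd : ∀ K : Subgroup G, K.Normal → K ≠ ⊥ →
      (∀ K' : Subgroup G, K'.Normal → K' ≤ K → K' = ⊥ ∨ K' = K) → K ≤ N := by
    intro K hKn hK0 hKmin
    have hKN : (K ⊓ N).Normal := inferInstance
    rcases hKmin (K ⊓ N) hKN inf_le_left with h | h
    · exfalso
      apply hK0
      apply hcent K hKn.isSubnormal
      intro x hx d hd
      have hdisj : Disjoint K N := disjoint_iff.mpr h
      exact (Subgroup.commute_of_normal_of_disjoint K N hKn inferInstance hdisj x d hx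
        (hF1N hd.2)).eq.symm
    · rw [← h]; exact inf_le_right
  -- (a)
  have ha : Cfsg.fittingSubgroup G = ⊥ := by
    by_contra hF0
    obtain ⟨A, hA, hAF⟩ := exists_isMinNormal_le (fittingSubgroup_normal G) hF0
    obtain ⟨hAn, hA0, hAmin⟩ := hA
    have hAN : A ≤ N := hd A hAn hA0 hAmin
    -- `A` centralizes `F(G)`
    have hAC : A ≤ Subgroup.centralizer (Cfsg.fittingSubgroup G : Set G) := by
      have hnil : Group.IsNilpotent (Cfsg.fittingSubgroup G) := fittingSubgroup_isNilpotent
      have hAsub : (A.subgroupOf (Cfsg.fittingSubgroup G)) ≠ ⊥ := by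
        rw [Ne, Subgroup.subgroupOf_eq_bot, disjoint_iff, inf_eq_left.mpr hAF]
        exact hA0
      have hz := Cfsg.Agent.S0065.inf_center_ne_bot (A.subgroupOf (Cfsg.fittingSubgroup G)) hAsub
      obtain ⟨z, hz1⟩ := (Subgroup.ne_bot_iff_exists_ne_one).mp hz
      obtain ⟨hzA, hzZ⟩ := Subgroup.mem_inf.mp z.2
      have hCn : (Subgroup.centralizer (Cfsg.fittingSubgroup G : Set G)).Normal := inferInstance
      set C : Subgroup G := A ⊓ Subgroup.centralizer (Cfsg.fittingSubgroup G : Set G) with hC
      have hCnorm : C.Normal := inferInstance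
      have hC0 : C ≠ ⊥ := by
        intro h
        have h1 : ((z : ↥(Cfsg.fittingSubgroup G)) : G) ∈ C := by
          refine ⟨Subgroup.mem_subgroupOf.mp hzA, ?_⟩
          change ((z : ↥(Cfsg.fittingSubgroup G)) : G) ∈
            Subgroup.centralizer (Cfsg.fittingSubgroup G : Set G)
          rw [Subgroup.mem_centralizer_iff]
          intro x hx
          have := Subgroup.mem_center_iff.mp hzZ ⟨x, hx⟩
          exact congrArg Subtype.val this
        rw [h, Subgroup.mem_bot] at h1
        apply hz1
        apply Subtype.ext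
        apply Subtype.ext
        exact h1
      have hCA : C = A := (hAmin C hCnorm inf_le_left).resolve_left hC0
      rw [← hCA]; exact inf_le_right
    -- `A ≤ F(N)`
    have hNsn : N.IsSubnormal := (inferInstance : N.Normal).isSubnormal
    have hAFN : A ≤ (Cfsg.fittingSubgroup ↥N).map N.subtype := by
      rw [map_subtype_fitting_eq hNsn]; exact le_inf hAF hAN
    -- `F1` centralizes `A`
    have hF1C : F1 ≤ Subgroup.centralizer (A : Set G) := by
      rw [hF1]
      unfold Cfsg.generalizedFittingSubgroup
      rw [Subgroup.map_sup]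
      apply sup_le
      · -- the layer of `N` centralizes `F(N) ⊇ A`
        rintro _ ⟨x, hx, rfl⟩
        rw [Subgroup.mem_centralizer_iff]
        intro a ha
        obtain ⟨y, hy, rfl⟩ := hAFN ha
        have h1 := (commutator_eq_bot_iff_forall_commute.mp
          (layer_commutator_fitting (G := ↥N))) x hx y hy
        have := congrArg Subtype.val h1
        simpa using this.symm
      · -- `F(N) ≤ F(G)` centralizes `A`
        intro f hf
        have hfF : f ∈ Cfsg.fittingSubgroup G := map_subtype_fitting_le hNsn hf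
        rw [Subgroup.mem_centralizer_iff]
        intro a ha
        exact ((Subgroup.mem_centralizer_iff.mp (hAC ha)) f hfF).symm
    apply hA0
    apply hcent A hAn.isSubnormal
    intro x hx d hd
    exact ((Subgroup.mem_centralizer_iff.mp (hF1C hd.2)) x hx).symm
  -- (c)
  have hc : Cfsg.generalizedFittingSubgroup G = Cfsg.layer G := by
    unfold Cfsg.generalizedFittingSubgroup
    rw [ha, sup_bot_eq]
  -- (b)
  have hb : F1 = Cfsg.generalizedFittingSubgroup G := by
    rw [← hF1eq]
    apply inf_eq_left.mpr
    rw [hc, layer_le_iff]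
    intro L hL
    rcases component_le_or_commutator_eq_bot hL (inferInstance : N.Normal).isSubnormal with h | h
    · exact h
    · exfalso
      apply IsComponent.ne_bot hL
      apply hcent L hL.1
      intro x hx d hd
      exact ((commutator_eq_bot_iff_forall_commute.mp h) x hx d (hF1N hd.2)).symm
  exact ⟨ha, hb, hc, hd⟩

end Cfsg.Agent.S3750
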