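import Cfsg.Statements.S3753
import Cfsg.Agent.S0626
import Cfsg.Agent.Helper11.S3753CORE
import Cfsg.Agent.Helper23.S3753LEMA
import Cfsg.Agent.Helper23.S3753LEMB
import Cfsg.Agent.Helper20.S3753LEMC
import Cfsg.Agent.Helper29.S3753PTWO

set_option autoImplicit false
open Cfsg

namespace Cfsg.Agent.S3753

open Cfsg.Agent.S3753P

/-- `O_p(M) = 1` and `C_M(O_p(M)) ≤ O_p(M)` force `M = 1` -/
theorem bot_of_pCoreOf_bot {G : Type*} [Group G] {p : ℕ} (M : Subgroup G)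
    (hc : Subgroup.centralizer (Cfsg.pCore p ↥M : Set ↥M) ≤ Cfsg.pCore p ↥M)
    (h : Cfsg.pCoreOf p M = ⊥) : M = ⊥ := by
  have h0 : Cfsg.pCore p ↥M = ⊥ :=
    (Subgroup.map_eq_bot_iff_of_injective _ M.subtype_injective).1 h
  rw [eq_bot_iff]
  intro m hm
  have h1 : (⟨m, hm⟩ : ↥M) ∈ Subgroup.centralizer (Cfsg.pCore p ↥M : Set ↥M) := by
    rw [Subgroup.mem_centralizer_iff]
    intro z hz
    have hz' : z ∈ Cfsg.pCore p ↥M := hz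
    rw [h0, Subgroup.mem_bot] at hz'
    rw [hz', one_mul, mul_one]
  have h2 := hc h1
  rw [h0, Subgroup.mem_bot] at h2
  rw [Subgroup.mem_bot]
  exact congrArg Subtype.val h2

theorem qne {G : Type*} [Group G] {p : ℕ} (M₁ M₂ : Subgroup G) (hne : M₁ ≠ M₂)
    (hc₁ : Subgroup.centralizer (Cfsg.pCore p ↥M₁ : Set ↥M₁) ≤ Cfsg.pCore p ↥M₁)
    (hc₂ : Subgroup.centralizer (Cfsg.pCore p ↥M₂ : Set ↥M₂) ≤ Cfsg.pCore p ↥M₂)
    (hO : Cfsg.pCoreOf p M₁ ⊔ Cfsg.pCoreOf p M₂ ≤ M₁ ⊓ M₂) :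
    Cfsg.pCoreOf p M₁ ≠ ⊥ ∧ Cfsg.pCoreOf p M₂ ≠ ⊥ := by
  constructor
  · intro h
    have hM₁ : M₁ = ⊥ := bot_of_pCoreOf_bot M₁ hc₁ h
    have h2 : Cfsg.pCoreOf p M₂ = ⊥ := by
      rw [eq_bot_iff]
      refine (le_sup_right.trans hO).trans ?_
      rw [hM₁, bot_inf_eq]
    exact hne (hM₁.trans (bot_of_pCoreOf_bot M₂ hc₂ h2).symm)
  · intro h
    have hM₂ : M₂ = ⊥ := bot_of_pCoreOf_bot M₂ hc₂ h
    have h2 : Cfsg.pCoreOf p M₁ = ⊥ := by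
      rw [eq_bot_iff]
      refine (le_sup_left.trans hO).trans ?_
      rw [hM₂, inf_bot_eq]
    exact hne ((bot_of_pCoreOf_bot M₁ hc₁ h2).trans hM₂.symm)

/-- Two distinct subgroups M₁, M₂ of G form a primitive pair when, for {i, j} = {1, 2}, every non-trivial normal subgroup A of M_i contained in M₁ ∩ M₂ satisfies N_{M_j}(A) = M₁ ∩ M₂; the pair has characteristic p when moreover C_{M_i}(O_p(M_i)) ≤ O_p(M_i) for both i and O_p(M₁)O_p(M₂) ≤ M₁ ∩ M₂. If the finite group G has a primitive pair (M₁, M₂) of characteristic p for some prime p, then M₁ or M₂ has non-abelian Sylow 2-subgroups. In particular no group of odd order has a primitive pair of characteristic p. -/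
theorem result {G : Type*} [Group G] [Finite G] {p : ℕ} [Fact p.Prime] (M₁ M₂ : Subgroup G) (hne : M₁ ≠ M₂) (hP : ∀ A : Subgroup G, A ≠ ⊥ → A ≤ M₁ ⊓ M₂ → (M₁ ≤ Subgroup.normalizer (A : Set G) → M₂ ⊓ Subgroup.normalizer (A : Set G) = M₁ ⊓ M₂) ∧ (M₂ ≤ Subgroup.normalizer (A : Set G) → M₁ ⊓ Subgroup.normalizer (A : Set G) = M₁ ⊓ M₂)) (hc₁ : Subgroup.centralizer (Cfsg.pCore p ↥M₁ : Set ↥M₁) ≤ Cfsg.pCore p ↥M₁) (hc₂ : Subgroup.centralizer (Cfsg.pCore p ↥M₂ : Set ↥M₂) ≤ Cfsg.pCore p ↥M₂) (hO : (Cfsg.pCore p ↥M₁).map M₁.subtype ⊔ (Cfsg.pCore p ↥M₂).map M₂.subtype ≤ M₁ ⊓ M₂) : (∃ S : Sylow 2 ↥M₁, ¬ IsMulCommutative (S : Subgroup ↥M₁)) ∨ (∃ S : Sylow 2 ↥M₂, ¬ IsMulCommutative (S : Subgroup ↥M₂)) := by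
  by_cases hp2 : p = 2
  · subst hp2
    exact PTWO M₁ M₂ hne hP hc₁ hc₂ hO
  · by_contra hcon
    rw [not_or] at hcon
    have hab₁ : ∀ T : Sylow 2 ↥M₁, IsMulCommutative T := by
      intro T
      by_contra h
      exact hcon.1 ⟨T, h⟩
    have hab₂ : ∀ T : Sylow 2 ↥M₂, IsMulCommutative T := by
      intro T
      by_contra h
      exact hcon.2 ⟨T, h⟩
    have hst₁ : IsActionPStable p ↥M₁ := Cfsg.Agent.S0626.result hp2 hab₁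
    have hst₂ : IsActionPStable p ↥M₂ := Cfsg.Agent.S0626.result hp2 hab₂
    have hO' : pCoreOf p M₁ ⊔ pCoreOf p M₂ ≤ M₁ ⊓ M₂ := hO
    obtain ⟨hQ₁, hQ₂⟩ := qne M₁ M₂ hne hc₁ hc₂ hO'
    have g₁ : Good p M₁ :=
      ⟨LEMA M₁ hst₁ hc₁, fun K U h1 h2 h3 h4 h5 h6 x h7 h8 h9 h10 =>
        LEMB M₁ hst₁ K U h1 h2 h3 h4 h5 h6 x h7 h8 h9 h10, LEMC M₁ hst₁ hQ₁⟩
    have g₂ : Good p M₂ :=
      ⟨LEMA M₂ hst₂ hc₂, fun K U h1 h2 h3 h4 h5 h6 x h7 h8 h9 h10 =>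
        LEMB M₂ hst₂ K U h1 h2 h3 h4 h5 h6 x h7 h8 h9 h10, LEMC M₂ hst₂ hQ₂⟩
    exact CORE M₁ M₂ hne hP hO' g₁ g₂

end Cfsg.Agent.S3753
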