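import Mathlib
import Cfsg.Statements.S3760
import Cfsg.Agent.Helper19.Basic

set_option autoImplicit false
open Cfsg

namespace Cfsg.Agent.S3760

open Cfsg.Agent.Helper19

theorem result {G : Type*} [Group G] {X : Type*} [MulAction G X] (htrans : ∀ a b : X, ∃ g : G, g • a = b) (x : X) (K : Subgroup G) (hK : K ≤ MulAction.stabilizer G x) : (∀ a b : X, (∀ k ∈ K, k • a = a) → (∀ k ∈ K, k • b = b) → ∃ g ∈ Subgroup.normalizer (K : Set G), g • a = b) ↔ ∀ g : G, K.map (MulAut.conj g).toMonoidHom ≤ MulAction.stabilizer G x → ∃ h ∈ MulAction.stabilizer G x, K.map (MulAut.conj g).toMonoidHom = K.map (MulAut.conj h).toMonoidHom := by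
  constructor
  · intro H g hg
    -- K fixes g⁻¹ • x
    have h1 : ∀ k ∈ K, k • (g⁻¹ • x) = g⁻¹ • x := by
      intro k hk
      have := hg (conj_mem_map_conj g hk)
      rw [MulAction.mem_stabilizer_iff] at this
      calc k • g⁻¹ • x = g⁻¹ • ((g * k * g⁻¹) • x) := by
            simp only [← mul_smul]; congr 1; group
        _ = g⁻¹ • x := by rw [this]
    have h2 : ∀ k ∈ K, k • x = x := fun k hk => MulAction.mem_stabilizer_iff.mp (hK hk)
    obtain ⟨n, hn, hnx⟩ := H _ _ h1 h2
    refine ⟨g * n⁻¹, ?_, ?_⟩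
    · rw [MulAction.mem_stabilizer_iff]
      have : x = (n * g⁻¹) • x := by rw [mul_smul, hnx]
      calc (g * n⁻¹) • x = (g * n⁻¹) • ((n * g⁻¹) • x) := by rw [← this]
        _ = x := by rw [← mul_smul]; simp
    · have hn' : n⁻¹ ∈ Subgroup.normalizer (K : Set G) := Subgroup.inv_mem _ hn
      rw [← map_conj_map_conj, mem_normalizer_iff_map_conj.mp hn']
  · intro H a b ha hb
    -- any fixed point of K is n • x for some n in the normalizer
    have key : ∀ c : X, (∀ k ∈ K, k • c = c) → ∃ n ∈ Subgroup.normalizer (K : Set G), n • x = c := by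
      intro c hc
      obtain ⟨g, rfl⟩ := htrans x c
      have hle : K.map (MulAut.conj g⁻¹).toMonoidHom ≤ MulAction.stabilizer G x := by
        intro y hy
        rw [mem_map_conj, inv_inv] at hy
        rw [MulAction.mem_stabilizer_iff]
        have := hc _ hy
        calc y • x = g⁻¹ • ((g * y * g⁻¹) • (g • x)) := by
              simp only [← mul_smul]; congr 1; group
          _ = x := by rw [this, ← mul_smul]; simp
      obtain ⟨h, hh, heq⟩ := H g⁻¹ hle
      refine ⟨g * h, ?_, ?_⟩
      · rw [mem_normalizer_iff_map_conj, ← map_conj_map_conj, ← heq, map_conj_map_conj,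
          mul_inv_cancel, map_conj_one]
      · rw [mul_smul, MulAction.mem_stabilizer_iff.mp hh]
    obtain ⟨n₁, hn₁, rfl⟩ := key a ha
    obtain ⟨n₂, hn₂, rfl⟩ := key b hb
    refine ⟨n₂ * n₁⁻¹, Subgroup.mul_mem _ hn₂ (Subgroup.inv_mem _ hn₁), ?_⟩
    rw [← mul_smul]; simp

end Cfsg.Agent.S3760
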