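import Cfsg.Statements.S3761
import Mathlib
import Cfsg.Agent.Helper1.SelfCentCyclic
import Cfsg.Agent.Helper23.PGroup
import Cfsg.Agent.Helper2.QuaternionLift
import Cfsg.Agent.Helper11.DihedralLift

set_option autoImplicit false
open Cfsg

namespace Cfsg.Agent.S3761

/-- Let G be a finite non-abelian p-group with a cyclic normal subgroup U of order p^n such that C_G(U) = U. Then either p = 2 and G is dihedral, generalized quaternion or semidihedral of order 2^(n+1); or, writing U₁ for the subgroup generated by the p-th powers of elements of U and M = C_G(U₁), the subgroup U has index p in M and the subgroup Ω₁(M) generated by the elements of M of order dividing p is elementary abelian of order p² and characteristic in G. -/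
theorem result {G : Type*} [Group G] [Finite G] {p : ℕ} [Fact p.Prime] (hG : IsPGroup p G) (hna : ¬ IsMulCommutative G) (U : Subgroup G) [U.Normal] (hU : IsCyclic U) (n : ℕ) (hUn : Nat.card U = p ^ n) (hC : Subgroup.centralizer (U : Set G) = U) : (p = 2 ∧ Nat.card G = 2 ^ (n + 1) ∧ ((∃ m : ℕ, Nonempty (G ≃* DihedralGroup m)) ∨ (∃ m : ℕ, Nonempty (G ≃* QuaternionGroup m)) ∨ Cfsg.IsQuasiDihedral G)) ∨ (U.relIndex (Subgroup.centralizer (Cfsg.powerClosure p 1 U : Set G)) = p ∧ Cfsg.IsElementaryAbelian p (Cfsg.omegaOne p (Subgroup.centralizer (Cfsg.powerClosure p 1 U : Set G))) ∧ Nat.card ↥(Cfsg.omegaOne p (Subgroup.centralizer (Cfsg.powerClosure p 1 U : Set G))) = p ^ 2 ∧ (Cfsg.omegaOne p (Subgroup.centralizer (Cfsg.powerClosure p 1 U : Set G))).Characteristic) := by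
  open Cfsg.Agent.Helper1.CyclicMax2 Cfsg.Agent.Helper1.NAC Cfsg.Agent.Helper1.SCC in
  have hpp : p.Prime := Fact.out
  obtain ⟨a, ha⟩ := (Subgroup.isCyclic_iff_exists_zpowers_eq_top U).mp hU
  have hAn : (Subgroup.zpowers a).Normal := ha ▸ (inferInstance : U.Normal)
  have hord : orderOf a = p ^ n := by rw [← Nat.card_zpowers, ha, hUn]
  have hcent : ∀ g : G, g * a = a * g → g ∈ Subgroup.zpowers a := by
    intro g hg
    rw [ha, ← hC, Subgroup.mem_centralizer_iff]
    intro c hc
    rw [SetLike.mem_coe, ← ha] at hc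
    obtain ⟨t, rfl⟩ := Subgroup.mem_zpowers_iff.mp hc
    exact ((show Commute g a from hg).zpow_right t).eq.symm
  have hUtop : U ≠ ⊤ := by
    intro h
    apply hna
    have e : U ≃* G := h ▸ Subgroup.topEquiv
    have hcyc : IsCyclic G := isCyclic_of_surjective e e.surjective
    exact hcyc.isMulCommutative
  obtain ⟨x, hxU⟩ : ∃ x : G, x ∉ U := by
    by_contra hcon
    exact hUtop (eq_top_iff.mpr fun x _ => by_contra fun hx => hcon ⟨x, hx⟩)
  have hxa : x ∉ Subgroup.zpowers a := by rwa [ha]
  have hnormg : ∀ g : G, g * a * g⁻¹ ∈ Subgroup.zpowers a := fun g =>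
    hAn.conj_mem a (Subgroup.mem_zpowers a) g
  have hncg : ∀ g : G, g ∉ Subgroup.zpowers a → g * a * g⁻¹ ≠ a := by
    intro g hg h
    apply hg
    apply hcent
    calc g * a = (g * a * g⁻¹) * g := by group
      _ = a * g := by rw [h]
  -- `n ≥ 2`
  have hn2 : 2 ≤ n := by
    by_contra hn2
    have hn01 : n = 0 ∨ n = 1 := by omega
    rcases hn01 with rfl | rfl
    · rw [pow_zero, orderOf_eq_one_iff] at hord
      apply hncg x hxa
      rw [hord]; group
    · rw [pow_one] at hord
      have hbot : Subgroup.zpowers a ≠ ⊥ := by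
        intro h
        rw [Subgroup.zpowers_eq_bot] at h
        rw [h, orderOf_one] at hord
        exact hpp.one_lt.ne hord
      obtain ⟨c, hcU, hcZ, hc1⟩ :=
        Cfsg.Agent.Helper23.exists_mem_inf_center_ne_one hG (Subgroup.zpowers a) hbot
      have hcp : c ^ p = 1 := by
        obtain ⟨t, rfl⟩ := Subgroup.mem_zpowers_iff.mp hcU
        rw [← zpow_natCast, ← zpow_mul, mul_comm, zpow_mul, zpow_natCast, ← hord,
          pow_orderOf_eq_one, one_zpow]
      have hco : orderOf c = p := orderOf_eq_prime hcp hc1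
      have heq : Subgroup.zpowers c = Subgroup.zpowers a :=
        Subgroup.eq_of_le_of_card_ge (Subgroup.zpowers_le.mpr hcU)
          (by rw [Nat.card_zpowers, Nat.card_zpowers, hco, hord])
      have haZ : a ∈ Subgroup.zpowers c := heq ▸ Subgroup.mem_zpowers a
      obtain ⟨t, ht⟩ := Subgroup.mem_zpowers_iff.mp haZ
      apply hncg x hxa
      have hxc : Commute x c := Subgroup.mem_center_iff.mp hcZ x
      have hxa' : Commute x a := by rw [← ht]; exact hxc.zpow_right t
      rw [hxa'.eq]; group
  obtain ⟨m, rfl⟩ : ∃ m, n = m + 1 := ⟨n - 1, by omega⟩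
  have hm1 : 1 ≤ m := by omega
  -- description of `M`
  set M : Subgroup G := Subgroup.centralizer (Cfsg.powerClosure p 1 U : Set G) with hMdef
  have hM : ∀ g : G, g ∈ M ↔ g * a ^ p = a ^ p * g := by
    intro g
    rw [hMdef, Subgroup.mem_centralizer_iff]
    constructor
    · intro h
      have hmem : a ^ p ∈ (Cfsg.powerClosure p 1 U : Set G) := by
        apply Subgroup.subset_closure
        exact ⟨a, ha ▸ Subgroup.mem_zpowers a, by rw [pow_one]⟩
      exact (h _ hmem).symm
    · intro h y hy
      have hle : Cfsg.powerClosure p 1 U ≤ Subgroup.centralizer {g} := by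
        unfold Cfsg.powerClosure
        rw [Subgroup.closure_le]
        rintro y ⟨u, hu, rfl⟩
        rw [SetLike.mem_coe, Subgroup.mem_centralizer_iff]
        intro g' hg'
        rw [Set.mem_singleton_iff] at hg'
        subst hg'
        rw [← ha] at hu
        obtain ⟨t, rfl⟩ := Subgroup.mem_zpowers_iff.mp hu
        rw [pow_one, ← zpow_natCast, ← zpow_mul, mul_comm, zpow_mul, zpow_natCast]
        exact ((show Commute g' (a ^ p) from h).zpow_right t).eq
      have := hle hy
      rw [Subgroup.mem_centralizer_iff] at this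
      exact (this g rfl).symm
  by_cases hp2 : p = 2
  · subst hp2
    by_cases hall : ∀ g : G, g ∉ Subgroup.zpowers a → ∀ u : ℤ, g * a * g⁻¹ = a ^ u →
        u ≡ 3 [ZMOD 4]
    · -- index two: dihedral, quaternion or quasi-dihedral
      left
      have hidx := index_two_of_three a m hord hAn hcent x hxa hall
      have hcard : Nat.card G = 2 ^ (m + 2) := by
        have := Subgroup.card_mul_index (Subgroup.zpowers a)
        rw [hidx, Nat.card_zpowers, hord] at this
        rw [← this]; ring
      refine ⟨rfl, hcard, ?_⟩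
      have hx2 : x ^ 2 ∈ Subgroup.zpowers a := Subgroup.sq_mem_of_index_two hidx x
      obtain ⟨j, hc⟩ := structure_of_sq_mem a x m hm1 hord hx2 (hnormg x) (hncg x hxa)
      set b : G := x * a ^ j with hb
      have hbA : b ∉ Subgroup.zpowers a := by
        intro h
        apply hxa
        have : x = b * (a ^ j)⁻¹ := by rw [hb]; group
        rw [this]
        exact (Subgroup.zpowers a).mul_mem h
          ((Subgroup.zpowers a).inv_mem
            ((Subgroup.zpowers a).zpow_mem (Subgroup.mem_zpowers a) j))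
      have hbconj : b * a * b⁻¹ = x * a * x⁻¹ := conj_mul_zpow x a j
      have hb1 : b ≠ 1 := fun h => hbA (h ▸ one_mem _)
      rcases hc with ⟨hb2, h⟩ | ⟨hb2, h⟩ | ⟨hm2, hb2, h⟩ | ⟨hm2, hb2, h⟩
      · left
        have hbb : b * b = 1 := by rw [← pow_two]; exact hb2
        have hbinv : b⁻¹ = b := inv_eq_of_mul_eq_one_right hbb
        refine ⟨2 ^ (m + 1), ?_⟩
        apply Cfsg.Agent.Helper11.nonempty_mulEquiv_dihedralGroup (2 ^ (m + 1))
          (by rw [hcard, pow_succ]; ring) a b hord hbb _ hbA
        rw [← h, ← hbconj, hbinv]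
      · right; left
        refine ⟨2 ^ m, ?_⟩
        have : NeZero (2 ^ m) := ⟨by positivity⟩
        apply Cfsg.Agent.Helper2.QLift.nonempty_mulEquiv_quaternionGroup (2 ^ m)
          (by rw [hcard, pow_succ, pow_succ]; ring) a b (by rw [hord, pow_succ]; ring) _ _ hbA
        · rw [← pow_two]; exact hb2
        · rw [hbconj, h]
      · exfalso
        have h1 : x * a * x⁻¹ = a ^ (((1 + 2 ^ m : ℕ)) : ℤ) := by rw [zpow_natCast]; exact h
        have h2 := hall x hxa _ h1
        have h3 : (((1 + 2 ^ m : ℕ)) : ℤ) ≡ 1 [ZMOD 4] := by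
          obtain ⟨m', rfl⟩ : ∃ m', m = m' + 2 := ⟨m - 2, by omega⟩
          push_cast
          apply Int.modEq_iff_dvd.mpr
          refine ⟨-(2 ^ m'), ?_⟩
          rw [pow_add]; ring
        have h4 : ¬ ((1 : ℤ) ≡ 3 [ZMOD 4]) := by decide
        exact h4 (h3.symm.trans h2)
      · right; right
        refine ⟨m + 1, by omega, hcard, a, b, hord, ?_, ?_⟩
        · exact orderOf_eq_prime hb2 hb1
        · rw [hbconj, h]; rfl
    · -- the modular case
      right
      push Not at hall
      obtain ⟨g, hg, u, hu, hu3⟩ := hall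
      have hodd := odd_of_conj a m hord g u hu
      have h4 : u ≡ 1 [ZMOD 4] := by
        obtain ⟨t, ht⟩ := hodd
        unfold Int.ModEq at hu3 ⊢
        omega
      obtain ⟨b, hm2, hbb, hba⟩ := exists_modular a m hord hAn hcent hG hm1 g hg u hu h4
      have := two_main a m hord hm2 hAn hcent b hbb hba M hM
      rwa [ha] at this
  · right
    have := odd_main hp2 hG a m hord hm1 hAn hcent M hM x hxa
    rwa [ha] at this

end Cfsg.Agent.S3761
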