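import Cfsg.Statements.S3764
import Cfsg.Agent.Helper5.HHModH
import Cfsg.Agent.S0095

set_option autoImplicit false
open Cfsg

namespace Cfsg.Agent.S3764
open scoped commutatorElement

/-- Let p, q, r be distinct primes and let X, Q, V be subgroups of a finite group with X of order r, Q an extraspecial q-group normalized by X with C_Q(X) = Z(Q), and V an elementary abelian p-group normalized by X and Q on which XQ acts faithfully ((X ⊔ Q) ∩ C(V) = 1). If C_V(X) = 1, then q = 2, r = 2^n + 1 for some n, and Q has order 2^(2n+1). -/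
theorem result {G : Type*} [Group G] [Finite G] {p q r : ℕ} (hp : p.Prime) (hq : q.Prime) (hr : r.Prime) (hpq : p ≠ q) (hpr : p ≠ r) (hqr : q ≠ r) (X Q V : Subgroup G) (hX : Nat.card X = r) (hQ : Cfsg.IsExtraspecial q ↥Q) (hXQ : X ≤ Subgroup.normalizer (Q : Set G)) (hCQ : Q ⊓ Subgroup.centralizer (X : Set G) = (Subgroup.center ↥Q).map Q.subtype) (hV : Cfsg.IsElementaryAbelian p V) (hXV : X ≤ Subgroup.normalizer (V : Set G)) (hQV : Q ≤ Subgroup.normalizer (V : Set G)) (hfaith : (X ⊔ Q) ⊓ Subgroup.centralizer (V : Set G) = ⊥) (hCV : V ⊓ Subgroup.centralizer (X : Set G) = ⊥) : q = 2 ∧ ∃ n : ℕ, r = 2 ^ n + 1 ∧ Nat.card Q = 2 ^ (2 * n + 1) := by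
  classical
  haveI : Fact p.Prime := ⟨hp⟩
  haveI : Fact q.Prime := ⟨hq⟩
  haveI : Fact r.Prime := ⟨hr⟩
  obtain ⟨⟨hQp, hΦ, hcommQ⟩, hZcard⟩ := hQ
  -- a generator of `X`
  obtain ⟨x0, hx0⟩ : ∃ x0 : X, x0 ≠ 1 := by
    haveI : Nontrivial X := by
      rw [← Finite.one_lt_card_iff_nontrivial, hX]; exact hr.one_lt
    exact exists_ne 1
  have hx0top : Subgroup.zpowers x0 = ⊤ := zpowers_eq_top_of_prime_card hX hx0
  set x : G := (x0 : G) with hxdef
  have hxX : x ∈ X := x0.2
  have hXgen : ∀ y ∈ X, ∃ j : ℤ, x ^ j = y := by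
    intro y hy
    have : (⟨y, hy⟩ : X) ∈ Subgroup.zpowers x0 := by rw [hx0top]; trivial
    obtain ⟨j, hj⟩ := Subgroup.mem_zpowers_iff.mp this
    exact ⟨j, by have := congrArg Subtype.val hj; simpa using this⟩
  have hxr : x ^ r = 1 := by
    have h1 : x0 ^ r = 1 := by rw [← hX]; exact pow_card_eq_one'
    have := congrArg Subtype.val h1
    simpa using this
  -- centralizing `x` is the same as centralizing `X`
  have hcent : ∀ g : G, x * g * x⁻¹ = g → g ∈ Subgroup.centralizer (X : Set G) := by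
    intro g hg
    rw [Subgroup.mem_centralizer_iff]
    intro y hy
    obtain ⟨j, rfl⟩ := hXgen y hy
    have hc : Commute x g := by
      show x * g = g * x
      calc x * g = (x * g * x⁻¹) * x := by group
        _ = g * x := by rw [hg]
    exact (hc.zpow_left j).eq
  set Zs : Subgroup G := (Subgroup.center ↥Q).map Q.subtype with hZs
  have hmemZ : ∀ z : G, z ∈ Zs ↔ z ∈ Q ∧ ∀ y ∈ Q, y * z = z * y := by
    intro z
    constructor
    · rintro ⟨z', hz', rfl⟩
      refine ⟨z'.2, fun y hy => ?_⟩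
      have := (Subgroup.mem_center_iff.mp hz') ⟨y, hy⟩
      exact congrArg Subtype.val this
    · rintro ⟨hzQ, h⟩
      refine ⟨⟨z, hzQ⟩, ?_, rfl⟩
      change (⟨z, hzQ⟩ : Q) ∈ Subgroup.center ↥Q
      rw [Subgroup.mem_center_iff]
      intro g
      exact Subtype.ext (h g g.2)
  have hZQ : Zs ≤ Q := fun z hz => ((hmemZ z).mp hz).1
  have hZc : ∀ z ∈ Zs, ∀ g ∈ Q, z * g = g * z := fun z hz g hg => (((hmemZ z).mp hz).2 g hg).symm
  have hZsCard : Nat.card Zs = q := by
    rw [← hZcard]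
    exact Nat.card_congr (Subgroup.equivMapOfInjective _ _ Q.subtype_injective).toEquiv.symm
  have hcomm : ∀ g ∈ Q, ∀ h ∈ Q, g * h * g⁻¹ * h⁻¹ ∈ Zs := by
    intro g hg h hh
    have h1 : ⁅(⟨g, hg⟩ : Q), ⟨h, hh⟩⁆ ∈ commutator ↥Q := by
      rw [commutator_def]
      exact Subgroup.commutator_mem_commutator (Subgroup.mem_top _) (Subgroup.mem_top _)
    rw [hcommQ] at h1
    exact ⟨_, h1, by simp [commutatorElement_def]⟩
  have hxZ : ∀ z ∈ Zs, x * z * x⁻¹ = z := by
    intro z hz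
    have h1 : z ∈ Q ⊓ Subgroup.centralizer (X : Set G) := by rw [hCQ]; exact hz
    have h2 := Subgroup.mem_centralizer_iff.mp (Subgroup.mem_inf.mp h1).2 x hxX
    rw [h2, mul_inv_cancel_right]
  have hxQ : x ∈ Subgroup.normalizer (Q : Set G) := hXQ hxX
  have hxV : x ∈ Subgroup.normalizer (V : Set G) := hXV hxX
  have hfpf : ∀ k ∈ Q, x * k * x⁻¹ * k⁻¹ ∈ Zs → k ∈ Zs := by
    intro k hk hc
    obtain ⟨c, hcdef⟩ : ∃ c : G, c = x * k * x⁻¹ * k⁻¹ := ⟨_, rfl⟩
    rw [← hcdef] at hc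
    have hxk : x * k * x⁻¹ = c * k := by rw [hcdef]; group
    have hpow : ∀ n : ℕ, x ^ n * k * (x ^ n)⁻¹ = c ^ n * k := by
      intro n
      induction n with
      | zero => simp
      | succ n ih =>
        calc x ^ (n + 1) * k * (x ^ (n + 1))⁻¹ = x * (x ^ n * k * (x ^ n)⁻¹) * x⁻¹ := by
              rw [pow_succ']; group
          _ = x * (c ^ n * k) * x⁻¹ := by rw [ih]
          _ = (x * c * x⁻¹) ^ n * (x * k * x⁻¹) := by
              rw [conj_pow]; group
          _ = c ^ (n + 1) * k := by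
              rw [hxZ c hc, hxk, pow_succ, mul_assoc]
    have hcr : c ^ r = 1 := by
      have := hpow r
      rw [hxr] at this
      simp only [one_mul, inv_one, mul_one] at this
      exact (mul_eq_right.mp this.symm)
    have hcq : c ^ q = 1 := by
      have h1 : (⟨c, hc⟩ : Zs) ^ q = 1 := by rw [← hZsCard]; exact pow_card_eq_one'
      have := congrArg Subtype.val h1
      simpa using this
    have hc1 : c = 1 := by
      have h1 : orderOf c ∣ r := orderOf_dvd_of_pow_eq_one hcr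
      have h2 : orderOf c ∣ q := orderOf_dvd_of_pow_eq_one hcq
      have h3 : orderOf c ∣ Nat.gcd r q := Nat.dvd_gcd h1 h2
      rw [(Nat.coprime_primes hr hq).mpr (Ne.symm hqr)] at h3
      exact orderOf_eq_one_iff.mp (Nat.dvd_one.mp h3)
    rw [hc1, one_mul] at hxk
    have h1 : k ∈ Q ⊓ Subgroup.centralizer (X : Set G) := Subgroup.mem_inf.mpr ⟨hk, hcent k hxk⟩
    rw [hCQ] at h1
    exact h1
  have hZne : Zs ≠ Q := by
    intro h
    have hcen : Subgroup.center ↥Q = ⊤ := by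
      rw [eq_top_iff]
      intro g _
      have : (g : G) ∈ Zs := by rw [h]; exact g.2
      obtain ⟨g', hg', hgg'⟩ := this
      have : g' = g := Subtype.ext hgg'
      rw [← this]; exact hg'
    have hbot : commutator ↥Q = ⊥ := (commutator_eq_bot_iff_center_eq_top (G := ↥Q)).mpr hcen
    rw [hcommQ] at hbot
    rw [hbot, Subgroup.card_bot] at hZcard
    have := hq.one_lt
    omega
  have hN : ∀ K0 : Subgroup G, K0 ≤ Zs → K0 ≠ Zs → ∀ g ∈ Q, (∀ h ∈ Q, g * h * g⁻¹ * h⁻¹ ∈ K0) → g ∈ Zs := by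
    intro K0 hK0le hK0ne g hg hall
    have hK0bot : K0 = ⊥ := by
      have hdvd : Nat.card K0 ∣ q := by
        rw [← hZsCard]; exact Subgroup.card_dvd_of_le hK0le
      rcases (Nat.dvd_prime hq).mp hdvd with h | h
      · exact Subgroup.card_eq_one.mp h
      · exfalso
        apply hK0ne
        exact Subgroup.eq_of_le_of_card_ge hK0le (by rw [h, hZsCard])
    rw [hmemZ]
    refine ⟨hg, fun y hy => ?_⟩
    have := hall y hy
    rw [hK0bot, Subgroup.mem_bot] at this
    calc y * g = (g * y * g⁻¹ * y⁻¹)⁻¹ * (g * y) := by group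
      _ = g * y := by rw [this, inv_one, one_mul]
  have hcop : ¬ p ∣ Nat.card Q := by
    obtain ⟨n, hn⟩ := IsPGroup.iff_card.mp hQp
    rw [hn]
    intro hdvd
    exact hpq ((Nat.prime_dvd_prime_iff_eq hp hq).mp (hp.dvd_of_dvd_pow hdvd))
  have hZV : ∃ z ∈ Zs, ∃ v ∈ V, z * v * z⁻¹ ≠ v := by
    have hZnt : Zs ≠ ⊥ := by
      intro h
      rw [h, Subgroup.card_bot] at hZsCard
      have := hq.one_lt
      omega
    obtain ⟨⟨z, hz⟩, hz1'⟩ := (Subgroup.ne_bot_iff_exists_ne_one).mp hZnt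
    have hz1 : z ≠ 1 := fun h => hz1' (Subtype.ext h)
    by_contra hcon
    push Not at hcon
    apply hz1
    have : z ∈ (X ⊔ Q) ⊓ Subgroup.centralizer (V : Set G) := by
      refine Subgroup.mem_inf.mpr ⟨(le_sup_right : Q ≤ X ⊔ Q) (hZQ hz), ?_⟩
      rw [Subgroup.mem_centralizer_iff]
      intro v hv
      have := hcon z hz v hv
      calc v * z = (z * v * z⁻¹) * z := by rw [this]
        _ = z * v := by group
    rw [hfaith, Subgroup.mem_bot] at this
    exact this
  have hfix : ∀ v ∈ V, x * v * x⁻¹ = v → v = 1 := by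
    intro v hv hxv
    have : v ∈ V ⊓ Subgroup.centralizer (X : Set G) := Subgroup.mem_inf.mpr ⟨hv, hcent v hxv⟩
    rw [hCV, Subgroup.mem_bot] at this
    exact this
  haveI := hV.1
  have hVcomm : ∀ a ∈ V, ∀ b ∈ V, a * b = b * a := by
    intro a ha b hb
    have := mul_comm' (⟨a, ha⟩ : V) ⟨b, hb⟩
    exact congrArg Subtype.val this
  obtain ⟨N, hrN, hN2⟩ := Cfsg.Agent.Helper5.HHMod.fixed_or_card p r hr hpr V Q Zs x hVcomm hV.2 hQV hxV hxQ hxr
    hZQ hZc hcomm hxZ hfpf hZne hN hcop hZV hfix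
  obtain ⟨n, hn1, hQcard⟩ := Cfsg.Agent.S0095.result (P := ↥Q) (p := q) ⟨⟨hQp, hΦ, hcommQ⟩, hZcard⟩
  have hrel : Zs.relIndex Q * Nat.card Zs = Nat.card Q := by
    have := Cfsg.Agent.Helper17.relIndex_mul_card_inf Zs Q
    rwa [inf_eq_left.mpr hZQ] at this
  have hrelq : Zs.relIndex Q = q ^ (2 * n) := by
    rw [hZsCard, hQcard, pow_succ] at hrel
    exact Nat.eq_of_mul_eq_mul_right hq.pos hrel
  have hNq : N = q ^ n := by
    have : N ^ 2 = (q ^ n) ^ 2 := by rw [hN2, hrelq, ← pow_mul, mul_comm]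
    exact Nat.pow_left_injective (by norm_num : 2 ≠ 0) this
  have hq2 : q = 2 := by
    by_contra hne
    have hqodd : Odd q := hq.odd_of_ne_two hne
    have hodd : Odd (q ^ n) := hqodd.pow
    have hreven : Even r := by
      rw [hrN, hNq]; exact hodd.add_one
    have hr2 : r = 2 := (hr.even_iff).mp hreven
    have : q ^ n = 1 := by omega
    have hn0 : n = 0 := by
      by_contra hn0
      have : 1 < q ^ n := Nat.one_lt_pow hn0 hq.one_lt
      omega
    omega
  refine ⟨hq2, n, ?_, ?_⟩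
  · rw [hrN, hNq, hq2]
  · rw [hQcard, hq2]

end Cfsg.Agent.S3764
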