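import Cfsg.Statements.S3767
import Cfsg.Agent.Helper19.ESCycG
import Cfsg.Agent.Helper1.PGroup

set_option autoImplicit false
open Cfsg

namespace Cfsg.Agent.S3767

open Cfsg.Agent.Helper19.ESCyc
open scoped commutatorElement

theorem map_center_eq_Zc {G : Type*} [Group G] (P : Subgroup G) :
    (Subgroup.center ↥P).map P.subtype = Zc P := by
  ext x
  rw [Subgroup.mem_map, mem_Zc]
  constructor
  · rintro ⟨y, hy, rfl⟩
    refine ⟨y.2, fun w hw => ?_⟩
    rw [Subgroup.mem_center_iff] at hy
    exact congrArg Subtype.val (hy ⟨w, hw⟩)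
  · rintro ⟨hx, hc⟩
    refine ⟨⟨x, hx⟩, ?_, rfl⟩
    rw [Subgroup.mem_center_iff]
    intro w
    exact Subtype.ext (hc w.1 w.2)

/-- Let P be an extraspecial p-group of order p^(2n+1) and H a cyclic group of order h prime to p acting on P (inside a common finite group: H normalizes P) so that C_P(x) = Z(P) for every non-identity x ∈ H. Then h divides p^n + 1 or h divides p^n − 1. -/
theorem result {G : Type*} [Group G] [Finite G] {p : ℕ} [Fact p.Prime] (P H : Subgroup G) (hP : Cfsg.IsExtraspecial p ↥P) (n : ℕ) (hn : Nat.card P = p ^ (2 * n + 1)) (hH : IsCyclic H) (hcop : (Nat.card H).Coprime p) (hHP : H ≤ Subgroup.normalizer (P : Set G)) (hfix : ∀ x ∈ H, x ≠ 1 → P ⊓ Subgroup.centralizer {x} = (Subgroup.center ↥P).map P.subtype) : Nat.card H ∣ p ^ n + 1 ∨ Nat.card H ∣ p ^ n - 1 := by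
  classical
  have hpp : p.Prime := Fact.out
  obtain ⟨⟨hPp, hΦ, hcomm⟩, hZcard⟩ := hP
  obtain ⟨g0, hg0⟩ := hH.exists_generator
  set g : G := g0.1 with hgdef
  set h := Nat.card H with hhdef
  have hord : orderOf g = h := by
    rw [hgdef, Subgroup.orderOf_coe, hhdef]
    exact orderOf_eq_card_of_forall_mem_zpowers hg0
  have hgH : g ∈ H := g0.2
  by_cases h3 : 3 ≤ h
  · set Z₀ : Subgroup G := (Subgroup.center ↥P).map P.subtype with hZ₀
    have hZ0eq : Z₀ = Zc P := map_center_eq_Zc P
    have hZ0card : Nat.card Z₀ = p := by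
      rw [hZ₀, Subgroup.card_map_of_injective P.subtype_injective]
      exact hZcard
    have hg1 : g ≠ 1 := by
      intro h1
      rw [h1, orderOf_one] at hord
      omega
    have hgZ0 : ∀ z ∈ Z₀, g * z = z * g := by
      intro z hz
      rw [← hfix g hgH hg1] at hz
      have : z ∈ Subgroup.centralizer ({g} : Set G) := hz.2
      rw [Subgroup.mem_centralizer_iff] at this
      exact this g rfl
    have hESC : ESC p h g Z₀ P :=
      { Z0_le := le_of_eq hZ0eq
        norm := hHP hgH
        comm := by
          intro x hx y hy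
          have h1 : ⁅(⟨x, hx⟩ : P), ⟨y, hy⟩⁆ ∈ commutator P :=
            Subgroup.commutator_mem_commutator (Subgroup.mem_top _) (Subgroup.mem_top _)
          rw [hcomm] at h1
          exact ⟨_, h1, rfl⟩
        pow := by
          intro x hx
          have h1 : (⟨x, hx⟩ : P) ^ p ∈ frattini P :=
            Cfsg.Agent.Helper1.IsPGroup.pow_mem_frattini hPp _
          rw [hΦ] at h1
          rw [← hZ0eq]
          exact ⟨_, h1, rfl⟩
        fix := by
          intro i hi x hx hc
          have hgi : g ^ i ≠ 1 := by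
            intro h1
            apply hi
            rw [← hord]
            exact orderOf_dvd_of_pow_eq_one h1
          rw [← hZ0eq, ← hfix (g ^ i) (H.pow_mem hgH i) hgi]
          refine ⟨hx, ?_⟩
          show x ∈ Subgroup.centralizer ({g ^ i} : Set G)
          rw [Subgroup.mem_centralizer_iff]
          intro y hy
          rw [Set.mem_singleton_iff.mp hy]
          exact hc
        isP := hPp }
    have hcardP : Nat.card P = p ^ (2 * n) * Nat.card (Zc P) := by
      rw [← hZ0eq, hZ0card, hn, pow_succ]
    have hmain := main hord hcop h3 hZ0card hgZ0 n P hESC hcardP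
    rcases hmain with h1 | h1
    · right
      have h2 : ((p ^ n - 1 : ℕ) : ZMod h) = 0 := by
        rw [Nat.cast_sub (Nat.one_le_pow _ _ hpp.pos)]
        push_cast
        rw [h1, sub_self]
      exact (ZMod.natCast_eq_zero_iff _ _).mp h2
    · left
      have h2 : ((p ^ n + 1 : ℕ) : ZMod h) = 0 := by
        push_cast
        rw [h1, neg_add_cancel]
      exact (ZMod.natCast_eq_zero_iff _ _).mp h2
  · have hpos : 0 < h := Nat.card_pos
    have hcases : h = 1 ∨ h = 2 := by omega
    rcases hcases with h1 | h2
    · left; rw [h1]; exact one_dvd _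
    · right
      rw [h2] at hcop ⊢
      have hodd : Odd p := (Nat.coprime_two_left.mp hcop)
      have hoddn : Odd (p ^ n) := hodd.pow
      obtain ⟨k, hk⟩ := hoddn
      exact ⟨k, by omega⟩

end Cfsg.Agent.S3767
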