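import Cfsg.Statements.S3770
import Cfsg.Agent.Helper5.FrobModJ
import Cfsg.Agent.Helper1.FrobGroup

set_option autoImplicit false
open Cfsg

namespace Cfsg.Agent.S3770

/-- Let G and V be subgroups of a finite group with G a Frobenius group with complement R of prime order and kernel K, G normalizing V, and V an elementary abelian ℓ-group for a prime ℓ not dividing the order of G. If C_V(R) has order ℓ, then the derived subgroup of K centralizes V. -/
theorem result {X : Type*} [Group X] [Finite X] (G : Subgroup X) (V : Subgroup X) {ℓ : ℕ} (hℓ : ℓ.Prime) (hV : Cfsg.IsElementaryAbelian ℓ V) (hℓG : ¬ ℓ ∣ Nat.card G) (hGV : G ≤ Subgroup.normalizer (V : Set X)) (R : Subgroup ↥G) (hR : Cfsg.IsFrobeniusComplement R) (hRp : (Nat.card R).Prime) (hCV : Nat.card ↥(V ⊓ Subgroup.centralizer ((R.map G.subtype : Subgroup X) : Set X)) = ℓ) : ⁅Subgroup.closure (Subtype.val '' Cfsg.frobeniusKernel R), Subgroup.closure (Subtype.val '' Cfsg.frobeniusKernel R)⁆ ≤ Subgroup.centralizer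 (V : Set X) := by
  classical
  haveI : Fact ℓ.Prime := ⟨hℓ⟩
  obtain ⟨N, hN, hNn, hcomp⟩ := Cfsg.Agent.S0035.result R hR
  haveI := hNn
  set U : Subgroup X := N.map G.subtype with hU
  set E : Subgroup X := R.map G.subtype with hE
  have hclos : Subgroup.closure (Subtype.val '' Cfsg.frobeniusKernel R) = U := by
    rw [← hN]
    have : (Subtype.val '' (N : Set ↥G)) = ((N.map G.subtype : Subgroup X) : Set X) := by
      rw [Subgroup.coe_map]; rfl
    rw [this, Subgroup.closure_eq]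
  have hUE : U ⊔ E = G := by
    rw [hU, hE, ← Subgroup.map_sup, hcomp.sup_eq_top, ← MonoidHom.range_eq_map, Subgroup.range_subtype]
  have hUn : ∀ e ∈ E, ∀ u ∈ U, e * u * e⁻¹ ∈ U := by
    rintro _ ⟨e, _, rfl⟩ _ ⟨u, hu, rfl⟩
    exact ⟨e * u * e⁻¹, hNn.conj_mem u hu e, by simp⟩
  have hfpf : ∀ e ∈ E, e ≠ 1 → ∀ u ∈ U, e * u = u * e → u = 1 := by
    rintro _ ⟨e, he, rfl⟩ he1 _ ⟨u, hu, rfl⟩ hcomm
    have he1' : e ≠ 1 := fun h => he1 (by rw [h]; rfl)
    have heN : e ∉ N := fun heN => he1' (Cfsg.Agent.Helper1.FrobGroup.disjoint hN heN he)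
    have hcomm' : e * u = u * e := Subtype.ext (by simpa using hcomm)
    have := Cfsg.Agent.Helper1.FrobGroup.kernel_fpf hR hN heN hu hcomm'
    rw [this]; rfl
  have hAV : ∀ x ∈ U ⊔ E, ∀ v ∈ V, x * v * x⁻¹ ∈ V := by
    intro x hx v hv
    rw [hUE] at hx
    have := hGV hx
    rw [Subgroup.mem_normalizer_iff] at this
    exact (this v).mp hv
  have hcop : ¬ ℓ ∣ Nat.card ↥(U ⊔ E) := by rw [hUE]; exact hℓG
  haveI := hV.1
  have hVcomm : ∀ a ∈ V, ∀ b ∈ V, a * b = b * a := by
    intro a ha b hb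
    have := mul_comm' (⟨a, ha⟩ : V) ⟨b, hb⟩
    exact congrArg Subtype.val this
  have hmain := Cfsg.Agent.Helper5.FrobMod.commutator_centralizes U E V hUn hfpf ℓ hVcomm hV.2 hAV hcop
    (le_of_eq hCV)
  rw [hclos, Subgroup.commutator_le]
  intro u1 hu1 u2 hu2
  rw [Subgroup.mem_centralizer_iff]
  intro v hv
  have := hmain u1 hu1 u2 hu2 v hv
  rw [commutatorElement_def]
  exact this.symm

end Cfsg.Agent.S3770
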