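import Mathlib
import Cfsg.Statements.S3771
import Cfsg.Agent.Helper9.PGroupCent
import Cfsg.Agent.Helper24.Classes
import Cfsg.Agent.S0065

set_option autoImplicit false
open Cfsg

namespace Cfsg.Agent.S3771

theorem result {R : Type*} [Group R] [Finite R] {p : ℕ} [Fact p.Prime] (hR : IsPGroup p R) (hrank : Cfsg.PRankLE p 2 R) (hexp : ∀ x : R, x ^ p = 1) : Nat.card R ≤ p ^ 3 := by
  have hp : p.Prime := Fact.out
  have hpos : 0 < p := hp.pos
  obtain ⟨A, -, hAmax⟩ := exists_maximal_ge_of_wellFoundedGT
    (fun B : Subgroup R => B.Normal ∧ IsMulCommutative B) ⊥ ⟨inferInstance, inferInstance⟩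
  obtain ⟨hAn, hAab⟩ := hAmax.prop
  have hCA : Subgroup.centralizer (A : Set R) = A :=
    Cfsg.Agent.Helper9.centralizer_eq_of_maximal_normal_abelian hR A hAab
      (fun B hBn hBab hAB => le_antisymm (hAmax.le_of_ge ⟨hBn, hBab⟩ hAB) hAB)
  have hAcard : Nat.card A ≤ p ^ 2 := hrank A hAab (fun a _ => hexp a)
  have hp23 : p ^ 2 ≤ p ^ 3 := Nat.pow_le_pow_right hpos (by omega)
  by_cases hAZ : A ≤ Subgroup.center R
  · have htop : (⊤ : Subgroup R) ≤ A := by
      rw [← hCA]
      intro x _
      rw [Subgroup.mem_centralizer_iff]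
      intro a ha
      exact (Subgroup.mem_center_iff.mp (hAZ ha) x).symm
    have h1 : Nat.card R ≤ Nat.card A := by
      rw [← Subgroup.card_top (G := R)]
      exact Subgroup.card_le_of_le htop
    omega
  · obtain ⟨a, haA, haZ⟩ := SetLike.not_le_iff_exists.mp hAZ
    have hnil : Group.IsNilpotent R := hR.isNilpotent
    have hA0 : A ≠ ⊥ := by
      intro h
      rw [h, Subgroup.mem_bot] at haA
      rw [haA] at haZ
      exact haZ (Subgroup.one_mem _)
    have hZA0 : A ⊓ Subgroup.center R ≠ ⊥ := Cfsg.Agent.S0065.inf_center_ne_bot A hA0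
    set ZA : Subgroup R := A ⊓ Subgroup.center R with hZA
    set B : Subgroup R := Subgroup.zpowers a ⊔ ZA with hB
    have hBA : B ≤ A := sup_le (Subgroup.zpowers_le.mpr haA) inf_le_left
    have hZB : ZA < B := by
      refine lt_of_le_of_ne le_sup_right (fun h => ?_)
      have : a ∈ ZA := by rw [h]; exact Subgroup.mem_sup_left (Subgroup.mem_zpowers a)
      exact haZ this.2
    -- `B = A`
    have hBeq : B = A := by
      obtain ⟨j, hj⟩ := IsPGroup.iff_card.mp (hR.to_subgroup B)
      obtain ⟨k, hk⟩ := IsPGroup.iff_card.mp (hR.to_subgroup ZA)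
      have hk1 : 1 ≤ k := by
        by_contra hk0
        have : k = 0 := by omega
        rw [this, pow_zero] at hk
        exact hZA0 (Subgroup.card_eq_one.mp hk)
      have hlt : Nat.card ZA < Nat.card B :=
        Set.Finite.card_lt_card (Set.toFinite _) hZB
      rw [hj, hk] at hlt
      have hkj : k < j := (Nat.pow_lt_pow_iff_right hp.one_lt).mp hlt
      have hj2 : p ^ 2 ≤ Nat.card B := by
        rw [hj]; exact Nat.pow_le_pow_right hpos (by omega)
      exact Subgroup.eq_of_le_of_card_ge hBA (hAcard.trans hj2)
    -- `C_R(a) ≤ A`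
    have hCa : Subgroup.centralizer ({a} : Set R) ≤ A := by
      intro x hx
      rw [← hCA, Subgroup.mem_centralizer_iff]
      intro y hy
      have hBx : B ≤ Subgroup.centralizer ({x} : Set R) := by
        apply sup_le
        · rw [Subgroup.zpowers_le, Subgroup.mem_centralizer_iff]
          intro z hz
          rw [Set.mem_singleton_iff] at hz
          subst hz
          exact ((Subgroup.mem_centralizer_iff.mp hx) a rfl).symm
        · exact inf_le_right.trans (Subgroup.center_le_centralizer _)
      have hy' : y ∈ B := by rw [hBeq]; exact hy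
      exact ((Subgroup.mem_centralizer_iff.mp (hBx hy')) x rfl).symm
    -- the index of `C_R(a)` is at most `p`
    have hidx : (Subgroup.centralizer ({a} : Set R)).index ≤ p := by
      have h1 : (Subgroup.centralizer ({a} : Set R)).index < Nat.card A := by
        rw [Cfsg.Agent.Helper24.index_centralizer_eq_card_conj]
        have hsub : {x : R | IsConj a x} ⊂ (A : Set R) := by
          constructor
          · intro x hx
            obtain ⟨c, rfl⟩ := isConj_iff.mp hx
            exact hAn.conj_mem a haA c
          · intro h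
            have h1 : (1 : R) ∈ {x : R | IsConj a x} := h (Subgroup.one_mem A)
            have h2 : IsConj a 1 := h1
            have h2 : a = 1 := isConj_one_left.mp h2
            rw [h2] at haZ
            exact haZ (Subgroup.one_mem _)
        have := Set.Finite.card_lt_card (Set.toFinite _) hsub
        exact this
      obtain ⟨n, hn⟩ := IsPGroup.iff_card.mp hR
      have hdvd : (Subgroup.centralizer ({a} : Set R)).index ∣ p ^ n := by
        rw [← hn]; exact Subgroup.index_dvd_card _
      obtain ⟨j, -, hj⟩ := (Nat.dvd_prime_pow hp).mp hdvd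
      rw [hj] at h1 ⊢
      have h2 : p ^ j < p ^ 2 := h1.trans_le hAcard
      have hj2 : j < 2 := (Nat.pow_lt_pow_iff_right hp.one_lt).mp h2
      calc p ^ j ≤ p ^ 1 := Nat.pow_le_pow_right hpos (by omega)
        _ = p := pow_one p
    have hcardC : Nat.card (Subgroup.centralizer ({a} : Set R)) ≤ p ^ 2 :=
      (Subgroup.card_le_of_le hCa).trans hAcard
    calc Nat.card R = (Subgroup.centralizer ({a} : Set R)).index *
          Nat.card (Subgroup.centralizer ({a} : Set R)) := (Subgroup.index_mul_card _).symm
      _ ≤ p * p ^ 2 := Nat.mul_le_mul hidx hcardC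
      _ = p ^ 3 := by ring

end Cfsg.Agent.S3771
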