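import Cfsg.Statements.S3772
import Mathlib
import Cfsg.Agent.Helper1.PGroup
import Cfsg.Agent.Helper1.QuadCount

set_option autoImplicit false
open Cfsg

namespace Cfsg.Agent.S3772

open scoped commutatorElement

/-- Let G be a finite 2-group whose Frattini subgroup Φ(G) has order 2, with |G : Φ(G)| = 2^d, and let j be the number of elements x of G with x² = 1. Then j = 2^d, or j = 2^d + 2^(d−r) or j = 2^d − 2^(d−r) for some positive integer r with 2r ≤ d. Moreover if d = 2r and j is 2^d + 2^r or 2^d − 2^r, then G is extraspecial. -/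
theorem result {G : Type*} [Group G] [Finite G] (hG : IsPGroup 2 G) (hΦ : Nat.card (frattini G) = 2) (d : ℕ) (hd : (frattini G).index = 2 ^ d) : (Nat.card {x : G // x ^ 2 = 1} = 2 ^ d ∨ ∃ r : ℕ, 1 ≤ r ∧ 2 * r ≤ d ∧ (Nat.card {x : G // x ^ 2 = 1} = 2 ^ d + 2 ^ (d - r) ∨ Nat.card {x : G // x ^ 2 = 1} + 2 ^ (d - r) = 2 ^ d)) ∧ (∀ r : ℕ, d = 2 * r → (Nat.card {x : G // x ^ 2 = 1} = 2 ^ d + 2 ^ r ∨ Nat.card {x : G // x ^ 2 = 1} + 2 ^ r = 2 ^ d) → Cfsg.IsExtraspecial 2 G) := by
  classical
  have : Fact (Nat.Prime 2) := ⟨Nat.prime_two⟩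
  have : Fintype G := Fintype.ofFinite G
  have hN : Nat.card G = 2 ^ (d + 1) := by
    rw [← Subgroup.card_mul_index (frattini G), hΦ, hd, pow_succ, mul_comm]
  -- the nonidentity element of the Frattini subgroup
  obtain ⟨z', hz'1, hz'u⟩ := (Nat.card_eq_two_iff' (1 : frattini G)).mp hΦ
  set z : G := (z' : G) with hz
  have hzΦ : z ∈ frattini G := z'.2
  have hz1 : z ≠ 1 := fun h => hz'1 (Subtype.ext h)
  have hΦmem : ∀ g ∈ frattini G, g = 1 ∨ g = z := by
    intro g hg
    by_cases hg1 : g = 1
    · exact Or.inl hg1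
    · right
      have := hz'u ⟨g, hg⟩ (fun h => hg1 (congrArg Subtype.val h))
      exact congrArg Subtype.val this
  have hzz : z * z = 1 := by
    rcases hΦmem _ ((frattini G).mul_mem hzΦ hzΦ) with h | h
    · exact h
    · exfalso; exact hz1 (mul_left_cancel (h.trans (mul_one z).symm))
  have hΦn : (frattini G).Normal := inferInstance
  have hzc : ∀ g : G, g * z = z * g := by
    intro g
    rcases hΦmem _ (hΦn.conj_mem z hzΦ g) with h | h
    · exfalso; apply hz1
      calc z = g⁻¹ * (g * z * g⁻¹) * g := by group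
        _ = 1 := by rw [h]; group
    · calc g * z = (g * z * g⁻¹) * g := by group
        _ = z * g := by rw [h]
  have hsq : ∀ x : G, x ^ 2 = 1 ∨ x ^ 2 = z :=
    fun x => hΦmem _ (Cfsg.Agent.Helper1.IsPGroup.pow_mem_frattini hG x)
  have hcm : ∀ w x : G, w⁻¹ * x⁻¹ * w * x = 1 ∨ w⁻¹ * x⁻¹ * w * x = z := by
    intro w x
    apply hΦmem
    apply Cfsg.Agent.Helper1.IsPGroup.commutator_le_frattini hG
    rw [commutator_def]
    have := Subgroup.commutator_mem_commutator (Subgroup.mem_top w⁻¹) (Subgroup.mem_top x⁻¹)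
    rw [commutatorElement_def] at this
    simpa using this
  set j := Nat.card {x : G // x ^ 2 = 1} with hj
  rcases Cfsg.Agent.Helper1.QuadCount.quad_count z hzz hzc hsq hcm with ⟨hZ2, hS⟩ | ⟨-, hS⟩
  swap
  · -- half of the elements square to `1`
    have hjd : j = 2 ^ d := by
      rw [hN, pow_succ] at hS
      omega
    refine ⟨Or.inl hjd, ?_⟩
    intro r _ hr
    exfalso
    have : 0 < 2 ^ r := by positivity
    omega
  -- the centre has exponent 2
  obtain ⟨e, he⟩ := IsPGroup.iff_card.mp (hG.to_subgroup (Subgroup.center G))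
  have hΦZ : frattini G ≤ Subgroup.center G := by
    intro g hg
    rw [Subgroup.mem_center_iff]
    rcases hΦmem g hg with h | h
    · intro y; rw [h, one_mul, mul_one]
    · intro y; rw [h]; exact hzc y
  have he1 : 1 ≤ e := by
    have := Subgroup.card_dvd_of_le hΦZ
    rw [hΦ, he] at this
    by_contra h0
    have : e = 0 := by omega
    subst this
    simp at this
  -- `G` is not abelian
  have hZtop : Subgroup.center G ≠ ⊤ := by
    intro htop
    have hcomm : ∀ a b : G, a * b = b * a := by
      intro a b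
      have : b ∈ Subgroup.center G := by rw [htop]; trivial
      exact (Subgroup.mem_center_iff.mp this a)
    have hexp : ∀ a : G, a ^ 2 = 1 := fun a => hZ2 a (by rw [htop]; trivial)
    have := Cfsg.Agent.Helper1.frattini_eq_bot_of_elementary Nat.prime_two hcomm hexp
    rw [this, Subgroup.card_bot] at hΦ
    omega
  have hed : e + 1 ≤ d := by
    by_contra hlt
    have hidx : Nat.card (Subgroup.center G) * (Subgroup.center G).index = Nat.card G :=
      Subgroup.card_mul_index _
    rw [he, hN] at hidx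
    have hle : e ≤ d + 1 := by
      by_contra h
      have h1 : 2 ^ e ∣ 2 ^ (d + 1) := ⟨_, hidx.symm⟩
      have := (Nat.pow_dvd_pow_iff_le_right (by norm_num : 1 < 2)).mp h1
      omega
    have hidx2 : (Subgroup.center G).index = 2 ^ (d + 1 - e) := by
      have h2 : 2 ^ (d + 1) = 2 ^ e * 2 ^ (d + 1 - e) := by
        rw [← pow_add]; congr 1; omega
      rw [h2] at hidx
      exact Nat.eq_of_mul_eq_mul_left (by positivity) hidx
    have hcyc : IsCyclic (G ⧸ Subgroup.center G) := by
      have hk : d + 1 - e = 0 ∨ d + 1 - e = 1 := by omega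
      rcases hk with hk | hk
      · rw [hk, pow_zero, Subgroup.index_eq_card] at hidx2
        have : Subsingleton (G ⧸ Subgroup.center G) := (Nat.card_eq_one_iff_unique.mp hidx2).1
        exact isCyclic_of_subsingleton
      · rw [hk, pow_one, Subgroup.index_eq_card] at hidx2
        exact isCyclic_of_prime_card hidx2
    apply hZtop
    rw [eq_top_iff]
    intro g _
    rw [Subgroup.mem_center_iff]
    intro y
    exact commutative_of_cyclic_center_quotient (QuotientGroup.mk' (Subgroup.center G))
      (by rw [QuotientGroup.ker_mk']) y g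
  -- the size of `2j - N`
  set u : ℕ := (2 * (j : ℤ) - Nat.card G).natAbs with hu
  have hu2 : u ^ 2 = 2 ^ (d + 1 + e) := by
    have h1 : ((u : ℤ)) ^ 2 = (2 * (j : ℤ) - Nat.card G) ^ 2 := by
      rw [hu, Int.natCast_natAbs, sq_abs]
    rw [hS, hN, he] at h1
    have h2 : ((u ^ 2 : ℕ) : ℤ) = ((2 ^ (d + 1 + e) : ℕ) : ℤ) := by
      push_cast
      rw [h1]
      push_cast
      ring
    exact_mod_cast h2
  obtain ⟨t, -, hut⟩ := (Nat.dvd_prime_pow Nat.prime_two).mp (⟨u, by rw [← hu2, pow_two]⟩ :
    u ∣ 2 ^ (d + 1 + e))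
  have h2t : 2 * t = d + 1 + e := by
    rw [hut, ← pow_mul] at hu2
    have := Nat.pow_right_injective (le_refl 2) hu2
    omega
  obtain ⟨t', rfl⟩ : ∃ t', t = t' + 1 := ⟨t - 1, by omega⟩
  have hjt : j = 2 ^ d + 2 ^ t' ∨ j + 2 ^ t' = 2 ^ d := by
    have h3 : (2 * (j : ℤ) - Nat.card G) = u ∨ (2 * (j : ℤ) - Nat.card G) = -u := by
      rw [hu]; exact Int.natAbs_eq _
    rw [hut, hN] at h3
    push_cast at h3
    rcases h3 with h3 | h3
    · left
      have h4 : (2 * (j : ℤ)) = 2 * (2 ^ d + 2 ^ t') := by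
        rw [pow_succ, pow_succ] at h3; linarith
      have h5 : (j : ℤ) = 2 ^ d + 2 ^ t' := by linarith
      exact_mod_cast h5
    · right
      have h4 : (2 * ((j : ℤ) + 2 ^ t')) = 2 * 2 ^ d := by
        rw [pow_succ, pow_succ] at h3; linarith
      have h5 : (j : ℤ) + 2 ^ t' = 2 ^ d := by linarith
      exact_mod_cast h5
  have ht'd : t' + 1 ≤ d := by omega
  refine ⟨Or.inr ⟨d - t', by omega, by omega, ?_⟩, ?_⟩
  · have : d - (d - t') = t' := by omega
    rw [this]; exact hjt
  · intro r hr hjr
    have hpos1 : 0 < 2 ^ r := by positivity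
    have hpos2 : 0 < 2 ^ t' := by positivity
    have htr : 2 ^ t' = 2 ^ r := by
      rcases hjt with h1 | h1 <;> rcases hjr with h2 | h2 <;> omega
    have htr' : t' = r := Nat.pow_right_injective (le_refl 2) htr
    have he1' : e = 1 := by omega
    rw [he1', pow_one] at he
    have hΦeqZ : frattini G = Subgroup.center G :=
      Subgroup.eq_of_le_of_card_ge hΦZ (by rw [he, hΦ])
    have hcomm_le : commutator G ≤ Subgroup.center G := by
      rw [← hΦeqZ]; exact Cfsg.Agent.Helper1.IsPGroup.commutator_le_frattini hG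
    have hcomm_ne : commutator G ≠ ⊥ := by
      intro hbot
      apply hZtop
      rw [eq_top_iff]
      intro g _
      rw [Subgroup.mem_center_iff]
      intro y
      have hmem : ⁅y, g⁆ ∈ commutator G := by
        rw [commutator_def]
        exact Subgroup.commutator_mem_commutator (Subgroup.mem_top y) (Subgroup.mem_top g)
      rw [hbot, Subgroup.mem_bot, commutatorElement_def] at hmem
      calc y * g = (y * g * y⁻¹ * g⁻¹) * g * y := by group
        _ = g * y := by rw [hmem, one_mul]
    have hcomm_card : Nat.card (commutator G) = 2 := by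
      have h1 := Subgroup.card_dvd_of_le hcomm_le
      rw [he] at h1
      rcases (Nat.dvd_prime Nat.prime_two).mp h1 with h | h
      · exact absurd (Subgroup.card_eq_one.mp h) hcomm_ne
      · exact h
    have hcomm_eq : commutator G = Subgroup.center G :=
      Subgroup.eq_of_le_of_card_ge hcomm_le (by rw [he, hcomm_card])
    exact ⟨⟨hG, hΦeqZ, hcomm_eq⟩, he⟩

end Cfsg.Agent.S3772
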