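import Cfsg.Statements.S3773
import Mathlib
import Cfsg.Agent.Helper1.Class2Exp4
import Cfsg.Agent.Helper1.PGroup
import Cfsg.Agent.Helper14.Frattini

set_option autoImplicit false
set_option linter.style.haveILetI false
set_option maxHeartbeats 800000
open Cfsg
open scoped commutatorElement

namespace Cfsg.Agent.S3773

/-- Let G be a finite 2-group of nilpotency class at most 2 and exponent dividing 4 in which the elements x with x² = 1 form a subgroup N. Then |G| ≤ |N|³, and |G| < |N|³ unless G is special. -/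
theorem result {G : Type*} [Group G] [Finite G] (hG : IsPGroup 2 G) (hcl : (⊤ : Subgroup G).lowerCentralSeries 2 = ⊥) (hexp : ∀ x : G, x ^ 4 = 1) (hN : ∀ x y : G, x ^ 2 = 1 → y ^ 2 = 1 → (x * y) ^ 2 = 1) : Nat.card G ≤ Nat.card {x : G // x ^ 2 = 1} ^ 3 ∧ (¬ Cfsg.IsSpecial 2 G → Nat.card G < Nat.card {x : G // x ^ 2 = 1} ^ 3) := by
  classical
  haveI : Fact (Nat.Prime 2) := ⟨Nat.prime_two⟩
  have hc : ∀ a b c : G, ⁅a, b⁆ * c = c * ⁅a, b⁆ := by
    intro a b c
    apply commutatorElement_eq_one_iff_mul_comm.mp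
    have h : ⁅⁅a, b⁆, c⁆ ∈ (⊤ : Subgroup G).lowerCentralSeries 2 :=
      Subgroup.commutator_mem_commutator
        (Subgroup.commutator_mem_commutator (Subgroup.mem_top a) (Subgroup.mem_top b))
        (Subgroup.mem_top c)
    rw [hcl, Subgroup.mem_bot] at h
    exact h
  set N : Subgroup G := Helper1.Class2Exp4.Nsub hN with hNdef
  have hcardN : Nat.card {x : G // x ^ 2 = 1} = Nat.card N := rfl
  rw [hcardN]
  -- the subgroup `M = Ω₁(Z(G))`
  have hMcard := Helper1.Class2Exp4.card_le_of_le hc hexp hN (N ⊓ Subgroup.center G) inf_le_left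
    inf_le_right
    (fun x => ⟨Helper1.Class2Exp4.sq_mem_Nsub hc hexp hN x, Helper1.Class2Exp4.sq_mem_center hc hexp x⟩)
    (fun x y => ⟨Helper1.Class2Exp4.comm_mem_Nsub hc hexp hN x y,
      Helper1.Class2Exp4.comm_mem_center hc hexp x y⟩)
  have hMN : Nat.card ↥(N ⊓ Subgroup.center G) ≤ Nat.card N := Subgroup.card_le_of_le inf_le_left
  have hNpos : 0 < Nat.card N := Nat.card_pos
  constructor
  · calc Nat.card G ≤ Nat.card ↥(N ⊓ Subgroup.center G) ^ 2 * Nat.card N := hMcard
      _ ≤ Nat.card N ^ 2 * Nat.card N := Nat.mul_le_mul_right _ (Nat.pow_le_pow_left hMN 2)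
      _ = Nat.card N ^ 3 := by ring
  · intro hns
    by_contra hge
    push Not at hge
    apply hns
    -- `N` is central
    have h1 : Nat.card N ^ 2 * Nat.card N ≤ Nat.card ↥(N ⊓ Subgroup.center G) ^ 2 * Nat.card N := by
      calc Nat.card N ^ 2 * Nat.card N = Nat.card N ^ 3 := by ring
        _ ≤ Nat.card G := hge
        _ ≤ _ := hMcard
    have h2 : Nat.card N ^ 2 ≤ Nat.card ↥(N ⊓ Subgroup.center G) ^ 2 :=
      Nat.le_of_mul_le_mul_right h1 hNpos
    have h3 : Nat.card N ≤ Nat.card ↥(N ⊓ Subgroup.center G) :=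
      (Nat.pow_le_pow_iff_left (by norm_num)).mp h2
    have hMeq : N ⊓ Subgroup.center G = N := Subgroup.eq_of_le_of_card_ge inf_le_left h3
    have hNZ : N ≤ Subgroup.center G := by
      rw [← hMeq]; exact inf_le_right
    -- `G' = N`
    have hG'N : commutator G ≤ N := by
      rw [commutator_def, Subgroup.commutator_le]
      intro x _ y _
      exact Helper1.Class2Exp4.comm_mem_Nsub hc hexp hN x y
    have hG'eq : commutator G = N := by
      apply Subgroup.eq_of_le_of_card_ge hG'N
      have h4 := Helper1.Class2Exp4.card_le_mul hc hexp hN hNZ (commutator G) hG'N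
        (fun x y => by
          rw [commutator_def]
          exact Subgroup.commutator_mem_commutator (Subgroup.mem_top x) (Subgroup.mem_top y))
      have h5 : Nat.card N ^ 2 * Nat.card N ≤ Nat.card N ^ 2 * Nat.card (commutator G) := by
        calc Nat.card N ^ 2 * Nat.card N = Nat.card N ^ 3 := by ring
          _ ≤ Nat.card G := hge
          _ ≤ _ := h4
      exact Nat.le_of_mul_le_mul_left h5 (by positivity)
    -- `Z(G) = N`
    have hZeq : Subgroup.center G = N := by
      apply le_antisymm _ hNZ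
      intro x₀ hx₀
      by_contra hx₀N
      have h6 : 2 * Nat.card G ≤ Nat.card N ^ 3 :=
        Helper1.Class2Exp4.two_mul_card_le hc hexp hN hNZ x₀ hx₀ hx₀N
      have h7 : 0 < Nat.card G := Nat.card_pos
      omega
    -- `Φ(G) = N`
    have hΦle : frattini G ≤ N :=
      Helper14.frattini_le_of_elemAb 2 N (fun a b => Helper1.Class2Exp4.comm_mem_Nsub hc hexp hN a b)
        (fun a => by rw [pow_two]; exact Helper1.Class2Exp4.sq_mem_Nsub hc hexp hN a)
    have hΦge : N ≤ frattini G := by
      rw [← hG'eq]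
      exact Helper1.IsPGroup.commutator_le_frattini hG
    refine ⟨hG, ?_, ?_⟩
    · rw [hZeq]; exact le_antisymm hΦle hΦge
    · rw [hZeq]; exact hG'eq

end Cfsg.Agent.S3773
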