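import Cfsg.Statements.S3774
import Mathlib

set_option autoImplicit false
open Cfsg

namespace Cfsg.Agent.S3774

/-- Let G be a nontrivial finite 2-group whose automorphism group permutes the involutions of G transitively. Then every involution of G is central, so that the involutions together with 1 form the subgroup Ω₁(Z(G)), and if this subgroup has order q then |G| is a power of q. -/
theorem result {G : Type*} [Group G] [Finite G] [Nontrivial G] (hG : IsPGroup 2 G) (htrans : ∀ x y : G, x ≠ 1 → x ^ 2 = 1 → y ≠ 1 → y ^ 2 = 1 → ∃ a : MulAut G, a x = y) : (∀ x : G, x ^ 2 = 1 → x ∈ Subgroup.center G) ∧ ∃ m : ℕ, Nat.card G = Nat.card {z : G // z ^ 2 = 1} ^ m := by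
  classical
  have : Fact (Nat.Prime 2) := ⟨Nat.prime_two⟩
  have : Fintype G := Fintype.ofFinite G
  -- a central involution
  have hcen : Nontrivial (Subgroup.center G) := hG.center_nontrivial
  obtain ⟨c, hc1⟩ := exists_ne (1 : Subgroup.center G)
  have hc1' : (c : G) ≠ 1 := fun h => hc1 (Subtype.ext h)
  obtain ⟨k, hk⟩ := (IsPGroup.iff_orderOf.mp hG) (c : G)
  have hk0 : k ≠ 0 := by
    intro h0
    rw [h0, pow_zero, orderOf_eq_one_iff] at hk
    exact hc1' hk
  obtain ⟨k', rfl⟩ : ∃ k', k = k' + 1 := ⟨k - 1, by omega⟩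
  set z₀ : G := (c : G) ^ 2 ^ k' with hz₀
  have hz₀c : z₀ ∈ Subgroup.center G := (Subgroup.center G).pow_mem c.2 _
  have hz₀2 : z₀ ^ 2 = 1 := by
    rw [hz₀, ← pow_mul, ← pow_succ, ← hk]; exact pow_orderOf_eq_one _
  have hz₀1 : z₀ ≠ 1 := by
    apply pow_ne_one_of_lt_orderOf (by positivity)
    rw [hk]; exact Nat.pow_lt_pow_right (by norm_num) (Nat.lt_succ_self k')
  -- part 1
  have hpart1 : ∀ x : G, x ^ 2 = 1 → x ∈ Subgroup.center G := by
    intro x hx
    by_cases hx1 : x = 1
    · rw [hx1]; exact Subgroup.one_mem _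
    · obtain ⟨a, ha⟩ := htrans z₀ x hz₀1 hz₀2 hx1 hx
      rw [Subgroup.mem_center_iff]
      intro g
      have h1 := (Subgroup.mem_center_iff.mp hz₀c) (a.symm g)
      have h2 := congrArg a h1
      rw [map_mul, map_mul, ha, MulEquiv.apply_symm_apply] at h2
      exact h2
  refine ⟨hpart1, ?_⟩
  -- the root map
  set root : G → G := fun x => x ^ (orderOf x / 2) with hroot
  have hord : ∀ x : G, x ≠ 1 → ∃ j, orderOf x = 2 ^ (j + 1) := by
    intro x hx
    obtain ⟨j, hj⟩ := (IsPGroup.iff_orderOf.mp hG) x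
    rcases j with _ | j
    · exfalso; rw [pow_zero, orderOf_eq_one_iff] at hj; exact hx hj
    · exact ⟨j, hj⟩
  have hroot2 : ∀ x : G, (root x) ^ 2 = 1 := by
    intro x
    by_cases hx : x = 1
    · simp [hroot, hx]
    · obtain ⟨j, hj⟩ := hord x hx
      simp only [hroot]
      rw [← pow_mul, Nat.div_mul_cancel (by rw [hj, pow_succ]; exact dvd_mul_left 2 _)]
      exact pow_orderOf_eq_one x
  have hroot1 : ∀ x : G, root x = 1 ↔ x = 1 := by
    intro x
    constructor
    · intro h
      by_contra hx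
      obtain ⟨j, hj⟩ := hord x hx
      simp only [hroot] at h
      have hdiv : orderOf x / 2 = 2 ^ j := by
        rw [hj, pow_succ, Nat.mul_div_cancel _ (by norm_num)]
      rw [hdiv] at h
      revert h
      apply pow_ne_one_of_lt_orderOf (by positivity)
      rw [hj]; exact Nat.pow_lt_pow_right (by norm_num) (Nat.lt_succ_self j)
    · intro h; simp [hroot, h]
  have hroot_aut : ∀ (a : MulAut G) (x : G), root (a x) = a (root x) := by
    intro a x
    simp only [hroot]
    rw [MulEquiv.orderOf_eq a x, map_pow]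
  -- counting
  set Efin : Finset G := Finset.univ.filter (fun z : G => z ^ 2 = 1) with hEfin
  have hEcard : Efin.card = Nat.card {z : G // z ^ 2 = 1} := by
    rw [Nat.card_eq_fintype_card, Fintype.card_subtype]
  have h1E : (1 : G) ∈ Efin := by simp [hEfin]
  have hz₀E : z₀ ∈ Efin := by simp [hEfin, hz₀2]
  set ρ : ℕ := (Finset.univ.filter (fun x : G => root x = z₀)).card with hρ
  have hfib : ∀ b ∈ Efin.erase 1, (Finset.univ.filter (fun x : G => root x = b)).card = ρ := by
    intro b hb
    rw [Finset.mem_erase] at hb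
    obtain ⟨hb1, hbE⟩ := hb
    have hb2 : b ^ 2 = 1 := by simpa [hEfin] using hbE
    obtain ⟨a, ha⟩ := htrans z₀ b hz₀1 hz₀2 hb1 hb2
    rw [hρ]
    symm
    apply Finset.card_bijective a a.bijective
    intro x
    simp only [Finset.mem_filter, Finset.mem_univ, true_and]
    rw [hroot_aut, ← ha]
    exact (a.injective.eq_iff).symm
  have hfib1 : (Finset.univ.filter (fun x : G => root x = 1)).card = 1 := by
    rw [Finset.card_eq_one]
    refine ⟨1, ?_⟩
    ext x
    simp only [Finset.mem_filter, Finset.mem_univ, true_and, Finset.mem_singleton]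
    exact hroot1 x
  have hcount : Fintype.card G = 1 + (Efin.card - 1) * ρ := by
    have h1 : (Finset.univ : Finset G).card = ∑ b ∈ Efin, (Finset.univ.filter (fun x : G => root x = b)).card := by
      apply Finset.card_eq_sum_card_fiberwise
      intro x _
      have : root x ∈ Efin := by
        rw [hEfin, Finset.mem_filter]; exact ⟨Finset.mem_univ _, hroot2 x⟩
      exact Finset.mem_coe.mpr this
    rw [Finset.card_univ] at h1
    rw [h1, ← Finset.add_sum_erase Efin _ h1E, hfib1, Finset.sum_congr rfl hfib, Finset.sum_const,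
      Finset.card_erase_of_mem h1E, smul_eq_mul]
  -- orders
  obtain ⟨n, hn⟩ := IsPGroup.iff_card.mp hG
  -- E is a 2-group: its cardinality is a power of 2
  let Ω : Subgroup G :=
    { carrier := {x | x ^ 2 = 1}
      one_mem' := by simp
      mul_mem' := by
        intro x y hx hy
        have hxc := hpart1 x hx
        show (x * y) ^ 2 = 1
        have hcomm : Commute x y := (Subgroup.mem_center_iff.mp hxc y).symm
        rw [hcomm.mul_pow, hx, hy, one_mul]
      inv_mem' := by
        intro x hx
        show x⁻¹ ^ 2 = 1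
        rw [inv_pow, hx, inv_one] }
  have hΩcard : Nat.card Ω = Nat.card {z : G // z ^ 2 = 1} := rfl
  obtain ⟨k, hk⟩ := IsPGroup.iff_card.mp (hG.to_subgroup Ω)
  rw [hΩcard] at hk
  have hk0 : k ≠ 0 := by
    intro h0
    rw [h0, pow_zero, ← hEcard] at hk
    have : Efin.card ≥ 2 := by
      have hsub : ({1, z₀} : Finset G) ⊆ Efin := by
        intro y hy
        simp only [Finset.mem_insert, Finset.mem_singleton] at hy
        rcases hy with rfl | rfl
        · exact h1E
        · exact hz₀E
      calc 2 = ({1, z₀} : Finset G).card := (Finset.card_pair (Ne.symm hz₀1)).symm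
        _ ≤ Efin.card := Finset.card_le_card hsub
    omega
  rw [← Nat.card_eq_fintype_card, hn, hEcard, hk] at hcount
  -- divisibility
  have hdvd : 2 ^ k - 1 ∣ 2 ^ n - 1 := ⟨ρ, by rw [hcount]; omega⟩
  have hgcd := Nat.pow_sub_one_gcd_pow_sub_one 2 k n
  rw [Nat.gcd_eq_left hdvd] at hgcd
  have hpos1 : 1 ≤ 2 ^ k := Nat.one_le_two_pow
  have hpos2 : 1 ≤ 2 ^ Nat.gcd k n := Nat.one_le_two_pow
  have heq : 2 ^ k = 2 ^ Nat.gcd k n := by omega
  have hkg : k = Nat.gcd k n := Nat.pow_right_injective (le_refl 2) heq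
  have hkn : k ∣ n := by rw [hkg]; exact Nat.gcd_dvd_right k n
  obtain ⟨m, hm⟩ := hkn
  refine ⟨m, ?_⟩
  rw [hn, hk, hm, pow_mul]

end Cfsg.Agent.S3774
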