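import Cfsg.Statements.S3775
import Cfsg.Agent.Helper21.IndecAb

set_option linter.style.haveILetI false

set_option autoImplicit false
open Cfsg

namespace Cfsg.Agent.S3775

/-- Let A be a finite abelian p-group and X a group of automorphisms of A of order prime to p. Call a subgroup of A invariant when every element of X maps it onto itself. Then the following are equivalent: (i) A is not the direct product of two nontrivial invariant subgroups; (ii) every invariant subgroup of A is one of the subgroups Ω_i(A) = {a : a^(p^i) = 1}; (iii) the subgroup Ω₁(A) of elements of order dividing p has no invariant subgroups other than 1 and itself. -/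
theorem result {A : Type*} [CommGroup A] [Finite A] {p : ℕ} [Fact p.Prime] (hA : IsPGroup p A) (X : Subgroup (MulAut A)) (hX : (Nat.card X).Coprime p) : ((¬ ∃ B C : Subgroup A, B ≠ ⊥ ∧ C ≠ ⊥ ∧ (∀ x ∈ X, B.map x.toMonoidHom = B) ∧ (∀ x ∈ X, C.map x.toMonoidHom = C) ∧ B ⊓ C = ⊥ ∧ B ⊔ C = ⊤) ↔ (∀ B : Subgroup A, (∀ x ∈ X, B.map x.toMonoidHom = B) → ∃ i : ℕ, ∀ a : A, a ∈ B ↔ a ^ p ^ i = 1)) ∧ ((∀ B : Subgroup A, (∀ x ∈ X, B.map x.toMonoidHom = B) → ∃ i : ℕ, ∀ a : A, a ∈ B ↔ a ^ p ^ i = 1) ↔ (∀ B : Subgroup A, (∀ x ∈ X, B.map x.toMonoidHom = B) → (∀ b ∈ B, b ^ p = 1) → B = ⊥ ∨ ∀ a : A, a ∈ B ↔ a ^ p = 1)) := by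
  classical
  have hp : p.Prime := Fact.out
  let σ : ↥X → A →* A := fun x => (x : MulAut A).toMonoidHom
  have hσ : ∀ (x : ↥X) (a : A), σ x a = (x : MulAut A) a := fun x a => rfl
  have hσ1 : ∀ v, σ 1 v = v := fun v => rfl
  have hσmul : ∀ a b v, σ (a * b) v = σ a (σ b v) := fun a b v => rfl
  have hpX : ¬ p ∣ Nat.card X := by
    intro h
    have := Nat.Coprime.eq_one_of_dvd hX.symm h
    exact hp.one_lt.ne' this
  -- invariance: the two forms
  have inv_iff : ∀ B : Subgroup A, (∀ x ∈ X, B.map x.toMonoidHom = B) ↔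
      Cfsg.Agent.Helper21.IndecAb.Inv σ B := by
    intro B
    constructor
    · intro h x b hb
      have := h x x.2
      rw [← this]
      exact ⟨b, hb, rfl⟩
    · intro h x hx
      apply le_antisymm
      · rintro _ ⟨b, hb, rfl⟩
        exact h ⟨x, hx⟩ b hb
      · intro b hb
        refine ⟨x⁻¹ b, h ⟨x⁻¹, inv_mem hx⟩ b hb, ?_⟩
        change x (x⁻¹ b) = b
        rw [← MulAut.mul_apply, mul_inv_cancel, MulAut.one_apply]
  obtain ⟨k, hk⟩ := IsPGroup.iff_card.mp hA
  have hAexp : ∀ a : A, a ^ p ^ k = 1 := fun a => by rw [← hk]; exact pow_card_eq_one'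
  -- (ii) → (i)
  have h21 : (∀ B : Subgroup A, (∀ x ∈ X, B.map x.toMonoidHom = B) →
      ∃ i : ℕ, ∀ a : A, a ∈ B ↔ a ^ p ^ i = 1) →
      ¬ ∃ B C : Subgroup A, B ≠ ⊥ ∧ C ≠ ⊥ ∧ (∀ x ∈ X, B.map x.toMonoidHom = B) ∧
        (∀ x ∈ X, C.map x.toMonoidHom = C) ∧ B ⊓ C = ⊥ ∧ B ⊔ C = ⊤ := by
    rintro h2 ⟨B, C, hB, hC, hBi, hCi, hinf, -⟩
    obtain ⟨i, hi⟩ := h2 B hBi
    obtain ⟨j, hj⟩ := h2 C hCi
    have aux : ∀ (B C : Subgroup A) (i j : ℕ), (∀ a : A, a ∈ B ↔ a ^ p ^ i = 1) →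
        (∀ a : A, a ∈ C ↔ a ^ p ^ j = 1) → i ≤ j → B ≤ C := by
      intro B C i j hi hj hij b hb
      rw [hj]
      have h1 := (hi b).mp hb
      obtain ⟨d, rfl⟩ := Nat.exists_eq_add_of_le hij
      rw [pow_add, pow_mul, h1, one_pow]
    rcases le_total i j with hij | hij
    · apply hB
      have := aux B C i j hi hj hij
      rw [← hinf]
      exact (inf_of_le_left this).symm
    · apply hC
      have := aux C B j i hj hi hij
      rw [← hinf]
      exact (inf_of_le_right this).symm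
  -- (ii) → (iii)
  have h23 : (∀ B : Subgroup A, (∀ x ∈ X, B.map x.toMonoidHom = B) →
      ∃ i : ℕ, ∀ a : A, a ∈ B ↔ a ^ p ^ i = 1) →
      (∀ B : Subgroup A, (∀ x ∈ X, B.map x.toMonoidHom = B) → (∀ b ∈ B, b ^ p = 1) →
        B = ⊥ ∨ ∀ a : A, a ∈ B ↔ a ^ p = 1) := by
    intro h2 B hBi hBp
    obtain ⟨i, hi⟩ := h2 B hBi
    by_cases hB : B = ⊥
    · exact Or.inl hB
    · right
      intro a
      refine ⟨hBp a, fun ha => ?_⟩
      rw [hi]
      rcases Nat.eq_zero_or_pos i with rfl | hipos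
      · exfalso
        apply hB
        rw [eq_bot_iff]
        intro b hb
        have := (hi b).mp hb
        rw [pow_zero, pow_one] at this
        rw [this]; exact one_mem _
      · obtain ⟨i', rfl⟩ := Nat.exists_eq_succ_of_ne_zero hipos.ne'
        rw [Nat.succ_eq_add_one, pow_succ', pow_mul, ha, one_pow]
  -- (iii) → (ii)
  have h32 : (∀ B : Subgroup A, (∀ x ∈ X, B.map x.toMonoidHom = B) → (∀ b ∈ B, b ^ p = 1) →
        B = ⊥ ∨ ∀ a : A, a ∈ B ↔ a ^ p = 1) →
      (∀ B : Subgroup A, (∀ x ∈ X, B.map x.toMonoidHom = B) →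
        ∃ i : ℕ, ∀ a : A, a ∈ B ↔ a ^ p ^ i = 1) := by
    intro h3
    have key : ∀ i : ℕ, ∀ B : Subgroup A, Cfsg.Agent.Helper21.IndecAb.Inv σ B →
        (∀ b ∈ B, b ^ p ^ (i + 1) = 1) → (∃ b ∈ B, b ^ p ^ i ≠ 1) →
        ∀ a : A, a ^ p ^ (i + 1) = 1 → a ∈ B := by
      intro i
      induction i with
      | zero =>
        intro B hBinv hBexp hBne a ha
        obtain ⟨b₀, hb₀, hb₀1⟩ := hBne
        rw [pow_zero, pow_one] at hb₀1
        rw [zero_add, pow_one] at ha
        have hB1 : B ≠ ⊥ := by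
          intro h
          rw [h, Subgroup.mem_bot] at hb₀
          exact hb₀1 hb₀
        rcases h3 B ((inv_iff B).mpr hBinv) (fun b hb => by simpa using hBexp b hb) with h | h
        · exact absurd h hB1
        · exact (h a).mpr ha
      | succ i ih =>
        intro B hBinv hBexp hBne a ha
        obtain ⟨b₀, hb₀, hb₀1⟩ := hBne
        set B'' : Subgroup A := B.map (powMonoidHom (p ^ (i + 1))) with hB''
        have hB''inv := hBinv.mapPow (p ^ (i + 1))
        have hB''exp : ∀ b ∈ B'', b ^ p = 1 := by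
          rintro _ ⟨b, hb, rfl⟩
          rw [powMonoidHom_apply, ← pow_mul, ← pow_succ]
          exact hBexp b hb
        have hB''1 : B'' ≠ ⊥ := by
          intro h
          have : b₀ ^ p ^ (i + 1) ∈ B'' := ⟨b₀, hb₀, rfl⟩
          rw [h, Subgroup.mem_bot] at this
          exact hb₀1 this
        have hB''all : ∀ a : A, a ∈ B'' ↔ a ^ p = 1 :=
          (h3 B'' ((inv_iff B'').mpr hB''inv) hB''exp).resolve_left hB''1
        set B' : Subgroup A := B.map (powMonoidHom p) with hB'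
        have hB'inv := hBinv.mapPow p
        have hB'B : B' ≤ B := by
          rintro _ ⟨b, hb, rfl⟩
          rw [powMonoidHom_apply]
          exact pow_mem hb p
        have hB'exp : ∀ b ∈ B', b ^ p ^ (i + 1) = 1 := by
          rintro _ ⟨b, hb, rfl⟩
          rw [powMonoidHom_apply, ← pow_mul, ← pow_succ']
          exact hBexp b hb
        have hB'ne : ∃ b ∈ B', b ^ p ^ i ≠ 1 := by
          refine ⟨b₀ ^ p, ⟨b₀, hb₀, rfl⟩, ?_⟩
          rw [← pow_mul, ← pow_succ']
          exact hb₀1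
        have hB'all := ih B' hB'inv hB'exp hB'ne
        have h1 : (a ^ p ^ (i + 1)) ^ p = 1 := by
          rw [← pow_mul, ← pow_succ]; exact ha
        obtain ⟨b, hb, hba⟩ := (hB''all _).mpr h1
        rw [powMonoidHom_apply] at hba
        have h2 : (a * b⁻¹) ^ p ^ (i + 1) = 1 := by
          rw [mul_pow, inv_pow, hba, mul_inv_cancel]
        have h3' : a * b⁻¹ ∈ B := hB'B (hB'all _ h2)
        have : a = (a * b⁻¹) * b := by group
        rw [this]
        exact mul_mem h3' hb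
    intro B hBi
    have hBinv := (inv_iff B).mp hBi
    by_cases hB : B = ⊥
    · refine ⟨0, fun a => ?_⟩
      rw [hB, Subgroup.mem_bot, pow_zero, pow_one]
    · have hex : ∃ m : ℕ, ∀ b ∈ B, b ^ p ^ m = 1 := ⟨k, fun b _ => hAexp b⟩
      have hm0 : Nat.find hex ≠ 0 := by
        intro h0
        have := Nat.find_spec hex
        rw [h0] at this
        apply hB
        rw [eq_bot_iff]
        intro b hb
        have h1 := this b hb
        rw [pow_zero, pow_one] at h1
        rw [h1]; exact one_mem _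
      obtain ⟨i, hi⟩ := Nat.exists_eq_succ_of_ne_zero hm0
      have hexp : ∀ b ∈ B, b ^ p ^ (i + 1) = 1 := by
        have := Nat.find_spec hex
        rwa [hi] at this
      have hne : ∃ b ∈ B, b ^ p ^ i ≠ 1 := by
        have := Nat.find_min hex (show i < Nat.find hex by rw [hi]; exact Nat.lt_succ_self i)
        push Not at this
        exact this
      exact ⟨i + 1, fun a => ⟨fun ha => hexp a ha, key i B hBinv hexp hne a⟩⟩
  -- (i) → (iii)
  have h13 : (¬ ∃ B C : Subgroup A, B ≠ ⊥ ∧ C ≠ ⊥ ∧ (∀ x ∈ X, B.map x.toMonoidHom = B) ∧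
        (∀ x ∈ X, C.map x.toMonoidHom = C) ∧ B ⊓ C = ⊥ ∧ B ⊔ C = ⊤) →
      (∀ B : Subgroup A, (∀ x ∈ X, B.map x.toMonoidHom = B) → (∀ b ∈ B, b ^ p = 1) →
        B = ⊥ ∨ ∀ a : A, a ∈ B ↔ a ^ p = 1) := by
    intro h1 B hBi hBp
    have hBinv := (inv_iff B).mp hBi
    by_cases hB : B = ⊥
    · exact Or.inl hB
    right
    intro a
    refine ⟨hBp a, fun ha => ?_⟩
    have hind : ∀ B C : Subgroup A, Cfsg.Agent.Helper21.IndecAb.Inv σ B →
        Cfsg.Agent.Helper21.IndecAb.Inv σ C → B ⊓ C = ⊥ → B ⊔ C = ⊤ → B = ⊥ ∨ C = ⊥ := by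
      intro B C hB' hC' hinf hsup
      by_contra hcon
      push Not at hcon
      exact h1 ⟨B, C, hcon.1, hcon.2, (inv_iff B).mpr hB', (inv_iff C).mpr hC', hinf, hsup⟩
    have hex : ∃ m : ℕ, ∀ a : A, a ^ p ^ m = 1 := ⟨k, hAexp⟩
    have hm0 : Nat.find hex ≠ 0 := by
      intro h0
      have := Nat.find_spec hex
      rw [h0] at this
      apply hB
      rw [eq_bot_iff]
      intro b _
      have h2 := this b
      rw [pow_zero, pow_one] at h2
      rw [h2]; exact one_mem _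
    obtain ⟨n, hn⟩ := Nat.exists_eq_succ_of_ne_zero hm0
    have hexp : ∀ a : A, a ^ p ^ (n + 1) = 1 := by
      have := Nat.find_spec hex
      rwa [hn] at this
    have hne : ∃ a : A, a ^ p ^ n ≠ 1 := by
      have := Nat.find_min hex (show n < Nat.find hex by rw [hn]; exact Nat.lt_succ_self n)
      push Not at this
      exact this
    obtain ⟨a₀, ha₀⟩ := hne
    set E₀ : Subgroup A := (powMonoidHom (p ^ n) : A →* A).range with hE₀
    have hE₀inv : Cfsg.Agent.Helper21.IndecAb.Inv σ E₀ := by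
      rintro x _ ⟨c, rfl⟩
      exact ⟨σ x c, by rw [powMonoidHom_apply, powMonoidHom_apply, map_pow]⟩
    have hE₀1 : E₀ ≠ ⊥ := by
      intro h
      have : a₀ ^ p ^ n ∈ E₀ := ⟨a₀, rfl⟩
      rw [h, Subgroup.mem_bot] at this
      exact ha₀ this
    have hΩE₀ := Cfsg.Agent.Helper21.IndecAb.omega_le_of_indecomposable σ hσ1 hσmul p hpX n hexp
      hind E₀ hE₀inv hE₀1 (fun e he => by obtain ⟨c, hc⟩ := he; exact ⟨c, hc⟩)
    have hBφ : ∀ e ∈ B, ∃ c : A, c ^ p ^ n = e := by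
      intro e he
      obtain ⟨c, hc⟩ := hΩE₀ e (hBp e he)
      exact ⟨c, hc⟩
    exact Cfsg.Agent.Helper21.IndecAb.omega_le_of_indecomposable σ hσ1 hσmul p hpX n hexp
      hind B hBinv hB hBφ a ha
  exact ⟨⟨fun h => h32 (h13 h), h21⟩, ⟨h23, h32⟩⟩

end Cfsg.Agent.S3775
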