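import Cfsg.Statements.S3778
import Mathlib
import Cfsg.Agent.Helper1.Breadth

set_option autoImplicit false
set_option linter.style.haveILetI false
open Cfsg

namespace Cfsg.Agent.S3778

/-- If G is a finite p-group in which every conjugacy class has at most p^b elements (every element has centralizer of index at most p^b), then G is abelian when b = 0, and when b ≥ 1 its nilpotency class c satisfies (c − 1)(p − 1) < bp, that is c < bp/(p − 1) + 1, and hence c ≤ 2b. -/
theorem result {G : Type*} [Group G] [Finite G] {p : ℕ} [Fact p.Prime] (hG : IsPGroup p G) (b : ℕ) (hb : ∀ x : G, (Subgroup.centralizer ({x} : Set G)).index ≤ p ^ b) : ∃ c : ℕ, (⊤ : Subgroup G).lowerCentralSeries c = ⊥ ∧ (b ≠ 0 → (c - 1) * (p - 1) < b * p ∧ c ≤ 2 * b) ∧ (b = 0 → c ≤ 1) := by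
  haveI : Group.IsNilpotent G := hG.isNilpotent
  have hp : p.Prime := Fact.out
  refine ⟨Group.nilpotencyClass G, Subgroup.lowerCentralSeries_nilpotencyClass, ?_, ?_⟩
  · intro hb0
    have hmain : (Group.nilpotencyClass G - 1) * (p - 1) < b * p := by
      apply Helper1.Breadth.class_bound hG b hb0 hb (Group.nilpotencyClass G)
        Subgroup.lowerCentralSeries_nilpotencyClass
      intro i hi h
      have := Subgroup.lowerCentralSeries_eq_bot_iff_nilpotencyClass_le.mp h
      omega
    refine ⟨hmain, ?_⟩
    by_contra hlt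
    push Not at hlt
    have h1 : 2 * b ≤ Group.nilpotencyClass G - 1 := by omega
    have h2 : 2 ≤ p := hp.two_le
    have h3 : 2 * b * (p - 1) ≤ (Group.nilpotencyClass G - 1) * (p - 1) :=
      Nat.mul_le_mul_right _ h1
    have h4 : b * p ≤ 2 * b * (p - 1) := by
      obtain ⟨q, rfl⟩ : ∃ q, p = q + 2 := ⟨p - 2, by omega⟩
      have : q + 2 - 1 = q + 1 := by omega
      rw [this]
      nlinarith
    omega
  · intro hb0
    rw [← Subgroup.lowerCentralSeries_eq_bot_iff_nilpotencyClass_le]
    change ⁅(⊤ : Subgroup G), ⊤⁆ = ⊥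
    rw [Subgroup.commutator_eq_bot_iff_le_centralizer]
    intro x _
    rw [Subgroup.mem_centralizer_iff]
    intro y _
    have h1 := hb y
    rw [hb0, pow_zero] at h1
    have h2 : (Subgroup.centralizer ({y} : Set G)).index = 1 := by
      have : (Subgroup.centralizer ({y} : Set G)).index ≠ 0 := Subgroup.index_ne_zero_of_finite
      omega
    rw [Subgroup.index_eq_one] at h2
    have h3 : x ∈ Subgroup.centralizer ({y} : Set G) := by rw [h2]; exact Subgroup.mem_top x
    exact Subgroup.mem_centralizer_iff.mp h3 y rfl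

end Cfsg.Agent.S3778
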