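import Cfsg.Statements.S3779
import Cfsg.Agent.Helper9.LieGrMain
import Cfsg.Agent.Helper20.SC
import Cfsg.Agent.Helper9.LieGrpAut
import Cfsg.Agent.Helper4.LieGrpConcl
import Cfsg.Agent.S0033

set_option autoImplicit false
open Cfsg

namespace Cfsg.Agent.S3779

open Cfsg.Agent.Helper9.LieGr Cfsg.Agent.LieGrp

universe u

/-- a fixed-point-free automorphism of prime order `p`: `|G|` is prime to `p`. -/
theorem coprime_card_of_fpf {G : Type*} [Group G] [Finite G] {p : ℕ} (hp : p.Prime) (α : MulAut G)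
    (hα : orderOf α = p) (hfpf : ∀ g : G, α g = g → g = 1) : Nat.Coprime (Nat.card G) p := by
  have : Fact p.Prime := ⟨hp⟩
  have hZ : IsPGroup p (Subgroup.zpowers α) := by
    apply IsPGroup.of_card (n := 1)
    rw [Nat.card_zpowers, hα, pow_one]
  have h1 := hZ.card_modEq_card_fixedPoints G
  have h2 : MulAction.fixedPoints (Subgroup.zpowers α) G = {1} := by
    ext x
    rw [MulAction.mem_fixedPoints, Set.mem_singleton_iff]
    constructor
    · intro h
      exact hfpf x (h ⟨α, Subgroup.mem_zpowers α⟩)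
    · rintro rfl z
      exact smul_one z
  rw [h2] at h1
  have h3 : Nat.card (({1} : Set G)) = 1 := by simp
  rw [h3] at h1
  rw [Nat.coprime_comm, Nat.Prime.coprime_iff_not_dvd hp]
  intro hdvd
  have h4 : Nat.card G % p = 0 := Nat.mod_eq_zero_of_dvd hdvd
  have h5 : Nat.card G % p = 1 % p := h1
  rw [h4, Nat.mod_eq_of_lt hp.one_lt] at h5
  exact absurd h5 (by norm_num)

/-- group side: from the Lie ring statement (applied to the associated graded Lie ring `LG G` and the
induced automorphism) to the group. -/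
theorem lcs_eq_bot_of_lie {G : Type u} [Group G] [Finite G] {p : ℕ} [Fact p.Prime] (c : ℕ)
    (hlie : ∀ (L : Type u) [LieRing L] (e : ℕ), Nat.Coprime e p → (∀ x : L, e • x = 0) →
      ∀ (α : L ≃+ L), (∀ x y, α ⁅x, y⁆ = ⁅α x, α y⁆) → (∀ x, (α^[p]) x = x) →
      (∀ x, α x = x → x = 0) → ∀ l : List L, l.length = c + 1 → lnProd l = 0)
    (α : MulAut G) (hα : orderOf α = p) (hfpf : ∀ g : G, α g = g → g = 1)
    (hnil : Group.IsNilpotent G) :
    (⊤ : Subgroup G).lowerCentralSeries c = ⊥ := by
  apply lcs_eq_bot_of_lnProd hnil c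
  refine hlie (LG G) (Nat.card G) (coprime_card_of_fpf Fact.out α hα hfpf) card_nsmul_LG (autLG α)
    (autLG_lie α) ?_ (autLG_fixed α hfpf)
  intro x
  rw [autLG_iterate, ← hα, pow_orderOf_eq_one, autLG_one]

/-- the reduction: graded statement for `c` ⇒ group statement for `c`
(nilpotency: Thompson, S0033; scalar extension to `ℤ[ζ_p]`: `sc_main`). -/
theorem main_of_graded {G : Type u} [Group G] [Finite G] {p : ℕ} (hp : p.Prime) (c : ℕ)
    (hgr : ∀ (M : Type u) [LieRing M] (N : ZMod p → AddSubgroup M), IsGrading N →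
      (⨆ i, N i = ⊤) → ∀ l : List M, l.length = c + 1 → lnProd l = 0)
    (α : MulAut G) (hα : orderOf α = p) (hfpf : ∀ g : G, α g = g → g = 1) :
    (⊤ : Subgroup G).lowerCentralSeries c = ⊥ := by
  have : Fact p.Prime := ⟨hp⟩
  exact lcs_eq_bot_of_lie c
    (fun L _ e he hexp β hβ hβp hfix l hl =>
      Cfsg.Agent.Helper20.SC.sc_main c hgr e he hexp β hβ hβp hfix l hl)
    α hα hfpf (Cfsg.Agent.S0033.result α hfpf p hp hα)

/-- Let G be a finite group with an automorphism of prime order p fixing only the identity. Then G is nilpotent; if p = 2 then G is abelian, if p = 3 then G has class at most 2, and in general the class of G is at most ξ = 1 + (p−1) + (p−1)² + ⋯ + (p−1)^(n−1) with n = 2^(p−1) − 1 (the Higman–Kreknin–Kostrikin bound). -/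
theorem result {G : Type*} [Group G] [Finite G] {p : ℕ} (hp : p.Prime) (α : MulAut G) (hα : orderOf α = p) (hfpf : ∀ g : G, α g = g → g = 1) : (p = 2 → (⊤ : Subgroup G).lowerCentralSeries 1 = ⊥) ∧ (p = 3 → (⊤ : Subgroup G).lowerCentralSeries 2 = ⊥) ∧ (⊤ : Subgroup G).lowerCentralSeries (Finset.sum (Finset.range (2 ^ (p - 1) - 1)) (fun i => (p - 1) ^ i)) = ⊥ := by
  refine ⟨?_, ?_, ?_⟩
  · rintro rfl
    exact main_of_graded hp 1 (fun M _ N hN hsup l hl => graded_two hN hsup l hl) α hα hfpf
  · rintro rfl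
    exact main_of_graded hp 2 (fun M _ N hN hsup l hl => graded_three hN hsup l hl) α hα hfpf
  · have : Fact p.Prime := ⟨hp⟩
    exact main_of_graded hp _ (fun M _ N hN hsup l hl => graded_main N hN hsup l hl) α hα hfpf

end Cfsg.Agent.S3779
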