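import Cfsg.Statements.S3782
import Cfsg.Agent.Helper9.AlpPGroup
import Cfsg.Agent.Helper1.AlpA7b
import Cfsg.Agent.S3779

set_option autoImplicit false
open Cfsg

namespace Cfsg.Agent.S3782

open Cfsg.Agent.Helper9.Alp Cfsg.Agent.Helper9.LieGr

/-- `p'`-groups: a fixed-point-free automorphism `φ` with `φ ^ p = 1` (Higman–Kreknin–Kostrikin, S3779). -/
theorem pprime_bound {p : ℕ} (hp : p.Prime) (N : Type) [Group N] [Finite N] (φ : MulAut N)
    (hφ : φ ^ p = 1) (hfpf : ∀ g, φ g = g → g = 1) : derivedSeries N (hkk p) = ⊥ := by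
  have hord : orderOf φ ∣ p := orderOf_dvd_of_pow_eq_one hφ
  rcases (Nat.dvd_prime hp).mp hord with h1 | h1
  · have hφ1 : φ = 1 := orderOf_eq_one_iff.mp h1
    have htriv : ∀ g : N, g = 1 := fun g => hfpf g (by rw [hφ1]; rfl)
    rw [eq_bot_iff]
    intro g _
    rw [htriv g]; exact one_mem _
  · have h3 := (Cfsg.Agent.S3779.result hp φ h1 hfpf).2.2
    rw [eq_bot_iff]
    exact (Subgroup.derived_le_lower_central (hkk p)).trans (le_of_eq h3)

/-- Alperin's Theorem: for each prime p and each n ≥ 0 there is an integer l such that every finite solvable group admitting an automorphism of order p with exactly p^n fixed points has derived length at most l. -/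
theorem result (p : ℕ) (hp : p.Prime) (n : ℕ) : ∃ l : ℕ, ∀ (G : Type) [Group G] [Finite G], Group.IsSolvable G → ∀ α : MulAut G, orderOf α = p → Nat.card {g : G // α g = g} = p ^ n → derivedSeries G l = ⊥ := by
  have : Fact p.Prime := ⟨hp⟩
  refine ⟨hkk p + (p ^ (p * n)) ^ (p ^ (p * n)) + lP p n, ?_⟩
  intro G _ _ hsolv α hα hfix
  refine Cfsg.Agent.Helper1.Alp.solvable_bound n (hkk p) (lP p n) ?_ ?_ G hsolv α
    (by rw [← hα]; exact pow_orderOf_eq_one α) hfix
  · intro N _ _ _ φ hφ hfpf
    exact pprime_bound hp N φ hφ hfpf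
  · intro P _ _ hP φ hφ hfixP
    exact pgroup_bound hP φ hφ n hfixP

end Cfsg.Agent.S3782
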