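import Cfsg.Statements.S3787
import Cfsg.Agent.Helper5.HHWd
import Cfsg.Agent.Helper9.PLenExpC

set_option autoImplicit false
open Cfsg

namespace Cfsg.Agent.S3787

/-- Let G be a finite p-soluble group, p an odd prime not of the form 2^k + 1, and suppose the wreath product C_p ≀ C_p (of order p^(p+1)) is not involved in a Sylow p-subgroup of G: no section of a Sylow p-subgroup is isomorphic to it. Then G has p-length at most 1. -/
theorem result {G : Type*} [Group G] [Finite G] {p : ℕ} [Fact p.Prime] (hp2 : p ≠ 2) (hnf : (¬ ∃ k : ℕ, p = 2 ^ k + 1)) (hG : Cfsg.IsPSolvable p G) (P : Sylow p G) (hwr : ∀ (W : Type) [Group W] [Finite W], (∃ (B : Subgroup W) (t : W), B.Normal ∧ IsMulCommutative B ∧ (∀ b ∈ B, b ^ p = 1) ∧ Nat.card B = p ^ p ∧ orderOf t = p ∧ t ∉ B ∧ Nat.card W = p ^ (p + 1) ∧ Nat.card ↥(B ⊓ Subgroup.centralizer ({t} : Set W)) = p) → ¬ Cfsg.Involves W ↥(P : Subgroup G)) : Cfsg.PLengthLE p 1 G := by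
  classical
  by_contra hlen
  have hA1 : Function.Surjective (QuotientGroup.mk' (Cfsg.upperPSeries p G 1).1) :=
    QuotientGroup.mk'_surjective _
  have hBeq : (Cfsg.upperPSeries p G 2).1 =
      (Cfsg.pCore p (G ⧸ (Cfsg.upperPSeries p G 1).1)).comap
        (QuotientGroup.mk' (Cfsg.upperPSeries p G 1).1) :=
    Cfsg.Agent.Lead.upperPSeries_succ_of_not_even p G (n := 1) (by decide)
  have hdvd : p ∣ (Cfsg.pCore p (G ⧸ (Cfsg.upperPSeries p G 1).1)).index := by
    by_contra hnd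
    apply hlen
    apply Cfsg.Agent.Lead.PLengthLE.of_quotient_two (k := 0)
    apply Cfsg.Agent.Helper1.PLen.pLengthLE_zero_of_coprime
    rw [← Subgroup.index_eq_card, hBeq, Subgroup.index_comap_of_surjective _ hA1]
    exact ((Nat.Prime.coprime_iff_not_dvd (Fact.out : p.Prime)).2 hnd).symm
  obtain ⟨W, hWg, hWf, hWP, hInv⟩ := Cfsg.Agent.Helper5.HHW.core_X p hp2 hnf
    (Cfsg.Agent.Lead.isPSolvable_quotient hG (Cfsg.upperPSeries p G 1).1)
    Cfsg.Agent.Helper9.PLenExp.pPrimeCore_quotient_one (P.mapSurjective hA1) hdvd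
  refine @hwr W hWg hWf hWP ?_
  rw [Sylow.coe_mapSurjective] at hInv
  exact Cfsg.Agent.Helper15.SL2Free.involves_of_surjective_hom
    ((QuotientGroup.mk' (Cfsg.upperPSeries p G 1).1).subgroupMap (P : Subgroup G))
    ((QuotientGroup.mk' (Cfsg.upperPSeries p G 1).1).subgroupMap_surjective (P : Subgroup G)) hInv

end Cfsg.Agent.S3787
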