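import Cfsg.Statements.S3788
import Mathlib
import Cfsg.Agent.Helper9.CycNormal
import Cfsg.Agent.Helper10.PConstrained
import Cfsg.Agent.Helper23.HallHigman

set_option autoImplicit false
open Cfsg

namespace Cfsg.Agent.S3788

/-- Let G be a finite p-soluble group, P a Sylow p-subgroup of G and A a cyclic normal subgroup of P. If p is odd, or if no section of G is isomorphic to the symmetric group of degree 4, then A ≤ O_{p',p}(G). -/
theorem result {G : Type*} [Group G] [Finite G] {p : ℕ} [Fact p.Prime] (hG : Cfsg.IsPSolvable p G) (P : Sylow p G) (A : Subgroup G) (hAP : A ≤ (P : Subgroup G)) (hAn : (P : Subgroup G) ≤ Subgroup.normalizer (A : Set G)) (hA : IsCyclic A) (h : p ≠ 2 ∨ ¬ Cfsg.Involves (Equiv.Perm (Fin 4)) G) : A ≤ Cfsg.pPrimePCore p G := by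
  classical
  set O : Subgroup G := Cfsg.pPrimeCore p G with hO
  have hcent := Cfsg.Agent.Helper23.centralizer_pCore_quotient_le_of_isPSolvable hG
  obtain ⟨⟨g0, hg0A⟩, hgen⟩ := hA.exists_generator
  have hAz : ∀ x ∈ A, x ∈ Subgroup.zpowers g0 := by
    intro x hx
    obtain ⟨n, hn⟩ := hgen ⟨x, hx⟩
    refine ⟨n, ?_⟩
    have := congrArg Subtype.val hn
    simpa using this
  set a0 : G ⧸ O := QuotientGroup.mk' O g0 with ha0
  have hp0 : ∃ m : ℕ, a0 ^ (p ^ m) = 1 := by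
    obtain ⟨m, hm⟩ := P.isPGroup' ⟨g0, hAP hg0A⟩
    refine ⟨m, ?_⟩
    have h1 := congrArg Subtype.val hm
    rw [Subgroup.coe_pow, Subgroup.coe_one] at h1
    change g0 ^ (p ^ m) = 1 at h1
    rw [ha0, ← map_pow, h1, map_one]
  have hnorm : ∀ x ∈ Cfsg.pCore p (G ⧸ O), x * a0 * x⁻¹ ∈ Subgroup.zpowers a0 := by
    intro x hx
    obtain ⟨y, rfl⟩ := QuotientGroup.mk'_surjective O x
    have hy : y ∈ Cfsg.pPrimePCore p G := hx
    obtain ⟨s, hs, k, hk, rfl⟩ := Cfsg.Agent.Helper10.exists_mul_of_mem_pPrimePCore P hy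
    have h1 : QuotientGroup.mk' O (s * k) = QuotientGroup.mk' O s := by
      have hk1 : QuotientGroup.mk' O k = 1 := (QuotientGroup.eq_one_iff k).mpr hk
      rw [map_mul, hk1, mul_one]
    rw [h1]
    have h2 : s * g0 * s⁻¹ ∈ A := (Subgroup.mem_normalizer_iff.mp (hAn hs) g0).mp hg0A
    obtain ⟨t, ht⟩ := hAz _ h2
    refine ⟨t, ?_⟩
    change g0 ^ t = s * g0 * s⁻¹ at ht
    change a0 ^ t = _
    rw [ha0, ← map_zpow, ht, map_mul, map_mul, map_inv]
  have h' : p ≠ 2 ∨ ¬ Cfsg.Involves (Equiv.Perm (Fin 4)) (G ⧸ O) := by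
    rcases h with h | h
    · exact Or.inl h
    · exact Or.inr (fun hi => h (Cfsg.Agent.Helper9.S4Sec.involves_of_quotient O hi))
  have hmem := Cfsg.Agent.Helper9.CycN.mem_pCore_of_normalized hcent a0 hp0 hnorm h'
  have hg0 : g0 ∈ Cfsg.pPrimePCore p G := hmem
  intro x hx
  obtain ⟨n, rfl⟩ := hAz x hx
  exact Subgroup.zpow_mem _ hg0 n

end Cfsg.Agent.S3788
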