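import Cfsg.Statements.S3789
import Cfsg.Agent.Helper24.DLMain
import Cfsg.Agent.Helper1.HH3Key
import Cfsg.Agent.Helper9.PLenExpC
import Cfsg.Agent.Lead.PLength
import Cfsg.Agent.Helper1.PLenSeries

set_option autoImplicit false
open Cfsg

namespace Cfsg.Agent.S3789

open Subgroup
open scoped commutatorElement

universe u

/-- the derived series of a subgroup, inside the ambient group -/
def dser {G : Type*} [Group G] (S : Subgroup G) : ℕ → Subgroup G
  | 0 => S
  | n + 1 => ⁅dser S n, dser S n⁆

theorem dser_eq {G : Type*} [Group G] (S : Subgroup G) (n : ℕ) :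
    dser S n = (derivedSeries ↥S n).map S.subtype := by
  induction n with
  | zero =>
    rw [derivedSeries_zero, ← MonoidHom.range_eq_map, Subgroup.range_subtype]
    rfl
  | succ n ih =>
    rw [derivedSeries_succ, Subgroup.map_commutator, ← ih]
    rfl

theorem dser_map {G H : Type*} [Group G] [Group H] (f : G →* H) (S : Subgroup G) (n : ℕ) :
    (dser S n).map f = dser (S.map f) n := by
  induction n with
  | zero => rfl
  | succ n ih =>
    show (⁅dser S n, dser S n⁆).map f = ⁅dser (S.map f) n, dser (S.map f) n⁆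
    rw [Subgroup.map_commutator, ih]

theorem derivedSeries_eq_bot_iff {G : Type*} [Group G] (S : Subgroup G) (n : ℕ) :
    derivedSeries ↥S n = ⊥ ↔ dser S n = ⊥ := by
  rw [dser_eq, Subgroup.map_eq_bot_iff_of_injective _ S.subtype_injective]

/-- the Sylow `p`-subgroups have derived length at most `d` -/
def DerLE (p d : ℕ) (G : Type*) [Group G] : Prop :=
  ∀ P : Sylow p G, dser (P : Subgroup G) d = ⊥

theorem DerLE.of_surjective {G : Type*} [Group G] [Finite G] {H : Type*} [Group H] {p d : ℕ}
    [Fact p.Prime] (h : DerLE p d G) (f : G →* H) (hf : Function.Surjective f) : DerLE p d H := by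
  intro P
  obtain ⟨P0, rfl⟩ := Sylow.mapSurjective_surjective hf p P
  rw [Sylow.coe_mapSurjective, ← dser_map, h P0, Subgroup.map_bot]

section quot

variable {G : Type u} [Group G] [Finite G] {p : ℕ} [hp : Fact p.Prime]

/-- the key step in `G`: the `d`-th derived group of a Sylow `p`-subgroup lies in `O_{p',p}(G)`. -/
theorem dser_le_upper_two (hp2 : p ≠ 2) (hsol : IsPSolvable p G) {d : ℕ}
    (hder : DerLE p (d + 1) G) (P : Sylow p G) :
    dser (P : Subgroup G) d ≤ (upperPSeries p G 2).1 := by
  set A := (upperPSeries p G 1).1 with hA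
  have hfA : Function.Surjective (QuotientGroup.mk' A) := QuotientGroup.mk'_surjective A
  have hBeq : (upperPSeries p G 2).1 = (pCore p (G ⧸ A)).comap (QuotientGroup.mk' A) :=
    Cfsg.Agent.Lead.upperPSeries_succ_of_not_even p G (n := 1) (by decide)
  rw [hBeq, ← Subgroup.map_le_iff_le_comap, dser_map]
  have hder' : DerLE p (d + 1) (G ⧸ A) := hder.of_surjective _ hfA
  have h1 := hder' (P.mapSurjective hfA)
  rw [← derivedSeries_eq_bot_iff] at h1
  have h2 := Cfsg.Agent.Helper1.HH3Key.derived_le_pCore
    (fun ρ hρ hs hO B hB hAA hABB =>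
      Cfsg.Agent.Helper24.DL.quad_derived_trivial ρ hρ hs hO B hB hAA hABB)
    hp2 (Cfsg.Agent.Lead.isPSolvable_quotient hsol A)
    Cfsg.Agent.Helper9.PLenExp.pPrimeCore_quotient_one (P.mapSurjective hfA) d h1
  rw [← dser_eq, Sylow.coe_mapSurjective] at h2
  exact h2

end quot

theorem aux {p : ℕ} [hp : Fact p.Prime] (hp2 : p ≠ 2) : ∀ (d : ℕ) (G : Type u) [Group G] [Finite G],
    IsPSolvable p G → DerLE p d G → PLengthLE p d G := by
  intro d
  induction d with
  | zero =>
    intro G _ _ hsol hder
    apply Cfsg.Agent.Helper1.PLen.pLengthLE_zero_of_coprime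
    obtain ⟨S⟩ : Nonempty (Sylow p G) := inferInstance
    have hS1 : Nat.card (S : Subgroup G) = 1 := by
      have := hder S
      rw [Subgroup.card_eq_one]
      exact this
    have h2 := (S : Subgroup G).card_mul_index
    rw [hS1, one_mul] at h2
    rw [← h2]
    exact ((Nat.Prime.coprime_iff_not_dvd hp.out).mpr S.not_dvd_index).symm
  | succ d ih =>
    intro G _ _ hsol hder
    set B := (upperPSeries p G 2).1 with hB
    have hf : Function.Surjective (QuotientGroup.mk' B) := QuotientGroup.mk'_surjective B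
    apply Cfsg.Agent.Lead.PLengthLE.of_quotient_two
    apply ih (G ⧸ B) (Cfsg.Agent.Lead.isPSolvable_quotient hsol B)
    intro P'
    obtain ⟨P, rfl⟩ := Sylow.mapSurjective_surjective hf p P'
    rw [Sylow.coe_mapSurjective, ← dser_map, eq_bot_iff]
    rintro _ ⟨x, hx, rfl⟩
    rw [mem_bot, QuotientGroup.mk'_apply, QuotientGroup.eq_one_iff]
    exact dser_le_upper_two hp2 hsol hder P hx

/-- Let p be an odd prime and G a finite p-soluble group whose Sylow p-subgroups have derived length at most d. Then G has p-length at most d. -/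
theorem result {G : Type*} [Group G] [Finite G] {p : ℕ} [Fact p.Prime] (hp : p ≠ 2) (hG : Cfsg.IsPSolvable p G) (d : ℕ) (hd : ∀ P : Sylow p G, derivedSeries ↥(P : Subgroup G) d = ⊥) : Cfsg.PLengthLE p d G := by
  exact aux hp d G hG (fun P => (derivedSeries_eq_bot_iff _ d).1 (hd P))

end Cfsg.Agent.S3789
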