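import Cfsg.Statements.S3790
import Mathlib
import Cfsg.Agent.Helper1.PLenSeries

set_option autoImplicit false
open Cfsg

namespace Cfsg.Agent.S3790


open Cfsg.Agent.Helper1.PLen in
/-- One step of the chain: a section `V_{j+1}/V_j` of `p`-length `≤ b` on top of `V_j` of
`p`-length `≤ c`. -/
theorem step {G : Type*} [Group G] [Finite G] {p : ℕ} [Fact p.Prime] {V W : Subgroup G}
    (hVW : V ≤ W) [hn : (V.subgroupOf W).Normal] {c b : ℕ} (hc : Cfsg.PLengthLE p c ↥V)
    (hb : Cfsg.PLengthLE p b (↥W ⧸ V.subgroupOf W)) : Cfsg.PLengthLE p (c + b) ↥W := by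
  apply pLengthLE_of_extension (V.subgroupOf W) _ hb
  exact pLengthLE_of_mulEquiv hc (Subgroup.subgroupOfEquivOfLe hVW).symm

universe u

open Cfsg.Agent.Helper1.PLen Cfsg.Agent.Lead in
theorem aux (p : ℕ) [hp : Fact p.Prime] : ∀ (r : ℕ) (G : Type u) [Group G] [Finite G]
    (q : Fin r → ℕ), (∀ i, (q i).Prime ∧ q i ≠ p) →
    (∀ s : ℕ, s.Prime → s ∣ Nat.card G → s ≠ p → ∃ i, q i = s) →
    ∀ l : Fin r → ℕ, (∀ i, Cfsg.PLengthLE (q i) (l i) G) →
    Cfsg.PLengthLE p (Finset.univ.prod fun i => 1 + l i) G := by
  intro r
  induction r with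
  | zero =>
    intro G _ _ q hq hcover l hl
    have hcard : Nat.card G = p ^ (Nat.card G).primeFactorsList.length := by
      apply Nat.eq_prime_pow_of_unique_prime_dvd Nat.card_pos.ne'
      intro d hd hdvd
      by_contra hne
      obtain ⟨i, _⟩ := hcover d hd hdvd hne
      exact i.elim0
    have := pLengthLE_one_of_isPGroup (IsPGroup.of_card hcard)
    simpa using this
  | succ r ih =>
    intro G _ _ q hq hcover l hl
    set q₀ := q 0 with hq₀
    have : Fact q₀.Prime := ⟨(hq 0).1⟩
    set l₀ := l 0 with hl₀
    set Pq : ℕ := Finset.univ.prod fun i : Fin r => 1 + l i.succ with hPq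
    have hV := isPSeries_upper (G := G) (p := q₀)
    have hq₀p : Nat.Coprime q₀ p := (Nat.coprime_primes (hq 0).1 hp.out).2 (hq 0).2
    -- the chain claim
    have hchain : ∀ j : ℕ,
        Cfsg.PLengthLE p (((j + 1) / 2) * Pq) ↥(Cfsg.upperPSeries q₀ G j).1 := by
      intro j
      induction j with
      | zero =>
        have hbot : (Cfsg.upperPSeries q₀ G 0).1 = ⊥ := upperPSeries_zero q₀ G
        have e0 : (0 + 1) / 2 * Pq = 0 := by simp
        rw [e0]
        apply pLengthLE_zero_of_coprime
        rw [hbot, Subgroup.card_bot]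
        exact Nat.coprime_one_left p
      | succ j ihj =>
        have hle : (Cfsg.upperPSeries q₀ G j).1 ≤ (Cfsg.upperPSeries q₀ G (j + 1)).1 :=
          upperPSeries_le_succ q₀ G j
        have hn : ((Cfsg.upperPSeries q₀ G j).1.subgroupOf
            (Cfsg.upperPSeries q₀ G (j + 1)).1).Normal :=
          (Cfsg.upperPSeries q₀ G j).2.subgroupOf _
        have hcardF : Nat.card (↥(Cfsg.upperPSeries q₀ G (j + 1)).1 ⧸
            (Cfsg.upperPSeries q₀ G j).1.subgroupOf (Cfsg.upperPSeries q₀ G (j + 1)).1) =
            (Cfsg.upperPSeries q₀ G j).1.relIndex (Cfsg.upperPSeries q₀ G (j + 1)).1 := by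
          rw [Subgroup.relIndex, Subgroup.index_eq_card]
        by_cases hev : Even j
        · -- a `q₀'`-factor: use the induction hypothesis on `r`
          have hcop : (Nat.card (↥(Cfsg.upperPSeries q₀ G (j + 1)).1 ⧸
              (Cfsg.upperPSeries q₀ G j).1.subgroupOf
                (Cfsg.upperPSeries q₀ G (j + 1)).1)).Coprime q₀ := by
            rw [hcardF]; exact hV.even j hev
          have hb : Cfsg.PLengthLE p Pq (↥(Cfsg.upperPSeries q₀ G (j + 1)).1 ⧸
              (Cfsg.upperPSeries q₀ G j).1.subgroupOf (Cfsg.upperPSeries q₀ G (j + 1)).1) := by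
            apply ih _ (fun i => q i.succ) (fun i => hq i.succ) _ (fun i => l i.succ)
            · intro i
              have : Fact (q i.succ).Prime := ⟨(hq i.succ).1⟩
              exact pLengthLE_quotient (pLengthLE_subgroup (hl i.succ) _) _
            · intro s hs hdvd hsp
              have hdvdG : s ∣ Nat.card G := by
                refine hdvd.trans ?_
                rw [hcardF]
                exact (Subgroup.relIndex_dvd_card _ _).trans (Subgroup.card_subgroup_dvd_card _)
              obtain ⟨i, hi⟩ := hcover s hs hdvdG hsp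
              rcases Fin.eq_zero_or_eq_succ i with h0 | ⟨i', hi'⟩
              · exfalso
                rw [h0] at hi
                have hs : s = q₀ := hi.symm
                have h1 : q₀ ∣ Nat.card (↥(Cfsg.upperPSeries q₀ G (j + 1)).1 ⧸
                    (Cfsg.upperPSeries q₀ G j).1.subgroupOf
                      (Cfsg.upperPSeries q₀ G (j + 1)).1) := hs ▸ hdvd
                have h2 := Nat.Coprime.eq_one_of_dvd hcop.symm h1
                exact (hq 0).1.one_lt.ne' h2
              · exact ⟨i', by rw [← hi, hi']⟩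
          have := step hle ihj hb
          have e : (j + 1 + 1) / 2 * Pq = (j + 1) / 2 * Pq + Pq := by
            obtain ⟨t, ht⟩ := hev
            have h1 : (j + 1 + 1) / 2 = t + 1 := by omega
            have h2 : (j + 1) / 2 = t := by omega
            rw [h1, h2]; ring
          rw [e]; exact this
        · -- a `q₀`-factor: `p'`-group
          have hb : Cfsg.PLengthLE p 0 (↥(Cfsg.upperPSeries q₀ G (j + 1)).1 ⧸
              (Cfsg.upperPSeries q₀ G j).1.subgroupOf (Cfsg.upperPSeries q₀ G (j + 1)).1) := by
            apply pLengthLE_zero_of_coprime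
            rw [hcardF]
            obtain ⟨e, he⟩ := hV.odd j hev
            rw [he]
            exact Nat.Coprime.pow_left e hq₀p
          have := step hle ihj hb
          have e : (j + 1 + 1) / 2 * Pq = (j + 1) / 2 * Pq + 0 := by
            have hodd : Odd j := Nat.not_even_iff_odd.1 hev
            obtain ⟨t, ht⟩ := hodd
            have h1 : (j + 1 + 1) / 2 = t + 1 := by omega
            have h2 : (j + 1) / 2 = t + 1 := by omega
            rw [h1, h2]; ring
          rw [e]; exact this
    have htop : (Cfsg.upperPSeries q₀ G (2 * l₀ + 1)).1 = ⊤ := hl 0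
    have h1 := hchain (2 * l₀ + 1)
    have h2 : (2 * l₀ + 1 + 1) / 2 = 1 + l₀ := by omega
    rw [h2] at h1
    rw [Fin.prod_univ_succ]
    have h3 : Cfsg.PLengthLE p ((1 + l₀) * Pq) ↥(⊤ : Subgroup G) := by
      rw [← htop]; exact h1
    exact pLengthLE_of_mulEquiv h3 Subgroup.topEquiv

/-- Let G be a finite solvable group and p a prime. Suppose p₁, …, p_r are distinct primes, all different from p, that include every prime dividing the order of G other than p, and that G has p_i-length at most l_i for each i. Then G has p-length at most the product of the numbers 1 + l_i. -/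
theorem result {G : Type*} [Group G] [Finite G] (hG : Group.IsSolvable G) (p : ℕ) [Fact p.Prime] (r : ℕ) (q : Fin r → ℕ) (hq : ∀ i, (q i).Prime ∧ q i ≠ p) (hinj : Function.Injective q) (hcover : ∀ s : ℕ, s.Prime → s ∣ Nat.card G → s ≠ p → ∃ i, q i = s) (l : Fin r → ℕ) (hl : ∀ i, Cfsg.PLengthLE (q i) (l i) G) : Cfsg.PLengthLE p (Finset.univ.prod fun i => 1 + l i) G := by
  exact aux p r G q hq hcover l hl

end Cfsg.Agent.S3790
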