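import Cfsg.Statements.S3791
import Mathlib
import Cfsg.Agent.Helper1.PLenSeries
import Cfsg.Agent.Helper1.MinNormal
import Cfsg.Agent.Helper7.FStar

set_option autoImplicit false
set_option linter.style.haveILetI false
open Cfsg

namespace Cfsg.Agent.S3791


open Subgroup Cfsg.Agent.Helper7 in
theorem derivedIn_map {G Q : Type*} [Group G] [Group Q] (f : G →* Q) (P : Subgroup G) (n : ℕ) :
    derivedIn (P.map f) n = (derivedIn P n).map f := by
  induction n with
  | zero => rfl
  | succ n ih =>
    show ⁅derivedIn (P.map f) n, derivedIn (P.map f) n⁆ = (⁅derivedIn P n, derivedIn P n⁆).map f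
    rw [ih, map_commutator]

open Subgroup Cfsg.Agent.Helper7 in
theorem derivedIn_top {G : Type*} [Group G] (n : ℕ) :
    derivedIn (⊤ : Subgroup G) n = derivedSeries G n := by
  induction n with
  | zero => rfl
  | succ n ih =>
    show ⁅derivedIn (⊤ : Subgroup G) n, derivedIn (⊤ : Subgroup G) n⁆ = derivedSeries G (n + 1)
    rw [ih, derivedSeries_succ]

open Subgroup Cfsg.Agent.Helper7 in
theorem derivedIn_add {G : Type*} [Group G] (P : Subgroup G) (m n : ℕ) :
    derivedIn P (m + n) = derivedIn (derivedIn P m) n := by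
  induction n with
  | zero => rfl
  | succ n ih =>
    show ⁅derivedIn P (m + n), derivedIn P (m + n)⁆ =
      ⁅derivedIn (derivedIn P m) n, derivedIn (derivedIn P m) n⁆
    rw [ih]

open Subgroup Cfsg.Agent.Helper7 in
theorem derivedSeries_add_le {G : Type*} [Group G] {P : Subgroup G} {m n : ℕ}
    (h1 : derivedSeries G m ≤ P) (h2 : derivedIn P n = ⊥) : derivedSeries G (m + n) = ⊥ := by
  rw [← derivedIn_top, derivedIn_add, derivedIn_top, eq_bot_iff, ← h2]
  exact derivedIn_mono h1 n

/-- The ambient form of the hypothesis on Sylow subgroups. -/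
def HD {G : Type*} [Group G] {r : ℕ} (q d : Fin r → ℕ) : Prop :=
  ∀ i, ∀ P : Subgroup G, IsPGroup (q i) P → Cfsg.Agent.Helper7.derivedIn P (d i) = ⊥

open Subgroup Cfsg.Agent.Helper7 in
theorem HD.quotient {G : Type*} [Group G] [Finite G] {r : ℕ} {q d : Fin r → ℕ}
    (hq : ∀ i, (q i).Prime) (h : HD (G := G) q d) (N : Subgroup G) [N.Normal] :
    HD (G := G ⧸ N) q d := by
  intro i P' hP'
  haveI : Fact (q i).Prime := ⟨hq i⟩
  obtain ⟨S', hS'⟩ := hP'.exists_le_sylow
  obtain ⟨S, hS⟩ := Sylow.mapSurjective_surjective (QuotientGroup.mk'_surjective N) (q i) S'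
  have h1 : (S' : Subgroup (G ⧸ N)) = (S : Subgroup G).map (QuotientGroup.mk' N) := by
    rw [← hS, Sylow.coe_mapSurjective]
  rw [eq_bot_iff]
  calc derivedIn P' (d i) ≤ derivedIn (S' : Subgroup (G ⧸ N)) (d i) := derivedIn_mono hS' _
    _ = (derivedIn (S : Subgroup G) (d i)).map (QuotientGroup.mk' N) := by
        rw [h1, derivedIn_map]
    _ = ⊥ := by rw [h i S S.2, Subgroup.map_bot]

theorem card_quotient_lt {G : Type*} [Group G] [Finite G] (N : Subgroup G) [N.Normal]
    (hN : N ≠ ⊥) : Nat.card (G ⧸ N) < Nat.card G := by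
  have h1 := Subgroup.card_eq_card_quotient_mul_card_subgroup N
  have h2 : 1 < Nat.card N := (Subgroup.one_lt_card_iff_ne_bot N).2 hN
  have h3 : 0 < Nat.card (G ⧸ N) := Nat.card_pos
  rw [h1]
  nlinarith

theorem derivedSeries_le_of_quotient {G : Type*} [Group G] (N : Subgroup G) [N.Normal] {m : ℕ}
    (h : derivedSeries (G ⧸ N) m = ⊥) : derivedSeries G m ≤ N := by
  have h1 := map_derivedSeries_eq (QuotientGroup.mk'_surjective N) m
  rw [h] at h1
  intro x hx
  have : (QuotientGroup.mk' N) x ∈ (derivedSeries G m).map (QuotientGroup.mk' N) :=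
    Subgroup.mem_map_of_mem _ hx
  rw [h1, Subgroup.mem_bot] at this
  exact (QuotientGroup.eq_one_iff x).1 this

open Cfsg.Agent.Helper1.PLen in
/-- With `O_{p'}(G) = 1`, passing to `G / O_p(G)` lowers the `p`-length by one. -/
theorem pLength_shift {G : Type*} [Group G] [Finite G] {p : ℕ} [hp : Fact p.Prime] {k : ℕ}
    (h : Cfsg.PLengthLE p k G) (hK : Cfsg.pPrimeCore p G = ⊥) :
    (k = 0 → (⊤ : Subgroup G) = ⊥) ∧ Cfsg.PLengthLE p (k - 1) (G ⧸ Cfsg.pCore p G) := by
  have hU := isPSeries_upper (G := G) (p := p)
  have hU0 : (Cfsg.upperPSeries p G 0).1 = ⊥ := hU.zero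
  have hU1 : (Cfsg.upperPSeries p G 1).1 = ⊥ := by
    rw [eq_bot_iff, ← hK]
    apply le_sSup
    refine ⟨(Cfsg.upperPSeries p G 1).2, ?_⟩
    have := hU.even 0 (by decide)
    simp only [zero_add] at this
    rw [hU0, Subgroup.relIndex_bot_left] at this
    exact this
  have hU2 : (Cfsg.upperPSeries p G 2).1 ≤ Cfsg.pCore p G := by
    apply le_sSup
    refine ⟨(Cfsg.upperPSeries p G 2).2, ?_⟩
    obtain ⟨e, he⟩ := hU.odd 1 (by decide)
    simp only [Nat.reduceAdd] at he
    rw [hU1, Subgroup.relIndex_bot_left] at he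
    exact IsPGroup.of_card he
  constructor
  · intro hk
    have h1 : (Cfsg.upperPSeries p G (2 * k + 1)).1 = ⊤ := h
    rw [hk] at h1
    simp only [mul_zero, zero_add] at h1
    rw [← h1, hU1]
  · have hM := hU.map (QuotientGroup.mk' (Cfsg.pCore p G))
      (QuotientGroup.mk'_surjective _) hp.out
    have hM2 : ((Cfsg.upperPSeries p G 2).1).map (QuotientGroup.mk' (Cfsg.pCore p G)) = ⊥ := by
      rw [eq_bot_iff]
      rintro _ ⟨x, hx, rfl⟩
      rw [Subgroup.mem_bot]
      exact (QuotientGroup.eq_one_iff x).2 (hU2 hx)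
    have hshift : IsPSeries p (fun i =>
        ((Cfsg.upperPSeries p G (i + 2)).1).map (QuotientGroup.mk' (Cfsg.pCore p G))) := by
      refine ⟨by simpa using hM2, fun i => hM.normal (i + 2), fun i => hM.mono (i + 2), ?_, ?_⟩
      · intro i hev
        exact hM.even (i + 2) (by
          obtain ⟨t, ht⟩ := hev
          exact ⟨t + 1, by omega⟩)
      · intro i hodd
        exact hM.odd (i + 2) (by
          intro hev
          apply hodd
          obtain ⟨t, ht⟩ := hev
          exact ⟨t - 1, by omega⟩)
    by_cases hk : k = 0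
    · -- then `G` is trivial
      have h1 : (Cfsg.upperPSeries p G (2 * k + 1)).1 = ⊤ := h
      rw [hk] at h1
      simp only [mul_zero, zero_add] at h1
      apply pLengthLE_of_series hshift
      show ((Cfsg.upperPSeries p G (2 * (k - 1) + 1 + 2)).1).map _ = ⊤
      have hmono := Cfsg.Agent.Lead.upperPSeries_mono p G
        (show 1 ≤ 2 * (k - 1) + 1 + 2 by omega)
      have : (Cfsg.upperPSeries p G (2 * (k - 1) + 1 + 2)).1 = ⊤ := by
        rw [eq_top_iff, ← h1]; exact hmono
      rw [this, Subgroup.map_top_of_surjective _ (QuotientGroup.mk'_surjective _)]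
    · apply pLengthLE_of_series hshift
      show ((Cfsg.upperPSeries p G (2 * (k - 1) + 1 + 2)).1).map _ = ⊤
      have e : 2 * (k - 1) + 1 + 2 = 2 * k + 1 := by omega
      rw [e, show (Cfsg.upperPSeries p G (2 * k + 1)).1 = ⊤ from h,
        Subgroup.map_top_of_surjective _ (QuotientGroup.mk'_surjective _)]

universe u

open Cfsg.Agent.Helper1.PLen Cfsg.Agent.Helper7 in
theorem aux {r : ℕ} (q : Fin r → ℕ) (hq : ∀ i, (q i).Prime) (d : Fin r → ℕ) :
    ∀ (n : ℕ) (G : Type u) [Group G] [Finite G], Nat.card G = n → Group.IsSolvable G →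
      (∀ s : ℕ, s.Prime → s ∣ Nat.card G → ∃ i, q i = s) → HD (G := G) q d →
      ∀ l : Fin r → ℕ, (∀ i, Cfsg.PLengthLE (q i) (l i) G) →
      derivedSeries G (Finset.univ.sum fun i => d i * l i) = ⊥ := by
  classical
  intro n
  induction n using Nat.strong_induction_on with
  | _ n ih =>
    intro G _ _ hcard hsol hcover hHD l hl
    by_cases htriv : Subsingleton G
    · exact Subsingleton.elim _ _
    · haveI : Nontrivial G := not_subsingleton_iff_nontrivial.1 htriv
      haveI := hsol
      obtain ⟨p, N, hp, hNn, hN0, hNp, -, -⟩ :=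
        Cfsg.Agent.Helper1.exists_normal_pgroup_of_solvable (G := G)
      haveI : Fact p.Prime := ⟨hp⟩
      have hcoverQ : ∀ (M : Subgroup G) [M.Normal], ∀ s : ℕ, s.Prime → s ∣ Nat.card (G ⧸ M) →
          ∃ i, q i = s := fun M _ s hs hdvd =>
        hcover s hs (hdvd.trans (Subgroup.card_quotient_dvd_card M))
      have hlQ : ∀ (M : Subgroup G) [M.Normal], ∀ i, Cfsg.PLengthLE (q i) (l i) (G ⧸ M) := by
        intro M _ i
        haveI : Fact (q i).Prime := ⟨hq i⟩
        exact pLengthLE_quotient (hl i) M
      by_cases hK : Cfsg.pPrimeCore p G = ⊥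
      · -- `O_{p'}(G) = 1`
        have hpdvd : p ∣ Nat.card G := by
          obtain ⟨e, he⟩ := IsPGroup.iff_card.1 hNp
          have h1 : p ∣ Nat.card N := by
            rw [he]
            apply dvd_pow_self
            rintro rfl
            rw [pow_zero, Subgroup.card_eq_one] at he
            exact hN0 he
          exact h1.trans (Subgroup.card_subgroup_dvd_card N)
        obtain ⟨i₀, hi₀⟩ := hcover p hp hpdvd
        have hP0 : Cfsg.pCore p G ≠ ⊥ := by
          intro h0
          apply hN0
          rw [eq_bot_iff, ← h0]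
          exact le_sSup ⟨hNn, hNp⟩
        have hlp : Cfsg.PLengthLE p (l i₀) G := hi₀ ▸ hl i₀
        obtain ⟨hk0, hshift⟩ := pLength_shift hlp hK
        have hk1 : 1 ≤ l i₀ := by
          by_contra hlt
          have : l i₀ = 0 := by omega
          have htb := hk0 this
          apply htriv
          constructor
          intro a b
          have ha : a ∈ (⊤ : Subgroup G) := Subgroup.mem_top a
          have hb : b ∈ (⊤ : Subgroup G) := Subgroup.mem_top b
          rw [htb, Subgroup.mem_bot] at ha hb
          rw [ha, hb]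
        set l' : Fin r → ℕ := Function.update l i₀ (l i₀ - 1) with hl'
        have hl'Q : ∀ i, Cfsg.PLengthLE (q i) (l' i) (G ⧸ Cfsg.pCore p G) := by
          intro i
          by_cases hi : i = i₀
          · subst hi
            rw [hl', Function.update_self]
            exact hi₀ ▸ hshift
          · rw [hl', Function.update_of_ne hi]
            exact hlQ _ i
        have hIH := ih _ (hcard ▸ card_quotient_lt (Cfsg.pCore p G) hP0)
          (G ⧸ Cfsg.pCore p G) rfl inferInstance (hcoverQ _) (hHD.quotient hq _) l' hl'Q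
        have hle := derivedSeries_le_of_quotient _ hIH
        have hPd : derivedIn (Cfsg.pCore p G) (d i₀) = ⊥ := by
          apply hHD i₀
          rw [hi₀]
          exact Cfsg.Agent.Helper14.pCore_isPGroup p
        have hfin := derivedSeries_add_le hle hPd
        have hsum : (Finset.univ.sum fun i => d i * l i) =
            (Finset.univ.sum fun i => d i * l' i) + d i₀ := by
          rw [← Finset.add_sum_erase Finset.univ (fun i => d i * l i) (Finset.mem_univ i₀),
            ← Finset.add_sum_erase Finset.univ (fun i => d i * l' i) (Finset.mem_univ i₀)]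
          have h1 : (Finset.univ.erase i₀).sum (fun i => d i * l' i) =
              (Finset.univ.erase i₀).sum (fun i => d i * l i) := by
            apply Finset.sum_congr rfl
            intro i hi
            rw [hl', Function.update_of_ne (Finset.ne_of_mem_erase hi)]
          have h2 : l' i₀ = l i₀ - 1 := by rw [hl', Function.update_self]
          rw [h1, h2]
          have h3 : d i₀ * l i₀ = d i₀ * (l i₀ - 1) + d i₀ := by
            have : l i₀ = (l i₀ - 1) + 1 := by omega
            conv_lhs => rw [this]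
            ring
          rw [h3]; ring
        rw [hsum]; exact hfin
      · -- `O_{p'}(G) ≠ 1`: use two quotients
        set K := Cfsg.pPrimeCore p G with hKdef
        have hIH1 := ih _ (hcard ▸ card_quotient_lt N hN0) (G ⧸ N) rfl inferInstance
          (hcoverQ N) (hHD.quotient hq N) l (hlQ N)
        have hIH2 := ih _ (hcard ▸ card_quotient_lt K hK) (G ⧸ K) rfl inferInstance
          (hcoverQ K) (hHD.quotient hq K) l (hlQ K)
        have h1 := derivedSeries_le_of_quotient N hIH1
        have h2 := derivedSeries_le_of_quotient K hIH2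
        have hdis : N ⊓ K = ⊥ := by
          rw [eq_bot_iff]
          intro z hz
          obtain ⟨hz1, hz2⟩ := Subgroup.mem_inf.1 hz
          rw [Subgroup.mem_bot]
          obtain ⟨e, he⟩ := hNp ⟨z, hz1⟩
          have h3 : orderOf z ∣ p ^ e := by
            apply orderOf_dvd_of_pow_eq_one
            have := congrArg Subtype.val he
            simpa using this
          have h4 : orderOf z ∣ Nat.card K := by
            have := orderOf_dvd_natCard (⟨z, hz2⟩ : K)
            rwa [Subgroup.orderOf_mk] at this
          have h5 : (orderOf z).Coprime (p ^ e) :=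
            Nat.Coprime.coprime_dvd_left h4
              (Nat.Coprime.pow_right e (Cfsg.Agent.Helper19.pPrimeCore_coprime p))
          exact orderOf_eq_one_iff.1 (h5.eq_one_of_dvd h3)
        rw [eq_bot_iff, ← hdis]
        exact le_inf h1 h2

/-- The Hall–Higman bound on derived length: let G be a finite solvable group, let p₁, …, p_r be distinct primes that include every prime dividing the order of G, and suppose that for each i the Sylow p_i-subgroups of G have derived length at most d_i and G has p_i-length at most l_i. Then G has derived length at most Σ d_i l_i. -/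
theorem result {G : Type*} [Group G] [Finite G] (hG : Group.IsSolvable G) (r : ℕ) (q : Fin r → ℕ) (hq : ∀ i, (q i).Prime) (hinj : Function.Injective q) (hcover : ∀ s : ℕ, s.Prime → s ∣ Nat.card G → ∃ i, q i = s) (d l : Fin r → ℕ) (hd : ∀ i, ∀ P : Subgroup G, (haveI := Fact.mk (hq i); ∃ S : Sylow (q i) G, (S : Subgroup G) = P) → derivedSeries ↥P (d i) = ⊥) (hl : ∀ i, Cfsg.PLengthLE (q i) (l i) G) : derivedSeries G (Finset.univ.sum fun i => d i * l i) = ⊥ := by
  apply aux q hq d _ G rfl hG hcover _ l hl
  intro i P hP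
  haveI : Fact (q i).Prime := ⟨hq i⟩
  obtain ⟨S, hS⟩ := hP.exists_le_sylow
  have h1 := hd i (S : Subgroup G) ⟨S, rfl⟩
  rw [eq_bot_iff]
  calc Cfsg.Agent.Helper7.derivedIn P (d i)
      ≤ Cfsg.Agent.Helper7.derivedIn (S : Subgroup G) (d i) :=
        Cfsg.Agent.Helper7.derivedIn_mono hS _
    _ = ⊥ := by
        rw [← Cfsg.Agent.Helper7.map_subtype_derivedSeries, h1, Subgroup.map_bot]

end Cfsg.Agent.S3791
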