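import Cfsg.Statements.S3793
import Cfsg.Agent.Helper9.ShultK

set_option linter.style.haveILetI false

set_option autoImplicit false
open Cfsg

namespace Cfsg.Agent.S3793

/-- The Shult–Gross Theorem: let p be an odd prime and G a finite solvable group with an automorphism σ of order p^n fixing only the identity. Then G has Fitting height at most n: G has Fitting height at most m when there is a chain of normal subgroups 1 = F₀ ≤ F₁ ≤ ⋯ ≤ F_m = G with each F_{i+1}/F_i nilpotent. -/
theorem result {G : Type*} [Group G] [Finite G] (hG : Group.IsSolvable G) {p : ℕ} (hp : p.Prime) (hp2 : p ≠ 2) (σ : MulAut G) (n : ℕ) (hσ : orderOf σ = p ^ n) (hfpf : ∀ g : G, σ g = g → g = 1) : ∃ F : Fin (n + 1) → Subgroup G, F 0 = ⊥ ∧ F (Fin.last n) = ⊤ ∧ Monotone F ∧ (∀ i, (F i).Normal) ∧ ∀ i : Fin n, ∃ k : ℕ, (F i.succ).lowerCentralSeries k ≤ F i.castSucc := by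
  classical
  haveI : Fact p.Prime := ⟨hp⟩
  set A : Subgroup (MulAut G) := Subgroup.zpowers σ with hAdef
  have hcardA : Nat.card A = p ^ n := by rw [hAdef, Nat.card_zpowers, hσ]
  haveI : Finite A :=
    Nat.finite_of_card_ne_zero (by rw [hcardA]; exact pow_ne_zero _ hp.ne_zero)
  have hAp : IsPGroup p A := IsPGroup.of_card hcardA
  -- `p ∤ |G|`
  have hcop : (Nat.card G).Coprime p := by
    have h1 := hAp.card_modEq_card_fixedPoints G
    have h2 : Nat.card (MulAction.fixedPoints A G) = 1 := by
      rw [Nat.card_eq_one_iff_unique]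
      have hone : ∀ x : MulAction.fixedPoints A G, x = ⟨1, fun a => smul_one a⟩ := by
        intro x
        apply Subtype.ext
        apply hfpf
        exact x.2 ⟨σ, Subgroup.mem_zpowers σ⟩
      exact ⟨⟨fun x y => by rw [hone x, hone y]⟩, ⟨⟨1, fun a => smul_one a⟩⟩⟩
    rw [h2] at h1
    have := Nat.ModEq.gcd_eq h1
    rw [Nat.gcd_one_left] at this
    exact this
  -- the semidirect product
  let Gs : Subgroup (G ⋊[A.subtype] A) := (SemidirectProduct.inl : G →* G ⋊[A.subtype] A).range
  haveI : Finite (G ⋊[A.subtype] A) := Finite.of_equiv _ (SemidirectProduct.equivProd).symm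
  haveI hGsn : Gs.Normal := by
    change ((SemidirectProduct.inl : G →* G ⋊[A.subtype] A).range).Normal
    rw [SemidirectProduct.range_inl_eq_ker_rightHom]
    infer_instance
  have hcardGs : Nat.card Gs = Nat.card G :=
    (Nat.card_congr (MonoidHom.ofInjective SemidirectProduct.inl_injective).toEquiv).symm
  have hsolv : Group.IsSolvable Gs :=
    Group.isSolvable_of_surjective
      (f := (SemidirectProduct.inl : G →* G ⋊[A.subtype] A).rangeRestrict)
      (MonoidHom.rangeRestrict_surjective _)
  set σA : A := ⟨σ, Subgroup.mem_zpowers σ⟩ with hσA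
  set s : G ⋊[A.subtype] A := SemidirectProduct.inr σA with hs
  have hσApow : σA ^ (p ^ n) = 1 := by
    apply Subtype.ext
    rw [Subgroup.coe_pow, Subgroup.coe_one, hσA, ← hσ]
    exact pow_orderOf_eq_one σ
  have hspow : s ^ (p ^ n) = 1 := by
    rw [hs, ← map_pow, hσApow, map_one]
  have hcen : ∀ g ∈ Gs, s ^ (p ^ n) * g * (s ^ (p ^ n))⁻¹ = g := by
    intro g _
    rw [hspow]; group
  have hfpf' : ∀ g ∈ Gs, s * g * s⁻¹ = g → g = 1 := by
    rintro _ ⟨g, rfl⟩ hg
    have h2 : (SemidirectProduct.inl (A.subtype σA g) : G ⋊[A.subtype] A) =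
        SemidirectProduct.inl g := by
      rw [SemidirectProduct.inl_aut, map_inv]
      exact hg
    have h3 : σ g = g := SemidirectProduct.inl_injective h2
    rw [hfpf g h3, map_one]
  have hmain := Cfsg.Agent.Helper9.Shult.main_aux (Nat.card (G ⋊[A.subtype] A)) p n Gs s rfl hp hp2
    (by rw [hcardGs]; exact hcop) hsolv ⟨n, hspow⟩ hcen hfpf'
  apply Cfsg.Agent.Helper9.Shult.exists_chain
  have h1 := Cfsg.Agent.Helper9.Shult.lowerNil_map
    (SemidirectProduct.inl : G →* G ⋊[A.subtype] A) ⊤ n
  rw [← MonoidHom.range_eq_map] at h1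
  have h2 : Cfsg.Agent.Helper9.Shult.lowerNil
      ((SemidirectProduct.inl : G →* G ⋊[A.subtype] A).range) n = ⊥ := hmain
  rw [h2] at h1
  exact (Subgroup.map_eq_bot_iff_of_injective _
    (SemidirectProduct.inl_injective (N := G) (G := A) (φ := A.subtype))).mp h1.symm

end Cfsg.Agent.S3793
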