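import Cfsg.Statements.S3796
import Cfsg.Agent.Helper9.WardH

set_option autoImplicit false
set_option linter.style.haveILetI false
open Cfsg

namespace Cfsg.Agent.S3796

/-- Ward's Theorem: let G be a finite solvable group and A an elementary abelian group of automorphisms of G of order p² (p a prime) with no non-identity common fixed point. Then G has Fitting height at most 2: G has Fitting height at most m when there is a chain of normal subgroups 1 = F₀ ≤ F₁ ≤ ⋯ ≤ F_m = G with each F_{i+1}/F_i nilpotent. -/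
theorem result {G : Type*} [Group G] [Finite G] (hG : Group.IsSolvable G) {p : ℕ} (hp : p.Prime) (A : Subgroup (MulAut G)) (hA : Cfsg.IsElementaryAbelian p A) (hcard : Nat.card A = p ^ 2) (hfpf : ∀ g : G, (∀ a ∈ A, a g = g) → g = 1) : ∃ F : Fin (2 + 1) → Subgroup G, F 0 = ⊥ ∧ F (Fin.last 2) = ⊤ ∧ Monotone F ∧ (∀ i, (F i).Normal) ∧ ∀ i : Fin 2, ∃ k : ℕ, (F i.succ).lowerCentralSeries k ≤ F i.castSucc := by
  classical
  obtain ⟨hAc, hAe⟩ := hA
  haveI : Fact p.Prime := ⟨hp⟩
  haveI : Finite A :=
    Nat.finite_of_card_ne_zero (by rw [hcard]; exact pow_ne_zero _ hp.ne_zero)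
  have hAp : IsPGroup p A := fun a =>
    ⟨1, by rw [pow_one]; exact Subtype.ext (by simpa using hAe a a.2)⟩
  -- `p ∤ |G|`
  have hcop : (Nat.card G).Coprime p := by
    have h1 := hAp.card_modEq_card_fixedPoints G
    have h2 : Nat.card (MulAction.fixedPoints A G) = 1 := by
      rw [Nat.card_eq_one_iff_unique]
      have hone : ∀ x : MulAction.fixedPoints A G, x = ⟨1, fun a => smul_one a⟩ := by
        intro x
        apply Subtype.ext
        apply hfpf
        intro a ha
        exact x.2 ⟨a, ha⟩
      exact ⟨⟨fun x y => by rw [hone x, hone y]⟩, ⟨⟨1, fun a => smul_one a⟩⟩⟩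
    rw [h2] at h1
    have := Nat.ModEq.gcd_eq h1
    rw [Nat.gcd_one_left] at this
    exact this
  -- the semidirect product
  let Gs : Subgroup (G ⋊[A.subtype] A) := (SemidirectProduct.inl : G →* G ⋊[A.subtype] A).range
  let As : Subgroup (G ⋊[A.subtype] A) := (SemidirectProduct.inr : A →* G ⋊[A.subtype] A).range
  haveI : Finite (G ⋊[A.subtype] A) := Finite.of_equiv _ (SemidirectProduct.equivProd).symm
  haveI hGsn : Gs.Normal := by
    change ((SemidirectProduct.inl : G →* G ⋊[A.subtype] A).range).Normal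
    rw [SemidirectProduct.range_inl_eq_ker_rightHom]
    infer_instance
  have hcardGs : Nat.card Gs = Nat.card G :=
    (Nat.card_congr (MonoidHom.ofInjective SemidirectProduct.inl_injective).toEquiv).symm
  have hcardAs : Nat.card As = Nat.card A :=
    (Nat.card_congr (MonoidHom.ofInjective SemidirectProduct.inr_injective).toEquiv).symm
  have hElem : Cfsg.Agent.Helper9.Ward.ElemSq p As :=
    { hp := hp
      comm := ⟨⟨fun a b => Subtype.ext (by
        obtain ⟨a₀, ha⟩ := a.2
        obtain ⟨b₀, hb⟩ := b.2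
        rw [Subgroup.coe_mul, Subgroup.coe_mul, ← ha, ← hb, ← map_mul, ← map_mul,
          mul_comm' a₀ b₀])⟩⟩
      exp := by
        rintro _ ⟨a, rfl⟩
        have : a ^ p = 1 := Subtype.ext (by simpa using hAe a a.2)
        rw [← map_pow, this, map_one]
      card := by rw [hcardAs, hcard] }
  have hsup : Gs ⊔ As = ⊤ := by
    rw [eq_top_iff]
    intro x _
    rw [← SemidirectProduct.inl_left_mul_inr_right x]
    exact Subgroup.mul_mem _ (Subgroup.mem_sup_left ⟨_, rfl⟩) (Subgroup.mem_sup_right ⟨_, rfl⟩)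
  have hsolv : Group.IsSolvable Gs :=
    Group.isSolvable_of_surjective
      (f := (SemidirectProduct.inl : G →* G ⋊[A.subtype] A).rangeRestrict)
      (MonoidHom.rangeRestrict_surjective _)
  have hfpf' : Gs ⊓ Subgroup.centralizer (As : Set (G ⋊[A.subtype] A)) = ⊥ := by
    rw [eq_bot_iff]
    rintro x ⟨⟨g, rfl⟩, hx⟩
    rw [Subgroup.mem_bot]
    have hg : g = 1 := by
      apply hfpf
      intro a ha
      have h1 := (Subgroup.mem_centralizer_iff.mp hx) (SemidirectProduct.inr ⟨a, ha⟩) ⟨_, rfl⟩
      have h2 : (SemidirectProduct.inl (A.subtype ⟨a, ha⟩ g) : G ⋊[A.subtype] A) =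
          SemidirectProduct.inl g := by
        rw [SemidirectProduct.inl_aut, h1, mul_assoc, ← map_mul, mul_inv_cancel, map_one, mul_one]
      exact SemidirectProduct.inl_injective h2
    rw [hg, map_one]
  obtain ⟨N, hNG, hNn, ⟨k₁, hk₁⟩, ⟨k₂, hk₂⟩⟩ :=
    Cfsg.Agent.Helper9.Ward.main_aux (Nat.card (G ⋊[A.subtype] A)) p Gs As rfl hElem hsup
      (by rw [hcardGs]; exact hcop) hsolv hfpf'
  refine ⟨![⊥, N.comap (SemidirectProduct.inl : G →* G ⋊[A.subtype] A), ⊤], rfl, rfl, ?_, ?_, ?_⟩
  · intro i j hij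
    fin_cases i <;> fin_cases j <;> first | exact le_rfl | exact bot_le | exact le_top | (exfalso; revert hij; decide)
  · intro i
    fin_cases i
    · exact (inferInstance : (⊥ : Subgroup G).Normal)
    · exact hNn.comap _
    · exact (inferInstance : (⊤ : Subgroup G).Normal)
  · intro i
    fin_cases i
    · refine ⟨k₁, ?_⟩
      change (N.comap (SemidirectProduct.inl : G →* G ⋊[A.subtype] A)).lowerCentralSeries k₁ ≤ ⊥
      rw [le_bot_iff, ← Subgroup.map_eq_bot_iff_of_injective _
          (SemidirectProduct.inl_injective (N := G) (G := A) (φ := A.subtype)),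
        Subgroup.map_lowerCentralSeries, Subgroup.map_comap_eq_self hNG]
      exact hk₁
    · refine ⟨k₂, ?_⟩
      change (⊤ : Subgroup G).lowerCentralSeries k₂ ≤
        N.comap (SemidirectProduct.inl : G →* G ⋊[A.subtype] A)
      rw [← Subgroup.map_le_iff_le_comap, Subgroup.map_lowerCentralSeries,
        ← MonoidHom.range_eq_map]
      exact hk₂

end Cfsg.Agent.S3796
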