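import Cfsg.Statements.S3804
import Cfsg.Agent.Lead.ProdCard

set_option autoImplicit false
open Cfsg

namespace Cfsg.Agent.S3804

/-- Let G and H be subgroups of a finite group with G normalizing H, fix a real number α > 0, and for a subgroup A of G put m(A) = |A|^α · |C_H(A)|. Let A and B be nontrivial subgroups of G at which m attains its maximum over all nontrivial subgroups of G, and assume that A ∩ B ≠ 1 or that this maximum is at least |H|. Then AB = BA is a subgroup at which m is again maximal, C_H(A ∩ B) = C_H(A) C_H(B), and if A ∩ B ≠ 1 then m is maximal at A ∩ B as well. -/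
theorem result {X : Type*} [Group X] [Finite X] (G H : Subgroup X) (hGH : G ≤ Subgroup.normalizer (H : Set X)) (α : ℝ) (hα : 0 < α)
    (A B : Subgroup X) (hA : A ≤ G) (hB : B ≤ G) (hA1 : A ≠ ⊥) (hB1 : B ≠ ⊥)
    (hAmax : ∀ A' : Subgroup X, A' ≤ G → A' ≠ ⊥ → (fun A : Subgroup X => ((Nat.card A : ℝ) ^ α) * (Nat.card ↥(H ⊓ Subgroup.centralizer (A : Set X)) : ℝ)) A' ≤ (fun A : Subgroup X => ((Nat.card A : ℝ) ^ α) * (Nat.card ↥(H ⊓ Subgroup.centralizer (A : Set X)) : ℝ)) A)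
    (hBmax : ∀ A' : Subgroup X, A' ≤ G → A' ≠ ⊥ → (fun A : Subgroup X => ((Nat.card A : ℝ) ^ α) * (Nat.card ↥(H ⊓ Subgroup.centralizer (A : Set X)) : ℝ)) A' ≤ (fun A : Subgroup X => ((Nat.card A : ℝ) ^ α) * (Nat.card ↥(H ⊓ Subgroup.centralizer (A : Set X)) : ℝ)) B)
    (hcase : A ⊓ B ≠ ⊥ ∨ (Nat.card H : ℝ) ≤ (fun A : Subgroup X => ((Nat.card A : ℝ) ^ α) * (Nat.card ↥(H ⊓ Subgroup.centralizer (A : Set X)) : ℝ)) A) :
    (∀ a ∈ A, ∀ b ∈ B, ∃ b' ∈ B, ∃ a' ∈ A, a * b = b' * a') ∧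
    (∀ A' : Subgroup X, A' ≤ G → A' ≠ ⊥ → (fun A : Subgroup X => ((Nat.card A : ℝ) ^ α) * (Nat.card ↥(H ⊓ Subgroup.centralizer (A : Set X)) : ℝ)) A' ≤ (fun A : Subgroup X => ((Nat.card A : ℝ) ^ α) * (Nat.card ↥(H ⊓ Subgroup.centralizer (A : Set X)) : ℝ)) (A ⊔ B)) ∧
    (∀ h ∈ H ⊓ Subgroup.centralizer ((A ⊓ B : Subgroup X) : Set X), ∃ u ∈ H ⊓ Subgroup.centralizer (A : Set X), ∃ v ∈ H ⊓ Subgroup.centralizer (B : Set X), h = u * v) ∧
    (A ⊓ B ≠ ⊥ → ∀ A' : Subgroup X, A' ≤ G → A' ≠ ⊥ → (fun A : Subgroup X => ((Nat.card A : ℝ) ^ α) * (Nat.card ↥(H ⊓ Subgroup.centralizer (A : Set X)) : ℝ)) A' ≤ (fun A : Subgroup X => ((Nat.card A : ℝ) ^ α) * (Nat.card ↥(H ⊓ Subgroup.centralizer (A : Set X)) : ℝ)) (A ⊓ B)) := by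
  classical
  -- notation
  set m : Subgroup X → ℝ := fun A : Subgroup X => ((Nat.card A : ℝ) ^ α) *
    (Nat.card ↥(H ⊓ Subgroup.centralizer (A : Set X)) : ℝ) with hm
  have hAmax' : ∀ A' : Subgroup X, A' ≤ G → A' ≠ ⊥ → m A' ≤ m A := hAmax
  have hBmax' : ∀ A' : Subgroup X, A' ≤ G → A' ≠ ⊥ → m A' ≤ m B := hBmax
  have hcase' : A ⊓ B ≠ ⊥ ∨ (Nat.card H : ℝ) ≤ m A := hcase
  have hmAB : m B = m A := le_antisymm (hAmax' B hB hB1) (hBmax' A hA hA1)
  -- centralizers
  have hcent_sup : H ⊓ Subgroup.centralizer ((A ⊔ B : Subgroup X) : Set X) =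
      (H ⊓ Subgroup.centralizer (A : Set X)) ⊓ (H ⊓ Subgroup.centralizer (B : Set X)) := by
    apply le_antisymm
    · refine le_inf (inf_le_inf_left _ (Subgroup.centralizer_le ?_))
        (inf_le_inf_left _ (Subgroup.centralizer_le ?_))
      · exact SetLike.coe_subset_coe.mpr le_sup_left
      · exact SetLike.coe_subset_coe.mpr le_sup_right
    · intro x hx
      obtain ⟨⟨hxH, hxA⟩, ⟨-, hxB⟩⟩ := hx
      refine ⟨hxH, ?_⟩
      have h1 : A ≤ Subgroup.centralizer ((Subgroup.zpowers x : Subgroup X) : Set X) :=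
        Subgroup.le_centralizer_iff.mp (Subgroup.zpowers_le.mpr hxA)
      have h2 : B ≤ Subgroup.centralizer ((Subgroup.zpowers x : Subgroup X) : Set X) :=
        Subgroup.le_centralizer_iff.mp (Subgroup.zpowers_le.mpr hxB)
      exact Subgroup.le_centralizer_iff.mp (sup_le h1 h2) (Subgroup.mem_zpowers x)
  have hUW : H ⊓ Subgroup.centralizer (A : Set X) ≤
      H ⊓ Subgroup.centralizer ((A ⊓ B : Subgroup X) : Set X) :=
    inf_le_inf_left _ (Subgroup.centralizer_le (SetLike.coe_subset_coe.mpr inf_le_left))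
  have hVW : H ⊓ Subgroup.centralizer (B : Set X) ≤
      H ⊓ Subgroup.centralizer ((A ⊓ B : Subgroup X) : Set X) :=
    inf_le_inf_left _ (Subgroup.centralizer_le (SetLike.coe_subset_coe.mpr inf_le_right))
  -- natural number inequalities
  have hN1 : Nat.card A * Nat.card B ≤
      Nat.card (A ⊔ B : Subgroup X) * Nat.card (A ⊓ B : Subgroup X) :=
    Cfsg.Agent.Lead.card_mul_card_le_card_mul_card_inf le_sup_left le_sup_right
  have hN2 : Nat.card ↥(H ⊓ Subgroup.centralizer (A : Set X)) *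
      Nat.card ↥(H ⊓ Subgroup.centralizer (B : Set X)) ≤
      Nat.card ↥(H ⊓ Subgroup.centralizer ((A ⊓ B : Subgroup X) : Set X)) *
      Nat.card ↥(H ⊓ Subgroup.centralizer ((A ⊔ B : Subgroup X) : Set X)) := by
    rw [hcent_sup]
    exact Cfsg.Agent.Lead.card_mul_card_le_card_mul_card_inf hUW hVW
  -- real versions
  set a : ℝ := (Nat.card A : ℝ) with ha
  set b : ℝ := (Nat.card B : ℝ) with hb
  set i : ℝ := (Nat.card (A ⊓ B : Subgroup X) : ℝ) with hi
  set j : ℝ := (Nat.card (A ⊔ B : Subgroup X) : ℝ) with hj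
  set cA : ℝ := (Nat.card ↥(H ⊓ Subgroup.centralizer (A : Set X)) : ℝ) with hcA
  set cB : ℝ := (Nat.card ↥(H ⊓ Subgroup.centralizer (B : Set X)) : ℝ) with hcB
  set cI : ℝ := (Nat.card ↥(H ⊓ Subgroup.centralizer ((A ⊓ B : Subgroup X) : Set X)) : ℝ)
    with hcI
  set cJ : ℝ := (Nat.card ↥(H ⊓ Subgroup.centralizer ((A ⊔ B : Subgroup X) : Set X)) : ℝ)
    with hcJ
  have hmA : m A = a ^ α * cA := rfl
  have hmB : m B = b ^ α * cB := rfl
  have hmI : m (A ⊓ B) = i ^ α * cI := rfl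
  have hmJ : m (A ⊔ B) = j ^ α * cJ := rfl
  have pos : ∀ K : Subgroup X, (0 : ℝ) < (Nat.card K : ℝ) := fun K => by
    exact_mod_cast Nat.card_pos
  have ha0 : 0 < a := pos A
  have hb0 : 0 < b := pos B
  have hi0 : 0 < i := pos _
  have hj0 : 0 < j := pos _
  have hcA0 : 0 < cA := pos _
  have hcB0 : 0 < cB := pos _
  have hcI0 : 0 < cI := pos _
  have hcJ0 : 0 < cJ := pos _
  have hR1 : a * b ≤ j * i := by
    rw [ha, hb, hi, hj]; exact_mod_cast hN1
  have hR2 : cA * cB ≤ cI * cJ := by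
    rw [hcA, hcB, hcI, hcJ]; exact_mod_cast hN2
  have hM0 : 0 < m A := by rw [hmA]; positivity
  have hprod : m (A ⊔ B) * m (A ⊓ B) = (j * i) ^ α * (cI * cJ) := by
    rw [hmI, hmJ, Real.mul_rpow hj0.le hi0.le]; ring
  have hprod2 : m A * m B = (a * b) ^ α * (cA * cB) := by
    rw [hmA, hmB, Real.mul_rpow ha0.le hb0.le]; ring
  have hpow : (a * b) ^ α ≤ (j * i) ^ α :=
    Real.rpow_le_rpow (by positivity) hR1 hα.le
  have hge : m A * m A ≤ m (A ⊔ B) * m (A ⊓ B) := by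
    have : m A * m B ≤ m (A ⊔ B) * m (A ⊓ B) := by
      rw [hprod, hprod2]
      exact mul_le_mul hpow hR2 (by positivity) (by positivity)
    rwa [hmAB] at this
  have hJne : A ⊔ B ≠ ⊥ := fun h => hA1 (le_bot_iff.mp (h ▸ le_sup_left))
  have hJle : m (A ⊔ B) ≤ m A := hAmax' _ (sup_le hA hB) hJne
  have hIle : m (A ⊓ B) ≤ m A := by
    by_cases h : A ⊓ B = ⊥
    · have h2 : (Nat.card H : ℝ) ≤ m A := by
        rcases hcase' with h' | h'
        · exact absurd h h'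
        · exact h'
      have h3 : m (A ⊓ B) = (Nat.card H : ℝ) := by
        rw [hmI, hi, hcI, h]
        have e1 : Nat.card (⊥ : Subgroup X) = 1 := Subgroup.card_bot
        have e2 : H ⊓ Subgroup.centralizer (((⊥ : Subgroup X) : Subgroup X) : Set X) = H := by
          rw [Subgroup.coe_bot, Subgroup.centralizer_eq_top_iff_subset.mpr, inf_top_eq]
          intro x hx
          rw [Set.mem_singleton_iff.mp hx]
          exact Subgroup.one_mem _
        rw [e1, e2]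
        simp
      rw [h3]; exact h2
    · exact hAmax' _ (inf_le_left.trans hA) h
  have hJ0 : 0 ≤ m (A ⊔ B) := by rw [hmJ]; positivity
  have hI0 : 0 ≤ m (A ⊓ B) := by rw [hmI]; positivity
  have hJeq : m (A ⊔ B) = m A := by
    by_contra hne
    have hlt : m (A ⊔ B) < m A := lt_of_le_of_ne hJle hne
    have : m (A ⊔ B) * m (A ⊓ B) < m A * m A := by
      calc m (A ⊔ B) * m (A ⊓ B) ≤ m (A ⊔ B) * m A := mul_le_mul_of_nonneg_left hIle hJ0
        _ < m A * m A := mul_lt_mul_of_pos_right hlt hM0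
    exact absurd hge (not_le.mpr this)
  have hIeq : m (A ⊓ B) = m A := by
    by_contra hne
    have hlt : m (A ⊓ B) < m A := lt_of_le_of_ne hIle hne
    have : m (A ⊔ B) * m (A ⊓ B) < m A * m A := by
      rw [hJeq]
      exact mul_lt_mul_of_pos_left hlt hM0
    exact absurd hge (not_le.mpr this)
  -- equalities of the natural numbers
  have heq : (a * b) ^ α * (cA * cB) = (j * i) ^ α * (cI * cJ) := by
    rw [← hprod, ← hprod2, hJeq, hIeq, hmAB]
  have hE1 : a * b = j * i := by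
    by_contra hne
    have hlt : a * b < j * i := lt_of_le_of_ne hR1 hne
    have hlt2 : (a * b) ^ α < (j * i) ^ α := Real.rpow_lt_rpow (by positivity) hlt hα
    have : (a * b) ^ α * (cA * cB) < (j * i) ^ α * (cI * cJ) :=
      mul_lt_mul hlt2 hR2 (by positivity) (by positivity)
    exact absurd heq this.ne
  have hE2 : cA * cB = cI * cJ := by
    by_contra hne
    have hlt : cA * cB < cI * cJ := lt_of_le_of_ne hR2 hne
    have : (a * b) ^ α * (cA * cB) < (j * i) ^ α * (cI * cJ) :=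
      mul_lt_mul' hpow hlt (by positivity) (by positivity)
    exact absurd heq this.ne
  have hNE1 : Nat.card A * Nat.card B =
      Nat.card (A ⊔ B : Subgroup X) * Nat.card (A ⊓ B : Subgroup X) := by
    rw [ha, hb, hi, hj] at hE1; exact_mod_cast hE1
  have hNE2 : Nat.card ↥(H ⊓ Subgroup.centralizer (A : Set X)) *
      Nat.card ↥(H ⊓ Subgroup.centralizer (B : Set X)) =
      Nat.card ↥(H ⊓ Subgroup.centralizer ((A ⊓ B : Subgroup X) : Set X)) *
      Nat.card ↥((H ⊓ Subgroup.centralizer (A : Set X)) ⊓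
        (H ⊓ Subgroup.centralizer (B : Set X)) : Subgroup X) := by
    rw [← hcent_sup]
    rw [hcA, hcB, hcI, hcJ] at hE2; exact_mod_cast hE2
  refine ⟨?_, ?_, ?_, ?_⟩
  · intro x hx y hy
    have hmem : (x * y)⁻¹ ∈ A ⊔ B :=
      inv_mem (mul_mem (Subgroup.mem_sup_left hx) (Subgroup.mem_sup_right hy))
    obtain ⟨u, hu, v, hv, huv⟩ :=
      Cfsg.Agent.Lead.exists_mul_of_card_mul_card_eq le_sup_left le_sup_right hNE1 _ hmem
    refine ⟨v⁻¹, inv_mem hv, u⁻¹, inv_mem hu, ?_⟩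
    have : x * y = (u * v)⁻¹ := by rw [← huv, inv_inv]
    rw [this, mul_inv_rev]
  · intro A' hA' hA'1
    show m A' ≤ m (A ⊔ B)
    rw [hJeq]; exact hAmax' A' hA' hA'1
  · intro h hh
    exact Cfsg.Agent.Lead.exists_mul_of_card_mul_card_eq hUW hVW hNE2 h hh
  · intro _ A' hA' hA'1
    show m A' ≤ m (A ⊓ B)
    rw [hIeq]; exact hAmax' A' hA' hA'1

end Cfsg.Agent.S3804
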