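-- Statement S3805 (row 3805): the frozen statement Cfsg.CfsgFrozen.S3805
-- (Cfsg/Statements/S3805.lean; the theorem Cfsg.fg3_sylow_three_nine_self_centralizing_klein_automizer).
-- Piece project driven by helper10 (board s3805pieces, doc departures/helper10_s3805_pieces.md):
-- pieces by helper3, helper6, helper7, helper8, helper10, helper14, helper16, helper19, helper24, helper25.
import Mathlib
import Cfsg.Statements.S3805
import Cfsg.Agent.Helper14.S3805MKCFG
import Cfsg.Agent.Helper8.S3805RESTRICT
import Cfsg.Agent.Helper14.S3805NOFUSE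
import Cfsg.Agent.Helper6.S3805UNFUSED
import Cfsg.Agent.Helper10.S3805UNFNORMAL
import Cfsg.Agent.Helper7.S3805NORMALSUB
import Cfsg.Agent.Helper7.S3805ENDGAME
import Cfsg.Agent.Helper3.S3805QUOT
import Cfsg.Agent.Helper10.S3805FUSEDAPP
import Cfsg.Agent.Helper24.Orthogonality

set_option autoImplicit false

namespace Cfsg.Agent.S3805

open Cfsg Cfsg.Agent.Helper24 Cfsg.Agent.S3805P

universe u

/-- One fused case: `u ~ w` is impossible unless `ι(Q) = G`. -/
theorem core_fused {G : Type u} [Group G] [Finite G] (c : Cfg G)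
    (hmax : ∀ H : Subgroup G, c.ι.range ≤ H → H = ⊤ ∨ H = c.ι.range)
    (huw : IsConj c.u c.w) : c.ι.range = ⊤ := by
  classical
  haveI : Fintype G := Fintype.ofFinite G
  haveI : Fintype (IrrCharacter G) := Fintype.ofFinite _
  have huv : ¬ IsConj c.u c.v := not_isConj_u_v c
  have hvu : ¬ IsConj c.v c.u := fun h => huv h.symm
  have hvw : ¬ IsConj c.v c.w := fun h => huv (huw.trans h.symm)
  have hS' : ∀ q : Q, IsConj c.swap.u (c.swap.ι q) → q.2 = 1 :=
    snd_eq_one_of_isConj_u c.swap hvu hvw
  obtain ⟨K, hKn, hKtop, hvK⟩ := exists_normal_of_unfused c.swap hS'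
  have hmax' : ∀ H : Subgroup G, c.swap.ι.range ≤ H → H = ⊤ ∨ H = c.swap.ι.range := by
    intro H hH
    rw [Cfg.swap_range] at hH ⊢
    exact hmax H hH
  haveI := hKn
  rcases exists_normal_meet_F1 c.swap hmax' K hKtop hvK with h | ⟨K2, hK2n, hK2⟩
  · rw [Cfg.swap_range] at h; exact h
  · rw [Cfg.swap_range, Cfg.swap_map_F1] at hK2
    haveI := hK2n
    rcases exists_quotient_map c hmax K2 hK2 with h | ⟨π, hπ⟩
    · exact h
    · exact (false_of_fused c π hπ huw).elim

/-- The unfused side: a normal subgroup meeting `ι(Q)` in the first factor. -/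
theorem core_unfused {G : Type u} [Group G] [Finite G] (c : Cfg G)
    (hmax : ∀ H : Subgroup G, c.ι.range ≤ H → H = ⊤ ∨ H = c.ι.range)
    (huv : ¬ IsConj c.u c.v) (huw : ¬ IsConj c.u c.w) :
    c.ι.range = ⊤ ∨ ∃ K1 : Subgroup G, K1.Normal ∧ K1 ⊓ c.ι.range = F1.map c.ι := by
  classical
  haveI : Fintype G := Fintype.ofFinite G
  haveI : Fintype (IrrCharacter G) := Fintype.ofFinite _
  have hS := snd_eq_one_of_isConj_u c huv huw
  obtain ⟨K, hKn, hKtop, huK⟩ := exists_normal_of_unfused c hS
  haveI := hKn
  exact exists_normal_meet_F1 c hmax K hKtop huK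

theorem core : ∀ (n : ℕ) (G : Type u) [Group G] [Finite G], Nat.card G = n →
    ∀ c : Cfg G, c.ι.range = ⊤ := by
  intro n
  induction n using Nat.strong_induction_on with
  | _ n IH =>
    intro G _ _ hn c
    have hmax : ∀ H : Subgroup G, c.ι.range ≤ H → H = ⊤ ∨ H = c.ι.range := by
      intro H hH
      by_cases hHtop : H = ⊤
      · exact Or.inl hHtop
      · right
        have hlt : Nat.card H < n := by
          rw [← hn]
          have hle : Nat.card H ≤ Nat.card G := Subgroup.card_le_card_group H
          rcases lt_or_eq_of_le hle with h | h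
          · exact h
          · exact absurd ((Subgroup.card_eq_iff_eq_top H).mp h) hHtop
        obtain ⟨c', hc'⟩ := exists_restrict c H hH
        have htop := IH (Nat.card H) hlt H rfl c'
        apply le_antisymm
        · intro h hh
          have : (⟨h, hh⟩ : H) ∈ c'.ι.range := by rw [htop]; trivial
          obtain ⟨q, hq⟩ := this
          refine ⟨q, ?_⟩
          rw [← hc' q, hq]
        · exact hH
    have hmax' : ∀ H : Subgroup G, c.swap.ι.range ≤ H → H = ⊤ ∨ H = c.swap.ι.range := by
      intro H hH
      rw [Cfg.swap_range] at hH ⊢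
      exact hmax H hH
    have huv : ¬ IsConj c.u c.v := not_isConj_u_v c
    by_cases huw : IsConj c.u c.w
    · exact core_fused c hmax huw
    · by_cases hvw : IsConj c.v c.w
      · have := core_fused c.swap hmax' hvw
        rw [Cfg.swap_range] at this
        exact this
      · rcases core_unfused c hmax huv huw with h | ⟨K1, hK1n, hK1⟩
        · exact h
        · rcases core_unfused c.swap hmax' (fun h => huv h.symm) hvw with h | ⟨K2, hK2n, hK2⟩
          · rw [Cfg.swap_range] at h; exact h
          · rw [Cfg.swap_range, Cfg.swap_map_F1] at hK2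
            haveI := hK1n
            haveI := hK2n
            exact range_eq_top_of_normal_pair c K1 K2 hK1 hK2

/-- Let G be a finite group whose Sylow 3-subgroup T is elementary abelian of order 9 and self-centralizing, with N_G(T)/T a Klein four-group, and suppose that the centralizer of every nonidentity element of T lies in N_G(T). Then T is normal in G. -/
theorem result {G : Type*} [Group G] [Finite G]
    (T : Sylow 3 G) (hT : Cfsg.IsElementaryAbelian 3 (T : Subgroup G)) (hcard : Nat.card T = 9)
    (hC : Subgroup.centralizer ((T : Subgroup G) : Set G) = T)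
    [hn : ((T : Subgroup G).subgroupOf (Subgroup.normalizer ((T : Subgroup G) : Set G))).Normal]
    (hK : IsKleinFour (↥(Subgroup.normalizer ((T : Subgroup G) : Set G)) ⧸
      (T : Subgroup G).subgroupOf (Subgroup.normalizer ((T : Subgroup G) : Set G))))
    (hloc : ∀ t ∈ (T : Subgroup G), t ≠ 1 →
      Subgroup.centralizer ({t} : Set G) ≤ Subgroup.normalizer ((T : Subgroup G) : Set G)) :
    Subgroup.normalizer ((T : Subgroup G) : Set G) = ⊤ := by
  obtain ⟨c, hc⟩ := exists_cfg T hT hcard hC hK hloc
  rw [← hc]
  exact core _ G rfl c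

end Cfsg.Agent.S3805
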