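import Cfsg.Statements.S3807
import Mathlib
import Cfsg.Agent.Helper1.AbelianIndexP

set_option autoImplicit false
set_option linter.style.haveILetI false
set_option linter.deprecated false
open Cfsg

namespace Cfsg.Agent.S3807

/-- Let S be a non-abelian finite p-group with an abelian subgroup A of index p. Then [S : Z(S)] = p·#[S,S], and either [S,S] has order p, S/Z(S) is elementary abelian of order p², and S has exactly p + 1 abelian subgroups of index p; or [S,S] has order at least p² and A is the only abelian subgroup of index p in S. -/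
theorem result {S : Type*} [Group S] [Finite S] (p : ℕ) [Fact p.Prime] (hS : IsPGroup p S) (hna : ¬ IsMulCommutative S)
    (A : Subgroup S) (hA : IsMulCommutative ↥A) (hAi : A.index = p) :
    (Subgroup.center S).index = p * Nat.card (commutator S) ∧
      ((Nat.card (commutator S) = p ∧ Cfsg.IsElementaryAbelian p (⊤ : Subgroup (S ⧸ Subgroup.center S)) ∧
          Nat.card (S ⧸ Subgroup.center S) = p ^ 2 ∧
          Nat.card {B : Subgroup S // IsMulCommutative ↥B ∧ B.index = p} = p + 1) ∨
        (p ^ 2 ≤ Nat.card (commutator S) ∧ ∀ B : Subgroup S, IsMulCommutative ↥B → B.index = p → B = A)) := by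
  classical
  have hp : p.Prime := Fact.out
  have hna' : Subgroup.center S ≠ ⊤ := by
    intro h
    exact hna ⟨⟨Cfsg.Agent.Helper1.AbIdxP.comm_of_center_eq_top h⟩⟩
  -- `A` is normal
  obtain ⟨n, hn⟩ := IsPGroup.iff_card.mp hS
  have hn0 : n ≠ 0 := by
    rintro rfl
    have h1 : p ∣ Nat.card S := hAi ▸ A.index_dvd_card
    rw [hn, pow_zero] at h1
    exact hp.one_lt.ne' (Nat.dvd_one.mp h1)
  haveI hAn : A.Normal := by
    apply Subgroup.normal_of_index_eq_minFac_card
    rw [hAi, hn, hp.pow_minFac hn0]
  have hmain := Cfsg.Agent.Helper1.AbIdxP.card_eq_card_center_mul_card_commutator hA hp hAi hna'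
  have hidx : (Subgroup.center S).index = p * Nat.card (commutator S) := by
    have h1 := A.card_mul_index
    have h2 := (Subgroup.center S).card_mul_index
    rw [hAi, hmain] at h1
    have hZpos : 0 < Nat.card (Subgroup.center S) := Nat.card_pos
    have : Nat.card (Subgroup.center S) * (Subgroup.center S).index
        = Nat.card (Subgroup.center S) * (p * Nat.card (commutator S)) := by
      rw [h2, ← h1]; ring
    exact Nat.eq_of_mul_eq_mul_left hZpos this
  refine ⟨hidx, ?_⟩
  -- `|S'|` is a nontrivial power of `p`
  obtain ⟨k, hk⟩ := IsPGroup.iff_card.mp (hS.to_subgroup (commutator S))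
  have hk0 : k ≠ 0 := by
    rintro rfl
    rw [pow_zero] at hk
    apply hna'
    rw [← commutator_eq_bot_iff_center_eq_top]
    exact Subgroup.card_eq_one.mp hk
  have hZle : ∀ B : Subgroup S, IsMulCommutative ↥B → B.index = p → Subgroup.center S ≤ B :=
    fun B hB hBi => Cfsg.Agent.Helper1.AbIdxP.center_le_of_index_prime hB hp hBi hna'
  rcases Nat.lt_or_ge k 2 with hk2 | hk2
  · left
    have hk1 : k = 1 := by omega
    subst hk1
    rw [pow_one] at hk
    rw [hk] at hidx
    have hQ : Nat.card (S ⧸ Subgroup.center S) = p ^ 2 := by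
      rw [← Subgroup.index_eq_card, hidx, pow_two]
    have hQc : IsMulCommutative (S ⧸ Subgroup.center S) :=
      IsPGroup.isMulCommutative_of_card_eq_prime_sq hQ
    have hexp : ∀ a : S ⧸ Subgroup.center S, a ^ p = 1 := by
      intro a
      have hdvd : orderOf a ∣ p ^ 2 := hQ ▸ orderOf_dvd_natCard a
      obtain ⟨i, hi, hi'⟩ := (Nat.dvd_prime_pow hp).mp hdvd
      rcases Nat.lt_or_ge i 2 with hi2 | hi2
      · have : orderOf a ∣ p := by
          rw [hi']
          calc p ^ i ∣ p ^ 1 := pow_dvd_pow p (by omega)
            _ = p := pow_one p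
        exact orderOf_dvd_iff_pow_eq_one.mp this
      · exfalso
        have hi2' : i = 2 := le_antisymm hi hi2
        subst hi2'
        haveI : IsCyclic (S ⧸ Subgroup.center S) :=
          isCyclic_of_orderOf_eq_card a (by rw [hi', hQ])
        apply hna
        exact ⟨⟨commutative_of_cyclic_center_quotient (QuotientGroup.mk' (Subgroup.center S))
          (by rw [QuotientGroup.ker_mk'])⟩⟩
    refine ⟨hk, ⟨⟨⟨fun a b => Subtype.ext ?_⟩⟩, fun a _ => hexp a⟩, hQ, ?_⟩
    · exact hQc.is_comm.comm a.1 b.1
    · -- the count
      have hcomapcomm : ∀ C : Subgroup (S ⧸ Subgroup.center S), C.index = p →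
          IsMulCommutative ↥(C.comap (QuotientGroup.mk' (Subgroup.center S))) := by
        intro C hC
        have hCcard : Nat.card C = p := by
          have := C.card_mul_index
          rw [hC, hQ, pow_two] at this
          exact Nat.eq_of_mul_eq_mul_right hp.pos this
        haveI : IsCyclic C := isCyclic_of_prime_card hCcard
        refine ⟨⟨commutative_of_cyclic_center_quotient
          ((QuotientGroup.mk' (Subgroup.center S)).subgroupComap C) ?_⟩⟩
        intro x hx
        rw [MonoidHom.mem_ker] at hx
        have hx' : (x : S) ∈ Subgroup.center S := by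
          have h0 : ((QuotientGroup.mk' (Subgroup.center S)) (x : S) : S ⧸ Subgroup.center S) = 1 :=
            congrArg Subtype.val hx
          exact (QuotientGroup.eq_one_iff _).mp h0
        rw [Subgroup.mem_center_iff]
        intro y
        apply Subtype.ext
        exact Subgroup.mem_center_iff.mp hx' y
      let e : {B : Subgroup S // IsMulCommutative ↥B ∧ B.index = p} ≃
          {C : Subgroup (S ⧸ Subgroup.center S) // C.index = p} :=
        { toFun := fun B => ⟨B.1.map (QuotientGroup.mk' (Subgroup.center S)),
            (Subgroup.index_map_eq B.1 (QuotientGroup.mk'_surjective (Subgroup.center S))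
              (by rw [QuotientGroup.ker_mk']; exact hZle B.1 B.2.1 B.2.2)).trans B.2.2⟩
          invFun := fun C => ⟨C.1.comap (QuotientGroup.mk' (Subgroup.center S)),
            hcomapcomm C.1 C.2, by
              rw [Subgroup.index_comap_of_surjective _ (QuotientGroup.mk'_surjective _)]
              exact C.2⟩
          left_inv := fun B => Subtype.ext (Subgroup.comap_map_eq_self
            (by rw [QuotientGroup.ker_mk']; exact hZle B.1 B.2.1 B.2.2))
          right_inv := fun C => Subtype.ext
            (Subgroup.map_comap_eq_self_of_surjective (QuotientGroup.mk'_surjective _) C.1) }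
      rw [Nat.card_congr e]
      exact Cfsg.Agent.Helper1.AbIdxP.card_subgroups_index_p hp hQ hexp
  · right
    refine ⟨?_, ?_⟩
    · rw [hk]
      exact Nat.pow_le_pow_right hp.pos hk2
    · intro B hB hBi
      by_contra hBA
      have hnle : ¬ B ≤ A := by
        intro hle
        apply hBA
        have h2 := Subgroup.relIndex_mul_index hle
        rw [hAi, hBi] at h2
        have h3 : B.relIndex A = 1 := by
          have := hp.pos
          nlinarith
        exact le_antisymm hle (Subgroup.relIndex_eq_one.mp h3)
      have hinf := Cfsg.Agent.Helper1.AbIdxP.inf_le_center_of_index_prime hA hB hp hAi hnle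
      have h1 : (Subgroup.center S).index ∣ (A ⊓ B).index := Subgroup.index_dvd_of_le hinf
      have h2 : (A ⊓ B).index ≤ A.index * B.index := Subgroup.index_inf_le
      have h3 : (A ⊓ B).index ≠ 0 := Subgroup.index_ne_zero_of_finite
      have h4 := Nat.le_of_dvd (Nat.pos_of_ne_zero h3) h1
      rw [hidx, hk, hAi, hBi] at *
      have h5 : p ^ 2 ≤ p ^ k := Nat.pow_le_pow_right hp.pos hk2
      have h6 : p * p ^ 2 ≤ p * p := le_trans (Nat.mul_le_mul_left p h5) (le_trans h4 h2)
      have h7 := hp.two_le
      nlinarith

end Cfsg.Agent.S3807
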