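import Mathlib
import Cfsg.Statements.S3808
import Cfsg.Agent.S0065
import Cfsg.Agent.Lead.CoprimeFrattini

set_option autoImplicit false
open Cfsg

namespace Cfsg.Agent.S3808

/-- A subgroup of index `p` in a finite `p`-group is normal. -/
lemma normal_of_index_eq {S : Type*} [Group S] [Finite S] {p : ℕ} [Fact p.Prime]
    (hS : IsPGroup p S) (Q : Subgroup S) (hQi : Q.index = p) : Q.Normal := by
  have hp : p.Prime := Fact.out
  obtain ⟨n, hn⟩ := IsPGroup.iff_card.mp hS
  have hn0 : n ≠ 0 := by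
    rintro rfl
    rw [pow_zero] at hn
    have h1 : Q.index ∣ Nat.card S := Subgroup.index_dvd_card Q
    rw [hn, hQi] at h1
    exact hp.one_lt.ne' (Nat.dvd_one.mp h1)
  apply Subgroup.normal_of_index_eq_minFac_card
  rw [hQi, hn, hp.pow_minFac hn0]

/-- A subgroup of prime index is maximal. -/
lemma eq_top_of_lt_of_index_prime {S : Type*} [Group S] [Finite S] {p : ℕ} (hp : p.Prime)
    {Q K : Subgroup S} (hQi : Q.index = p) (hlt : Q < K) : K = ⊤ := by
  have h1 := Subgroup.relIndex_mul_index hlt.le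
  rw [hQi] at h1
  have h2 : Q.relIndex K ≠ 1 := by
    intro h
    exact hlt.not_ge (Subgroup.relIndex_eq_one.mp h)
  have h3 : Q.relIndex K ∣ p := ⟨_, h1.symm⟩
  rcases (Nat.dvd_prime hp).mp h3 with h | h
  · exact absurd h h2
  · rw [h] at h1
    have h4 : K.index = 1 := by
      have := hp.pos
      nlinarith
    exact Subgroup.index_eq_one.mp h4

theorem result {S : Type*} [Group S] [Finite S] (p : ℕ) [Fact p.Prime] (hS : IsPGroup p S) (Q : Subgroup S) (hQ : Cfsg.IsExtraspecial p ↥Q) (hQi : Q.index = p) :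
    Subgroup.center S = (Subgroup.center ↥Q).map Q.subtype ∨
      (Q ⊔ Subgroup.center S = ⊤ ∧ Nat.card (Subgroup.center S) = p ^ 2) := by
  have hp : p.Prime := Fact.out
  have hQn : Q.Normal := normal_of_index_eq hS Q hQi
  set ZQ : Subgroup S := (Subgroup.center ↥Q).map Q.subtype with hZQ
  have hZQcard : Nat.card ZQ = p := by
    rw [← hQ.2]
    exact (Nat.card_congr ((Subgroup.center ↥Q).equivMapOfInjective _
      Q.subtype_injective).toEquiv).symm
  have hZQn : ZQ.Normal := by
    have h1 := Cfsg.Agent.Lead.normalizer_le_normalizer_map_of_characteristic Q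
      (Subgroup.center ↥Q)
    rw [Subgroup.normalizer_eq_top_iff.mpr hQn, top_le_iff] at h1
    exact Subgroup.normalizer_eq_top_iff.mp h1
  have hZQ0 : ZQ ≠ ⊥ := by
    intro h
    rw [h, Subgroup.card_bot] at hZQcard
    exact hp.one_lt.ne hZQcard
  have hnil : Group.IsNilpotent S := hS.isNilpotent
  have hZQZ : ZQ ≤ Subgroup.center S := by
    have h1 : ZQ ⊓ Subgroup.center S ≠ ⊥ := Cfsg.Agent.S0065.inf_center_ne_bot ZQ hZQ0
    have h2 : Nat.card (ZQ ⊓ Subgroup.center S : Subgroup S) ∣ p := by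
      rw [← hZQcard]; exact Subgroup.card_dvd_of_le inf_le_left
    rcases (Nat.dvd_prime hp).mp h2 with h | h
    · exact absurd (Subgroup.card_eq_one.mp h) h1
    · have h3 : ZQ ⊓ Subgroup.center S = ZQ :=
        Subgroup.eq_of_le_of_card_ge inf_le_left (by rw [h, hZQcard])
      rw [← h3]; exact inf_le_right
  have hZcapQ : Subgroup.center S ⊓ Q ≤ ZQ := by
    rintro x ⟨hxZ, hxQ⟩
    refine ⟨⟨x, hxQ⟩, ?_, rfl⟩
    rw [SetLike.mem_coe, Subgroup.mem_center_iff]
    intro y
    apply Subtype.ext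
    exact Subgroup.mem_center_iff.mp hxZ y
  have hZQQ : ZQ ≤ Q := Subgroup.map_subtype_le _
  by_cases hZQ' : Subgroup.center S ≤ Q
  · left
    apply le_antisymm _ hZQZ
    calc Subgroup.center S = Subgroup.center S ⊓ Q := (inf_eq_left.mpr hZQ').symm
      _ ≤ ZQ := hZcapQ
  · right
    have hlt : Q < Q ⊔ Subgroup.center S := by
      refine lt_of_le_of_ne le_sup_left (fun h => hZQ' ?_)
      rw [h]; exact le_sup_right
    have htop : Q ⊔ Subgroup.center S = ⊤ := eq_top_of_lt_of_index_prime hp hQi hlt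
    refine ⟨htop, ?_⟩
    set Z : Subgroup S := Subgroup.center S with hZ
    have hinf : Q ⊓ Z = ZQ :=
      le_antisymm (by rw [inf_comm]; exact hZcapQ) (le_inf hZQQ hZQZ)
    have h1 : Z.relIndex (Q ⊔ Z) = Z.relIndex Q := Subgroup.relIndex_sup_right Q Z
    rw [htop, Subgroup.relIndex_top_right] at h1
    have h2 : Nat.card (Q ⊓ Z : Subgroup S) * Z.relIndex Q = Nat.card Q := by
      have := Subgroup.relIndex_mul_relIndex ⊥ (Q ⊓ Z) Q bot_le inf_le_left
      rwa [Subgroup.relIndex_bot_left, Subgroup.relIndex_bot_left, Subgroup.inf_relIndex_left]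
        at this
    rw [hinf, hZQcard, ← h1] at h2
    have h3 : Nat.card Z * Z.index = Nat.card S := Subgroup.card_mul_index Z
    have h4 : Nat.card Q * Q.index = Nat.card S := Subgroup.card_mul_index Q
    rw [hQi] at h4
    have hpos : 0 < Z.index := Nat.pos_of_ne_zero Subgroup.index_ne_zero_of_finite
    have h5 : Nat.card Z * Z.index = p ^ 2 * Z.index := by
      rw [h3, ← h4, ← h2]; ring
    exact Nat.eq_of_mul_eq_mul_right hpos h5

end Cfsg.Agent.S3808
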