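import Cfsg.Statements.S3809
import Mathlib
import Cfsg.Agent.S0095
import Cfsg.Agent.Helper1.PGroup

set_option autoImplicit false
open Cfsg

namespace Cfsg.Agent.S3809
open scoped Pointwise commutatorElement

/-- Let S be a finite p-group with an extraspecial subgroup of index p. Then S has order p^(2+2n) for some n ≥ 1, derived length at most 3, and exponent dividing p³. -/
theorem result {S : Type*} [Group S] [Finite S] (p : ℕ) [Fact p.Prime] (hS : IsPGroup p S) (Q : Subgroup S) (hQ : Cfsg.IsExtraspecial p ↥Q) (hQi : Q.index = p) :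
    (∃ n : ℕ, 1 ≤ n ∧ Nat.card S = p ^ (2 + 2 * n)) ∧ derivedSeries S 3 = ⊥ ∧ ∀ x : S, x ^ (p ^ 3) = 1 := by
  classical
  have hp : p.Prime := Fact.out
  obtain ⟨n, hn1, hn⟩ := Cfsg.Agent.S0095.result hQ
  obtain ⟨⟨hPQ, hfrat, hcomm⟩, hZ⟩ := hQ
  have hcardS : Nat.card S = p ^ (2 + 2 * n) := by
    rw [← Subgroup.card_mul_index Q, hn, hQi]
    ring
  have hQn : Q.Normal := by
    apply Subgroup.normal_of_index_eq_minFac_card
    rw [hcardS, hQi, Nat.Prime.pow_minFac hp (by omega)]
  refine ⟨⟨n, hn1, hcardS⟩, ?_, ?_⟩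
  · -- derived length
    have hquot : Nat.card (S ⧸ Q) = p := hQi
    have hcyc : IsCyclic (S ⧸ Q) := isCyclic_of_prime_card hquot
    have hcommq : IsMulCommutative (S ⧸ Q) := ⟨⟨fun a b => by
      letI := IsCyclic.commGroup (α := S ⧸ Q)
      exact mul_comm a b⟩⟩
    have h1 : derivedSeries S 1 ≤ Q := by
      rw [derivedSeries_one]
      exact Subgroup.Normal.quotient_commutative_iff_commutator_le.mp hcommq
    have h2 : derivedSeries S 2 ≤ (Subgroup.center Q).map Q.subtype := by
      rw [← hcomm, Subgroup.map_subtype_commutator]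
      change ⁅derivedSeries S 1, derivedSeries S 1⁆ ≤ _
      exact Subgroup.commutator_mono h1 h1
    have h3 : derivedSeries S 3 ≤ ⊥ := by
      change ⁅derivedSeries S 2, derivedSeries S 2⁆ ≤ _
      refine (Subgroup.commutator_mono h2 h2).trans ?_
      rw [Subgroup.commutator_le]
      rintro _ ⟨a, ha, rfl⟩ _ ⟨b, hb, rfl⟩
      rw [Subgroup.mem_bot, commutatorElement_eq_one_iff_mul_comm]
      have := Subgroup.mem_center_iff.mp ha b
      have h := congrArg Subtype.val this
      simpa using h.symm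
    exact le_bot_iff.mp h3
  · intro x
    have h1 : x ^ p ∈ Q := by
      have := Subgroup.pow_index_mem Q x
      rwa [hQi] at this
    have h2 : (⟨x ^ p, h1⟩ : Q) ^ p ∈ Subgroup.center Q := by
      rw [← hfrat]
      exact Cfsg.Agent.Helper1.IsPGroup.pow_mem_frattini hPQ _
    have h3 : ((⟨x ^ p, h1⟩ : Q) ^ p) ^ p = 1 := by
      have := pow_card_eq_one' (G := Subgroup.center Q) (x := ⟨_, h2⟩)
      rw [hZ] at this
      have h := congrArg Subtype.val this
      simpa using h
    have h4 := congrArg Subtype.val h3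
    simp only [Subgroup.coe_pow, Subgroup.coe_one] at h4
    rw [← h4, ← pow_mul, ← pow_mul]
    congr 1
    ring

end Cfsg.Agent.S3809
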