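import Cfsg.Statements.S3810
import Mathlib
import Cfsg.Agent.S0095
import Cfsg.Agent.S3741
import Cfsg.Agent.Helper9.Extraspecial
import Cfsg.Agent.Helper9.NormalSeries
import Cfsg.Agent.Helper10.PGroupBasic

set_option autoImplicit false
open Cfsg

namespace Cfsg.Agent.S3810
open scoped Pointwise commutatorElement

theorem commutator_top_ne_self {G : Type*} [Group G] [hG : Group.IsNilpotent G] (V : Subgroup G)
    (hV : V ≠ ⊥) : ⁅V, (⊤ : Subgroup G)⁆ ≠ V := by
  intro h
  obtain ⟨n, hn⟩ := Subgroup.nilpotent_iff_lowerCentralSeries.mp hG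
  have key : ∀ k, V ≤ Subgroup.lowerCentralSeries (⊤ : Subgroup G) k := by
    intro k
    induction k with
    | zero => simp
    | succ k ih =>
      rw [Subgroup.lowerCentralSeries_succ]
      calc V = ⁅V, (⊤ : Subgroup G)⁆ := h.symm
        _ ≤ ⁅Subgroup.lowerCentralSeries (⊤ : Subgroup G) k, ⊤⁆ :=
            Subgroup.commutator_mono ih le_rfl
  have := key n
  rw [hn] at this
  exact hV (le_bot_iff.mp this)

/-- Let S be a finite p-group with an extraspecial subgroup of index p. Then S has an abelian subgroup of index p if and only if S has order p⁴. -/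
theorem result {S : Type*} [Group S] [Finite S] (p : ℕ) [Fact p.Prime] (hS : IsPGroup p S) (Q : Subgroup S) (hQ : Cfsg.IsExtraspecial p ↥Q) (hQi : Q.index = p) :
    (∃ A : Subgroup S, IsMulCommutative ↥A ∧ A.index = p) ↔ Nat.card S = p ^ 4 := by
  classical
  have hp : p.Prime := Fact.out
  obtain ⟨n, hn1, hn⟩ := Cfsg.Agent.S0095.result hQ
  have hQ' := hQ
  obtain ⟨⟨hPQ, hfrat, hcomm⟩, hZ⟩ := hQ
  have hcardS : Nat.card S = p ^ (2 + 2 * n) := by
    rw [← Subgroup.card_mul_index Q, hn, hQi]
    ring
  have hQn : Q.Normal := by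
    apply Subgroup.normal_of_index_eq_minFac_card
    rw [hcardS, hQi, Nat.Prime.pow_minFac hp (by omega)]
  have hZcard : Nat.card (Subgroup.centralizer (Q : Set S) ⊓ Q : Subgroup S) = p := by
    rw [← Cfsg.Agent.Helper9.card_center_subtype, hZ]
  generalize hZdef : (Subgroup.centralizer (Q : Set S) ⊓ Q : Subgroup S) = Z at hZcard
  have hQZ : Q ≤ Subgroup.centralizer (Z : Set S) := by
    intro q hq z hz
    rw [← hZdef] at hz
    exact ((Subgroup.mem_inf.mp hz).1 q hq).symm
  constructor
  · rintro ⟨A, hAcomm, hAi⟩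
    have hAcard : Nat.card A = p ^ (2 * n + 1) := by
      have h1 := Subgroup.card_mul_index A
      rw [hAi, hcardS] at h1
      have h2 : Nat.card A * p = p ^ (2 * n + 1) * p := by rw [h1]; ring
      exact Nat.eq_of_mul_eq_mul_right hp.pos h2
    have h1 := Cfsg.Agent.Helper17.card_sup_mul_card_inf_of_normal Q A
    have h1' : Nat.card (Q ⊔ A : Subgroup S) ≤ Nat.card S := Subgroup.card_le_card_group _
    generalize hB : Q ⊓ A = B at h1
    have hBQ : B ≤ Q := by rw [← hB]; exact inf_le_left
    have hBA : B ≤ A := by rw [← hB]; exact inf_le_right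
    have hBlow : p ^ (2 * n) ≤ Nat.card B := by
      rw [hn, hAcard] at h1
      rw [hcardS] at h1'
      have h3 : p ^ (2 + 2 * n) * p ^ (2 * n) ≤ p ^ (2 + 2 * n) * Nat.card B := by
        calc p ^ (2 + 2 * n) * p ^ (2 * n) = p ^ (2 * n + 1) * p ^ (2 * n + 1) := by ring
          _ = Nat.card (Q ⊔ A : Subgroup S) * Nat.card B := h1.symm
          _ ≤ p ^ (2 + 2 * n) * Nat.card B := Nat.mul_le_mul_right _ h1'
      exact Nat.le_of_mul_le_mul_left h3 (pos_of_ne_zero (pow_ne_zero _ hp.ne_zero))
    have key := Cfsg.Agent.Helper9.relIndex_centralizer_eq Z Q B hZcard hQZ (hBQ.trans hQZ)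
      (fun a ha b hb => by
        rw [← hZdef]
        exact Cfsg.Agent.Helper9.commutator_mem_center_of_isExtraspecial Q hQ' a ha b (hBQ hb))
    have h2 := Cfsg.Agent.Helper17.relIndex_mul_card_inf (Subgroup.centralizer (B : Set S)) Q
    have h3 := Cfsg.Agent.Helper17.relIndex_mul_card_inf (Subgroup.centralizer (Q : Set S)) B
    have hle1 : Nat.card B ≤ Nat.card (Subgroup.centralizer (B : Set S) ⊓ Q : Subgroup S) := by
      apply Subgroup.card_le_of_le
      refine le_inf ?_ hBQ
      intro x hx y hy
      have := hAcomm.is_comm.comm ⟨y, hBA hy⟩ ⟨x, hBA hx⟩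
      exact congrArg Subtype.val this
    have hle2 : Nat.card (Subgroup.centralizer (Q : Set S) ⊓ B : Subgroup S) ≤ p := by
      rw [← hZcard]
      apply Subgroup.card_le_of_le
      rw [← hZdef]
      exact inf_le_inf_left _ hBQ
    rw [key] at h2
    generalize (Subgroup.centralizer (Q : Set S)).relIndex B = r at h2 h3
    generalize Nat.card (Subgroup.centralizer (B : Set S) ⊓ Q : Subgroup S) = c at h2 hle1
    generalize Nat.card (Subgroup.centralizer (Q : Set S) ⊓ B : Subgroup S) = d at h3 hle2
    generalize Nat.card B = b at *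
    have h4 : b * b ≤ p ^ (2 * n + 2) := by
      calc b * b ≤ b * c := Nat.mul_le_mul_left _ hle1
        _ = d * (r * c) := by rw [← h3]; ring
        _ = d * p ^ (2 * n + 1) := by rw [h2, hn]
        _ ≤ p * p ^ (2 * n + 1) := Nat.mul_le_mul_right _ hle2
        _ = p ^ (2 * n + 2) := by ring
    have h5 : p ^ (4 * n) ≤ p ^ (2 * n + 2) := by
      calc p ^ (4 * n) = p ^ (2 * n) * p ^ (2 * n) := by ring
        _ ≤ b * b := Nat.mul_le_mul hBlow hBlow
        _ ≤ _ := h4
    have h6 := (Nat.pow_le_pow_iff_right hp.one_lt).mp h5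
    have hn' : n = 1 := by omega
    rw [hcardS, hn']
  · intro h4
    have hn' : n = 1 := by
      rw [hcardS] at h4
      have := Nat.pow_right_injective hp.two_le h4
      omega
    subst hn'
    have hQ3 : Nat.card Q = p ^ 3 := by rw [hn]
    obtain ⟨V, hVn, hVQ, hVc⟩ := Cfsg.Agent.Helper9.exists_normal_le_card_eq hS Q 2
      (by rw [hQ3]; exact Nat.pow_le_pow_right hp.pos (by omega))
    have hVne : V ≠ ⊥ := by
      intro h
      rw [h, Subgroup.card_bot] at hVc
      have := Nat.one_lt_pow (n := 2) (by omega) hp.one_lt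
      omega
    have hVcomm : ∀ x ∈ V, ∀ y ∈ V, x * y = y * x := by
      intro x hx y hy
      have := (IsPGroup.isMulCommutative_of_card_eq_prime_sq hVc).is_comm.comm ⟨x, hx⟩ ⟨y, hy⟩
      exact congrArg Subtype.val this
    have hnil : Group.IsNilpotent S := hS.isNilpotent
    have hne : ⁅(⊤ : Subgroup S), V⁆ ≠ V := by
      rw [Subgroup.commutator_comm]
      exact commutator_top_ne_self V hVne
    have hle : ⁅(⊤ : Subgroup S), V⁆ ≤ V := Subgroup.commutator_le_right ⊤ V
    have hcard : Nat.card ↥⁅(⊤ : Subgroup S), V⁆ ≤ p := by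
      have h1 := Subgroup.card_dvd_of_le hle
      rw [hVc] at h1
      obtain ⟨k, hk2, hk⟩ := (Nat.dvd_prime_pow hp).mp h1
      have hk' : k ≠ 2 := by
        intro h
        apply hne
        apply Subgroup.eq_of_le_of_card_ge hle
        rw [hk, hVc, h]
      rw [hk]
      calc p ^ k ≤ p ^ 1 := Nat.pow_le_pow_right hp.pos (by omega)
        _ = p := pow_one p
    have key := Cfsg.Agent.S3741.result hS ⊤ V (le_inf le_top hle) hcard
    rw [top_inf_eq, Subgroup.relIndex_top_right] at key
    have h5 := Cfsg.Agent.Helper17.relIndex_mul_card_inf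
      (V ⊓ Subgroup.centralizer ((⊤ : Subgroup S) : Set S)) V
    rw [← key, hVc] at h5
    have hZV : (V ⊓ Subgroup.centralizer ((⊤ : Subgroup S) : Set S) ⊓ V : Subgroup S) ≠ ⊥ := by
      obtain ⟨z, hzV, hz1, hzc⟩ := Cfsg.Agent.Helper10.exists_ne_one_mem_inf_center hS V hVne
      intro h
      apply hz1
      rw [← Subgroup.mem_bot, ← h]
      refine Subgroup.mem_inf.mpr ⟨Subgroup.mem_inf.mpr ⟨hzV, ?_⟩, hzV⟩
      rw [Subgroup.coe_top, Subgroup.centralizer_univ]
      exact hzc
    have hZVcard : p ≤ Nat.card (V ⊓ Subgroup.centralizer ((⊤ : Subgroup S) : Set S) ⊓ V : Subgroup S) := by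
      obtain ⟨k, hk⟩ := (hS.to_subgroup
        (V ⊓ Subgroup.centralizer ((⊤ : Subgroup S) : Set S) ⊓ V)).exists_card_eq
      rw [hk]
      rcases k with _ | k
      · exfalso
        rw [pow_zero] at hk
        exact hZV (Subgroup.card_eq_one.mp hk)
      · calc p = p ^ 1 := (pow_one p).symm
          _ ≤ p ^ (k + 1) := Nat.pow_le_pow_right hp.pos (by omega)
    have hidx_le : (Subgroup.centralizer (V : Set S)).index ≤ p := by
      by_contra hcon
      push Not at hcon
      have : p * p < (Subgroup.centralizer (V : Set S)).index *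
          Nat.card (V ⊓ Subgroup.centralizer ((⊤ : Subgroup S) : Set S) ⊓ V : Subgroup S) :=
        Nat.mul_lt_mul_of_lt_of_le hcon hZVcard Nat.card_pos
      rw [h5] at this
      nlinarith
    have hidx_ne : (Subgroup.centralizer (V : Set S)).index ≠ 1 := by
      intro h
      have htop := Subgroup.index_eq_one.mp h
      have hVZ : V ≤ Z := by
        rw [← hZdef]
        refine le_inf ?_ hVQ
        intro v hv q _
        have : q ∈ Subgroup.centralizer (V : Set S) := by rw [htop]; exact Subgroup.mem_top q
        exact (this v hv).symm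
      have := Subgroup.card_le_of_le hVZ
      rw [hVc, hZcard] at this
      have h2 := hp.one_lt
      nlinarith
    have hidx : (Subgroup.centralizer (V : Set S)).index = p := by
      obtain ⟨k, hk⟩ := hS.index (Subgroup.centralizer (V : Set S))
      rw [hk] at hidx_le hidx_ne ⊢
      rcases k with _ | k
      · simp at hidx_ne
      · rcases k with _ | k
        · simp
        · exfalso
          have : p * p ≤ p ^ (k + 1 + 1) := by
            calc p * p = p ^ 2 := (sq p).symm
              _ ≤ p ^ (k + 1 + 1) := Nat.pow_le_pow_right hp.pos (by omega)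
          have h2 := hp.two_le
          nlinarith
    have hCcard : Nat.card (Subgroup.centralizer (V : Set S)) = p ^ 3 := by
      have h1 := Subgroup.card_mul_index (Subgroup.centralizer (V : Set S))
      rw [hidx, h4] at h1
      have h2 : Nat.card (Subgroup.centralizer (V : Set S)) * p = p ^ 3 * p := by rw [h1]; ring
      exact Nat.eq_of_mul_eq_mul_right hp.pos h2
    have hVC : V ≤ Subgroup.centralizer (V : Set S) := fun x hx y hy => hVcomm y hy x hx
    have hVltC : V < Subgroup.centralizer (V : Set S) := by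
      refine lt_of_le_of_ne hVC ?_
      intro h
      rw [← h, hVc] at hCcard
      have := Nat.pow_right_injective hp.two_le hCcard
      omega
    obtain ⟨a, haC, haV⟩ := SetLike.exists_of_lt hVltC
    refine ⟨Subgroup.closure ((V : Set S) ∪ {a}), ?_, ?_⟩
    · apply Subgroup.isMulCommutative_closure
      rintro x (hx | hx) y (hy | hy)
      · exact hVcomm x hx y hy
      · rw [Set.mem_singleton_iff] at hy
        subst hy
        exact haC x hx
      · rw [Set.mem_singleton_iff] at hx
        subst hx
        exact (haC y hy).symm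
      · rw [Set.mem_singleton_iff] at hx hy
        rw [hx, hy]
    · have hVA : V ≤ Subgroup.closure ((V : Set S) ∪ {a}) := by
        intro v hv
        exact Subgroup.subset_closure (Or.inl hv)
      have haA : a ∈ Subgroup.closure ((V : Set S) ∪ {a}) :=
        Subgroup.subset_closure (Or.inr rfl)
      have hAC : Subgroup.closure ((V : Set S) ∪ {a}) ≤ Subgroup.centralizer (V : Set S) := by
        rw [Subgroup.closure_le]
        rintro x (hx | hx)
        · exact hVC hx
        · rw [Set.mem_singleton_iff] at hx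
          rw [hx]
          exact haC
      generalize Subgroup.closure ((V : Set S) ∪ {a}) = A at hVA haA hAC
      have h1 := Subgroup.card_dvd_of_le hAC
      rw [hCcard] at h1
      obtain ⟨k, hk3, hk⟩ := (Nat.dvd_prime_pow hp).mp h1
      have h2 := Subgroup.card_dvd_of_le hVA
      rw [hVc, hk] at h2
      have hk2 : 2 ≤ k := (Nat.pow_dvd_pow_iff_le_right hp.one_lt).mp h2
      have hkne : k ≠ 2 := by
        intro h
        apply haV
        have : A = V := by
          symm
          apply Subgroup.eq_of_le_of_card_ge hVA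
          rw [hk, hVc, h]
        rw [← this]
        exact haA
      have hk3' : k = 3 := by omega
      rw [hk3'] at hk
      have h3 := Subgroup.card_mul_index A
      rw [hk, h4] at h3
      have h5 : p ^ 3 * A.index = p ^ 3 * p := by rw [h3]; ring
      exact Nat.eq_of_mul_eq_mul_left (pos_of_ne_zero (pow_ne_zero _ hp.ne_zero)) h5

end Cfsg.Agent.S3810
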