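import Cfsg.Statements.S3811
import Mathlib
import Cfsg.Agent.Helper1.Soft5

set_option autoImplicit false
open Cfsg

namespace Cfsg.Agent.S3811

/-- Let P be a finite p-group and E an abelian subgroup of P that contains its centralizer, has index p in its normalizer, and has index at least p² in P. Then the subgroups of P containing E are totally ordered by inclusion, each proper one has index p in its normalizer (so they form the normalizer tower of E, with all steps of index p), and the i-th member of the tower above E has nilpotency class i + 1 whenever it is a proper subgroup of P. -/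
theorem result {P : Type*} [Group P] [Finite P] (p : ℕ) [Fact p.Prime] (hP : IsPGroup p P)
    (E : Subgroup P) (hEab : IsMulCommutative ↥E) (hC : Subgroup.centralizer (E : Set P) ≤ E)
    (hN : (E.subgroupOf (Subgroup.normalizer (E : Set P))).index = p) (hidx : p ^ 2 ≤ E.index) :
    (∀ K L : Subgroup P, E ≤ K → E ≤ L → K ≤ L ∨ L ≤ K) ∧
      (∀ K : Subgroup P, E ≤ K → K ≠ ⊤ → (K.subgroupOf (Subgroup.normalizer (K : Set P))).index = p) ∧
      ∀ (i : ℕ) (K : Subgroup P) [Group.IsNilpotent ↥K], E ≤ K → K ≠ ⊤ → K.index * p ^ i = E.index →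
        Group.nilpotencyClass ↥K = i + 1 := by
  classical
  have hsoft : Cfsg.Agent.Helper1.Soft.IsSoft p E := by
    refine ⟨?_, hC, ?_, ?_⟩
    · intro a ha b hb
      have := hEab.is_comm.comm (⟨a, ha⟩ : E) ⟨b, hb⟩
      exact congrArg Subtype.val this
    · have h1 := Subgroup.relIndex_mul_index (Subgroup.le_normalizer (H := E))
      have h2 : E.relIndex (Subgroup.normalizer (E : Set P)) = p := hN
      rw [h2] at h1
      exact h1.symm
    · obtain ⟨n, hn⟩ := hP.index E
      rw [hn] at hidx ⊢
      have h2 : 2 ≤ n := by
        by_contra hlt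
        push Not at hlt
        have hp2 := (Fact.out : p.Prime).two_le
        have : p ^ n < p ^ 2 := Nat.pow_lt_pow_right (Fact.out : p.Prime).one_lt hlt
        omega
      exact pow_dvd_pow p h2
  obtain ⟨⟨hB, hCc⟩, hchain⟩ := Cfsg.Agent.Helper1.Soft.soft_main hP hsoft
  refine ⟨hchain, ?_, ?_⟩
  · intro K hK hne
    have h1 := hB K hK hne
    have h2 := Subgroup.relIndex_mul_index (Subgroup.le_normalizer (H := K))
    rw [h1] at h2
    have hpos : 0 < (Subgroup.normalizer (K : Set P)).index :=
      Nat.pos_of_ne_zero (Subgroup.index_ne_zero_of_finite)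
    exact Nat.eq_of_mul_eq_mul_right hpos h2
  · intro i K _ hK hne hi
    exact hCc i K hK hne hi

end Cfsg.Agent.S3811
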