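import Mathlib
import Cfsg.Statements.S3815
import Cfsg.Agent.Helper19.Basic

set_option autoImplicit false
open Cfsg

namespace Cfsg.Agent.S3815

/-- The set of elements `d` such that `d * g` is a `p'`-element for every `p'`-element `g`. -/
def goodSet (G : Type*) [Group G] (p : ℕ) : Set G :=
  {d | ∀ g : G, (orderOf g).Coprime p → (orderOf (d * g)).Coprime p}

lemma one_mem_goodSet (G : Type*) [Group G] (p : ℕ) : (1 : G) ∈ goodSet G p := by
  intro g hg; simpa using hg

lemma mul_mem_goodSet {G : Type*} [Group G] {p : ℕ} {a b : G} (ha : a ∈ goodSet G p)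
    (hb : b ∈ goodSet G p) : a * b ∈ goodSet G p := by
  intro g hg
  rw [mul_assoc]
  exact ha _ (hb g hg)

lemma pow_mem_goodSet {G : Type*} [Group G] {p : ℕ} {a : G} (ha : a ∈ goodSet G p) (n : ℕ) :
    a ^ n ∈ goodSet G p := by
  induction n with
  | zero => simpa using one_mem_goodSet G p
  | succ n ih => rw [pow_succ]; exact mul_mem_goodSet ih ha

lemma inv_mem_goodSet {G : Type*} [Group G] [Finite G] {p : ℕ} {a : G} (ha : a ∈ goodSet G p) :
    a⁻¹ ∈ goodSet G p := by
  have h1 : a⁻¹ = a ^ (orderOf a - 1) := by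
    have hpos : 0 < orderOf a := orderOf_pos a
    rw [inv_eq_iff_mul_eq_one, ← pow_succ']
    have : orderOf a - 1 + 1 = orderOf a := by omega
    rw [this, pow_orderOf_eq_one]
  rw [h1]
  exact pow_mem_goodSet ha _

lemma conj_mem_goodSet {G : Type*} [Group G] {p : ℕ} {a : G} (ha : a ∈ goodSet G p) (x : G) :
    x * a * x⁻¹ ∈ goodSet G p := by
  intro g hg
  have h1 : x * a * x⁻¹ * g = x * (a * (x⁻¹ * g * x)) * x⁻¹ := by group
  rw [h1]
  have h2 : orderOf (x * (a * (x⁻¹ * g * x)) * x⁻¹) = orderOf (a * (x⁻¹ * g * x)) :=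
    Helper19.orderOf_conj' x (a * (x⁻¹ * g * x))
  rw [h2]
  apply ha
  have h3 : orderOf (x⁻¹ * g * x) = orderOf g :=
    Helper19.orderOf_conj_inv' x g
  rw [h3]; exact hg

/-- The good set as a subgroup. -/
def goodSubgroup (G : Type*) [Group G] [Finite G] (p : ℕ) : Subgroup G where
  carrier := goodSet G p
  one_mem' := one_mem_goodSet G p
  mul_mem' := mul_mem_goodSet
  inv_mem' := inv_mem_goodSet

lemma goodSubgroup_normal (G : Type*) [Group G] [Finite G] (p : ℕ) : (goodSubgroup G p).Normal :=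
  ⟨fun _ ha x => conj_mem_goodSet ha x⟩

lemma goodSubgroup_card_coprime (G : Type*) [Group G] [Finite G] (p : ℕ) [hp : Fact p.Prime] :
    (Nat.card (goodSubgroup G p)).Coprime p := by
  rw [Nat.coprime_comm, Nat.Prime.coprime_iff_not_dvd hp.out]
  intro hdvd
  obtain ⟨x, hx⟩ := exists_prime_orderOf_dvd_card' p hdvd
  have hxm : (x : G) ∈ goodSet G p := x.2
  have h1 := hxm 1 (by simp)
  rw [mul_one, Subgroup.orderOf_coe, hx] at h1
  exact hp.out.ne_one ((Nat.coprime_self p).mp h1)

theorem result {G : Type*} [Group G] [Finite G] {p : ℕ} [Fact p.Prime]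
    (d : G) (hd : (orderOf d).Coprime p)
    (h : ∀ g : G, (orderOf g).Coprime p → (orderOf (d * g)).Coprime p) :
    d ∈ Cfsg.pPrimeCore p G := by
  have _ := hd
  have hle : goodSubgroup G p ≤ Cfsg.pPrimeCore p G :=
    le_sSup ⟨goodSubgroup_normal G p, goodSubgroup_card_coprime G p⟩
  exact hle h

end Cfsg.Agent.S3815
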