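import Cfsg.Statements.S3818
import Cfsg.Agent.Helper26.S3818Asm

set_option autoImplicit false
open Cfsg


namespace Cfsg.Agent.S3818

theorem result {G : Type*} [Group G] [Finite G] [Group.IsSolvable G]
    {p : ℕ} [Fact p.Prime] (hp : 3 < p) (P : Subgroup G) (hP : Nat.card P = p) (hgen : Subgroup.normalClosure (P : Set G) = ⊤)
    {k : Type*} [Field k] (ℓ : ℕ) [Fact ℓ.Prime] [CharP k ℓ]
    {V : Type*} [AddCommGroup V] [Module k V] [FiniteDimensional k V]
    (ρ : Representation k G V) [ρ.IsIrreducible] (hfaith : Function.Injective ρ) :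
    2 * Module.finrank k ↥(⨅ g : ↥P, LinearMap.ker (ρ (g : G) - LinearMap.id)) < Module.finrank k V := by
  have hpp : p.Prime := Fact.out
  -- a generator of P
  haveI : Fact (Nat.card P).Prime := ⟨hP ▸ hpp⟩
  obtain ⟨g, hg⟩ := (isCyclic_of_prime_card (α := P) (p := Nat.card P) rfl).exists_generator
  have hg1 : g ≠ 1 := by
    rintro rfl
    have : ∀ y : P, y = 1 := fun y => by
      have := hg y
      simpa using this
    have hc : Nat.card P = 1 := by
      rw [Nat.card_eq_one_iff_unique]
      exact ⟨⟨fun a b => (this a).trans (this b).symm⟩, ⟨1⟩⟩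
    rw [hP] at hc
    exact hpp.one_lt.ne' hc
  set x : G := (g : G) with hxdef
  have hxp : x ^ p = 1 := by
    have : g ^ p = 1 := by
      rw [← hP]; exact pow_card_eq_one'
    have := congrArg (Subtype.val) this
    simpa using this
  have hx1 : x ≠ 1 := by
    intro h
    apply hg1
    exact Subtype.ext h
  have hPx : (P : Set G) = (Subgroup.zpowers x : Set G) := by
    ext y
    constructor
    · intro hy
      obtain ⟨n, hn⟩ := Subgroup.mem_zpowers_iff.mp (hg ⟨y, hy⟩)
      refine Subgroup.mem_zpowers_iff.mpr ⟨n, ?_⟩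
      have := congrArg Subtype.val hn
      simpa using this
    · intro hy
      obtain ⟨n, hn⟩ := Subgroup.mem_zpowers_iff.mp hy
      rw [← hn]
      exact P.zpow_mem g.2 n
  have hgen' : Subgroup.normalClosure ({x} : Set G) = ⊤ := by
    rw [← hgen, hPx]
    apply le_antisymm
    · exact Subgroup.normalClosure_mono (by
        intro y hy; rw [Set.mem_singleton_iff] at hy; rw [hy]; exact Subgroup.mem_zpowers x)
    · apply Subgroup.normalClosure_le_normal
      intro y hy
      obtain ⟨n, hn⟩ := Subgroup.mem_zpowers_iff.mp hy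
      rw [← hn]
      exact Subgroup.zpow_mem _ (Subgroup.subset_normalClosure (Set.mem_singleton x)) n
  have hρx : ρ x ≠ 1 := by
    intro h
    apply hx1
    apply hfaith
    rw [h, map_one]
  have key := Cfsg.Agent.S3818P.flavellA hpp hp x hxp hgen' ρ hρx
  unfold Cfsg.Agent.S3818P.Bound at key
  refine lt_of_le_of_lt (Nat.mul_le_mul_left 2 ?_) key
  apply Submodule.finrank_mono
  exact iInf_le (fun g : ↥P => LinearMap.ker (ρ (g : G) - LinearMap.id)) g

end Cfsg.Agent.S3818
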