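import Cfsg.Statements.S3819
import Cfsg.Agent.Helper1.CoreCtl3

set_option autoImplicit false
open Cfsg

namespace Cfsg.Agent.S3819

/-- Let G be a finite group with Sylow p-subgroup P and H = O_{p'}(G), and suppose G = PH and the commutator subgroup [H, P] is solvable. Let q be a prime and z an element of q-power order of C_H(P). Then (O_{q'}(C_H(z)) ∩ O_{q'}(C_H(P))) · [O_{q'}(C_H(z)), P] ≤ O_{q'}(H). -/
theorem result {G : Type*} [Group G] [Finite G] {p : ℕ} [Fact p.Prime]
    (P : Sylow p G) (hPH : Cfsg.pPrimeCore p G ⊔ (P : Subgroup G) = ⊤)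
    (hsol : Group.IsSolvable ↥⁅Cfsg.pPrimeCore p G, (P : Subgroup G)⁆)
    {q : ℕ} [Fact q.Prime] (z : G) (hzH : z ∈ Cfsg.pPrimeCore p G) (hzP : z ∈ Subgroup.centralizer ((P : Subgroup G) : Set G))
    (hz : ∃ k : ℕ, orderOf z = q ^ k) :
    ((Cfsg.pPrimeCore q ↥(Cfsg.pPrimeCore p G ⊓ Subgroup.centralizer ({z} : Set G))).map
        (Cfsg.pPrimeCore p G ⊓ Subgroup.centralizer ({z} : Set G)).subtype ⊓
      (Cfsg.pPrimeCore q ↥(Cfsg.pPrimeCore p G ⊓ Subgroup.centralizer ((P : Subgroup G) : Set G))).map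
        (Cfsg.pPrimeCore p G ⊓ Subgroup.centralizer ((P : Subgroup G) : Set G)).subtype) ⊔
    ⁅(Cfsg.pPrimeCore q ↥(Cfsg.pPrimeCore p G ⊓ Subgroup.centralizer ({z} : Set G))).map
        (Cfsg.pPrimeCore p G ⊓ Subgroup.centralizer ({z} : Set G)).subtype, (P : Subgroup G)⁆ ≤
    (Cfsg.pPrimeCore q ↥(Cfsg.pPrimeCore p G)).map (Cfsg.pPrimeCore p G).subtype := by
  classical
  open Cfsg.Agent.Helper1.CoreCtl in
  have hHn : (Cfsg.pPrimeCore p G).Normal := inferInstance
  have hHc : (Nat.card (Cfsg.pPrimeCore p G)).Coprime p := Cfsg.Agent.Helper19.pPrimeCore_coprime p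
  have hPp : IsPGroup p (P : Subgroup G) := P.isPGroup'
  have hcop : (Nat.card (P : Subgroup G)).Coprime (Nat.card (Cfsg.pPrimeCore p G)) := by
    obtain ⟨n, hn⟩ := hPp.exists_card_eq
    rw [hn]; exact Nat.Coprime.pow_left n hHc.symm
  have hPs : Group.IsSolvable (P : Subgroup G) := by
    have : Group.IsNilpotent (P : Subgroup G) := hPp.isNilpotent
    infer_instance
  have hzq : IsPGroup q (Subgroup.zpowers z) := by
    obtain ⟨k, hk⟩ := hz
    exact IsPGroup.of_card (n := k) (by rw [Nat.card_zpowers, hk])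
  have hPN : ∀ A : Subgroup G, (P : Subgroup G) ≤ Subgroup.normalizer (A : Set G) →
      (P : Subgroup G) ≤ Subgroup.normalizer
        ((Cfsg.pPrimeCore p G ⊓ A : Subgroup G) : Set G) := by
    intro A hA a ha
    have h1 := hA ha
    rw [Subgroup.mem_normalizer_iff] at h1 ⊢
    intro g
    constructor
    · rintro ⟨a1, a2⟩
      exact ⟨hHn.conj_mem _ a1 a, (h1 g).1 a2⟩
    · rintro ⟨a1, a2⟩
      refine ⟨?_, (h1 g).2 a2⟩
      have := hHn.conj_mem _ a1 a⁻¹
      have e : a⁻¹ * (a * g * a⁻¹) * a⁻¹⁻¹ = g := by group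
      rwa [e] at this
  have hPz : (P : Subgroup G) ≤ Subgroup.normalizer
      ((Subgroup.centralizer ({z} : Set G) : Subgroup G) : Set G) := by
    intro a ha
    have hza : a * z = z * a := (Subgroup.mem_centralizer_iff.1 hzP a ha)
    rw [Subgroup.mem_normalizer_iff]
    intro g
    rw [Subgroup.mem_centralizer_iff, Subgroup.mem_centralizer_iff]
    constructor
    · intro h y hy
      rw [Set.mem_singleton_iff] at hy
      have h0 := h z (Set.mem_singleton z)
      rw [hy]
      have hza' : a⁻¹ * z = z * a⁻¹ := by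
        have : a⁻¹ * (a * z) * a⁻¹ = a⁻¹ * (z * a) * a⁻¹ := by rw [hza]
        have e1 : a⁻¹ * (a * z) * a⁻¹ = z * a⁻¹ := by group
        have e2 : a⁻¹ * (z * a) * a⁻¹ = a⁻¹ * z := by group
        rw [e1, e2] at this; exact this.symm
      calc z * (a * g * a⁻¹) = (z * a) * g * a⁻¹ := by group
        _ = a * (z * g) * a⁻¹ := by rw [← hza]; group
        _ = a * (g * z) * a⁻¹ := by rw [h0]
        _ = a * g * (z * a⁻¹) := by group
        _ = a * g * a⁻¹ * z := by rw [← hza']; group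
    · intro h y hy
      rw [Set.mem_singleton_iff] at hy
      have h0 := h z (Set.mem_singleton z)
      rw [hy]
      have hza' : a⁻¹ * z = z * a⁻¹ := by
        have : a⁻¹ * (a * z) * a⁻¹ = a⁻¹ * (z * a) * a⁻¹ := by rw [hza]
        have e1 : a⁻¹ * (a * z) * a⁻¹ = z * a⁻¹ := by group
        have e2 : a⁻¹ * (z * a) * a⁻¹ = a⁻¹ * z := by group
        rw [e1, e2] at this; exact this.symm
      calc z * g = a⁻¹ * (a * z) * g := by group
        _ = a⁻¹ * (z * (a * g * a⁻¹)) * a := by rw [hza]; group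
        _ = a⁻¹ * (a * g * a⁻¹ * z) * a := by rw [h0]
        _ = g * (a⁻¹ * z) * a := by group
        _ = g * z := by rw [hza']; group
  have hmain := main (q := q) (Cfsg.pPrimeCore p G) (P : Subgroup G) hHn hPH hcop hPs hsol z hzH hzP hzq
    (oq q (Cfsg.pPrimeCore p G ⊓ Subgroup.centralizer ({z} : Set G)))
    (oq q (Cfsg.pPrimeCore p G ⊓ Subgroup.centralizer ((P : Subgroup G) : Set G)))
    (oq_le q _) (le_normalizer_oq q _) (card_oq_coprime q _)
    (le_normalizer_oq_of_le_normalizer (hPN _ hPz))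
    (oq_le q _) (le_normalizer_oq q _) (card_oq_coprime q _)
  exact sup_le hmain.2 hmain.1

end Cfsg.Agent.S3819
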