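import Mathlib
import Cfsg.Statements.S3820
import Cfsg.Agent.Helper19.Basic

set_option autoImplicit false
open Cfsg

namespace Cfsg.Agent.S3820

open Cfsg.Agent.Helper19

theorem result {G : Type*} [Group G] [Finite G] (S H : Subgroup G) (hSH : S ≤ H)
    (hS : Cfsg.IsPronormal S) :
    Cfsg.IsPronormal H ↔
      ∀ g ∈ Subgroup.normalizer (S : Set G), ∃ w ∈ H ⊔ H.map (MulAut.conj g).toMonoidHom,
        H.map (MulAut.conj g).toMonoidHom = H.map (MulAut.conj w).toMonoidHom := by
  constructor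
  · intro h g _
    exact h g
  · intro h g
    obtain ⟨x, hx, hSx⟩ := hS g
    set J := H ⊔ H.map (MulAut.conj g).toMonoidHom with hJ
    -- x lies in J
    have hxJ : x ∈ J := by
      have hle : S ⊔ S.map (MulAut.conj g).toMonoidHom ≤ J :=
        sup_le_sup hSH (Subgroup.map_mono hSH)
      exact hle hx
    -- n = x⁻¹ g normalizes S
    have hn : x⁻¹ * g ∈ Subgroup.normalizer (S : Set G) := by
      rw [mem_normalizer_iff_map_conj, ← map_conj_map_conj, hSx, map_conj_map_conj,
        inv_mul_cancel, map_conj_one]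
    obtain ⟨w, hw, hHw⟩ := h _ hn
    refine ⟨x * w, ?_, ?_⟩
    · apply J.mul_mem hxJ
      have hle : H ⊔ H.map (MulAut.conj (x⁻¹ * g)).toMonoidHom ≤ J := by
        apply sup_le le_sup_left
        intro y hy
        rw [mem_map_conj] at hy
        -- y = x⁻¹ (g h g⁻¹) x
        have h1 : g * ((x⁻¹ * g)⁻¹ * y * (x⁻¹ * g)) * g⁻¹ ∈ J :=
          (le_sup_right : H.map (MulAut.conj g).toMonoidHom ≤ J) (conj_mem_map_conj g hy)
        have h2 : y = x⁻¹ * (g * ((x⁻¹ * g)⁻¹ * y * (x⁻¹ * g)) * g⁻¹) * x := by group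
        rw [h2]
        exact J.mul_mem (J.mul_mem (J.inv_mem hxJ) h1) hxJ
      exact hle hw
    · have : g = x * (x⁻¹ * g) := by group
      nth_rewrite 1 [this]
      rw [← map_conj_map_conj, hHw, map_conj_map_conj]

end Cfsg.Agent.S3820
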