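import Mathlib
import Cfsg.Statements.S3821
import Cfsg.Agent.Helper19.Basic

set_option autoImplicit false
open Cfsg

namespace Cfsg.Agent.S3821

open Cfsg.Agent.Helper19

section
variable {G : Type*} [Group G] (A H : Subgroup G)

lemma map_subtype_conj (hHA : H ≤ A) (a : A) :
    ((H.subgroupOf A).map (MulAut.conj a).toMonoidHom).map A.subtype =
      H.map (MulAut.conj (a : G)).toMonoidHom := by
  ext y
  constructor
  · rintro ⟨z, hz, rfl⟩
    rw [SetLike.mem_coe, mem_map_conj] at hz
    rw [mem_map_conj]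
    exact Subgroup.mem_subgroupOf.mp hz
  · intro hy
    rw [mem_map_conj] at hy
    have hyA : y ∈ A := by
      have h1 : (a : G)⁻¹ * y * a ∈ A := hHA hy
      have h2 : y = a * ((a : G)⁻¹ * y * a) * (a : G)⁻¹ := by group
      rw [h2]
      exact A.mul_mem (A.mul_mem a.2 h1) (A.inv_mem a.2)
    refine ⟨⟨y, hyA⟩, ?_, rfl⟩
    rw [SetLike.mem_coe, mem_map_conj, Subgroup.mem_subgroupOf]
    exact hy

lemma map_subtype_sup (hHA : H ≤ A) (a : A) :
    (H.subgroupOf A ⊔ (H.subgroupOf A).map (MulAut.conj a).toMonoidHom).map A.subtype =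
      H ⊔ H.map (MulAut.conj (a : G)).toMonoidHom := by
  rw [Subgroup.map_sup, map_subtype_conj A H hHA, Subgroup.map_subgroupOf_eq_of_le hHA]

lemma mem_iff_coe_mem_map (K : Subgroup A) (x : A) : x ∈ K ↔ (x : G) ∈ K.map A.subtype := by
  constructor
  · intro h; exact ⟨x, h, rfl⟩
  · rintro ⟨y, hy, hyx⟩
    have : y = x := Subtype.ext hyx
    rw [← this]; exact hy

end

theorem result {G : Type*} [Group G] [Finite G] (A H : Subgroup G) [A.Normal] (hHA : H ≤ A) :
    Cfsg.IsPronormal H ↔ (Cfsg.IsPronormal (H.subgroupOf A) ∧ A ⊔ Subgroup.normalizer (H : Set G) = ⊤) := by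
  have hconjA : ∀ g : G, H.map (MulAut.conj g).toMonoidHom ≤ A := by
    intro g y hy
    rw [mem_map_conj] at hy
    have h1 : g⁻¹ * y * g ∈ A := hHA hy
    have h2 : y = g * (g⁻¹ * y * g) * g⁻¹ := by group
    rw [h2]
    exact Subgroup.Normal.conj_mem inferInstance _ h1 g
  constructor
  · intro hP
    constructor
    · intro a
      obtain ⟨x, hx, hHx⟩ := hP (a : G)
      have hxA : x ∈ A := (sup_le hHA (hconjA a)) hx
      refine ⟨⟨x, hxA⟩, ?_, ?_⟩
      · rw [mem_iff_coe_mem_map, map_subtype_sup A H hHA]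
        exact hx
      · apply Subgroup.map_injective A.subtype_injective
        rw [map_subtype_conj A H hHA, map_subtype_conj A H hHA]
        exact hHx
    · rw [eq_top_iff]
      intro g _
      obtain ⟨x, hx, hHx⟩ := hP g
      have hxA : x ∈ A := (sup_le hHA (hconjA g)) hx
      have hn : x⁻¹ * g ∈ Subgroup.normalizer (H : Set G) := by
        rw [mem_normalizer_iff_map_conj, ← map_conj_map_conj, hHx, map_conj_map_conj,
          inv_mul_cancel, map_conj_one]
      have : g = x * (x⁻¹ * g) := by group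
      rw [this]
      exact Subgroup.mul_mem_sup hxA hn
  · rintro ⟨hPA, hAN⟩ g
    have hg : g ∈ A ⊔ Subgroup.normalizer (H : Set G) := by rw [hAN]; trivial
    rw [Subgroup.mem_sup_of_normal_left] at hg
    obtain ⟨a, ha, n, hn, rfl⟩ := hg
    have hHn : H.map (MulAut.conj (a * n)).toMonoidHom = H.map (MulAut.conj a).toMonoidHom := by
      rw [← map_conj_map_conj, mem_normalizer_iff_map_conj.mp hn]
    rw [hHn]
    obtain ⟨x, hx, hHx⟩ := hPA ⟨a, ha⟩
    refine ⟨x, ?_, ?_⟩
    · rw [mem_iff_coe_mem_map, map_subtype_sup A H hHA] at hx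
      exact hx
    · have := congrArg (Subgroup.map A.subtype) hHx
      rw [map_subtype_conj A H hHA, map_subtype_conj A H hHA] at this
      exact this

end Cfsg.Agent.S3821
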