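import Mathlib
import Cfsg.Statements.S3824
import Cfsg.Agent.Helper24.Burnside

set_option autoImplicit false
open Cfsg

namespace Cfsg.Agent.S3824

universe u

/-- For `N` normal, `|N : A ∩ N| = |AN : A|`. -/
lemma relIndex_eq_relIndex_sup {G : Type*} [Group G] [Finite G] (A N : Subgroup G) [N.Normal] :
    A.relIndex N = A.relIndex (A ⊔ N) := by
  have h1 : N.relIndex (A ⊔ N) = N.relIndex A := Subgroup.relIndex_sup_right A N
  have h2 : Nat.card N * N.relIndex (A ⊔ N) = Nat.card (A ⊔ N : Subgroup G) := by
    have := Subgroup.relIndex_mul_relIndex ⊥ N (A ⊔ N) bot_le le_sup_right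
    rwa [Subgroup.relIndex_bot_left, Subgroup.relIndex_bot_left] at this
  have h3 : Nat.card (A ⊓ N : Subgroup G) * N.relIndex A = Nat.card A := by
    have := Subgroup.relIndex_mul_relIndex ⊥ (A ⊓ N) A bot_le inf_le_left
    rwa [Subgroup.relIndex_bot_left, Subgroup.relIndex_bot_left, Subgroup.inf_relIndex_left] at this
  have h4 : Nat.card (A ⊓ N : Subgroup G) * A.relIndex N = Nat.card N := by
    have := Subgroup.relIndex_mul_relIndex ⊥ (A ⊓ N) N bot_le inf_le_right
    rwa [Subgroup.relIndex_bot_left, Subgroup.relIndex_bot_left, Subgroup.inf_relIndex_right] at this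
  have h5 : Nat.card A * A.relIndex (A ⊔ N) = Nat.card (A ⊔ N : Subgroup G) := by
    have := Subgroup.relIndex_mul_relIndex ⊥ A (A ⊔ N) bot_le le_sup_left
    rwa [Subgroup.relIndex_bot_left, Subgroup.relIndex_bot_left] at this
  have hpos : 0 < Nat.card A := Nat.card_pos
  have h6 : Nat.card A * A.relIndex N = Nat.card A * A.relIndex (A ⊔ N) := by
    rw [h5, ← h2, h1, ← h4, ← h3]; ring
  exact Nat.eq_of_mul_eq_mul_left hpos h6

lemma relIndex_normal_dvd_index {G : Type*} [Group G] [Finite G] (A N : Subgroup G) [N.Normal] :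
    A.relIndex N ∣ A.index := by
  rw [relIndex_eq_relIndex_sup]
  exact Subgroup.relIndex_dvd_index_of_le le_sup_left

theorem aux : ∀ n : ℕ, ∀ (G : Type u) [Group G] [Finite G], Nat.card G = n →
    (∃ A : Subgroup G, IsMulCommutative A ∧ ∃ k : ℕ, A.index = 2 ^ k) → Group.IsSolvable G := by
  intro n
  induction n using Nat.strong_induction_on with
  | _ n ih =>
    intro G _ _ hcard hA
    obtain ⟨A, hAab, k, hk⟩ := hA
    by_cases htriv : Subsingleton G
    · infer_instance
    rw [not_subsingleton_iff_nontrivial] at htriv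
    by_cases hsimple : IsSimpleGroup G
    · by_cases hA0 : A = ⊥
      · -- `G` is a 2-group
        have : Fact (Nat.Prime 2) := ⟨Nat.prime_two⟩
        have hG : IsPGroup 2 G := by
          apply IsPGroup.of_card (n := k)
          rw [← hk, hA0, Subgroup.index_bot]
        have := hG.isNilpotent
        infer_instance
      · obtain ⟨x, hx⟩ := (Subgroup.ne_bot_iff_exists_ne_one).mp hA0
        obtain ⟨g, hgA, hg1⟩ : ∃ g : G, g ∈ A ∧ g ≠ 1 :=
          ⟨(x : G), x.2, fun h => hx (Subtype.ext h)⟩
        have hle : A ≤ Subgroup.centralizer ({g} : Set G) := by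
          intro x hx
          rw [Subgroup.mem_centralizer_iff]
          intro y hy
          rw [Set.mem_singleton_iff] at hy
          subst hy
          have h1 : (⟨y, hgA⟩ : A) * ⟨x, hx⟩ = ⟨x, hx⟩ * ⟨y, hgA⟩ := hAab.is_comm.comm _ _
          exact congrArg Subtype.val h1
        have hdvd : (Subgroup.centralizer ({g} : Set G)).index ∣ 2 ^ k :=
          hk ▸ Subgroup.index_dvd_of_le hle
        obtain ⟨j, -, hj⟩ := (Nat.dvd_prime_pow Nat.prime_two).mp hdvd
        have hprime := Cfsg.Agent.Helper24.prime_card_of_prime_pow_class 2 j Nat.prime_two g hg1 hj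
        have : Fact (Nat.card G).Prime := ⟨hprime⟩
        have := isCyclic_of_prime_card (α := G) (p := Nat.card G) rfl
        exact Group.isSolvable_of_comm (isMulCommutative_iff.mp IsCyclic.isMulCommutative)
    · obtain ⟨N, hN, hNbot, hNtop⟩ := Cfsg.Agent.Helper24.exists_normal_of_not_simple hsimple
      have hmul : Nat.card N * N.index = n := by rw [← hcard]; exact Subgroup.card_mul_index N
      have hn0 : 0 < n := by rw [← hcard]; exact Nat.card_pos
      have hN1 : 1 < Nat.card N := by
        rw [Subgroup.one_lt_card_iff_ne_bot]; exact hNbot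
      have hN2 : 1 < N.index := by
        have h0 : N.index ≠ 0 := Subgroup.index_ne_zero_of_finite
        have h1 : N.index ≠ 1 := fun h => hNtop (Subgroup.index_eq_one.mp h)
        omega
      have hlt1 : Nat.card N < n := by
        rw [← hmul]
        have : 0 < Nat.card N := Nat.card_pos
        nlinarith
      have hlt2 : N.index < n := by
        rw [← hmul]
        have : 0 < N.index := by omega
        nlinarith
      have hsN : Group.IsSolvable N := by
        apply ih _ hlt1 N rfl
        refine ⟨A.subgroupOf N, inferInstance, ?_⟩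
        have h1 : (A.subgroupOf N).index ∣ 2 ^ k := hk ▸ relIndex_normal_dvd_index A N
        obtain ⟨j, -, hj⟩ := (Nat.dvd_prime_pow Nat.prime_two).mp h1
        exact ⟨j, hj⟩
      have hsQ : Group.IsSolvable (G ⧸ N) := by
        apply ih _ hlt2 (G ⧸ N) (Subgroup.index_eq_card N).symm
        refine ⟨A.map (QuotientGroup.mk' N), inferInstance, ?_⟩
        have h1 : (A.map (QuotientGroup.mk' N)).index ∣ 2 ^ k :=
          hk ▸ Subgroup.index_map_dvd A (QuotientGroup.mk'_surjective N)
        obtain ⟨j, -, hj⟩ := (Nat.dvd_prime_pow Nat.prime_two).mp h1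
        exact ⟨j, hj⟩
      refine Group.isSolvable_of_ker_le_range N.subtype (QuotientGroup.mk' N) ?_
      rw [QuotientGroup.ker_mk', Subgroup.range_subtype]

theorem result {G : Type*} [Group G] [Finite G]
    (A : Subgroup G) (hA : IsMulCommutative A) (hidx : ∃ k : ℕ, A.index = 2 ^ k) : Group.IsSolvable G := by
  exact aux _ G rfl ⟨A, hA, hidx⟩

end Cfsg.Agent.S3824
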