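import Mathlib
import Cfsg.Statements.S3825

set_option autoImplicit false
open Cfsg

namespace Cfsg.Agent.S3825

open scoped commutatorElement

/-- A subgroup contained in a cyclic subgroup is cyclic. -/
theorem isCyclic_of_le_zpowers {G : Type*} [Group G] (H : Subgroup G) (g : G)
    (h : H ≤ Subgroup.zpowers g) : IsCyclic ↥H := by
  have h1 : IsCyclic ↥(H.subgroupOf (Subgroup.zpowers g)) := inferInstance
  exact isCyclic_of_surjective (Subgroup.subgroupOfEquivOfLe h).toMonoidHom
    (Subgroup.subgroupOfEquivOfLe h).surjective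

/-- Conjugation by a normalizing element, as an endomorphism of the subgroup. -/
def conjHom {H : Type*} [Group H] (U : Subgroup H) (w : H)
    (hw : w ∈ Subgroup.normalizer (U : Set H)) : ↥U →* ↥U where
  toFun u := ⟨w * u * w⁻¹, (Subgroup.mem_normalizer_iff.mp hw u).mp u.2⟩
  map_one' := by ext; simp
  map_mul' a b := by ext; simp

/-- Let U be a subgroup of a finite group H and w an involution of H normalizing U and commuting with exactly two elements of U, the identity and y. If V is a non-cyclic elementary abelian 2-subgroup of U containing y which is normal in U and invariant under w, then V is a Sylow 2-subgroup of U, V has order 4, and U/V is abelian. -/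
theorem result {H : Type*} [Group H] [Finite H] (U : Subgroup H) (w : H) (hw : orderOf w = 2)
    (hwU : w ∈ Subgroup.normalizer (U : Set H)) (y : H) (hy : y ≠ 1) (hyU : y ∈ U)
    (hfix : ∀ u ∈ U, w * u * w⁻¹ = u ↔ (u = 1 ∨ u = y))
    (V : Subgroup H) (hVU : V ≤ U) (hVn : (V.subgroupOf U).Normal) (hVw : ∀ v ∈ V, w * v * w⁻¹ ∈ V)
    (hVe : Cfsg.IsElementaryAbelian 2 V) (hVc : ¬ IsCyclic ↥V) (hyV : y ∈ V) :
    ¬ 2 ∣ V.relIndex U ∧ Nat.card ↥V = 4 ∧ ⁅U, U⁆ ≤ V := by
  classical
  -- notation: c x = w x w⁻¹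
  have hww : w * w = 1 := by
    have := pow_orderOf_eq_one w
    rwa [hw, sq] at this
  have hwinv : w⁻¹ = w := inv_eq_of_mul_eq_one_right hww
  have hcc : ∀ x : H, w * (w * x * w⁻¹) * w⁻¹ = x := by
    intro x
    calc w * (w * x * w⁻¹) * w⁻¹ = (w * w) * x * (w * w)⁻¹ := by group
      _ = x := by rw [hww]; simp
  have hcmul : ∀ a b : H, w * (a * b) * w⁻¹ = (w * a * w⁻¹) * (w * b * w⁻¹) := by
    intro a b; group
  have hsq : ∀ v ∈ V, v * v = 1 := by
    intro v hv
    have := hVe.2 v hv
    rwa [sq] at this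
  have hVcomm : ∀ a ∈ V, ∀ b ∈ V, a * b = b * a := by
    intro a ha b hb
    have := hVe.1.is_comm.comm (⟨a, ha⟩ : V) ⟨b, hb⟩
    exact congrArg Subtype.val this
  -- an element of V outside {1, y}
  obtain ⟨v₀, hv₀V, hv₀1, hv₀y⟩ : ∃ v₀ ∈ V, v₀ ≠ 1 ∧ v₀ ≠ y := by
    by_contra hcon
    push Not at hcon
    apply hVc
    apply isCyclic_of_le_zpowers V y
    intro v hv
    by_cases h1 : v = 1
    · rw [h1]; exact Subgroup.one_mem _
    · rw [hcon v hv h1]; exact Subgroup.mem_zpowers y
  -- key: for v ∈ V outside {1,y}, v * c v = y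
  have hkey : ∀ v ∈ V, v ≠ 1 → v ≠ y → v * (w * v * w⁻¹) = y := by
    intro v hv h1 h2
    have hcv : w * v * w⁻¹ ∈ V := hVw v hv
    have ht : w * (v * (w * v * w⁻¹)) * w⁻¹ = v * (w * v * w⁻¹) := by
      rw [hcmul, hcc, hVcomm _ hcv _ hv]
    have htU : v * (w * v * w⁻¹) ∈ U := hVU (V.mul_mem hv hcv)
    rcases (hfix _ htU).mp ht with h | h
    · exfalso
      -- c v = v⁻¹ = v
      have h3 : w * v * w⁻¹ = v := by
        have : w * v * w⁻¹ = v⁻¹ := by
          have := eq_inv_of_mul_eq_one_right h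
          exact this
        rw [this]
        exact inv_eq_of_mul_eq_one_right (hsq v hv)
      rcases (hfix v (hVU hv)).mp h3 with h4 | h4
      · exact h1 h4
      · exact h2 h4
    · exact h
  have hyy : y * y = 1 := hsq y hyV
  have hinvV : ∀ v ∈ V, v⁻¹ = v := fun v hv => inv_eq_of_mul_eq_one_right (hsq v hv)
  -- c v = v * y for v outside {1,y}
  have hcv : ∀ v ∈ V, v ≠ 1 → v ≠ y → w * v * w⁻¹ = v * y := by
    intro v hv h1 h2
    have := hkey v hv h1 h2
    calc w * v * w⁻¹ = v⁻¹ * (v * (w * v * w⁻¹)) := by group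
      _ = v⁻¹ * y := by rw [this]
      _ = v * y := by rw [hinvV v hv]
  -- V ⊆ {1, y, v₀, v₀ * y}
  have hVsub : ∀ v ∈ V, v = 1 ∨ v = y ∨ v = v₀ ∨ v = v₀ * y := by
    intro v hv
    by_cases h1 : v = 1
    · exact Or.inl h1
    by_cases h2 : v = y
    · exact Or.inr (Or.inl h2)
    right; right
    have hs : w * (v * v₀) * w⁻¹ = v * v₀ := by
      rw [hcmul, hcv v hv h1 h2, hcv v₀ hv₀V hv₀1 hv₀y]
      calc v * y * (v₀ * y) = v * (y * v₀) * y := by group
        _ = v * (v₀ * y) * y := by rw [hVcomm y hyV v₀ hv₀V]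
        _ = v * v₀ * (y * y) := by group
        _ = v * v₀ := by rw [hyy, mul_one]
    rcases (hfix _ (hVU (V.mul_mem hv hv₀V))).mp hs with h | h
    · left
      have : v = v₀⁻¹ := eq_inv_of_mul_eq_one_left h
      rw [this, hinvV v₀ hv₀V]
    · right
      have : v = y * v₀⁻¹ := eq_mul_inv_of_mul_eq h
      rw [this, hinvV v₀ hv₀V, hVcomm y hyV v₀ hv₀V]
  have hcard : Nat.card ↥V = 4 := by
    apply le_antisymm
    · have hsub : (V : Set H) ⊆ (({1, y, v₀, v₀ * y} : Finset H) : Set H) := by
        intro v hv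
        rcases hVsub v hv with h | h | h | h <;> simp [h]
      have e : Nat.card ↥V = (V : Set H).ncard := (Nat.card_coe_set_eq (V : Set H))
      rw [e]
      calc (V : Set H).ncard ≤ ((({1, y, v₀, v₀ * y} : Finset H) : Set H)).ncard :=
            Set.ncard_le_ncard hsub (Finset.finite_toSet _)
        _ = ({1, y, v₀, v₀ * y} : Finset H).card := Set.ncard_coe_finset _
        _ ≤ 4 := Finset.card_le_four
    · by_contra hlt
      push Not at hlt
      apply hVc
      have hpos : 0 < Nat.card ↥V := Nat.card_pos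
      interval_cases hc : Nat.card ↥V
      · have : Subsingleton ↥V := (Nat.card_eq_one_iff_unique.mp hc).1
        exact isCyclic_of_subsingleton
      · haveI : Fact (Nat.Prime 2) := ⟨Nat.prime_two⟩
        exact isCyclic_of_prime_card hc
      · haveI : Fact (Nat.Prime 3) := ⟨Nat.prime_three⟩
        exact isCyclic_of_prime_card hc
  -- the quotient and the induced automorphism
  haveI := hVn
  set V' : Subgroup ↥U := V.subgroupOf U with hV'
  set f : ↥U →* ↥U := conjHom U w hwU with hf
  have hfV : V' ≤ V'.comap f := by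
    intro u hu
    rw [Subgroup.mem_comap, hV', Subgroup.mem_subgroupOf]
    exact hVw _ (Subgroup.mem_subgroupOf.mp hu)
  set φ : ↥U ⧸ V' →* ↥U ⧸ V' := QuotientGroup.map V' V' f hfV with hφ
  have hinvol : Function.Involutive φ := by
    intro q
    induction q using QuotientGroup.induction_on with
    | H u =>
      rw [hφ, QuotientGroup.map_mk, QuotientGroup.map_mk]
      congr 1
      ext
      exact hcc _
  have hfpf : MonoidHom.FixedPointFree φ := by
    intro q hq
    induction q using QuotientGroup.induction_on with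
    | H u =>
      rw [hφ, QuotientGroup.map_mk, QuotientGroup.eq] at hq
      rw [QuotientGroup.eq_one_iff]
      rw [hV', Subgroup.mem_subgroupOf] at hq ⊢
      -- v = (c u)⁻¹ * u ∈ V
      have hv : (w * (u : H) * w⁻¹)⁻¹ * (u : H) ∈ V := by simpa [hf, conjHom] using hq
      set v : H := (w * (u : H) * w⁻¹)⁻¹ * (u : H) with hvdef
      have hcu : w * (u : H) * w⁻¹ = (u : H) * v⁻¹ := by rw [hvdef]; group
      have hcvv : w * v⁻¹ * w⁻¹ ∈ V := hVw _ (V.inv_mem hv)
      -- applying c again
      have h2 : (u : H) = (u : H) * v⁻¹ * (w * v⁻¹ * w⁻¹) := by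
        have := hcc (u : H)
        rw [hcu, hcmul, hcu] at this
        exact this.symm
      have h3 : v⁻¹ * (w * v⁻¹ * w⁻¹) = 1 := by
        have : (u : H) * (v⁻¹ * (w * v⁻¹ * w⁻¹)) = (u : H) * 1 := by
          rw [mul_one, ← mul_assoc]; exact h2.symm
        exact mul_left_cancel this
      have hvi : v⁻¹ = v := hinvV v hv
      rw [hvi] at h3 hcu
      have h4 : w * v * w⁻¹ = v := by
        have : w * v * w⁻¹ = v⁻¹ := eq_inv_of_mul_eq_one_right h3
        rw [this, hvi]
      rcases (hfix v (hVU hv)).mp h4 with h5 | h5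
      · rw [h5, mul_one] at hcu
        rcases (hfix (u : H) u.2).mp hcu with h6 | h6
        · rw [h6]; exact V.one_mem
        · rw [h6]; exact hyV
      · rw [h5] at hcu
        -- u * v₀ is fixed
        have h6 : w * ((u : H) * v₀) * w⁻¹ = (u : H) * v₀ := by
          rw [hcmul, hcu, hcv v₀ hv₀V hv₀1 hv₀y]
          calc (u : H) * y * (v₀ * y) = (u : H) * (y * v₀) * y := by group
            _ = (u : H) * (v₀ * y) * y := by rw [hVcomm y hyV v₀ hv₀V]
            _ = (u : H) * v₀ * (y * y) := by group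
            _ = (u : H) * v₀ := by rw [hyy, mul_one]
        have h7 : (u : H) * v₀ ∈ V := by
          rcases (hfix _ (U.mul_mem u.2 (hVU hv₀V))).mp h6 with h8 | h8
          · rw [h8]; exact V.one_mem
          · rw [h8]; exact hyV
        have : (u : H) = (u : H) * v₀ * v₀⁻¹ := by group
        rw [this]
        exact V.mul_mem h7 (V.inv_mem hv₀V)
  refine ⟨?_, hcard, ?_⟩
  · have hodd := hfpf.odd_card_of_involutive hinvol
    intro h2
    have : V.relIndex U = Nat.card (↥U ⧸ V') := rfl
    rw [this] at h2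
    exact (Nat.not_even_iff_odd.mpr hodd) (even_iff_two_dvd.mpr h2)
  · rw [Subgroup.commutator_le]
    intro a ha b hb
    have hc := hfpf.commute_all_of_involutive hinvol
      ((⟨a, ha⟩ : ↥U) : ↥U ⧸ V') ((⟨b, hb⟩ : ↥U) : ↥U ⧸ V')
    have h1 : ((⁅(⟨a, ha⟩ : ↥U), (⟨b, hb⟩ : ↥U)⁆ : ↥U) : ↥U ⧸ V') = 1 := by
      rw [commutatorElement_def]
      simp only [QuotientGroup.mk_mul, QuotientGroup.mk_inv]
      rw [hc.eq]
      group
    rw [QuotientGroup.eq_one_iff, hV', Subgroup.mem_subgroupOf] at h1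
    simpa [commutatorElement_def] using h1

end Cfsg.Agent.S3825
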