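import Mathlib
import Cfsg.Statements.S3839
import Cfsg.Agent.Helper10.StrongClosedAb
import Cfsg.Agent.S4251
import Cfsg.Agent.Helper9.Frobenius
import Cfsg.Agent.Helper9.NPC
import Cfsg.Agent.Helper9.NPCSub
import Cfsg.Agent.Lead.Compl

set_option autoImplicit false
open Cfsg

namespace Cfsg.Agent.S3839

open Cfsg.Agent.Helper10 Cfsg.Agent.Helper14 Subgroup
open scoped Pointwise

variable {G : Type*} [Group G]

/-- A strongly closed subgroup is normalized by the ambient `S`. -/
theorem le_normalizer_of_stronglyClosed {D S : Subgroup G} (hsc : Cfsg.IsStronglyClosed D S) :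
    S ≤ normalizer (D : Set G) := by
  apply le_normalizer_of_map_cj_le
  intro g hg x hx
  obtain ⟨a, ha, rfl⟩ := hx
  exact hsc.2 a ha g (mul_mem (mul_mem hg (hsc.1 ha)) (inv_mem hg))

/-- `HasNormalPComplement` passes to homomorphic images. -/
theorem npc_of_surj {A B : Type*} [Group A] [Group B] [Finite A] {p : ℕ} [Fact p.Prime]
    (f : A →* B) (hf : Function.Surjective f) (h : Cfsg.HasNormalPComplement p A) :
    Cfsg.HasNormalPComplement p B := by
  obtain ⟨P, N, hN, hc⟩ := h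
  refine ⟨P.mapSurjective hf, N.map f, hN.map _ hf, ?_⟩
  rw [Sylow.coe_mapSurjective]
  apply Cfsg.Agent.Lead.isComplement'_map_of_coprime hc _ f hf
  have h1 : (P : Subgroup A).index = Nat.card N := hc.index_eq_card
  rw [← h1]
  exact (P.card_coprime_index).symm

/-- Subgroups of `p`-nilpotent subgroups are `p`-nilpotent. -/
theorem npc_of_le [Finite G] {p : ℕ} [Fact p.Prime] {H K : Subgroup G} (hHK : H ≤ K)
    (h : Cfsg.HasNormalPComplement p ↥K) : Cfsg.HasNormalPComplement p ↥H := by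
  have h1 := Cfsg.Agent.Helper9.hasNormalPComplement_subgroup h (H.subgroupOf K)
  exact npc_of_surj (Subgroup.subgroupOfEquivOfLe hHK).toMonoidHom
    (Subgroup.subgroupOfEquivOfLe hHK).surjective h1

/-- If `N_G(T)` is `p`-nilpotent and `T` is a `p`-group then `N_G(T)/C_G(T)` is a `p`-group. -/
theorem isPGroup_quot_of_npc [Finite G] {p : ℕ} [hp : Fact p.Prime] {T : Subgroup G}
    (hTp : IsPGroup p ↥T) (h : Cfsg.HasNormalPComplement p ↥(normalizer (T : Set G))) :
    IsPGroup p (↥(normalizer (T : Set G)) ⧸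
      (centralizer (T : Set G)).subgroupOf (normalizer (T : Set G))) := by
  intro q
  obtain ⟨y, rfl⟩ := QuotientGroup.mk_surjective q
  obtain ⟨a, m, hm, hym⟩ :=
    Nat.exists_eq_pow_mul_and_not_dvd (orderOf_pos y).ne' p hp.out.ne_one
  refine ⟨a, ?_⟩
  rw [← QuotientGroup.mk_pow, QuotientGroup.eq_one_iff, mem_subgroupOf]
  have ho : orderOf (y ^ p ^ a) = m := by
    rw [orderOf_pow_of_dvd (pow_pos hp.out.pos a).ne' (hym ▸ dvd_mul_right _ _), hym]
    exact Nat.mul_div_cancel_left m (pow_pos hp.out.pos a)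
  have hcop : Nat.Coprime (orderOf (y ^ p ^ a)) p := by
    rw [ho, Nat.coprime_comm, hp.out.coprime_iff_not_dvd]; exact hm
  have hTp' : IsPGroup p ↥(T.subgroupOf (normalizer (T : Set G))) :=
    hTp.comap_subtype
  rw [mem_centralizer_iff]
  intro t ht
  have := Cfsg.Agent.Helper9.commute_of_hasNormalPComplement h
    (T.subgroupOf (normalizer (T : Set G))) hTp' (y ^ p ^ a) hcop ⟨t, le_normalizer ht⟩
    (mem_subgroupOf.2 ht)
  have h2 := congrArg Subtype.val this
  simpa using h2.symm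

/-- For a member `T` of the refined family, `D ⊓ T` is self-centralizing in `D`. -/
theorem selfCentralizing_of_mem_agFam [Finite G] {p : ℕ} [Fact p.Prime] (S : Sylow p G)
    (D : Subgroup G) (hsc : Cfsg.IsStronglyClosed D (S : Subgroup G))
    {T : Subgroup G} (hT : T ∈ agFam p S (fun _ : Unit => chainStab D)) :
    D ⊓ centralizer ((D ⊓ T : Subgroup G) : Set G) ≤ D ⊓ T := by
  obtain ⟨hT1, hT2⟩ := hT
  have hTS : T ≤ (S : Subgroup G) := tameFam_le hT1
  have hDS : D ≤ (S : Subgroup G) := hsc.1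
  have hSD : (S : Subgroup G) ≤ normalizer (D : Set G) := le_normalizer_of_stronglyClosed hsc
  set B : Subgroup G := D ⊓ centralizer ((D ⊓ T : Subgroup G) : Set G) with hB
  -- `N_B(T) ≤ T`
  have hNB : B ⊓ normalizer (T : Set G) ≤ T := by
    intro a ha
    apply hT2 ()
    refine ⟨hDS ha.1.1, ha.2, ha.1.2, ?_⟩
    intro t ht
    have h1 : a * t * a⁻¹ * t⁻¹ ∈ T :=
      mul_mem ((mem_normalizer_iff.1 ha.2 t).1 ht) (inv_mem ht)
    have h2 : t * a⁻¹ * t⁻¹ ∈ D :=
      hsc.2 a⁻¹ (inv_mem ha.1.1) t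
        (mul_mem (mul_mem (hTS ht) (hDS (inv_mem ha.1.1))) (inv_mem (hTS ht)))
    have e : a * t * a⁻¹ * t⁻¹ = a * (t * a⁻¹ * t⁻¹) := by group
    exact ⟨by rw [e]; exact mul_mem ha.1.1 h2, h1⟩
  -- `T` normalizes `B`
  have hTB : T ≤ normalizer (B : Set G) := by
    have h1 : T ≤ normalizer (D : Set G) := hTS.trans hSD
    have h2 : T ≤ normalizer ((D ⊓ T : Subgroup G) : Set G) :=
      le_normalizer_inf_of_le h1 le_normalizer
    exact le_normalizer_inf_of_le h1 (le_normalizer_centralizer_of_le h2)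
  have hBT : B ≤ T := by
    by_contra hBT
    have hlt : T < B ⊔ T := by
      refine lt_of_le_of_ne le_sup_right ?_
      intro heq
      apply hBT
      rw [heq]; exact le_sup_left
    have hBTp : IsPGroup p ↥(B ⊔ T : Subgroup G) :=
      S.2.to_le (sup_le (inf_le_left.trans hDS) hTS)
    have hlt2 := Cfsg.Agent.Helper11.lt_inf_normalizer (B ⊔ T) T hBTp hlt
    obtain ⟨y, hy, hyT⟩ := SetLike.exists_of_lt hlt2
    have hy1 : y ∈ ((B : Subgroup G) : Set G) * ((T : Subgroup G) : Set G) := by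
      rw [← coe_mul_of_right_le_normalizer_left B T hTB]; exact hy.1
    obtain ⟨a, ha, t, ht, hat⟩ := Set.mem_mul.1 hy1
    apply hyT
    rw [← hat]
    have haN : a ∈ normalizer (T : Set G) := by
      have : a = y * t⁻¹ := by rw [← hat]; group
      rw [this]
      exact mul_mem hy.2 (inv_mem (le_normalizer ht))
    exact mul_mem (hNB ⟨ha, haN⟩) ht
  exact le_inf inf_le_left hBT

/-- the local hypothesis of the statement -/
def LocalHyp (p : ℕ) (D : Subgroup G) : Prop :=
  ∀ U : Subgroup G, U ≤ D → D ⊓ centralizer (U : Set G) ≤ U →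
    Cfsg.HasNormalPComplement p ↥(normalizer (U : Set G))

/-- For a member `T` of the refined family, `N_G(T) = C_G(T) N_S(T)`. -/
theorem decomp_of_mem_agFam [Finite G] {p : ℕ} [Fact p.Prime] (S : Sylow p G)
    (D : Subgroup G) (hsc : Cfsg.IsStronglyClosed D (S : Subgroup G)) (h : LocalHyp p D)
    {T : Subgroup G} (hT : T ∈ agFam p S (fun _ : Unit => chainStab D))
    (y : G) (hy : y ∈ normalizer (T : Set G)) :
    ∃ c ∈ centralizer (T : Set G), ∃ u ∈ (S : Subgroup G), y = c * u := by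
  have hTS : T ≤ (S : Subgroup G) := tameFam_le hT.1
  have h1 : Cfsg.HasNormalPComplement p ↥(normalizer ((D ⊓ T : Subgroup G) : Set G)) :=
    h (D ⊓ T) inf_le_left (selfCentralizing_of_mem_agFam S D hsc hT)
  have hN : normalizer (T : Set G) ≤ normalizer ((D ⊓ T : Subgroup G) : Set G) := by
    apply le_normalizer_of_map_cj_le
    intro g hg x hx
    obtain ⟨a, ha, rfl⟩ := hx
    exact conj_mem_inf_of_stronglyClosed S D hsc hTS hg ha
  have h2 : Cfsg.HasNormalPComplement p ↥(normalizer (T : Set G)) := npc_of_le hN h1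
  have hq := isPGroup_quot_of_npc (S.2.to_le hTS) h2
  have hext : IsExt p (S : Subgroup G) T := by
    obtain ⟨Q, -, h1, -⟩ := hT.1
    exact h1
  obtain ⟨c, hc, u, hu, hcu⟩ := Cfsg.Agent.S4251.decomp _ _
    ((S : Subgroup G) ⊓ normalizer (T : Set G)) hq hext y hy
  exact ⟨c, hc, u, hu.1, hcu⟩

theorem chain [Finite G] {p : ℕ} [hp : Fact p.Prime] (S : Sylow p G)
    (D : Subgroup G) (hsc : Cfsg.IsStronglyClosed D (S : Subgroup G)) (h : LocalHyp p D) :
    ∀ (l : List (Subgroup G × G)) (x : G), x ∈ (S : Subgroup G) →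
      Dec (agFam p S (fun _ : Unit => chainStab D)) ({x} : Set G) l →
      ∃ u ∈ (S : Subgroup G), (lprod l)⁻¹ * x * lprod l = u⁻¹ * x * u := by
  intro l
  induction l with
  | nil =>
    intro x _ _
    exact ⟨1, one_mem _, by simp [lprod_nil]⟩
  | cons e l ih =>
    obtain ⟨T, y⟩ := e
    intro x hx hd
    obtain ⟨hT, hyN, hxT, hd'⟩ := hd
    rw [Cfsg.Agent.S4251.rc_singleton] at hd'
    have hxT' : x ∈ T := hxT (Set.mem_singleton x)
    have hx'T : y⁻¹ * x * y ∈ T := by
      have := (Subgroup.mem_normalizer_iff.mp (Subgroup.inv_mem _ hyN) x).mp hxT'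
      simpa using this
    have hx'P : y⁻¹ * x * y ∈ (S : Subgroup G) := tameFam_le hT.1 hx'T
    obtain ⟨u₂, hu₂, hu₂e⟩ := ih _ hx'P hd'
    obtain ⟨c, hc, u₁, hu₁, hcu⟩ := decomp_of_mem_agFam S D hsc h hT y hyN
    have hcx : x * c = c * x := (Subgroup.mem_centralizer_iff.mp hc) x hxT'
    have hyx : y⁻¹ * x * y = u₁⁻¹ * x * u₁ := by
      rw [hcu, mul_inv_rev]
      calc u₁⁻¹ * c⁻¹ * x * (c * u₁) = u₁⁻¹ * (c⁻¹ * (x * c)) * u₁ := by group
        _ = u₁⁻¹ * (c⁻¹ * (c * x)) * u₁ := by rw [hcx]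
        _ = u₁⁻¹ * x * u₁ := by group
    refine ⟨u₁ * u₂, Subgroup.mul_mem _ hu₁ hu₂, ?_⟩
    rw [lprod_cons]
    calc (y * lprod l)⁻¹ * x * (y * lprod l) = (lprod l)⁻¹ * (y⁻¹ * x * y) * lprod l := by group
      _ = u₂⁻¹ * (y⁻¹ * x * y) * u₂ := hu₂e
      _ = u₂⁻¹ * (u₁⁻¹ * x * u₁) * u₂ := by rw [hyx]
      _ = (u₁ * u₂)⁻¹ * x * (u₁ * u₂) := by group

theorem controlsFusion [Finite G] {p : ℕ} [hp : Fact p.Prime] (S : Sylow p G)
    (D : Subgroup G) (hsc : Cfsg.IsStronglyClosed D (S : Subgroup G)) (h : LocalHyp p D) :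
    Cfsg.Agent.Helper9.ControlsFusion (S : Subgroup G) := by
  intro x hx g hg
  have hA : ({x} : Set G) ⊆ ((S : Subgroup G) : Set G) := by
    intro z hz
    rw [Set.mem_singleton_iff] at hz
    rw [hz]; exact hx
  have hAg : rc g⁻¹ ({x} : Set G) ⊆ ((S : Subgroup G) : Set G) := by
    rw [Cfsg.Agent.S4251.rc_singleton]
    intro z hz
    rw [Set.mem_singleton_iff] at hz
    rw [hz, inv_inv]; exact hg
  obtain ⟨c, hc, l, hd, hl⟩ := ag_set S (fun _ : Unit => chainStab D)
    (fun _ T _ => fun n hn => hn.1)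
    (fun _ T hT => normalizer_le_normalizer_chainStab S D hsc (tameFam_le hT))
    (fun _ T hT => chainStab_pow_mem_centralizer S D (tameFam_le hT)) ({x} : Set G) g⁻¹ hA hAg
  obtain ⟨u, hu, hue⟩ := chain S D hsc h l x hx hd
  refine ⟨u⁻¹, Subgroup.inv_mem _ hu, ?_⟩
  have hcx : x * c = c * x := (Subgroup.mem_centralizer_iff.mp hc) x (Set.mem_singleton x)
  have hg' : g = (lprod l)⁻¹ * c⁻¹ := by
    have : g = (g⁻¹)⁻¹ := by group
    rw [this, hl]; group
  have e1 : c⁻¹ * x * c = x := by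
    calc c⁻¹ * x * c = c⁻¹ * (x * c) := by group
      _ = c⁻¹ * (c * x) := by rw [hcx]
      _ = x := by group
  rw [inv_inv, ← hue, hg']
  calc (lprod l)⁻¹ * x * lprod l = (lprod l)⁻¹ * (c⁻¹ * x * c) * lprod l := by rw [e1]
    _ = (lprod l)⁻¹ * c⁻¹ * x * ((lprod l)⁻¹ * c⁻¹)⁻¹ := by group

/-- A Frobenius normal p-complement criterion relative to a strongly closed subgroup. Let G be a finite group, S a Sylow p-subgroup and D a subgroup of S strongly closed in S with respect to G. Then G has a normal p-complement if and only if N_G(U) has a normal p-complement for every subgroup U of D with C_D(U) ≤ U. -/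
theorem result {G : Type*} [Group G] [Finite G] {p : ℕ} [Fact p.Prime] (S : Sylow p G) (D : Subgroup G) (hD : Cfsg.IsStronglyClosed D (S : Subgroup G)) : Cfsg.HasNormalPComplement p G ↔ ∀ U : Subgroup G, U ≤ D → D ⊓ Subgroup.centralizer (U : Set G) ≤ U → Cfsg.HasNormalPComplement p ↥(Subgroup.normalizer (U : Set G)) := by
  constructor
  · intro h U _ _
    exact Cfsg.Agent.Helper9.hasNormalPComplement_subgroup h _
  · intro h
    rw [Cfsg.Agent.Helper9.hasNormalPComplement_iff S]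
    exact Cfsg.Agent.Helper9.exists_normal_complement_of_controlsFusion _ G p S rfl
      (controlsFusion S D hD h)

end Cfsg.Agent.S3839
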