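import Cfsg.Statements.S3857
import Mathlib
import Cfsg.Agent.Helper1.PrimeGraph

set_option autoImplicit false
set_option linter.style.haveILetI false
open Cfsg

namespace Cfsg.Agent.S3857

/-- A finite solvable group whose prime graph (prime divisors of the order, two distinct primes joined when there is an element of order their product) is disconnected is a Frobenius group or a 2-Frobenius group (it has normal subgroups H < K with K a Frobenius group with kernel H and G/H a Frobenius group with kernel K/H). -/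
theorem result {G : Type*} [Group G] [Finite G] (hsol : Group.IsSolvable G)
    (hdisc : (∃ A : Set ℕ, (∃ a ∈ A, a.Prime ∧ a ∣ Nat.card G) ∧ (∃ b ∉ A, b.Prime ∧ b ∣ Nat.card G) ∧
      ∀ a ∈ A, ∀ b ∉ A, a.Prime → b.Prime → a ∣ Nat.card G → b ∣ Nat.card G → ¬ ∃ g : G, orderOf g = a * b)) :
    (∃ C : Subgroup G, Cfsg.IsFrobeniusComplement C) ∨
    (∃ (H K : Subgroup G) (_ : H.Normal), K.Normal ∧ H < K ∧
      (∃ C : Subgroup ↥K, Cfsg.IsFrobeniusComplement C ∧ Cfsg.frobeniusKernel C = (H.subgroupOf K : Set ↥K)) ∧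
      (∃ C : Subgroup (G ⧸ H), Cfsg.IsFrobeniusComplement C ∧ Cfsg.frobeniusKernel C = (K.map (QuotientGroup.mk' H) : Set (G ⧸ H)))) := by
  open Cfsg.Agent.Helper1.PrimeGraph in
  obtain ⟨A, ⟨a, haA, hap, haG⟩, ⟨b, hbA, hbp, hbG⟩, hno⟩ := hdisc
  have hnoA : NoAB A G := by
    intro r s hr hs hrA hsA ⟨g, hg⟩
    have hrG : r ∣ Nat.card G := (Dvd.intro s hg.symm).trans (orderOf_dvd_natCard g)
    have hsG : s ∣ Nat.card G := (Dvd.intro_left r hg.symm).trans (orderOf_dvd_natCard g)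
    exact hno r hrA s hsA hr hs hrG hsG ⟨g, hg⟩
  haveI : Nontrivial G := by
    rw [← Finite.one_lt_card_iff_nontrivial]
    exact lt_of_lt_of_le hap.one_lt (Nat.le_of_dvd Nat.card_pos haG)
  haveI := hsol
  obtain ⟨p, N, hp, hNn, hNbot, hNp, -, -⟩ :=
    Cfsg.Agent.Helper1.exists_normal_pgroup_of_solvable (G := G)
  by_cases hpA : p ∈ A
  · exact core hsol A hnoA ⟨b, hbA, hbp, hbG⟩ N hNn hNbot (PiGroup.of_isPGroup hp hpA hNp)
  · exact core hsol Aᶜ hnoA.compl ⟨a, fun h => h haA, hap, haG⟩ N hNn hNbot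
      (PiGroup.of_isPGroup hp hpA hNp)

end Cfsg.Agent.S3857
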