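import Mathlib
import Cfsg.Statements.S3858
import Cfsg.Agent.Helper19.Basic
import Cfsg.Agent.Helper19.Sylow
import Cfsg.Agent.Helper3.SylowSubnormal

set_option autoImplicit false
open Cfsg
open scoped Pointwise

namespace Cfsg.Agent.S3858

open Cfsg.Agent.Helper19

lemma isCoatom_map_conj {G : Type*} [Group G] {M : Subgroup G} (hM : IsCoatom M) (g : G) :
    IsCoatom (M.map (MulAut.conj g).toMonoidHom) := by
  have := (OrderIso.isCoatom_iff (MulEquiv.mapSubgroup (MulAut.conj g)) M).mpr hM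
  exact this

/-- A subgroup of index prime to `r` contains a conjugate of the Sylow subgroup `R`. -/
lemma exists_conj_le {G : Type*} [Group G] [Finite G] {r : ℕ} [Fact r.Prime] (R : Sylow r G)
    (M : Subgroup G) (hM : ¬ r ∣ M.index) :
    ∃ g : G, (R : Subgroup G).map (MulAut.conj g).toMonoidHom ≤ M := by
  have hr : r.Prime := Fact.out
  obtain ⟨S⟩ : Nonempty (Sylow r M) := inferInstance
  set Q : Subgroup G := (S : Subgroup M).map M.subtype with hQ
  have hQM : Q ≤ M := Subgroup.map_subtype_le _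
  have hcardQ : Nat.card Q = r ^ (Nat.card G).factorization r := by
    have h1 : Nat.card Q = Nat.card (S : Subgroup M) :=
      (Nat.card_congr ((S : Subgroup M).equivMapOfInjective _ M.subtype_injective).toEquiv).symm
    rw [h1, S.card_eq_multiplicity]
    congr 1
    have h2 : Nat.card G = Nat.card M * M.index := (Subgroup.card_mul_index M).symm
    rw [h2, Nat.factorization_mul Nat.card_pos.ne' Subgroup.index_ne_zero_of_finite]
    simp [Nat.factorization_eq_zero_of_not_dvd hM]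
  let Q' : Sylow r G := Sylow.ofCard Q hcardQ
  obtain ⟨g, hg⟩ := MulAction.exists_smul_eq G R Q'
  refine ⟨g, ?_⟩
  have h3 : ((g • R : Sylow r G) : Subgroup G) = Q := by rw [hg]; rfl
  rw [Sylow.coe_subgroup_smul] at h3
  have h4 : (R : Subgroup G).map (MulAut.conj g).toMonoidHom = MulAut.conj g • (R : Subgroup G) :=
    rfl
  rw [h4, h3]
  exact hQM

/-- `N_G(R)` is a proper subgroup. -/
lemma normalizer_ne_top {G : Type*} [Group G] [Finite G] (T : Subgroup G) [T.Normal]
    (hT : IsSimpleGroup T) (hna : ¬ IsMulCommutative T) {r : ℕ} [Fact r.Prime] (R : Sylow r G)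
    (hR0 : (R : Subgroup G) ⊓ T ≠ ⊥) : Subgroup.normalizer ((R : Subgroup G) : Set G) ≠ ⊤ := by
  intro htop
  have hRn : (R : Subgroup G).Normal := Subgroup.normalizer_eq_top_iff.mp htop
  set Q : Subgroup G := (R : Subgroup G) ⊓ T with hQ
  have hQT : Q ≤ T := inf_le_right
  have hQn : Q.Normal := inferInstance
  have hQTn : (Q.subgroupOf T).Normal := inferInstance
  rcases hQTn.eq_bot_or_eq_top with h | h
  · apply hR0
    rw [Subgroup.subgroupOf_eq_bot, disjoint_iff, inf_eq_left.mpr hQT] at h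
    exact h
  · rw [Subgroup.subgroupOf_eq_top] at h
    have hTR : T ≤ (R : Subgroup G) := h.trans inf_le_left
    have hTp : IsPGroup r T := R.isPGroup'.to_le hTR
    have hnil : Group.IsNilpotent T := hTp.isNilpotent
    have hsol : Group.IsSolvable T := inferInstance
    exact hna (isMulCommutative_iff.mpr (IsSimpleGroup.comm_iff_isSolvable.mpr hsol))

theorem result {G : Type*} [Group G] [Finite G] (T : Subgroup G) [T.Normal] (hT : IsSimpleGroup T) (hna : ¬ IsMulCommutative T)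
    (hC : Subgroup.centralizer (T : Set G) = ⊥) {r : ℕ} [Fact r.Prime] (R : Sylow r G) (hR0 : (R : Subgroup G) ⊓ T ≠ ⊥) :
    (∃! M : Subgroup G, IsCoatom M ∧ (R : Subgroup G) ≤ M) ↔
      ((∃ M : Subgroup G, IsCoatom M ∧ ¬ r ∣ M.index) ∧
        ∀ M₁ M₂ : Subgroup G, IsCoatom M₁ → ¬ r ∣ M₁.index → IsCoatom M₂ → ¬ r ∣ M₂.index → ∃ g : G, M₂ = M₁.map (MulAut.conj g).toMonoidHom) := by
  have hidx : ∀ M : Subgroup G, (R : Subgroup G) ≤ M → ¬ r ∣ M.index := by
    intro M hRM hdvd
    exact R.not_dvd_index ((Subgroup.index_dvd_of_le hRM) |> hdvd.trans)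
  -- a coatom of index prime to `r` has a conjugate containing `R`
  have hconj : ∀ M : Subgroup G, IsCoatom M → ¬ r ∣ M.index →
      ∃ g : G, IsCoatom (M.map (MulAut.conj g).toMonoidHom) ∧
        (R : Subgroup G) ≤ M.map (MulAut.conj g).toMonoidHom := by
    intro M hM hMi
    obtain ⟨g, hg⟩ := exists_conj_le R M hMi
    refine ⟨g⁻¹, isCoatom_map_conj hM g⁻¹, ?_⟩
    have := Subgroup.map_mono (f := (MulAut.conj g⁻¹).toMonoidHom) hg
    rwa [map_conj_map_conj, inv_mul_cancel, map_conj_one] at this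
  constructor
  · rintro ⟨M, ⟨hMco, hRM⟩, hMuniq⟩
    refine ⟨⟨M, hMco, hidx M hRM⟩, ?_⟩
    intro M₁ M₂ h1 h1i h2 h2i
    obtain ⟨g1, hg1co, hg1R⟩ := hconj M₁ h1 h1i
    obtain ⟨g2, hg2co, hg2R⟩ := hconj M₂ h2 h2i
    have e1 := hMuniq _ ⟨hg1co, hg1R⟩
    have e2 := hMuniq _ ⟨hg2co, hg2R⟩
    refine ⟨g2⁻¹ * g1, ?_⟩
    rw [← map_conj_map_conj, e1, ← e2, map_conj_map_conj, inv_mul_cancel, map_conj_one]
  · rintro ⟨⟨M0, hM0co, hM0i⟩, hall⟩
    -- a maximal subgroup containing `N_G(R)`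
    have hNtop := normalizer_ne_top T hT hna R hR0
    obtain ⟨M3, hM3co, hNM3⟩ := (eq_top_or_exists_le_coatom _).resolve_left hNtop
    have hRM3 : (R : Subgroup G) ≤ M3 := Subgroup.le_normalizer.trans hNM3
    refine ⟨M3, ⟨hM3co, hRM3⟩, ?_⟩
    rintro M ⟨hMco, hRM⟩
    obtain ⟨g, hg⟩ := hall M3 M hM3co (hidx M3 hRM3) hMco (hidx M hRM)
    -- `g R g⁻¹ ≤ M`
    have hgR : (R : Subgroup G).map (MulAut.conj g).toMonoidHom ≤ M := by
      rw [hg]; exact Subgroup.map_mono hRM3
    have hrel : ¬ r ∣ (R : Subgroup G).relIndex M := fun h =>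
      R.not_dvd_index (h.trans (Subgroup.relIndex_dvd_index_of_le hRM))
    have hcard : Nat.card ((R : Subgroup G).map (MulAut.conj g).toMonoidHom) =
        Nat.card (R : Subgroup G) :=
      (Nat.card_congr ((R : Subgroup G).equivMapOfInjective _
        (MulAut.conj g).injective).toEquiv).symm
    obtain ⟨m, hmM, hm⟩ := exists_conj_eq_of_card_eq R.isPGroup' hRM hgR hrel hcard
    -- `m⁻¹ g` normalizes `R`
    have hn : m⁻¹ * g ∈ Subgroup.normalizer ((R : Subgroup G) : Set G) := by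
      rw [mem_normalizer_iff_map_conj, ← map_conj_map_conj, hm, map_conj_map_conj,
        inv_mul_cancel, map_conj_one]
    have hn3 : m⁻¹ * g ∈ M3 := hNM3 hn
    -- hence `M = m M3 m⁻¹`, and `M3 = m⁻¹ M m = M`
    have h1 : M3.map (MulAut.conj (m⁻¹ * g)).toMonoidHom = M3 :=
      mem_normalizer_iff_map_conj.mp (Subgroup.le_normalizer hn3)
    have h2 : M.map (MulAut.conj m⁻¹).toMonoidHom = M :=
      mem_normalizer_iff_map_conj.mp (Subgroup.le_normalizer (M.inv_mem hmM))
    rw [← h2, hg, map_conj_map_conj, h1]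

end Cfsg.Agent.S3858
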