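import Mathlib
import Cfsg.Statements.S3859
import Cfsg.Agent.Helper3.SylowSubnormal

set_option autoImplicit false
open Cfsg

namespace Cfsg.Agent.S3859

/-- Core of the argument, reused: if `R ∩ T ≠ 1` and `R` lies in a unique maximal subgroup,
then `R ⊔ T = ⊤`. -/
theorem sup_eq_top {G : Type*} [Group G] [Finite G] (T : Subgroup G) [T.Normal] (hT : IsSimpleGroup T) (hna : ¬ IsMulCommutative T) {r : ℕ} [Fact r.Prime] (R : Sylow r G) (hR0 : (R : Subgroup G) ⊓ T ≠ ⊥)
    (huniq : ∃! M : Subgroup G, IsCoatom M ∧ (R : Subgroup G) ≤ M) : (R : Subgroup G) ⊔ T = ⊤ := by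
  obtain ⟨M, ⟨hMco, hRM⟩, hMuniq⟩ := huniq
  set Q : Subgroup G := (R : Subgroup G) ⊓ T with hQ
  have hQT : Q ≤ T := inf_le_right
  have hcard : Nat.card (Q.subgroupOf T) = r ^ (Nat.card T).factorization r := by
    rw [Cfsg.Agent.Helper3.card_subgroupOf_eq_card_inf, inf_eq_left.mpr hQT]
    exact Cfsg.Agent.Helper3.card_sylow_inf_normal R T
  let S : Sylow r T := Sylow.ofCard (Q.subgroupOf T) hcard
  have hSmap : (S : Subgroup T).map T.subtype = Q := by
    change (Q.subgroupOf T).map T.subtype = Q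
    rw [Subgroup.subgroupOf_map_subtype, inf_eq_left.mpr hQT]
  have hfrat : Subgroup.normalizer (Q : Set G) ⊔ T = ⊤ := by
    have := Sylow.normalizer_sup_eq_top S
    rwa [hSmap] at this
  have hRN : (R : Subgroup G) ≤ Subgroup.normalizer (Q : Set G) := by
    have h1 : (R : Subgroup G) ≤ Subgroup.normalizer ((R : Subgroup G) : Set G) :=
      Subgroup.le_normalizer
    have h2 : (R : Subgroup G) ≤ Subgroup.normalizer (T : Set G) := by
      rw [Subgroup.normalizer_eq_top]; exact le_top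
    exact (le_inf h1 h2).trans Subgroup.inf_normalizer_le_normalizer_inf
  have hNtop : Subgroup.normalizer (Q : Set G) ≠ ⊤ := by
    intro htop
    have hQn : Q.Normal := Subgroup.normalizer_eq_top_iff.mp htop
    have hQTn : (Q.subgroupOf T).Normal := inferInstance
    rcases hQTn.eq_bot_or_eq_top with h | h
    · apply hR0
      rw [Subgroup.subgroupOf_eq_bot, disjoint_iff, inf_eq_left.mpr hQT] at h
      exact h
    · rw [Subgroup.subgroupOf_eq_top] at h
      have hTR : T ≤ (R : Subgroup G) := h.trans inf_le_left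
      have hTp : IsPGroup r T := R.isPGroup'.to_le hTR
      have hnil : Group.IsNilpotent T := hTp.isNilpotent
      have hsol : Group.IsSolvable T := inferInstance
      exact hna (isMulCommutative_iff.mpr (IsSimpleGroup.comm_iff_isSolvable.mpr hsol))
  obtain ⟨M', hM'co, hNM'⟩ := (eq_top_or_exists_le_coatom _).resolve_left hNtop
  have hM'M : M' = M := hMuniq M' ⟨hM'co, hRN.trans hNM'⟩
  rw [hM'M] at hNM'
  by_contra hne
  obtain ⟨M'', hM''co, hRTM''⟩ := (eq_top_or_exists_le_coatom _).resolve_left hne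
  have hM''M : M'' = M := hMuniq M'' ⟨hM''co, le_sup_left.trans hRTM''⟩
  rw [hM''M] at hRTM''
  have hTM : T ≤ M := le_sup_right.trans hRTM''
  have : (⊤ : Subgroup G) ≤ M := by
    rw [← hfrat]; exact sup_le hNM' hTM
  exact hMco.1 (top_le_iff.mp this)

theorem result {G : Type*} [Group G] [Finite G] (T : Subgroup G) [T.Normal] (hT : IsSimpleGroup T) (hna : ¬ IsMulCommutative T)
    (hC : Subgroup.centralizer (T : Set G) = ⊥) {r : ℕ} [Fact r.Prime] (R : Sylow r G) (hR0 : (R : Subgroup G) ⊓ T ≠ ⊥)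
    (huniq : ∃! M : Subgroup G, IsCoatom M ∧ (R : Subgroup G) ≤ M) : IsPGroup r (G ⧸ T) := by
  have hsup := sup_eq_top T hT hna R hR0 huniq
  have hmap : (R : Subgroup G).map (QuotientGroup.mk' T) = ⊤ := by
    have h1 : ((R : Subgroup G) ⊔ T).map (QuotientGroup.mk' T) = ⊤ := by
      rw [hsup, ← MonoidHom.range_eq_map]
      exact MonoidHom.range_eq_top.mpr (QuotientGroup.mk'_surjective T)
    rw [Subgroup.map_sup] at h1
    have h2 : T.map (QuotientGroup.mk' T) = ⊥ := by
      rw [Subgroup.map_eq_bot_iff, QuotientGroup.ker_mk']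
    rwa [h2, sup_bot_eq] at h1
  intro q
  have hq : q ∈ (R : Subgroup G).map (QuotientGroup.mk' T) := by rw [hmap]; trivial
  obtain ⟨x, hx, rfl⟩ := hq
  obtain ⟨k, hk⟩ := R.isPGroup' ⟨x, hx⟩
  refine ⟨k, ?_⟩
  have hk' : x ^ r ^ k = 1 := congrArg Subtype.val hk
  rw [← map_pow, hk', map_one]

end Cfsg.Agent.S3859
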