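import Mathlib
import Cfsg.Statements.S3861
import Cfsg.Agent.Helper19.Sylow
import Cfsg.Agent.Helper16.BaerSuzuki
import Cfsg.Agent.Lead.Coprime

set_option autoImplicit false
open Cfsg
open scoped Pointwise

namespace Cfsg.Agent.S3861

open Cfsg.Agent.Helper19

universe u

/-- No nontrivial element of odd order is conjugate to its inverse. -/
def NoRealOdd (G : Type*) [Group G] : Prop :=
  ∀ x : G, x ≠ 1 → Odd (orderOf x) → ¬ IsConj x x⁻¹

lemma eq_one_of_odd_of_dvd_two_pow {n j : ℕ} (hodd : Odd n) (hd : n ∣ 2 ^ j) : n = 1 := by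
  obtain ⟨i, -, hi⟩ := (Nat.dvd_prime_pow Nat.prime_two).mp hd
  have hi0 : i = 0 := by
    by_contra hne
    have : Even n := by rw [hi]; exact (Nat.even_pow' hne).mpr even_two
    exact (Nat.not_even_iff_odd.mpr hodd) this
  rw [hi, hi0, pow_zero]

lemma isPGroup_zpowers_of_orderOf {G : Type*} [Group G] {y : G} {k : ℕ}
    (h : orderOf y = 2 ^ k) : IsPGroup 2 (Subgroup.zpowers y) := by
  have : Fact (Nat.Prime 2) := ⟨Nat.prime_two⟩
  exact IsPGroup.of_card (n := k) (by rw [Nat.card_zpowers, h])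

/-- The product of two involutions has 2-power order. -/
lemma orderOf_mul_invol {G : Type*} [Group G] [Finite G] (h : NoRealOdd G) {s t : G}
    (hs : s * s = 1) (ht : t * t = 1) : ∃ k, orderOf (s * t) = 2 ^ k := by
  have hn0 : orderOf (s * t) ≠ 0 := (orderOf_pos (s * t)).ne'
  obtain ⟨k, m, hm, hn⟩ := Nat.exists_eq_two_pow_mul_odd hn0
  refine ⟨k, ?_⟩
  set z := (s * t) ^ (2 ^ k) with hz
  have hzo : orderOf z = m := by
    rw [hz, orderOf_pow_of_dvd (by positivity) ⟨m, hn⟩, hn]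
    exact Nat.mul_div_cancel_left m (by positivity)
  have hsinv : s⁻¹ = s := inv_eq_of_mul_eq_one_right hs
  have htinv : t⁻¹ = t := inv_eq_of_mul_eq_one_right ht
  have hconj : s * (s * t) * s⁻¹ = (s * t)⁻¹ := by
    rw [mul_inv_rev, hsinv, htinv, ← mul_assoc, hs, one_mul]
  have hzconj : s * z * s⁻¹ = z⁻¹ := by
    rw [hz, ← conj_pow, hconj, inv_pow]
  by_cases hz1 : z = 1
  · rw [hz1, orderOf_one] at hzo
    rw [hn, ← hzo, mul_one]
  · exfalso
    exact h z hz1 (hzo ▸ hm) (isConj_iff.mpr ⟨s, hzconj⟩)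

/-- Two involutions whose product has 2-power order generate a 2-group. -/
lemma isPGroup_closure_pair {G : Type*} [Group G] [Finite G] {s t : G}
    (hs : s * s = 1) (ht : t * t = 1) {k : ℕ} (hk : orderOf (s * t) = 2 ^ k) :
    IsPGroup 2 (Subgroup.closure ({s, t} : Set G)) := by
  have : Fact (Nat.Prime 2) := ⟨Nat.prime_two⟩
  have hsinv : s⁻¹ = s := inv_eq_of_mul_eq_one_right hs
  have htinv : t⁻¹ = t := inv_eq_of_mul_eq_one_right ht
  have hso : orderOf s ∣ 2 ^ 1 := by
    rw [pow_one]; apply orderOf_dvd_of_pow_eq_one; rw [pow_two]; exact hs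
  obtain ⟨j, -, hj⟩ := (Nat.dvd_prime_pow Nat.prime_two).mp hso
  have h1 : IsPGroup 2 (Subgroup.zpowers s) := isPGroup_zpowers_of_orderOf hj
  have h2 : IsPGroup 2 (Subgroup.zpowers (s * t)) := isPGroup_zpowers_of_orderOf hk
  have hnorm : Subgroup.zpowers s ≤ Subgroup.normalizer (Subgroup.zpowers (s * t) : Set G) := by
    rw [Subgroup.zpowers_le]
    apply mem_normalizer_of_forall
    intro y hy
    obtain ⟨n, rfl⟩ := Subgroup.mem_zpowers_iff.mp hy
    have hconj : s * (s * t) * s⁻¹ = (s * t)⁻¹ := by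
      rw [mul_inv_rev, hsinv, htinv, ← mul_assoc, hs, one_mul]
    have : s * (s * t) ^ n * s⁻¹ = ((s * t)⁻¹) ^ n := by
      rw [← conj_zpow, hconj]
    rw [this]
    exact Subgroup.zpow_mem _ (Subgroup.inv_mem _ (Subgroup.mem_zpowers _)) n
  have h3 := IsPGroup.to_sup_of_normal_right' h1 h2 hnorm
  apply h3.to_le
  rw [Subgroup.closure_le]
  intro x hx
  rcases hx with rfl | rfl
  · exact Subgroup.mem_sup_left (Subgroup.mem_zpowers _)
  · have h5 : s⁻¹ * (s * x) ∈ Subgroup.zpowers s ⊔ Subgroup.zpowers (s * x) :=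
      Subgroup.mul_mem _ (Subgroup.mem_sup_left (Subgroup.inv_mem _ (Subgroup.mem_zpowers _)))
        (Subgroup.mem_sup_right (Subgroup.mem_zpowers _))
    have h4 : s⁻¹ * (s * x) = x := by group
    rwa [h4] at h5

/-- The hypothesis passes to the quotient by a normal 2-subgroup. -/
lemma noRealOdd_quotient {G : Type*} [Group G] [Finite G] (h : NoRealOdd G) (N : Subgroup G)
    [N.Normal] (hN : IsPGroup 2 N) : NoRealOdd (G ⧸ N) := by
  have : Fact (Nat.Prime 2) := ⟨Nat.prime_two⟩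
  intro xb hxb1 hxbodd hconj
  obtain ⟨cb, hcb⟩ := isConj_iff.mp hconj
  obtain ⟨x0, rfl⟩ := QuotientGroup.mk_surjective xb
  obtain ⟨c, rfl⟩ := QuotientGroup.mk_surjective cb
  obtain ⟨b, hb⟩ := IsPGroup.iff_card.mp hN
  set m := orderOf (x0 : G ⧸ N) with hm
  set x : G := x0 ^ (2 ^ b) with hx
  -- `x ^ m = 1`
  have hxm : x ^ m = 1 := by
    have h1 : x0 ^ m ∈ N := by
      rw [← QuotientGroup.eq_one_iff, QuotientGroup.mk_pow, hm]
      exact pow_orderOf_eq_one _
    have h2 : (⟨x0 ^ m, h1⟩ : N) ^ (Nat.card N) = 1 := pow_card_eq_one'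
    have h3 : (x0 ^ m) ^ (2 ^ b) = 1 := by
      rw [hb] at h2
      exact congrArg Subtype.val h2
    rw [hx, ← pow_mul, mul_comm, pow_mul]
    exact h3
  have hxodd : Odd (orderOf x) := by
    have hd : orderOf x ∣ m := orderOf_dvd_of_pow_eq_one hxm
    exact Odd.of_dvd_nat hxbodd hd
  -- the image of `x` is nontrivial
  have hxN : (x : G ⧸ N) ≠ 1 := by
    intro h1
    rw [hx, QuotientGroup.mk_pow] at h1
    have h2 : m ∣ 2 ^ b := orderOf_dvd_of_pow_eq_one h1
    obtain ⟨j, -, hj⟩ := (Nat.dvd_prime_pow Nat.prime_two).mp h2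
    have hj0 : j = 0 := by
      by_contra hne
      have : Even m := by rw [hj]; exact (Nat.even_pow' hne).mpr even_two
      exact (Nat.not_even_iff_odd.mpr hxbodd) this
    rw [hj0, pow_zero] at hj
    exact hxb1 (orderOf_eq_one_iff.mp hj)
  have hx1 : x ≠ 1 := by
    intro h1; apply hxN; rw [h1]; rfl
  -- `c x c⁻¹ x ∈ N`
  have hcx : c * x * c⁻¹ * x ∈ N := by
    rw [← QuotientGroup.eq_one_iff]
    have h1 : ((c * x * c⁻¹ * x : G) : G ⧸ N) =
        ((c : G ⧸ N) * (x0 : G ⧸ N) * (c : G ⧸ N)⁻¹) ^ (2 ^ b) * (x0 : G ⧸ N) ^ (2 ^ b) := by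
      rw [conj_pow, hx]
      simp only [QuotientGroup.mk_mul, QuotientGroup.mk_inv, QuotientGroup.mk_pow]
    rw [h1, hcb, inv_pow, inv_mul_cancel]
  -- Schur–Zassenhaus
  set A : Subgroup G := Subgroup.zpowers x with hA
  set B : Subgroup G := Subgroup.zpowers (c * x * c⁻¹) with hB
  have hAN : A ≤ Subgroup.normalizer (N : Set G) := by
    rw [Subgroup.normalizer_eq_top]; exact le_top
  have hcardA : Nat.card A = orderOf x := Nat.card_zpowers x
  have hcardB : Nat.card B = Nat.card A := by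
    rw [hcardA, hB, Nat.card_zpowers]
    exact orderOf_conj' c x
  have hcop : (Nat.card A).Coprime (Nat.card N) := by
    rw [hcardA, hb]
    exact Nat.Coprime.pow_right b (Nat.coprime_two_right.mpr hxodd)
  have hBle : B ≤ N ⊔ A := by
    rw [hB, Subgroup.zpowers_le]
    have h1 : c * x * c⁻¹ = (c * x * c⁻¹ * x) * x⁻¹ := by group
    rw [h1]
    exact Subgroup.mul_mem _ (Subgroup.mem_sup_left hcx)
      (Subgroup.mem_sup_right (Subgroup.inv_mem _ (Subgroup.mem_zpowers x)))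
  have hNsolv : Group.IsSolvable N := by
    have := hN.isNilpotent
    infer_instance
  obtain ⟨k, hkN, hk⟩ := Cfsg.Agent.Lead.sz_conj_rel hAN hcop (Or.inr hNsolv) hBle hcardB
  -- the corrected conjugating element
  set g : G := k⁻¹ * c with hg
  have hgx : g * x * g⁻¹ ∈ A := by
    have h1 : c * x * c⁻¹ ∈ MulAut.conj k • A := by
      rw [hk]; exact Subgroup.mem_zpowers _
    rw [Subgroup.mem_pointwise_smul_iff_inv_smul_mem] at h1
    have h2 : (MulAut.conj k)⁻¹ • (c * x * c⁻¹) = g * x * g⁻¹ := by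
      rw [← map_inv, MulAut.smul_def, MulAut.conj_apply, hg]
      group
    rwa [h2] at h1
  set w : G := g * x * g⁻¹ * x with hw
  have hwA : w ∈ A := Subgroup.mul_mem _ hgx (Subgroup.mem_zpowers x)
  have hwN : w ∈ N := by
    have h1 : w = k⁻¹ * (c * x * c⁻¹ * x) * (x⁻¹ * k * x) := by
      rw [hw, hg]; group
    rw [h1]
    have h2 : x⁻¹ * k * x ∈ N := by
      have := ‹N.Normal›.conj_mem k hkN x⁻¹
      simpa using this
    exact N.mul_mem (N.mul_mem (N.inv_mem hkN) hcx) h2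
  have hw1 : w = 1 := by
    have h1 : orderOf w ∣ orderOf x := by
      rw [← hcardA]
      have := orderOf_dvd_natCard (⟨w, hwA⟩ : A)
      rwa [Subgroup.orderOf_mk] at this
    have h2 : orderOf w ∣ 2 ^ b := by
      rw [← hb]
      have := orderOf_dvd_natCard (⟨w, hwN⟩ : N)
      rwa [Subgroup.orderOf_mk] at this
    have h3 : Odd (orderOf w) := Odd.of_dvd_nat hxodd h1
    obtain ⟨j, -, hj⟩ := (Nat.dvd_prime_pow Nat.prime_two).mp h2
    have hj0 : j = 0 := by
      by_contra hne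
      have : Even (orderOf w) := by rw [hj]; exact (Nat.even_pow' hne).mpr even_two
      exact (Nat.not_even_iff_odd.mpr h3) this
    rw [hj0, pow_zero] at hj
    exact orderOf_eq_one_iff.mp hj
  have hinv : g * x * g⁻¹ = x⁻¹ := eq_inv_of_mul_eq_one_left hw1
  exact h x hx1 hxodd (isConj_iff.mpr ⟨g, hinv⟩)

theorem aux : ∀ n : ℕ, ∀ (G : Type u) [Group G] [Finite G], Nat.card G = n → NoRealOdd G →
    ∃ Q : Subgroup G, Q.Normal ∧ IsPGroup 2 Q ∧ ¬ 2 ∣ Q.index := by
  intro n
  induction n using Nat.strong_induction_on with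
  | _ n ih =>
    intro G _ _ hcard h
    have : Fact (Nat.Prime 2) := ⟨Nat.prime_two⟩
    by_cases h2 : 2 ∣ Nat.card G
    · obtain ⟨t, ht⟩ := exists_prime_orderOf_dvd_card' 2 h2
      have htt : t * t = 1 := by
        rw [← pow_two, ← ht]; exact pow_orderOf_eq_one t
      have ht1 : t ≠ 1 := by
        intro h1; rw [h1, orderOf_one] at ht; omega
      set O : Subgroup G := ⨅ P : Sylow 2 G, (P : Subgroup G) with hO
      have hOn : O.Normal := Cfsg.Agent.Helper16.iInf_sylow_normal 2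
      have hOp : IsPGroup 2 O := Cfsg.Agent.Helper16.iInf_sylow_isPGroup 2
      have htO : t ∈ O := by
        apply Cfsg.Agent.Helper16.baer_suzuki_elt 2 t
        intro g
        have hgt : (g * t * g⁻¹) * (g * t * g⁻¹) = 1 := by
          have : (g * t * g⁻¹) * (g * t * g⁻¹) = g * (t * t) * g⁻¹ := by group
          rw [this, htt]; group
        obtain ⟨k, hk⟩ := orderOf_mul_invol h htt hgt
        exact isPGroup_closure_pair htt hgt hk
      have hO0 : O ≠ ⊥ := by
        intro h0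
        rw [h0, Subgroup.mem_bot] at htO
        exact ht1 htO
      have hlt : Nat.card (G ⧸ O) < n := by
        rw [← hcard, ← Subgroup.index_eq_card, ← Subgroup.card_mul_index O]
        have h1 : 1 < Nat.card O := by
          rw [Subgroup.one_lt_card_iff_ne_bot]; exact hO0
        have h2 : 0 < O.index := Nat.pos_of_ne_zero Subgroup.index_ne_zero_of_finite
        nlinarith
      obtain ⟨Qb, hQbn, hQbp, hQbi⟩ := ih _ hlt (G ⧸ O) rfl (noRealOdd_quotient h O hOp)
      refine ⟨Qb.comap (QuotientGroup.mk' O), hQbn.comap _, ?_, ?_⟩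
      · apply hQbp.comap_of_ker_isPGroup
        rw [QuotientGroup.ker_mk']
        exact hOp
      · rw [Subgroup.index_comap_of_surjective _ (QuotientGroup.mk'_surjective O)]
        exact hQbi
    · refine ⟨⊥, inferInstance, IsPGroup.of_bot, ?_⟩
      rw [Subgroup.index_bot]
      exact h2

theorem result {G : Type*} [Group G] [Finite G] (P : Sylow 2 G) : (∀ x : G, x ≠ 1 → Odd (orderOf x) → ¬ IsConj x x⁻¹) ↔ (P : Subgroup G).Normal := by
  have : Fact (Nat.Prime 2) := ⟨Nat.prime_two⟩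
  constructor
  · intro h
    obtain ⟨Q, hQn, hQp, hQi⟩ := aux _ G rfl h
    -- `P ≤ Q`
    have hPQ : (P : Subgroup G) ≤ Q := by
      intro x hx
      rw [← QuotientGroup.eq_one_iff]
      have h1 : orderOf ((x : G) : G ⧸ Q) ∣ Q.index := by
        rw [Subgroup.index_eq_card]; exact orderOf_dvd_natCard _
      obtain ⟨j, hj⟩ := P.isPGroup' ⟨x, hx⟩
      have hj' : x ^ 2 ^ j = 1 := congrArg Subtype.val hj
      have h2 : orderOf ((x : G) : G ⧸ Q) ∣ 2 ^ j := by
        apply orderOf_dvd_of_pow_eq_one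
        rw [← QuotientGroup.mk_pow, hj']; rfl
      have hcop : Nat.Coprime (2 ^ j) Q.index :=
        Nat.Coprime.pow_left j ((Nat.Prime.coprime_iff_not_dvd Nat.prime_two).mpr hQi)
      have h3 : orderOf ((x : G) : G ⧸ Q) ∣ 1 := by
        have := Nat.dvd_gcd h2 h1
        rwa [hcop] at this
      exact orderOf_eq_one_iff.mp (Nat.dvd_one.mp h3)
    have hEq : Q = (P : Subgroup G) := P.is_maximal' hQp hPQ
    rw [← hEq]; exact hQn
  · intro hPn x hx1 hxodd hconj
    obtain ⟨c, hc⟩ := isConj_iff.mp hconj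
    have hc2 : c ^ 2 * x = x * c ^ 2 := by
      have h1 : c ^ 2 * x * (c ^ 2)⁻¹ = c * (c * x * c⁻¹) * c⁻¹ := by
        simp only [pow_two, mul_inv_rev, mul_assoc]
      have h2 : c * x⁻¹ * c⁻¹ = (c * x * c⁻¹)⁻¹ := by group
      rw [hc, h2, hc, inv_inv] at h1
      calc c ^ 2 * x = c ^ 2 * x * (c ^ 2)⁻¹ * c ^ 2 := by
            rw [inv_mul_cancel_right]
        _ = x * c ^ 2 := by rw [h1]
    obtain ⟨k, m, hm, hn⟩ := Nat.exists_eq_two_pow_mul_odd (orderOf_pos c).ne'
    set u := c ^ m with hu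
    have huo : orderOf u = 2 ^ k := by
      have hm0 : m ≠ 0 := by
        rintro rfl
        exact (Nat.not_even_iff_odd.mpr hm) ⟨0, rfl⟩
      rw [hu, orderOf_pow_of_dvd hm0 ⟨2 ^ k, by rw [hn]; ring⟩, hn]
      exact Nat.mul_div_cancel _ (Nat.pos_of_ne_zero hm0)
    obtain ⟨j, hj⟩ := hm
    have hux : u * x * u⁻¹ = x⁻¹ := by
      have h1 : Commute (c ^ 2) x := hc2
      have h2 : Commute ((c ^ 2) ^ j) x := h1.pow_left j
      have h3 : Commute ((c ^ 2) ^ j) x⁻¹ := h2.inv_right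
      have h4 : u = (c ^ 2) ^ j * c := by rw [hu, hj, ← pow_mul, ← pow_succ]
      rw [h4]
      calc (c ^ 2) ^ j * c * x * ((c ^ 2) ^ j * c)⁻¹
          = (c ^ 2) ^ j * (c * x * c⁻¹) * ((c ^ 2) ^ j)⁻¹ := by group
        _ = (c ^ 2) ^ j * x⁻¹ * ((c ^ 2) ^ j)⁻¹ := by rw [hc]
        _ = x⁻¹ := by rw [h3.eq, mul_inv_cancel_right]
    have huP : u ∈ (P : Subgroup G) := by
      have hz : IsPGroup 2 (Subgroup.zpowers u) := isPGroup_zpowers_of_orderOf huo
      obtain ⟨P', hP'⟩ := hz.exists_le_sylow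
      obtain ⟨g, hg⟩ := MulAction.exists_smul_eq G P P'
      have hPn' : (P : Subgroup G).Normal := hPn
      have h5 : P' = P := by rw [← hg]; exact Sylow.smul_eq_of_normal
      rw [← h5]; exact hP' (Subgroup.mem_zpowers u)
    have hx2 : x * x ∈ (P : Subgroup G) := by
      have h1 : x * u * x⁻¹ ∈ (P : Subgroup G) := hPn.conj_mem u huP x
      have h2 : x * u * x⁻¹ * u⁻¹ = x * x := by
        have h3 : x * u * x⁻¹ * u⁻¹ = x * (u * x * u⁻¹)⁻¹ := by group
        rw [h3, hux, inv_inv]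
      rw [← h2]; exact Subgroup.mul_mem _ h1 (Subgroup.inv_mem _ huP)
    obtain ⟨i, hi⟩ := P.isPGroup' ⟨x * x, hx2⟩
    have hi' : (x * x) ^ 2 ^ i = 1 := congrArg Subtype.val hi
    have hxp : x ^ (2 ^ (i + 1)) = 1 := by
      rw [pow_succ, mul_comm, pow_mul, pow_two]; exact hi'
    have hd : orderOf x ∣ 2 ^ (i + 1) := orderOf_dvd_of_pow_eq_one hxp
    exact hx1 (orderOf_eq_one_iff.mp (eq_one_of_odd_of_dvd_two_pow hxodd hd))

end Cfsg.Agent.S3861
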