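import Mathlib
import Cfsg.Statements.S3862
import Cfsg.Agent.S0071
import Cfsg.Agent.S3736
import Cfsg.Agent.S3803
import Cfsg.Agent.Helper19.CoprimeQuot
import Cfsg.Agent.Lead.CoprimeFrattini
import Cfsg.Agent.Helper1.PGroup

set_option autoImplicit false
open Cfsg

namespace Cfsg.Agent.S3862

open Subgroup Cfsg.Agent.Lead Cfsg.Agent.Helper19
open scoped commutatorElement

/-- If every 2-element of the finite group G that is conjugate to its inverse lies in the centre of G, then G has a normal 2-complement. -/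
theorem result {G : Type*} [Group G] [Finite G] (h : ∀ x : G, (∃ j : ℕ, orderOf x = 2 ^ j) → IsConj x x⁻¹ → x ∈ Subgroup.center G) : Cfsg.HasNormalPComplement 2 G := by
  classical
  have hf2 : Fact (Nat.Prime 2) := ⟨Nat.prime_two⟩
  obtain ⟨P⟩ : Nonempty (Sylow 2 G) := inferInstance
  refine ⟨P, ?_⟩
  rw [Cfsg.Agent.S0071.result P]
  intro Q hQP g hg hcop2
  have hQ2 : IsPGroup 2 Q := P.2.to_le hQP
  set A : Subgroup G := zpowers g with hA
  have hAQ : A ≤ normalizer (Q : Set G) := zpowers_le.mpr hg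
  have hcop : (Nat.card A).Coprime 2 := by rw [hA, Nat.card_zpowers]; exact hcop2
  by_contra hgC
  have hne : ⁅Q, A⁆ ≠ ⊥ := by
    intro hbot
    apply hgC
    rw [mem_centralizer_iff]
    intro x hx
    have : ⁅x, g⁆ ∈ ⁅Q, A⁆ := commutator_mem_commutator hx (mem_zpowers g)
    rw [hbot, mem_bot, commutatorElement_eq_one_iff_mul_comm] at this
    exact this
  -- minimal `A`-invariant subgroup with nontrivial action
  let S : Set (Subgroup G) := {U | U ≤ Q ∧ A ≤ normalizer (U : Set G) ∧ ⁅U, A⁆ ≠ ⊥}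
  obtain ⟨D, ⟨hDQ, hAD, hDne⟩, hDmin⟩ := wellFounded_lt.has_min S ⟨Q, le_rfl, hAQ, hne⟩
  have hmin : ∀ U : Subgroup G, U < D → A ≤ normalizer (U : Set G) → ⁅U, A⁆ = ⊥ := by
    intro U hU hAU
    by_contra hUne
    exact hDmin U ⟨hU.le.trans hDQ, hAU, hUne⟩ hU
  have hD2 : IsPGroup 2 D := hQ2.to_le hDQ
  obtain ⟨hDA, hdich, -, -⟩ :=
    Cfsg.Agent.S3736.result (p := 2) A A D hD2 hAD le_rfl le_normalizer hcop hDne hmin
  -- 2-elements of `D`
  have h2elt : ∀ u ∈ D, ∃ j : ℕ, orderOf u = 2 ^ j := by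
    intro u hu
    obtain ⟨j, hj⟩ := (IsPGroup.iff_orderOf.mp hD2) ⟨u, hu⟩
    rw [Subgroup.orderOf_mk] at hj
    exact ⟨j, hj⟩
  -- real elements of `D` commute with `g`
  have hreal : ∀ u ∈ D, IsConj u u⁻¹ → ∀ y : G, y * u = u * y := by
    intro u hu hconj y
    exact Subgroup.mem_center_iff.mp (h u (h2elt u hu) hconj) y
  rcases hdich with ⟨_, hexp⟩ | hs
  · -- elementary abelian: all elements are involutions, hence real
    apply hDne
    rw [eq_bot_iff, commutator_le]
    intro x hx a ha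
    rw [mem_bot, commutatorElement_eq_one_iff_mul_comm]
    have hxinv : x⁻¹ = x := by
      have := hexp x hx
      rw [pow_two] at this
      exact inv_eq_of_mul_eq_one_left this
    exact (hreal x hx (by rw [hxinv]) a).symm
  · -- special
    set Z : Subgroup G := (center ↥D).map D.subtype with hZ
    have hmemZ : ∀ x, x ∈ Z ↔ x ∈ D ∧ ∀ y ∈ D, y * x = x * y :=
      Cfsg.Agent.S3736.mem_map_center_iff D
    have hZD : Z ≤ D := map_subtype_le _
    have hNZ : normalizer (D : Set G) ≤ normalizer (Z : Set G) :=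
      normalizer_le_normalizer_map_of_characteristic D (center ↥D)
    have hAZ : A ≤ normalizer (Z : Set G) := hAD.trans hNZ
    have hDZn : D ≤ normalizer (Z : Set G) := le_normalizer.trans hNZ
    have hΦZ : frattini ↥D = center ↥D := hs.2.1
    have hZne : Z ≠ D := by
      intro hZeq
      have hZtop : center ↥D = ⊤ := by
        rw [eq_top_iff]
        intro x _
        have : (x : G) ∈ Z := by rw [hZeq]; exact x.2
        obtain ⟨y, hy, hyx⟩ := this
        have : y = x := Subtype.ext hyx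
        exact this ▸ hy
      have hbot : (⊥ : Subgroup ↥D) = ⊤ :=
        frattini_nongenerating (by rw [hΦZ, hZtop, bot_sup_eq])
      apply hDne
      rw [eq_bot_iff, commutator_le]
      intro x hx a ha
      have hx1 : (⟨x, hx⟩ : ↥D) ∈ (⊥ : Subgroup ↥D) := by rw [hbot]; exact mem_top _
      rw [mem_bot] at hx1
      have : x = 1 := congrArg Subtype.val hx1
      rw [this]; simp
    have hZA : ⁅Z, A⁆ = ⊥ := hmin Z (lt_of_le_of_ne hZD hZne) hAZ
    obtain ⟨d, hdD, hdZ⟩ : ∃ d, d ∈ D ∧ d ∉ Z := by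
      by_contra hall
      push Not at hall
      exact hZne (le_antisymm hZD hall)
    have hd2Z : d ^ 2 ∈ Z := by
      have : (⟨d, hdD⟩ : ↥D) ^ 2 ∈ frattini ↥D := Helper1.IsPGroup.pow_mem_frattini hD2 ⟨d, hdD⟩
      rw [hΦZ] at this
      exact ⟨_, this, rfl⟩
    have hd4 : (d ^ 2) ^ 2 = 1 := by
      have := Cfsg.Agent.S3803.special_pow hs ⟨d, hdD⟩
      exact congrArg Subtype.val this
    have hgd2 : g * d ^ 2 * g⁻¹ = d ^ 2 := by
      have : ⁅d ^ 2, g⁆ ∈ ⁅Z, A⁆ := commutator_mem_commutator hd2Z (mem_zpowers g)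
      rw [hZA, mem_bot, commutatorElement_eq_one_iff_mul_comm] at this
      rw [← this, mul_inv_cancel_right]
    have hd' : g * d * g⁻¹ ∈ D := (mem_normalizer_iff.mp (hAD (mem_zpowers g)) d).mp hdD
    set u := d * (g * d * g⁻¹) with hu
    have huD : u ∈ D := D.mul_mem hdD hd'
    have hconj : d * u * d⁻¹ = u⁻¹ := by
      rw [eq_inv_iff_mul_eq_one]
      have e1 : d * u * d⁻¹ * u = d ^ 2 * (g * d ^ 2 * g⁻¹) := by
        rw [hu, pow_two]; group
      rw [e1, hgd2, ← pow_two, hd4]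
    have hureal : IsConj u u⁻¹ := isConj_iff.mpr ⟨d, hconj⟩
    have hucent := hreal u huD hureal
    have huZ : u ∈ Z := (hmemZ u).mpr ⟨huD, fun y _ => hucent y⟩
    -- then `[d,g] ∈ Z`
    have hdg : ⁅d, g⁆ ∈ Z := by
      have e1 : ⁅d, g⁆ = d * u⁻¹ * d := by
        rw [commutatorElement_def, hu]; group
      have e2 : d * u⁻¹ = u⁻¹ * d := by
        have h3 := hucent d
        rw [eq_comm, inv_mul_eq_iff_eq_mul, ← mul_assoc, ← h3, mul_inv_cancel_right]
      rw [e1, e2, mul_assoc, ← pow_two]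
      exact Z.mul_mem (Z.inv_mem huZ) hd2Z
    have hall := forall_zpowers_commutator_mem Z d g (hAZ (mem_zpowers g)) hdg
    have hcopD : (Nat.card A).Coprime (Nat.card D) := by
      obtain ⟨n, hn⟩ := IsPGroup.iff_card.mp hD2
      rw [hn]; exact Nat.Coprime.pow_right n hcop
    have hab : ∀ x ∈ D, ∀ y ∈ D, ⁅x, y⁆ ∈ Z := by
      intro x hx y hy
      have hc : ⁅(⟨x, hx⟩ : ↥D), ⟨y, hy⟩⁆ ∈ frattini ↥D := by
        apply Helper1.IsPGroup.commutator_le_frattini hD2
        rw [_root_.commutator_def]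
        exact commutator_mem_commutator (mem_top _) (mem_top _)
      rw [hΦZ] at hc
      exact ⟨_, hc, rfl⟩
    have := mem_of_forall_commutator_mem_of_abelian_section A D Z hDZn hAZ hAD hab hcopD
      (by rw [hDA]; exact le_sup_left) d hdD hall
    exact hdZ this

end Cfsg.Agent.S3862
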