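import Mathlib
import Cfsg.Statements.S3863
import Cfsg.Agent.Helper19.Basic

set_option autoImplicit false
open Cfsg

namespace Cfsg.Agent.S3863

/-- If `g` inverts `x` then `g ^ 2` centralizes `x`, so every odd power of `g` inverts `x`. -/
lemma pow_inverts {G : Type*} [Group G] {g x : G} (h : g * x * g⁻¹ = x⁻¹) (i : ℕ) :
    g ^ (2 * i + 1) * x * (g ^ (2 * i + 1))⁻¹ = x⁻¹ := by
  have h2 : g ^ 2 * x * (g ^ 2)⁻¹ = x := by
    have : g ^ 2 * x * (g ^ 2)⁻¹ = g * (g * x * g⁻¹) * g⁻¹ := by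
      simp [pow_two, mul_assoc]
    rw [this, h]
    have : g * x⁻¹ * g⁻¹ = (g * x * g⁻¹)⁻¹ := by group
    rw [this, h, inv_inv]
  have h3 : ∀ i : ℕ, g ^ (2 * i) * x * (g ^ (2 * i))⁻¹ = x := by
    intro i
    induction i with
    | zero => simp
    | succ n ih =>
      have : g ^ (2 * (n + 1)) * x * (g ^ (2 * (n + 1)))⁻¹
          = g ^ 2 * (g ^ (2 * n) * x * (g ^ (2 * n))⁻¹) * (g ^ 2)⁻¹ := by
        have e : g ^ (2 * (n + 1)) = g ^ 2 * g ^ (2 * n) := by
          rw [← pow_add]; congr 1; ring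
        rw [e]; group
      rw [this, ih, h2]
  have : g ^ (2 * i + 1) * x * (g ^ (2 * i + 1))⁻¹
      = g * (g ^ (2 * i) * x * (g ^ (2 * i))⁻¹) * g⁻¹ := by
    have e : g ^ (2 * i + 1) = g * g ^ (2 * i) := by rw [pow_succ']
    rw [e]; group
  rw [this, h3, h]

/-- A real element is inverted by a 2-element. -/
lemma exists_two_elt {G : Type*} [Group G] [Finite G] {x : G} (hx : IsConj x x⁻¹) :
    ∃ t : G, (∃ j : ℕ, orderOf t = 2 ^ j) ∧ t * x * t⁻¹ = x⁻¹ := by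
  obtain ⟨g, hg⟩ := isConj_iff.mp hx
  obtain ⟨k, m, hm, hkm⟩ := Nat.exists_eq_two_pow_mul_odd (orderOf_pos g).ne'
  obtain ⟨i, rfl⟩ := hm
  refine ⟨g ^ (2 * i + 1), ⟨k, ?_⟩, pow_inverts hg i⟩
  rw [orderOf_pow' g (by omega), hkm, Nat.gcd_mul_left_left]
  exact Nat.mul_div_cancel _ (by omega)

/-- In a quotient of odd order, an element of 2-power order is trivial. -/
lemma quot_eq_one {G : Type*} [Group G] [Finite G] (N : Subgroup G) [N.Normal] (hN : Odd N.index)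
    {q : G ⧸ N} {j : ℕ} (hq : q ^ (2 ^ j) = 1) : q = 1 := by
  rw [← orderOf_eq_one_iff]
  have h1 : orderOf q ∣ 2 ^ j := orderOf_dvd_of_pow_eq_one hq
  have h2 : orderOf q ∣ N.index := by
    rw [Subgroup.index_eq_card]; exact orderOf_dvd_natCard _
  have hc : Nat.Coprime (2 ^ j) N.index :=
    Nat.Coprime.pow_left _ (Nat.coprime_two_left.mpr hN)
  exact Nat.eq_one_of_dvd_coprimes hc h1 h2

/-- In a finite group, a 2-element lies in every normal subgroup of odd index. -/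
lemma two_elt_mem {G : Type*} [Group G] [Finite G] (N : Subgroup G) [N.Normal] (hN : Odd N.index)
    {t : G} {j : ℕ} (ht : t ^ (2 ^ j) = 1) : t ∈ N := by
  rw [← QuotientGroup.eq_one_iff]
  apply quot_eq_one N hN (j := j)
  rw [← QuotientGroup.mk_pow, ht]; rfl

lemma index_centralizer_eq {G : Type*} [Group G] (x : G) :
    (Subgroup.centralizer ({x} : Set G)).index = (MulAction.orbit (ConjAct G) x).ncard := by
  rw [← MulAction.index_stabilizer, Subgroup.centralizer_eq_comap_stabilizer]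
  exact Subgroup.index_comap_of_surjective _ (ConjAct.toConjAct (G := G)).surjective

lemma sq_eq_one_of_odd {G : Type*} [Group G] [Finite G] {x : G} (hx : IsConj x x⁻¹)
    (hodd : Odd (Subgroup.centralizer ({x} : Set G)).index) : x ^ 2 = 1 := by
  classical
  rw [index_centralizer_eq] at hodd
  set S := MulAction.orbit (ConjAct G) x with hS
  have : Fintype S := Fintype.ofFinite _
  have hinv : ∀ y : G, y ∈ S → y⁻¹ ∈ S := by
    intro y hy
    rw [hS, ConjAct.mem_orbit_conjAct] at hy ⊢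
    -- y ~ x, so y⁻¹ ~ x⁻¹ ~ x
    have h1 : IsConj y⁻¹ x⁻¹ := by
      obtain ⟨c, hc⟩ := isConj_iff.mp hy
      exact isConj_iff.mpr ⟨c, by rw [← hc]; group⟩
    exact h1.trans hx.symm
  let σ : Equiv.Perm S :=
    { toFun := fun y => ⟨(y : G)⁻¹, hinv _ y.2⟩
      invFun := fun y => ⟨(y : G)⁻¹, hinv _ y.2⟩
      left_inv := fun y => by simp
      right_inv := fun y => by simp }
  have hσ : σ ^ 2 ^ 1 = 1 := by
    ext y; simp [σ, pow_two]
  have hcard : ¬ 2 ∣ Fintype.card S := by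
    rw [← Nat.card_eq_fintype_card, Nat.card_coe_set_eq]
    exact Nat.two_dvd_ne_zero.mpr (Nat.odd_iff.mp hodd)
  have : Fact (Nat.Prime 2) := ⟨Nat.prime_two⟩
  obtain ⟨y, hy⟩ := Equiv.Perm.exists_fixed_point_of_prime hcard hσ
  have hy' : (y : G)⁻¹ = y := congrArg Subtype.val hy
  have hy2 : (y : G) ^ 2 = 1 := by
    rw [pow_two]; nth_rewrite 1 [← hy']; simp
  have hyS : IsConj (y : G) x := by
    exact ConjAct.mem_orbit_conjAct.mp y.2
  obtain ⟨c, hc⟩ := isConj_iff.mp hyS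
  rw [← hc]
  rw [conj_pow, hy2]; group

theorem result {G : Type*} [Group G] [Finite G] (x : G) (hx : IsConj x x⁻¹) : (∃ t : G, (∃ j : ℕ, orderOf t = 2 ^ j) ∧ t * x * t⁻¹ = x⁻¹) ∧ (Odd (Subgroup.centralizer ({x} : Set G)).index → x ^ 2 = 1) ∧ ∀ (N : Subgroup G) [N.Normal], Odd N.index → ∃ hxN : x ∈ N, IsConj (⟨x, hxN⟩ : N) (⟨x, hxN⟩ : N)⁻¹ := by
  refine ⟨exists_two_elt hx, sq_eq_one_of_odd hx, ?_⟩
  intro N _ hN
  obtain ⟨t, ⟨j, hj⟩, ht⟩ := exists_two_elt hx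
  have htN : t ∈ N := two_elt_mem N hN (j := j) (by rw [← hj]; exact pow_orderOf_eq_one t)
  -- the image of x in G ⧸ N equals its inverse
  have hxbar : (x : G ⧸ N) = (x : G ⧸ N)⁻¹ := by
    have h1 : ((t * x * t⁻¹ : G) : G ⧸ N) = ((x⁻¹ : G) : G ⧸ N) := by rw [ht]
    have h2 : (t : G ⧸ N) = 1 := (QuotientGroup.eq_one_iff t).mpr htN
    simpa [QuotientGroup.mk_mul, QuotientGroup.mk_inv, h2] using h1
  have hxN : x ∈ N := by
    rw [← QuotientGroup.eq_one_iff]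
    apply quot_eq_one N hN (j := 1)
    rw [pow_one, pow_two]
    nth_rewrite 1 [hxbar]
    simp
  refine ⟨hxN, isConj_iff.mpr ⟨⟨t, htN⟩, ?_⟩⟩
  apply Subtype.ext
  simpa using ht

end Cfsg.Agent.S3863
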