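import Mathlib
import Cfsg.Statements.S3866

set_option autoImplicit false
open Cfsg

namespace Cfsg.Agent.S3866

section
variable {G : Type*} [Group G] (A : Subgroup G) [A.Normal] (hA : IsMulCommutative A) (x : G)

omit [A.Normal] in
lemma comm_of_mem (hA : IsMulCommutative A) {a b : G} (ha : a ∈ A) (hb : b ∈ A) : a * b = b * a := by
  have := hA.is_comm.comm (⟨a, ha⟩ : A) ⟨b, hb⟩
  exact congrArg Subtype.val this

lemma theta_mem {a : G} (ha : a ∈ A) : x * a * x⁻¹ * a⁻¹ ∈ A :=
  A.mul_mem (Subgroup.Normal.conj_mem inferInstance a ha x) (A.inv_mem ha)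

include hA in
lemma theta_mul {a b : G} (ha : a ∈ A) (hb : b ∈ A) :
    x * (a * b) * x⁻¹ * (a * b)⁻¹ = (x * a * x⁻¹ * a⁻¹) * (x * b * x⁻¹ * b⁻¹) := by
  have h1 : (x * b * x⁻¹ * b⁻¹) * a⁻¹ = a⁻¹ * (x * b * x⁻¹ * b⁻¹) :=
    comm_of_mem A hA (theta_mem A x hb) (A.inv_mem ha)
  calc x * (a * b) * x⁻¹ * (a * b)⁻¹ = (x * a * x⁻¹) * ((x * b * x⁻¹ * b⁻¹) * a⁻¹) := by group
    _ = (x * a * x⁻¹) * (a⁻¹ * (x * b * x⁻¹ * b⁻¹)) := by rw [h1]
    _ = _ := by group

/-- The commutator map `a ↦ [x, a]` as a homomorphism `A →* G`. -/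
def thetaHom : A →* G where
  toFun a := x * a * x⁻¹ * (a : G)⁻¹
  map_one' := by simp
  map_mul' a b := by
    simpa using theta_mul A hA x a.2 b.2

lemma thetaHom_apply (a : A) : thetaHom A hA x a = x * a * x⁻¹ * (a : G)⁻¹ := rfl

lemma range_le : (thetaHom A hA x).range ≤ A := by
  rintro _ ⟨a, rfl⟩
  exact theta_mem A x a.2

lemma mem_range_iff {c : G} : c ∈ (thetaHom A hA x).range ↔ ∃ a ∈ A, x * a * x⁻¹ * a⁻¹ = c := by
  constructor
  · rintro ⟨a, rfl⟩; exact ⟨a, a.2, rfl⟩
  · rintro ⟨a, ha, rfl⟩; exact ⟨⟨a, ha⟩, rfl⟩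

variable [Finite G]

omit [Finite G] in
lemma A_le_normalizer :
    A ≤ Subgroup.normalizer ((thetaHom A hA x).range : Set G) := by
  rw [Subgroup.le_normalizer_iff]
  intro b hb k hk
  have hkA : k ∈ A := range_le A hA x hk
  have : b * k * b⁻¹ = k := by
    rw [comm_of_mem A hA hb hkA]; group
  rw [this]; exact hk

lemma x_mem_normalizer :
    x ∈ Subgroup.normalizer ((thetaHom A hA x).range : Set G) := by
  apply Subgroup.mem_normalizer_fintype
  rintro _ ⟨a, rfl⟩
  refine ⟨⟨x * a * x⁻¹, Subgroup.Normal.conj_mem inferInstance (a : G) a.2 x⟩, ?_⟩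
  simp only [thetaHom_apply]
  group

include hA in
lemma range_normal (hgen : A ⊔ Subgroup.zpowers x = ⊤) : (thetaHom A hA x).range.Normal := by
  rw [← Subgroup.normalizer_eq_top_iff, eq_top_iff, ← hgen, sup_le_iff]
  exact ⟨A_le_normalizer A hA x, (Subgroup.zpowers_le).mpr (x_mem_normalizer A hA x)⟩

lemma commutator_le_range (hgen : A ⊔ Subgroup.zpowers x = ⊤) :
    commutator G ≤ (thetaHom A hA x).range := by
  have := range_normal A hA x hgen
  set K := (thetaHom A hA x).range with hK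
  rw [← Subgroup.Normal.quotient_commutative_iff_commutator_le]
  -- the centralizer in the quotient of the image of `u`, pulled back to `G`
  have key : ∀ u : G, (∀ a ∈ A, (QuotientGroup.mk' K a) * (QuotientGroup.mk' K u) =
      (QuotientGroup.mk' K u) * (QuotientGroup.mk' K a)) →
      (QuotientGroup.mk' K x) * (QuotientGroup.mk' K u) =
      (QuotientGroup.mk' K u) * (QuotientGroup.mk' K x) →
      ∀ g : G, (QuotientGroup.mk' K g) * (QuotientGroup.mk' K u) =
      (QuotientGroup.mk' K u) * (QuotientGroup.mk' K g) := by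
    intro u h1 h2 g
    have hle : A ⊔ Subgroup.zpowers x ≤
        (Subgroup.centralizer {QuotientGroup.mk' K u}).comap (QuotientGroup.mk' K) := by
      rw [sup_le_iff]
      constructor
      · intro a ha
        rw [Subgroup.mem_comap, Subgroup.mem_centralizer_singleton_iff]
        exact h1 a ha
      · rw [Subgroup.zpowers_le, Subgroup.mem_comap, Subgroup.mem_centralizer_singleton_iff]
        exact h2
    have hg : g ∈ A ⊔ Subgroup.zpowers x := by rw [hgen]; trivial
    have := hle hg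
    rwa [Subgroup.mem_comap, Subgroup.mem_centralizer_singleton_iff] at this
  -- `x` and `a ∈ A` commute modulo `K`
  have hxa : ∀ a ∈ A, (QuotientGroup.mk' K x) * (QuotientGroup.mk' K a) =
      (QuotientGroup.mk' K a) * (QuotientGroup.mk' K x) := by
    intro a ha
    rw [← map_mul, ← map_mul, QuotientGroup.mk'_apply, QuotientGroup.mk'_apply, QuotientGroup.eq]
    have : (x * a)⁻¹ * (a * x) ∈ K := by
      -- conjugate of θ(a)⁻¹
      have h1 : x * a * x⁻¹ * a⁻¹ ∈ K := (mem_range_iff A hA x).mpr ⟨a, ha, rfl⟩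
      have h2 := Subgroup.Normal.conj_mem inferInstance _ (K.inv_mem h1) (x * a)⁻¹
      convert h2 using 1
      group
    exact this
  have haa : ∀ a ∈ A, ∀ b ∈ A, (QuotientGroup.mk' K a) * (QuotientGroup.mk' K b) =
      (QuotientGroup.mk' K b) * (QuotientGroup.mk' K a) := by
    intro a ha b hb
    rw [← map_mul, ← map_mul, comm_of_mem A hA ha hb]
  have hcentA : ∀ b ∈ A, ∀ g : G, (QuotientGroup.mk' K g) * (QuotientGroup.mk' K b) =
      (QuotientGroup.mk' K b) * (QuotientGroup.mk' K g) := by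
    intro b hb
    exact key b (fun a ha => haa a ha b hb) (hxa b hb)
  have hcentx : ∀ g : G, (QuotientGroup.mk' K g) * (QuotientGroup.mk' K x) =
      (QuotientGroup.mk' K x) * (QuotientGroup.mk' K g) :=
    key x (fun a ha => (hxa a ha).symm) rfl
  refine ⟨⟨fun p q => ?_⟩⟩
  obtain ⟨g, rfl⟩ := QuotientGroup.mk'_surjective K p
  obtain ⟨h, rfl⟩ := QuotientGroup.mk'_surjective K q
  exact (key h (fun a ha => (hcentA a ha h).symm) (hcentx h).symm g)

end

theorem result {G : Type*} [Group G] [Finite G] (A : Subgroup G) [A.Normal] (hA : IsMulCommutative A) (x : G) (hgen : A ⊔ Subgroup.zpowers x = ⊤) : (∀ a ∈ A, x * a * x⁻¹ * a⁻¹ ∈ commutator G) ∧ (∀ c ∈ commutator G, ∃ a ∈ A, x * a * x⁻¹ * a⁻¹ = c) ∧ (∀ a ∈ A, ∀ b ∈ A, x * (a * b) * x⁻¹ * (a * b)⁻¹ = (x * a * x⁻¹ * a⁻¹) * (x * b * x⁻¹ * b⁻¹)) ∧ Nat.card (commutator G) * Nat.card ↥(A ⊓ Subgroup.centralizer ({x} : Set G)) = Nat.card A := by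
  have h1 : ∀ a ∈ A, x * a * x⁻¹ * a⁻¹ ∈ commutator G := by
    intro a _
    rw [commutator_def]
    exact Subgroup.commutator_mem_commutator (Subgroup.mem_top x) (Subgroup.mem_top a)
  have heq : commutator G = (thetaHom A hA x).range := by
    apply le_antisymm (commutator_le_range A hA x hgen)
    rintro _ ⟨a, rfl⟩
    exact h1 a a.2
  refine ⟨h1, ?_, fun a ha b hb => theta_mul A hA x ha hb, ?_⟩
  · intro c hc
    rw [heq] at hc
    exact (mem_range_iff A hA x).mp hc
  · rw [heq]
    have hker : Nat.card (thetaHom A hA x).ker = Nat.card ↥(A ⊓ Subgroup.centralizer ({x} : Set G)) := by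
      have hk : (thetaHom A hA x).ker = (A ⊓ Subgroup.centralizer ({x} : Set G)).subgroupOf A := by
        ext a
        rw [MonoidHom.mem_ker, thetaHom_apply, Subgroup.mem_subgroupOf, Subgroup.mem_inf,
          Subgroup.mem_centralizer_singleton_iff]
        constructor
        · intro h
          refine ⟨a.2, ?_⟩
          have : x * a * x⁻¹ = a := by
            rw [← mul_inv_eq_one]; exact h
          calc (a : G) * x = (x * a * x⁻¹) * x := by rw [this]
            _ = x * a := by group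
        · rintro ⟨-, h⟩
          rw [← h]; group
      rw [hk]
      exact Nat.card_congr (Subgroup.subgroupOfEquivOfLe inf_le_left).toEquiv
    rw [← hker, Subgroup.card_eq_card_quotient_mul_card_subgroup (thetaHom A hA x).ker]
    congr 1
    exact (Nat.card_congr (QuotientGroup.quotientKerEquivRange (thetaHom A hA x)).toEquiv).symm

end Cfsg.Agent.S3866
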