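import Mathlib
import Cfsg.Statements.S3868
import Cfsg.Agent.Helper19.MinNonClosed

set_option autoImplicit false
open Cfsg

namespace Cfsg.Agent.S3868

open Subgroup Cfsg.Agent.Helper19

/-- If `G ⧸ K` is `p`-closed then `P ⊔ K` is normal for a Sylow `p`-subgroup `P`. -/
lemma sup_normal_of_quot_pclosed {G : Type*} [Group G] [Finite G] {p : ℕ} [Fact p.Prime]
    (P : Sylow p G) (K : Subgroup G) [K.Normal]
    (h : Cfsg.IsPClosed p (G ⧸ K)) : ((P : Subgroup G) ⊔ K).Normal := by
  have hs : Function.Surjective (QuotientGroup.mk' K) := QuotientGroup.mk'_surjective K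
  have h1 := h (P.mapSurjective hs)
  have h2 : ((P.mapSurjective hs : Subgroup (G ⧸ K)).comap (QuotientGroup.mk' K)).Normal :=
    h1.comap _
  rw [Sylow.coe_mapSurjective, comap_map_eq, QuotientGroup.ker_mk'] at h2
  exact h2

/-- A Sylow `p`-subgroup of `G` inside a normal `p`-closed subgroup is normal in `G`. -/
lemma normal_of_le_pclosed_normal {G : Type*} [Group G] [Finite G] {p : ℕ} [Fact p.Prime]
    (P : Sylow p G) (H : Subgroup G) [H.Normal]
    (hPH : (P : Subgroup G) ≤ H) (h : Cfsg.IsPClosed p H) : (P : Subgroup G).Normal := by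
  have h1 := h (P.subtype hPH)
  have h2 : ((P.subtype hPH : Sylow p H) : Subgroup H).Characteristic :=
    Sylow.characteristic_of_normal _ h1
  have h3 : (((P.subtype hPH : Sylow p H) : Subgroup H).map H.subtype).Normal :=
    ConjAct.normal_of_characteristic_of_normal
  rw [Sylow.coe_subtype, Subgroup.map_subgroupOf_eq_of_le hPH] at h3
  exact h3

/-- Structure of the non-simple minimal non-p-closed groups. Call a finite group p-closed when its Sylow p-subgroups are normal, and minimal non-p-closed when it is not p-closed but every proper subgroup and every proper quotient is. If such a group G is not simple, then there is a prime q ≠ p such that G has order p · q^e, where e is the multiplicative order of q modulo p, and G has a normal subgroup A of order q^e that is elementary abelian and is a minimal normal subgroup of G (so G is the semidirect product of A by a group of order p acting irreducibly). -/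
theorem result {G : Type*} [Group G] [Finite G] {p : ℕ} [Fact p.Prime]
    (hnc : ¬ Cfsg.IsPClosed p G) (hsub : ∀ H : Subgroup G, H ≠ ⊤ → Cfsg.IsPClosed p ↥H)
    (hquo : ∀ (N : Subgroup G) [N.Normal], N ≠ ⊥ → Cfsg.IsPClosed p (G ⧸ N)) (hns : ¬ IsSimpleGroup G) :
    ∃ q : ℕ, q.Prime ∧ q ≠ p ∧ Nat.card G = p * q ^ orderOf (q : ZMod p) ∧
      ∃ A : Subgroup G, A.Normal ∧ Nat.card ↥A = q ^ orderOf (q : ZMod p) ∧ Cfsg.IsElementaryAbelian q A ∧
        ∀ B : Subgroup G, B.Normal → B ≤ A → B = ⊥ ∨ B = A := by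
  classical
  have hp : p.Prime := Fact.out
  unfold Cfsg.IsPClosed at hnc
  push Not at hnc
  obtain ⟨P, hP⟩ := hnc
  have hnt : Nontrivial G := by
    by_contra h
    rw [not_nontrivial_iff_subsingleton] at h
    apply hP
    have : (P : Subgroup G) = ⊤ := Subsingleton.elim _ _
    rw [this]; infer_instance
  obtain ⟨N, hNn, hNbot, hNtop, hNmin⟩ := exists_minimal_normal_of_not_simple hnt hns
  haveI := hNn
  have hPNn : ((P : Subgroup G) ⊔ N).Normal := sup_normal_of_quot_pclosed P N (hquo N hNbot)
  have hPN : (P : Subgroup G) ⊔ N = ⊤ := by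
    by_contra hne
    exact hP (normal_of_le_pclosed_normal P _ le_sup_left (hsub _ hne))
  -- p ∤ |N|
  have hNp : ¬ p ∣ Nat.card N := by
    intro hdvd
    have hNcl := hsub N hNtop
    obtain ⟨S⟩ : Nonempty (Sylow p N) := inferInstance
    have hSn := hNcl S
    have hSc : (S : Subgroup N).Characteristic := Sylow.characteristic_of_normal _ hSn
    have hSG : ((S : Subgroup N).map N.subtype).Normal :=
      ConjAct.normal_of_characteristic_of_normal
    rcases hNmin _ hSG (map_subtype_le _) with h | h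
    · rw [map_eq_bot_iff_of_injective _ N.subtype_injective] at h
      exact Sylow.ne_bot_of_dvd_card S hdvd h
    · have hNpg : IsPGroup p N := by
        have h3 : IsPGroup p ((S : Subgroup N).map N.subtype) := S.2.map N.subtype
        rwa [h] at h3
      have hsup : IsPGroup p ((P : Subgroup G) ⊔ N : Subgroup G) :=
        IsPGroup.to_sup_of_normal_right P.2 hNpg
      have : (P : Subgroup G) ⊔ N = P := P.3 hsup le_sup_left
      rw [hPN] at this
      apply hP
      rw [← this]; infer_instance
  have hPne : (P : Subgroup G) ≠ ⊥ := by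
    intro h
    apply hP
    rw [h]; infer_instance
  -- h1
  have h1 : ∀ Q M : Subgroup G, Q ≤ P → M ≤ N → Q ≤ normalizer (M : Set G) → Q ⊔ M ≠ ⊤ →
      Q ≤ centralizer (M : Set G) := by
    intro Q M hQP hMN hQM hne
    have hH := hsub _ hne
    obtain ⟨S⟩ : Nonempty (Sylow p (Q ⊔ M : Subgroup G)) := inferInstance
    have hSn := hH S
    have hQpg : IsPGroup p Q := P.2.to_le hQP
    have hQS : Q ≤ (S : Subgroup (Q ⊔ M : Subgroup G)).map (Q ⊔ M).subtype :=
      le_map_of_normal_sylow S hSn hQpg le_sup_left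
    have hSpg : IsPGroup p ((S : Subgroup (Q ⊔ M : Subgroup G)).map (Q ⊔ M).subtype) := S.2.map _
    have hHS : ∀ h ∈ Q ⊔ M, ∀ s ∈ (S : Subgroup (Q ⊔ M : Subgroup G)).map (Q ⊔ M).subtype,
        h * s * h⁻¹ ∈ (S : Subgroup (Q ⊔ M : Subgroup G)).map (Q ⊔ M).subtype := by
      rintro h hh s ⟨s', hs', rfl⟩
      exact ⟨⟨h, hh⟩ * s' * ⟨h, hh⟩⁻¹, hSn.conj_mem s' hs' ⟨h, hh⟩, by simp⟩
    intro a ha
    rw [mem_centralizer_iff]
    intro m hm
    have hc1 : a * m * a⁻¹ * m⁻¹ ∈ M :=
      M.mul_mem ((mem_normalizer_iff.mp (hQM ha) m).mp hm) (M.inv_mem hm)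
    have hc2 : a * m * a⁻¹ * m⁻¹ ∈ (S : Subgroup (Q ⊔ M : Subgroup G)).map (Q ⊔ M).subtype := by
      have : a * m * a⁻¹ * m⁻¹ = a * (m * a⁻¹ * m⁻¹) := by group
      rw [this]
      exact mul_mem (hQS ha) (hHS m (le_sup_right (a := Q) hm) a⁻¹ (inv_mem (hQS ha)))
    have h3 := eq_one_of_mem_pgroup_of_mem_pprime hSpg hNp hc2 (hMN hc1)
    rw [mul_inv_eq_one, mul_inv_eq_iff_eq_mul] at h3
    exact h3.symm
  -- h2
  have h2 : (P : Subgroup G) ⊓ centralizer (N : Set G) = ⊥ := by
    by_contra hD
    have hDn : ((P : Subgroup G) ⊓ centralizer (N : Set G)).Normal := by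
      rw [← normalizer_eq_top_iff, eq_top_iff, ← hPN]
      apply sup_le
      · intro x hx
        apply mem_normalizer_of_forall
        rintro d ⟨hd1, hd2⟩
        exact ⟨(P : Subgroup G).mul_mem ((P : Subgroup G).mul_mem hx hd1) ((P : Subgroup G).inv_mem hx),
          (normal_centralizer (H := N)).conj_mem d hd2 x⟩
      · intro n hn
        apply mem_normalizer_of_forall
        rintro d hd
        have : n * d * n⁻¹ = d := by
          have := (mem_centralizer_iff.mp hd.2) n hn
          rw [this, mul_inv_cancel_right]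
        rw [this]; exact hd
    haveI := hDn
    have h3 := sup_normal_of_quot_pclosed P _ (hquo _ hD)
    have : (P : Subgroup G) ⊔ ((P : Subgroup G) ⊓ centralizer (N : Set G)) = P :=
      sup_eq_left.mpr inf_le_left
    rw [this] at h3
    exact hP h3
  obtain ⟨q, hq, hqp, hG, hNcard, hcomm, hexp⟩ :=
    minNonClosed_structure N hNmin hNp P hPN hPne h1 h2
  exact ⟨q, hq, hqp, hG, N, hNn, hNcard,
    ⟨⟨⟨fun a b => Subtype.ext (hcomm a a.2 b b.2)⟩⟩, hexp⟩, hNmin⟩

end Cfsg.Agent.S3868
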