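import Mathlib
import Cfsg.Statements.S3869
import Cfsg.Agent.Helper19.IrrCyclic

set_option autoImplicit false
open Cfsg

namespace Cfsg.Agent.S3869

open Subgroup

/-- A subgroup of a finite group whose order is divisible by the coprime numbers `m` and `n`
with `m * n = |G|` is everything. -/
theorem eq_top_of_dvd_dvd {G : Type*} [Group G] [Finite G] (K : Subgroup G) (m n : ℕ)
    (hmn : m * n = Nat.card G) (hcop : m.Coprime n) (hm : m ∣ Nat.card K) (hn : n ∣ Nat.card K) :
    K = ⊤ := by
  apply Subgroup.eq_top_of_le_card
  rw [← hmn]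
  exact Nat.le_of_dvd Nat.card_pos (Nat.Coprime.mul_dvd_of_dvd_of_dvd hcop hm hn)

/-- A group all of whose elements commute is `p`-closed. -/
theorem isPClosed_of_comm {H : Type*} [Group H] (p : ℕ) (h : ∀ a b : H, a * b = b * a) :
    Cfsg.IsPClosed p H := by
  intro P
  constructor
  intro n hn g
  have : g * n * g⁻¹ = n := by rw [h g n]; group
  rw [this]; exact hn

/-- A group of order `1` or a prime is `p`-closed. -/
theorem isPClosed_of_card_dvd_prime {H : Type*} [Group H] [Finite H] (p r : ℕ) (hr : r.Prime)
    (h : Nat.card H ∣ r) : Cfsg.IsPClosed p H := by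
  apply isPClosed_of_comm
  rcases (Nat.dvd_prime hr).mp h with h1 | h1
  · have : Subsingleton H := (Nat.card_eq_one_iff_unique.mp h1).1
    intro a b; exact Subsingleton.elim _ _
  · haveI : Fact r.Prime := ⟨hr⟩
    haveI : IsCyclic H := isCyclic_of_prime_card h1
    intro a b
    exact IsCyclic.commGroup.mul_comm a b

/-- Let p and q be distinct primes and G a finite non-abelian group with a normal elementary abelian q-subgroup A that is a minimal normal subgroup of G and has index p. Then A has order q^e with e the multiplicative order of q modulo p, and G is minimal non-p-closed: its Sylow p-subgroups are not normal, while in every proper subgroup and in every proper quotient of G the Sylow p-subgroups are normal. -/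
theorem result {G : Type*} [Group G] [Finite G] {p q : ℕ} [Fact p.Prime] (hq : q.Prime) (hpq : q ≠ p)
    (hna : ¬ IsMulCommutative G) (A : Subgroup G) [A.Normal] (hA : Cfsg.IsElementaryAbelian q A) (hidx : A.index = p)
    (hmin : ∀ B : Subgroup G, B.Normal → B ≤ A → B = ⊥ ∨ B = A) :
    Nat.card ↥A = q ^ orderOf (q : ZMod p) ∧ ¬ Cfsg.IsPClosed p G ∧ (∀ H : Subgroup G, H ≠ ⊤ → Cfsg.IsPClosed p ↥H) ∧
      ∀ (N : Subgroup G) [N.Normal], N ≠ ⊥ → Cfsg.IsPClosed p (G ⧸ N) := by
  classical
  haveI : Fact q.Prime := ⟨hq⟩
  have hp : p.Prime := Fact.out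
  have hAcomm : ∀ a ∈ A, ∀ b ∈ A, a * b = b * a := by
    intro a ha b hb
    exact congrArg Subtype.val (hA.1.is_comm.comm (⟨a, ha⟩ : A) ⟨b, hb⟩)
  have hAq : ∀ a ∈ A, a ^ q = 1 := hA.2
  have hAPG : IsPGroup q ↥A := fun a => ⟨1, by
    rw [pow_one]; exact Subtype.ext (by simpa using hAq a a.2)⟩
  obtain ⟨d, hd⟩ := IsPGroup.iff_card.mp hAPG
  have hcardG : Nat.card A * p = Nat.card G := by rw [← hidx]; exact Subgroup.card_mul_index A
  have hcop : (Nat.card A).Coprime p := by
    rw [hd]; exact Nat.Coprime.pow_left _ ((Nat.coprime_primes hq hp).mpr hpq)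
  -- an element of order p
  have hpG : p ∣ Nat.card G := by rw [← hcardG]; exact dvd_mul_left _ _
  obtain ⟨x, hx⟩ := exists_prime_orderOf_dvd_card' p hpG
  have hxp : x ^ p = 1 := by rw [← hx]; exact pow_orderOf_eq_one x
  -- overgroups of A of order divisible by p are everything
  have htop : ∀ K : Subgroup G, A ≤ K → p ∣ Nat.card K → K = ⊤ := fun K hAK hpK =>
    eq_top_of_dvd_dvd K _ _ hcardG hcop (Subgroup.card_dvd_of_le hAK) hpK
  have hAx : A ⊔ zpowers x = ⊤ := by
    apply htop _ le_sup_left
    have : Nat.card (zpowers x) ∣ Nat.card ↥(A ⊔ zpowers x) := Subgroup.card_dvd_of_le le_sup_right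
    rwa [Nat.card_zpowers, hx] at this
  -- subgroups of A normalized by x are normal
  have hnormal : ∀ B : Subgroup G, B ≤ A → x ∈ normalizer (B : Set G) → B.Normal := by
    intro B hBA hxB
    rw [← Subgroup.normalizer_eq_top_iff, eq_top_iff, ← hAx]
    refine sup_le ?_ (by rwa [zpowers_le])
    intro a ha
    apply Subgroup.mem_normalizer_fintype
    intro b hb
    have : a * b * a⁻¹ = b := by rw [hAcomm a ha b (hBA hb)]; group
    rw [this]; exact hb
  -- x does not centralize A
  have hxc : ∃ a ∈ A, x * a ≠ a * x := by
    by_contra hcon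
    push Not at hcon
    apply hna
    have hcen : center G = ⊤ := by
      rw [eq_top_iff, ← hAx]
      refine sup_le ?_ ?_
      · intro a ha
        rw [mem_center_iff]
        intro g
        have hle : A ⊔ zpowers x ≤ centralizer ({a} : Set G) := by
          refine sup_le ?_ ?_
          · intro b hb
            rw [mem_centralizer_iff]
            intro c hc
            rw [Set.mem_singleton_iff.mp hc]
            exact hAcomm a ha b hb
          · rw [zpowers_le, mem_centralizer_iff]
            intro c hc
            rw [Set.mem_singleton_iff.mp hc]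
            exact (hcon a ha).symm
        have hg : g ∈ A ⊔ zpowers x := by rw [hAx]; trivial
        exact ((mem_centralizer_iff.mp (hle hg)) a rfl).symm
      · rw [zpowers_le, mem_center_iff]
        intro g
        have hle : A ⊔ zpowers x ≤ centralizer ({x} : Set G) := by
          refine sup_le ?_ ?_
          · intro b hb
            rw [mem_centralizer_iff]
            intro c hc
            rw [Set.mem_singleton_iff.mp hc]
            exact hcon b hb
          · rw [zpowers_le, mem_centralizer_iff]
            intro c hc
            rw [Set.mem_singleton_iff.mp hc]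
        have hg : g ∈ A ⊔ zpowers x := by rw [hAx]; trivial
        exact ((mem_centralizer_iff.mp (hle hg)) x rfl).symm
    refine ⟨⟨fun a b => ?_⟩⟩
    have ha : a ∈ center G := by rw [hcen]; trivial
    exact ((mem_center_iff.mp ha) b).symm
  have hxA : x ∈ normalizer (A : Set G) := by rw [Subgroup.normalizer_eq_top]; trivial
  have hirr : ∀ B : Subgroup G, B ≤ A → x ∈ normalizer (B : Set G) → B = ⊥ ∨ B = A :=
    fun B hBA hxB => hmin B (hnormal B hBA hxB) hBA
  have hcardA := Cfsg.Agent.Helper19.card_eq_of_irreducible_conj hpq A hAcomm hAq x hxA hxp hxc hirr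
  -- not p-closed
  have hnc : ¬ Cfsg.IsPClosed p G := by
    intro hcl
    have hxPG : IsPGroup p (zpowers x) := by
      rw [IsPGroup.iff_card, Nat.card_zpowers]; exact ⟨1, by rw [hx, pow_one]⟩
    obtain ⟨P, hxP⟩ := hxPG.exists_le_sylow
    haveI := hcl P
    have hPA : (P : Subgroup G) ⊓ A = ⊥ := by
      apply disjoint_iff.mp
      apply Subgroup.disjoint_of_coprime_natCard
      obtain ⟨m, hm⟩ := IsPGroup.iff_card.mp P.isPGroup'
      rw [hm]
      exact (Nat.Coprime.pow_right _ hcop).symm
    have hcomm : ⁅(P : Subgroup G), A⁆ = ⊥ := by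
      rw [eq_bot_iff, ← hPA]
      exact Subgroup.commutator_le_inf _ _
    rw [Subgroup.commutator_eq_bot_iff_le_centralizer] at hcomm
    obtain ⟨a, ha, hxa⟩ := hxc
    apply hxa
    have := hcomm (hxP (mem_zpowers x))
    exact ((mem_centralizer_iff.mp this) a ha).symm
  -- normal subgroup intersections with A
  have hinfnormal : ∀ K : Subgroup G, K ⊔ A = ⊤ → (K ⊓ A).Normal := by
    intro K hKA
    rw [← Subgroup.normalizer_eq_top_iff, eq_top_iff, ← hKA]
    refine sup_le ?_ ?_
    · intro k hk
      apply Subgroup.mem_normalizer_fintype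
      intro b hb
      exact ⟨K.mul_mem (K.mul_mem hk hb.1) (K.inv_mem hk),
        (inferInstance : A.Normal).conj_mem b hb.2 k⟩
    · intro a ha
      apply Subgroup.mem_normalizer_fintype
      intro b hb
      have : a * b * a⁻¹ = b := by rw [hAcomm a ha b hb.2]; group
      rw [this]; exact hb
  refine ⟨hcardA, hnc, ?_, ?_⟩
  · -- proper subgroups
    intro H hH
    by_cases hpH : p ∣ Nat.card H
    · have hHA : H ⊔ A = ⊤ := by
        apply htop _ le_sup_right
        exact dvd_trans hpH (Subgroup.card_dvd_of_le le_sup_left)
      have hn := hinfnormal H hHA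
      have hbot : H ⊓ A = ⊥ := by
        rcases hmin _ hn inf_le_right with h | h
        · exact h
        · exfalso
          apply hH
          apply htop H _ hpH
          rw [← h]; exact inf_le_left
      have hcardH : Nat.card H ∣ p := by
        have h1 : Nat.card ↥(H ⊓ A) * A.relIndex H = Nat.card H := by
          rw [inf_comm, ← Subgroup.relIndex_bot_left (H := A ⊓ H),
            ← Subgroup.relIndex_bot_left (H := H)]
          have := Subgroup.relIndex_mul_relIndex ⊥ (A ⊓ H) H bot_le inf_le_right
          rwa [Subgroup.inf_relIndex_right] at this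
        rw [hbot, Subgroup.card_bot, one_mul] at h1
        rw [← h1, ← hidx]
        exact Subgroup.relIndex_dvd_index_of_normal A H
      exact isPClosed_of_card_dvd_prime p p hp hcardH
    · intro Q
      have hQ : (Q : Subgroup ↥H) = ⊥ := by
        obtain ⟨m, hm⟩ := IsPGroup.iff_card.mp Q.isPGroup'
        rcases Nat.eq_zero_or_pos m with h0 | hpos
        · rw [h0, pow_zero] at hm
          exact Subgroup.card_eq_one.mp hm
        · exfalso
          apply hpH
          have : p ∣ Nat.card (Q : Subgroup ↥H) := by rw [hm]; exact dvd_pow_self p hpos.ne'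
          exact dvd_trans this (Subgroup.card_subgroup_dvd_card _)
      rw [hQ]; infer_instance
  · -- proper quotients
    intro N hNn hN
    have hAN : A ≤ N := by
      by_contra hnot
      have hn : (N ⊓ A).Normal := inferInstance
      have hbot : N ⊓ A = ⊥ := by
        rcases hmin _ hn inf_le_right with h | h
        · exact h
        · exfalso; apply hnot; rw [← h]; exact inf_le_left
      have hcardN : Nat.card N ∣ p := by
        have h1 : Nat.card ↥(N ⊓ A) * A.relIndex N = Nat.card N := by
          rw [inf_comm, ← Subgroup.relIndex_bot_left (H := A ⊓ N),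
            ← Subgroup.relIndex_bot_left (H := N)]
          have := Subgroup.relIndex_mul_relIndex ⊥ (A ⊓ N) N bot_le inf_le_right
          rwa [Subgroup.inf_relIndex_right] at this
        rw [hbot, Subgroup.card_bot, one_mul] at h1
        rw [← h1, ← hidx]
        exact Subgroup.relIndex_dvd_index_of_normal A N
      rcases (Nat.dvd_prime hp).mp hcardN with h1 | h1
      · exact hN (Subgroup.card_eq_one.mp h1)
      · -- N is a normal Sylow p-subgroup
        apply hnc
        intro P
        have hNPG : IsPGroup p N := IsPGroup.of_card (n := 1) (by rw [h1, pow_one])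
        obtain ⟨P₀, hP₀⟩ := hNPG.exists_le_sylow
        have hP₀card : Nat.card (P₀ : Subgroup G) = p := by
          obtain ⟨m, hm⟩ := IsPGroup.iff_card.mp P₀.isPGroup'
          have h2 : p ^ m ∣ Nat.card A * p := by
            rw [hcardG, ← hm]; exact Subgroup.card_subgroup_dvd_card _
          have h3 : p ^ m ∣ p := (Nat.Coprime.pow_left m hcop.symm).dvd_of_dvd_mul_left h2
          have h4 : p ∣ p ^ m := by
            have h5 : Nat.card N ∣ Nat.card (P₀ : Subgroup G) := Subgroup.card_dvd_of_le hP₀
            rw [hm] at h5
            exact h1 ▸ h5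
          rw [hm]; exact Nat.dvd_antisymm h3 h4
        have hNP₀ : N = (P₀ : Subgroup G) :=
          Subgroup.eq_of_le_of_card_ge hP₀ (by rw [hP₀card, h1])
        haveI : (P₀ : Subgroup G).Normal := by rw [← hNP₀]; exact hNn
        haveI : Subsingleton (Sylow p G) := (Sylow.unique_of_normal P₀ inferInstance).instSubsingleton
        have : P = P₀ := Subsingleton.elim _ _
        rw [this]; infer_instance
    apply isPClosed_of_card_dvd_prime p p hp
    rw [← Subgroup.index_eq_card, ← hidx]
    exact Subgroup.index_dvd_of_le hAN

end Cfsg.Agent.S3869
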