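import Mathlib
import Cfsg.Statements.S3870
import Cfsg.Agent.Helper19.Sylow

set_option autoImplicit false
open Cfsg

namespace Cfsg.Agent.S3870

open Cfsg.Agent.Helper19

section
variable {G : Type*} [Group G] [Finite G] [IsSimpleGroup G] {p : ℕ} [Fact p.Prime]

/-- Given distinct Sylow subgroups with nontrivial intersection `D`, there is a Sylow subgroup `T`
meeting both `P` and `Q` in strictly more than `D`. -/
lemma exists_bigger (hsub : ∀ H : Subgroup G, H ≠ ⊤ → Cfsg.IsPClosed p ↥H)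
    (P Q : Sylow p G) (hPQ : P ≠ Q) (hD : (P : Subgroup G) ⊓ (Q : Subgroup G) ≠ ⊥) :
    ∃ T : Sylow p G, (P : Subgroup G) ⊓ Q < (T : Subgroup G) ⊓ P ∧
      (P : Subgroup G) ⊓ Q < (T : Subgroup G) ⊓ Q := by
  set D := (P : Subgroup G) ⊓ (Q : Subgroup G) with hDdef
  -- D is properly contained in P and in Q
  have hcard : Nat.card (P : Subgroup G) = Nat.card (Q : Subgroup G) := by
    obtain ⟨g, rfl⟩ := MulAction.exists_smul_eq G P Q
    exact Nat.card_congr (Sylow.equivSMul P g).toEquiv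
  have hDP : D < P := by
    refine lt_of_le_of_ne inf_le_left (fun h => hPQ ?_)
    have hPleQ : (P : Subgroup G) ≤ Q := by rw [← h]; exact inf_le_right
    exact Sylow.ext (Subgroup.eq_of_le_of_card_ge hPleQ hcard.ge)
  have hDQ : D < Q := by
    refine lt_of_le_of_ne inf_le_right (fun h => hPQ ?_)
    have hQleP : (Q : Subgroup G) ≤ P := by rw [← h]; exact inf_le_left
    exact (Sylow.ext (Subgroup.eq_of_le_of_card_ge hQleP hcard.le)).symm
  -- the normalizer of D is proper
  have hN : Subgroup.normalizer (D : Set G) ≠ ⊤ := by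
    intro h
    have hDn : D.Normal := Subgroup.normalizer_eq_top_iff.mp h
    rcases hDn.eq_bot_or_eq_top with h1 | h1
    · exact hD h1
    · rw [h1] at hDP
      exact (not_le_of_gt hDP) le_top
  obtain ⟨x, hxP, hxN, hxD⟩ := exists_mem_normalizer_not_mem P.2 hDP
  obtain ⟨y, hyQ, hyN, hyD⟩ := exists_mem_normalizer_not_mem Q.2 hDQ
  set N := Subgroup.normalizer (D : Set G) with hNdef
  have S : Sylow p N := default
  have hSn : (S : Subgroup N).Normal := hsub N hN S
  set S' := (S : Subgroup N).map N.subtype with hS'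
  have hS'p : IsPGroup p S' := S.2.map N.subtype
  obtain ⟨T, hT⟩ := hS'p.exists_le_sylow
  have hPN : (P : Subgroup G) ⊓ N ≤ S' :=
    le_map_of_normal_sylow S hSn (P.2.to_le inf_le_left) inf_le_right
  have hQN : (Q : Subgroup G) ⊓ N ≤ S' :=
    le_map_of_normal_sylow S hSn (Q.2.to_le inf_le_left) inf_le_right
  have hDN : D ≤ N := Subgroup.le_normalizer
  refine ⟨T, ?_, ?_⟩
  · refine lt_of_le_of_ne (le_inf ((le_inf hDP.le hDN).trans (hPN.trans hT)) hDP.le) ?_
    intro h
    apply hxD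
    rw [h]
    exact ⟨hT (hPN ⟨hxP, hxN⟩), hxP⟩
  · refine lt_of_le_of_ne (le_inf ((le_inf hDQ.le hDN).trans (hQN.trans hT)) hDQ.le) ?_
    intro h
    apply hyD
    rw [h]
    exact ⟨hT (hQN ⟨hyQ, hyN⟩), hyQ⟩

lemma ti_aux (hsub : ∀ H : Subgroup G, H ≠ ⊤ → Cfsg.IsPClosed p ↥H) :
    ∀ k : ℕ, ∀ P Q : Sylow p G, P ≠ Q →
      Nat.card G - Nat.card ((P : Subgroup G) ⊓ (Q : Subgroup G) : Subgroup G) = k →
      (P : Subgroup G) ⊓ (Q : Subgroup G) = ⊥ := by
  intro k
  induction k using Nat.strong_induction_on with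
  | _ k ih =>
    intro P Q hPQ hk
    by_contra hD
    obtain ⟨T, hT1, hT2⟩ := exists_bigger hsub P Q hPQ hD
    have hle : ∀ H : Subgroup G, Nat.card H ≤ Nat.card G := fun H => Subgroup.card_le_card_group H
    have hlt1 : Nat.card ((P : Subgroup G) ⊓ Q : Subgroup G) < Nat.card ((T : Subgroup G) ⊓ P : Subgroup G) :=
      Set.Finite.card_lt_card (Set.toFinite _) hT1
    have hlt2 : Nat.card ((P : Subgroup G) ⊓ Q : Subgroup G) < Nat.card ((T : Subgroup G) ⊓ Q : Subgroup G) :=
      Set.Finite.card_lt_card (Set.toFinite _) hT2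
    have hTP : T = P := by
      by_contra hne
      have := ih (Nat.card G - Nat.card ((T : Subgroup G) ⊓ P : Subgroup G))
        (by have := hle ((T : Subgroup G) ⊓ P); have := hle ((P : Subgroup G) ⊓ Q); omega) T P hne rfl
      rw [this] at hT1
      exact (not_le_of_gt hT1) bot_le
    have hTQ : T = Q := by
      by_contra hne
      have := ih (Nat.card G - Nat.card ((T : Subgroup G) ⊓ Q : Subgroup G))
        (by have := hle ((T : Subgroup G) ⊓ Q); have := hle ((P : Subgroup G) ⊓ Q); omega) T Q hne rfl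
      rw [this] at hT2
      exact (not_le_of_gt hT2) bot_le
    exact hPQ (hTP.symm.trans hTQ)

end

theorem result {G : Type*} [Group G] [Finite G] [IsSimpleGroup G] {p : ℕ} [Fact p.Prime]
    (hnc : ¬ Cfsg.IsPClosed p G) (hsub : ∀ H : Subgroup G, H ≠ ⊤ → Cfsg.IsPClosed p ↥H) :
    (∀ P Q : Sylow p G, P ≠ Q → (P : Subgroup G) ⊓ (Q : Subgroup G) = ⊥) ∧
      ∀ (P : Sylow p G) (R : Subgroup G), R ≤ P → R ≠ ⊥ →
        Subgroup.normalizer (R : Set G) ≤ Subgroup.normalizer ((P : Subgroup G) : Set G) := by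
  have _ := hnc
  have hTI : ∀ P Q : Sylow p G, P ≠ Q → (P : Subgroup G) ⊓ (Q : Subgroup G) = ⊥ :=
    fun P Q hPQ => ti_aux hsub _ P Q hPQ rfl
  refine ⟨hTI, ?_⟩
  intro P R hRP hR g hg
  refine (Sylow.smul_eq_iff_mem_normalizer (P := P)).mp ?_
  by_contra hne
  have h1 := hTI (g • P) P hne
  apply hR
  rw [eq_bot_iff, ← h1]
  refine le_inf ?_ hRP
  intro r hr
  rw [Sylow.coe_subgroup_smul, Subgroup.mem_pointwise_smul_iff_inv_smul_mem]
  apply hRP
  have hg' : g⁻¹ ∈ Subgroup.normalizer (R : Set G) := Subgroup.inv_mem _ hg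
  have := (Subgroup.mem_normalizer_iff.mp hg' r).mp hr
  simpa [MulAut.smul_def] using this

end Cfsg.Agent.S3870
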