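import Cfsg.Statements.S3872
import Cfsg.Agent.Helper21.ClassLtP
import Cfsg.Agent.Helper20.NonCyclic
import Cfsg.Agent.S0063

set_option autoImplicit false
set_option linter.style.haveILetI false
open Cfsg

namespace Cfsg.Agent.S3872

/-- Say that a finite group is p-exponent closed when its elements of order dividing p form a subgroup. Let G be a finite p-group that is not p-exponent closed, but all of whose proper subgroups and proper quotients are. Then G is generated by two elements, has nilpotency class at least p, has exponent p², has cyclic center, and has order at least p^(p+1). -/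
theorem result {G : Type*} [Group G] [Finite G] {p : ℕ} [Fact p.Prime] (hG : IsPGroup p G)
    (hnc : ¬ (∃ H : Subgroup G, (H : Set G) = {g : G | g ^ p = 1})) (hsub : ∀ K : Subgroup G, K ≠ ⊤ → (∃ H : Subgroup ↥K, (H : Set ↥K) = {g : ↥K | g ^ p = 1}))
    (hquo : ∀ (N : Subgroup G) [N.Normal], N ≠ ⊥ → (∃ H : Subgroup (G ⧸ N), (H : Set (G ⧸ N)) = {g : (G ⧸ N) | g ^ p = 1})) :
    (∃ x y : G, Subgroup.closure ({x, y} : Set G) = ⊤) ∧ (⊤ : Subgroup G).lowerCentralSeries (p - 1) ≠ ⊥ ∧
      Monoid.exponent G = p ^ 2 ∧ IsCyclic ↥(Subgroup.center G) ∧ p ^ (p + 1) ≤ Nat.card G := by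
  classical
  have hp : p.Prime := Fact.out
  -- Step 0: a bad pair
  obtain ⟨x, y, hx, hy, hxy⟩ : ∃ x y : G, x ^ p = 1 ∧ y ^ p = 1 ∧ (x * y) ^ p ≠ 1 := by
    by_contra hcon
    push Not at hcon
    apply hnc
    exact ⟨{ carrier := {g : G | g ^ p = 1}
             mul_mem' := fun {a b} ha hb => hcon a b ha hb
             one_mem' := one_pow p
             inv_mem' := fun {a} ha => by
               simp only [Set.mem_ofPred_eq] at ha ⊢
               rw [inv_pow, ha, inv_one] }, rfl⟩
  -- Step 1: generation
  have hgen : Subgroup.closure ({x, y} : Set G) = ⊤ := by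
    by_contra hK
    obtain ⟨H, hH⟩ := hsub _ hK
    have hxK : x ∈ Subgroup.closure ({x, y} : Set G) := Subgroup.subset_closure (by simp)
    have hyK : y ∈ Subgroup.closure ({x, y} : Set G) := Subgroup.subset_closure (by simp)
    have hxH : (⟨x, hxK⟩ : Subgroup.closure ({x, y} : Set G)) ∈ H := by
      rw [← SetLike.mem_coe, hH]
      exact Subtype.ext (by simpa using hx)
    have hyH : (⟨y, hyK⟩ : Subgroup.closure ({x, y} : Set G)) ∈ H := by
      rw [← SetLike.mem_coe, hH]
      exact Subtype.ext (by simpa using hy)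
    have hm := H.mul_mem hxH hyH
    rw [← SetLike.mem_coe, hH] at hm
    have := congrArg Subtype.val hm
    apply hxy
    simpa using this
  -- Step 2: class at least p
  have hcl : (⊤ : Subgroup G).lowerCentralSeries (p - 1) ≠ ⊥ := by
    intro h
    have hreg := Cfsg.Agent.Helper21.ClassLtP.isRegular_of_class_lt hG h
    apply hxy
    have := Cfsg.Agent.Helper21.RegularP.mul_pow_eq_one hreg (a := x) (b := y) (n := 1)
      (by rwa [pow_one]) (by rwa [pow_one])
    rwa [pow_one] at this
  -- key: central elements of order p absorb p-th powers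
  have key : ∀ z : G, z ∈ Subgroup.center G → orderOf z = p → ∀ g : G, g ^ p ∈ Subgroup.zpowers z := by
    intro z hz hoz g
    have hN : (Subgroup.zpowers z).Normal := by
      refine ⟨fun n hn g => ?_⟩
      have hnc : n ∈ Subgroup.center G := (Subgroup.zpowers_le.mpr hz) hn
      have : g * n * g⁻¹ = n := by
        rw [Subgroup.mem_center_iff] at hnc
        rw [hnc g, mul_inv_cancel_right]
      rwa [this]
    have hNb : Subgroup.zpowers z ≠ ⊥ := by
      intro h
      rw [Subgroup.zpowers_eq_bot] at h
      rw [h, orderOf_one] at hoz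
      exact hp.one_lt.ne hoz
    obtain ⟨H, hH⟩ := hquo (Subgroup.zpowers z) hNb
    have hxH : (QuotientGroup.mk x : G ⧸ Subgroup.zpowers z) ∈ H := by
      rw [← SetLike.mem_coe, hH]
      show (QuotientGroup.mk x : G ⧸ Subgroup.zpowers z) ^ p = 1
      rw [← QuotientGroup.mk_pow, hx]; rfl
    have hyH : (QuotientGroup.mk y : G ⧸ Subgroup.zpowers z) ∈ H := by
      rw [← SetLike.mem_coe, hH]
      show (QuotientGroup.mk y : G ⧸ Subgroup.zpowers z) ^ p = 1
      rw [← QuotientGroup.mk_pow, hy]; rfl
    have hle : (⊤ : Subgroup G) ≤ H.comap (QuotientGroup.mk' (Subgroup.zpowers z)) := by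
      rw [← hgen, Subgroup.closure_le]
      rintro w (rfl | rfl)
      · exact hxH
      · exact hyH
    have hg : (QuotientGroup.mk g : G ⧸ Subgroup.zpowers z) ∈ H := hle (Subgroup.mem_top g)
    rw [← SetLike.mem_coe, hH] at hg
    have hg' : (QuotientGroup.mk g : G ⧸ Subgroup.zpowers z) ^ p = 1 := hg
    rw [← QuotientGroup.mk_pow, QuotientGroup.eq_one_iff] at hg'
    exact hg'
  have hzp : ∀ z : G, orderOf z = p → ∀ w ∈ Subgroup.zpowers z, w ^ p = 1 := by
    intro z hoz w hw
    obtain ⟨k, rfl⟩ := Subgroup.mem_zpowers_iff.mp hw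
    rw [← zpow_natCast, ← zpow_mul, mul_comm, zpow_mul, zpow_natCast, ← hoz, pow_orderOf_eq_one,
      one_zpow]
  -- G is nontrivial, centre contains an element of order p
  haveI : Nontrivial G := by
    refine ⟨⟨x * y, 1, ?_⟩⟩
    intro h
    apply hxy
    rw [h, one_pow]
  obtain ⟨z0, hz0c, hz0⟩ : ∃ z : G, z ∈ Subgroup.center G ∧ orderOf z = p := by
    have hZ : IsPGroup p (Subgroup.center G) := hG.to_subgroup _
    haveI : Nontrivial (Subgroup.center G) := hG.center_nontrivial
    obtain ⟨k, hk⟩ := IsPGroup.iff_card.mp hZ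
    have hk0 : k ≠ 0 := by
      intro h
      rw [h, pow_zero] at hk
      have := Finite.one_lt_card (α := Subgroup.center G)
      omega
    have hdvd : p ∣ Nat.card (Subgroup.center G) := by
      rw [hk]; exact dvd_pow_self p hk0
    obtain ⟨z, hz⟩ := exists_prime_orderOf_dvd_card' p hdvd
    exact ⟨(z : G), z.2, by rwa [Subgroup.orderOf_coe]⟩
  -- Step 3: exponent
  have hexp2 : ∀ g : G, g ^ (p ^ 2) = 1 := by
    intro g
    rw [pow_two, pow_mul]
    exact hzp z0 hz0 _ (key z0 hz0c hz0 g)
  have hexp : Monoid.exponent G = p ^ 2 := by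
    have hd : Monoid.exponent G ∣ p ^ 2 := Monoid.exponent_dvd_of_forall_pow_eq_one hexp2
    obtain ⟨k, hk, hke⟩ := (Nat.dvd_prime_pow hp).mp hd
    have hk2 : k = 2 := by
      by_contra hne
      have hk1 : k ≤ 1 := by omega
      apply hxy
      have hdp : Monoid.exponent G ∣ p := by
        rw [hke]
        calc p ^ k ∣ p ^ 1 := pow_dvd_pow p hk1
          _ = p := pow_one p
      obtain ⟨m, hm⟩ := hdp
      rw [hm, pow_mul, Monoid.pow_exponent_eq_one, one_pow]
    rw [hke, hk2]
  -- Step 4: cyclic centre
  have hcyc : IsCyclic ↥(Subgroup.center G) := by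
    by_contra hnc'
    haveI := Fintype.ofFinite (Subgroup.center G)
    letI : CommGroup (Subgroup.center G) :=
      { (inferInstance : Group (Subgroup.center G)) with
        mul_comm := fun a b => Subtype.ext (Subgroup.mem_center_iff.mp b.2 a) }
    obtain ⟨q, hq, hlt⟩ := Cfsg.Agent.Helper20.exists_prime_tors_gt (G := ↥(Subgroup.center G)) hnc'
    unfold Cfsg.Agent.Helper20.tors at hlt
    obtain ⟨T, hmem, hlt⟩ : ∃ T : Finset (Subgroup.center G),
        (∀ a : Subgroup.center G, a ∈ T ↔ a ^ q = 1) ∧ q < T.card := by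
      refine ⟨_, fun a => ?_, hlt⟩
      simp only [Finset.mem_filter, Finset.mem_univ, true_and]
    have hZ : IsPGroup p (Subgroup.center G) := hG.to_subgroup _
    have hqp : q = p := by
      by_contra hne
      have hall : ∀ a : Subgroup.center G, a ^ q = 1 → a = 1 := by
        intro a ha
        obtain ⟨k, hk⟩ := hZ a
        have hcop : Nat.Coprime q (p ^ k) :=
          Nat.Coprime.pow_right k ((Nat.coprime_primes hq hp).mpr hne)
        have h1 : orderOf a ∣ q := orderOf_dvd_of_pow_eq_one ha
        have h2 : orderOf a ∣ p ^ k := orderOf_dvd_of_pow_eq_one hk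
        have := Nat.dvd_gcd h1 h2
        rw [hcop] at this
        exact orderOf_eq_one_iff.mp (Nat.dvd_one.mp this)
      have hcard : T.card ≤ 1 := by
        rw [Finset.card_le_one]
        intro a ha b hb
        rw [hall a ((hmem a).mp ha), hall b ((hmem b).mp hb)]
      have := hq.one_lt
      omega
    subst hqp
    -- choose z₁ ≠ 1 in T
    obtain ⟨z1, hz1T, hz1⟩ : ∃ a ∈ T, a ≠ 1 := by
      by_contra hcon
      push Not at hcon
      have : T.card ≤ 1 := by
        rw [Finset.card_le_one]
        intro a ha b hb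
        rw [hcon a ha, hcon b hb]
      have := hp.one_lt
      omega
    have hz1p : z1 ^ q = 1 := (hmem z1).mp hz1T
    have ho1 : orderOf z1 = q := orderOf_eq_prime hz1p hz1
    -- choose z₂ in T outside zpowers z₁
    obtain ⟨z2, hz2T, hz2⟩ : ∃ a ∈ T, a ∉ Subgroup.zpowers z1 := by
      by_contra hcon
      push Not at hcon
      have hsub' : T ⊆ (Finset.univ.filter (fun a : Subgroup.center G => a ∈ Subgroup.zpowers z1)) := by
        intro a ha
        simp only [Finset.mem_filter, Finset.mem_univ, true_and]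
        exact hcon a ha
      have h1 := Finset.card_le_card hsub'
      have h2 : (Finset.univ.filter (fun a : Subgroup.center G => a ∈ Subgroup.zpowers z1)).card
          = q := by
        rw [← ho1, ← Nat.card_zpowers, Nat.card_eq_fintype_card, Fintype.card_subtype]
      omega
    have hz2p : z2 ^ q = 1 := (hmem z2).mp hz2T
    have hz2ne : z2 ≠ 1 := by
      intro h
      apply hz2
      rw [h]
      exact Subgroup.one_mem _
    have ho2 : orderOf z2 = q := orderOf_eq_prime hz2p hz2ne
    have ho1' : orderOf (z1 : G) = q := by rwa [Subgroup.orderOf_coe]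
    have ho2' : orderOf (z2 : G) = q := by rwa [Subgroup.orderOf_coe]
    -- the p-th power of x*y lies in both
    have h1 := key (z1 : G) z1.2 ho1' (x * y)
    have h2 := key (z2 : G) z2.2 ho2' (x * y)
    set w := (x * y) ^ q with hw
    have hwq : w ^ q = 1 := hzp _ ho1' w h1
    have how : orderOf w = q := orderOf_eq_prime hwq hxy
    have e1 : Subgroup.zpowers w = Subgroup.zpowers (z1 : G) := by
      apply Subgroup.eq_of_le_of_card_ge (Subgroup.zpowers_le.mpr h1)
      rw [Nat.card_zpowers, Nat.card_zpowers, how, ho1']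
    have e2 : Subgroup.zpowers w = Subgroup.zpowers (z2 : G) := by
      apply Subgroup.eq_of_le_of_card_ge (Subgroup.zpowers_le.mpr h2)
      rw [Nat.card_zpowers, Nat.card_zpowers, how, ho2']
    apply hz2
    have h3 : (z2 : G) ∈ Subgroup.zpowers (z1 : G) := by
      rw [← e1, e2]
      exact Subgroup.mem_zpowers _
    obtain ⟨k, hk⟩ := Subgroup.mem_zpowers_iff.mp h3
    exact Subgroup.mem_zpowers_iff.mpr ⟨k, Subtype.ext (by simpa using hk)⟩
  -- Step 5: order
  have hcard : p ^ (p + 1) ≤ Nat.card G := by
    obtain ⟨n, hn⟩ := IsPGroup.iff_card.mp hG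
    rw [hn]
    apply Nat.pow_le_pow_right hp.pos
    by_contra hlt
    have hnp : n ≤ p := by omega
    have h2n : 2 ≤ n := by
      have hd : Monoid.exponent G ∣ Nat.card G := Group.exponent_dvd_nat_card
      rw [hexp, hn] at hd
      exact (Nat.pow_dvd_pow_iff_le_right hp.one_lt).mp hd
    haveI : Group.IsNilpotent G := hG.isNilpotent
    have hc := Cfsg.Agent.S0063.class_le_aux p n G hn (by omega)
    apply hcl
    rw [Subgroup.lowerCentralSeries_eq_bot_iff_nilpotencyClass_le]
    omega
  exact ⟨⟨x, y, hgen⟩, hcl, hexp, hcyc, hcard⟩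

end Cfsg.Agent.S3872
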