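import Mathlib
import Cfsg.Statements.S3873
import Cfsg.Agent.Helper19.MinNonClosed

set_option autoImplicit false
open Cfsg

namespace Cfsg.Agent.S3873

open Subgroup Cfsg.Agent.Helper19

/-- Membership in the image in `G` of the "exponent `p`" subgroup of `K`. -/
lemma mem_map_iff_of_coe_eq {G : Type*} [Group G] {p : ℕ} {K : Subgroup G} {H : Subgroup K}
    (hH : (H : Set K) = {g : K | g ^ p = 1}) (x : G) :
    x ∈ H.map K.subtype ↔ x ∈ K ∧ x ^ p = 1 := by
  constructor
  · rintro ⟨h, hh, rfl⟩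
    have : h ∈ (H : Set K) := hh
    rw [hH] at this
    refine ⟨h.2, ?_⟩
    have h3 := congrArg Subtype.val this
    simpa using h3
  · rintro ⟨hx, hxp⟩
    refine ⟨⟨x, hx⟩, ?_, rfl⟩
    have : (⟨x, hx⟩ : K) ∈ (H : Set K) := by
      rw [hH]; exact Subtype.ext (by simpa using hxp)
    exact this

/-- `P ⊓ C_G(N)` is normal in `G = P N`. -/
lemma inf_centralizer_normal {G : Type*} [Group G] [Finite G] (P N : Subgroup G) [N.Normal]
    (hPN : P ⊔ N = ⊤) : (P ⊓ centralizer (N : Set G)).Normal := by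
  rw [← normalizer_eq_top_iff, eq_top_iff, ← hPN]
  apply sup_le
  · intro x hx
    apply mem_normalizer_of_forall
    rintro d ⟨hd1, hd2⟩
    exact ⟨P.mul_mem (P.mul_mem hx hd1) (P.inv_mem hx),
      (normal_centralizer (H := N)).conj_mem d hd2 x⟩
  · intro n hn
    apply mem_normalizer_of_forall
    rintro d hd
    have : n * d * n⁻¹ = d := by
      have := (mem_centralizer_iff.mp hd.2) n hn
      rw [this, mul_inv_cancel_right]
    rw [this]; exact hd

/-- Say that a finite group is p-exponent closed when its elements of order dividing p form a subgroup. Let G be a finite group that is not p-exponent closed, but all of whose proper subgroups and proper quotients are, and suppose G is neither simple nor a p-group. Then there is a prime q ≠ p such that G has order p · q^e, where e is the multiplicative order of q modulo p, and G has a normal elementary abelian subgroup of order q^e that is a minimal normal subgroup of G. -/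
theorem result {G : Type*} [Group G] [Finite G] {p : ℕ} [Fact p.Prime]
    (hnc : ¬ (∃ H : Subgroup G, (H : Set G) = {g : G | g ^ p = 1})) (hsub : ∀ K : Subgroup G, K ≠ ⊤ → (∃ H : Subgroup ↥K, (H : Set ↥K) = {g : ↥K | g ^ p = 1}))
    (hquo : ∀ (N : Subgroup G) [N.Normal], N ≠ ⊥ → (∃ H : Subgroup (G ⧸ N), (H : Set (G ⧸ N)) = {g : (G ⧸ N) | g ^ p = 1}))
    (hns : ¬ IsSimpleGroup G) (hnp : ¬ IsPGroup p G) :
    ∃ q : ℕ, q.Prime ∧ q ≠ p ∧ Nat.card G = p * q ^ orderOf (q : ZMod p) ∧
      ∃ A : Subgroup G, A.Normal ∧ Nat.card ↥A = q ^ orderOf (q : ZMod p) ∧ Cfsg.IsElementaryAbelian q A ∧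
        ∀ B : Subgroup G, B.Normal → B ≤ A → B = ⊥ ∨ B = A := by
  classical
  have hp : p.Prime := Fact.out
  -- A subgroup containing all elements of order dividing p is everything
  have hT : ∀ T : Subgroup G, (∀ g : G, g ^ p = 1 → g ∈ T) → T = ⊤ := by
    intro T hT
    by_contra hne
    obtain ⟨H, hH⟩ := hsub T hne
    apply hnc
    refine ⟨H.map T.subtype, ?_⟩
    ext g
    rw [SetLike.mem_coe, mem_map_iff_of_coe_eq hH, Set.mem_ofPred_eq]
    exact ⟨fun h => h.2, fun h => ⟨hT g h, h⟩⟩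
  -- proper quotients have exponent p
  have hexpq : ∀ (K : Subgroup G) [K.Normal], K ≠ ⊥ → ∀ g : G, g ^ p ∈ K := by
    intro K _ hK g
    obtain ⟨H, hH⟩ := hquo K hK
    have htop : H.comap (QuotientGroup.mk' K) = ⊤ := by
      apply hT
      intro g hg
      rw [Subgroup.mem_comap]
      have : (QuotientGroup.mk' K g) ∈ (H : Set (G ⧸ K)) := by
        rw [hH]
        show (QuotientGroup.mk' K g) ^ p = 1
        rw [← map_pow, hg, map_one]
      exact this
    have hg : g ∈ H.comap (QuotientGroup.mk' K) := by rw [htop]; trivial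
    have hg' : (QuotientGroup.mk' K g) ∈ (H : Set (G ⧸ K)) := hg
    rw [hH] at hg'
    have h3 : (QuotientGroup.mk' K g) ^ p = 1 := hg'
    rw [← map_pow] at h3
    exact (QuotientGroup.eq_one_iff _).mp h3
  have hnt : Nontrivial G := by
    by_contra h
    rw [not_nontrivial_iff_subsingleton] at h
    apply hnp
    intro g
    exact ⟨0, by rw [Subsingleton.elim g 1]; simp⟩
  obtain ⟨N, hNn, hNbot, hNtop, hNmin⟩ := exists_minimal_normal_of_not_simple hnt hns
  haveI := hNn
  -- p ∤ |N|
  have hNp : ¬ p ∣ Nat.card N := by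
    intro hdvd
    obtain ⟨H, hH⟩ := hsub N hNtop
    have hBmem := mem_map_iff_of_coe_eq hH
    have hBn : (H.map N.subtype).Normal := by
      constructor
      intro x hx g
      rw [hBmem] at hx ⊢
      exact ⟨hNn.conj_mem x hx.1 g, by rw [conj_pow, hx.2, mul_one, mul_inv_cancel]⟩
    rcases hNmin _ hBn (map_subtype_le _) with h | h
    · obtain ⟨x, hx⟩ := exists_prime_orderOf_dvd_card' p hdvd
      have hxB : (x : G) ∈ H.map N.subtype := by
        rw [hBmem]
        refine ⟨x.2, ?_⟩
        have := pow_orderOf_eq_one x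
        rw [hx] at this
        have h3 := congrArg Subtype.val this
        simpa using h3
      rw [h, Subgroup.mem_bot] at hxB
      have : x = 1 := Subtype.ext hxB
      rw [this, orderOf_one] at hx
      exact hp.one_lt.ne hx
    · apply hnp
      intro g
      refine ⟨2, ?_⟩
      have h1 : g ^ p ∈ N := hexpq N hNbot g
      have h2 : g ^ p ∈ H.map N.subtype := by rw [h]; exact h1
      rw [hBmem] at h2
      rw [pow_two, pow_mul]
      exact h2.2
  obtain ⟨P⟩ : Nonempty (Sylow p G) := inferInstance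
  have hPN : (P : Subgroup G) ⊔ N = ⊤ := by
    rw [← index_eq_one]
    have h1 : ((P : Subgroup G) ⊔ N).index ∣ (P : Subgroup G).index := index_dvd_of_le le_sup_left
    have h2 : ((P : Subgroup G) ⊔ N).index ∣ N.index := index_dvd_of_le le_sup_right
    have h3 : IsPGroup p (G ⧸ N) := by
      intro g
      obtain ⟨g, rfl⟩ := QuotientGroup.mk_surjective g
      refine ⟨1, ?_⟩
      rw [pow_one, ← QuotientGroup.mk_pow, QuotientGroup.eq_one_iff]
      exact hexpq N hNbot g
    obtain ⟨k, hk⟩ := IsPGroup.iff_card.mp h3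
    rw [index_eq_card N, hk] at h2
    have hcop : (P : Subgroup G).index.Coprime (p ^ k) :=
      Nat.Coprime.pow_right k ((Nat.Prime.coprime_iff_not_dvd hp).mpr P.not_dvd_index).symm
    exact Nat.eq_one_of_dvd_coprimes hcop h1 h2
  have hPne : (P : Subgroup G) ≠ ⊥ := by
    intro h
    rw [h, bot_sup_eq] at hPN
    exact hNtop hPN
  have hPexp : ∀ x ∈ (P : Subgroup G), x ^ p = 1 := fun x hx =>
    eq_one_of_mem_pgroup_of_mem_pprime P.2 hNp ((P : Subgroup G).pow_mem hx p) (hexpq N hNbot x)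
  -- h1
  have h1 : ∀ Q M : Subgroup G, Q ≤ P → M ≤ N → Q ≤ normalizer (M : Set G) → Q ⊔ M ≠ ⊤ →
      Q ≤ centralizer (M : Set G) := by
    intro Q M hQP hMN hQM hne
    obtain ⟨H, hH⟩ := hsub _ hne
    have hEmem := mem_map_iff_of_coe_eq hH
    have hEpg : IsPGroup p (H.map (Q ⊔ M).subtype) := by
      rintro ⟨x, hx⟩
      refine ⟨1, ?_⟩
      rw [pow_one]
      exact Subtype.ext (by simpa using ((hEmem x).mp hx).2)
    intro a ha
    rw [mem_centralizer_iff]
    intro m hm
    have haH : a ∈ Q ⊔ M := le_sup_left (b := M) ha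
    have hmH : m ∈ Q ⊔ M := le_sup_right (a := Q) hm
    have hc1 : a * m * a⁻¹ * m⁻¹ ∈ M :=
      M.mul_mem ((mem_normalizer_iff.mp (hQM ha) m).mp hm) (M.inv_mem hm)
    have hc2 : a * m * a⁻¹ * m⁻¹ ∈ H.map (Q ⊔ M).subtype := by
      have : a * m * a⁻¹ * m⁻¹ = a * (m * a⁻¹ * m⁻¹) := by group
      rw [this]
      apply Subgroup.mul_mem
      · rw [hEmem]; exact ⟨haH, hPexp a (hQP ha)⟩
      · rw [hEmem]
        refine ⟨(Q ⊔ M).mul_mem ((Q ⊔ M).mul_mem hmH ((Q ⊔ M).inv_mem haH)) ((Q ⊔ M).inv_mem hmH), ?_⟩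
        rw [conj_pow, inv_pow, hPexp a (hQP ha), inv_one, mul_one, mul_inv_cancel]
    have h3 := eq_one_of_mem_pgroup_of_mem_pprime hEpg hNp hc2 (hMN hc1)
    rw [mul_inv_eq_one, mul_inv_eq_iff_eq_mul] at h3
    exact h3.symm
  -- h2
  have h2 : (P : Subgroup G) ⊓ centralizer (N : Set G) = ⊥ := by
    by_contra hD
    haveI hDn := inf_centralizer_normal (P : Subgroup G) N hPN
    apply hnp
    intro g
    refine ⟨2, ?_⟩
    have h1 := hexpq _ hD g
    rw [pow_two, pow_mul]
    exact hPexp _ h1.1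
  obtain ⟨q, hq, hqp, hG, hNcard, hcomm, hexp⟩ :=
    minNonClosed_structure N hNmin hNp P hPN hPne h1 h2
  exact ⟨q, hq, hqp, hG, N, hNn, hNcard,
    ⟨⟨⟨fun a b => Subtype.ext (hcomm a a.2 b b.2)⟩⟩, hexp⟩, hNmin⟩

end Cfsg.Agent.S3873
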