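import Mathlib
import Cfsg.Statements.S3883
import Cfsg.Agent.Helper19.Metacyclic5
import Cfsg.Agent.Helper1.PGroup

set_option autoImplicit false
open Cfsg

namespace Cfsg.Agent.S3883

open Subgroup Cfsg.Agent.Helper19.Metacyclic
open scoped commutatorElement

/-- An element outside the Frattini subgroup is a member of a generating pair. -/
theorem exists_closure_eq_top {G : Type*} [Group G] [Finite G] {p : ℕ} [Fact p.Prime]
    (hG : IsPGroup p G) (hmc : Cfsg.IsMetacyclic G) (g : G) (hg : g ∉ frattini G) :
    ∃ h : G, closure ({g, h} : Set G) = ⊤ := by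
  have hp : p.Prime := Fact.out
  obtain ⟨a, b, hn, hgen⟩ := exists_gens hmc
  obtain ⟨i, j, hgij⟩ := hgen_nat a b hgen g
  have hnot : ¬ ((p : ℤ) ∣ i ∧ p ∣ j) := by
    rintro ⟨⟨i', hi'⟩, ⟨j', hj'⟩⟩
    apply hg
    rw [hgij, hi', hj', mul_comm (p : ℤ) i', zpow_mul, zpow_natCast, mul_comm p j', pow_mul]
    exact mul_mem (Cfsg.Agent.Helper1.IsPGroup.pow_mem_frattini hG _)
      (Cfsg.Agent.Helper1.IsPGroup.pow_mem_frattini hG _)
  have htop : ∀ K : Subgroup G, a ∈ K → b ∈ K → K = ⊤ := by
    intro K ha hb
    rw [eq_top_iff]
    intro x _
    obtain ⟨k, l, rfl⟩ := hgen x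
    exact mul_mem (zpow_mem ha k) (zpow_mem hb l)
  by_cases hj : p ∣ j
  · -- p ∤ i : pair {g, b}
    have hi : ¬ (p : ℤ) ∣ i := fun h => hnot ⟨h, hj⟩
    refine ⟨b, ?_⟩
    apply htop
    · have hgK : g ∈ closure ({g, b} : Set G) := subset_closure (by simp)
      have hbK : b ∈ closure ({g, b} : Set G) := subset_closure (by simp)
      have h1 : a ^ i ∈ closure ({g, b} : Set G) := by
        have : a ^ i = g * (b ^ j)⁻¹ := by rw [hgij]; group
        rw [this]
        exact mul_mem hgK (inv_mem (pow_mem hbK j))
      have h2 : a ^ i.natAbs ∈ closure ({g, b} : Set G) := by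
        rcases Int.natAbs_eq i with h | h
        · rw [← zpow_natCast, ← h]; exact h1
        · have : a ^ i.natAbs = (a ^ i)⁻¹ := by
            rw [← zpow_natCast, ← zpow_neg]
            congr 1
            omega
          rw [this]; exact inv_mem h1
      obtain ⟨m, hm⟩ := (IsPGroup.iff_orderOf.mp hG) a
      have hcop : (i.natAbs).Coprime (orderOf a) := by
        rw [hm]
        apply Nat.Coprime.pow_right
        rw [Nat.coprime_comm, Nat.Prime.coprime_iff_not_dvd hp]
        rwa [← Int.natCast_dvd]
      obtain ⟨m', hm'⟩ := exists_pow_eq_self_of_coprime hcop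
      rw [← hm']
      exact pow_mem h2 m'
    · exact subset_closure (by simp)
  · -- p ∤ j : pair {g, a}
    refine ⟨a, ?_⟩
    apply htop
    · exact subset_closure (by simp)
    · have hgK : g ∈ closure ({g, a} : Set G) := subset_closure (by simp)
      have haK : a ∈ closure ({g, a} : Set G) := subset_closure (by simp)
      have h1 : b ^ j ∈ closure ({g, a} : Set G) := by
        have : b ^ j = (a ^ i)⁻¹ * g := by rw [hgij]; group
        rw [this]
        exact mul_mem (inv_mem (zpow_mem haK i)) hgK
      obtain ⟨N, hN⟩ := (IsPGroup.iff_orderOf.mp hG) b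
      have hcop : j.Coprime (orderOf b) := by
        rw [hN]
        apply Nat.Coprime.pow_right
        rw [Nat.coprime_comm, Nat.Prime.coprime_iff_not_dvd hp]
        exact hj
      obtain ⟨m', hm'⟩ := exists_pow_eq_self_of_coprime hcop
      rw [← hm']
      exact pow_mem h1 m'

/-- Let p be an odd prime and G a finite metacyclic p-group (G has a cyclic normal subgroup with cyclic quotient). Suppose G is non-abelian. Then an element g of G lies outside the Frattini subgroup if and only if its centralizer C_G(g) is abelian. -/
theorem result {G : Type*} [Group G] [Finite G] {p : ℕ} [Fact p.Prime] (hp : p ≠ 2) (hG : IsPGroup p G) (hmc : Cfsg.IsMetacyclic G) (hna : ¬ IsMulCommutative G) (g : G) :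
    g ∉ frattini G ↔ IsMulCommutative ↥(Subgroup.centralizer ({g} : Set G)) := by
  have h1 := (centralizer ({g} : Set G)).card_mul_index
  have h2 := (commutator G).card_mul_index
  have hle := index_centralizer_le g (commutator G)
    (fun y => commutatorElement_mem_commutator y g)
  have hposC : 0 < Nat.card ↥(centralizer ({g} : Set G)) := Nat.card_pos
  have hposD : 0 < Nat.card ↥(commutator G) := Nat.card_pos
  -- abelian centralizer iff full class size
  have hiff : IsMulCommutative ↥(centralizer ({g} : Set G)) ↔
      (centralizer ({g} : Set G)).index = Nat.card (commutator G) := by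
    rw [isMulCommutative_iff_card_le hp hG hmc]
    constructor
    · intro h
      apply le_antisymm hle.1
      by_contra hlt
      push Not at hlt
      have : Nat.card ↥(centralizer ({g} : Set G)) * (centralizer ({g} : Set G)).index <
          Nat.card ↥(commutator G) * (commutator G).index := by
        calc Nat.card ↥(centralizer ({g} : Set G)) * (centralizer ({g} : Set G)).index
            < Nat.card ↥(centralizer ({g} : Set G)) * Nat.card ↥(commutator G) :=
              Nat.mul_lt_mul_of_pos_left hlt hposC
          _ ≤ (commutator G).index * Nat.card ↥(commutator G) := Nat.mul_le_mul_right _ h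
          _ = Nat.card ↥(commutator G) * (commutator G).index := mul_comm _ _
      rw [h1, h2] at this
      exact lt_irrefl _ this
    · intro h
      rw [h, ← h2, mul_comm] at h1
      exact (Nat.eq_of_mul_eq_mul_left hposD h1).le
  rw [hiff]
  constructor
  · intro hg
    obtain ⟨h, hgh⟩ := exists_closure_eq_top hG hmc g hg
    exact index_centralizer_of_closure_eq_top hp hG hmc g h hgh
  · intro hidx hgΦ
    obtain ⟨a, b, hn, hgen⟩ := exists_gens hmc
    obtain ⟨u, hu⟩ := mem_zpowers_iff.mp (hn.conj_mem a (mem_zpowers a) b)
    have hconj : b * a * b⁻¹ = a ^ u := hu.symm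
    have hcomm := commutator_eq a b u hconj hgen
    have ht₀ : a ^ (1 - u) ∈ commutator G := by rw [hcomm]; exact mem_zpowers _
    obtain ⟨y, hy⟩ := hle.2 hidx _ ht₀
    have hyK : y ∈ closure ({y, g} : Set G) := subset_closure (by simp)
    have hgK : g ∈ closure ({y, g} : Set G) := subset_closure (by simp)
    have hsub : commutator G ≤ ⁅closure ({y, g} : Set G), closure ({y, g} : Set G)⁆ := by
      rw [hcomm, zpowers_le, ← hy]
      exact Subgroup.commutator_mem_commutator hyK hgK
    have hcard : Nat.card (commutator G) ≤ Nat.card (commutator ↥(closure ({y, g} : Set G))) := by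
      rw [← Subgroup.card_map_of_injective (closure ({y, g} : Set G)).subtype_injective,
        map_subtype_commutator]
      exact Subgroup.card_le_of_le hsub
    have htop : closure ({y, g} : Set G) = ⊤ := by
      rw [← index_eq_one]
      rcases card_commutator_subgroup hp hG hmc (closure ({y, g} : Set G)) with h | ⟨h, _⟩
      · have hpos : 0 < (closure ({y, g} : Set G)).index := Nat.pos_of_ne_zero (by
          intro h0
          have := (closure ({y, g} : Set G)).card_mul_index
          rw [h0, mul_zero] at this
          exact Nat.card_pos.ne this)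
        by_contra hne
        have h2' : 2 ≤ (closure ({y, g} : Set G)).index := by omega
        have : Nat.card (commutator G) * 2 ≤ Nat.card (commutator G) := by
          calc Nat.card (commutator G) * 2
              ≤ Nat.card (commutator ↥(closure ({y, g} : Set G))) *
                  (closure ({y, g} : Set G)).index := Nat.mul_le_mul hcard h2'
            _ = Nat.card (commutator G) := h
        omega
      · exfalso
        apply hna
        rw [isMulCommutative_iff_card_commutator]
        omega
    have hsup : zpowers y ⊔ frattini G = ⊤ := by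
      rw [eq_top_iff, ← htop, closure_le]
      intro x hx
      rcases hx with rfl | rfl
      · exact (le_sup_left : zpowers x ≤ _) (mem_zpowers x)
      · exact (le_sup_right : frattini G ≤ _) hgΦ
    have hcyc := frattini_nongenerating hsup
    apply hna
    refine ⟨⟨fun x z => ?_⟩⟩
    have hx : x ∈ zpowers y := by rw [hcyc]; exact mem_top x
    have hz : z ∈ zpowers y := by rw [hcyc]; exact mem_top z
    obtain ⟨k, rfl⟩ := mem_zpowers_iff.mp hx
    obtain ⟨l, rfl⟩ := mem_zpowers_iff.mp hz
    rw [← zpow_add, ← zpow_add, add_comm]

end Cfsg.Agent.S3883
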