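import Mathlib
import Cfsg.Statements.S3885
import Cfsg.Agent.Helper19.Metacyclic7

set_option autoImplicit false
open Cfsg

namespace Cfsg.Agent.S3885

open Subgroup Cfsg.Agent.Helper19.Metacyclic

/-- Let p be an odd prime and G a finite metacyclic p-group (G has a cyclic normal subgroup with cyclic quotient). Then every abelian subgroup K of G containing the center of G is the center of its own centralizer: K = Z(C_G(K)). -/
theorem result {G : Type*} [Group G] [Finite G] {p : ℕ} [Fact p.Prime] (hp : p ≠ 2) (hG : IsPGroup p G) (hmc : Cfsg.IsMetacyclic G) (K : Subgroup G) (hK : IsMulCommutative ↥K) (hZ : Subgroup.center G ≤ K) :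
    K = Subgroup.centralizer (K : Set G) ⊓ Subgroup.centralizer (Subgroup.centralizer (K : Set G) : Set G) := by
  have hKC : K ≤ centralizer (K : Set G) := le_centralizer_iff_isMulCommutative.mpr hK
  have hKCC : K ≤ centralizer (centralizer (K : Set G) : Set G) := le_centralizer_iff.mp le_rfl
  have hKK' : K ≤ centralizer (K : Set G) ⊓ centralizer (centralizer (K : Set G) : Set G) :=
    le_inf hKC hKCC
  have hcent : centralizer ((centralizer (K : Set G) ⊓
      centralizer (centralizer (K : Set G) : Set G) : Subgroup G) : Set G) =
      centralizer (K : Set G) := by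
    apply le_antisymm
    · exact centralizer_le (show (K : Set G) ⊆ (centralizer (K : Set G) ⊓
        centralizer (centralizer (K : Set G) : Set G) : Subgroup G) from hKK')
    · rw [le_centralizer_iff]
      exact inf_le_right
  have h1 := cd_measure_of_center_le hp hG hmc K hZ
  have h2 := cd_measure_of_center_le hp hG hmc _ (hZ.trans hKK')
  rw [hcent, ← h1] at h2
  have hpos : 0 < Nat.card (centralizer (K : Set G)) := Nat.card_pos
  have h3 := Nat.eq_of_mul_eq_mul_right hpos h2
  exact Subgroup.eq_of_le_of_card_ge hKK' h3.le

end Cfsg.Agent.S3885
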