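import Mathlib
import Cfsg.Statements.S3887
import Cfsg.Agent.Helper19.Metacyclic7

set_option autoImplicit false
open Cfsg

namespace Cfsg.Agent.S3887

open Subgroup Cfsg.Agent.Helper19.Metacyclic

/-- Let p be an odd prime and G a finite metacyclic p-group (G has a cyclic normal subgroup with cyclic quotient). Then a subgroup R of G maximizes |R| · |C_G(R)| over all subgroups of G if and only if R contains the center of G. -/
theorem result {G : Type*} [Group G] [Finite G] {p : ℕ} [Fact p.Prime] (hp : p ≠ 2) (hG : IsPGroup p G) (hmc : Cfsg.IsMetacyclic G) (R : Subgroup G) : Cfsg.IsCentralizerLarge R ↔ Subgroup.center G ≤ R := by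
  have hmax : Cfsg.maxCentralizerProduct G = (commutator G).index ^ 2 := by
    unfold Cfsg.maxCentralizerProduct
    apply IsGreatest.csSup_eq
    constructor
    · exact ⟨⊤, cd_measure_of_center_le hp hG hmc ⊤ le_top⟩
    · rintro k ⟨R, rfl⟩
      exact (cd_measure_le hp hG hmc R).1
  unfold Cfsg.IsCentralizerLarge
  rw [hmax]
  constructor
  · intro h
    have hcent : centralizer ((R ⊔ center G : Subgroup G) : Set G) = centralizer (R : Set G) := by
      apply le_antisymm
      · exact centralizer_le (show (R : Set G) ⊆ (R ⊔ center G : Subgroup G) from
          (le_sup_left : R ≤ _))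
      · intro g hg
        have h1 : R ⊔ center G ≤ centralizer ({g} : Set G) := by
          apply sup_le
          · intro r hr
            rw [mem_centralizer_singleton_iff]
            exact (mem_centralizer_iff.mp hg) r hr
          · exact center_le_centralizer _
        show g ∈ centralizer ((R ⊔ center G : Subgroup G) : Set G)
        rw [mem_centralizer_iff]
        intro y hy
        exact mem_centralizer_singleton_iff.mp (h1 hy)
    have h2 := (cd_measure_le hp hG hmc (R ⊔ center G)).1
    rw [hcent, ← h] at h2
    have hpos : 0 < Nat.card (centralizer (R : Set G)) := Nat.card_pos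
    have h3 : Nat.card (R ⊔ center G : Subgroup G) ≤ Nat.card R := Nat.le_of_mul_le_mul_right h2 hpos
    have h4 : R = R ⊔ center G := Subgroup.eq_of_le_of_card_ge le_sup_left h3
    rw [h4]
    exact le_sup_right
  · exact cd_measure_of_center_le hp hG hmc R

end Cfsg.Agent.S3887
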