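import Cfsg.Statements.S3888
import Cfsg.Agent.Helper10.BlkSmallB
import Cfsg.Agent.Helper10.BlkCaseF
import Cfsg.Agent.Helper19.Huppert
import Cfsg.Agent.S0126

set_option autoImplicit false
open Cfsg

namespace Cfsg.Agent.S3888

/-- The classification of the p-groups of rank at most two for odd p. Let p be an odd prime and G a group of order p^n with no elementary abelian subgroup of order p³. Then one of the following holds: G is metacyclic; n ≥ 3 and G is generated by elements x, y, z with x^p = y^p = z^(p^(n−2)) = 1, z commuting with x and y, and x⁻¹yx = y z^(p^(n−3)); n ≥ 4 and G is generated by elements x, y, z with x^p = y^p = z^(p^(n−2)) = 1, yz = zy, x⁻¹yx = y z^(s p^(n−3)) and x⁻¹zx = yz, where s = 1 or s is a quadratic non-residue modulo p; or p = 3 and G has maximal class (nilpotency class n − 1). -/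
theorem result {G : Type*} [Group G] [Finite G] {p : ℕ} [Fact p.Prime] (hp : p ≠ 2) (n : ℕ) (hG : Nat.card G = p ^ n)
    (hrk : Cfsg.PRankLE p 2 G) :
    Cfsg.IsMetacyclic G ∨
    (3 ≤ n ∧ ∃ x y z : G, Subgroup.closure ({x, y, z} : Set G) = ⊤ ∧ x ^ p = 1 ∧ y ^ p = 1 ∧ z ^ p ^ (n - 2) = 1 ∧
        x * z = z * x ∧ y * z = z * y ∧ x⁻¹ * y * x = y * z ^ p ^ (n - 3)) ∨
    (4 ≤ n ∧ ∃ (s : ℕ) (x y z : G), (s = 1 ∨ ¬ IsSquare (s : ZMod p)) ∧ Subgroup.closure ({x, y, z} : Set G) = ⊤ ∧
        x ^ p = 1 ∧ y ^ p = 1 ∧ z ^ p ^ (n - 2) = 1 ∧ y * z = z * y ∧ x⁻¹ * y * x = y * z ^ (s * p ^ (n - 3)) ∧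
        x⁻¹ * z * x = y * z) ∨
    (p = 3 ∧ 2 ≤ n ∧ (⊤ : Subgroup G).lowerCentralSeries (n - 2) ≠ ⊥) := by
  have hpp : p.Prime := Fact.out
  have hPG : IsPGroup p G := IsPGroup.of_card hG
  by_cases hcyc : IsCyclic G
  · left
    refine ⟨⊤, inferInstance, ?_, ?_⟩
    · exact isCyclic_of_surjective Subgroup.topEquiv.symm Subgroup.topEquiv.symm.surjective
    · exact isCyclic_of_surjective (QuotientGroup.mk' (⊤ : Subgroup G))
        (QuotientGroup.mk'_surjective _)
  obtain ⟨E, hEn, hEel, hEcard⟩ := Cfsg.Agent.S0126.result hp hPG hcyc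
  haveI := hEn
  by_cases hΩ : ∀ x : G, x ^ p = 1 → x ∈ E
  · have hS : Cfsg.Agent.Helper19.Huppert.Small p G := by
      unfold Cfsg.Agent.Helper19.Huppert.Small
      rw [← hEcard]
      apply Nat.card_le_card_of_injective
        (fun x : {x : G // x ^ p = 1} => (⟨x.1, hΩ x.1 x.2⟩ : ↥E))
      intro a b hab
      apply Subtype.ext
      exact congrArg (fun t : ↥E => (t : G)) hab
    by_cases h3 : 3 < p
    · left
      exact Cfsg.Agent.Helper19.Huppert.metacyclic_of_small h3 _ G rfl hPG hS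
    · have hp3 : p = 3 := by
        have := hpp.two_le
        omega
      rcases Cfsg.Agent.Helper10.Blk.small_main hp n G hG hS with hm | ⟨hn3, hlcs⟩
      · left; exact hm
      · right; right; right
        exact ⟨hp3, by omega, hlcs⟩
  · push Not at hΩ
    obtain ⟨x, hxp, hxE⟩ := hΩ
    obtain ⟨N, hNn, hctx⟩ := Cfsg.Agent.Helper10.Blk.exists_ctx hPG hrk E hEel hEcard x hxp hxE
    haveI := hNn
    by_cases hB : ∀ g : G, x⁻¹ * g⁻¹ * x * g ∈ E
    · by_cases hb : ∀ c, ((Cfsg.Agent.Helper10.Blk.thetaHom E x hctx.hEab hB c : ↥E) : G) ∈ N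
      · right; left
        exact Cfsg.Agent.Helper10.Blk.caseI_typeB hp hPG n hG E N x hctx hB hb
      · push Not at hb
        obtain ⟨c₀, hc₀⟩ := hb
        right; right; left
        exact Cfsg.Agent.Helper10.Blk.caseI_typeC hp hPG n hG E N x hctx hB c₀ hc₀
    · push Not at hB
      right; right; right
      exact Cfsg.Agent.Helper10.Blk.caseI_maxclass hp hPG n hG E N x hctx hB

end Cfsg.Agent.S3888
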