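import Mathlib
import Cfsg.Statements.S3889

set_option autoImplicit false
open Cfsg

namespace Cfsg.Agent.S3889

section
variable {G : Type*} [CommGroup G] [Finite G] (𝓑 : Set (Subgroup G))

/-- Key step: if `a ≠ 1` lies in the component `A` and `b ∉ A`, then `orderOf b ∣ orderOf a`. -/
lemma key (hcov : ∀ g : G, ∃ B ∈ 𝓑, g ∈ B)
    (hdisj : ∀ B ∈ 𝓑, ∀ C ∈ 𝓑, B ≠ C → B ⊓ C = ⊥)
    {A : Subgroup G} (hA : A ∈ 𝓑) {a b : G} (ha : a ∈ A) (ha1 : a ≠ 1) (hb : b ∉ A) :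
    orderOf b ∣ orderOf a := by
  obtain ⟨B', hB', hbB'⟩ := hcov b
  obtain ⟨C, hC, habC⟩ := hcov (a * b)
  have hB'A : B' ≠ A := fun h => hb (h ▸ hbB')
  apply orderOf_dvd_of_pow_eq_one
  by_cases hCB : C = B'
  · exfalso
    subst hCB
    have haC : a ∈ C := by
      have := C.mul_mem habC (C.inv_mem hbB')
      simpa using this
    have : a ∈ A ⊓ C := ⟨ha, haC⟩
    rw [hdisj A hA C hB' (Ne.symm hB'A)] at this
    exact ha1 ((Subgroup.mem_bot).mp this)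
  · have h1 : (a * b) ^ orderOf a = b ^ orderOf a := by
      rw [mul_pow, pow_orderOf_eq_one, one_mul]
    have h2 : b ^ orderOf a ∈ C ⊓ B' :=
      ⟨h1 ▸ C.pow_mem habC _, B'.pow_mem hbB' _⟩
    rw [hdisj C hC B' hB' hCB] at h2
    exact (Subgroup.mem_bot).mp h2

/-- Elements in different components have the same order. -/
lemma orderOf_eq_of_not_mem (hcov : ∀ g : G, ∃ B ∈ 𝓑, g ∈ B)
    (hdisj : ∀ B ∈ 𝓑, ∀ C ∈ 𝓑, B ≠ C → B ⊓ C = ⊥)
    {A : Subgroup G} (hA : A ∈ 𝓑) {a b : G} (ha : a ∈ A) (ha1 : a ≠ 1) (hb : b ∉ A) :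
    orderOf a = orderOf b := by
  apply Nat.dvd_antisymm _ (key 𝓑 hcov hdisj hA ha ha1 hb)
  obtain ⟨B', hB', hbB'⟩ := hcov b
  have hB'A : B' ≠ A := fun h => hb (h ▸ hbB')
  have hb1 : b ≠ 1 := fun h => hb (h ▸ A.one_mem)
  have haB' : a ∉ B' := by
    intro h
    have : a ∈ A ⊓ B' := ⟨ha, h⟩
    rw [hdisj A hA B' hB' (Ne.symm hB'A)] at this
    exact ha1 ((Subgroup.mem_bot).mp this)
  exact key 𝓑 hcov hdisj hB' hbB' hb1 haB'

/-- All non-identity elements have the same order. -/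
lemma orderOf_eq_all (hprop : ∀ B ∈ 𝓑, B ≠ ⊤) (hcov : ∀ g : G, ∃ B ∈ 𝓑, g ∈ B)
    (hdisj : ∀ B ∈ 𝓑, ∀ C ∈ 𝓑, B ≠ C → B ⊓ C = ⊥)
    {x y : G} (hx : x ≠ 1) (hy : y ≠ 1) : orderOf x = orderOf y := by
  obtain ⟨A, hA, hxA⟩ := hcov x
  by_cases hyA : y ∈ A
  · obtain ⟨z, hz⟩ : ∃ z : G, z ∉ A := by
      by_contra hcon
      push Not at hcon
      exact hprop A hA (by rw [eq_top_iff]; intro g _; exact hcon g)
    rw [orderOf_eq_of_not_mem 𝓑 hcov hdisj hA hxA hx hz,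
      orderOf_eq_of_not_mem 𝓑 hcov hdisj hA hyA hy hz]
  · exact orderOf_eq_of_not_mem 𝓑 hcov hdisj hA hxA hx hyA

end

theorem result {G : Type*} [CommGroup G] [Finite G] (𝓑 : Set (Subgroup G)) (hprop : ∀ B ∈ 𝓑, B ≠ ⊤)
    (hcov : ∀ g : G, ∃ B ∈ 𝓑, g ∈ B) (hdisj : ∀ B ∈ 𝓑, ∀ C ∈ 𝓑, B ≠ C → B ⊓ C = ⊥) :
    (Monoid.exponent G).Prime := by
  obtain ⟨A, hA, -⟩ := hcov 1
  obtain ⟨z, hz⟩ : ∃ z : G, z ∉ A := by
    by_contra hcon
    push Not at hcon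
    exact hprop A hA (by rw [eq_top_iff]; intro g _; exact hcon g)
  have hz1 : z ≠ 1 := fun h => hz (h ▸ A.one_mem)
  have hn1 : orderOf z ≠ 1 := fun h => hz1 (orderOf_eq_one_iff.mp h)
  -- the common order is prime
  have hprime : (orderOf z).Prime := by
    obtain ⟨p, hp, hpd⟩ := Nat.exists_prime_and_dvd hn1
    have h1 : orderOf (z ^ (orderOf z / p)) = p :=
      orderOf_pow_orderOf_div (orderOf_pos z).ne' hpd
    have h2 : z ^ (orderOf z / p) ≠ 1 := by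
      intro h
      rw [h, orderOf_one] at h1
      exact hp.ne_one h1.symm
    have h3 := orderOf_eq_all 𝓑 hprop hcov hdisj h2 hz1
    rw [h1] at h3
    rw [← h3]; exact hp
  have hdvd1 : orderOf z ∣ Monoid.exponent G := Monoid.order_dvd_exponent z
  have hdvd2 : Monoid.exponent G ∣ orderOf z := by
    apply Monoid.exponent_dvd_of_forall_pow_eq_one
    intro g
    by_cases hg : g = 1
    · rw [hg, one_pow]
    · rw [← orderOf_eq_all 𝓑 hprop hcov hdisj hg hz1, pow_orderOf_eq_one]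
  rw [Nat.dvd_antisymm hdvd2 hdvd1]
  exact hprime

end Cfsg.Agent.S3889
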