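import Mathlib
import Cfsg.Statements.S3890
import Cfsg.Agent.Helper19.NilpCover

set_option autoImplicit false
open Cfsg

namespace Cfsg.Agent.S3890

open Subgroup Cfsg.Agent.Helper19.NilpCover

/-- A cover of a group is a finite set of proper subgroups whose union is the whole group; it is minimal when no cover has fewer members, and nilpotent when all its members are nilpotent. Let G be a finite group with trivial center admitting a nilpotent minimal cover 𝓐, and let P be an abelian Sylow p-subgroup of G that is not normal. Then either P is elementary abelian of order greater than p, or P is a Sylow p-subgroup of some member A of 𝓐, the normalizer N of P is a maximal subgroup of G, N meets each of its conjugates by elements outside N in a subgroup of order prime to p, and the centralizer of P equals A. -/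
theorem result {G : Type*} [Group G] [Finite G] (hZ : Subgroup.center G = ⊥) (𝓐 : Finset (Subgroup G))
    (h𝓐 : ((∀ A ∈ 𝓐, A ≠ ⊤) ∧ (∀ g : G, ∃ A ∈ 𝓐, g ∈ A)) ∧ (∀ 𝓑 : Finset (Subgroup G), (∀ A ∈ 𝓑, A ≠ ⊤) ∧ (∀ g : G, ∃ A ∈ 𝓑, g ∈ A) → 𝓐.card ≤ 𝓑.card) ∧ (∀ A ∈ 𝓐, Group.IsNilpotent ↥A)) {p : ℕ} [Fact p.Prime] (P : Sylow p G) (hab : IsMulCommutative ↥(P : Subgroup G))
    (hnn : ¬ (P : Subgroup G).Normal) :
    (Cfsg.IsElementaryAbelian p (P : Subgroup G) ∧ p < Nat.card ↥(P : Subgroup G)) ∨
    (∃ A ∈ 𝓐, (P : Subgroup G) ≤ A ∧ ¬ p ∣ ((P : Subgroup G).subgroupOf A).index ∧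
      IsCoatom (Subgroup.normalizer ((P : Subgroup G) : Set G)) ∧
      (∀ g : G, g ∉ Subgroup.normalizer ((P : Subgroup G) : Set G) →
        ¬ p ∣ Nat.card ↥(Subgroup.normalizer ((P : Subgroup G) : Set G) ⊓
          (Subgroup.normalizer ((P : Subgroup G) : Set G)).map (MulAut.conj g).toMonoidHom)) ∧
      Subgroup.centralizer ((P : Subgroup G) : Set G) = A) := by
  obtain ⟨⟨hproper, hcover⟩, hmin, hnil⟩ := h𝓐
  have hp : p.Prime := Fact.out
  by_cases hE : Cfsg.IsElementaryAbelian p (P : Subgroup G) ∧ p < Nat.card ↥(P : Subgroup G)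
  · left; exact hE
  · right
    have hQ : Nat.card (P : Subgroup G) = p ∨ ∃ x₀ ∈ P, x₀ ^ p ≠ 1 := by
      by_cases hE1 : Cfsg.IsElementaryAbelian p (P : Subgroup G)
      · left
        have h1 : ¬ p < Nat.card (P : Subgroup G) := fun h => hE ⟨hE1, h⟩
        obtain ⟨k, hk⟩ := IsPGroup.iff_card.mp P.isPGroup'
        have hk0 : k ≠ 0 := by
          rintro rfl
          rw [pow_zero] at hk
          have h2 : (P : Subgroup G) = ⊥ := Subgroup.card_eq_one.mp hk
          apply hnn
          rw [h2]
          infer_instance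
        rw [hk] at h1 ⊢
        have hk1 : k = 1 := by
          by_contra hne
          apply h1
          calc p = p ^ 1 := (pow_one p).symm
            _ < p ^ k := Nat.pow_lt_pow_right hp.one_lt (by omega)
        rw [hk1, pow_one]
      · right
        unfold Cfsg.IsElementaryAbelian at hE1
        push Not at hE1
        obtain ⟨a, ha, hap⟩ := hE1 hab
        exact ⟨a, ha, hap⟩
    obtain ⟨hA, hco, hTI, -⟩ := main hZ 𝓐 hproper hcover hmin hnil P hab hnn hQ
    refine ⟨_, hA, sylow_le_centralizer P hab P, ?_, hco, hTI, rfl⟩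
    intro hd
    apply P.not_dvd_index
    rw [← relIndex_mul_index (sylow_le_centralizer P hab P)]
    exact Dvd.dvd.mul_right hd _

end Cfsg.Agent.S3890
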