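import Mathlib
import Cfsg.Statements.S3891
import Cfsg.Agent.Helper19.NilpCover

set_option autoImplicit false
open Cfsg

namespace Cfsg.Agent.S3891

open Subgroup Cfsg.Agent.Helper19.NilpCover

/-- A cover of a group is a finite set of proper subgroups whose union is the whole group; it is minimal when no cover has fewer members, and nilpotent when all its members are nilpotent. Let G be a finite group with trivial center admitting a nilpotent minimal cover, and let P be a non-normal Sylow p-subgroup of G that is cyclic, or abelian but not elementary abelian. Then the centralizer of P is nilpotent and the normalizer of P is the unique maximal subgroup of G containing the centralizer of P. -/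
theorem result {G : Type*} [Group G] [Finite G] (hZ : Subgroup.center G = ⊥) (𝓐 : Finset (Subgroup G))
    (h𝓐 : ((∀ A ∈ 𝓐, A ≠ ⊤) ∧ (∀ g : G, ∃ A ∈ 𝓐, g ∈ A)) ∧ (∀ 𝓑 : Finset (Subgroup G), (∀ A ∈ 𝓑, A ≠ ⊤) ∧ (∀ g : G, ∃ A ∈ 𝓑, g ∈ A) → 𝓐.card ≤ 𝓑.card) ∧ (∀ A ∈ 𝓐, Group.IsNilpotent ↥A)) {p : ℕ} [Fact p.Prime] (P : Sylow p G)
    (hP : IsCyclic ↥(P : Subgroup G) ∨ (IsMulCommutative ↥(P : Subgroup G) ∧ ¬ Cfsg.IsElementaryAbelian p (P : Subgroup G)))
    (hnn : ¬ (P : Subgroup G).Normal) :
    Group.IsNilpotent ↥(Subgroup.centralizer ((P : Subgroup G) : Set G)) ∧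
      IsCoatom (Subgroup.normalizer ((P : Subgroup G) : Set G)) ∧
      ∀ M : Subgroup G, IsCoatom M → Subgroup.centralizer ((P : Subgroup G) : Set G) ≤ M →
        M = Subgroup.normalizer ((P : Subgroup G) : Set G) := by
  obtain ⟨⟨hproper, hcover⟩, hmin, hnil⟩ := h𝓐
  have hp : p.Prime := Fact.out
  have hab : IsMulCommutative ↥(P : Subgroup G) := by
    rcases hP with hc | ⟨hab, -⟩
    · exact IsCyclic.isMulCommutative
    · exact hab
  have hP1 : (P : Subgroup G) ≠ ⊥ := by
    intro h2
    apply hnn
    rw [h2]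
    infer_instance
  have hQ : Nat.card (P : Subgroup G) = p ∨ ∃ x₀ ∈ P, x₀ ^ p ≠ 1 := by
    by_cases hE1 : Cfsg.IsElementaryAbelian p (P : Subgroup G)
    · left
      rcases hP with hc | ⟨-, hne⟩
      · -- cyclic of exponent p
        obtain ⟨g, hg⟩ := hc.exists_generator
        have h1 : orderOf g = Nat.card (P : Subgroup G) :=
          orderOf_eq_card_of_forall_mem_zpowers hg
        have h2 : g ^ p = 1 := by
          apply Subtype.ext
          have := hE1.2 (g : G) g.2
          simpa using this
        have h3 : orderOf g ∣ p := orderOf_dvd_of_pow_eq_one h2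
        rw [h1] at h3
        rcases (Nat.dvd_prime hp).mp h3 with h4 | h4
        · exact absurd (Subgroup.card_eq_one.mp h4) hP1
        · exact h4
      · exact absurd hE1 hne
    · right
      unfold Cfsg.IsElementaryAbelian at hE1
      push Not at hE1
      obtain ⟨a, ha, hap⟩ := hE1 hab
      exact ⟨a, ha, hap⟩
  obtain ⟨hA, hco, -, huniq⟩ := main hZ 𝓐 hproper hcover hmin hnil P hab hnn hQ
  exact ⟨hnil _ hA, hco, huniq⟩

end Cfsg.Agent.S3891
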