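import Cfsg.Statements.S3903
import Mathlib
import Cfsg.Agent.S0556
import Cfsg.Agent.Helper17.S3903Aux

set_option autoImplicit false
open Cfsg

namespace Cfsg.Agent.S3903

open Cfsg.Agent.Helper17.S3903Aux

/-- Let N be a proper normal subgroup of the finite group G such that every element x of G outside N has prime power order and has centralizer C_G(x) a maximal subgroup of G. Then N is solvable. -/
theorem result {G : Type*} [Group G] [Finite G] (N : Subgroup G) [N.Normal] (hN : N ≠ ⊤)
    (h : ∀ x : G, x ∉ N → IsPrimePow (orderOf x) ∧ IsCoatom (Subgroup.centralizer ({x} : Set G))) : Group.IsSolvable ↥N := by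
  have hpp : ∀ y : G, y ∉ N → IsPrimePow (orderOf y) := fun y hy => (h y hy).1
  have hco : ∀ y : G, y ∉ N → IsCoatom (Subgroup.centralizer ({y} : Set G)) := fun y hy => (h y hy).2
  by_cases hcen : ∃ x : G, x ∉ N ∧ N ≤ Subgroup.centralizer ({x} : Set G)
  · obtain ⟨x, hx, hle⟩ := hcen
    exact solvable_of_central N hpp hx hle
  push Not at hcen
  have hall : ∀ x : G, x ∉ N → N ⊔ Subgroup.centralizer ({x} : Set G) = ⊤ :=
    fun x hx => sup_centralizer_eq_top N (hco x hx) (hcen x hx)
  have hcomm := comm_mem N hall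
  obtain ⟨p, hp, hpall⟩ := exists_prime N hN hpp hcomm
  haveI : Fact p.Prime := ⟨hp⟩
  have hpg : ∀ y : G, y ∉ N → IsPGroup p (Subgroup.centralizer ({y} : Set G)) :=
    fun y hy => isPGroup_centralizer N hp hpp hpall hy
  suffices hG : Group.IsSolvable G by infer_instance
  by_cases hGp : IsPGroup p G
  · haveI := hGp.isNilpotent
    infer_instance
  obtain ⟨y, hy, hab⟩ := exists_abelian_centralizer N hN hGp hco hpg
  have h3 := Cfsg.Agent.S0556.result (Subgroup.centralizer ({y} : Set G)) (hco y hy)
  exact (Group.isSolvable_def G).mpr ⟨3, h3⟩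

end Cfsg.Agent.S3903
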