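import Mathlib
import Cfsg.Statements.S3904
import Cfsg.Agent.Helper6.MaxCentStruct

set_option autoImplicit false
open Cfsg

namespace Cfsg.Agent.S3904

open Cfsg.Agent.Helper6.MaxCent in
/-- Let G be a non-abelian finite group in which the centralizer of every non-central element is a maximal subgroup. Then G/Z(G) is either an elementary abelian p-group for some prime p, or a minimal non-abelian group (non-abelian with all proper subgroups abelian) of order p^a · q for distinct primes p, q with a normal Sylow p-subgroup. -/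
theorem result {G : Type*} [Group G] [Finite G] (hna : ¬ IsMulCommutative G)
    (h : ∀ x : G, x ∉ Subgroup.center G → IsCoatom (Subgroup.centralizer ({x} : Set G))) :
    (∃ p : ℕ, p.Prime ∧ Cfsg.IsElementaryAbelian p (⊤ : Subgroup (G ⧸ Subgroup.center G))) ∨
    (¬ IsMulCommutative (G ⧸ Subgroup.center G) ∧ (∀ H : Subgroup (G ⧸ Subgroup.center G), H ≠ ⊤ → IsMulCommutative ↥H) ∧
      ∃ p q a : ℕ, p.Prime ∧ q.Prime ∧ p ≠ q ∧ Nat.card (G ⧸ Subgroup.center G) = p ^ a * q ∧
        ∀ P : Subgroup (G ⧸ Subgroup.center G), Nat.card ↥P = p ^ a → P.Normal) := by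
  have hyp : Hyp2 G := h
  have hg₀ : ∃ g₀ : G, g₀ ∉ Subgroup.center G := by
    by_contra hall
    push Not at hall
    apply hna
    exact ⟨⟨fun a b => Subgroup.mem_center_iff.mp (hall b) a⟩⟩
  obtain ⟨g₀, hg₀⟩ := hg₀
  by_cases hnil : Group.IsNilpotent G
  · left
    obtain ⟨s, hs, hpow⟩ := hyp.exists_prime_of_nilpotent hg₀
    obtain ⟨hcomm, hexp⟩ := hyp.elementary_of_nilpotent hs hpow
    refine ⟨s, hs, ⟨⟨fun a b => ?_⟩⟩, ?_⟩
    · apply Subtype.ext
      exact quotient_comm_of_commutator_le hcomm a.1 b.1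
    · intro a _
      obtain ⟨x, rfl⟩ := QuotientGroup.mk_surjective a
      rw [← QuotientGroup.mk_pow, QuotientGroup.eq_one_iff]
      exact hexp x
  · right
    have nnp : ∀ p : ℕ, p.Prime → ¬ IsPGroup p (G ⧸ Subgroup.center G) := by
      intro p hp hpg
      have : Fact p.Prime := ⟨hp⟩
      exact hnil (Group.of_quotient_center_nilpotent hpg.isNilpotent)
    have hex : ∃ x : G, x ∉ Subgroup.center G ∧
        ¬ (Subgroup.centralizer ({x} : Set G)).Normal := by
      by_contra hall
      push Not at hall
      apply hnil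
      have hc : _root_.commutator G ≤ Subgroup.center G := by
        intro c hc
        apply mem_center_of_forall_mem_centralizer
        intro g hg
        exact commutator_le_of_normal_coatom (hall g hg) (h g hg) hc
      exact ⟨⟨2, Cfsg.Agent.S4314.upperCentralSeries_two_eq_top hc⟩⟩
    by_cases hA : ∃ x : G, x ∉ Subgroup.center G ∧ AbelianCent x ∧
        ¬ (Subgroup.centralizer ({x} : Set G)).Normal
    · obtain ⟨x, hx, hab, hn⟩ := hA
      exact hyp.frobenius_structure hx hn hab
    · exfalso
      push Not at hA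
      obtain ⟨x₀, hx₀, hn₀⟩ := hex
      have hna₀ : ¬ AbelianCent x₀ := fun hab => hn₀ (hA x₀ hx₀ hab)
      refine CaseB.false ⟨hyp, ?_, nnp⟩
      intro y hy hab
      have hAn : (Subgroup.centralizer ({y} : Set G)).Normal := hA y hy hab
      have hAt : Subgroup.centralizer ({y} : Set G) ≠ ⊤ := ne_top_of_not_mem hy
      -- `M ∩ A ≤ Z`
      have hMA : ∀ w : G, w ∈ Subgroup.centralizer ({x₀} : Set G) →
          w ∈ Subgroup.centralizer ({y} : Set G) → w ∈ Subgroup.center G := by
        intro w hwM hwA
        by_contra hwZ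
        have h1 := hyp.centralizer_eq_of_abelian hy hab hwA hwZ
        have h2 : x₀ ∈ Subgroup.centralizer ({y} : Set G) := by
          rw [← h1, Subgroup.mem_centralizer_singleton_iff]
          rw [Subgroup.mem_centralizer_singleton_iff] at hwM
          exact hwM.symm
        have h3 := hyp.centralizer_eq_of_abelian hy hab h2 hx₀
        apply hn₀
        rw [h3]
        exact hAn
      -- an element of `M` outside `A`
      have hex' : ∃ t : G, t ∈ Subgroup.centralizer ({x₀} : Set G) ∧
          t ∉ Subgroup.centralizer ({y} : Set G) := by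
        by_contra hall
        push Not at hall
        have := hyp.maximal hx₀ (K := Subgroup.centralizer ({y} : Set G)) hall hAt
        apply hn₀
        rw [← this]
        exact hAn
      obtain ⟨t, htM, htA⟩ := hex'
      have hsup : Subgroup.centralizer ({y} : Set G) ⊔ Subgroup.zpowers t = ⊤ := by
        apply (h y hy).2
        apply lt_of_le_of_ne le_sup_left
        intro e
        apply htA
        rw [e]
        exact (le_sup_right : Subgroup.zpowers t ≤ _) (Subgroup.mem_zpowers t)
      have hdec : ∀ m : G, m ∈ Subgroup.centralizer ({x₀} : Set G) →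
          ∃ z ∈ Subgroup.center G, ∃ i : ℤ, m = z * t ^ i := by
        intro m hm
        have hm' : m ∈ Subgroup.centralizer ({y} : Set G) ⊔ Subgroup.zpowers t := by
          rw [hsup]; exact Subgroup.mem_top m
        obtain ⟨a, ha, u, hu, rfl⟩ := Subgroup.mem_sup_of_normal_left.mp hm'
        obtain ⟨i, rfl⟩ := Subgroup.mem_zpowers_iff.mp hu
        refine ⟨a, hMA a ?_ ha, i, rfl⟩
        have := Subgroup.mul_mem _ hm (Subgroup.inv_mem _ (Subgroup.zpow_mem _ htM i))
        rwa [mul_inv_cancel_right] at this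
      apply hna₀
      intro m₁ hm₁ m₂ hm₂
      obtain ⟨z₁, hz₁, i, rfl⟩ := hdec m₁ hm₁
      obtain ⟨z₂, hz₂, j, rfl⟩ := hdec m₂ hm₂
      have c1 : ∀ g : G, g * z₁ = z₁ * g := fun g => Subgroup.mem_center_iff.mp hz₁ g
      have c2 : ∀ g : G, g * z₂ = z₂ * g := fun g => Subgroup.mem_center_iff.mp hz₂ g
      have c3 : t ^ i * t ^ j = t ^ j * t ^ i := by
        rw [← zpow_add, ← zpow_add, add_comm]
      calc z₁ * t ^ i * (z₂ * t ^ j) = z₁ * (t ^ i * z₂) * t ^ j := by group
        _ = z₁ * (z₂ * t ^ i) * t ^ j := by rw [c2]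
        _ = z₁ * z₂ * (t ^ i * t ^ j) := by group
        _ = z₁ * z₂ * (t ^ j * t ^ i) := by rw [c3]
        _ = (z₂ * z₁) * t ^ j * t ^ i := by rw [c2 z₁]; group
        _ = z₂ * (z₁ * t ^ j) * t ^ i := by group
        _ = z₂ * (t ^ j * z₁) * t ^ i := by rw [c1]
        _ = z₂ * t ^ j * (z₁ * t ^ i) := by group

end Cfsg.Agent.S3904
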