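import Mathlib
import Cfsg.Statements.S3910
import Cfsg.Agent.Helper19.Basic
import Cfsg.Agent.Helper19.OmegaOne
import Cfsg.Agent.Helper18.FocalFusion
import Cfsg.Agent.Helper22.ConjCover
import Cfsg.Agent.Helper23.CNGroup
import Cfsg.Agent.Helper1.SylowBasic

set_option autoImplicit false
open Cfsg

namespace Cfsg.Agent.S3910

open Subgroup Cfsg.Agent.Helper19
open scoped Pointwise

/-- In a finite nilpotent group a `q`-element commutes with every element of order prime to `q`. -/
lemma commute_of_coprime_of_isNilpotent {K : Type*} [Group K] [Finite K] [Group.IsNilpotent K]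
    {q : ℕ} [hq : Fact q.Prime] (a b : K) {j : ℕ} (ha : orderOf a = q ^ j)
    (hb : (orderOf b).Coprime q) : Commute a b := by
  have haP : IsPGroup q (zpowers a) := IsPGroup.of_card (n := j) (by rw [Nat.card_zpowers, ha])
  have : b ∈ centralizer ({a} : Set K) := by
    apply mem_of_forall_primePow_mem (centralizer {a}) _ b rfl
    rintro w hw ⟨r, t, hr, hwr⟩
    rw [mem_centralizer_iff]
    intro h hh
    rw [Set.mem_singleton_iff.mp hh]
    by_cases ht : t = 0
    · subst ht
      rw [pow_zero, orderOf_eq_one_iff] at hwr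
      rw [hwr]; simp
    · have hrq : q ≠ r := by
        rintro rfl
        have h1 : q ∣ orderOf w := by rw [hwr]; exact dvd_pow_self q ht
        have h2 : orderOf w ∣ orderOf b := orderOf_dvd_of_mem_zpowers hw
        exact hr.one_lt.ne' (Nat.Coprime.eq_one_of_dvd hb.symm (h1.trans h2))
      have : Fact r.Prime := ⟨hr⟩
      have hwP : IsPGroup r (zpowers w) :=
        IsPGroup.of_card (n := t) (by rw [Nat.card_zpowers, hwr])
      exact (Cfsg.Agent.Helper23.commute_of_isNilpotent hrq a w haP hwP).eq
  exact (mem_centralizer_iff.mp this a rfl)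

/-- A finite nilpotent group in which any two abelian subgroups of the same order are conjugate is cyclic. -/
theorem result {G : Type*} [Group G] [Finite G] (hB : ∀ A B : Subgroup G, IsMulCommutative ↥A → IsMulCommutative ↥B → Nat.card ↥A = Nat.card ↥B → ∃ g : G, B = A.map (MulAut.conj g).toMonoidHom) (hnil : Group.IsNilpotent G) : IsCyclic G := by
  classical
  -- an element of maximal order
  obtain ⟨x, hx⟩ := Finite.exists_max (fun g : G => orderOf g)
  -- prime power orders divide `orderOf x`
  have hpp : ∀ (y : G) (q j : ℕ), q.Prime → orderOf y = q ^ j → q ^ j ∣ orderOf x := by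
    intro y q j hq hy
    have : Fact q.Prime := ⟨hq⟩
    obtain ⟨u, v, huv, hu, hv, ⟨i, hi⟩, hvq⟩ := Cfsg.Agent.Helper18.exists_pPart_decomp q x
    have hcomm : Commute u v := by
      obtain ⟨a, rfl⟩ := mem_zpowers_iff.mp hu
      obtain ⟨b, rfl⟩ := mem_zpowers_iff.mp hv
      exact (Commute.refl x).zpow_zpow a b
    have hox : orderOf x = q ^ i * orderOf v := by
      rw [huv, hcomm.orderOf_mul_eq_mul_orderOf_of_coprime (by rw [hi]; exact (hvq.pow_right i).symm), hi]
    by_contra hnd
    have hij : i < j := by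
      by_contra hle
      push Not at hle
      apply hnd
      rw [hox]
      exact (pow_dvd_pow q hle).mul_right _
    have hyv : Commute y v := commute_of_coprime_of_isNilpotent y v hy hvq
    have hoyv : orderOf (y * v) = q ^ j * orderOf v := by
      rw [hyv.orderOf_mul_eq_mul_orderOf_of_coprime (by rw [hy]; exact (hvq.pow_right j).symm), hy]
    have hlt : orderOf x < orderOf (y * v) := by
      rw [hox, hoyv]
      exact Nat.mul_lt_mul_of_pos_right (Nat.pow_lt_pow_right hq.one_lt hij) (orderOf_pos v)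
    exact absurd (hx (y * v)) (not_le.mpr hlt)
  -- all orders divide `orderOf x`
  have hdvd : ∀ z : G, orderOf z ∣ orderOf x := by
    intro z
    rw [← Nat.factorization_prime_le_iff_dvd (orderOf_pos z).ne' (orderOf_pos x).ne']
    intro q hq
    rw [← hq.pow_dvd_iff_le_factorization (orderOf_pos x).ne']
    set k := (orderOf z).factorization q with hk
    have hkd : q ^ k ∣ orderOf z := Nat.ordProj_dvd (orderOf z) q
    obtain ⟨m, hm⟩ := hkd
    have hm0 : m ≠ 0 := by
      rintro rfl
      rw [mul_zero] at hm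
      exact (orderOf_pos z).ne' hm
    have hord : orderOf (z ^ m) = q ^ k := by
      rw [orderOf_pow_of_dvd hm0 ⟨q ^ k, by rw [hm, mul_comm]⟩, hm, Nat.mul_div_cancel _ (Nat.pos_of_ne_zero hm0)]
    exact hpp (z ^ m) q k hq hord
  -- every element lies in a conjugate of `⟨x⟩`
  have hcover : ∀ z : G, ∃ g : G, z ∈ MulAut.conj g • zpowers x := by
    intro z
    obtain ⟨m, hm⟩ := hdvd z
    have hm0 : m ≠ 0 := by
      rintro rfl
      rw [mul_zero] at hm
      exact (orderOf_pos x).ne' hm
    have hord : orderOf (x ^ m) = orderOf z := by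
      rw [orderOf_pow_of_dvd hm0 ⟨orderOf z, by rw [hm, mul_comm]⟩, hm,
        Nat.mul_div_cancel _ (Nat.pos_of_ne_zero hm0)]
    have hab : ∀ w : G, IsMulCommutative ↥(zpowers w) := fun w =>
      ⟨⟨fun a b => by
        obtain ⟨a, ha⟩ := a
        obtain ⟨b, hb⟩ := b
        obtain ⟨i, rfl⟩ := mem_zpowers_iff.mp ha
        obtain ⟨k, rfl⟩ := mem_zpowers_iff.mp hb
        apply Subtype.ext
        change w ^ i * w ^ k = w ^ k * w ^ i
        rw [← zpow_add, ← zpow_add, add_comm]⟩⟩
    obtain ⟨g, hg⟩ := hB (zpowers (x ^ m)) (zpowers z) (hab _) (hab _)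
      (by rw [Nat.card_zpowers, Nat.card_zpowers, hord])
    refine ⟨g, ?_⟩
    have hz : z ∈ (zpowers (x ^ m)).map (MulAut.conj g).toMonoidHom := hg ▸ mem_zpowers z
    obtain ⟨c, hc, hcz⟩ := hz
    rw [Cfsg.Agent.Helper1.mem_conj_smul_iff]
    have hcx : c ∈ zpowers x := (zpowers_le.mpr (Subgroup.pow_mem _ (mem_zpowers x) m)) hc
    have : g⁻¹ * z * g = c := by
      rw [← hcz]
      simp [MulAut.conj_apply, mul_assoc]
    rw [this]
    exact hcx
  have htop : zpowers x = ⊤ := by
    by_contra hne
    obtain ⟨g, hg⟩ := Cfsg.Agent.Helper22.exists_not_mem_conj (zpowers x) hne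
    obtain ⟨y, hy⟩ := hcover g
    exact hg y hy
  exact isCyclic_iff_exists_zpowers_eq_top.mpr ⟨x, htop⟩

end Cfsg.Agent.S3910
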