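import Mathlib
import Cfsg.Statements.S3917

set_option autoImplicit false
open Cfsg

namespace Cfsg.Agent.S3917

section
variable {G : Type*} [CommGroup G] [Finite G]

/-- The subgroup of elements killed by `n`. -/
def ker (G : Type*) [CommGroup G] (n : ℕ) : Subgroup G := (powMonoidHom n : G →* G).ker

omit [Finite G] in
lemma mem_ker {n : ℕ} {x : G} : x ∈ ker G n ↔ x ^ n = 1 := by
  simp [ker, MonoidHom.mem_ker]

omit [Finite G] in
/-- A cyclic subgroup all of whose elements are killed by `n > 0` has order at most `n`. -/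
lemma card_le_of_isCyclic {H : Subgroup G} (hH : IsCyclic H) {n : ℕ} (hn : 0 < n)
    (hpow : ∀ x ∈ H, x ^ n = 1) : Nat.card H ≤ n := by
  obtain ⟨g, hg⟩ := IsCyclic.exists_ofOrder_eq_natCard (α := H)
  rw [← hg]
  apply Nat.le_of_dvd hn
  apply orderOf_dvd_of_pow_eq_one
  exact Subtype.ext (by simpa using hpow g g.2)

/-- If `G` is not cyclic, there is `n > 0` with more than `n` solutions of `x ^ n = 1`. -/
lemma exists_lt_card_ker (hG : ¬ IsCyclic G) : ∃ n : ℕ, 0 < n ∧ n < Nat.card (ker G n) := by
  classical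
  have : Fintype G := Fintype.ofFinite G
  by_contra hcon
  push Not at hcon
  apply hG
  apply isCyclic_of_card_pow_eq_one_le
  intro n hn
  have h1 := hcon n hn
  have h2 : Nat.card (ker G n) = (Finset.univ.filter (fun a : G => a ^ n = 1)).card := by
    rw [Nat.card_eq_fintype_card, ← Fintype.card_subtype]
    apply Fintype.card_congr
    exact Equiv.subtypeEquivRight (fun x => mem_ker)
  rw [← h2]; exact h1

end

theorem result {G : Type*} [CommGroup G] [Finite G] (hX : (∀ H : Subgroup G, ¬ IsCyclic ↥H → Subgroup.centralizer (H : Set G) ≤ H)) :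
    IsCyclic G ∨ ∃ p : ℕ, p.Prime ∧ Nat.card G = p ^ 2 ∧ Monoid.exponent G = p := by
  classical
  by_cases hG : IsCyclic G
  · exact Or.inl hG
  right
  -- every proper subgroup is cyclic
  have hprop : ∀ H : Subgroup G, H ≠ ⊤ → IsCyclic H := by
    intro H hH
    by_contra hc
    apply hH
    have := hX H hc
    rw [eq_top_iff]
    refine le_trans ?_ this
    intro x _
    rw [Subgroup.mem_centralizer_iff]
    intro h _
    exact mul_comm h x
  -- a subgroup killed by n with more than n elements is everything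
  have hbig : ∀ n : ℕ, 0 < n → n < Nat.card (ker G n) → ∀ x : G, x ^ n = 1 := by
    intro n hn hlt x
    have : ker G n = ⊤ := by
      by_contra hne
      have := card_le_of_isCyclic (hprop _ hne) hn (fun x hx => mem_ker.mp hx)
      omega
    exact mem_ker.mp (this ▸ Subgroup.mem_top x)
  have hex := exists_lt_card_ker hG
  obtain ⟨n, ⟨hn0, hnlt⟩, hmin'⟩ : ∃ n : ℕ, (0 < n ∧ n < Nat.card (ker G n)) ∧
      ∀ m : ℕ, m < n → ¬ (0 < m ∧ m < Nat.card (ker G m)) :=
    ⟨Nat.find hex, Nat.find_spec hex, fun m hm => Nat.find_min hex hm⟩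
  have hmin : ∀ m : ℕ, 0 < m → m < n → Nat.card (ker G m) ≤ m := by
    intro m hm hmn
    have := hmin' m hmn
    push Not at this
    exact this hm
  have hpown : ∀ x : G, x ^ n = 1 := hbig n hn0 hnlt
  have hcardG : n < Nat.card G := by
    have : ker G n = ⊤ := by
      rw [eq_top_iff]; intro x _; exact mem_ker.mpr (hpown x)
    rw [this, Subgroup.card_top] at hnlt
    exact hnlt
  have hn1 : n ≠ 1 := by
    intro h
    have h1 : Nat.card (ker G 1) = 1 := by
      rw [Subgroup.card_eq_one, Subgroup.eq_bot_iff_forall]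
      intro x hx
      simpa using mem_ker.mp hx
    rw [h] at hnlt
    omega
  -- n is prime
  have hnp : n.Prime := by
    set p := n.minFac with hp
    have hpp : p.Prime := Nat.minFac_prime hn1
    have hpn : p ∣ n := Nat.minFac_dvd n
    by_contra hnot
    have hplt : p < n := lt_of_le_of_ne (Nat.le_of_dvd hn0 hpn) (fun h => hnot (h ▸ hpp))
    obtain ⟨m, hm⟩ := hpn
    have hm0 : 0 < m := by
      rcases Nat.eq_zero_or_pos m with h | h
      · rw [h, mul_zero] at hm; omega
      · exact h
    have hmlt : m < n := by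
      rw [hm]; nlinarith [hpp.two_le]
    have h1 := hmin m hm0 hmlt
    have h2 := hmin p hpp.pos hplt
    -- |G| = |ker m| * |range m| ≤ m * p
    have h3 : Nat.card G = Nat.card (ker G m) * Nat.card (powMonoidHom m : G →* G).range := by
      rw [Subgroup.card_eq_card_quotient_mul_card_subgroup (ker G m), mul_comm]
      congr 1
      exact Nat.card_congr (QuotientGroup.quotientKerEquivRange (powMonoidHom m : G →* G)).toEquiv
    have h4 : Nat.card (powMonoidHom m : G →* G).range ≤ Nat.card (ker G p) := by
      apply Subgroup.card_le_of_le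
      rintro _ ⟨x, rfl⟩
      rw [mem_ker, powMonoidHom_apply, ← pow_mul, mul_comm, ← hm]
      exact hpown x
    have : Nat.card G ≤ m * p := by
      rw [h3]
      exact Nat.mul_le_mul h1 (h4.trans h2)
    rw [hm, mul_comm] at hcardG
    omega
  have : Fact n.Prime := ⟨hnp⟩
  have hPG : IsPGroup n G := fun g => ⟨1, by rw [pow_one]; exact hpown g⟩
  obtain ⟨k, hk⟩ := IsPGroup.iff_card.mp hPG
  have hk2 : 2 ≤ k := by
    by_contra hlt
    have : k ≤ 1 := by omega
    have : n ^ k ≤ n ^ 1 := Nat.pow_le_pow_right hnp.pos this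
    rw [pow_one, ← hk] at this
    omega
  -- a subgroup of order n^(k-1) is proper, hence cyclic, hence of order ≤ n
  obtain ⟨K, hK⟩ := Sylow.exists_subgroup_card_pow_prime n
    (show n ^ (k - 1) ∣ Nat.card G from hk ▸ pow_dvd_pow n (by omega))
  have hKne : K ≠ ⊤ := by
    intro h
    rw [h, Subgroup.card_top, hk] at hK
    have := Nat.pow_right_injective hnp.two_le hK
    omega
  have hKle := card_le_of_isCyclic (hprop K hKne) hn0 (fun x _ => hpown x)
  rw [hK] at hKle
  have hk' : k = 2 := by
    by_contra hne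
    have h3 : 2 ≤ k - 1 := by omega
    have : n ^ 2 ≤ n ^ (k - 1) := Nat.pow_le_pow_right hnp.pos h3
    nlinarith [hnp.two_le]
  refine ⟨n, hnp, by rw [hk, hk'], ?_⟩
  have hdvd : Monoid.exponent G ∣ n := Monoid.exponent_dvd_of_forall_pow_eq_one hpown
  rcases (Nat.dvd_prime hnp).mp hdvd with h | h
  · exfalso
    have : Subsingleton G := Monoid.exp_eq_one_iff.mp h
    have : Nat.card G = 1 := Nat.card_unique
    omega
  · exact h

end Cfsg.Agent.S3917
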