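import Mathlib
import Cfsg.Statements.S3918
import Cfsg.Agent.Helper9.NormalElemAb
import Cfsg.Agent.Helper23.PGroup
import Cfsg.Agent.Helper24.Classes

set_option autoImplicit false
open Cfsg

namespace Cfsg.Agent.S3918

/-- An elementary abelian subgroup of order `p^2` is not cyclic. -/
theorem not_isCyclic_of_elemAb_sq {G : Type*} [Group G] [Finite G] {p : ℕ} [Fact p.Prime]
    (E : Subgroup G) (hE : Cfsg.IsElementaryAbelian p E) (hc : Nat.card E = p ^ 2) :
    ¬ IsCyclic ↥E := by
  have hp : p.Prime := Fact.out
  intro hcyc
  obtain ⟨g, hg⟩ := hcyc.exists_generator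
  have h1 : orderOf g = Nat.card E := orderOf_eq_card_of_forall_mem_zpowers hg
  have h2 : g ^ p = 1 := by
    have := hE.2 g.1 g.2
    exact Subtype.ext (by simpa using this)
  have h3 : orderOf g ∣ p := orderOf_dvd_of_pow_eq_one h2
  rw [h1, hc] at h3
  have := Nat.le_of_dvd hp.pos h3
  have : p * p ≤ p := by rw [← sq]; exact this
  nlinarith [hp.two_le]

/-- A non-abelian group of order a power of `p` has order at least `p^3`. -/
theorem three_le_of_not_comm {G : Type*} [Group G] [Finite G] {p : ℕ} [Fact p.Prime]
    (hna : ¬ IsMulCommutative G) {n : ℕ} (hn : Nat.card G = p ^ n) : 3 ≤ n := by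
  have hp : p.Prime := Fact.out
  by_contra hlt
  push Not at hlt
  apply hna
  interval_cases n
  · have : Subsingleton G := by
      rw [pow_zero] at hn
      exact (Nat.card_eq_one_iff_unique.mp hn).1
    exact ⟨⟨fun a b => Subsingleton.elim _ _⟩⟩
  · rw [pow_one] at hn
    haveI : IsCyclic G := isCyclic_of_prime_card hn
    exact ⟨⟨fun a b => IsCyclic.commGroup.mul_comm a b⟩⟩
  · exact IsPGroup.isMulCommutative_of_card_eq_prime_sq hn

/-- Say that a group has self-centralizing non-cyclic subgroups when every non-cyclic subgroup H satisfies C_G(H) ≤ H. For an odd prime p, a finite non-abelian p-group has self-centralizing non-cyclic subgroups if and only if it has order p³. -/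
theorem result {G : Type*} [Group G] [Finite G] {p : ℕ} [Fact p.Prime] (hp : p ≠ 2) (hG : IsPGroup p G) (hna : ¬ IsMulCommutative G) :
    (∀ H : Subgroup G, ¬ IsCyclic ↥H → Subgroup.centralizer (H : Set G) ≤ H) ↔ Nat.card G = p ^ 3 := by
  have hpp : p.Prime := Fact.out
  obtain ⟨n, hn⟩ := IsPGroup.iff_card.mp hG
  have h3n : 3 ≤ n := three_le_of_not_comm hna hn
  constructor
  · intro hP
    have hnc : ¬ IsCyclic G := by
      intro hc
      exact hna ⟨⟨fun a b => IsCyclic.commGroup.mul_comm a b⟩⟩
    obtain ⟨E, hEn, hEe, hEc⟩ := Cfsg.Agent.Helper9.exists_normal_elemAb_sq hp hG hnc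
    have hEnc : ¬ IsCyclic ↥E := not_isCyclic_of_elemAb_sq E hEe hEc
    have hCE : Subgroup.centralizer (E : Set G) ≤ E := hP E hEnc
    have hEbot : E ≠ ⊥ := by
      intro h
      rw [h, Subgroup.card_bot] at hEc
      have : 1 < p ^ 2 := Nat.one_lt_pow (by norm_num) hpp.one_lt
      omega
    obtain ⟨z, hzE, hzc, hz1⟩ := Cfsg.Agent.Helper23.exists_mem_inf_center_ne_one hG E hEbot
    -- E is not central
    have hEnot : ¬ E ≤ Subgroup.center G := by
      intro hle
      apply hna
      have htop : Subgroup.centralizer (E : Set G) = ⊤ := by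
        rw [eq_top_iff]
        intro g _
        rw [Subgroup.mem_centralizer_iff]
        intro e he
        exact ((Subgroup.mem_center_iff.mp (hle he)) g).symm
      have hEtop : E = ⊤ := by
        rw [eq_top_iff, ← htop]; exact hCE
      refine ⟨⟨fun a b => ?_⟩⟩
      have ha : a ∈ E := by rw [hEtop]; trivial
      exact ((Subgroup.mem_center_iff.mp (hle ha)) b).symm
    obtain ⟨e, heE, hec⟩ := SetLike.not_le_iff_exists.mp hEnot
    -- E = ⟨z⟩ ⊔ ⟨e⟩
    have hsup : Subgroup.zpowers z ⊔ Subgroup.zpowers e = E := by
      have hle : Subgroup.zpowers z ⊔ Subgroup.zpowers e ≤ E :=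
        sup_le (by rwa [Subgroup.zpowers_le]) (by rwa [Subgroup.zpowers_le])
      have hzcard : Nat.card (Subgroup.zpowers z) = p := by
        rw [Nat.card_zpowers]
        have hzp : z ^ p = 1 := hEe.2 z hzE
        have := orderOf_dvd_of_pow_eq_one hzp
        rcases (Nat.dvd_prime hpp).mp this with h | h
        · exact absurd (orderOf_eq_one_iff.mp h) hz1
        · exact h
      have hlt : Subgroup.zpowers z < Subgroup.zpowers z ⊔ Subgroup.zpowers e := by
        refine lt_of_le_of_ne le_sup_left ?_
        intro heq
        have : e ∈ Subgroup.zpowers z := by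
          rw [heq]; exact (le_sup_right : Subgroup.zpowers e ≤ _) (Subgroup.mem_zpowers e)
        apply hec
        have hzle : Subgroup.zpowers z ≤ Subgroup.center G := by
          rw [Subgroup.zpowers_le]; exact hzc
        exact hzle this
      have h1 : Nat.card (Subgroup.zpowers z) < Nat.card ↥(Subgroup.zpowers z ⊔ Subgroup.zpowers e) := by
        have hd := Subgroup.card_dvd_of_le (le_of_lt hlt)
        have hne : Nat.card (Subgroup.zpowers z) ≠ Nat.card ↥(Subgroup.zpowers z ⊔ Subgroup.zpowers e) := by
          intro hh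
          exact (ne_of_lt hlt) (Subgroup.eq_of_le_of_card_ge (le_of_lt hlt) (le_of_eq hh.symm))
        exact lt_of_le_of_ne (Nat.le_of_dvd Nat.card_pos hd) hne
      have h2 : Nat.card ↥(Subgroup.zpowers z ⊔ Subgroup.zpowers e) ∣ p ^ 2 := by
        rw [← hEc]; exact Subgroup.card_dvd_of_le hle
      obtain ⟨k, hk, hkc⟩ := (Nat.dvd_prime_pow hpp).mp h2
      have hk2 : k = 2 := by
        rw [hzcard, hkc] at h1
        interval_cases k
        · simp at h1; linarith [hpp.one_lt]
        · simp at h1
        · rfl
      apply Subgroup.eq_of_le_of_card_ge hle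
      rw [hkc, hk2, hEc]
    -- centralizer of e equals centralizer of E
    have hCe : Subgroup.centralizer ({e} : Set G) ≤ Subgroup.centralizer (E : Set G) := by
      intro g hg
      have hge : e * g = g * e := (Subgroup.mem_centralizer_iff.mp hg) e rfl
      have hle : E ≤ Subgroup.centralizer ({g} : Set G) := by
        rw [← hsup]
        refine sup_le ?_ ?_
        · rw [Subgroup.zpowers_le, Subgroup.mem_centralizer_iff]
          intro h hh
          rw [Set.mem_singleton_iff.mp hh]
          exact ((Subgroup.mem_center_iff.mp hzc) g)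
        · rw [Subgroup.zpowers_le, Subgroup.mem_centralizer_iff]
          intro h hh
          rw [Set.mem_singleton_iff.mp hh]
          exact hge.symm
      rw [Subgroup.mem_centralizer_iff]
      intro x hx
      exact ((Subgroup.mem_centralizer_iff.mp (hle hx)) g rfl).symm
    have hCcard : Nat.card (Subgroup.centralizer ({e} : Set G)) ≤ p ^ 2 := by
      rw [← hEc]
      exact Nat.le_of_dvd Nat.card_pos (Subgroup.card_dvd_of_le (hCe.trans hCE))
    -- the class of e is small
    have he1 : e ≠ 1 := by
      intro h; apply hec; rw [h]; exact Subgroup.one_mem _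
    have hidx : (Subgroup.centralizer ({e} : Set G)).index < p ^ 2 := by
      rw [Cfsg.Agent.Helper24.index_centralizer_eq_card_conj, ← hEc]
      have hss : {x : G | IsConj e x} ⊂ (E : Set G) := by
        refine ⟨?_, ?_⟩
        · intro x hx
          obtain ⟨c, hc⟩ := isConj_iff.mp hx
          rw [← hc]
          exact hEn.conj_mem e heE c
        · intro hsub
          have h1 : (1 : G) ∈ {x : G | IsConj e x} := hsub (Subgroup.one_mem E)
          exact he1 (isConj_one_left.mp h1)
      have := Set.ncard_lt_ncard hss (Set.toFinite _)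
      rw [← Nat.card_coe_set_eq, ← Nat.card_coe_set_eq] at this
      exact this
    have hidxdvd : (Subgroup.centralizer ({e} : Set G)).index ∣ p ^ n := by
      rw [← hn]; exact Subgroup.index_dvd_card _
    obtain ⟨k, hk, hkc⟩ := (Nat.dvd_prime_pow hpp).mp hidxdvd
    have hk1 : k ≤ 1 := by
      by_contra hh
      push Not at hh
      rw [hkc] at hidx
      have := Nat.pow_le_pow_right hpp.pos (show 2 ≤ k from hh)
      omega
    have hidxle : (Subgroup.centralizer ({e} : Set G)).index ≤ p := by
      rw [hkc]
      calc p ^ k ≤ p ^ 1 := Nat.pow_le_pow_right hpp.pos hk1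
        _ = p := pow_one p
    have hGle : Nat.card G ≤ p ^ 3 := by
      rw [← Subgroup.index_mul_card (Subgroup.centralizer ({e} : Set G))]
      calc _ ≤ p * p ^ 2 := Nat.mul_le_mul hidxle hCcard
        _ = p ^ 3 := by ring
    rw [hn] at hGle ⊢
    have hn3 : n ≤ 3 := by
      by_contra hh
      push Not at hh
      have := Nat.pow_lt_pow_right hpp.one_lt hh
      omega
    have : n = 3 := le_antisymm hn3 h3n
    rw [this]
  · intro hc H hH x hx
    by_contra hxH
    have hHd : Nat.card H ∣ p ^ 3 := by rw [← hc]; exact Subgroup.card_subgroup_dvd_card H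
    obtain ⟨k, hk, hkc⟩ := (Nat.dvd_prime_pow hpp).mp hHd
    have hHtop : H ≠ ⊤ := by
      intro h; apply hxH; rw [h]; trivial
    have hk2 : k = 2 := by
      interval_cases k
      · exfalso; apply hH
        rw [pow_zero] at hkc
        have := Subgroup.card_eq_one.mp hkc
        rw [this]
        exact isCyclic_of_subsingleton
      · exfalso; apply hH
        rw [pow_one] at hkc
        exact isCyclic_of_prime_card hkc
      · rfl
      · exfalso; apply hHtop
        exact Subgroup.eq_top_of_card_eq H (by rw [hkc, hc])
    rw [hk2] at hkc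
    have hHcomm : IsMulCommutative ↥H := IsPGroup.isMulCommutative_of_card_eq_prime_sq hkc
    have hHc : ∀ a ∈ H, ∀ b ∈ H, a * b = b * a := by
      intro a ha b hb
      have := hHcomm.is_comm.comm (⟨a, ha⟩ : H) ⟨b, hb⟩
      exact congrArg Subtype.val this
    have hxc : ∀ a ∈ H, a * x = x * a := fun a ha => (Subgroup.mem_centralizer_iff.mp hx) a ha
    -- K = H ⊔ ⟨x⟩ = ⊤
    have hKtop : H ⊔ Subgroup.zpowers x = ⊤ := by
      have hlt : H < H ⊔ Subgroup.zpowers x := by
        refine lt_of_le_of_ne le_sup_left ?_
        intro heq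
        apply hxH
        rw [heq]; exact (le_sup_right : Subgroup.zpowers x ≤ _) (Subgroup.mem_zpowers x)
      have hKd : Nat.card ↥(H ⊔ Subgroup.zpowers x) ∣ p ^ 3 := by
        rw [← hc]; exact Subgroup.card_subgroup_dvd_card _
      obtain ⟨m, hm, hmc⟩ := (Nat.dvd_prime_pow hpp).mp hKd
      have hne : Nat.card H ≠ Nat.card ↥(H ⊔ Subgroup.zpowers x) := by
        intro hh
        exact (ne_of_lt hlt) (Subgroup.eq_of_le_of_card_ge (le_of_lt hlt) (le_of_eq hh.symm))
      have hlt' : Nat.card H < Nat.card ↥(H ⊔ Subgroup.zpowers x) :=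
        lt_of_le_of_ne (Nat.le_of_dvd Nat.card_pos (Subgroup.card_dvd_of_le (le_of_lt hlt))) hne
      rw [hkc, hmc] at hlt'
      have hm3 : m = 3 := by
        have : 2 < m := (Nat.pow_lt_pow_iff_right hpp.one_lt).mp hlt'
        omega
      exact Subgroup.eq_top_of_card_eq _ (by rw [hmc, hm3, hc])
    apply hna
    have hcen : Subgroup.center G = ⊤ := by
      rw [eq_top_iff, ← hKtop]
      refine sup_le ?_ ?_
      · intro h hh
        rw [Subgroup.mem_center_iff]
        have hle : H ⊔ Subgroup.zpowers x ≤ Subgroup.centralizer ({h} : Set G) := by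
          refine sup_le ?_ ?_
          · intro a ha
            rw [Subgroup.mem_centralizer_iff]
            intro b hb
            rw [Set.mem_singleton_iff.mp hb]
            exact hHc h hh a ha
          · rw [Subgroup.zpowers_le, Subgroup.mem_centralizer_iff]
            intro b hb
            rw [Set.mem_singleton_iff.mp hb]
            exact hxc h hh
        intro g
        have hg : g ∈ H ⊔ Subgroup.zpowers x := by rw [hKtop]; trivial
        exact ((Subgroup.mem_centralizer_iff.mp (hle hg)) h rfl).symm
      · rw [Subgroup.zpowers_le, Subgroup.mem_center_iff]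
        have hle : H ⊔ Subgroup.zpowers x ≤ Subgroup.centralizer ({x} : Set G) := by
          refine sup_le ?_ ?_
          · intro a ha
            rw [Subgroup.mem_centralizer_iff]
            intro b hb
            rw [Set.mem_singleton_iff.mp hb]
            exact (hxc a ha).symm
          · rw [Subgroup.zpowers_le, Subgroup.mem_centralizer_iff]
            intro b hb
            rw [Set.mem_singleton_iff.mp hb]
        intro g
        have hg : g ∈ H ⊔ Subgroup.zpowers x := by rw [hKtop]; trivial
        exact ((Subgroup.mem_centralizer_iff.mp (hle hg)) x rfl).symm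
    refine ⟨⟨fun a b => ?_⟩⟩
    have ha : a ∈ Subgroup.center G := by rw [hcen]; trivial
    exact ((Subgroup.mem_center_iff.mp ha) b).symm

end Cfsg.Agent.S3918
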