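import Mathlib
import Cfsg.Statements.S3920

set_option autoImplicit false
open Cfsg

namespace Cfsg.Agent.S3920

open DihedralGroup

/-- A subgroup contained in a cyclic subgroup is cyclic. -/
theorem isCyclic_of_le_zpowers {G : Type*} [Group G] (H : Subgroup G) (g : G)
    (h : H ≤ Subgroup.zpowers g) : IsCyclic ↥H := by
  have h1 : IsCyclic ↥(H.subgroupOf (Subgroup.zpowers g)) := inferInstance
  exact isCyclic_of_surjective (Subgroup.subgroupOfEquivOfLe h).toMonoidHom
    (Subgroup.subgroupOfEquivOfLe h).surjective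

theorem nat_two_torsion (k : ℕ) (hk : 1 ≤ k) (v : ℕ) (h2 : 2 ^ k ∣ v + v) (h3 : v < 2 ^ k)
    (h4 : v ≠ 0) : v = 2 ^ (k - 1) := by
  have hk' : 2 ^ k = 2 * 2 ^ (k - 1) := by
    conv_lhs => rw [show k = (k - 1) + 1 by omega]
    rw [pow_succ]; ring
  rw [hk'] at h2 h3
  have h5 : 2 ^ (k - 1) ∣ v := by
    have : 2 * 2 ^ (k - 1) ∣ 2 * v := by rw [two_mul v]; exact h2
    exact (Nat.mul_dvd_mul_iff_left (by norm_num)).mp this
  obtain ⟨t, ht⟩ := h5
  rw [ht] at h3 h4 ⊢
  have ht1 : t = 1 := by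
    have hpos : 0 < 2 ^ (k - 1) := by positivity
    have : t < 2 := by
      by_contra hh
      push Not at hh
      have : 2 * 2 ^ (k - 1) ≤ 2 ^ (k - 1) * t := by
        calc 2 * 2 ^ (k - 1) = 2 ^ (k - 1) * 2 := by ring
          _ ≤ 2 ^ (k - 1) * t := Nat.mul_le_mul_left _ hh
      omega
    interval_cases t
    · simp at h4
    · rfl
  rw [ht1, mul_one]

/-- In `ZMod (2^k)`, a nonzero element `e` with `e + e = 0` has value `2^(k-1)`. -/
theorem val_of_two_torsion (k : ℕ) (hk : 1 ≤ k) (e : ZMod (2 ^ k)) (he0 : e ≠ 0) (he : e + e = 0) :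
    e.val = 2 ^ (k - 1) := by
  haveI : NeZero (2 ^ k) := ⟨by positivity⟩
  have h1 : (e + e).val = 0 := by rw [he]; exact ZMod.val_zero
  rw [ZMod.val_add] at h1
  have h2 : 2 ^ k ∣ e.val + e.val := Nat.dvd_of_mod_eq_zero h1
  have h3 : e.val < 2 ^ k := ZMod.val_lt e
  have h4 : e.val ≠ 0 := by
    intro h; apply he0; exact (ZMod.val_eq_zero e).mp h
  exact nat_two_torsion k hk e.val h2 h3 h4

/-- In `ZMod n` with `n` odd, `j + j = 0` forces `j = 0`. -/
theorem eq_zero_of_odd (n : ℕ) [NeZero n] (hodd : Odd n) (j : ZMod n) (hj : j + j = 0) : j = 0 := by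
  have h1 : (j + j).val = 0 := by rw [hj]; exact ZMod.val_zero
  rw [ZMod.val_add] at h1
  have h2 : n ∣ j.val + j.val := Nat.dvd_of_mod_eq_zero h1
  have h3 : j.val < n := ZMod.val_lt j
  have h4 : n ∣ j.val := by
    have hc : Nat.Coprime n 2 := Nat.coprime_two_right.mpr hodd
    have : n ∣ 2 * j.val := by rw [two_mul]; exact h2
    exact hc.dvd_of_dvd_mul_left this
  have h5 : j.val = 0 := Nat.eq_zero_of_dvd_of_lt h4 h3
  exact (ZMod.val_eq_zero j).mp h5

/-- A non-cyclic subgroup of a dihedral group contains a reflection. -/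
theorem exists_sr_mem (n : ℕ) [NeZero n] (H : Subgroup (DihedralGroup n)) (hH : ¬ IsCyclic ↥H) :
    ∃ i : ZMod n, sr i ∈ H := by
  by_contra hcon
  push Not at hcon
  apply hH
  apply isCyclic_of_le_zpowers H (r 1)
  intro g hg
  cases g with
  | r j =>
    rw [Subgroup.mem_zpowers_iff]
    refine ⟨(j.val : ℤ), ?_⟩
    rw [zpow_natCast, r_one_pow, ZMod.natCast_zmod_val]
  | sr j => exact absurd hg (hcon j)

/-- A non-cyclic subgroup of a dihedral group containing a reflection contains a nontrivial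
rotation. -/
theorem exists_r_mem (n : ℕ) (H : Subgroup (DihedralGroup n)) (hH : ¬ IsCyclic ↥H)
    (i : ZMod n) (hi : sr i ∈ H) : ∃ l : ZMod n, l ≠ 0 ∧ r l ∈ H := by
  by_contra hcon
  push Not at hcon
  apply hH
  apply isCyclic_of_le_zpowers H (sr i)
  intro g hg
  cases g with
  | r l =>
    have : l = 0 := by
      by_contra hl
      exact hcon l hl hg
    rw [this, r_zero]
    exact Subgroup.one_mem _
  | sr l =>
    have h1 : sr i * sr l ∈ H := H.mul_mem hi hg
    rw [sr_mul_sr] at h1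
    have : l - i = 0 := by
      by_contra hl
      exact hcon _ hl h1
    have hli : l = i := sub_eq_zero.mp this
    rw [hli]
    exact Subgroup.mem_zpowers _

/-- In a dihedral group of order `2 * 2^k`, a subgroup containing a nontrivial rotation contains
the central involution. -/
theorem r_two_torsion_mem (k : ℕ) (hk : 1 ≤ k) (H : Subgroup (DihedralGroup (2 ^ k)))
    (l : ZMod (2 ^ k)) (hl : l ≠ 0) (hlH : r l ∈ H) (d : ZMod (2 ^ k)) (hd0 : d ≠ 0)
    (hd : d + d = 0) : r d ∈ H := by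
  haveI : NeZero (2 ^ k) := ⟨by positivity⟩
  have hdvd : addOrderOf l ∣ 2 ^ k := by
    have := addOrderOf_dvd_natCard l
    rwa [Nat.card_zmod] at this
  obtain ⟨b, hb, hbc⟩ := (Nat.dvd_prime_pow Nat.prime_two).mp hdvd
  have hb1 : 1 ≤ b := by
    by_contra hh
    have : b = 0 := by omega
    rw [this, pow_zero] at hbc
    exact hl (AddMonoid.addOrderOf_eq_one_iff.mp hbc)
  set e : ZMod (2 ^ k) := (2 ^ (b - 1)) • l with he
  have he2 : e + e = 0 := by
    rw [he, ← two_nsmul, ← mul_nsmul']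
    have : 2 ^ (b - 1) * 2 = 2 ^ b := by
      conv_rhs => rw [show b = (b - 1) + 1 by omega]
      rw [pow_succ]
    rw [mul_comm 2, this, ← hbc]
    exact addOrderOf_nsmul_eq_zero l
  have he0 : e ≠ 0 := by
    intro h
    rw [he] at h
    have := addOrderOf_dvd_of_nsmul_eq_zero h
    rw [hbc] at this
    have hle := Nat.le_of_dvd (by positivity) this
    have : 2 ^ (b - 1) < 2 ^ b := Nat.pow_lt_pow_right (by norm_num) (by omega)
    omega
  have hed : e = d := by
    apply ZMod.val_injective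
    rw [val_of_two_torsion k hk e he0 he2, val_of_two_torsion k hk d hd0 hd]
  have : r d = (r l) ^ (2 ^ (b - 1)) := by
    rw [r_pow, ← hed, he, nsmul_eq_mul, mul_comm]
  rw [this]
  exact H.pow_mem hlH _

/-- The "if" direction. -/
theorem centralizer_le (n : ℕ) (hn : 3 ≤ n) (hcase : Odd n ∨ ∃ k : ℕ, n = 2 ^ k)
    (H : Subgroup (DihedralGroup n)) (hH : ¬ IsCyclic ↥H) :
    Subgroup.centralizer (H : Set (DihedralGroup n)) ≤ H := by
  haveI : NeZero n := ⟨by omega⟩
  obtain ⟨i, hi⟩ := exists_sr_mem n H hH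
  obtain ⟨l, hl0, hlH⟩ := exists_r_mem n H hH i hi
  -- rotations `r d` with `d + d = 0` lie in `H`
  have hrot : ∀ d : ZMod n, d + d = 0 → r d ∈ H := by
    intro d hd
    by_cases hd0 : d = 0
    · rw [hd0, r_zero]; exact H.one_mem
    rcases hcase with hodd | ⟨k, rfl⟩
    · exact absurd (eq_zero_of_odd n hodd d hd) hd0
    · have hk : 1 ≤ k := by
        by_contra hh
        have : k = 0 := by omega
        rw [this] at hn
        norm_num at hn
      exact r_two_torsion_mem k hk H l hl0 hlH d hd0 hd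
  intro x hx
  have hcomm : sr i * x = x * sr i := (Subgroup.mem_centralizer_iff.mp hx) (sr i) hi
  cases x with
  | r j =>
    rw [sr_mul_r, r_mul_sr] at hcomm
    have h1 : i + j = i - j := sr.inj hcomm
    apply hrot
    have : j = -j := by
      have := add_left_cancel (a := i) (b := j) (c := -j) (by rw [h1, sub_eq_add_neg])
      exact this
    calc j + j = j + -j := by rw [← this]
      _ = 0 := add_neg_cancel j
  | sr j =>
    rw [sr_mul_sr, sr_mul_sr] at hcomm
    have h1 : j - i = i - j := r.inj hcomm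
    have hd : (j - i) + (j - i) = 0 := by
      calc (j - i) + (j - i) = (j - i) + (i - j) := by rw [← h1]
        _ = 0 := by ring
    have h2 := hrot (j - i) hd
    have : sr j = sr i * r (j - i) := by
      rw [sr_mul_r]; congr 1; ring
    rw [this]
    exact H.mul_mem hi h2

/-- The dihedral subgroup generated by `r c` and `sr 0`, described explicitly. -/
def dsub (n : ℕ) (c : ZMod n) : Subgroup (DihedralGroup n) where
  carrier := {g | ∃ t : ZMod n, g = r (c * t) ∨ g = sr (c * t)}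
  mul_mem' := by
    rintro g₁ g₂ ⟨t₁, h₁ | h₁⟩ ⟨t₂, h₂ | h₂⟩
    · exact ⟨t₁ + t₂, Or.inl (by rw [h₁, h₂, r_mul_r, mul_add])⟩
    · exact ⟨t₂ - t₁, Or.inr (by rw [h₁, h₂, r_mul_sr, mul_sub])⟩
    · exact ⟨t₁ + t₂, Or.inr (by rw [h₁, h₂, sr_mul_r, mul_add])⟩
    · exact ⟨t₂ - t₁, Or.inl (by rw [h₁, h₂, sr_mul_sr, mul_sub])⟩
  one_mem' := ⟨0, Or.inl (by rw [mul_zero, r_zero])⟩
  inv_mem' := by
    rintro g ⟨t, h | h⟩
    · exact ⟨-t, Or.inl (by rw [h, inv_r, mul_neg])⟩
    · exact ⟨t, Or.inr (by rw [h, inv_sr])⟩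

/-- The "only if" direction. -/
theorem odd_or_two_pow (n : ℕ) (hn : 3 ≤ n)
    (hP : ∀ H : Subgroup (DihedralGroup n), ¬ IsCyclic ↥H →
      Subgroup.centralizer (H : Set (DihedralGroup n)) ≤ H) :
    Odd n ∨ ∃ k : ℕ, n = 2 ^ k := by
  haveI : NeZero n := ⟨by omega⟩
  by_contra hcon
  push Not at hcon
  obtain ⟨hnodd, hnpow⟩ := hcon
  obtain ⟨a, m, hm, hnam⟩ := Nat.exists_eq_two_pow_mul_odd (show n ≠ 0 by omega)
  have ha : 1 ≤ a := by
    by_contra hh
    have : a = 0 := by omega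
    rw [this, pow_zero, one_mul] at hnam
    rw [hnam] at hnodd
    exact hnodd hm
  have hm1 : m ≠ 1 := by
    intro h
    rw [h, mul_one] at hnam
    exact hnpow a hnam
  have hm3 : 3 ≤ m := by
    obtain ⟨t, ht⟩ := hm
    omega
  have hhalf : n / 2 = 2 ^ (a - 1) * m := by
    have : n = 2 * (2 ^ (a - 1) * m) := by
      rw [hnam]
      conv_lhs => rw [show a = (a - 1) + 1 by omega]
      rw [pow_succ]; ring
    omega
  have hhalf2 : n / 2 + n / 2 = n := by
    have : n = 2 * (2 ^ (a - 1) * m) := by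
      rw [hnam]
      conv_lhs => rw [show a = (a - 1) + 1 by omega]
      rw [pow_succ]; ring
    omega
  set c : ZMod n := ((2 ^ a : ℕ) : ZMod n) with hc
  set H := dsub n c with hH
  have hrc : r c ∈ H := ⟨1, Or.inl (by rw [mul_one])⟩
  have hs0 : sr (0 : ZMod n) ∈ H := ⟨0, Or.inr (by rw [mul_zero])⟩
  have hncyc : ¬ IsCyclic ↥H := by
    intro hcyc
    have hcomm : (⟨r c, hrc⟩ : ↥H) * ⟨sr 0, hs0⟩ = ⟨sr 0, hs0⟩ * ⟨r c, hrc⟩ :=
      IsCyclic.commGroup.mul_comm _ _
    have h1 : r c * sr (0 : ZMod n) = sr 0 * r c := congrArg Subtype.val hcomm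
    rw [r_mul_sr, sr_mul_r] at h1
    have h2 : (0 : ZMod n) - c = 0 + c := sr.inj h1
    have h3 : c + c = 0 := by
      have : -c = c := by simpa using h2
      calc c + c = c + -c := by rw [this]
        _ = 0 := add_neg_cancel c
    rw [hc, ← Nat.cast_add, ZMod.natCast_eq_zero_iff] at h3
    rw [hnam] at h3
    have h4 : 2 ^ a * m ∣ 2 ^ a * 2 := by rw [mul_two]; exact h3
    have h5 : m ∣ 2 := (Nat.mul_dvd_mul_iff_left (by positivity)).mp h4
    have := Nat.le_of_dvd (by norm_num) h5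
    omega
  have hz : r ((n / 2 : ℕ) : ZMod n) ∈ Subgroup.centralizer (H : Set (DihedralGroup n)) := by
    have hzz : ((n / 2 : ℕ) : ZMod n) + ((n / 2 : ℕ) : ZMod n) = 0 := by
      rw [← Nat.cast_add, hhalf2, ZMod.natCast_self]
    rw [Subgroup.mem_centralizer_iff]
    rintro h ⟨t, rfl | rfl⟩
    · rw [r_mul_r, r_mul_r, add_comm]
    · rw [sr_mul_r, r_mul_sr]
      congr 1
      have : ((n / 2 : ℕ) : ZMod n) = -((n / 2 : ℕ) : ZMod n) := eq_neg_of_add_eq_zero_left hzz
      rw [sub_eq_add_neg, ← this]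
  have hzH := hP H hncyc hz
  obtain ⟨t, h | h⟩ := hzH
  · have h1 : ((n / 2 : ℕ) : ZMod n) = c * t := r.inj h
    rw [hc, ← ZMod.natCast_zmod_val t, ← Nat.cast_mul, ZMod.natCast_eq_natCast_iff] at h1
    have h2 : n / 2 ≡ 2 ^ a * t.val [MOD 2 ^ a] := h1.of_dvd ⟨m, hnam⟩
    have h3 : 2 ^ a ∣ n / 2 := by
      have : 2 ^ a * t.val ≡ 0 [MOD 2 ^ a] := (Nat.modEq_zero_iff_dvd).mpr (dvd_mul_right _ _)
      exact (Nat.modEq_zero_iff_dvd).mp (h2.trans this)
    rw [hhalf] at h3
    have h4 : 2 ^ (a - 1) * 2 ∣ 2 ^ (a - 1) * m := by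
      have : 2 ^ a = 2 ^ (a - 1) * 2 := by
        conv_lhs => rw [show a = (a - 1) + 1 by omega]
        rw [pow_succ]
      rwa [this] at h3
    have h5 : 2 ∣ m := (Nat.mul_dvd_mul_iff_left (by positivity)).mp h4
    obtain ⟨t', ht'⟩ := hm
    omega
  · cases h

/-- Say that a group has self-centralizing non-cyclic subgroups when every non-cyclic subgroup H satisfies C_G(H) ≤ H. For n ≥ 3, the dihedral group of order 2n has self-centralizing non-cyclic subgroups if and only if n is odd or a power of 2. -/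
theorem result (n : ℕ) (hn : 3 ≤ n) : (∀ H : Subgroup (DihedralGroup n), ¬ IsCyclic ↥H → Subgroup.centralizer (H : Set (DihedralGroup n)) ≤ H) ↔ (Odd n ∨ ∃ k : ℕ, n = 2 ^ k) :=
  ⟨odd_or_two_pow n hn, fun hcase H hH => centralizer_le n hn hcase H hH⟩

end Cfsg.Agent.S3920
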