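import Mathlib
import Cfsg.Statements.S3919
import Cfsg.Agent.S0063
import Cfsg.Agent.S0112
import Cfsg.Agent.S4143
import Cfsg.Agent.S3920
import Cfsg.Agent.Helper9.MaxClassTwo
import Cfsg.Agent.Helper9.MaxClassTwoB
import Cfsg.Agent.Helper1.UniqueOrderP
import Cfsg.Agent.Helper18.Wr6
import Cfsg.Agent.Helper17.Basic
import Cfsg.Agent.Helper23.Cyclic

set_option autoImplicit false
open Cfsg

namespace Cfsg.Agent.S3919

open Subgroup

/-- A `2`-group of maximal class has self-centralizing non-cyclic subgroups. -/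
theorem cent_le_of_maxClass {G : Type*} [Group G] [Finite G] (hna : ¬ IsMulCommutative G) (n : ℕ)
    (hn : 3 ≤ n) (hG : Nat.card G = 2 ^ n) (hc : Group.nilpotencyClass G = n - 1)
    (H : Subgroup G) (hH : ¬ IsCyclic ↥H) : centralizer (H : Set G) ≤ H := by
  haveI : Fact (Nat.Prime 2) := ⟨Nat.prime_two⟩
  have hPG : IsPGroup 2 G := IsPGroup.of_card hG
  obtain ⟨C, hCcyc, hCidx⟩ :=
    Cfsg.Agent.Helper9.exists_isCyclic_index_two_of_maxClass_aux n hn G hG hc
  obtain ⟨c, rfl⟩ := (Subgroup.isCyclic_iff_exists_zpowers_eq_top C).mp hCcyc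
  have hZcard : Nat.card (center G) = 2 := Cfsg.Agent.Helper9.card_center_of_maxClass n hn hG hc
  have hZC : center G ≤ zpowers c :=
    Cfsg.Agent.Helper9.center_le_of_cyclic_index_two c hCidx hna
  have hx : ∃ x ∈ H, x ∉ zpowers c := by
    by_contra hcon
    push Not at hcon
    exact hH (Cfsg.Agent.S3920.isCyclic_of_le_zpowers H c hcon)
  obtain ⟨x, hxH, hxC⟩ := hx
  have hcentral : ∀ w : G, w * c = c * w → w * x = x * w → w ∈ center G := by
    intro w hwc hwx
    rw [mem_center_iff]
    intro g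
    have hwci : ∀ i : ℤ, w * c ^ i = c ^ i * w := fun i => (Commute.zpow_right hwc i)
    rcases Cfsg.Agent.Helper9.exists_zpow_of_index_two c hCidx x hxC g with ⟨i, rfl⟩ | ⟨i, rfl⟩
    · exact (hwci i).symm
    · rw [mul_assoc, ← hwci i, ← mul_assoc, ← hwx, mul_assoc]
  have hcc : ∀ i : ℤ, c ^ i * c = c * c ^ i := fun i =>
    (Commute.zpow_left (Commute.refl c) i)
  intro y hy
  have hyx : y * x = x * y := ((mem_centralizer_iff.mp hy) x hxH).symm
  by_cases hZH : center G ≤ H
  · rcases Cfsg.Agent.Helper9.exists_zpow_of_index_two c hCidx x hxC y with ⟨i, rfl⟩ | ⟨i, rfl⟩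
    · exact hZH (hcentral _ (hcc i) hyx)
    · have h1 : c ^ i ∈ center G := by
        apply hcentral _ (hcc i)
        have := hyx
        rw [mul_assoc] at this
        exact mul_left_cancel this
      exact H.mul_mem hxH (hZH h1)
  · exfalso
    -- elements of H in ⟨c⟩ are trivial
    have htriv : ∀ h ∈ H, h ∈ zpowers c → h = 1 := by
      intro h hhH hhC
      by_contra hne
      obtain ⟨k, hk⟩ := (IsPGroup.iff_orderOf.mp hPG) h
      have hk0 : k ≠ 0 := by
        rintro rfl
        rw [pow_zero, orderOf_eq_one_iff] at hk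
        exact hne hk
      obtain ⟨k', rfl⟩ := Nat.exists_eq_succ_of_ne_zero hk0
      obtain ⟨ht2, ht1⟩ := Cfsg.Agent.Helper1.pow_half_orderOf hk
      have htord : orderOf (h ^ 2 ^ k') = 2 := orderOf_eq_prime ht2 ht1
      have hcard : Nat.card (zpowers (h ^ 2 ^ k')) = Nat.card (center G) := by
        rw [Nat.card_zpowers, htord, hZcard]
      have hle : zpowers (h ^ 2 ^ k') ≤ zpowers c := by
        rw [zpowers_le]
        exact pow_mem hhC _
      have heq := Cfsg.Agent.Helper23.eq_of_card_eq_of_isCyclic (zpowers c) inferInstance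
        (zpowers (h ^ 2 ^ k')) (center G) hle hZC hcard
      apply hZH
      rw [← heq, zpowers_le]
      exact pow_mem hhH _
    apply hH
    apply Cfsg.Agent.S3920.isCyclic_of_le_zpowers H x
    intro h hh
    rcases Cfsg.Agent.Helper9.exists_zpow_of_index_two c hCidx x hxC h with ⟨i, rfl⟩ | ⟨i, rfl⟩
    · rw [htriv _ hh (zpow_mem (mem_zpowers c) i)]
      exact one_mem _
    · have h1 : c ^ i ∈ H := by
        have : c ^ i = x⁻¹ * (x * c ^ i) := by group
        rw [this]
        exact H.mul_mem (H.inv_mem hxH) hh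
      rw [htriv _ h1 (zpow_mem (mem_zpowers c) i), mul_one]
      exact mem_zpowers x

/-- If a `2`-group with self-centralizing non-cyclic subgroups has two distinct subgroups of
order `2`, it has maximal class (via a self-centralizing four-group). -/
theorem class_of_not_uniq {G : Type*} [Group G] [Finite G] (n : ℕ) (hG : Nat.card G = 2 ^ n)
    (hyp : ∀ H : Subgroup G, ¬ IsCyclic ↥H → centralizer (H : Set G) ≤ H)
    (hnu : ¬ Cfsg.Agent.Helper1.UniqP 2 G) : Group.nilpotencyClass G = n - 1 := by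
  haveI : Fact (Nat.Prime 2) := ⟨Nat.prime_two⟩
  have hPG : IsPGroup 2 G := IsPGroup.of_card hG
  unfold Cfsg.Agent.Helper1.UniqP at hnu
  push Not at hnu
  obtain ⟨H, K, hH, hK, hHK⟩ := hnu
  haveI : Nontrivial G := by
    have : Nontrivial ↥H := by
      rw [← Finite.one_lt_card_iff_nontrivial, hH]; norm_num
    obtain ⟨a, b, hab⟩ := this
    exact ⟨⟨a, b, fun h => hab (Subtype.ext h)⟩⟩
  have hZnt : Nontrivial ↥(center G) := hPG.center_nontrivial
  have h2Z : 2 ∣ Nat.card ↥(center G) := by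
    obtain ⟨k, hk⟩ := IsPGroup.iff_card.mp (hPG.to_subgroup (center G))
    rw [hk]
    have hk0 : k ≠ 0 := by
      rintro rfl
      rw [pow_zero] at hk
      have := (Nat.card_eq_one_iff_unique.mp hk).1
      exact not_subsingleton ↥(center G) this
    exact dvd_pow_self 2 hk0
  obtain ⟨z', hz'⟩ := exists_prime_orderOf_dvd_card' 2 h2Z
  have hzord : orderOf (z' : G) = 2 := by rw [Subgroup.orderOf_coe, hz']
  have hzc : (z' : G) ∈ center G := z'.2
  have hZcard : Nat.card (zpowers (z' : G)) = 2 := by rw [Nat.card_zpowers, hzord]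
  -- a subgroup T of order 2 different from ⟨z⟩
  have hT : ∃ T : Subgroup G, Nat.card T = 2 ∧ T ≠ zpowers (z' : G) := by
    by_cases h : H = zpowers (z' : G)
    · exact ⟨K, hK, fun h' => hHK (h.trans h'.symm)⟩
    · exact ⟨H, hH, h⟩
  obtain ⟨T, hTcard, hTne⟩ := hT
  have hdisj : zpowers (z' : G) ⊓ T = ⊥ := by
    apply Subgroup.eq_bot_of_card_eq
    have hdvd : Nat.card ↥(zpowers (z' : G) ⊓ T) ∣ 2 := by
      rw [← hTcard]; exact Subgroup.card_dvd_of_le inf_le_right
    rcases (Nat.dvd_prime Nat.prime_two).mp hdvd with h | h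
    · exact h
    · exfalso
      have h1 : zpowers (z' : G) ⊓ T = T :=
        Subgroup.eq_of_le_of_card_ge inf_le_right (by rw [h, hTcard])
      have h2 : zpowers (z' : G) ⊓ T = zpowers (z' : G) :=
        Subgroup.eq_of_le_of_card_ge inf_le_left (by rw [h, hZcard])
      exact hTne (h1.symm.trans h2)
  have hcomm : ∀ a ∈ zpowers (z' : G), ∀ b ∈ T, a * b = b * a := by
    intro a ha b _
    have : a ∈ center G := (zpowers_le.mpr hzc) ha
    exact (mem_center_iff.mp this b).symm
  have hVcard : Nat.card (zpowers (z' : G) ⊔ T : Subgroup G) = 2 ^ 2 := by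
    rw [Cfsg.Agent.Helper23.card_sup_of_commute_of_disjoint _ _ hcomm hdisj, hZcard, hTcard]
    norm_num
  have hVnc : ¬ IsCyclic ↥(zpowers (z' : G) ⊔ T : Subgroup G) := by
    intro hcyc
    apply hTne
    exact (Cfsg.Agent.Helper23.eq_of_card_eq_of_isCyclic _ hcyc (zpowers (z' : G)) T
      le_sup_left le_sup_right (by rw [hZcard, hTcard])).symm
  have hVab : IsMulCommutative ↥(zpowers (z' : G) ⊔ T : Subgroup G) :=
    IsPGroup.isMulCommutative_of_card_eq_prime_sq hVcard
  have hC : centralizer ((zpowers (z' : G) ⊔ T : Subgroup G) : Set G) = zpowers (z' : G) ⊔ T := by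
    apply le_antisymm (hyp _ hVnc)
    intro v hv
    rw [mem_centralizer_iff]
    intro w hw
    have := hVab.is_comm.comm ⟨w, hw⟩ ⟨v, hv⟩
    exact congrArg Subtype.val this
  exact Cfsg.Agent.S0112.result n hG _ hVcard hC

/-- A generalized quaternion group with self-centralizing non-cyclic subgroups has maximal
class (via a quaternion subgroup of order `8`). -/
theorem class_of_quaternion {G : Type*} [Group G] [Finite G] (hna : ¬ IsMulCommutative G) (n : ℕ)
    (hn : 3 ≤ n) (hG : Nat.card G = 2 ^ n)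
    (hyp : ∀ H : Subgroup G, ¬ IsCyclic ↥H → centralizer (H : Set G) ≤ H)
    (k : ℕ) (e : G ≃* QuaternionGroup (2 ^ k)) : Group.nilpotencyClass G = n - 1 := by
  haveI : Fact (Nat.Prime 2) := ⟨Nat.prime_two⟩
  have hPG : IsPGroup 2 G := IsPGroup.of_card hG
  -- n = k + 2
  have hnk : n = k + 2 := by
    have h1 : Nat.card G = 4 * 2 ^ k := by
      rw [Nat.card_congr e.toEquiv, Nat.card_eq_fintype_card, QuaternionGroup.card]
    rw [hG] at h1
    have h2 : (4 : ℕ) * 2 ^ k = 2 ^ (k + 2) := by ring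
    rw [h2] at h1
    exact Nat.pow_right_injective (le_refl 2) h1
  have hk1 : 1 ≤ k := by omega
  let φ : (⊤ : Subgroup G) ≃* QuaternionGroup (2 ^ k) := Subgroup.topEquiv.trans e
  obtain ⟨-, hcord, hstr⟩ := Cfsg.Agent.Helper18.Wr.qk_of_equiv (⊤ : Subgroup G) (2 ^ k) φ
  set c : G := ((φ.symm (QuaternionGroup.a 1) : (⊤ : Subgroup G)) : G) with hcdef
  -- an element outside ⟨c⟩
  have hy : ∃ y : G, y ∉ zpowers c := by
    by_contra hcon
    push Not at hcon
    apply hna
    refine ⟨⟨fun a b => ?_⟩⟩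
    obtain ⟨i, rfl⟩ := mem_zpowers_iff.mp (hcon a)
    obtain ⟨j, rfl⟩ := mem_zpowers_iff.mp (hcon b)
    rw [← zpow_add, ← zpow_add, add_comm]
  obtain ⟨y, hyC⟩ := hy
  have hy2 : y ^ 2 = c ^ (2 ^ k) := by
    rcases hstr y (mem_top y) with h | h
    · exact absurd h hyC
    · exact h.1
  have hyc : y * c * y⁻¹ = c⁻¹ := by
    rcases hstr y (mem_top y) with h | h
    · exact absurd h hyC
    · exact h.2
  -- d of order 4
  have hpow : 2 ^ k = 2 * 2 ^ (k - 1) := by
    rw [← pow_succ']; congr 1; omega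
  set d : G := c ^ (2 ^ (k - 1)) with hddef
  have hdord : orderOf d = 4 := by
    rw [hddef, orderOf_pow_of_dvd (by positivity), hcord, hpow]
    · have : 2 * (2 * 2 ^ (k - 1)) = 4 * 2 ^ (k - 1) := by ring
      rw [this]
      exact Nat.mul_div_cancel _ (by positivity)
    · rw [hcord, hpow]
      exact ⟨4, by ring⟩
  have hd2 : d ^ 2 = c ^ (2 ^ k) := by
    rw [hddef, ← pow_mul, hpow, mul_comm]
  have hd2ne : d ^ 2 ≠ 1 := by
    apply pow_ne_one_of_lt_orderOf (by norm_num)
    rw [hdord]; norm_num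
  have hd4 : d ^ 4 = 1 := by
    rw [← hdord]; exact pow_orderOf_eq_one d
  have hyd : y * d * y⁻¹ = d⁻¹ := by
    rw [hddef, ← conj_pow, hyc, inv_pow]
  have hy2d : y ^ 2 = d ^ 2 := by rw [hy2, hd2]
  have hyord : orderOf y = 4 := by
    have h1 : ¬ y ^ 2 ^ 1 = 1 := by
      rw [pow_one, hy2d]; exact hd2ne
    have h2 : y ^ 2 ^ (1 + 1) = 1 := by
      have : (2 : ℕ) ^ (1 + 1) = 2 * 2 := by norm_num
      rw [this, pow_mul, hy2d, ← pow_mul]
      exact hd4
    have := orderOf_eq_prime_pow h1 h2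
    rw [this]; norm_num
  have hdC : zpowers d ≤ zpowers c := by
    rw [zpowers_le, hddef]
    exact pow_mem (mem_zpowers c) _
  -- normalization
  have hnorm : zpowers y ≤ normalizer (zpowers d : Set G) := by
    rw [zpowers_le]
    apply Subgroup.mem_normalizer_fintype
    intro a ha
    obtain ⟨i, rfl⟩ := mem_zpowers_iff.mp ha
    rw [← conj_zpow, hyd]
    exact zpow_mem (inv_mem (mem_zpowers d)) i
  have hAcard : Nat.card (zpowers d) = 4 := by rw [Nat.card_zpowers, hdord]
  have hBcard : Nat.card (zpowers y) = 4 := by rw [Nat.card_zpowers, hyord]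
  have hinf : Nat.card (zpowers d ⊓ zpowers y : Subgroup G) = 2 := by
    have hdvd : Nat.card (zpowers d ⊓ zpowers y : Subgroup G) ∣ 2 ^ 2 := by
      have := Subgroup.card_dvd_of_le (inf_le_left : zpowers d ⊓ zpowers y ≤ zpowers d)
      rw [hAcard] at this
      exact this
    obtain ⟨j, hj2, hj⟩ := (Nat.dvd_prime_pow Nat.prime_two).mp hdvd
    have hj0 : j ≠ 0 := by
      rintro rfl
      rw [pow_zero] at hj
      have hbot := Subgroup.eq_bot_of_card_eq _ hj
      have hmem : d ^ 2 ∈ zpowers d ⊓ zpowers y :=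
        ⟨pow_mem (mem_zpowers d) 2, hy2d ▸ pow_mem (mem_zpowers y) 2⟩
      rw [hbot, mem_bot] at hmem
      exact hd2ne hmem
    have hj2' : j ≠ 2 := by
      rintro rfl
      have h1 : zpowers d ⊓ zpowers y = zpowers d :=
        Subgroup.eq_of_le_of_card_ge inf_le_left (by rw [hj, hAcard]; norm_num)
      have h2 : zpowers d ⊓ zpowers y = zpowers y :=
        Subgroup.eq_of_le_of_card_ge inf_le_right (by rw [hj, hBcard]; norm_num)
      apply hyC
      apply hdC
      rw [← h1, h2]
      exact mem_zpowers y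
    have : j = 1 := by omega
    rw [hj, this, pow_one]
  have hsup : Nat.card (zpowers d ⊔ zpowers y : Subgroup G) = 2 ^ 3 := by
    have := Cfsg.Agent.Helper17.card_sup_mul_card_inf (zpowers d) (zpowers y) hnorm
    rw [hinf, hAcard, hBcard] at this
    omega
  have hdB : d ∈ zpowers d ⊔ zpowers y := (le_sup_left : zpowers d ≤ _) (mem_zpowers d)
  have hyB : y ∈ zpowers d ⊔ zpowers y := (le_sup_right : zpowers y ≤ _) (mem_zpowers y)
  have hBna : ¬ IsMulCommutative ↥(zpowers d ⊔ zpowers y : Subgroup G) := by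
    intro hab
    have h1 := hab.is_comm.comm ⟨y, hyB⟩ ⟨d, hdB⟩
    have h2 : y * d = d * y := congrArg Subtype.val h1
    apply hd2ne
    have h3 : d⁻¹ = d := by
      rw [← hyd, h2, mul_inv_cancel_right]
    rw [pow_two]
    nth_rewrite 1 [← h3]
    exact inv_mul_cancel d
  have hBnc : ¬ IsCyclic ↥(zpowers d ⊔ zpowers y : Subgroup G) := by
    intro hcyc
    apply hBna
    exact ⟨⟨fun a b => (IsCyclic.commGroup (α := ↥(zpowers d ⊔ zpowers y : Subgroup G))).mul_comm a b⟩⟩
  exact Cfsg.Agent.S4143.result n hG _ hsup hBna (hyp _ hBnc)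

/-- Say that a group has self-centralizing non-cyclic subgroups when every non-cyclic subgroup H satisfies C_G(H) ≤ H. A finite non-abelian 2-group G of order 2^n has self-centralizing non-cyclic subgroups if and only if G has nilpotency class n − 1 (that is, G is dihedral, semidihedral or generalized quaternion). -/
theorem result {G : Type*} [Group G] [Finite G] (hna : ¬ IsMulCommutative G) (n : ℕ) (hG : Nat.card G = 2 ^ n) :
    (∀ H : Subgroup G, ¬ IsCyclic ↥H → Subgroup.centralizer (H : Set G) ≤ H) ↔ (⊤ : Subgroup G).lowerCentralSeries (n - 2) ≠ ⊥ := by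
  haveI : Fact (Nat.Prime 2) := ⟨Nat.prime_two⟩
  have hPG : IsPGroup 2 G := IsPGroup.of_card hG
  haveI : Group.IsNilpotent G := hPG.isNilpotent
  have hn : 3 ≤ n := by
    by_contra hlt
    push Not at hlt
    apply hna
    by_cases h2 : n = 2
    · subst h2
      exact IsPGroup.isMulCommutative_of_card_eq_prime_sq hG
    · have hdvd : Nat.card G ∣ 2 := by
        rw [hG]
        have : n ≤ 1 := by omega
        calc 2 ^ n ∣ 2 ^ 1 := Nat.pow_dvd_pow 2 this
          _ = 2 := pow_one 2
      haveI := isCyclic_of_card_dvd_prime hdvd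
      exact ⟨⟨fun a b => (IsCyclic.commGroup (α := G)).mul_comm a b⟩⟩
  have hle : Group.nilpotencyClass G ≤ n - 1 := Cfsg.Agent.S0063.result 2 n hG (by omega)
  have hiff : (⊤ : Subgroup G).lowerCentralSeries (n - 2) ≠ ⊥ ↔ Group.nilpotencyClass G = n - 1 := by
    rw [Ne, Subgroup.lowerCentralSeries_eq_bot_iff_nilpotencyClass_le]
    omega
  rw [hiff]
  constructor
  · intro hyp
    by_cases hu : Cfsg.Agent.Helper1.UniqP 2 G
    · rcases Cfsg.Agent.Helper1.UniqP.two_case hPG hu with hcyc | ⟨k, ⟨e⟩⟩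
      · exfalso
        apply hna
        exact ⟨⟨fun a b => (IsCyclic.commGroup (α := G)).mul_comm a b⟩⟩
      · exact class_of_quaternion hna n hn hG hyp k e
    · exact class_of_not_uniq n hG hyp hu
  · intro hc H hH
    exact cent_le_of_maxClass hna n hn hG hc H hH

end Cfsg.Agent.S3919
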