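import Cfsg.Statements.S3937
import Cfsg.Agent.Helper1.Wielandt
import Cfsg.Agent.Helper7.Fitting

set_option autoImplicit false
open Cfsg
open scoped Pointwise commutatorElement

namespace Cfsg.Agent.S3937

open Cfsg.Agent.Helper1

/-- Iterated commutator `[x, g, g, …, g]` with `n` entries `g`. -/
def eng {G : Type*} [Group G] (g : G) (n : ℕ) (x : G) : G :=
  (List.replicate n g).foldl (fun a b => a * b * a⁻¹ * b⁻¹) x

theorem eng_zero {G : Type*} [Group G] (g x : G) : eng g 0 x = x := rfl

theorem eng_succ {G : Type*} [Group G] (g : G) (n : ℕ) (x : G) :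
    eng g (n + 1) x = eng g n (x * g * x⁻¹ * g⁻¹) := by
  simp [eng, List.replicate_succ]

theorem eng_succ' {G : Type*} [Group G] (g : G) (n : ℕ) (x : G) :
    eng g (n + 1) x = eng g n x * g * (eng g n x)⁻¹ * g⁻¹ := by
  induction n generalizing x with
  | zero => simp [eng_succ, eng_zero]
  | succ n ih => rw [eng_succ, ih, ← eng_succ]

theorem map_eng {G H : Type*} [Group G] [Group H] (f : G →* H) (g : G) (n : ℕ) (x : G) :
    f (eng g n x) = eng (f g) n (f x) := by
  induction n generalizing x with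
  | zero => simp [eng_zero]
  | succ n ih => rw [eng_succ, eng_succ, ih]; simp

theorem eng_mem_lcs {G : Type*} [Group G] (F : Subgroup G) (g : G) (hg : g ∈ F) (n : ℕ) (x : G)
    (hx : x ∈ F) : eng g n x ∈ F.lowerCentralSeries n := by
  induction n with
  | zero => simpa [eng_zero] using hx
  | succ n ih =>
    rw [eng_succ', Subgroup.lowerCentralSeries_succ]
    have : eng g n x * g * (eng g n x)⁻¹ * g⁻¹ = ⁅eng g n x, g⁆ := rfl
    rw [this]
    exact Subgroup.commutator_mem_commutator ih hg

theorem maxIn_conj {G : Type*} [Group G] [Finite G] {M H : Subgroup G} (hM : MaxIn M H) {x : G}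
    (hx : x ∈ H) : MaxIn (MulAut.conj x • M) H := by
  refine ⟨conj_smul_lt_of_mem hM.1 hx, ?_⟩
  intro K hMK hKH
  have hHH : ∀ y ∈ H, MulAut.conj y • H = H := fun y hy =>
    (conj_smul_eq_self_iff y H).2 (Subgroup.le_normalizer hy)
  have h1 : M < MulAut.conj x⁻¹ • K := by
    have := hMK
    rw [lt_iff_le_and_ne] at this ⊢
    obtain ⟨h2, h3⟩ := this
    constructor
    · have := (Subgroup.pointwise_smul_le_pointwise_smul_iff (a := MulAut.conj x⁻¹)).2 h2
      rwa [← mul_smul, ← map_mul, inv_mul_cancel, map_one, one_smul] at this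
    · intro h4
      apply h3
      rw [h4, ← mul_smul, ← map_mul, mul_inv_cancel, map_one, one_smul]
  have h2 : MulAut.conj x⁻¹ • K ≤ H := by
    have := (Subgroup.pointwise_smul_le_pointwise_smul_iff (a := MulAut.conj x⁻¹)).2 hKH
    rwa [hHH _ (H.inv_mem hx)] at this
  have h3 := hM.2 _ h1 h2
  have : K = MulAut.conj x • (MulAut.conj x⁻¹ • K) := by
    rw [← mul_smul, ← map_mul, mul_inv_cancel, map_one, one_smul]
  rw [this, h3, hHH x hx]

theorem engel_subn {G : Type*} [Group G] [Finite G] : ∀ (n : ℕ) (H : Subgroup G), Nat.card H = n →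
    ∀ g ∈ H, (∀ x ∈ H, ∃ k, eng g k x = 1) → SubnIn (Subgroup.zpowers g) H := by
  intro n
  induction n using Nat.strong_induction_on with
  | _ n ih =>
  intro H hcard g hg heng
  by_contra hns
  have hAH : Subgroup.zpowers g ≤ H := by
    rw [Subgroup.zpowers_le]; exact hg
  have hlt : Subgroup.zpowers g < H := by
    refine lt_of_le_of_ne hAH ?_
    intro h
    apply hns
    rw [h]
    exact SubnIn.refl H
  have hprop : ∀ K : Subgroup G, Subgroup.zpowers g ≤ K → K < H → SubnIn (Subgroup.zpowers g) K := by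
    intro K hAK hKH
    have hc := card_lt_of_lt' hKH
    rw [hcard] at hc
    exact ih _ hc K rfl g (hAK (Subgroup.mem_zpowers g)) (fun x hx => heng x (hKH.le hx))
  obtain ⟨M, hM, hAM⟩ := exists_maxIn _ _ hlt rfl
  have huniq := zipper _ _ hAH rfl hprop hns
  have hgM : g ∈ M := hAM (Subgroup.mem_zpowers g)
  -- M is not normal in H
  have hNM : ∀ x ∈ H, x ∈ Subgroup.normalizer (M : Set G) → x ∈ M := by
    intro x hxH hxN
    by_contra hxM
    have h1 : M < Subgroup.normalizer (M : Set G) ⊓ H := by
      refine lt_of_le_of_ne (le_inf Subgroup.le_normalizer hM.1.le) ?_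
      intro h
      apply hxM
      rw [h]
      exact ⟨hxN, hxH⟩
    have h2 := hM.2 _ h1 inf_le_right
    have h3 : H ≤ Subgroup.normalizer (M : Set G) := by
      rw [← h2]; exact inf_le_left
    exact hns ((hprop M hAM hM.1).trans (SubnIn.of_normal hM.1.le h3))
  have hkey : ∀ k : ℕ, ∀ x ∈ H, eng g k x ∈ M → x ∈ M := by
    intro k
    induction k with
    | zero => intro x _ h; exact h
    | succ k ihk =>
      intro x hxH h
      rw [eng_succ] at h
      have hcH : x * g * x⁻¹ * g⁻¹ ∈ H :=
        H.mul_mem (H.mul_mem (H.mul_mem hxH hg) (H.inv_mem hxH)) (H.inv_mem hg)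
      have h1 := ihk _ hcH h
      have h2 : x * g * x⁻¹ ∈ M := by
        have := M.mul_mem h1 hgM
        simpa using this
      have h3 : g ∈ MulAut.conj x⁻¹ • M := by
        rw [mem_conj_smul_iff]
        simpa using h2
      have h4 : MaxIn (MulAut.conj x⁻¹ • M) H := maxIn_conj hM (H.inv_mem hxH)
      have h5 : Subgroup.zpowers g ≤ MulAut.conj x⁻¹ • M := by
        rw [Subgroup.zpowers_le]; exact h3
      have h6 := huniq _ _ h4 hM h5 hAM
      have h7 : x⁻¹ ∈ Subgroup.normalizer (M : Set G) := (conj_smul_eq_self_iff _ _).1 h6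
      have h8 : x ∈ Subgroup.normalizer (M : Set G) := by
        have := (Subgroup.normalizer (M : Set G)).inv_mem h7
        simpa using this
      exact hNM x hxH h8
  have : H ≤ M := by
    intro x hx
    obtain ⟨k, hk⟩ := heng x hx
    exact hkey k x hx (by rw [hk]; exact M.one_mem)
  exact absurd (lt_of_lt_of_le hM.1 this) (lt_irrefl _)

theorem result {G : Type*} [Group G] [Finite G] (g : G) :
    g ∈ Cfsg.fittingSubgroup G ↔ ∀ x : G, ∃ n : ℕ, (List.replicate n g).foldl (fun a b => a * b * a⁻¹ * b⁻¹) x = 1 := by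
  constructor
  · intro hg x
    haveI hnil : Group.IsNilpotent (fittingSubgroup G) := Helper7.fittingSubgroup_isNilpotent
    obtain ⟨c, hc⟩ := (Subgroup.isNilpotent_iff_lowerCentralSeries _).1 hnil
    refine ⟨c + 1, ?_⟩
    show eng g (c + 1) x = 1
    rw [eng_succ]
    have hx1 : x * g * x⁻¹ * g⁻¹ ∈ fittingSubgroup G :=
      (fittingSubgroup G).mul_mem
        ((Helper7.fittingSubgroup_normal G).conj_mem g hg x) ((fittingSubgroup G).inv_mem hg)
    have h1 := eng_mem_lcs (fittingSubgroup G) g hg c _ hx1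
    rw [hc, Subgroup.mem_bot] at h1
    exact h1
  · intro h
    have h1 : SubnIn (Subgroup.zpowers g) ⊤ :=
      engel_subn _ ⊤ rfl g (Subgroup.mem_top g) (fun x _ => h x)
    rw [subnIn_top_iff] at h1
    have hnil : Group.IsNilpotent (Subgroup.zpowers g) := by
      letI := IsCyclic.commGroup (α := Subgroup.zpowers g)
      infer_instance
    exact Helper7.subnormal_nilpotent_le_fittingSubgroup h1 hnil (Subgroup.mem_zpowers g)

end Cfsg.Agent.S3937
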