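import Cfsg.Statements.S3939
import Cfsg.Agent.Lead.Carter0
import Cfsg.Agent.Helper16.BaerSuzuki
import Cfsg.Agent.Helper9.NilpotentHall
import Cfsg.Agent.Helper9.PResidual
import Cfsg.Agent.Helper10.PGroupBasic
import Cfsg.Agent.Helper20.Sylow

set_option autoImplicit false
open Cfsg
open scoped commutatorElement

namespace Cfsg.Agent.S3939

universe u

/-- `⟨x, g⟩` is nilpotent for every `x`. -/
def NilG {G : Type*} [Group G] (g : G) : Prop :=
  ∀ x : G, Group.IsNilpotent ↥(Subgroup.closure ({x, g} : Set G))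

theorem isNilpotent_of_le {G : Type*} [Group G] {H K : Subgroup G} (h : H ≤ K)
    (hK : Group.IsNilpotent K) : Group.IsNilpotent H :=
  Lead.isNilpotent_of_injective (Subgroup.inclusion h) (Subgroup.inclusion_injective h)

theorem NilG.pow {G : Type*} [Group G] {g : G} (h : NilG g) (k : ℕ) : NilG (g ^ k) := by
  intro x
  refine isNilpotent_of_le ?_ (h x)
  rw [Subgroup.closure_le]
  intro y hy
  rcases hy with rfl | rfl
  · exact Subgroup.subset_closure (by simp)
  · exact Subgroup.pow_mem _ (Subgroup.subset_closure (by simp)) k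

/-! ### Part A: hypercentral elements -/

theorem mem_ucs_subgroup {G : Type*} [Group G] (K : Subgroup G) :
    ∀ (n : ℕ) (k : K), (k : G) ∈ Subgroup.upperCentralSeries G n → k ∈ Subgroup.upperCentralSeries K n := by
  intro n
  induction n with
  | zero =>
    intro k hk
    simp only [Subgroup.upperCentralSeries_zero, Subgroup.mem_bot] at hk ⊢
    ext; exact hk
  | succ n ih =>
    intro k hk
    rw [Subgroup.mem_upperCentralSeries_succ_iff] at hk ⊢
    intro y
    apply ih
    have := hk (y : G)
    simpa [commutatorElement_def] using this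

theorem nilG_of_mem_ucs {G : Type*} [Group G] (n : ℕ) (g : G)
    (hg : g ∈ Subgroup.upperCentralSeries G n) : NilG g := by
  intro x
  set K := Subgroup.closure ({x, g} : Set G) with hK
  have hxK : x ∈ K := Subgroup.subset_closure (by simp)
  have hgK : g ∈ K := Subgroup.subset_closure (by simp)
  have hg' : (⟨g, hgK⟩ : K) ∈ Subgroup.upperCentralSeries K n := mem_ucs_subgroup K n ⟨g, hgK⟩ hg
  -- K is generated by x', g'
  have hgen : Subgroup.closure ({⟨x, hxK⟩, ⟨g, hgK⟩} : Set K) = ⊤ := by
    have h1 := Subgroup.closure_closure_coe_preimage (k := ({x, g} : Set G))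
    rw [← h1]
    congr 1
    ext ⟨y, hy⟩
    simp [Subtype.ext_iff]
  have hx' : (⟨x, hxK⟩ : K) ∈ Subgroup.upperCentralSeries K (n + 1) := by
    rw [Subgroup.mem_upperCentralSeries_succ_iff]
    -- the set of y commuting with x mod Z_n
    let Zn := Subgroup.upperCentralSeries K n
    let C : Subgroup K := (Subgroup.centralizer
      ({(QuotientGroup.mk' Zn) ⟨x, hxK⟩} : Set (K ⧸ Zn))).comap (QuotientGroup.mk' Zn)
    have hC : C = ⊤ := by
      rw [eq_top_iff, ← hgen, Subgroup.closure_le]
      intro y hy
      rcases hy with rfl | rfl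
      · show _ ∈ Subgroup.centralizer _
        rw [Subgroup.mem_centralizer_iff]
        intro z hz
        rw [Set.mem_singleton_iff] at hz
        rw [hz]
      · show _ ∈ Subgroup.centralizer _
        have : (QuotientGroup.mk' Zn) ⟨g, hgK⟩ = 1 := by
          rw [QuotientGroup.mk'_apply, QuotientGroup.eq_one_iff]
          exact hg'
        rw [this]
        exact Subgroup.one_mem _
    intro y
    have hy : y ∈ C := by rw [hC]; trivial
    have hy' : (QuotientGroup.mk' Zn) y ∈ Subgroup.centralizer
      ({(QuotientGroup.mk' Zn) ⟨x, hxK⟩} : Set (K ⧸ Zn)) := hy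
    rw [Subgroup.mem_centralizer_iff] at hy'
    have h2 := hy' _ (Set.mem_singleton _)
    rw [← QuotientGroup.eq_one_iff (N := Zn), commutatorElement_def]
    simp only [QuotientGroup.mk_mul, QuotientGroup.mk_inv]
    simp only [QuotientGroup.mk'_apply] at h2
    rw [h2]
    simp
  refine ⟨⟨n + 1, ?_⟩⟩
  rw [eq_top_iff, ← hgen, Subgroup.closure_le]
  intro y hy
  rcases hy with rfl | rfl
  · exact hx'
  · exact Subgroup.upperCentralSeries_mono K (Nat.le_succ n) hg'

/-! ### Part B: `p`-elements with the property -/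

section
variable {G : Type*} [Group G] [Finite G] (p : ℕ) [Fact p.Prime]

/-- In a nilpotent `K = ⟨h, g⟩`, the `p`-elements lie in the normal Sylow `p`-subgroup. -/
theorem nilG_baer (g : G) (hg : NilG g) (a : ℕ) (hga : orderOf g = p ^ a) :
    g ∈ (⨅ P : Sylow p G, (P : Subgroup G) : Subgroup G) := by
  apply Helper16.baer_suzuki_elt
  intro h
  set K := Subgroup.closure ({h, g} : Set G) with hK
  haveI : Group.IsNilpotent K := hg h
  have hhK : h ∈ K := Subgroup.subset_closure (by simp)
  have hgK : g ∈ K := Subgroup.subset_closure (by simp)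
  obtain ⟨P⟩ : Nonempty (Sylow p K) := inferInstance
  have hPn : (P : Subgroup K).Normal := inferInstance
  have h1 : (⟨g, hgK⟩ : K) ∈ (P : Subgroup K) := by
    apply Helper20.mem_normal_sylow_of_orderOf P hPn _ a
    rw [← hga, ← Subgroup.orderOf_coe]
  have h2 : (⟨h, hhK⟩ : K) * ⟨g, hgK⟩ * (⟨h, hhK⟩ : K)⁻¹ ∈ (P : Subgroup K) :=
    hPn.conj_mem _ h1 _
  have hle : Subgroup.closure ({g, h * g * h⁻¹} : Set G) ≤ (P : Subgroup K).map K.subtype := by
    rw [Subgroup.closure_le]
    intro y hy
    rcases hy with rfl | rfl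
    · exact ⟨_, h1, rfl⟩
    · exact ⟨_, h2, rfl⟩
  exact (P.2.map K.subtype).to_le hle

theorem nilG_commute (g : G) (hg : NilG g) (a : ℕ) (hga : orderOf g = p ^ a) (y : G)
    (hy : (orderOf y).Coprime p) : y * g = g * y := by
  set K := Subgroup.closure ({y, g} : Set G) with hK
  haveI : Group.IsNilpotent K := hg y
  have hyK : y ∈ K := Subgroup.subset_closure (by simp)
  have hgK : g ∈ K := Subgroup.subset_closure (by simp)
  obtain ⟨P⟩ : Nonempty (Sylow p K) := inferInstance
  have hPn : (P : Subgroup K).Normal := inferInstance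
  have h1 : (⟨g, hgK⟩ : K) ∈ (P : Subgroup K) := by
    apply Helper20.mem_normal_sylow_of_orderOf P hPn _ a
    rw [← hga, ← Subgroup.orderOf_coe]
  have hcop : (orderOf (⟨y, hyK⟩ : K)).Coprime (Nat.card (P : Subgroup K)) := by
    obtain ⟨b, hb⟩ := IsPGroup.iff_card.1 P.2
    rw [hb, ← Subgroup.orderOf_coe]
    exact Nat.Coprime.pow_right b hy
  have h2 := Helper9.mem_centralizer_of_nilpotent_of_coprime (P : Subgroup K) ⟨y, hyK⟩
    (Subgroup.le_normalizer_of_normal (Subgroup.mem_top _)) hcop
  rw [Subgroup.mem_centralizer_iff] at h2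
  have h3 := h2 _ h1
  have h4 := congrArg Subtype.val h3
  simpa using h4.symm

/-! ### Part C: the centre is nontrivial -/

theorem center_ne_bot_of_nilG (g : G) (hg : NilG g) (hg1 : g ≠ 1) :
    Subgroup.center G ≠ ⊥ := by
  have ho : orderOf g ≠ 1 := by rwa [Ne, orderOf_eq_one_iff]
  obtain ⟨q, hq, hqd⟩ := Nat.exists_prime_and_dvd ho
  haveI : Fact q.Prime := ⟨hq⟩
  set g₁ := g ^ (orderOf g / q) with hg₁
  have ho1 : orderOf g₁ = q := orderOf_pow_orderOf_div (orderOf_pos g).ne' hqd
  have hn1 : NilG g₁ := hg.pow _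
  have hO := nilG_baer q g₁ hn1 1 (by rw [ho1, pow_one])
  have hcomm := nilG_commute q g₁ hn1 1 (by rw [ho1, pow_one])
  set O : Subgroup G := ⨅ P : Sylow q G, (P : Subgroup G) with hOdef
  haveI : O.Normal := Helper16.iInf_sylow_normal q
  haveI : (pResidual q G).Normal := Helper9.pResidual_normal q
  set N : Subgroup G := O ⊓ Subgroup.centralizer (pResidual q G : Set G) with hN
  haveI : N.Normal := inferInstance
  have hres : pResidual q G ≤ Subgroup.centralizer ({g₁} : Set G) := by
    unfold pResidual
    rw [Subgroup.closure_le]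
    intro y hy
    rw [SetLike.mem_coe, Subgroup.mem_centralizer_iff]
    intro w hw
    rw [Set.mem_singleton_iff] at hw
    rw [hw]
    exact (hcomm y hy).symm
  have hg1N : g₁ ∈ N := by
    refine ⟨hO, ?_⟩
    show g₁ ∈ Subgroup.centralizer (pResidual q G : Set G)
    rw [Subgroup.mem_centralizer_iff]
    intro y hy
    have := hres hy
    rw [Subgroup.mem_centralizer_iff] at this
    exact (this g₁ (Set.mem_singleton _)).symm
  have hg11 : g₁ ≠ 1 := by
    intro h
    rw [h, orderOf_one] at ho1
    exact hq.one_lt.ne ho1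
  obtain ⟨P⟩ : Nonempty (Sylow q G) := inferInstance
  have hNP : N ≤ (P : Subgroup G) := inf_le_left.trans (iInf_le _ P)
  have hNne : N.subgroupOf (P : Subgroup G) ≠ ⊥ := by
    intro h
    have : (⟨g₁, hNP hg1N⟩ : (P : Subgroup G)) ∈ N.subgroupOf (P : Subgroup G) := hg1N
    rw [h, Subgroup.mem_bot] at this
    exact hg11 (congrArg Subtype.val this)
  obtain ⟨z, hzN, hz1, hzc⟩ := Helper10.exists_ne_one_mem_inf_center (p := q)
    (G := (P : Subgroup G)) P.2 (N.subgroupOf (P : Subgroup G)) hNne
  have hzN' : (z : G) ∈ N := hzN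
  have hle : (⊤ : Subgroup G) ≤ Subgroup.centralizer ({(z : G)} : Set G) := by
    rw [← Helper9.sylow_sup_pResidual P, sup_le_iff]
    constructor
    · intro y hy
      rw [Subgroup.mem_centralizer_iff]
      intro w hw
      rw [Set.mem_singleton_iff] at hw
      rw [hw]
      rw [Subgroup.mem_center_iff] at hzc
      have := hzc ⟨y, hy⟩
      have h2 := congrArg Subtype.val this
      simpa using h2.symm
    · intro y hy
      rw [Subgroup.mem_centralizer_iff]
      intro w hw
      rw [Set.mem_singleton_iff] at hw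
      rw [hw]
      have : (z : G) ∈ Subgroup.centralizer (pResidual q G : Set G) := hzN'.2
      rw [Subgroup.mem_centralizer_iff] at this
      exact (this y hy).symm
  intro hbot
  have hzcen : (z : G) ∈ Subgroup.center G := by
    rw [Subgroup.mem_center_iff]
    intro y
    have := hle (Subgroup.mem_top y)
    rw [Subgroup.mem_centralizer_iff] at this
    exact (this _ (Set.mem_singleton _)).symm
  rw [hbot, Subgroup.mem_bot] at hzcen
  exact hz1 (by ext; exact hzcen)

end

/-! ### Part D: induction -/

theorem nilG_quot {G : Type*} [Group G] (N : Subgroup G) [N.Normal] (g : G) (hg : NilG g) :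
    NilG (QuotientGroup.mk' N g) := by
  intro xb
  obtain ⟨x, rfl⟩ := QuotientGroup.mk'_surjective N xb
  haveI := hg x
  have h1 : Group.IsNilpotent ((Subgroup.closure ({x, g} : Set G)).map (QuotientGroup.mk' N)) :=
    Group.nilpotent_of_surjective ((QuotientGroup.mk' N).subgroupMap _)
      (MonoidHom.subgroupMap_surjective _ _)
  rw [MonoidHom.map_closure, Set.image_pair] at h1
  exact h1

theorem main_aux : ∀ (n : ℕ) (G : Type u) [Group G] [Finite G], Nat.card G = n →
    ∀ g : G, NilG g → ∃ m, g ∈ Subgroup.upperCentralSeries G m := by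
  intro n
  induction n using Nat.strong_induction_on with
  | _ n ih =>
  intro G _ _ hcard g hg
  by_cases hg1 : g = 1
  · exact ⟨0, by rw [hg1]; exact Subgroup.one_mem _⟩
  · have hZ := center_ne_bot_of_nilG g hg hg1
    have hlt : Nat.card (G ⧸ Subgroup.center G) < n := by
      rw [← hcard, ← Subgroup.index_eq_card, ← Subgroup.index_mul_card (Subgroup.center G)]
      have h1 : 1 < Nat.card (Subgroup.center G) := by
        rw [Finite.one_lt_card_iff_nontrivial, Subgroup.nontrivial_iff_ne_bot]
        exact hZ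
      have h2 : 0 < (Subgroup.center G).index := Nat.pos_of_ne_zero Subgroup.index_ne_zero_of_finite
      nlinarith
    obtain ⟨m, hm⟩ := ih _ hlt (G ⧸ Subgroup.center G) rfl _ (nilG_quot (Subgroup.center G) g hg)
    refine ⟨m + 1, ?_⟩
    rw [← Subgroup.comap_upperCentralSeries_quotient_center]
    exact hm

theorem result {G : Type*} [Group G] [Finite G] (g : G) :
    (∀ x : G, Group.IsNilpotent ↥(Subgroup.closure ({x, g} : Set G))) ↔ g ∈ ⨆ n : ℕ, Subgroup.upperCentralSeries G n := by
  constructor
  · intro h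
    obtain ⟨m, hm⟩ := main_aux _ G rfl g h
    exact Subgroup.mem_iSup_of_mem m hm
  · intro h
    rw [Subgroup.mem_iSup_of_directed] at h
    · obtain ⟨n, hn⟩ := h
      exact nilG_of_mem_ucs n g hn
    · exact Monotone.directed_le (Subgroup.upperCentralSeries_mono G)

end Cfsg.Agent.S3939
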