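import Cfsg.Statements.S3941
import Cfsg.Agent.Helper20.Sylow

set_option autoImplicit false
open Cfsg

namespace Cfsg.Agent.S3941

open Equiv Equiv.Perm

/-- the embedding `Perm (Fin m) →* Perm (Fin n)` for `m ≤ n`. -/
def emb {m n : ℕ} (h : m ≤ n) : Perm (Fin m) →* Perm (Fin n) :=
  Equiv.Perm.extendDomainHom (Fin.castLEquiv h)

theorem emb_injective {m n : ℕ} (h : m ≤ n) : Function.Injective (emb h) :=
  Equiv.Perm.extendDomainHom_injective _

theorem sign_emb {m n : ℕ} (h : m ≤ n) (e : Perm (Fin m)) : sign (emb h e) = sign e :=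
  Equiv.Perm.sign_extendDomain e _

theorem emb_apply_of_le {m n : ℕ} (h : m ≤ n) (e : Perm (Fin m)) (x : Fin n) (hx : m ≤ (x : ℕ)) :
    emb h e x = x :=
  Equiv.Perm.extendDomain_apply_not_subtype e _ (by simpa using hx)

theorem key (n p : ℕ) [Fact p.Prime] (m : ℕ) (hm : m < n) (hn : 3 ≤ n)
    (σ₀ τ₀ : Perm (Fin m)) (hσs : sign σ₀ = 1) (hτs : sign τ₀ = 1)
    (a b : ℕ) (hσo : orderOf σ₀ = p ^ a) (ha : a ≠ 0) (hτo : orderOf τ₀ = p ^ b)
    (hbad : ∀ k, orderOf (σ₀⁻¹ * τ₀) ≠ p ^ k)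
    (h : ∀ H : Subgroup ↥(alternatingGroup (Fin n)), H ≠ ⊤ → p ∣ Nat.card ↥H →
      Cfsg.IsPClosed p ↥H) : False := by
  have hp : p.Prime := Fact.out
  set x₀ : Fin n := ⟨n - 1, by omega⟩ with hx₀
  set H : Subgroup ↥(alternatingGroup (Fin n)) :=
    (MulAction.stabilizer (Perm (Fin n)) x₀).subgroupOf (alternatingGroup (Fin n)) with hH
  have hmemH : ∀ g : ↥(alternatingGroup (Fin n)), g ∈ H ↔ (g : Perm (Fin n)) x₀ = x₀ := by
    intro g
    rw [hH, Subgroup.mem_subgroupOf, MulAction.mem_stabilizer_iff, Perm.smul_def]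
  -- the embedding of the small alternating group into `H`
  have hφ1 : ∀ ρ : ↥(alternatingGroup (Fin m)),
      emb hm.le (ρ : Perm (Fin m)) ∈ alternatingGroup (Fin n) := by
    intro ρ
    rw [mem_alternatingGroup, sign_emb]
    exact mem_alternatingGroup.mp ρ.2
  let ψ₁ : ↥(alternatingGroup (Fin m)) →* ↥(alternatingGroup (Fin n)) :=
    ((emb hm.le).comp (alternatingGroup (Fin m)).subtype).codRestrict _ hφ1
  have hψ1 : ∀ ρ, ψ₁ ρ ∈ H := by
    intro ρ
    rw [hmemH]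
    exact emb_apply_of_le hm.le _ x₀ (by simp only [hx₀]; omega)
  let ψ : ↥(alternatingGroup (Fin m)) →* ↥H := ψ₁.codRestrict H hψ1
  have hψinj : Function.Injective ψ := by
    intro ρ₁ ρ₂ h12
    have h1 : (ψ ρ₁ : ↥(alternatingGroup (Fin n))) = ψ ρ₂ := congrArg Subtype.val h12
    have h2 : ((ψ ρ₁ : ↥(alternatingGroup (Fin n))) : Perm (Fin n)) = ψ ρ₂ :=
      congrArg Subtype.val h1
    exact Subtype.ext (emb_injective hm.le h2)
  -- `H` is proper
  have hHne : H ≠ ⊤ := by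
    intro htop
    set a₀ : Fin n := ⟨0, by omega⟩ with ha₀
    set b₀ : Fin n := ⟨1, by omega⟩ with hb₀
    have hxa : x₀ ≠ a₀ := by
      intro hh; have := congrArg Fin.val hh; simp only [hx₀, ha₀] at this; omega
    have hxb : x₀ ≠ b₀ := by
      intro hh; have := congrArg Fin.val hh; simp only [hx₀, hb₀] at this; omega
    have hab : a₀ ≠ b₀ := by
      intro hh; have := congrArg Fin.val hh; simp only [ha₀, hb₀] at this; omega
    have hg : swap x₀ a₀ * swap x₀ b₀ ∈ alternatingGroup (Fin n) := by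
      rw [mem_alternatingGroup, Perm.sign_mul, sign_swap hxa, sign_swap hxb]
      rfl
    have hgH : (⟨_, hg⟩ : ↥(alternatingGroup (Fin n))) ∈ H := by rw [htop]; trivial
    rw [hmemH] at hgH
    simp only [Perm.mul_apply, swap_apply_left] at hgH
    rw [swap_apply_of_ne_of_ne hxb.symm hab.symm] at hgH
    exact hxb hgH.symm
  -- elements
  set σ : ↥H := ψ ⟨σ₀, mem_alternatingGroup.mpr hσs⟩ with hσ
  set τ : ↥H := ψ ⟨τ₀, mem_alternatingGroup.mpr hτs⟩ with hτ
  have hσo' : orderOf σ = p ^ a := by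
    rw [hσ, orderOf_injective ψ hψinj, ← Subgroup.orderOf_coe]
    exact hσo
  have hτo' : orderOf τ = p ^ b := by
    rw [hτ, orderOf_injective ψ hψinj, ← Subgroup.orderOf_coe]
    exact hτo
  have hdvd : p ∣ Nat.card ↥H := by
    have h1 : orderOf σ ∣ Nat.card ↥H := orderOf_dvd_natCard σ
    rw [hσo'] at h1
    exact (dvd_pow_self p ha).trans h1
  have hcl := h H hHne hdvd
  obtain ⟨P⟩ : Nonempty (Sylow p ↥H) := inferInstance
  have hPn := hcl P
  have hσP := Cfsg.Agent.Helper20.mem_normal_sylow_of_orderOf P hPn σ a hσo'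
  have hτP := Cfsg.Agent.Helper20.mem_normal_sylow_of_orderOf P hPn τ b hτo'
  have hmem : σ⁻¹ * τ ∈ (P : Subgroup ↥H) := mul_mem (inv_mem hσP) hτP
  obtain ⟨k, hk⟩ := (IsPGroup.iff_orderOf.mp P.isPGroup') ⟨σ⁻¹ * τ, hmem⟩
  rw [Subgroup.orderOf_mk] at hk
  apply hbad k
  rw [← hk, hσ, hτ, ← map_inv, ← map_mul, orderOf_injective ψ hψinj, ← Subgroup.orderOf_coe]
  rfl

def s0 : Perm (Fin 4) := swap 0 1 * swap 1 2
def t0 : Perm (Fin 4) := swap 2 3 * swap 1 2

theorem case_three (n : ℕ) (hn : 5 ≤ n) [Fact (3 : ℕ).Prime]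
    (h : ∀ H : Subgroup ↥(alternatingGroup (Fin n)), H ≠ ⊤ → 3 ∣ Nat.card ↥H →
      Cfsg.IsPClosed 3 ↥H) : False := by
  refine key n 3 4 (by omega) (by omega) s0 t0 (by decide) (by decide) 1 1 ?_ one_ne_zero ?_ ?_ h
  · rw [pow_one]; exact orderOf_eq_prime (by decide) (by decide)
  · rw [pow_one]; exact orderOf_eq_prime (by decide) (by decide)
  · intro k hk
    haveI : Fact (2 : ℕ).Prime := ⟨Nat.prime_two⟩
    have h2 : orderOf (s0⁻¹ * t0) = 2 := orderOf_eq_prime (by decide) (by decide)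
    rw [h2] at hk
    have h3 : Odd (3 ^ k) := Odd.pow (by decide)
    rw [← hk] at h3
    exact absurd h3 (by decide)

theorem case_big (n q : ℕ) [Fact (q + 5).Prime] (hqn : q + 5 < n)
    (h : ∀ H : Subgroup ↥(alternatingGroup (Fin n)), H ≠ ⊤ → (q + 5) ∣ Nat.card ↥H →
      Cfsg.IsPClosed (q + 5) ↥H) : False := by
  have hp : (q + 5).Prime := Fact.out
  set σ₀ : Perm (Fin (q + 5)) := finRotate (q + 5) with hσ₀
  set s : Perm (Fin (q + 5)) := swap ⟨0, by omega⟩ ⟨1, by omega⟩ with hs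
  set τ₀ : Perm (Fin (q + 5)) := s * σ₀ * s⁻¹ with hτ₀
  have hodd : Odd (q + 5) := hp.odd_of_ne_two (by omega)
  have hσs : sign σ₀ = 1 := by
    rw [hσ₀, sign_finRotate]
    have : Even (q + 5 - 1) := by
      obtain ⟨k, hk⟩ := hodd
      exact ⟨k, by omega⟩
    exact this.neg_one_pow
  have hτs : sign τ₀ = 1 := by
    rw [hτ₀, Perm.sign_mul, Perm.sign_mul, Perm.sign_inv, hσs, mul_one, Int.units_mul_self]
  have hσo : orderOf σ₀ = (q + 5) ^ 1 := by
    rw [pow_one, hσ₀, (isCycle_finRotate_of_le (by omega : 2 ≤ q + 5)).orderOf,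
      support_finRotate_of_le (by omega : 2 ≤ q + 5), Finset.card_univ, Fintype.card_fin]
  have hτo : orderOf τ₀ = (q + 5) ^ 1 := by
    have : τ₀ = MulAut.conj s σ₀ := rfl
    rw [this, MulEquiv.orderOf_eq]
    exact hσo
  refine key n (q + 5) (q + 5) hqn (by omega) σ₀ τ₀ hσs hτs 1 1 hσo one_ne_zero hτo ?_ h
  intro k hk
  set f : Perm (Fin (q + 5)) := σ₀⁻¹ * τ₀ with hf
  have hfk : f ^ (q + 5) ^ k = 1 := by rw [← hk]; exact pow_orderOf_eq_one f
  have r : ∀ (j : ℕ) (hj : j < q + 4), σ₀ ⟨j, by omega⟩ = ⟨j + 1, by omega⟩ :=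
    fun j hj => finRotate_of_lt hj
  have rinv : ∀ (j : ℕ) (hj : j < q + 4), σ₀⁻¹ ⟨j + 1, by omega⟩ = ⟨j, by omega⟩ := by
    intro j hj
    rw [Perm.inv_eq_iff_eq]
    exact (r j hj).symm
  have hsinv : s⁻¹ = s := by rw [hs, swap_inv]
  have hs_ne : ∀ (j : ℕ) (hj : j < q + 5), 2 ≤ j → s ⟨j, hj⟩ = ⟨j, hj⟩ := by
    intro j hj h2
    rw [hs]
    apply swap_apply_of_ne_of_ne
    · intro hh; have := congrArg Fin.val hh; simp at this; omega
    · intro hh; have := congrArg Fin.val hh; simp at this; omega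
  have hf2 : f ⟨2, by omega⟩ = ⟨2, by omega⟩ := by
    rw [hf, hτ₀]
    simp only [Perm.mul_apply]
    rw [hsinv, hs_ne 2 (by omega) le_rfl, r 2 (by omega), hs_ne 3 (by omega) (by omega)]
    exact rinv 2 (by omega)
  have hf0 : f ⟨0, by omega⟩ = ⟨1, by omega⟩ := by
    rw [hf, hτ₀]
    simp only [Perm.mul_apply]
    rw [hsinv]
    have : s ⟨0, by omega⟩ = ⟨1, by omega⟩ := by rw [hs]; exact swap_apply_left _ _
    rw [this, r 1 (by omega), hs_ne 2 (by omega) le_rfl]
    exact rinv 1 (by omega)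
  have hmod := card_compl_support_modEq hfk
  rw [Fintype.card_fin] at hmod
  have hdvd : (q + 5) ∣ f.supportᶜ.card := by
    apply (Nat.modEq_zero_iff_dvd).mp
    exact hmod.trans (Nat.modEq_zero_iff_dvd.mpr dvd_rfl)
  have hmem2 : (⟨2, by omega⟩ : Fin (q + 5)) ∈ f.supportᶜ := by
    rw [Finset.mem_compl, Perm.mem_support, not_not]
    exact hf2
  have hpos : 0 < f.supportᶜ.card := Finset.card_pos.mpr ⟨_, hmem2⟩
  have hle : q + 5 ≤ f.supportᶜ.card := Nat.le_of_dvd hpos hdvd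
  have huniv : f.supportᶜ = Finset.univ := by
    apply Finset.eq_univ_of_card
    have h1 := Finset.card_le_univ f.supportᶜ
    rw [Fintype.card_fin] at h1 ⊢
    omega
  have hmem0 : (⟨0, by omega⟩ : Fin (q + 5)) ∈ f.supportᶜ := by rw [huniv]; exact Finset.mem_univ _
  rw [Finset.mem_compl, Perm.mem_support, not_not, hf0] at hmem0
  have := congrArg Fin.val hmem0
  simp at this

/-- Let n ≥ 5 and p an odd prime with p ≤ n, and suppose that every proper subgroup of the alternating group of degree n whose order is divisible by p has a normal Sylow p-subgroup. Then n = p. -/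
theorem result (n p : ℕ) (hn : 5 ≤ n) [Fact p.Prime] (hp : p ≠ 2) (hpn : p ≤ n)
    (h : ∀ H : Subgroup ↥(alternatingGroup (Fin n)), H ≠ ⊤ → p ∣ Nat.card ↥H → Cfsg.IsPClosed p ↥H) : n = p := by
  by_contra hne
  have hp : p.Prime := Fact.out
  have hlt : p < n := lt_of_le_of_ne hpn (fun h' => hne h'.symm)
  have h3 : 3 ≤ p := by
    have := hp.two_le
    omega
  by_cases hp3 : p = 3
  · subst hp3
    exact case_three n hn h
  · have h5 : 5 ≤ p := by
      by_contra hlt5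
      have h4 : p = 4 := by omega
      rw [h4] at hp
      exact absurd hp (by decide)
    obtain ⟨q, rfl⟩ : ∃ q, p = q + 5 := ⟨p - 5, by omega⟩
    exact case_big n q hlt h

end Cfsg.Agent.S3941
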