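import Cfsg.Statements.S3949
import Mathlib

set_option autoImplicit false
open Cfsg

namespace Cfsg.Agent.S3949

theorem result {G : Type*} [Group G] [Finite G] (α : MulAut G) (hα : orderOf α = 2) (hG : Subgroup.closure (Set.range (fun c : G => c * (α c)⁻¹)) = ⊤)
    (j : ℕ) (hj : ∀ g : G, α g = g⁻¹ → ¬ 2 ^ j ∣ orderOf g) :
    Set.range ((fun c : G => c * (α c)⁻¹)^[j]) = {g : G | Odd (orderOf g) ∧ α g = g⁻¹} := by
  -- j ≥ 1
  obtain ⟨k, rfl⟩ : ∃ k, j = k + 1 := by
    rcases j with _ | k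
    · exact absurd (by simp) (hj 1 (by simp))
    · exact ⟨k, rfl⟩
  set f : G → G := fun c : G => c * (α c)⁻¹ with hf
  have hinv : ∀ c, α (f c) = (f c)⁻¹ := by
    intro c
    simp only [hf, map_mul, map_inv, mul_inv_rev, inv_inv]
    have h2 : α (α c) = c := by
      have : (α ^ 2) c = c := by
        rw [← hα, pow_orderOf_eq_one]; rfl
      simpa [pow_two] using this
    rw [h2]
  have hsq : ∀ g, α g = g⁻¹ → f g = g ^ 2 := by
    intro g hg
    simp [hf, hg, pow_two]
  have hpow_inv : ∀ g (n : ℕ), α g = g⁻¹ → α (g ^ n) = (g ^ n)⁻¹ := by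
    intro g n hg
    rw [map_pow, hg, inv_pow]
  have hiter : ∀ (n : ℕ) g, α g = g⁻¹ → f^[n] g = g ^ (2 ^ n) := by
    intro n
    induction n with
    | zero => intro g _; simp
    | succ n ih =>
      intro g hg
      rw [Function.iterate_succ_apply, hsq g hg, ih _ (hpow_inv g 2 hg), ← pow_mul, pow_succ']
  ext g
  simp only [Set.mem_range, Set.mem_ofPred_eq]
  constructor
  · rintro ⟨c, rfl⟩
    rw [Function.iterate_succ_apply, hiter k _ (hinv c)]
    refine ⟨?_, hpow_inv _ _ (hinv c)⟩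
    have hnd := hj (f c) (hinv c)
    obtain ⟨a, m, hm, ho⟩ := Nat.exists_eq_two_pow_mul_odd (orderOf_pos (f c)).ne'
    have hak : a ≤ k := by
      by_contra hlt
      rw [not_le] at hlt
      apply hnd
      rw [ho]
      exact Dvd.dvd.mul_right (pow_dvd_pow 2 hlt) m
    have h1 : ((f c) ^ (2 ^ k)) ^ m = 1 := by
      rw [← pow_mul]
      have : 2 ^ k * m = orderOf (f c) * 2 ^ (k - a) := by
        rw [ho, mul_right_comm, ← pow_add, Nat.add_sub_cancel' hak]
      rw [this, pow_mul, pow_orderOf_eq_one, one_pow]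
    exact Odd.of_dvd_nat hm (orderOf_dvd_of_pow_eq_one h1)
  · rintro ⟨hodd, hg⟩
    have hcop : Nat.Coprime (orderOf g) (2 ^ (k + 1)) := by
      apply Nat.Coprime.pow_right
      exact hodd.coprime_two_right
    obtain ⟨m, hm⟩ := exists_pow_eq_self_of_coprime hcop.symm
    refine ⟨g ^ m, ?_⟩
    rw [hiter _ _ (hpow_inv g m hg), ← pow_mul, mul_comm, pow_mul, hm]

end Cfsg.Agent.S3949
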