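import Cfsg.Statements.S3979
import Mathlib

set_option autoImplicit false
open Cfsg

namespace Cfsg.Agent.S3979

theorem result {G : Type*} [Group G] [Finite G] [IsCyclic G] : Cfsg.HasCyclicSchurMultiplier G 1 := by
  constructor
  · have hk : (MonoidHom.id G).ker = ⊥ := by
      ext x; simp
    refine ⟨G, inferInstance, inferInstance, MonoidHom.id G, ⟨Function.surjective_id, ?_, ?_⟩, ⟨?_⟩⟩
    · rw [hk]; exact bot_le
    · rw [hk]; exact bot_le
    · haveI : Unique (MonoidHom.id G).ker := by
        rw [hk]; infer_instance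
      exact MulEquiv.ofUnique
  · intro Γ _ _ σ hσ
    have hcomm : ∀ a b : Γ, a * b = b * a := by
      have := MonoidHom.isMulCommutative_of_isCyclic_of_ker_le_center σ hσ.2.1
      exact fun a b => mul_comm' a b
    have hc : commutator Γ = ⊥ := by
      rw [commutator_eq_closure, Subgroup.closure_eq_bot_iff]
      rintro _ ⟨a, b, rfl⟩
      rw [Set.mem_singleton_iff, commutatorElement_eq_one_iff_mul_comm]
      exact hcomm a b
    have hker : σ.ker = ⊥ := by
      have := hσ.2.2
      rw [hc] at this
      exact le_bot_iff.1 this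
    refine ⟨1, ?_⟩
    intro x
    refine ⟨1, ?_⟩
    have hx : (x : Γ) ∈ (⊥ : Subgroup Γ) := hker ▸ x.2
    rw [Subgroup.mem_bot] at hx
    apply Subtype.ext
    simp [hx]

end Cfsg.Agent.S3979
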