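import Cfsg.Statements.S3950
import Cfsg.Agent.S3979
import Cfsg.Agent.Helper20.NonCyclic
import Cfsg.Agent.Helper20.TwistStem

set_option autoImplicit false
open Cfsg

namespace Cfsg.Agent.S3950

open Helper20

theorem result {G : Type*} [CommGroup G] [Finite G] : Cfsg.HasCyclicSchurMultiplier G 1 ↔ IsCyclic G := by
  constructor
  · intro h
    by_contra hnc
    obtain ⟨p, hp, f₁, f₂, g, k, h1, h2, h3, h4⟩ := exists_dual_pair_of_not_isCyclic hnc
    haveI := hp
    have hstem : Cfsg.IsStemExtension (TwistExt.proj f₁ f₂) :=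
      TwistExt.isStemExtension (fun a b => mul_comm a b) g k h1 h2 h3 h4
    obtain ⟨π, hπ⟩ := h.2 (TwistExt f₁ f₂) (TwistExt.proj f₁ f₂) hstem
    -- kernel has p elements but is the image of a trivial group
    have hcard : Nat.card (TwistExt.proj f₁ f₂).ker = p := by
      rw [Nat.card_congr (TwistExt.kerEquiv f₁ f₂).toEquiv]
      exact Nat.card_zmod p
    have hle : Nat.card (TwistExt.proj f₁ f₂).ker ≤ Nat.card (Multiplicative (ZMod 1)) :=
      Nat.card_le_card_of_surjective π hπ
    have h1' : Nat.card (Multiplicative (ZMod 1)) = 1 := by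
      exact Nat.card_zmod 1
    have := hp.out.one_lt
    omega
  · intro h
    exact S3979.result

end Cfsg.Agent.S3950
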