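import Cfsg.Statements.S3951
import Cfsg.Agent.Helper20.TwistStem
import Cfsg.Agent.Helper20.StemGen

set_option autoImplicit false
open Cfsg

namespace Cfsg.Agent.S3951

open Helper20
open scoped commutatorElement

/-- first functional: reduce the first coordinate mod `n` -/
noncomputable def f1 (m n : ℕ) (hnm : n ∣ m) :
    Multiplicative (ZMod m × ZMod n) →* Multiplicative (ZMod n) :=
  AddMonoidHom.toMultiplicative
    ((ZMod.castHom hnm (ZMod n)).toAddMonoidHom.comp (AddMonoidHom.fst (ZMod m) (ZMod n)))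

/-- second functional: second coordinate -/
def f2 (m n : ℕ) : Multiplicative (ZMod m × ZMod n) →* Multiplicative (ZMod n) :=
  AddMonoidHom.toMultiplicative (AddMonoidHom.snd (ZMod m) (ZMod n))

lemma gens_closure (m n : ℕ) [NeZero m] [NeZero n] :
    Subgroup.closure ({Multiplicative.ofAdd ((1 : ZMod m), (0 : ZMod n)),
      Multiplicative.ofAdd ((0 : ZMod m), (1 : ZMod n))} : Set (Multiplicative (ZMod m × ZMod n))) = ⊤ := by
  rw [eq_top_iff]
  intro x _
  obtain ⟨⟨a, b⟩, rfl⟩ := Multiplicative.ofAdd.surjective x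
  have : Multiplicative.ofAdd ((a, b) : ZMod m × ZMod n) =
      (Multiplicative.ofAdd ((1 : ZMod m), (0 : ZMod n))) ^ a.val *
      (Multiplicative.ofAdd ((0 : ZMod m), (1 : ZMod n))) ^ b.val := by
    rw [← ofAdd_nsmul, ← ofAdd_nsmul, ← ofAdd_add]
    congr 1
    ext <;> simp
  rw [this]
  apply Subgroup.mul_mem
  · exact Subgroup.pow_mem _ (Subgroup.subset_closure (by simp)) _
  · exact Subgroup.pow_mem _ (Subgroup.subset_closure (by simp)) _

theorem result (m n : ℕ) [NeZero m] [NeZero n] (hnm : n ∣ m) : Cfsg.HasCyclicSchurMultiplier (Multiplicative (ZMod m × ZMod n)) n := by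
  constructor
  · refine ⟨TwistExt (f1 m n hnm) (f2 m n), inferInstance, inferInstance,
      TwistExt.proj _ _, ?_, ⟨TwistExt.kerEquiv _ _⟩⟩
    apply TwistExt.isStemExtension (fun a b => mul_comm a b)
      (Multiplicative.ofAdd ((1 : ZMod m), (0 : ZMod n)))
      (Multiplicative.ofAdd ((0 : ZMod m), (1 : ZMod n)))
    · simp only [TwistExt.val, f1, AddMonoidHom.toMultiplicative_apply_apply, toAdd_ofAdd,
        AddMonoidHom.coe_comp, Function.comp_apply, AddMonoidHom.coe_fst, RingHom.toAddMonoidHom_eq_coe,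
        AddMonoidHom.coe_coe, map_one]
    · simp [TwistExt.val, f2]
    · simp [TwistExt.val, f1]
    · simp [TwistExt.val, f2]
  · intro Γ _ _ σ hσ
    obtain ⟨α, hα⟩ := hσ.1 (Multiplicative.ofAdd ((1 : ZMod m), (0 : ZMod n)))
    obtain ⟨β, hβ⟩ := hσ.1 (Multiplicative.ofAdd ((0 : ZMod m), (1 : ZMod n)))
    have hgen : Subgroup.closure ({α, β} : Set Γ) = ⊤ := by
      apply closure_eq_top_of_stem σ hσ
      rw [Set.image_pair, hα, hβ]
      exact gens_closure m n
    set c : Γ := ⁅α, β⁆ with hc
    have hcK : c ∈ σ.ker := by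
      rw [MonoidHom.mem_ker, hc, map_commutatorElement, commutatorElement_eq_one_iff_mul_comm]
      exact mul_comm _ _
    have hcZ : c ∈ Subgroup.center Γ := hσ.2.1 hcK
    haveI hN : (Subgroup.zpowers c).Normal := by
      apply normal_of_le_center
      rw [Subgroup.zpowers_le]
      exact hcZ
    have hcomm : commutator Γ ≤ Subgroup.zpowers c :=
      commutator_le_of_two_gen α β hgen _ (Subgroup.mem_zpowers c)
    have hβn : β ^ n ∈ σ.ker := by
      rw [MonoidHom.mem_ker, map_pow, hβ, ← ofAdd_nsmul]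
      have : n • ((0 : ZMod m), (1 : ZMod n)) = 0 := by
        ext <;> simp
      rw [this]; rfl
    have hcn : c ^ n = 1 := by
      rw [hc, ← commutatorElement_pow_right α β hcZ n]
      exact commutatorElement_central_right _ _ (hσ.2.1 hβn)
    apply exists_surj_of_zpowers n (⟨c, hcK⟩ : σ.ker)
    · apply Subtype.ext
      simp [hcn]
    · intro k
      obtain ⟨j, hj⟩ := hcomm (hσ.2.2 k.2)
      refine ⟨j, ?_⟩
      apply Subtype.ext
      simpa using hj

end Cfsg.Agent.S3951
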