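import Cfsg.Statements.S3978
import Cfsg.Agent.Helper24.ProjLiftGL

set_option autoImplicit false
open Cfsg

namespace Cfsg.Agent.S3978

/-- A finite group `Q` has trivial Schur multiplier if and only if, for every `n`, every homomorphism from `Q` to the projective general linear group (the quotient of `GL n ℂ` by its centre) lifts to a homomorphism into `GL n ℂ`. -/
theorem result {Q : Type*} [Group Q] [Finite Q] : Cfsg.HasCyclicSchurMultiplier Q 1 ↔ ∀ (n : ℕ) (γ : Q →* (GL (Fin n) ℂ ⧸ Subgroup.center (GL (Fin n) ℂ))), ∃ ρ : Q →* GL (Fin n) ℂ, (QuotientGroup.mk' (Subgroup.center (GL (Fin n) ℂ))).comp ρ = γ := by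
  constructor
  · intro h n γ
    rcases Nat.eq_zero_or_pos n with hn | hn
    · subst hn
      refine ⟨1, ?_⟩
      ext q
      haveI : Subsingleton (GL (Fin 0) ℂ) := by
        refine ⟨fun a b => ?_⟩
        apply Units.ext
        exact Subsingleton.elim _ _
      obtain ⟨A, hA⟩ := QuotientGroup.mk_surjective (γ q)
      rw [← hA, Subsingleton.elim A 1]
      rfl
    · refine Helper24.exists_lift_of_stem_trivial (fun Γ _ _ σ hσ z hz => ?_) n hn γ
      obtain ⟨π, hπ⟩ := h.2 Γ σ hσ
      obtain ⟨a, ha⟩ := hπ ⟨z, hz⟩
      have h1 : a = 1 := Subsingleton.elim _ _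
      rw [h1, map_one] at ha
      exact (congrArg Subtype.val ha).symm
  · intro h
    refine ⟨⟨Q, inferInstance, inferInstance, MonoidHom.id Q, ⟨?_, ?_, ?_⟩, ?_⟩, ?_⟩
    · exact Function.surjective_id
    · intro z hz
      rw [MonoidHom.mem_ker, MonoidHom.id_apply] at hz
      rw [hz]
      exact Subgroup.one_mem _
    · intro z hz
      rw [MonoidHom.mem_ker, MonoidHom.id_apply] at hz
      rw [hz]
      exact Subgroup.one_mem _
    · haveI : Subsingleton (MonoidHom.id Q).ker := by
        refine ⟨fun a b => ?_⟩
        apply Subtype.ext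
        have ha := MonoidHom.mem_ker.mp a.2
        have hb := MonoidHom.mem_ker.mp b.2
        rw [MonoidHom.id_apply] at ha hb
        rw [ha, hb]
      exact ⟨{ toFun := fun _ => 1
               invFun := fun _ => 1
               left_inv := fun _ => Subsingleton.elim _ _
               right_inv := fun _ => Subsingleton.elim _ _
               map_mul' := fun _ _ => Subsingleton.elim _ _ }⟩
    · intro Γ _ _ σ hσ
      refine ⟨1, ?_⟩
      intro z
      refine ⟨1, ?_⟩
      apply Subtype.ext
      rw [MonoidHom.one_apply]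
      exact (Helper24.ker_eq_bot_of_projective_lifts h σ hσ z z.2).symm

end Cfsg.Agent.S3978
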