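import Cfsg.Statements.S3962
import Mathlib

set_option autoImplicit false
open Cfsg
open scoped IsMulCommutative

namespace Cfsg.Agent.S3962

theorem result {G Q : Type*} [Group G] [Group Q] (hG : Group.IsPerfect G) (π : G →* Q) (hπ : Function.Surjective π) (hker : π.ker ≤ Subgroup.center G) : (Subgroup.center G).map π = Subgroup.center Q := by
  apply le_antisymm
  · rintro _ ⟨z, hz, rfl⟩
    rw [Subgroup.mem_center_iff]
    intro q
    obtain ⟨h, rfl⟩ := hπ q
    rw [← map_mul, ← map_mul, (Subgroup.mem_center_iff.1 hz) h]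
  · intro q hq
    obtain ⟨g, rfl⟩ := hπ q
    refine ⟨g, ?_, rfl⟩
    have hz : ∀ a : G, g * a * g⁻¹ * a⁻¹ ∈ Subgroup.center G := by
      intro a
      apply hker
      rw [MonoidHom.mem_ker]
      simp only [map_mul, map_inv]
      rw [← (Subgroup.mem_center_iff.1 hq) (π a)]
      group
    obtain ⟨f, hfdef⟩ : ∃ f : G →* Subgroup.center G, ∀ a, (f a : G) = g * a * g⁻¹ * a⁻¹ := by
      refine ⟨MonoidHom.mk' (fun a => ⟨g * a * g⁻¹ * a⁻¹, hz a⟩) ?_, fun a => rfl⟩
      intro a b
      apply Subtype.ext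
      simp only [Subgroup.coe_mul]
      have hb := Subgroup.mem_center_iff.1 (hz b) a⁻¹
      calc g * (a * b) * g⁻¹ * (a * b)⁻¹ = g * a * g⁻¹ * (g * b * g⁻¹ * b⁻¹ * a⁻¹) := by group
        _ = g * a * g⁻¹ * (a⁻¹ * (g * b * g⁻¹ * b⁻¹)) := by rw [hb]
        _ = g * a * g⁻¹ * a⁻¹ * (g * b * g⁻¹ * b⁻¹) := by group
    have hf : ∀ a, f a = 1 := by
      intro a
      have h1 : commutator G ≤ f.ker := Abelianization.commutator_subset_ker f
      have h2 : a ∈ commutator G := by
        rw [hG.commutator_eq_top]; trivial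
      exact h1 h2
    rw [SetLike.mem_coe, Subgroup.mem_center_iff]
    intro a
    have := congrArg Subtype.val (hf a)
    rw [hfdef] at this
    simp only [Subgroup.coe_one] at this
    calc a * g = (g * a * g⁻¹ * a⁻¹)⁻¹ * (g * a) := by group
      _ = g * a := by rw [this]; group

end Cfsg.Agent.S3962
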