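import Cfsg.Statements.S3963
import Cfsg.Agent.Helper20.DihedralStem
import Cfsg.Agent.Helper20.DihedralGen

set_option autoImplicit false
open Cfsg

namespace Cfsg.Agent.S3963

open Cfsg.Agent.Helper20 QuaternionGroup in
/-- For every `n ≥ 1` the dicyclic (generalized quaternion) group of order `4 n` has trivial Schur multiplier. -/
theorem result (n : ℕ) [NeZero n] : Cfsg.HasCyclicSchurMultiplier (QuaternionGroup n) 1 := by
  apply hasCyclicSchurMultiplier_one_of_forall_ker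
  intro Γ _ _ σ hσ
  obtain ⟨ρ, hρ⟩ := hσ.1 (a 1)
  obtain ⟨τ, hτ⟩ := hσ.1 (xa 0)
  have hgen : Subgroup.closure ({σ τ, σ ρ} : Set (QuaternionGroup n)) = ⊤ := by
    rw [hρ, hτ]; exact quaternion_closure n
  have hinv : σ τ * σ ρ * (σ τ)⁻¹ * σ ρ = 1 := by
    rw [hρ, hτ]; exact quaternion_inv_rel n
  obtain ⟨hk, hker⟩ := dih_ker_elt σ hσ ρ τ hgen hinv
  have hk2 : ρ ^ n * (τ ^ 2)⁻¹ ∈ Subgroup.center Γ :=
    hσ.2.1 (by
      rw [MonoidHom.mem_ker, map_mul, map_inv, map_pow, map_pow, hρ, hτ, a_one_pow, xa_sq,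
        mul_inv_cancel])
  have hcn : (dihC ρ τ) ^ n = 1 := by
    apply dih_pow_eq_one ρ τ hk n
    have c := Subgroup.mem_center_iff.1 hk2 τ
    calc τ * ρ ^ n * τ⁻¹ = (τ * (ρ ^ n * (τ ^ 2)⁻¹)) * τ ^ 2 * τ⁻¹ := by group
      _ = ((ρ ^ n * (τ ^ 2)⁻¹) * τ) * τ ^ 2 * τ⁻¹ := by rw [c]
      _ = ρ ^ n := by group
  rw [eq_bot_iff]
  intro x hx
  obtain ⟨j, rfl, hj⟩ := hker x hx
  rw [hρ, ← orderOf_dvd_iff_zpow_eq_one, orderOf_a_one] at hj
  have hn0 : (n : ℤ) ≠ 0 := by exact_mod_cast NeZero.ne n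
  have h2 : (n : ℤ) ∣ j := by
    push_cast at hj
    exact (mul_dvd_mul_iff_left (by norm_num : (2 : ℤ) ≠ 0)).1 hj
  obtain ⟨t, rfl⟩ := h2
  rw [Subgroup.mem_bot, zpow_mul, zpow_natCast, hcn, one_zpow]

end Cfsg.Agent.S3963
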