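import Cfsg.Statements.S3964
import Cfsg.Agent.Helper20.DihedralStem
import Cfsg.Agent.Helper20.DihedralGen

set_option autoImplicit false
open Cfsg

namespace Cfsg.Agent.S3964

open Cfsg.Agent.Helper20 DihedralGroup in
/-- For odd `n` the dihedral group of order `2 n` has trivial Schur multiplier. -/
theorem result (n : ℕ) (hn : Odd n) : Cfsg.HasCyclicSchurMultiplier (DihedralGroup n) 1 := by
  have : NeZero n := ⟨by rintro rfl; simp at hn⟩
  apply hasCyclicSchurMultiplier_one_of_forall_ker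
  intro Γ _ _ σ hσ
  obtain ⟨ρ, hρ⟩ := hσ.1 (r 1)
  obtain ⟨τ, hτ⟩ := hσ.1 (sr 0)
  have hgen : Subgroup.closure ({σ τ, σ ρ} : Set (DihedralGroup n)) = ⊤ := by
    rw [hρ, hτ]; exact dihedral_closure n
  have hinv : σ τ * σ ρ * (σ τ)⁻¹ * σ ρ = 1 := by
    rw [hρ, hτ]; exact dihedral_inv_rel n
  obtain ⟨hk, hker⟩ := dih_ker_elt σ hσ ρ τ hgen hinv
  have hρn : ρ ^ n ∈ Subgroup.center Γ :=
    hσ.2.1 (by rw [MonoidHom.mem_ker, map_pow, hρ, r_one_pow_n])
  have hcn : (dihC ρ τ) ^ n = 1 :=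
    dih_pow_eq_one ρ τ hk n (by rw [Subgroup.mem_center_iff.1 hρn τ]; group)
  rw [eq_bot_iff]
  intro x hx
  obtain ⟨j, rfl, hj⟩ := hker x hx
  rw [hρ, r_one_zpow] at hj
  have h0 := dihedral_r_eq_one hj
  rw [ZMod.intCast_zmod_eq_zero_iff_dvd] at h0
  have hcop : IsCoprime (n : ℤ) 2 := by
    rw [Int.isCoprime_iff_gcd_eq_one]
    have : Nat.Coprime n 2 := (Nat.coprime_comm.1 (Nat.coprime_two_left.2 hn))
    simpa [Int.gcd] using this
  obtain ⟨t, rfl⟩ := hcop.dvd_of_dvd_mul_left h0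
  rw [Subgroup.mem_bot, zpow_mul, zpow_natCast, hcn, one_zpow]

end Cfsg.Agent.S3964
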