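import Cfsg.Statements.S3966
import Mathlib

set_option autoImplicit false
open Cfsg

namespace Cfsg.Agent.S3966

open QuaternionGroup DihedralGroup
open scoped commutatorElement

/-- the reduction map ZMod (2n) → ZMod n -/
noncomputable def red (n : ℕ) : ZMod (2 * n) →+* ZMod n :=
  ZMod.castHom (dvd_mul_left n 2) (ZMod n)

lemma red_n (n : ℕ) : red n (n : ZMod (2 * n)) = 0 := by
  simp [red]

noncomputable def sigmaFun (n : ℕ) : QuaternionGroup n → DihedralGroup n
  | a i => r (red n i)
  | xa i => sr (red n i)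

noncomputable def sigma (n : ℕ) : QuaternionGroup n →* DihedralGroup n :=
  MonoidHom.mk' (sigmaFun n) (by
    rintro (i | i) (j | j) <;> simp [sigmaFun])

lemma sigma_a (n : ℕ) (i : ZMod (2 * n)) : sigma n (a i) = r (red n i) := rfl
lemma sigma_xa (n : ℕ) (i : ZMod (2 * n)) : sigma n (xa i) = sr (red n i) := rfl

lemma red_surj (n : ℕ) : Function.Surjective (red n) :=
  ZMod.ringHom_surjective _

lemma sigma_surj (n : ℕ) : Function.Surjective (sigma n) := by
  rintro (j | j)
  · obtain ⟨i, rfl⟩ := red_surj n j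
    exact ⟨a i, rfl⟩
  · obtain ⟨i, rfl⟩ := red_surj n j
    exact ⟨xa i, rfl⟩

lemma ker_char (n : ℕ) [NeZero n] (x : QuaternionGroup n) (hx : sigma n x = 1) :
    x = 1 ∨ x = a (n : ZMod (2 * n)) := by
  rcases x with i | i
  · rw [sigma_a, DihedralGroup.one_def] at hx
    have h0 : red n i = 0 := by
      injection hx
    have h1 : ((i.val : ℕ) : ZMod n) = 0 := by
      have : red n i = ((i.val : ℕ) : ZMod n) := by
        simp [red, ZMod.natCast_val]
      rw [← this, h0]
    rw [ZMod.natCast_eq_zero_iff] at h1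
    have hlt : i.val < 2 * n := ZMod.val_lt i
    obtain ⟨k, hk⟩ := h1
    have hn : 0 < n := Nat.pos_of_ne_zero (NeZero.ne n)
    have hk2 : k < 2 := by
      by_contra h
      rw [not_lt] at h
      have : 2 * n ≤ n * k := by
        calc 2 * n = n * 2 := by ring
          _ ≤ n * k := Nat.mul_le_mul_left n h
      omega
    have hi : i = ((i.val : ℕ) : ZMod (2 * n)) := (ZMod.natCast_zmod_val i).symm
    interval_cases k
    · left
      rw [hi, hk]; simp
    · right
      rw [hi, hk]; simp
  · rw [sigma_xa, DihedralGroup.one_def] at hx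
    exact absurd hx (by intro h; cases h)

lemma inv_a' (n : ℕ) (i : ZMod (2 * n)) : (a i : QuaternionGroup n)⁻¹ = a (-i) := rfl
lemma inv_xa' (n : ℕ) (i : ZMod (2 * n)) : (xa i : QuaternionGroup n)⁻¹ = xa ((n : ZMod (2 * n)) + i) := rfl

lemma two_n (n : ℕ) : ((n : ZMod (2 * n)) + n) = 0 := by
  have : ((2 * n : ℕ) : ZMod (2 * n)) = 0 := ZMod.natCast_self _
  rw [← this]; push_cast; ring

lemma an_central (n : ℕ) : a (n : ZMod (2 * n)) ∈ Subgroup.center (QuaternionGroup n) := by
  rw [Subgroup.mem_center_iff]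
  have h2 := two_n n
  rintro (j | j)
  · simp [add_comm]
  · simp only [xa_mul_a, a_mul_xa]
    congr 1
    have : (n : ZMod (2 * n)) = -n := by
      rw [eq_neg_iff_add_eq_zero]; exact h2
    rw [sub_eq_add_neg, ← this]

theorem result (n : ℕ) [NeZero n] (hn : Even n) : ∃ σ : QuaternionGroup n →* DihedralGroup n, Cfsg.IsStemExtension σ ∧ Nat.card σ.ker = 2 := by
  refine ⟨sigma n, ⟨sigma_surj n, ?_, ?_⟩, ?_⟩
  · intro x hx
    rcases ker_char n x hx with rfl | rfl
    · exact Subgroup.one_mem _
    · exact an_central n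
  · intro x hx
    rcases ker_char n x hx with rfl | rfl
    · exact Subgroup.one_mem _
    · obtain ⟨k, hk⟩ := hn
      have : a (n : ZMod (2 * n)) = ⁅a (k : ZMod (2 * n)), xa (0 : ZMod (2 * n))⁆ := by
        rw [commutatorElement_def]
        have h2 := two_n n
        have hkk : (n : ZMod (2 * n)) = (k : ZMod (2 * n)) + k := by
          rw [hk]; push_cast; ring
        rw [inv_a', inv_xa', a_mul_xa, xa_mul_a, xa_mul_xa]
        congr 1
        rw [hkk] at h2 ⊢
        linear_combination (-1 : ZMod (2 * n)) * h2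
      rw [this]
      exact Subgroup.commutator_mem_commutator (Subgroup.mem_top _) (Subgroup.mem_top _)
  · have h1 := Subgroup.card_eq_card_quotient_mul_card_subgroup (sigma n).ker
    have e := QuotientGroup.quotientKerEquivOfSurjective (sigma n) (sigma_surj n)
    rw [Nat.card_congr e.toEquiv, DihedralGroup.nat_card, Nat.card_eq_fintype_card, QuaternionGroup.card] at h1
    have hn0 : 0 < n := Nat.pos_of_ne_zero (NeZero.ne n)
    have : 2 * n * 2 = 2 * n * Nat.card (sigma n).ker := by
      rw [← h1]; ring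
    exact (Nat.eq_of_mul_eq_mul_left (by positivity) this).symm

end Cfsg.Agent.S3966
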