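import Cfsg.Statements.S3965
import Cfsg.Agent.S3966
import Cfsg.Agent.Helper20.DihedralStem
import Cfsg.Agent.Helper20.DihedralGen

set_option autoImplicit false
open Cfsg

namespace Cfsg.Agent.S3965

open Cfsg.Agent.Helper20 DihedralGroup in
/-- For even `n ≥ 2` the dihedral group of order `2 n` has Schur multiplier cyclic of order `2`. -/
theorem result (n : ℕ) [NeZero n] (hn : Even n) : Cfsg.HasCyclicSchurMultiplier (DihedralGroup n) 2 := by
  constructor
  · obtain ⟨σ, hσ, hcard⟩ := Cfsg.Agent.S3966.result n hn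
    refine ⟨QuaternionGroup n, inferInstance, inferInstance, σ, hσ, ⟨?_⟩⟩
    haveI : Fact (Nat.Prime 2) := ⟨Nat.prime_two⟩
    exact mulEquivOfPrimeCardEq (p := 2) hcard (by simp [Nat.card_eq_fintype_card])
  · intro Γ _ _ σ hσ
    obtain ⟨ρ, hρ⟩ := hσ.1 (r 1)
    obtain ⟨τ, hτ⟩ := hσ.1 (sr 0)
    have hgen : Subgroup.closure ({σ τ, σ ρ} : Set (DihedralGroup n)) = ⊤ := by
      rw [hρ, hτ]; exact dihedral_closure n
    have hinv : σ τ * σ ρ * (σ τ)⁻¹ * σ ρ = 1 := by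
      rw [hρ, hτ]; exact dihedral_inv_rel n
    obtain ⟨hk, hker⟩ := dih_ker_elt σ hσ ρ τ hgen hinv
    have hρn : ρ ^ n ∈ Subgroup.center Γ :=
      hσ.2.1 (by rw [MonoidHom.mem_ker, map_pow, hρ, r_one_pow_n])
    have hcn : (dihC ρ τ) ^ n = 1 :=
      dih_pow_eq_one ρ τ hk n (by rw [Subgroup.mem_center_iff.1 hρn τ]; group)
    obtain ⟨m, hm⟩ := hn
    have hd : (dihC ρ τ) ^ m ∈ σ.ker := by
      have h1 : σ (dihC ρ τ) = (σ τ * σ ρ * (σ τ)⁻¹ * σ ρ) * (σ ρ)⁻¹ * (σ ρ)⁻¹ := by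
        simp [dihC]
      rw [MonoidHom.mem_ker, map_pow, h1, hinv, one_mul, hρ, inv_r, r_mul_r, r_pow, one_def]
      congr 1
      have h := ZMod.natCast_self n
      have this : ((m + m : ℕ) : ZMod n) = 0 := by rw [← hm]; exact h
      push_cast at this
      linear_combination (-1 : ZMod n) * this
    have hd2 : (⟨(dihC ρ τ) ^ m, hd⟩ : σ.ker) ^ 2 = 1 := by
      apply Subtype.ext
      simp only [Subgroup.coe_pow, Subgroup.coe_one]
      rw [← pow_mul, ← hcn, hm]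
      congr 1; ring
    apply exists_surj_of_zpowers 2 (⟨(dihC ρ τ) ^ m, hd⟩ : σ.ker) hd2
    rintro ⟨x, hx⟩
    obtain ⟨j, rfl, hj⟩ := hker x hx
    rw [hρ, r_one_zpow] at hj
    have h0 := dihedral_r_eq_one hj
    rw [ZMod.intCast_zmod_eq_zero_iff_dvd, hm] at h0
    have hm0 : (m : ℤ) ≠ 0 := by
      have := NeZero.ne n
      rw [hm] at this
      intro h
      apply this
      have : m = 0 := by exact_mod_cast h
      omega
    have h2 : (m : ℤ) ∣ j := by
      push_cast at h0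
      rw [← two_mul] at h0
      exact (mul_dvd_mul_iff_left (by norm_num : (2 : ℤ) ≠ 0)).1 h0
    obtain ⟨t, rfl⟩ := h2
    rw [Subgroup.mem_zpowers_iff]
    refine ⟨t, Subtype.ext ?_⟩
    simp only [Subgroup.coe_zpow]
    rw [zpow_mul, zpow_natCast]

end Cfsg.Agent.S3965
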