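import Cfsg.Statements.S3968
import Mathlib
import Cfsg.Agent.Helper24.Burnside
import Cfsg.Agent.Helper24.Restrict
import Cfsg.Agent.Helper24.SylowInduced
import Cfsg.Agent.Helper24.DetChar
import Cfsg.Agent.Helper24.Monomial
import Cfsg.Agent.Helper24.LinUnits
import Cfsg.Agent.Helper24.SmallDegree
import Cfsg.Agent.Helper8.CharComp
import Cfsg.Agent.Helper20.SchurExpA

set_option autoImplicit false
open Cfsg

namespace Cfsg.Agent.S3968

open Cfsg.Agent.Helper24

/-- Let `p` be a prime and `G` a finite group with a faithful irreducible complex character of degree `p` (so `G` is an irreducible linear group in `p` variables). If `p ^ 2` divides the order of `G`, then the centre of `G` is nontrivial. -/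
theorem result {G : Type*} [Group G] [Finite G] (p : ℕ) (hp : p.Prime) (χ : Cfsg.IrrCharacter G) (hdeg : χ.1 1 = p) (hfaith : ∀ g : G, χ.1 g = χ.1 1 → g = 1) (hdiv : p ^ 2 ∣ Nat.card G) : Subgroup.center G ≠ ⊥ := by
  classical
  intro hbot
  haveI : Fintype G := Fintype.ofFinite G
  obtain ⟨n, ρ, hirr, hchar⟩ := χ.2
  haveI := hirr
  have hn : Module.finrank ℂ (Fin n → ℂ) = p := by
    have h1 : ρ.character 1 = (Module.finrank ℂ (Fin n → ℂ) : ℂ) := Representation.char_one ρ
    rw [hchar, hdeg] at h1
    exact_mod_cast h1.symm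
  have hinj : Function.Injective ρ := by
    intro a b hab
    have h1 : ρ (a * b⁻¹) = 1 := by
      rw [map_mul, hab, ← map_mul, mul_inv_cancel, map_one]
    have h2 : χ.1 (a * b⁻¹) = χ.1 1 := by
      rw [← hchar]
      simp only [Representation.character]
      rw [h1, ← map_one ρ]
    have := hfaith _ h2
    exact mul_inv_eq_one.mp this
  have hscal : ∀ (g : G) (c : ℂ), ρ g = c • (LinearMap.id : (Fin n → ℂ) →ₗ[ℂ] (Fin n → ℂ)) →
      g = 1 := by
    intro g c hc
    have := mem_center_of_scalar ρ hinj g c hc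
    rw [hbot] at this
    exact Subgroup.mem_bot.mp this
  haveI : Fact p.Prime := ⟨hp⟩
  obtain P : Sylow p G := default
  have hcardG : Nat.card G ≠ 0 := Nat.card_pos.ne'
  have hk2 : 2 ≤ (Nat.card G).factorization p :=
    (hp.pow_dvd_iff_le_factorization hcardG).mp hdiv
  have hPcard : Nat.card P = p ^ (Nat.card G).factorization p := P.card_eq_multiplicity
  have hp2P : p ^ 2 ∣ Nat.card P := by
    rw [hPcard]; exact pow_dvd_pow p hk2
  -- Claim A
  have claimA : ∀ z : G, z ∈ P → (∀ y ∈ P, y * z = z * y) → z ≠ 1 → χ.1 z = 0 := by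
    intro z hz hcomm hz1
    have hle : (P : Subgroup G) ≤ Subgroup.centralizer ({z} : Set G) := by
      intro y hy
      rw [Subgroup.mem_centralizer_iff]
      intro w hw
      rw [Set.mem_singleton_iff] at hw
      subst hw
      exact (hcomm y hy).symm
    have hcop : Nat.Coprime (Module.finrank ℂ (Fin n → ℂ))
        (Subgroup.centralizer ({z} : Set G)).index := by
      rw [hn]
      refine (Nat.Prime.coprime_iff_not_dvd hp).mpr ?_
      intro hd
      exact P.not_dvd_index (hd.trans (Subgroup.index_dvd_of_le hle))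
    rcases char_eq_zero_or_norm_eq_of_coprime ρ z hcop with h0 | h0
    · rw [← hchar]; exact h0
    · obtain ⟨ω, hω⟩ := (norm_char_eq_iff ρ z).mp h0
      exact absurd (hscal z ω hω) hz1
  haveI : Fintype P := Fintype.ofFinite _
  haveI : Fintype (IrrCharacter P) := Fintype.ofFinite _
  set θ : P → ℂ := fun x : P => χ.1 x with hθdef
  have hθ : IsCharacter P θ := Cfsg.Agent.Helper8.isCharacter_restrict (P : Subgroup G)
    (IsIrrCharacter.isCharacter χ.2)
  have hθ1 : θ 1 = (p : ℂ) := by
    simp only [hθdef, OneMemClass.coe_one]; exact hdeg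
  by_cases hcase : ∃ ψ : IrrCharacter P, classInner θ (ψ : P → ℂ) ≠ 0 ∧ irrDeg ψ = p
  · obtain ⟨ψ, hne, hdegψ⟩ := hcase
    have hθψ : θ = (ψ : P → ℂ) := by
      refine IsCharacter.eq_irr_of_constituent_of_deg hθ ψ hne ?_
      rw [hθ1, irrDeg_spec, hdegψ]
    set σ : Representation ℂ P (Fin n → ℂ) := ρ.comp (P : Subgroup G).subtype with hσ
    have hσchar : σ.character = θ := by
      funext x
      simp only [hθdef, ← hchar]
      rfl
    haveI : σ.IsIrreducible :=
      isIrreducible_of_isIrrCharacter σ (by rw [hσchar, hθψ]; exact ψ.2)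
    have hPpg : IsPGroup p P := P.isPGroup'
    haveI : Nontrivial P := by
      rw [← Finite.one_lt_card_iff_nontrivial, hPcard]
      exact Nat.one_lt_pow (by omega) hp.one_lt
    haveI := hPpg.center_nontrivial
    obtain ⟨z, hz1⟩ := exists_ne (1 : Subgroup.center P)
    obtain ⟨c, hc⟩ := Cfsg.Agent.Helper20.schur_scalar σ (ρ (z : P)) (by
      intro x
      have hzx : (z : P) * x = x * (z : P) := (Subgroup.mem_center_iff.mp z.2 x).symm
      have : ρ ((z : P) : G) * ρ (x : G) = ρ (x : G) * ρ ((z : P) : G) := by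
        rw [← map_mul, ← map_mul]
        congr 1
        exact_mod_cast congrArg (Subtype.val) hzx
      exact this)
    have := hscal ((z : P) : G) c (by rw [hc]; rfl)
    apply hz1
    ext
    exact_mod_cast this
  · push Not at hcase
    -- all constituents are linear
    have hlin : ∀ ψ : IrrCharacter P, classInner θ (ψ : P → ℂ) ≠ 0 → irrDeg ψ = 1 := by
      intro ψ hne
      have hle := irrDeg_le_of_constituent hθ ψ hne p hθ1
      have hdvd : irrDeg ψ ∣ p ^ (Nat.card G).factorization p := by
        rw [← hPcard]; exact irrDeg_dvd_card ψ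
      obtain ⟨j, _, hj⟩ := (Nat.dvd_prime_pow hp).mp hdvd
      rcases Nat.eq_zero_or_pos j with h0 | h0
      · rw [hj, h0, pow_zero]
      · exfalso
        have : p ≤ irrDeg ψ := by
          rw [hj]
          calc p = p ^ 1 := (pow_one p).symm
            _ ≤ p ^ j := Nat.pow_le_pow_right hp.pos h0
        exact hcase ψ hne (le_antisymm hle this)
    have hab : ∀ y ∈ P, ∀ z ∈ P, y * z = z * y := by
      intro y hy z hz
      have key : θ (⟨y, hy⟩ * ⟨z, hz⟩ * (⟨y, hy⟩)⁻¹ * (⟨z, hz⟩)⁻¹) = θ 1 := by
        rw [IsCharacter.eq_sum_classInner hθ]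
        simp only [Finset.sum_apply, Pi.smul_apply, smul_eq_mul]
        refine Finset.sum_congr rfl ?_
        intro ψ _
        by_cases hne : classInner θ (ψ : P → ℂ) = 0
        · rw [hne, zero_mul, zero_mul]
        · congr 1
          have h1 : (ψ : P → ℂ) 1 = 1 := by
            rw [irrDeg_spec, hlin ψ hne]; simp
          have hch := IsIrrCharacter.isCharacter ψ.2
          rw [← linUnits_apply hch h1, ← linUnits_apply hch h1]
          congr 1
          simp only [map_mul, map_inv, map_one]
          rw [mul_comm (linUnits hch h1 ⟨y, hy⟩), mul_assoc, mul_assoc]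
          simp
      have h2 : χ.1 (y * z * y⁻¹ * z⁻¹) = χ.1 1 := by
        simpa [hθdef] using key
      have h3 := hfaith _ h2
      calc y * z = (y * z * y⁻¹ * z⁻¹) * (z * y) := by group
        _ = z * y := by rw [h3, one_mul]
    have hvan : ∀ g : G, g ∈ (P : Subgroup G) → g ≠ 1 → χ.1 g = 0 := by
      intro g hg hg1
      exact claimA g hg (fun y hy => hab y hy g hg) hg1
    obtain ⟨k, hk⟩ := card_dvd_apply_one_of_vanish (P : Subgroup G) χ.1
      (IsIrrCharacter.isCharacter χ.2) hvan
    rw [hdeg] at hk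
    have hk' : p = Nat.card (P : Subgroup G) * k := by exact_mod_cast hk
    have h1 : p ^ 2 ∣ p := hp2P.trans ⟨k, hk'⟩
    have h2 : p ^ 2 ≤ p := Nat.le_of_dvd hp.pos h1
    have h3 : 2 ≤ p := hp.two_le
    nlinarith

end Cfsg.Agent.S3968
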