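import Cfsg.Statements.S3970
-- import your own Cfsg.Agent.* helpers here
import Cfsg.Agent.Helper11.RankBound

set_option autoImplicit false
open Cfsg

namespace Cfsg.Agent.S3970

universe u

theorem sq_sub_one (p : ℕ) (hp : 1 ≤ p) : p ^ 2 - 1 = (p - 1) * (p + 1) := by
  obtain ⟨k, rfl⟩ : ∃ k, p = k + 1 := ⟨p - 1, by omega⟩
  have : (k + 1) ^ 2 = k * (k + 1 + 1) + 1 := by ring
  rw [this, Nat.add_sub_cancel, Nat.add_sub_cancel]

/-- A group of order `p ^ a` with `a ≤ 1` has rank at most 1. -/
theorem rank_le_one_of_card {P : Type*} [Group P] [Finite P] (p : ℕ) (hp : p.Prime)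
    (hP : Nat.card P = 1 ∨ Nat.card P = p) : Group.rank P ≤ 1 := by
  have hcyc : IsCyclic P := by
    rcases hP with h | h
    · have : Subsingleton P := (Nat.card_eq_one_iff_unique.1 h).1
      infer_instance
    · have : Fact p.Prime := ⟨hp⟩
      exact isCyclic_of_prime_card h
  obtain ⟨g, hg⟩ := hcyc.exists_generator
  have hcl : Subgroup.closure ((({g} : Finset P) : Set P)) = ⊤ := by
    rw [Finset.coe_singleton, ← Subgroup.zpowers_eq_closure]
    exact (Subgroup.eq_top_iff' _).2 hg
  have := Group.rank_le hcl
  simpa using this

theorem aux (n : ℕ) : ∀ (G : Type u) [Group G] [Finite G], Nat.card G = n →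
    (∀ p : ℕ, p.Prime → p ∣ Nat.card G → (∃ q : ℕ, q.Prime ∧ q ∣ Nat.card G ∧ p < q) →
      ∀ P : Sylow p G, IsMulCommutative (P : Subgroup G) ∧ Group.rank (P : Subgroup G) ≤ 2) →
    ¬ 12 ∣ Nat.card G → Group.IsSolvable G := by
  induction n using Nat.strong_induction_on with
  | _ n ih =>
    intro G _ _ hn h h12
    by_cases h1 : Nat.card G = 1
    · have : Subsingleton G := (Nat.card_eq_one_iff_unique.1 h1).1
      infer_instance
    set p := (Nat.card G).minFac with hpdef
    have hp : p.Prime := Nat.minFac_prime h1
    have hpG : p ∣ Nat.card G := Nat.minFac_dvd _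
    have : Fact p.Prime := ⟨hp⟩
    have hmin : ∀ q : ℕ, q.Prime → q ∣ Nat.card G → p ≤ q := fun q hq hqG =>
      Nat.minFac_le_of_dvd hq.two_le hqG
    by_cases hbig : ∃ q : ℕ, q.Prime ∧ q ∣ Nat.card G ∧ p < q
    · obtain ⟨P⟩ : Nonempty (Sylow p G) := inferInstance
      obtain ⟨hab, hrank⟩ := h p hp hpG hbig P
      have hNPC : Cfsg.HasNormalPComplement p G := by
        apply Cfsg.Agent.Helper11.hasNormalPComplement_of_rank p P hab
        intro q hq hqG i hi1 hi2 hqi
        have hpq := hmin q hq hqG
        have hi : i = 1 ∨ i = 2 := by omega
        have hq1 : ¬ q ∣ p - 1 := by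
          intro hd
          have : q ≤ p - 1 := Nat.le_of_dvd (by have := hp.two_le; omega) hd
          have := hp.two_le
          omega
        rcases hi with rfl | rfl
        · rw [pow_one] at hqi
          exact hq1 hqi
        · have hfac : p ^ 2 - 1 = (p - 1) * (p + 1) := sq_sub_one p hp.one_lt.le
          rw [hfac] at hqi
          rcases (Nat.Prime.dvd_mul hq).1 hqi with hd | hd
          · exact hq1 hd
          · have hle : q ≤ p + 1 := Nat.le_of_dvd (by omega) hd
            have hqp : q ≠ p := by
              intro hqe
              rw [hqe] at hd
              have : p ∣ 1 := (Nat.dvd_add_right (dvd_refl p)).1 hd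
              exact hp.one_lt.ne' (Nat.dvd_one.1 this)
            have hq' : q = p + 1 := by omega
            have hp2 : p = 2 := by
              rcases hp.eq_two_or_odd with h2 | hodd
              · exact h2
              · exfalso
                have : q % 2 = 0 := by omega
                have h2q : 2 ∣ q := Nat.dvd_of_mod_eq_zero this
                have := (Nat.prime_dvd_prime_iff_eq Nat.prime_two hq).1 h2q
                have := hp.two_le
                omega
            have hq3 : q = 3 := by omega
            -- rank 2 forces |P| ≥ 4
            have hcardP : ¬ (Nat.card ↥(P : Subgroup G) = 1 ∨ Nat.card ↥(P : Subgroup G) = p) := by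
              intro hc
              have := rank_le_one_of_card p hp hc
              omega
            obtain ⟨a, ha⟩ := IsPGroup.iff_card.1 P.isPGroup'
            have ha2 : 2 ≤ a := by
              by_contra hlt
              push Not at hlt
              apply hcardP
              interval_cases a
              · left
                rw [ha, pow_zero]
              · right
                rw [ha, pow_one]
            have h4 : 4 ∣ Nat.card G := by
              have h5 : p ^ 2 ∣ Nat.card ↥(P : Subgroup G) := ha ▸ pow_dvd_pow p ha2
              have h7 : 4 ∣ p ^ 2 := by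
                rw [hp2]
                norm_num
              exact (h7.trans h5).trans (Subgroup.card_subgroup_dvd_card _)
            have h3 : 3 ∣ Nat.card G := hq3 ▸ hqG
            apply h12
            exact Nat.Coprime.mul_dvd_of_dvd_of_dvd (by norm_num : Nat.Coprime 4 3) h4 h3
      obtain ⟨P', N, hNn, hNc⟩ := hNPC
      have hcardNP := hNc.card_mul_card
      obtain ⟨a, ha⟩ := IsPGroup.iff_card.1 P'.isPGroup'
      have hP'1 : 1 < Nat.card ↥(P' : Subgroup G) := by
        have := P'.card_eq_multiplicity
        rw [this]
        apply Nat.one_lt_pow _ hp.one_lt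
        have : 0 < (Nat.card G).factorization p :=
          hp.factorization_pos_of_dvd Nat.card_pos.ne' hpG
        omega
      have hNpos : 0 < Nat.card ↥N := Nat.card_pos
      have hNlt : Nat.card ↥N < n := by
        rw [← hn, ← hcardNP]
        nlinarith
      have hNdvd : Nat.card ↥N ∣ Nat.card G := Subgroup.card_subgroup_dvd_card N
      have hNcop : ¬ p ∣ Nat.card ↥N := by
        intro hd
        have h6 := P'.card_eq_multiplicity
        have h7 : p ^ ((Nat.card G).factorization p + 1) ∣ Nat.card G := by
          have h8 : Nat.card G = Nat.card ↥N * p ^ (Nat.card G).factorization p := by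
            rw [← h6]
            exact hcardNP.symm
          rw [pow_succ]
          calc p ^ (Nat.card G).factorization p * p
              ∣ p ^ (Nat.card G).factorization p * Nat.card ↥N := Nat.mul_dvd_mul_left _ hd
            _ = Nat.card G := by rw [mul_comm]; exact h8.symm
        exact Nat.pow_succ_factorization_not_dvd Nat.card_pos.ne' hp h7
      have hNsolv : Group.IsSolvable ↥N := by
        apply ih (Nat.card ↥N) hNlt ↥N rfl
        · intro r hr hrN hbig' R
          have : Fact r.Prime := ⟨hr⟩
          have hrp : r ≠ p := by
            rintro rfl
            exact hNcop hrN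
          have hfac : (Nat.card G).factorization r = (Nat.card ↥N).factorization r := by
            rw [← hcardNP, ha, Nat.factorization_mul Nat.card_pos.ne' (pow_ne_zero a hp.ne_zero),
              Nat.factorization_pow]
            simp [Nat.Prime.factorization, hrp, hp]
          have hcardR' : Nat.card ↥((R : Subgroup ↥N).map N.subtype) =
              r ^ (Nat.card G).factorization r := by
            rw [Subgroup.card_map_of_injective N.subtype_injective, hfac]
            exact R.card_eq_multiplicity
          obtain ⟨q, hq, hqN, hrq⟩ := hbig'
          have hR' := h r hr (hrN.trans hNdvd) ⟨q, hq, hqN.trans hNdvd, hrq⟩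
            (Sylow.ofCard _ hcardR')
          have e : ↥(R : Subgroup ↥N) ≃* ↥((Sylow.ofCard _ hcardR' : Sylow r G) : Subgroup G) :=
            (R : Subgroup ↥N).equivMapOfInjective N.subtype N.subtype_injective
          refine ⟨?_, ?_⟩
          · constructor
            constructor
            intro x y
            apply e.injective
            rw [map_mul, map_mul]
            exact hR'.1.is_comm.comm _ _
          · rw [Group.rank_congr e]
            exact hR'.2
        · intro h12'
          exact h12 (h12'.trans hNdvd)
      have hQ : Group.IsSolvable (G ⧸ N) := by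
        have hQp : IsPGroup p (G ⧸ N) := by
          apply IsPGroup.of_card (n := a)
          have h8 := N.card_mul_index
          rw [← hcardNP] at h8
          have h9 : N.index = Nat.card ↥(P' : Subgroup G) := Nat.eq_of_mul_eq_mul_left hNpos h8
          rw [← Subgroup.index_eq_card, h9, ha]
        have := hQp.isNilpotent
        infer_instance
      exact Group.isSolvable_of_ker_le_range N.subtype (QuotientGroup.mk' N)
        (by rw [QuotientGroup.ker_mk', Subgroup.range_subtype])
    · -- `G` is a `p`-group
      have hpg : IsPGroup p G := by
        obtain ⟨P⟩ : Nonempty (Sylow p G) := inferInstance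
        have h2 : (P : Subgroup G).index = 1 := by
          by_contra hne
          apply hbig
          set q := ((P : Subgroup G).index).minFac with hq
          have hqp : q.Prime := Nat.minFac_prime hne
          have hqd : q ∣ (P : Subgroup G).index := Nat.minFac_dvd _
          have hqG : q ∣ Nat.card G := hqd.trans (Subgroup.index_dvd_card _)
          refine ⟨q, hqp, hqG, ?_⟩
          have hpq := hmin q hqp hqG
          have hne' : q ≠ p := by
            intro hqe
            rw [hqe] at hqd
            exact P.not_dvd_index hqd
          omega
        have h3 : (P : Subgroup G) = ⊤ := Subgroup.index_eq_one.1 h2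
        have := P.isPGroup'
        rw [h3] at this
        exact IsPGroup.of_equiv this Subgroup.topEquiv
      have := hpg.isNilpotent
      infer_instance

/-- Let `G` be a finite group such that for every prime `p` dividing its order, other than the largest such prime, the Sylow `p`-subgroups are abelian and generated by at most two elements, and suppose `12` does not divide the order of `G`. Then `G` is solvable. In particular a group of cube-free order not divisible by `12` is solvable. -/
theorem result {G : Type*} [Group G] [Finite G] (h : ∀ p : ℕ, p.Prime → p ∣ Nat.card G → (∃ q : ℕ, q.Prime ∧ q ∣ Nat.card G ∧ p < q) → ∀ P : Sylow p G, IsMulCommutative (P : Subgroup G) ∧ Group.rank (P : Subgroup G) ≤ 2) (h12 : ¬ 12 ∣ Nat.card G) : Group.IsSolvable G := by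
  exact aux (Nat.card G) G rfl h h12

end Cfsg.Agent.S3970
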