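import Cfsg.Statements.S3971
-- import your own Cfsg.Agent.* helpers here
import Cfsg.Agent.Helper11.RankTwo
import Cfsg.Agent.Helper11.NoSimple
import Cfsg.Agent.S0071

set_option autoImplicit false
open Cfsg

namespace Cfsg.Agent.S3971

/-- Let `G` be a finite group of order `2 ^ a * n` with `n` odd and not divisible by `3`, and suppose `G` has an element of order `2 ^ (a - 1)` (so a Sylow `2`-subgroup has a cyclic subgroup of index at most `2`). Then `G` has a normal subgroup of order `n`. -/
theorem result {G : Type*} [Group G] [Finite G] (a n : ℕ) (hG : Nat.card G = 2 ^ a * n) (hn : Odd n) (h3 : ¬ 3 ∣ n) (hx : ∃ x : G, orderOf x = 2 ^ (a - 1)) : ∃ N : Subgroup G, N.Normal ∧ Nat.card N = n := by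
  have : Fact (Nat.Prime 2) := ⟨Nat.prime_two⟩
  obtain ⟨x, hx⟩ := hx
  have hn2 : ¬ 2 ∣ n := by
    rw [← Nat.not_even_iff_odd] at hn
    intro h
    exact hn (even_iff_two_dvd.2 h)
  have hG' : Nat.card G = n * 2 ^ a := by rw [hG, mul_comm]
  -- a Sylow 2-subgroup containing `x`
  have hxp : IsPGroup 2 ↥(Subgroup.zpowers x) := by
    apply IsPGroup.of_card (n := a - 1)
    rw [Nat.card_zpowers, hx]
  obtain ⟨P, hxP⟩ := hxp.exists_le_sylow
  have hPcard := (Cfsg.Agent.Helper11.sylow_card_of_card_eq_pow n a hG' hn2 P).1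
  -- the cyclic subgroup has relative index at most 2
  have hrel : (Subgroup.zpowers x).relIndex (P : Subgroup G) ≤ 2 := by
    have h1 := Cfsg.Agent.Helper11.relIndex_mul_card hxP
    rw [Nat.card_zpowers, hx, hPcard] at h1
    rcases Nat.eq_zero_or_pos a with h0 | h0
    · subst h0
      have h2 : (Subgroup.zpowers x).relIndex (P : Subgroup G) = 1 := by
        simpa using h1
      omega
    · have h2 : 2 ^ a = 2 * 2 ^ (a - 1) := by
        rw [← pow_succ']
        congr 1
        omega
      rw [h2] at h1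
      have h3 : 0 < 2 ^ (a - 1) := pow_pos (by norm_num) _
      have := Nat.eq_of_mul_eq_mul_right h3 h1
      omega
  -- Frobenius criterion
  have hfrob : ∃ N : Subgroup G, N.Normal ∧ N.IsComplement' (P : Subgroup G) := by
    rw [Cfsg.Agent.S0071.result P]
    intro Q hQP g hg hgcop
    have hQ2 : IsPGroup 2 ↥Q := P.isPGroup'.to_le hQP
    have hrank : Group.rank ↥Q ≤ 2 :=
      Cfsg.Agent.Helper11.rank_le_two_of_le (P : Subgroup G) (Subgroup.zpowers x) Q
        inferInstance hrel hQP
    have hpow : (Q.normalizerMonoidHom ⟨g, hg⟩) ^ orderOf g = 1 := by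
      rw [← map_pow]
      have : (⟨g, hg⟩ : ↥(Subgroup.normalizer (Q : Set G))) ^ orderOf g = 1 := by
        apply Subtype.ext
        rw [Subgroup.coe_pow]
        exact pow_orderOf_eq_one g
      rw [this, map_one]
    have hcop3 : Nat.Coprime (orderOf g) 3 := by
      rw [Nat.coprime_comm, Nat.Prime.coprime_iff_not_dvd Nat.prime_three]
      intro h3g
      have h4 : 3 ∣ Nat.card G := h3g.trans (orderOf_dvd_natCard g)
      rw [hG] at h4
      have h5 : Nat.Coprime 3 (2 ^ a) := Nat.Coprime.pow_right a (by norm_num)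
      exact h3 (h5.dvd_of_dvd_mul_left h4)
    have hα := Cfsg.Agent.Helper11.no_aut_of_rank_le_two ↥Q hQ2 hrank
      (Q.normalizerMonoidHom ⟨g, hg⟩) (orderOf g) hpow hgcop hcop3
    have hker : (⟨g, hg⟩ : ↥(Subgroup.normalizer (Q : Set G))) ∈ Q.normalizerMonoidHom.ker :=
      MonoidHom.mem_ker.2 hα
    rw [Subgroup.normalizerMonoidHom_ker, Subgroup.mem_subgroupOf] at hker
    exact hker
  obtain ⟨N, hNn, hNc⟩ := hfrob
  refine ⟨N, hNn, ?_⟩
  have h1 := hNc.card_mul_card
  rw [hPcard, hG'] at h1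
  exact Nat.eq_of_mul_eq_mul_right (pow_pos (by norm_num) a) h1

end Cfsg.Agent.S3971
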