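import Cfsg.Statements.S3976
import Cfsg.Agent.Helper20.WielandtC

set_option autoImplicit false
open Cfsg

namespace Cfsg.Agent.S3976

open scoped Pointwise

lemma mem_conj_smul {G : Type*} [Group G] (g x : G) (H : Subgroup G) :
    x ∈ MulAut.conj g • H ↔ g⁻¹ * x * g ∈ H := by
  rw [Subgroup.mem_smul_pointwise_iff_exists]
  constructor
  · rintro ⟨s, hs, rfl⟩
    simpa [MulAut.smul_def, mul_assoc] using hs
  · intro h
    exact ⟨_, h, by simp [MulAut.smul_def, mul_assoc]⟩

/-- conjugation action on the subgroups of a fixed order -/
noncomputable instance conjActionSubgroupsOfCard {G : Type*} [Group G] (k : ℕ) :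
    MulAction G {H : Subgroup G // Nat.card H = k} where
  smul g H := ⟨MulAut.conj g • H.1,
    (Nat.card_congr (Subgroup.equivSMul (MulAut.conj g) H.1).toEquiv.symm).trans H.2⟩
  one_smul H := by
    apply Subtype.ext
    show MulAut.conj (1 : G) • H.1 = H.1
    rw [map_one, one_smul]
  mul_smul g h H := by
    apply Subtype.ext
    show MulAut.conj (g * h) • H.1 = MulAut.conj g • (MulAut.conj h • H.1)
    rw [map_mul, mul_smul]

lemma smul_val {G : Type*} [Group G] (k : ℕ) (g : G) (H : {H : Subgroup G // Nat.card H = k}) :
    (g • H).1 = MulAut.conj g • H.1 := rfl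

/-- Let `p` be a prime and `G` a group of order `p ^ m`. For every `s ≤ m` the number of normal subgroups of `G` of order `p ^ s` is congruent to `1` modulo `p`. -/
theorem result {G : Type*} [Group G] [Finite G] (p m s : ℕ) (hp : p.Prime) (hG : Nat.card G = p ^ m) (hs : s ≤ m) : Nat.card {H : Subgroup G // H.Normal ∧ Nat.card H = p ^ s} ≡ 1 [MOD p] := by
  haveI := Fact.mk hp
  have hpG : IsPGroup p G := IsPGroup.of_card hG
  have hdiv : p ^ s ∣ Nat.card G := by rw [hG]; exact pow_dvd_pow p hs
  have h1 := Cfsg.Agent.Helper20.card_subgroups_prime_pow_modEq_one p s hp hdiv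
  have h2 := hpG.card_modEq_card_fixedPoints {H : Subgroup G // Nat.card H = p ^ s}
  have e : (MulAction.fixedPoints G {H : Subgroup G // Nat.card H = p ^ s}) ≃
      {H : Subgroup G // H.Normal ∧ Nat.card H = p ^ s} :=
    { toFun := fun x => ⟨x.1.1, ⟨by
        constructor
        intro n hn g
        have hx := x.2 g
        have : (g • x.1).1 = x.1.1 := congrArg Subtype.val hx
        rw [smul_val] at this
        rw [← this, mem_conj_smul]
        have e : g⁻¹ * (g * n * g⁻¹) * g = n := by group
        rw [e]; exact hn, x.1.2⟩⟩
      invFun := fun y => ⟨⟨y.1, y.2.2⟩, by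
        intro g
        apply Subtype.ext
        rw [smul_val]
        ext z
        rw [mem_conj_smul]
        constructor
        · intro hz
          have := y.2.1.conj_mem _ hz g
          have e : g * (g⁻¹ * z * g) * g⁻¹ = z := by group
          rwa [e] at this
        · intro hz
          have := y.2.1.conj_mem _ hz g⁻¹
          simpa using this⟩
      left_inv := fun x => rfl
      right_inv := fun y => rfl }
  rw [← Nat.card_congr e]
  exact h2.symm.trans h1

end Cfsg.Agent.S3976
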