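import Cfsg.Statements.S3981
import Cfsg.Agent.Helper11.SylowInter

set_option autoImplicit false
open Cfsg

namespace Cfsg.Agent.S3981

/-- An involution normalizing a nontrivial finite `p`-subgroup `S` centralizes or inverts an element
of order `p` of `S`. -/
theorem exists_fixed_or_inverted {T : Type*} [Group T] {p : ℕ} [Fact p.Prime] (S : Subgroup T)
    [Finite S] (hS : IsPGroup p S) (hS1 : S ≠ ⊥) (t : T) (ht : t * t = 1)
    (hn : ∀ s ∈ S, t * s * t⁻¹ ∈ S) :
    ∃ s ∈ S, s ≠ 1 ∧ s ^ p = 1 ∧ (t * s * t⁻¹ = s ∨ t * s * t⁻¹ = s⁻¹) := by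
  have hp : p.Prime := Fact.out
  have htinv : t⁻¹ = t := inv_eq_of_mul_eq_one_right ht
  haveI : Nontrivial S := (Subgroup.nontrivial_iff_ne_bot S).2 hS1
  haveI := hS.center_nontrivial
  obtain ⟨z₀, hz₀⟩ := exists_ne (1 : Subgroup.center S)
  have hz₀' : (z₀ : S) ≠ 1 := fun h => hz₀ (Subtype.ext h)
  -- an element of order p in the centre
  have ho : orderOf (z₀ : S) ≠ 1 := by rwa [Ne, orderOf_eq_one_iff]
  obtain ⟨k, hk⟩ := hS (z₀ : S)
  have hdvd : p ∣ orderOf (z₀ : S) := by
    have h1 : orderOf (z₀ : S) ∣ p ^ k := orderOf_dvd_of_pow_eq_one hk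
    obtain ⟨j, _, hj⟩ := (Nat.dvd_prime_pow hp).1 h1
    rw [hj] at ho ⊢
    have : j ≠ 0 := by rintro rfl; exact ho (pow_zero p)
    exact dvd_pow_self p this
  set zc : S := (z₀ : S) ^ (orderOf (z₀ : S) / p) with hzc
  have hozc : orderOf zc = p := orderOf_pow_orderOf_div (orderOf_pos_iff.2 (isOfFinOrder_of_finite _)).ne' hdvd
  have hzcen : ∀ s : S, zc * s = s * zc := by
    intro s
    have h1 : zc ∈ Subgroup.center S := Subgroup.pow_mem _ z₀.2 _
    exact (Subgroup.mem_center_iff.1 h1 s).symm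
  set z : T := (zc : T) with hz
  have hzS : z ∈ S := zc.2
  have hzp : z ^ p = 1 := by
    have : zc ^ p = 1 := by rw [← hozc]; exact pow_orderOf_eq_one zc
    have := congrArg Subtype.val this
    simpa using this
  have hz1 : z ≠ 1 := by
    intro h
    have : zc = 1 := Subtype.ext h
    rw [this, orderOf_one] at hozc
    exact hp.one_lt.ne hozc
  have hzcomm : ∀ s ∈ S, z * s = s * z := by
    intro s hs
    have := hzcen ⟨s, hs⟩
    exact congrArg Subtype.val this
  set z' : T := t * z * t⁻¹ with hz'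
  have hz'S : z' ∈ S := hn z hzS
  have hz'comm : ∀ s ∈ S, z' * s = s * z' := by
    intro s hs
    have hs' : t⁻¹ * s * t ∈ S := by
      have := hn s hs
      rw [htinv] at this ⊢
      exact this
    have h1 := hzcomm _ hs'
    calc z' * s = t * (z * (t⁻¹ * s * t)) * t⁻¹ := by rw [hz']; group
      _ = t * ((t⁻¹ * s * t) * z) * t⁻¹ := by rw [h1]
      _ = s * z' := by rw [hz']; group
  by_cases heq : z' = z
  · exact ⟨z, hzS, hz1, hzp, Or.inl heq⟩
  · refine ⟨z * z'⁻¹, S.mul_mem hzS (S.inv_mem hz'S), ?_, ?_, Or.inr ?_⟩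
    · intro h
      apply heq
      have := mul_inv_eq_one.1 h
      exact this.symm
    · have hc : Commute z z'⁻¹ := by
        have := hzcomm _ (S.inv_mem hz'S)
        exact this
      rw [hc.mul_pow, hzp, one_mul, inv_pow]
      have : z' ^ p = 1 := by
        rw [hz', conj_pow, hzp]; group
      rw [this, inv_one]
    · have h1 : t * z' * t⁻¹ = z := by
        rw [hz', htinv]
        calc t * (t * z * t) * t = (t * t) * z * (t * t) := by group
          _ = z := by rw [ht]; group
      calc t * (z * z'⁻¹) * t⁻¹ = (t * z * t⁻¹) * (t * z' * t⁻¹)⁻¹ := by group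
        _ = z' * z⁻¹ := by rw [h1]
        _ = (z * z'⁻¹)⁻¹ := by group

theorem result {G : Type*} [Group G] [Finite G] (p : ℕ) [Fact p.Prime] (hp2 : p ≠ 2) (Q : Subgroup G) (hQ : IsPGroup p ↥Q) (y : G) (hy : orderOf y = 2) (hyQ : y ∈ Subgroup.normalizer (Q : Set G)) : (∀ R : Subgroup G, IsPGroup p ↥R → Q ≤ R → y ∈ Subgroup.normalizer (R : Set G) → R = Q) ↔ ∀ x : G, x ∈ Subgroup.normalizer (Q : Set G) → x ∉ Q → x ^ p ∈ Q → (y * x * y⁻¹ * x ∉ Q ∧ y * x * y⁻¹ * x⁻¹ ∉ Q) := by
  have hp : p.Prime := Fact.out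
  have hyy : y * y = 1 := by
    have := pow_orderOf_eq_one y
    rwa [hy, pow_two] at this
  have hyinv : y⁻¹ = y := inv_eq_of_mul_eq_one_right hyy
  constructor
  · intro hmax x hxN hxQ hxp
    -- R = Q ⊔ ⟨x⟩
    have hzp : IsPGroup p (Subgroup.zpowers x) := by
      obtain ⟨k, hk⟩ := hQ ⟨x ^ p, hxp⟩
      have hk' : (x ^ p) ^ (p ^ k) = 1 := by
        have := congrArg Subtype.val hk
        simpa using this
      rw [IsPGroup.iff_card, Nat.card_zpowers]
      have h1 : orderOf x ∣ p ^ (k + 1) := by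
        apply orderOf_dvd_of_pow_eq_one
        rw [pow_succ', pow_mul]; exact hk'
      obtain ⟨j, _, hj⟩ := (Nat.dvd_prime_pow hp).1 h1
      exact ⟨j, hj⟩
    have hzN : Subgroup.zpowers x ≤ Subgroup.normalizer (Q : Set G) := by
      rw [Subgroup.zpowers_le]; exact hxN
    have hRp : IsPGroup p (Q ⊔ Subgroup.zpowers x : Subgroup G) :=
      IsPGroup.to_sup_of_normal_left' hQ hzp hzN
    have hnorm : ∀ (c : G), (c ∈ Q ∨ c ∈ Q) → True := fun _ _ => trivial
    have key : ∀ (hc : y * x * y⁻¹ ∈ Q ⊔ Subgroup.zpowers x),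
        y ∈ Subgroup.normalizer ((Q ⊔ Subgroup.zpowers x : Subgroup G) : Set G) := by
      intro hc
      have hle : Q ⊔ Subgroup.zpowers x ≤
          (Q ⊔ Subgroup.zpowers x).comap (MulAut.conj y).toMonoidHom := by
        rw [sup_le_iff]
        constructor
        · intro q hq
          rw [Subgroup.mem_comap]
          simp only [MulEquiv.toMonoidHom_eq_coe, MonoidHom.coe_coe, MulAut.conj_apply]
          exact Subgroup.mem_sup_left ((Subgroup.mem_normalizer_iff.1 hyQ q).1 hq)
        · rw [Subgroup.zpowers_le, Subgroup.mem_comap]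
          simp only [MulEquiv.toMonoidHom_eq_coe, MonoidHom.coe_coe, MulAut.conj_apply]
          exact hc
      rw [Subgroup.mem_normalizer_iff]
      intro r
      constructor
      · intro hr
        have := hle hr
        rw [Subgroup.mem_comap] at this
        simpa using this
      · intro hr
        have := hle hr
        rw [Subgroup.mem_comap] at this
        simp only [MulEquiv.toMonoidHom_eq_coe, MonoidHom.coe_coe, MulAut.conj_apply] at this
        rw [hyinv] at this
        have e : y * (y * r * y) * y = r := by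
          calc y * (y * r * y) * y = (y * y) * r * (y * y) := by group
            _ = r := by rw [hyy]; group
        rw [e] at this
        exact this
    have hxR : x ∈ Q ⊔ Subgroup.zpowers x := Subgroup.mem_sup_right (Subgroup.mem_zpowers x)
    constructor
    · intro h1
      have hc : y * x * y⁻¹ ∈ Q ⊔ Subgroup.zpowers x := by
        have : y * x * y⁻¹ = (y * x * y⁻¹ * x) * x⁻¹ := by group
        rw [this]
        exact Subgroup.mul_mem _ (Subgroup.mem_sup_left h1) (Subgroup.inv_mem _ hxR)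
      have := hmax _ hRp le_sup_left (key hc)
      rw [this] at hxR
      exact hxQ hxR
    · intro h1
      have hc : y * x * y⁻¹ ∈ Q ⊔ Subgroup.zpowers x := by
        have : y * x * y⁻¹ = (y * x * y⁻¹ * x⁻¹) * x := by group
        rw [this]
        exact Subgroup.mul_mem _ (Subgroup.mem_sup_left h1) hxR
      have := hmax _ hRp le_sup_left (key hc)
      rw [this] at hxR
      exact hxQ hxR
  · intro hcond R hRp hQR hyR
    by_contra hne
    have hlt : Q < R := lt_of_le_of_ne hQR (Ne.symm hne)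
    have hK := Helper11.lt_inf_normalizer R Q hRp hlt
    set Nq := Subgroup.normalizer (Q : Set G) with hNq
    set K := R ⊓ Nq with hKdef
    -- quotient
    let Q' : Subgroup Nq := Q.subgroupOf Nq
    haveI : Q'.Normal := Subgroup.normal_in_normalizer
    let π := QuotientGroup.mk' Q'
    let y' : Nq := ⟨y, hyQ⟩
    let S : Subgroup (Nq ⧸ Q') := (K.subgroupOf Nq).map π
    have hSp : IsPGroup p S := by
      have h1 : IsPGroup p (K.subgroupOf Nq) := (hRp.to_le inf_le_left).comap_subtype
      exact h1.map π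
    have hS1 : S ≠ ⊥ := by
      intro h
      obtain ⟨x, hxK, hxQ⟩ := SetLike.exists_of_lt hK
      have hxN : x ∈ Nq := hxK.2
      have : π ⟨x, hxN⟩ ∈ S := ⟨⟨x, hxN⟩, hxK, rfl⟩
      rw [h, Subgroup.mem_bot, QuotientGroup.mk'_apply, QuotientGroup.eq_one_iff] at this
      exact hxQ this
    have ht : π y' * π y' = 1 := by
      rw [← map_mul]
      have : y' * y' = 1 := Subtype.ext hyy
      rw [this, map_one]
    have hn : ∀ s ∈ S, π y' * s * (π y')⁻¹ ∈ S := by
      rintro _ ⟨k, hk, rfl⟩
      refine ⟨y' * k * y'⁻¹, ?_, by simp⟩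
      have hk' : (k : G) ∈ K := hk
      show ((y' * k * y'⁻¹ : Nq) : G) ∈ K
      refine ⟨?_, (y' * k * y'⁻¹ : Nq).2⟩
      exact (Subgroup.mem_normalizer_iff.1 hyR _).1 hk'.1
    obtain ⟨s, hsS, hs1, hsp, hs⟩ := exists_fixed_or_inverted S hSp hS1 (π y') ht hn
    obtain ⟨x', hx'K, rfl⟩ := hsS
    have hxN : (x' : G) ∈ Nq := x'.2
    have hxQ : (x' : G) ∉ Q := by
      intro h
      apply hs1
      rw [QuotientGroup.mk'_apply, QuotientGroup.eq_one_iff]
      exact h
    have hxp : (x' : G) ^ p ∈ Q := by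
      rw [← map_pow, QuotientGroup.mk'_apply, QuotientGroup.eq_one_iff] at hsp
      exact hsp
    obtain ⟨h1, h2⟩ := hcond (x' : G) hxN hxQ hxp
    rcases hs with hs | hs
    · apply h2
      have : π (y' * x' * y'⁻¹ * x'⁻¹) = 1 := by
        rw [map_mul, map_mul, map_mul, map_inv, map_inv, hs]; group
      rw [QuotientGroup.mk'_apply, QuotientGroup.eq_one_iff] at this
      exact this
    · apply h1
      have : π (y' * x' * y'⁻¹ * x') = 1 := by
        rw [map_mul, map_mul, map_mul, map_inv, hs]; group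
      rw [QuotientGroup.mk'_apply, QuotientGroup.eq_one_iff] at this
      exact this

end Cfsg.Agent.S3981
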