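import Cfsg.Statements.S3982
import Cfsg.Agent.Lead.CoprimeSylow2
import Cfsg.Agent.Helper20.Sylow

set_option autoImplicit false
open Cfsg

namespace Cfsg.Agent.S3982

theorem result {G : Type*} [Group G] [Finite G] (p : ℕ) [Fact p.Prime] (hp2 : p ≠ 2) (hpG : p ∣ Nat.card G) (h2G : 2 ∣ Nat.card G) (hC : ∀ g : G, g ≠ 1 → (∃ k : ℕ, orderOf g = p ^ k) → Odd (Nat.card ↥(Subgroup.centralizer ({g} : Set G)))) (Q : Subgroup G) (hQ : IsPGroup p ↥Q) (hQ1 : Q ≠ ⊥) (hev : Even (Nat.card ↥(Subgroup.normalizer (Q : Set G)))) (P : Sylow p G) : Even (Nat.card ↥(Subgroup.normalizer ((P : Subgroup G) : Set G))) := by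
  have hp : p.Prime := Fact.out
  haveI : Fact (Nat.Prime 2) := ⟨Nat.prime_two⟩
  obtain ⟨y', hy'⟩ := exists_prime_orderOf_dvd_card' (G := ↥(Subgroup.normalizer (Q : Set G))) 2
    (even_iff_two_dvd.1 hev)
  set y : G := (y' : G) with hydef
  have hy : orderOf y = 2 := by rw [hydef, Subgroup.orderOf_coe]; exact hy'
  have hyy : y * y = 1 := by
    have := pow_orderOf_eq_one y
    rwa [hy, pow_two] at this
  have hyinv : y⁻¹ = y := inv_eq_of_mul_eq_one_right hyy
  -- y centralizes no nontrivial p-element
  have hfree : ∀ q : G, (∃ k : ℕ, orderOf q = p ^ k) → y * q * y⁻¹ = q → q = 1 := by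
    intro q hq hyq
    by_contra hq1
    have hodd := hC q hq1 hq
    have hyC : y ∈ Subgroup.centralizer ({q} : Set G) := by
      rw [Subgroup.mem_centralizer_iff]
      intro w hw
      rw [Set.mem_singleton_iff] at hw
      rw [hw]
      have := congrArg (· * y) hyq
      simpa using this.symm
    have h1 : orderOf (⟨y, hyC⟩ : Subgroup.centralizer ({q} : Set G)) = 2 := by
      rw [← Subgroup.orderOf_coe]; exact hy
    have h2 := orderOf_dvd_natCard (⟨y, hyC⟩ : Subgroup.centralizer ({q} : Set G))
    rw [h1] at h2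
    exact (Nat.not_even_iff_odd.2 hodd) (even_iff_two_dvd.2 h2)
  -- maximal y-invariant p-subgroup
  let 𝓢 : Set (Subgroup G) :=
    {R | IsPGroup p R ∧ Q ≤ R ∧ y ∈ Subgroup.normalizer (R : Set G)}
  obtain ⟨Qs, ⟨hQsp, hQQs, hyN⟩, hmax⟩ := Set.exists_max_image 𝓢 (fun R => Nat.card R)
    (Set.toFinite _) ⟨Q, hQ, le_rfl, y'.2⟩
  have hmax' : ∀ R : Subgroup G, IsPGroup p R → Qs ≤ R → y ∈ Subgroup.normalizer (R : Set G) →
      R = Qs := by
    intro R hR hle hyR
    have := hmax R ⟨hR, hQQs.trans hle, hyR⟩
    exact (Subgroup.eq_of_le_of_card_ge hle this).symm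
  have hQs1 : Qs ≠ ⊥ := by
    intro h
    apply hQ1
    rw [eq_bot_iff, ← h]
    exact hQQs
  -- y inverts Qs
  let φ : ↥Qs →* ↥Qs :=
    { toFun := fun q => ⟨y * q * y⁻¹, (Subgroup.mem_normalizer_iff.1 hyN q).1 q.2⟩
      map_one' := by ext; simp
      map_mul' := by intro a b; ext; simp }
  have hφ : ∀ q : Qs, ((φ q : Qs) : G) = y * q * y⁻¹ := fun q => rfl
  have hfpf : MonoidHom.FixedPointFree φ := by
    intro q hq
    have h1 : y * (q : G) * y⁻¹ = q := by rw [← hφ, hq]
    have := hfree (q : G) (Helper20.orderOf_eq_pow_of_mem_pgroup Qs hQsp q q.2) h1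
    exact Subtype.ext this
  have hinvol : Function.Involutive φ := by
    intro q
    apply Subtype.ext
    rw [hφ, hφ, hyinv]
    calc y * (y * (q : G) * y) * y = (y * y) * q * (y * y) := by group
      _ = q := by rw [hyy]; group
  have hinvert : ∀ q ∈ Qs, y * q * y⁻¹ = q⁻¹ := by
    intro q hq
    have := congrFun (hfpf.coe_eq_inv_of_involutive hinvol) ⟨q, hq⟩
    have h2 := congrArg Subtype.val this
    simpa [hφ] using h2
  have hcomm : ∀ a ∈ Qs, ∀ b ∈ Qs, a * b = b * a := by
    intro a ha b hb
    have := hfpf.commute_all_of_involutive hinvol ⟨a, ha⟩ ⟨b, hb⟩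
    exact congrArg Subtype.val this
  -- A = ⟨y⟩
  set A := Subgroup.zpowers y with hA
  have hAcard : Nat.card A = 2 := by rw [Nat.card_zpowers, hy]
  have hAsolv : Group.IsSolvable A := by
    rw [hA]; infer_instance
  -- step 4
  have step4 : ∀ z ∈ Qs, z ≠ 1 → ∀ R : Subgroup G, IsPGroup p R → Qs ≤ R →
      R ≤ Subgroup.centralizer ({z} : Set G) → R = Qs := by
    intro z hz hz1 R hR hQR hRK
    set K := Subgroup.centralizer ({z} : Set G) with hK
    have hzp := Helper20.orderOf_eq_pow_of_mem_pgroup Qs hQsp z hz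
    have hKodd := hC z hz1 hzp
    have hAK : A ≤ Subgroup.normalizer (K : Set G) := by
      rw [hA, Subgroup.zpowers_le, Subgroup.mem_normalizer_iff]
      have hzinv := hinvert z hz
      have key : ∀ c ∈ K, y * c * y⁻¹ ∈ K := by
        intro c hc
        rw [Subgroup.mem_centralizer_iff] at hc ⊢
        intro w hw
        rw [Set.mem_singleton_iff] at hw
        rw [hw]
        have hcz : z * c = c * z := hc z (Set.mem_singleton _)
        have hz' : y⁻¹ * z * y = z⁻¹ := by
          rw [hyinv] at hzinv ⊢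
          exact hzinv
        have hcz' : z⁻¹ * c = c * z⁻¹ := by
          calc z⁻¹ * c = z⁻¹ * (c * z) * z⁻¹ := by group
            _ = z⁻¹ * (z * c) * z⁻¹ := by rw [hcz]
            _ = c * z⁻¹ := by group
        calc z * (y * c * y⁻¹) = y * ((y⁻¹ * z * y) * c) * y⁻¹ := by group
          _ = y * (z⁻¹ * c) * y⁻¹ := by rw [hz']
          _ = y * (c * z⁻¹) * y⁻¹ := by rw [hcz']
          _ = y * (c * (y⁻¹ * z * y)) * y⁻¹ := by rw [hz']
          _ = y * c * y⁻¹ * z := by group
      intro c
      constructor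
      · exact key c
      · intro hc
        have := key _ hc
        rw [hyinv] at this
        have e : y * (y * c * y) * y = c := by
          calc y * (y * c * y) * y = (y * y) * c * (y * y) := by group
            _ = c := by rw [hyy]; group
        rwa [e] at this
    have hcop : (Nat.card A).Coprime (Nat.card K) := by
      rw [hAcard]
      exact Nat.coprime_two_left.2 hKodd
    have hQK : Qs ≤ K := by
      intro q hq
      rw [Subgroup.mem_centralizer_iff]
      intro w hw
      rw [Set.mem_singleton_iff] at hw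
      rw [hw]
      exact hcomm z hz q hq
    have hAQ : A ≤ Subgroup.normalizer (Qs : Set G) := by
      rw [hA, Subgroup.zpowers_le]; exact hyN
    obtain ⟨P₁, hQP₁, hAP₁⟩ := Lead.coprime_invariant_pgroup_le_sylow A K hAK hcop (Or.inl hAsolv) p
      Qs hQK hQsp hAQ
    have hP₁ : (P₁ : Subgroup K).map K.subtype = Qs :=
      hmax' _ (P₁.2.map K.subtype) hQP₁ (hAP₁ (Subgroup.mem_zpowers y))
    -- R.subgroupOf K is a p-subgroup of K
    have hRp : IsPGroup p (R.subgroupOf K) := hR.comap_subtype
    obtain ⟨P₂, hP₂⟩ := hRp.exists_le_sylow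
    have hcard : Nat.card R ≤ Nat.card Qs := by
      have h1 : Nat.card (R.subgroupOf K) = Nat.card R :=
        Nat.card_congr (Subgroup.subgroupOfEquivOfLe hRK).toEquiv
      have h2 : Nat.card (R.subgroupOf K) ≤ Nat.card (P₂ : Subgroup K) :=
        Subgroup.card_le_of_le hP₂
      have h3 : Nat.card (P₂ : Subgroup K) = Nat.card (P₁ : Subgroup K) := by
        rw [Sylow.card_eq_multiplicity, Sylow.card_eq_multiplicity]
      have h4 : Nat.card ((P₁ : Subgroup K).map K.subtype) = Nat.card (P₁ : Subgroup K) :=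
        Subgroup.card_map_of_injective K.subtype_injective
      rw [hP₁] at h4
      omega
    exact (Subgroup.eq_of_le_of_card_ge hQR hcard).symm
  -- step 5
  obtain ⟨P', hP'⟩ := hQsp.exists_le_sylow
  have hQsP' : Qs = (P' : Subgroup G) := by
    by_contra hne
    have hlt : Qs < (P' : Subgroup G) := lt_of_le_of_ne hP' hne
    -- nontrivial central element of P'
    haveI : Nontrivial (P' : Subgroup G) := by
      rw [Subgroup.nontrivial_iff_ne_bot]
      intro h
      rw [h] at hlt
      exact not_lt_bot hlt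
    haveI := P'.2.center_nontrivial
    obtain ⟨z₀, hz₀⟩ := exists_ne (1 : Subgroup.center (P' : Subgroup G))
    set z : G := ((z₀ : (P' : Subgroup G)) : G) with hzdef
    have hz1 : z ≠ 1 := by
      intro h
      apply hz₀
      apply Subtype.ext
      apply Subtype.ext
      exact h
    have hzP' : z ∈ (P' : Subgroup G) := (z₀ : (P' : Subgroup G)).2
    have hzcen : ∀ u ∈ (P' : Subgroup G), z * u = u * z := by
      intro u hu
      have := Subgroup.mem_center_iff.1 z₀.2 ⟨u, hu⟩
      exact (congrArg Subtype.val this).symm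
    -- z ∈ Qs
    obtain ⟨q, hq, hq1⟩ : ∃ q ∈ Qs, q ≠ 1 := by
      obtain ⟨q, hq1⟩ := (Subgroup.ne_bot_iff_exists_ne_one).1 hQs1
      exact ⟨q, q.2, fun h => hq1 (Subtype.ext h)⟩
    have hzQs : z ∈ Qs := by
      have hR : Qs ⊔ Subgroup.zpowers z = Qs := by
        apply step4 q hq hq1
        · exact P'.2.to_le (sup_le hP' (by rw [Subgroup.zpowers_le]; exact hzP'))
        · exact le_sup_left
        · rw [sup_le_iff]
          constructor
          · intro u hu
            rw [Subgroup.mem_centralizer_iff]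
            intro w hw
            rw [Set.mem_singleton_iff] at hw
            rw [hw]
            exact hcomm q hq u hu
          · rw [Subgroup.zpowers_le, Subgroup.mem_centralizer_iff]
            intro w hw
            rw [Set.mem_singleton_iff] at hw
            rw [hw]
            exact (hzcen q (hP' hq)).symm
      rw [← hR]
      exact Subgroup.mem_sup_right (Subgroup.mem_zpowers z)
    have := step4 z hzQs hz1 (P' : Subgroup G) P'.2 hP' (by
      intro u hu
      rw [Subgroup.mem_centralizer_iff]
      intro w hw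
      rw [Set.mem_singleton_iff] at hw
      rw [hw]
      exact hzcen u hu)
    exact hne this.symm
  -- step 6
  have hyP' : y ∈ Subgroup.normalizer ((P' : Subgroup G) : Set G) := by rw [← hQsP']; exact hyN
  have hevP' : 2 ∣ Nat.card (Subgroup.normalizer ((P' : Subgroup G) : Set G)) := by
    have h1 : orderOf (⟨y, hyP'⟩ : Subgroup.normalizer ((P' : Subgroup G) : Set G)) = 2 := by
      rw [← Subgroup.orderOf_coe]; exact hy
    have h2 := orderOf_dvd_natCard (⟨y, hyP'⟩ : Subgroup.normalizer ((P' : Subgroup G) : Set G))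
    rwa [h1] at h2
  have hidx : (Subgroup.normalizer ((P : Subgroup G) : Set G)).index =
      (Subgroup.normalizer ((P' : Subgroup G) : Set G)).index := by
    have e1 := Sylow.card_eq_index_normalizer P
    have e2 := Sylow.card_eq_index_normalizer P'
    exact e1.symm.trans e2
  have h1 := Subgroup.index_mul_card (Subgroup.normalizer ((P : Subgroup G) : Set G))
  have h2 := Subgroup.index_mul_card (Subgroup.normalizer ((P' : Subgroup G) : Set G))
  rw [hidx] at h1
  have hpos : 0 < (Subgroup.normalizer ((P' : Subgroup G) : Set G)).index :=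
    Nat.pos_of_ne_zero Subgroup.index_ne_zero_of_finite
  have heq : Nat.card (Subgroup.normalizer ((P : Subgroup G) : Set G)) =
      Nat.card (Subgroup.normalizer ((P' : Subgroup G) : Set G)) :=
    Nat.eq_of_mul_eq_mul_left hpos (h1.trans h2.symm)
  rw [heq]
  exact even_iff_two_dvd.2 hevP'

end Cfsg.Agent.S3982
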