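import Cfsg.Statements.S3983
import Mathlib

set_option autoImplicit false
open Cfsg
open scoped Pointwise

namespace Cfsg.Agent.S3983

/-- TI for one Sylow subgroup gives pairwise trivial intersections of distinct Sylow subgroups. -/
lemma ti_all {G : Type*} [Group G] [Finite G] (p : ℕ) [Fact p.Prime] (P : Sylow p G)
    (hTI : ∀ g : G, g ∉ Subgroup.normalizer ((P : Subgroup G) : Set G) →
      (P : Subgroup G) ⊓ (MulAut.conj g • (P : Subgroup G)) = ⊥)
    (R R' : Sylow p G) (hne : R ≠ R') : (R : Subgroup G) ⊓ (R' : Subgroup G) = ⊥ := by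
  obtain ⟨a, rfl⟩ := MulAction.exists_smul_eq G P R
  obtain ⟨b, rfl⟩ := MulAction.exists_smul_eq G P R'
  have hab : (a⁻¹ * b) ∉ Subgroup.normalizer ((P : Subgroup G) : Set G) := by
    intro h
    apply hne
    have h1 : (a⁻¹ * b) • P = P := Sylow.smul_eq_iff_mem_normalizer.2 h
    calc a • P = a • ((a⁻¹ * b) • P) := by rw [h1]
      _ = b • P := by rw [smul_smul, mul_inv_cancel_left]
  have h2 := hTI _ hab
  rw [eq_bot_iff] at h2 ⊢
  intro x hx
  rw [Subgroup.mem_inf, Sylow.coe_subgroup_smul, Sylow.coe_subgroup_smul,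
    Subgroup.mem_pointwise_smul_iff_inv_smul_mem, Subgroup.mem_pointwise_smul_iff_inv_smul_mem] at hx
  have h3 : (MulAut.conj a)⁻¹ • x ∈ (P : Subgroup G) ⊓ MulAut.conj (a⁻¹ * b) • (P : Subgroup G) := by
    refine Subgroup.mem_inf.2 ⟨hx.1, ?_⟩
    rw [Subgroup.mem_pointwise_smul_iff_inv_smul_mem]
    convert hx.2 using 1
    simp [MulAut.smul_def, mul_assoc]
  have h4 := h2 h3
  rw [Subgroup.mem_bot] at h4 ⊢
  have h5 : a⁻¹ * x * a = 1 := by simpa [MulAut.smul_def] using h4
  calc x = a * (a⁻¹ * x * a) * a⁻¹ := by group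
    _ = 1 := by rw [h5]; group

theorem result {G : Type*} [Group G] [Finite G] (p : ℕ) [Fact p.Prime] (P : Sylow p G) (hTI : ∀ g : G, g ∉ Subgroup.normalizer ((P : Subgroup G) : Set G) → (P : Subgroup G) ⊓ (MulAut.conj g • (P : Subgroup G)) = ⊥) (U : Subgroup G) (hU : p ∣ Nat.card ↥U) (Q : Sylow p ↥U) : ∀ u : ↥U, u ∉ Subgroup.normalizer ((Q : Subgroup ↥U) : Set ↥U) → (Q : Subgroup ↥U) ⊓ (MulAut.conj u • (Q : Subgroup ↥U)) = ⊥ := by
  intro u hu
  have hQp : IsPGroup p ((Q : Subgroup U).map U.subtype) := Q.2.map _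
  obtain ⟨R, hR⟩ := hQp.exists_le_sylow
  have hA : ∀ y : U, y ∈ (Q : Subgroup U) ↔ (y : G) ∈ (R : Subgroup G) := by
    intro y
    constructor
    · intro hy
      exact hR ⟨y, hy, rfl⟩
    · intro hy
      have hle : (Q : Subgroup U) ≤ (R : Subgroup G).subgroupOf U := by
        intro z hz
        rw [Subgroup.mem_subgroupOf]
        exact hR ⟨z, hz, rfl⟩
      have hp' : IsPGroup p ((R : Subgroup G).subgroupOf U) :=
        R.2.comap_of_injective _ U.subtype_injective
      have := Q.is_maximal' hp' hle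
      rw [← this, Subgroup.mem_subgroupOf]
      exact hy
  rw [eq_bot_iff]
  intro x hx
  rw [Subgroup.mem_inf, Subgroup.mem_pointwise_smul_iff_inv_smul_mem] at hx
  rw [Subgroup.mem_bot]
  by_cases hRu : (u : G) • R = R
  · exfalso
    apply hu
    rw [Subgroup.mem_normalizer_iff]
    intro y
    rw [hA, hA]
    have : (u : G) * y * (u : G)⁻¹ ∈ (((u : G) • R : Sylow p G) : Subgroup G) ↔ (y : G) ∈ (R : Subgroup G) := by
      rw [Sylow.coe_subgroup_smul, Subgroup.mem_pointwise_smul_iff_inv_smul_mem]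
      simp [MulAut.smul_def, mul_assoc]
    rw [hRu] at this
    simpa using this.symm
  · have h1 := ti_all p P hTI R ((u : G) • R) (fun h => hRu h.symm)
    have hx1 : (x : G) ∈ (R : Subgroup G) := (hA x).1 hx.1
    have hx2 : (x : G) ∈ (((u : G) • R : Sylow p G) : Subgroup G) := by
      rw [Sylow.coe_subgroup_smul, Subgroup.mem_pointwise_smul_iff_inv_smul_mem]
      have := (hA _).1 hx.2
      simpa [MulAut.smul_def] using this
    have : (x : G) ∈ (⊥ : Subgroup G) := h1 ▸ ⟨hx1, hx2⟩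
    rw [Subgroup.mem_bot] at this
    exact Subtype.ext this

end Cfsg.Agent.S3983
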