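import Cfsg.Statements.S3984
import Cfsg.Agent.Helper20.SylowConj
import Cfsg.Agent.Helper20.Sylow

set_option autoImplicit false
open Cfsg
open scoped Pointwise

namespace Cfsg.Agent.S3984

open Cfsg.Agent.Helper20

lemma mem_conj_smul {G : Type*} [Group G] (g x : G) (H : Subgroup G) :
    x ∈ MulAut.conj g • H ↔ g⁻¹ * x * g ∈ H := by
  rw [Subgroup.mem_smul_pointwise_iff_exists]
  constructor
  · rintro ⟨s, hs, rfl⟩
    simpa [MulAut.smul_def, mul_assoc] using hs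
  · intro h
    exact ⟨_, h, by simp [MulAut.smul_def, mul_assoc]⟩

lemma key {G : Type*} [Group G] [Finite G] (p : ℕ) [Fact p.Prime] (P : Sylow p G)
    (hTI : ∀ g : G, g ∉ Subgroup.normalizer ((P : Subgroup G) : Set G) →
      (P : Subgroup G) ⊓ (MulAut.conj g • (P : Subgroup G)) = ⊥)
    (N : Subgroup G) [N.Normal] (g a b : G) (ha : a ∈ (P : Subgroup G)) (hb : b ∈ (P : Subgroup G))
    (hab : (a : G ⧸ N) = (g : G ⧸ N) * (b : G ⧸ N) * (g : G ⧸ N)⁻¹) :
    a = 1 ∨ ∃ n ∈ N, n⁻¹ * g ∈ Subgroup.normalizer ((P : Subgroup G) : Set G) := by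
  by_cases ha1 : a = 1
  · exact Or.inl ha1
  right
  -- a ∈ (g • P) ⊔ N
  have hn : (g * b * g⁻¹)⁻¹ * a ∈ N := by
    rw [← QuotientGroup.eq, hab]; simp
  have haM : a ∈ ((g • P : Sylow p G) : Subgroup G) ⊔ N := by
    have : a = (g * b * g⁻¹) * ((g * b * g⁻¹)⁻¹ * a) := by group
    rw [this]
    refine Subgroup.mul_mem_sup ?_ hn
    rw [Sylow.smul_def, Sylow.pointwise_smul_def, mem_conj_smul]
    have : g⁻¹ * (g * b * g⁻¹) * g = b := by group
    rw [this]; exact hb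
  obtain ⟨k, hk⟩ := orderOf_eq_pow_of_mem_pgroup (P : Subgroup G) P.2 a ha
  obtain ⟨m, hmM, hm⟩ := exists_mem_conj_mem_sylow _ (g • P) le_sup_left a haM k hk
  obtain ⟨u, hu, n, hn', rfl⟩ := Subgroup.mem_sup_of_normal_right.1 hmM
  refine ⟨n, hn', ?_⟩
  by_contra hcon
  have hbot := hTI _ hcon
  apply ha1
  have : a ∈ (P : Subgroup G) ⊓ (MulAut.conj (n⁻¹ * g) • (P : Subgroup G)) := by
    refine Subgroup.mem_inf.2 ⟨ha, ?_⟩
    rw [mem_conj_smul]
    rw [Sylow.smul_def, Sylow.pointwise_smul_def, mem_conj_smul] at hm hu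
    have h3 := mul_mem (mul_mem (inv_mem hu) hm) hu
    have e : (g⁻¹ * u * g)⁻¹ * (g⁻¹ * (u * n * a * (u * n)⁻¹) * g) * (g⁻¹ * u * g) =
        (n⁻¹ * g)⁻¹ * a * (n⁻¹ * g) := by group
    rw [e] at h3
    exact h3
  rw [hbot] at this
  exact Subgroup.mem_bot.1 this

/-- Let P be a Sylow p-subgroup of the finite group G that meets each conjugate g P g⁻¹ with g outside N_G(P) trivially, and let N be a normal subgroup of G of order prime to p. Then every Sylow p-subgroup Q of G ⧸ N meets each conjugate x Q x⁻¹ with x outside its normalizer trivially. -/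
theorem result {G : Type*} [Group G] [Finite G] (p : ℕ) [Fact p.Prime] (P : Sylow p G) (hTI : ∀ g : G, g ∉ Subgroup.normalizer ((P : Subgroup G) : Set G) → (P : Subgroup G) ⊓ (MulAut.conj g • (P : Subgroup G)) = ⊥) (N : Subgroup G) [N.Normal] (hN : (Nat.card ↥N).Coprime p) (Q : Sylow p (G ⧸ N)) : ∀ x : G ⧸ N, x ∉ Subgroup.normalizer ((Q : Subgroup (G ⧸ N)) : Set (G ⧸ N)) → (Q : Subgroup (G ⧸ N)) ⊓ (MulAut.conj x • (Q : Subgroup (G ⧸ N))) = ⊥ := by
  have hπ : Function.Surjective (QuotientGroup.mk' N) := QuotientGroup.mk'_surjective N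
  obtain ⟨y, rfl⟩ := MulAction.exists_smul_eq (G ⧸ N) (P.mapSurjective hπ) Q
  intro x hx
  rw [eq_bot_iff]
  intro z hz
  obtain ⟨hz1, hz2⟩ := Subgroup.mem_inf.1 hz
  rw [Sylow.smul_def, Sylow.pointwise_smul_def, mem_conj_smul] at hz1
  rw [Sylow.smul_def, Sylow.pointwise_smul_def, mem_conj_smul, mem_conj_smul] at hz2
  rw [Sylow.coe_mapSurjective, Subgroup.mem_map] at hz1 hz2
  obtain ⟨a, ha, hae⟩ := hz1
  obtain ⟨b, hb, hbe⟩ := hz2
  obtain ⟨g, hg⟩ := hπ (y⁻¹ * x * y)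
  have hab : (a : G ⧸ N) = (g : G ⧸ N) * (b : G ⧸ N) * (g : G ⧸ N)⁻¹ := by
    have e1 : (a : G ⧸ N) = y⁻¹ * z * y := hae
    have e2 : (b : G ⧸ N) = y⁻¹ * (x⁻¹ * z * x) * y := hbe
    have e3 : (g : G ⧸ N) = y⁻¹ * x * y := hg
    rw [e1, e2, e3]; group
  rcases key p P hTI N g a b ha hb hab with h1 | ⟨n, hn, hng⟩
  · rw [Subgroup.mem_bot]
    have e1 : (a : G ⧸ N) = y⁻¹ * z * y := hae
    rw [h1] at e1
    have : z = y * (y⁻¹ * z * y) * y⁻¹ := by group
    rw [this, ← e1]; simp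
  · exfalso
    apply hx
    rw [mem_normalizer_smul_sylow_iff]
    have e3 : ((n⁻¹ * g : G) : G ⧸ N) = y⁻¹ * x * y := by
      rw [← hg]
      have : ((n⁻¹ : G) : G ⧸ N) = 1 := (QuotientGroup.eq_one_iff _).2 (N.inv_mem hn)
      simp [this]
    rw [← e3]
    have := Subgroup.le_normalizer_map (H := (P : Subgroup G)) (QuotientGroup.mk' N)
      (Subgroup.mem_map_of_mem _ hng)
    exact this

end Cfsg.Agent.S3984
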