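import Cfsg.Statements.S3985
import Cfsg.Agent.Helper20.CyclicAut
import Cfsg.Agent.Helper20.Sylow

set_option autoImplicit false
open scoped Pointwise
open Cfsg

namespace Cfsg.Agent.S3985

open Cfsg.Agent.Helper20

lemma mem_conj_smul {G : Type*} [Group G] (g x : G) (H : Subgroup G) :
    x ∈ MulAut.conj g • H ↔ g⁻¹ * x * g ∈ H := by
  rw [Subgroup.mem_smul_pointwise_iff_exists]
  constructor
  · rintro ⟨s, hs, rfl⟩
    simpa [MulAut.smul_def, mul_assoc] using hs
  · intro h
    exact ⟨_, h, by simp [MulAut.smul_def, mul_assoc]⟩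

/-- a `p`-element of the normalizer of a Sylow `p`-subgroup lies in it -/
lemma mem_sylow_of_mem_normalizer {G : Type*} [Group G] [Finite G] {p : ℕ} [Fact p.Prime] (P : Sylow p G)
    (v : G) (hv : v ∈ Subgroup.normalizer ((P : Subgroup G) : Set G)) (a : ℕ)
    (hva : orderOf v = p ^ a) : v ∈ (P : Subgroup G) := by
  have hpg : IsPGroup p (Subgroup.zpowers v) := by
    rw [IsPGroup.iff_card, Nat.card_zpowers]
    exact ⟨a, hva⟩
  have hle : Subgroup.zpowers v ≤ Subgroup.normalizer ((P : Subgroup G) : Set G) := by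
    rw [Subgroup.zpowers_le]; exact hv
  have h1 := IsPGroup.to_sup_of_normal_right' hpg P.2 hle
  have h2 := P.is_maximal' h1 le_sup_right
  have : v ∈ Subgroup.zpowers v ⊔ (P : Subgroup G) := Subgroup.mem_sup_left (Subgroup.mem_zpowers v)
  rw [h2] at this
  exact this

theorem result {G : Type*} [Group G] [Finite G] (p : ℕ) [Fact p.Prime] (P : Sylow p G) (hcyc : IsCyclic ↥(P : Subgroup G)) : (∀ g : G, g ∉ Subgroup.normalizer ((P : Subgroup G) : Set G) → (P : Subgroup G) ⊓ (MulAut.conj g • (P : Subgroup G)) = ⊥) ↔ ∀ x : G, x ∈ (P : Subgroup G) → x ≠ 1 → Subgroup.centralizer ({x} : Set G) = Subgroup.centralizer ((P : Subgroup G) : Set G) := by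
  have hp : p.Prime := Fact.out
  have hPcomm : ∀ a ∈ (P : Subgroup G), ∀ b ∈ (P : Subgroup G), a * b = b * a := by
    intro a ha b hb
    have := mul_comm' (⟨a, ha⟩ : (P : Subgroup G)) ⟨b, hb⟩
    exact congrArg Subtype.val this
  constructor
  · intro hTI x hxP hx1
    apply le_antisymm
    · -- every element centralizing x normalizes P
      have hCN : ∀ d : G, d * x = x * d → d ∈ Subgroup.normalizer ((P : Subgroup G) : Set G) := by
        intro d hd
        by_contra hcon
        have hbot := hTI d hcon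
        have : x ∈ (P : Subgroup G) ⊓ (MulAut.conj d • (P : Subgroup G)) := by
          refine Subgroup.mem_inf.2 ⟨hxP, ?_⟩
          rw [mem_conj_smul]
          have : d⁻¹ * x * d = x := by rw [mul_assoc, ← hd]; group
          rw [this]; exact hxP
        rw [hbot] at this
        exact hx1 (Subgroup.mem_bot.1 this)
      obtain ⟨g₀, hg₀⟩ := hcyc.exists_generator
      obtain ⟨n, hn⟩ := orderOf_eq_pow_of_mem_pgroup (P : Subgroup G) P.2 (g₀ : G) g₀.2
      have hPg : ∀ y ∈ (P : Subgroup G), y ∈ Subgroup.zpowers (g₀ : G) := by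
        intro y hy
        obtain ⟨j, hj⟩ := Subgroup.mem_zpowers_iff.1 (hg₀ ⟨y, hy⟩)
        refine Subgroup.mem_zpowers_iff.2 ⟨j, ?_⟩
        have := congrArg Subtype.val hj
        simpa using this
      intro c hc
      rw [Subgroup.mem_centralizer_iff] at hc
      have hcx : c * x = x * c := (hc x rfl).symm
      obtain ⟨a, m, s, t, hcop, hordv, hdecomp⟩ := exists_pow_decomp p c
      -- powers of c commute with x
      have hpowc : ∀ j : ℕ, c ^ j * x = x * c ^ j := by
        intro j
        exact ((Commute.pow_left (show Commute c x from hcx) j)).eq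
      -- the p-part lies in P
      have hvP : c ^ m ∈ (P : Subgroup G) :=
        mem_sylow_of_mem_normalizer P _ (hCN _ (hpowc m)) a hordv
      -- the p'-part centralizes the generator
      have huN := hCN _ (hpowc (p ^ a))
      have hug : c ^ (p ^ a) * (g₀ : G) * (c ^ (p ^ a))⁻¹ ∈ (P : Subgroup G) := by
        have := (Subgroup.mem_normalizer_iff.1 huN (g₀ : G)).1 g₀.2
        exact this
      have hfin : IsOfFinOrder (g₀ : G) := isOfFinOrder_of_finite _
      obtain ⟨k, hk⟩ := (Submonoid.mem_powers_iff _ _).1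
        (hfin.mem_powers_iff_mem_zpowers.2 (hPg _ hug))
      have hfix : c ^ (p ^ a) * x * (c ^ (p ^ a))⁻¹ = x := by
        rw [hpowc]; group
      have hcent := conj_eq_self_of_coprime_fix (g₀ : G) (c ^ (p ^ a)) x p n k
        (orderOf (c ^ (p ^ a))) hp hn hk.symm (hPg x hxP) hx1 hfix (pow_orderOf_eq_one _) hcop
      have hucomm : Commute (c ^ (p ^ a)) (g₀ : G) := by
        rw [commute_iff_eq]
        calc c ^ (p ^ a) * (g₀ : G) = (c ^ (p ^ a) * (g₀ : G) * (c ^ (p ^ a))⁻¹) * c ^ (p ^ a) := by
              group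
          _ = (g₀ : G) * c ^ (p ^ a) := by rw [hcent]
      rw [Subgroup.mem_centralizer_iff]
      intro y hy
      have hyP : y ∈ (P : Subgroup G) := hy
      obtain ⟨j, rfl⟩ := Subgroup.mem_zpowers_iff.1 (hPg y hyP)
      have h1 : Commute ((c ^ (p ^ a)) ^ s) ((g₀ : G) ^ j) := (hucomm.zpow_left s).zpow_right j
      have h2 : Commute ((c ^ m) ^ t) ((g₀ : G) ^ j) := by
        have : Commute (c ^ m) ((g₀ : G) ^ j) :=
          hPcomm _ hvP _ (Subgroup.zpow_mem _ g₀.2 j)
        exact this.zpow_left t
      have h3 : Commute c ((g₀ : G) ^ j) := by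
        rw [hdecomp]; exact h1.mul_left h2
      exact h3.eq.symm
    · exact Subgroup.centralizer_le (Set.singleton_subset_iff.2 hxP)
  · intro hW g hg
    by_contra hne
    obtain ⟨⟨x, hx⟩, hx1⟩ := (Subgroup.ne_bot_iff_exists_ne_one).1 hne
    have hx1' : x ≠ 1 := fun h => hx1 (Subtype.ext h)
    obtain ⟨hxP, hxg⟩ := Subgroup.mem_inf.1 hx
    have hcent := hW x hxP hx1'
    apply hg
    -- g • P centralizes x, hence centralizes P
    have hgP : ((g • P : Sylow p G) : Subgroup G) ≤
        Subgroup.centralizer ((P : Subgroup G) : Set G) := by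
      rw [← hcent]
      intro y hy
      rw [Subgroup.mem_centralizer_iff]
      intro x' hx'
      rw [Set.mem_singleton_iff] at hx'
      subst hx'
      rw [Sylow.smul_def, Sylow.pointwise_smul_def, mem_conj_smul] at hy
      rw [mem_conj_smul] at hxg
      have := hPcomm _ hy _ hxg
      calc x' * y = g * ((g⁻¹ * x' * g) * (g⁻¹ * y * g)) * g⁻¹ := by group
        _ = g * ((g⁻¹ * y * g) * (g⁻¹ * x' * g)) * g⁻¹ := by rw [this]
        _ = y * x' := by group
    have hle : ((g • P : Sylow p G) : Subgroup G) ≤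
        Subgroup.normalizer ((P : Subgroup G) : Set G) :=
      hgP.trans (Subgroup.centralizer_le_normalizer _)
    have h1 := IsPGroup.to_sup_of_normal_right' (g • P : Sylow p G).2 P.2 hle
    have h2 := P.is_maximal' h1 le_sup_right
    have h3 : ((g • P : Sylow p G) : Subgroup G) ≤ (P : Subgroup G) := by
      rw [← h2]; exact le_sup_left
    have h4 : ((g • P : Sylow p G) : Subgroup G) = (P : Subgroup G) :=
      ((g • P : Sylow p G).is_maximal' P.2 h3).symm
    have h5 : g • P = P := Sylow.ext h4
    exact Sylow.smul_eq_iff_mem_normalizer.1 h5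

end Cfsg.Agent.S3985
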