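import Cfsg.Statements.S3986
import Cfsg.Agent.Helper20.DirectFactor

set_option autoImplicit false
open Cfsg

namespace Cfsg.Agent.S3986

theorem result {G : Type*} [Group G] [Finite G] (p : ℕ) [Fact p.Prime] : (∃ (P : Sylow p G) (K : Subgroup G), (P : Subgroup G).Normal ∧ K.Normal ∧ (P : Subgroup G) ⊓ K = ⊥ ∧ (P : Subgroup G) ⊔ K = ⊤) ↔ ∀ x y : G, (∃ a : ℕ, orderOf x = p ^ a) → (∃ q b : ℕ, q.Prime ∧ q ≠ p ∧ orderOf y = q ^ b) → x * y = y * x :=
  Helper20.sylow_direct_factor_iff p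

end Cfsg.Agent.S3986
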