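import Cfsg.Statements.S3987
import Cfsg.Agent.Helper20.DirectFactor
import Cfsg.Agent.Helper20.Basic

set_option autoImplicit false
open Cfsg

namespace Cfsg.Agent.S3987

open Helper20

/-- If the class size of `x*y` is the product of the class sizes then `x` and `y` commute. -/
lemma commute_of_index_mul {G : Type*} [Group G] [Finite G] (x y : G)
    (h : (Subgroup.centralizer ({x * y} : Set G)).index =
      (Subgroup.centralizer ({x} : Set G)).index * (Subgroup.centralizer ({y} : Set G)).index) :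
    x * y = y * x := by
  set A := Subgroup.centralizer ({x} : Set G)
  set B := Subgroup.centralizer ({y} : Set G)
  set C := Subgroup.centralizer ({x * y} : Set G)
  have hle : A ⊓ B ≤ C := by
    intro g hg
    rw [Subgroup.mem_inf] at hg
    obtain ⟨h1, h2⟩ := hg
    simp only [A, B, C, Subgroup.mem_centralizer_iff, Set.mem_singleton_iff, forall_eq] at h1 h2 ⊢
    rw [mul_assoc, h2, ← mul_assoc, h1, mul_assoc]
  have h1 : C.index ≤ (A ⊓ B).index := by
    apply Nat.le_of_dvd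
    · exact Nat.pos_of_ne_zero (Subgroup.index_ne_zero_of_finite)
    · exact Subgroup.index_dvd_of_le hle
  have h2 : (A ⊓ B).index ≤ A.index * B.index := Subgroup.index_inf_le
  have h3 : (A ⊓ B).index = C.index := le_antisymm (h ▸ h2) h1
  have h4 : (A ⊓ B).relIndex C = 1 := by
    have := Subgroup.relIndex_mul_index hle
    rw [h3] at this
    have hpos : 0 < C.index := Nat.pos_of_ne_zero (Subgroup.index_ne_zero_of_finite)
    exact Nat.eq_of_mul_eq_mul_right hpos (by rw [this, one_mul])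
  have h5 : C ≤ A ⊓ B := Subgroup.relIndex_eq_one.1 h4
  have hxy : x * y ∈ C := by
    simp only [C, Subgroup.mem_centralizer_iff, Set.mem_singleton_iff, forall_eq]
  have := (Subgroup.mem_inf.1 (h5 hxy)).1
  simp only [A, Subgroup.mem_centralizer_iff, Set.mem_singleton_iff, forall_eq] at this
  -- this : x * (x * y) = x * y * x
  have h6 : x * (x * y) = x * (y * x) := by rw [this, mul_assoc]
  exact mul_left_cancel h6

theorem result {G : Type*} [Group G] [Finite G] (p : ℕ) [Fact p.Prime] : (∃ (P : Sylow p G) (K : Subgroup G), (P : Subgroup G).Normal ∧ K.Normal ∧ (P : Subgroup G) ⊓ K = ⊥ ∧ (P : Subgroup G) ⊔ K = ⊤) ↔ ∀ x y : G, (∃ a : ℕ, orderOf x = p ^ a) → (∃ q b : ℕ, q.Prime ∧ q ≠ p ∧ orderOf y = q ^ b) → (Subgroup.centralizer ({x * y} : Set G)).index = (Subgroup.centralizer ({x} : Set G)).index * (Subgroup.centralizer ({y} : Set G)).index := by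
  constructor
  · rintro ⟨P, K, hPn, hKn, hinf, hsup⟩ x y ⟨a, ha⟩ ⟨q, b, hq, hqp, hy⟩
    have hxP : x ∈ (P : Subgroup G) := mem_normal_sylow_of_orderOf P hPn x a ha
    have hyK : y ∈ K := q_elt_mem_complement p P K hKn hinf hsup y q b hq hqp hy
    have hcomm : ∀ u v : G, u ∈ (P : Subgroup G) → v ∈ K → u * v = v * u := fun u v hu hv =>
      Subgroup.commute_of_normal_of_disjoint _ _ hPn hKn (disjoint_iff.2 hinf) u v hu hv
    rw [← ncard_setOf_isConj, ← ncard_setOf_isConj, ← ncard_setOf_isConj, ← Set.ncard_prod]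
    have himg : {h : G | IsConj (x * y) h} =
        (fun z : G × G => z.1 * z.2) '' ({h : G | IsConj x h} ×ˢ {h : G | IsConj y h}) := by
      ext w
      constructor
      · intro hw
        rw [Set.mem_ofPred_eq, isConj_iff] at hw
        obtain ⟨g, rfl⟩ := hw
        refine ⟨(g * x * g⁻¹, g * y * g⁻¹), ⟨?_, ?_⟩, ?_⟩
        · exact isConj_iff.2 ⟨g, rfl⟩
        · exact isConj_iff.2 ⟨g, rfl⟩
        · simp only; group
      · rintro ⟨⟨x', y'⟩, ⟨hx', hy'⟩, rfl⟩
        rw [Set.mem_ofPred_eq, isConj_iff] at hx' hy'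
        obtain ⟨g, rfl⟩ := hx'
        obtain ⟨h, rfl⟩ := hy'
        haveI := hKn
        have hg : g ∈ (P : Subgroup G) ⊔ K := by rw [hsup]; trivial
        have hh : h ∈ (P : Subgroup G) ⊔ K := by rw [hsup]; trivial
        obtain ⟨a1, ha1, b1, hb1, rfl⟩ := Subgroup.mem_sup_of_normal_right.1 hg
        obtain ⟨a2, ha2, b2, hb2, rfl⟩ := Subgroup.mem_sup_of_normal_right.1 hh
        rw [Set.mem_ofPred_eq, isConj_iff]
        refine ⟨a1 * b2, ?_⟩
        simp only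
        -- (a1 b2) x y (a1 b2)⁻¹ = (a1 b1 x b1⁻¹ a1⁻¹) (a2 b2 y b2⁻¹ a2⁻¹)
        have e1 : b1 * x * b1⁻¹ = x := by
          rw [← hcomm x b1 hxP hb1]; group
        have e2 : b2 * x * b2⁻¹ = x := by
          rw [← hcomm x b2 hxP hb2]; group
        have hy2 : b2 * y * b2⁻¹ ∈ K := hKn.conj_mem y hyK b2
        have e3 : a2 * (b2 * y * b2⁻¹) * a2⁻¹ = b2 * y * b2⁻¹ := by
          rw [hcomm a2 _ ha2 hy2]; group
        have e4 : a1 * (b2 * y * b2⁻¹) * a1⁻¹ = b2 * y * b2⁻¹ := by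
          rw [hcomm a1 _ ha1 hy2]; group
        calc a1 * b2 * (x * y) * (a1 * b2)⁻¹
            = a1 * (b2 * x * b2⁻¹) * a1⁻¹ * (a1 * (b2 * y * b2⁻¹) * a1⁻¹) := by group
          _ = a1 * x * a1⁻¹ * (b2 * y * b2⁻¹) := by rw [e2, e4]
          _ = a1 * (b1 * x * b1⁻¹) * a1⁻¹ * (a2 * (b2 * y * b2⁻¹) * a2⁻¹) := by rw [e1, e3]
          _ = a1 * b1 * x * (a1 * b1)⁻¹ * (a2 * b2 * y * (a2 * b2)⁻¹) := by group
    rw [himg]
    apply Set.InjOn.ncard_image
    rintro ⟨x1, y1⟩ ⟨hx1, hy1⟩ ⟨x2, y2⟩ ⟨hx2, hy2⟩ heq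
    simp only at heq
    rw [Set.mem_ofPred_eq, isConj_iff] at hx1 hy1 hx2 hy2
    obtain ⟨g1, rfl⟩ := hx1
    obtain ⟨g2, rfl⟩ := hx2
    obtain ⟨h1, rfl⟩ := hy1
    obtain ⟨h2, rfl⟩ := hy2
    have m1 : g1 * x * g1⁻¹ ∈ (P : Subgroup G) := hPn.conj_mem x hxP g1
    have m2 : g2 * x * g2⁻¹ ∈ (P : Subgroup G) := hPn.conj_mem x hxP g2
    have n1 : h1 * y * h1⁻¹ ∈ K := hKn.conj_mem y hyK h1
    have n2 : h2 * y * h2⁻¹ ∈ K := hKn.conj_mem y hyK h2
    have hz : (g2 * x * g2⁻¹)⁻¹ * (g1 * x * g1⁻¹) = (h2 * y * h2⁻¹) * (h1 * y * h1⁻¹)⁻¹ := by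
      rw [inv_mul_eq_iff_eq_mul, ← mul_assoc, eq_mul_inv_iff_mul_eq]
      exact heq
    have hzP : (g2 * x * g2⁻¹)⁻¹ * (g1 * x * g1⁻¹) ∈ (P : Subgroup G) ⊓ K := by
      refine Subgroup.mem_inf.2 ⟨mul_mem (inv_mem m2) m1, ?_⟩
      rw [hz]; exact mul_mem n2 (inv_mem n1)
    rw [hinf, Subgroup.mem_bot] at hzP
    have e1 : g1 * x * g1⁻¹ = g2 * x * g2⁻¹ := by
      rw [inv_mul_eq_one] at hzP; exact hzP.symm
    have e2 : h1 * y * h1⁻¹ = h2 * y * h2⁻¹ := by
      rw [hzP] at hz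
      have := hz.symm
      rw [mul_inv_eq_one] at this
      exact this.symm
    rw [e1, e2]
  · intro h
    rw [sylow_direct_factor_iff]
    intro x y hx hy
    exact commute_of_index_mul x y (h x y hx hy)

end Cfsg.Agent.S3987
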