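import Cfsg.Statements.S3992
import Mathlib
import Cfsg.Agent.Helper1.EPPO3

set_option autoImplicit false
open Cfsg

namespace Cfsg.Agent.S3992

/-- Let G be a finite non-solvable group in which every element has prime-power order, and let R be its largest solvable normal subgroup. Then R is a p-group for some prime p; G/R has a non-abelian simple normal subgroup contained in every nontrivial normal subgroup of G/R (its unique minimal normal subgroup); and the order of every solvable subgroup of G has at most two prime divisors. -/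
theorem result {G : Type*} [Group G] [Finite G] (hns : ¬ Group.IsSolvable G) (hpp : ∀ g : G, g ≠ 1 → IsPrimePow (orderOf g))
    (R : Subgroup G) [R.Normal] (hRs : Group.IsSolvable ↥R) (hRmax : ∀ N : Subgroup G, N.Normal → Group.IsSolvable ↥N → N ≤ R) :
    (∃ p : ℕ, p.Prime ∧ IsPGroup p ↥R) ∧
      (∃ M : Subgroup (G ⧸ R), M.Normal ∧ IsSimpleGroup ↥M ∧ ¬ IsMulCommutative ↥M ∧
        ∀ N : Subgroup (G ⧸ R), N.Normal → N ≠ ⊥ → M ≤ N) ∧
      ∀ H : Subgroup G, Group.IsSolvable ↥H → (Nat.card ↥H).primeFactors.card ≤ 2 := by
  have hE : Cfsg.Agent.Helper1.EPPO.IsEPPO G := hpp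
  refine ⟨Cfsg.Agent.Helper1.EPPO.radical_isPGroup hns hE R hRs, ?_, ?_⟩
  · have hEq : Cfsg.Agent.Helper1.EPPO.IsEPPO (G ⧸ R) :=
      hE.of_surjective (QuotientGroup.mk' R) (QuotientGroup.mk'_surjective R)
    have hnt : Nontrivial (G ⧸ R) := by
      by_contra hnt
      rw [not_nontrivial_iff_subsingleton] at hnt
      apply hns
      have hqs : Group.IsSolvable (G ⧸ R) := inferInstance
      exact Group.isSolvable_of_ker_le_range R.subtype (QuotientGroup.mk' R)
        (by rw [QuotientGroup.ker_mk', Subgroup.range_subtype])
    have hrad : ∀ N : Subgroup (G ⧸ R), N.Normal → Group.IsSolvable N → N = ⊥ := by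
      intro N hN hNs
      have hRle : R ≤ N.comap (QuotientGroup.mk' R) := by
        intro x hx
        rw [Subgroup.mem_comap]
        have : QuotientGroup.mk' R x = 1 := by
          rw [QuotientGroup.mk'_apply, QuotientGroup.eq_one_iff]; exact hx
        rw [this]; exact N.one_mem
      have hcs : Group.IsSolvable (N.comap (QuotientGroup.mk' R)) := by
        apply Group.isSolvable_of_ker_le_range (Subgroup.inclusion hRle)
          ((QuotientGroup.mk' R).subgroupComap N)
        intro x hx
        rw [MonoidHom.mem_ker] at hx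
        have h1 : QuotientGroup.mk' R (x : G) = 1 := by
          have := congrArg Subtype.val hx
          exact this
        rw [QuotientGroup.mk'_apply, QuotientGroup.eq_one_iff] at h1
        exact ⟨⟨x, h1⟩, Subtype.ext rfl⟩
      have hc : N.comap (QuotientGroup.mk' R) ≤ R := hRmax _ (hN.comap _) hcs
      rw [eq_bot_iff]
      intro x hx
      obtain ⟨g, rfl⟩ := QuotientGroup.mk'_surjective R x
      have : g ∈ R := hc hx
      rw [Subgroup.mem_bot]
      exact (QuotientGroup.eq_one_iff g).mpr this
    exact Cfsg.Agent.Helper1.EPPO.exists_unique_minimal hEq hrad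
  · intro H hH
    exact Cfsg.Agent.Helper1.EPPO.higman (hE.subgroup H)

end Cfsg.Agent.S3992
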