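import Cfsg.Statements.S3994
import Cfsg.Agent.Helper20.FrobF
import Cfsg.Agent.Helper20.PiPart

set_option autoImplicit false
open Cfsg

namespace Cfsg.Agent.S3994

open Cfsg.Agent.Helper20

/-- the `n'`-part of `N` -/
def cop (n N : ℕ) : ℕ := N / Nat.gcd N (n ^ N)

theorem cop_dvd (n N : ℕ) : cop n N ∣ N := Nat.div_dvd_of_dvd (Nat.gcd_dvd_left _ _)

theorem gcd_mul_cop (n N : ℕ) : Nat.gcd N (n ^ N) * cop n N = N :=
  Nat.mul_div_cancel' (Nat.gcd_dvd_left _ _)

theorem cop_coprime (n N : ℕ) (hN : 0 < N) : Nat.Coprime (cop n N) n := by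
  apply Nat.coprime_of_dvd
  intro q hq hqb hqn
  obtain ⟨t, r, hr, hNr⟩ := Nat.exists_eq_pow_mul_and_not_dvd hN.ne' q hq.ne_one
  have htN : t ≤ N := by
    have h1 : t < 2 ^ t := Nat.lt_two_pow_self
    have h2 : 2 ^ t ≤ q ^ t := Nat.pow_le_pow_left hq.two_le t
    have h3 : q ^ t ≤ N := Nat.le_of_dvd hN ⟨r, hNr⟩
    omega
  have h1 : q ^ t ∣ n ^ N := (pow_dvd_pow q htN).trans (pow_dvd_pow_of_dvd hqn N)
  have h2 : q ^ t ∣ Nat.gcd N (n ^ N) := Nat.dvd_gcd ⟨r, hNr⟩ h1
  obtain ⟨g', hg'⟩ := h2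
  have h3 := gcd_mul_cop n N
  rw [hg'] at h3
  have h4 : q ^ t * (g' * cop n N) = q ^ t * r := by rw [← mul_assoc, h3, ← hNr]
  have h5 : g' * cop n N = r := Nat.eq_of_mul_eq_mul_left (pow_pos hq.pos t) h4
  apply hr
  rw [← h5]
  exact Dvd.dvd.mul_left hqb g'

theorem dvd_cop (n N d : ℕ) (hd : d ∣ N) (hcop : Nat.Coprime d n) : d ∣ cop n N := by
  have h1 : d ∣ Nat.gcd N (n ^ N) * cop n N := by rw [gcd_mul_cop]; exact hd
  have h2 : Nat.Coprime d (Nat.gcd N (n ^ N)) :=
    Nat.Coprime.coprime_dvd_right (Nat.gcd_dvd_right _ _) (Nat.Coprime.pow_right N hcop)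
  exact h2.dvd_of_dvd_mul_left h1

theorem result {G : Type*} [Group G] [Finite G] (n : ℕ) (hn : 0 < n) :
    Nat.card {g : G // n ∣ orderOf g} = 0 ∨
      (Nat.card G / Nat.gcd (Nat.card G) (n ^ Nat.card G)) ∣ Nat.card {g : G // n ∣ orderOf g} := by
  right
  classical
  haveI : Fintype G := Fintype.ofFinite G
  show cop n (Nat.card G) ∣ _
  set b := cop n (Nat.card G) with hb
  have hbn : Nat.Coprime b n := cop_coprime n _ Nat.card_pos
  let IsPi : G → Prop := fun y => ∀ q : ℕ, q.Prime → q ∣ orderOf y → q ∣ n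
  let Y : Finset G := Finset.univ.filter (fun y : G => IsPi y ∧ n ∣ orderOf y)
  let Zy : G → Finset G := fun y =>
    Finset.univ.filter (fun z : G => Commute y z ∧ Nat.Coprime (orderOf z) n)
  have hcop : ∀ y ∈ Y, ∀ y' : G, ∀ z ∈ Zy y', (orderOf y).Coprime (orderOf z) := by
    intro y hy y' z hz
    rw [Finset.mem_filter] at hy hz
    apply Nat.coprime_of_dvd
    intro q hq hqy hqz
    have h1 : q ∣ n := hy.2.1 q hq hqy
    have h2 := Nat.Coprime.eq_one_of_dvd (Nat.Coprime.coprime_dvd_left hqz hz.2.2) h1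
    exact hq.one_lt.ne' h2
  have e1 : Nat.card {g : G // n ∣ orderOf g} =
      (Finset.univ.filter (fun g : G => n ∣ orderOf g)).card := by
    rw [Nat.card_eq_fintype_card, Fintype.card_subtype]
  have hcard : (Finset.univ.filter (fun g : G => n ∣ orderOf g)).card = (Y.sigma Zy).card := by
    symm
    apply Finset.card_bij (fun (q : Σ _ : G, G) _ => q.1 * q.2)
    · rintro ⟨y, z⟩ hq
      rw [Finset.mem_sigma] at hq
      obtain ⟨hy, hz⟩ := hq
      have hc := hcop y hy y z hz
      rw [Finset.mem_filter] at hy hz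
      refine Finset.mem_filter.2 ⟨Finset.mem_univ _, ?_⟩
      show n ∣ orderOf (y * z)
      rw [hz.2.1.orderOf_mul_eq_mul_orderOf_of_coprime hc]
      exact Dvd.dvd.mul_right hy.2.2 _
    · rintro ⟨y, z⟩ hq ⟨y', z'⟩ hq' h
      rw [Finset.mem_sigma] at hq hq'
      obtain ⟨hy, hz⟩ := hq
      obtain ⟨hy', hz'⟩ := hq'
      have hyz : Commute y z := (Finset.mem_filter.1 hz).2.1
      have hyz' : Commute y' z' := (Finset.mem_filter.1 hz').2.1
      obtain ⟨e1, e2⟩ := coprime_decomp_unique hyz hyz' h (hcop y hy y z hz) (hcop y hy y' z' hz')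
        (hcop y' hy' y z hz) (hcop y' hy' y' z' hz')
      subst e1
      subst e2
      rfl
    · intro g hg
      rw [Finset.mem_filter] at hg
      obtain ⟨a, c, hac, hcopac, ha, hc⟩ :=
        exists_pi_decomp {q | q ∣ n} (orderOf g) (orderOf_pos g).ne'
      obtain ⟨y, z, hyz, hprod, hoy, hoz⟩ := exists_coprime_split g a c hac hcopac
      have hcn : Nat.Coprime c n := by
        apply Nat.coprime_of_dvd
        intro q hq hqc hqn
        exact hc q hq hqc hqn
      refine ⟨⟨y, z⟩, ?_, hprod⟩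
      rw [Finset.mem_sigma]
      constructor
      · refine Finset.mem_filter.2 ⟨Finset.mem_univ _, ?_, ?_⟩
        · intro q hq hqy
          rw [hoy] at hqy
          exact ha q hq hqy
        · rw [hoy]
          have : n ∣ a * c := hac ▸ hg.2
          exact (hcn.symm).dvd_of_dvd_mul_right this
      · refine Finset.mem_filter.2 ⟨Finset.mem_univ _, hyz, ?_⟩
        rw [hoz]; exact hcn
  rw [e1, hcard, Finset.card_sigma]
  apply dvd_sum_conj Y
  · intro y hy g
    rw [Finset.mem_filter] at hy ⊢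
    have : SemiconjBy g y (g * y * g⁻¹) := by unfold SemiconjBy; group
    have ho : orderOf (g * y * g⁻¹) = orderOf y := this.orderOf_eq.symm
    refine ⟨Finset.mem_univ _, ?_, ?_⟩
    · intro q hq hqy
      rw [ho] at hqy
      exact hy.2.1 q hq hqy
    · rw [ho]; exact hy.2.2
  · intro g y
    apply Finset.card_bij' (fun z _ => g⁻¹ * z * g) (fun z _ => g * z * g⁻¹)
    · intro z hz
      rw [Finset.mem_filter] at hz ⊢
      refine ⟨Finset.mem_univ _, ?_, ?_⟩
      · have h1 := hz.2.1
        unfold Commute SemiconjBy at h1 ⊢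
        calc y * (g⁻¹ * z * g) = g⁻¹ * ((g * y * g⁻¹) * z) * g := by group
          _ = g⁻¹ * (z * (g * y * g⁻¹)) * g := by rw [h1]
          _ = g⁻¹ * z * g * y := by group
      · have : SemiconjBy g⁻¹ z (g⁻¹ * z * g) := by unfold SemiconjBy; group
        rw [← this.orderOf_eq]; exact hz.2.2
    · intro z hz
      rw [Finset.mem_filter] at hz ⊢
      refine ⟨Finset.mem_univ _, ?_, ?_⟩
      · have h1 := hz.2.1
        unfold Commute SemiconjBy at h1 ⊢
        calc g * y * g⁻¹ * (g * z * g⁻¹) = g * (y * z) * g⁻¹ := by group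
          _ = g * (z * y) * g⁻¹ := by rw [h1]
          _ = g * z * g⁻¹ * (g * y * g⁻¹) := by group
      · have : SemiconjBy g z (g * z * g⁻¹) := by unfold SemiconjBy; group
        rw [← this.orderOf_eq]; exact hz.2.2
    · intro z _; group
    · intro z _; group
  · intro y hy
    set C := Subgroup.centralizer ({y} : Set G) with hC
    set bC := cop n (Nat.card C) with hbC
    have h1 : (Zy y).card = Nat.card {z : C // z ^ bC = 1} := by
      rw [Nat.card_eq_fintype_card, ← Finset.card_univ]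
      symm
      apply Finset.card_bij (fun (z : {z : C // z ^ bC = 1}) _ => ((z : C) : G))
      · intro z _
        refine Finset.mem_filter.2 ⟨Finset.mem_univ _, ?_, ?_⟩
        · have := (z : C).2
          rw [Subgroup.mem_centralizer_iff] at this
          exact this y (Set.mem_singleton _)
        · have h2 : orderOf ((z : C) : G) ∣ bC := by
            rw [Subgroup.orderOf_coe]
            exact orderOf_dvd_of_pow_eq_one z.2
          exact Nat.Coprime.coprime_dvd_left h2 (cop_coprime n _ Nat.card_pos)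
      · intro a _ c _ hac
        exact Subtype.ext (Subtype.ext hac)
      · intro z hz
        rw [Finset.mem_filter] at hz
        have hzC : z ∈ C := by
          rw [Subgroup.mem_centralizer_iff]
          intro w hw
          rw [Set.mem_singleton_iff] at hw
          rw [hw]
          exact hz.2.1
        refine ⟨⟨⟨z, hzC⟩, ?_⟩, Finset.mem_univ _, rfl⟩
        rw [← orderOf_dvd_iff_pow_eq_one]
        apply dvd_cop
        · exact orderOf_dvd_natCard _
        · rw [← Subgroup.orderOf_coe]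
          exact hz.2.2
    have h2 : bC ∣ Nat.card {z : C // z ^ bC = 1} := frobenius_dvd bC (cop_dvd n _)
    rw [← h1] at h2
    have hCdvd : Nat.card C ∣ Nat.card G := Subgroup.card_subgroup_dvd_card C
    set c := Nat.card G / Nat.card C with hc
    have hG : Nat.card G = c * Nat.card C := (Nat.div_mul_cancel hCdvd).symm
    have h3 : b ∣ c * bC := by
      have h4 : b ∣ (c * bC) * Nat.gcd (Nat.card C) (n ^ Nat.card C) := by
        rw [mul_assoc, mul_comm bC, gcd_mul_cop, ← hG]
        exact cop_dvd n _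
      have h5 : Nat.Coprime b (Nat.gcd (Nat.card C) (n ^ Nat.card C)) :=
        Nat.Coprime.coprime_dvd_right (Nat.gcd_dvd_right _ _) (Nat.Coprime.pow_right _ hbn)
      exact h5.dvd_of_dvd_mul_right h4
    exact h3.trans (Nat.mul_dvd_mul_left c h2)

end Cfsg.Agent.S3994
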