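import Cfsg.Statements.S3995
import Cfsg.Agent.Helper20.OrderCount
import Cfsg.Agent.Helper1.UniqueOrderP
import Mathlib

set_option autoImplicit false
open Cfsg

namespace Cfsg.Agent.S3995

open Cfsg.Agent.Helper20

section
universe u
variable {G : Type u} [Group G]

theorem card_orderOf_one : Nat.card {x : G // orderOf x = 1} = 1 := by
  rw [Nat.card_eq_one_iff_unique]
  refine ⟨⟨fun a b => Subtype.ext ?_⟩, ⟨⟨1, orderOf_one⟩⟩⟩
  rw [orderOf_eq_one_iff.1 a.2, orderOf_eq_one_iff.1 b.2]

/-- if there is no element of order `p ^ 2`, the `p`-elements have order `1` or `p` -/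
theorem orderOf_mem_pair [Finite G] (p : ℕ) (hp : p.Prime) (hno : ∀ g : G, orderOf g ≠ p ^ 2)
    (a : ℕ) (g : G) (hg : g ^ p ^ a = 1) : orderOf g ∈ ({1, p} : Finset ℕ) := by
  obtain ⟨i, _, hi⟩ := (Nat.dvd_prime_pow hp).1 (orderOf_dvd_of_pow_eq_one hg)
  simp only [Finset.mem_insert, Finset.mem_singleton]
  rcases Nat.lt_or_ge i 2 with h | h
  · interval_cases i
    · left; simpa using hi
    · right; simpa using hi
  · exfalso
    apply hno (g ^ p ^ (i - 2))
    rw [orderOf_pow_of_dvd (pow_ne_zero _ hp.ne_zero) (hi ▸ pow_dvd_pow p (Nat.sub_le i 2)), hi]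
    rw [Nat.pow_div (Nat.sub_le i 2) hp.pos]
    congr 1
    omega

/-- Frobenius for the full `p`-part when no element has order `p ^ 2` -/
theorem ppart_dvd [Finite G] (p : ℕ) (hp : p.Prime) (hno : ∀ g : G, orderOf g ≠ p ^ 2)
    (a : ℕ) (ha : 1 ≤ a) (hdvd : p ^ a ∣ Nat.card G) :
    p ^ a ∣ 1 + Nat.card {x : G // orderOf x = p} := by
  have h := dvd_sum_card_orderOf (G := G) (p ^ a) hdvd {1, p}
    (by
      intro d hd
      simp only [Finset.mem_insert, Finset.mem_singleton] at hd
      rcases hd with rfl | rfl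
      · exact one_dvd _
      · exact dvd_pow_self _ (by omega))
    (fun g hg => orderOf_mem_pair p hp hno a g hg)
  rwa [Finset.sum_pair hp.one_lt.ne, card_orderOf_one] at h

/-- no element of order `p ^ 2` when all the relevant orders have the same count `n` -/
theorem no_order_sq [Finite G] (n p : ℕ) (hp : p.Prime)
    (hcp : Nat.card {x : G // orderOf x = p} = n)
    (hcp2 : ∀ g : G, orderOf g = p ^ 2 → Nat.card {x : G // orderOf x = p ^ 2} = n)
    (hdvd : p ∣ Nat.card G) : ∀ g : G, orderOf g ≠ p ^ 2 := by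
  intro g hg
  have h1 : p ∣ n := by
    have h2 := totient_dvd_card_orderOf (G := G) (p ^ 2)
    rw [hcp2 g hg, Nat.totient_prime_pow hp (by norm_num)] at h2
    have : p ∣ p ^ (2 - 1) * (p - 1) := by
      simp only [Nat.add_one_sub_one, pow_one]
      exact dvd_mul_right p _
    exact this.trans h2
  have h2 : p ∣ 1 + n := by
    have h := dvd_sum_card_orderOf (G := G) p hdvd {1, p}
      (by
        intro d hd
        simp only [Finset.mem_insert, Finset.mem_singleton] at hd
        rcases hd with rfl | rfl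
        · exact one_dvd _
        · exact dvd_rfl)
      (fun g hg => by
        simp only [Finset.mem_insert, Finset.mem_singleton]
        exact (Nat.dvd_prime hp).1 (orderOf_dvd_of_pow_eq_one hg))
    rwa [Finset.sum_pair hp.one_lt.ne, card_orderOf_one, hcp] at h
  have h3 : p ∣ 1 := (Nat.dvd_add_left h1).1 h2
  exact hp.one_lt.ne' (Nat.dvd_one.1 h3)

theorem caseA [Finite G] (n : ℕ) (hn1 : n ≠ 1) (hnt : Nontrivial G)
    (hall : ∀ g : G, g ≠ 1 → Nat.card {x : G // orderOf x = orderOf g} = n) :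
    ∃ p : ℕ, p.Prime ∧ IsPGroup p G ∧ 3 ≤ Nat.card G ∧ Monoid.exponent G = p := by
  classical
  haveI : Fintype G := Fintype.ofFinite G
  have hcp : ∀ p : ℕ, p.Prime → p ∣ Nat.card G → Nat.card {x : G // orderOf x = p} = n := by
    intro p hp hdvd
    haveI := Fact.mk hp
    obtain ⟨g, hg⟩ := exists_prime_orderOf_dvd_card' p hdvd
    have := hall g (by rintro rfl; rw [orderOf_one] at hg; exact hp.ne_one hg.symm)
    rwa [hg] at this
  have hno : ∀ p : ℕ, p.Prime → p ∣ Nat.card G → ∀ g : G, orderOf g ≠ p ^ 2 := by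
    intro p hp hdvd
    apply no_order_sq n p hp (hcp p hp hdvd) _ hdvd
    intro g hg
    have := hall g (by
      rintro rfl
      rw [orderOf_one] at hg
      have := hp.one_lt
      nlinarith)
    rwa [hg] at this
  have hG0 : Nat.card G ≠ 0 := Nat.card_pos.ne'
  -- |G| divides 1 + n
  have hdiv : Nat.card G ∣ 1 + n := by
    rw [← Nat.factorization_prime_le_iff_dvd hG0 (by omega)]
    intro p hp
    by_cases hdvd : p ∣ Nat.card G
    · have ha : 1 ≤ (Nat.card G).factorization p :=
        hp.factorization_pos_of_dvd hG0 hdvd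
      have h1 := ppart_dvd (G := G) p hp (hno p hp hdvd) _ ha (Nat.ordProj_dvd _ _)
      rw [hcp p hp hdvd] at h1
      exact (hp.pow_dvd_iff_le_factorization (by omega)).1 h1
    · rw [Nat.factorization_eq_zero_of_not_dvd hdvd]
      exact Nat.zero_le _
  -- choose a prime
  obtain ⟨p, hp, hpdvd⟩ := Nat.exists_prime_and_dvd
    (show Nat.card G ≠ 1 from fun h => by
      have := Finite.one_lt_card_iff_nontrivial.2 hnt
      omega)
  have hsum : Nat.card {g : G // g ^ p = 1} = 1 + n := by
    rw [card_pow_eq_one_eq_sum (G := G) p {1, p}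
      (by
        intro d hd
        simp only [Finset.mem_insert, Finset.mem_singleton] at hd
        rcases hd with rfl | rfl
        · exact one_dvd _
        · exact dvd_rfl)
      (fun g hg => by
        simp only [Finset.mem_insert, Finset.mem_singleton]
        exact (Nat.dvd_prime hp).1 (orderOf_dvd_of_pow_eq_one hg)),
      Finset.sum_pair hp.one_lt.ne, card_orderOf_one, hcp p hp hpdvd]
  have hle : 1 + n ≤ Nat.card G := by
    rw [← hsum]
    exact Nat.card_le_card_of_injective Subtype.val Subtype.val_injective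
  have hcard : Nat.card G = 1 + n := le_antisymm (Nat.le_of_dvd (by omega) hdiv) hle
  have hallp : ∀ g : G, g ^ p = 1 := by
    have e : Nat.card {g : G // g ^ p = 1} = (Finset.univ.filter (fun g : G => g ^ p = 1)).card :=
      natCard_subtype_eq_card_filter _
    rw [hsum, ← hcard, Nat.card_eq_fintype_card] at e
    have := (Finset.card_eq_iff_eq_univ _).1 e.symm
    intro g
    have hg : g ∈ Finset.univ.filter (fun g : G => g ^ p = 1) := by
      rw [this]; exact Finset.mem_univ g
    simpa using hg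
  have hnpos : 1 ≤ n := by
    haveI := Fact.mk hp
    obtain ⟨g, hg⟩ := exists_prime_orderOf_dvd_card' p hpdvd
    rw [← hcp p hp hpdvd]
    exact Nat.card_pos_iff.2 ⟨⟨⟨g, hg⟩⟩, inferInstance⟩
  refine ⟨p, hp, ?_, by omega, ?_⟩
  · intro g
    exact ⟨1, by rw [pow_one]; exact hallp g⟩
  · have h1 : Monoid.exponent G ∣ p := Monoid.exponent_dvd_of_forall_pow_eq_one hallp
    rcases (Nat.dvd_prime hp).1 h1 with h | h
    · exfalso
      have := Monoid.exp_eq_one_iff.1 h
      exact not_subsingleton G this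
    · exact h

theorem exists_order_sq (g : G) (p j e : ℕ) (hp : p.Prime) (he : 0 < e) (hj : 2 ≤ j)
    (hg : orderOf g = p ^ j * e) : ∃ h : G, orderOf h = p ^ 2 := by
  refine ⟨g ^ (p ^ (j - 2) * e), ?_⟩
  have hdvd : p ^ (j - 2) * e ∣ orderOf g := by
    rw [hg]; exact Nat.mul_dvd_mul (pow_dvd_pow p (Nat.sub_le j 2)) dvd_rfl
  have hne : p ^ (j - 2) * e ≠ 0 := Nat.mul_ne_zero (pow_ne_zero _ hp.ne_zero) he.ne'
  rw [orderOf_pow_of_dvd hne hdvd, hg]
  have : p ^ j * e = p ^ 2 * (p ^ (j - 2) * e) := by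
    rw [← mul_assoc, ← pow_add]; congr 2; omega
  rw [this, Nat.mul_div_cancel _ (Nat.pos_of_ne_zero hne)]

theorem sum6 (f : ℕ → ℕ) (p : ℕ) (hp3 : 3 ≤ p) (hodd : p % 2 = 1) :
    ∑ d ∈ ({1, 2, 4, p, 2 * p, 4 * p} : Finset ℕ), f d =
      f 1 + f 2 + f 4 + f p + f (2 * p) + f (4 * p) := by
  rw [Finset.sum_insert, Finset.sum_insert, Finset.sum_insert, Finset.sum_insert, Finset.sum_pair]
  · ring
  · omega
  · simp only [Finset.mem_insert, Finset.mem_singleton]; omega
  · simp only [Finset.mem_insert, Finset.mem_singleton]; omega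
  · simp only [Finset.mem_insert, Finset.mem_singleton]; omega
  · simp only [Finset.mem_insert, Finset.mem_singleton]; omega

theorem sum4 (f : ℕ → ℕ) (p q : ℕ) (hp : 2 ≤ p) (hq : 2 ≤ q) (hpq : p ≠ q) :
    ∑ d ∈ ({1, p, q, p * q} : Finset ℕ), f d = f 1 + f p + f q + f (p * q) := by
  have h1 : p < p * q := by nlinarith
  have h2 : q < p * q := by nlinarith
  rw [Finset.sum_insert, Finset.sum_insert, Finset.sum_pair]
  · ring
  · omega
  · simp only [Finset.mem_insert, Finset.mem_singleton]; omega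
  · simp only [Finset.mem_insert, Finset.mem_singleton]; omega

/-- counts for an order that may or may not occur -/
theorem count_zero_or [Finite G] (n d : ℕ) (hd : 3 ≤ d)
    (hall3 : ∀ g : G, 3 ≤ orderOf g → Nat.card {x : G // orderOf x = orderOf g} = n) :
    Nat.card {x : G // orderOf x = d} = 0 ∨ Nat.card {x : G // orderOf x = d} = n := by
  by_cases h : ∃ g : G, orderOf g = d
  · obtain ⟨g, hg⟩ := h
    right
    have := hall3 g (hg ▸ hd)
    rwa [hg] at this
  · left
    push Not at h
    haveI : IsEmpty {x : G // orderOf x = d} := ⟨fun x => h x.1 x.2⟩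
    exact Nat.card_of_isEmpty

theorem oddprime_facts [Finite G] (n p : ℕ) (hp : p.Prime) (hp2 : p ≠ 2)
    (hall3 : ∀ g : G, 3 ≤ orderOf g → Nat.card {x : G // orderOf x = orderOf g} = n)
    (hdvd : p ∣ Nat.card G) :
    Nat.card {x : G // orderOf x = p} = n ∧ (∀ g : G, orderOf g ≠ p ^ 2) ∧
      p ^ (Nat.card G).factorization p ∣ 1 + n := by
  have hp3 : 3 ≤ p := by
    have := hp.two_le
    omega
  haveI := Fact.mk hp
  obtain ⟨g, hg⟩ := exists_prime_orderOf_dvd_card' p hdvd
  have hcp : Nat.card {x : G // orderOf x = p} = n := by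
    have := hall3 g (hg ▸ hp3)
    rwa [hg] at this
  have hno : ∀ g : G, orderOf g ≠ p ^ 2 := by
    apply no_order_sq n p hp hcp _ hdvd
    intro g hg
    have : 3 ≤ orderOf g := by rw [hg]; nlinarith
    have h := hall3 g this
    rwa [hg] at h
  refine ⟨hcp, hno, ?_⟩
  have hG0 : Nat.card G ≠ 0 := Nat.card_pos.ne'
  have ha : 1 ≤ (Nat.card G).factorization p := hp.factorization_pos_of_dvd hG0 hdvd
  have h1 := ppart_dvd (G := G) p hp hno _ ha (Nat.ordProj_dvd _ _)
  rwa [hcp] at h1

theorem invol_central (z : G) (hz : orderOf z = 2) (huniq : ∀ g : G, orderOf g = 2 → g = z)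
    (g : G) : g * z = z * g := by
  have h1 : orderOf (g * z * g⁻¹) = 2 := by
    have := orderOf_injective (MulAut.conj g).toMonoidHom (MulAut.conj g).injective z
    rw [← hz]
    simpa using this
  have h2 := huniq _ h1
  calc g * z = (g * z * g⁻¹) * g := by group
    _ = z * g := by rw [h2]

theorem exists_order_two_mul (z x : G) (p : ℕ) (hp2 : p % 2 = 1) (hz : orderOf z = 2)
    (hx : orderOf x = p) (hc : z * x = x * z) : orderOf (z * x) = 2 * p := by
  have hcop : (orderOf z).Coprime (orderOf x) := by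
    rw [hz, hx]
    exact (Nat.coprime_two_left).2 (Nat.odd_iff.2 hp2)
  rw [Commute.orderOf_mul_eq_mul_orderOf_of_coprime (show Commute z x from hc) hcop, hz, hx]

/-- a unique involution and `4 ∣ |G|` give an element of order 4 -/
theorem exists_order_four [Finite G] (z : G) (hz : orderOf z = 2)
    (huniq : ∀ g : G, orderOf g = 2 → g = z) (h4 : 4 ∣ Nat.card G) : ∃ u : G, orderOf u = 4 := by
  haveI : Fact (Nat.Prime 2) := ⟨Nat.prime_two⟩
  by_contra hcon
  push Not at hcon
  let T : Sylow 2 G := default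
  have hT4 : 2 ^ 2 ∣ Nat.card (T : Subgroup G) := T.pow_dvd_card_of_pow_dvd_card (by simpa using h4)
  have hTle : (T : Subgroup G) ≤ Subgroup.zpowers z := by
    intro t ht
    obtain ⟨i, hi⟩ := (IsPGroup.iff_orderOf.1 T.isPGroup') ⟨t, ht⟩
    rw [Subgroup.orderOf_mk] at hi
    rcases Nat.lt_or_ge i 2 with h | h
    · interval_cases i
      · rw [pow_zero, orderOf_eq_one_iff] at hi
        rw [hi]; exact Subgroup.one_mem _
      · rw [pow_one] at hi
        rw [huniq t hi]; exact Subgroup.mem_zpowers z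
    · exfalso
      obtain ⟨u, hu⟩ := exists_order_sq t 2 i 1 Nat.prime_two one_pos h (by rw [hi, mul_one])
      exact hcon u (by rw [hu]; norm_num)
  have h5 := Subgroup.card_le_of_le hTle
  rw [Nat.card_zpowers, hz] at h5
  have h6 : 2 ^ 2 ≤ Nat.card (T : Subgroup G) := Nat.le_of_dvd Nat.card_pos hT4
  omega

theorem not_four_dvd [Finite G] (n : ℕ) (z : G) (hz : orderOf z = 2)
    (huniq : ∀ g : G, orderOf g = 2 → g = z)
    (hc2 : Nat.card {x : G // orderOf x = 2} = 1)
    (hall3 : ∀ g : G, 3 ≤ orderOf g → Nat.card {x : G // orderOf x = orderOf g} = n)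
    (p : ℕ) (hp : p.Prime) (hp2 : p ≠ 2) (hdvd : p ∣ Nat.card G) : ¬ 4 ∣ Nat.card G := by
  intro h4
  have hp3 : 3 ≤ p := by have := hp.two_le; omega
  have hodd : p % 2 = 1 := by
    rcases hp.eq_two_or_odd with h | h
    · exact absurd h hp2
    · exact h
  obtain ⟨hcp, hno, hpn⟩ := oddprime_facts n p hp hp2 hall3 hdvd
  obtain ⟨u, hu⟩ := exists_order_four z hz huniq h4
  have hc4 : Nat.card {x : G // orderOf x = 4} = n := by
    have := hall3 u (by rw [hu]; norm_num)
    rwa [hu] at this
  haveI := Fact.mk hp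
  obtain ⟨x, hx⟩ := exists_prime_orderOf_dvd_card' p hdvd
  have hzx : orderOf (z * x) = 2 * p :=
    exists_order_two_mul z x p hodd hz hx (invol_central z hz huniq x).symm
  have hc2p : Nat.card {x : G // orderOf x = 2 * p} = n := by
    have := hall3 (z * x) (by rw [hzx]; omega)
    rwa [hzx] at this
  set b := (Nat.card G).factorization p with hb
  have hG0 : Nat.card G ≠ 0 := Nat.card_pos.ne'
  have hb1 : 1 ≤ b := hp.factorization_pos_of_dvd hG0 hdvd
  have hcop : Nat.Coprime 4 (p ^ b) := by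
    apply Nat.Coprime.pow_right
    have : Nat.Coprime 2 p := (Nat.coprime_two_left).2 (Nat.odd_iff.2 hodd)
    exact Nat.Coprime.pow_left 2 this
  have hm : 4 * p ^ b ∣ Nat.card G :=
    Nat.Coprime.mul_dvd_of_dvd_of_dvd hcop h4 (Nat.ordProj_dvd _ _)
  have hsum := dvd_sum_card_orderOf (G := G) (4 * p ^ b) hm {1, 2, 4, p, 2 * p, 4 * p}
    (by
      intro d hd
      have hpb : p ∣ p ^ b := dvd_pow_self p (by omega)
      simp only [Finset.mem_insert, Finset.mem_singleton] at hd
      rcases hd with rfl | rfl | rfl | rfl | rfl | rfl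
      · exact one_dvd _
      · exact Dvd.dvd.mul_right (by norm_num) _
      · exact Dvd.dvd.mul_right dvd_rfl _
      · exact Dvd.dvd.mul_left hpb _
      · exact Nat.mul_dvd_mul (by norm_num) hpb
      · exact Nat.mul_dvd_mul dvd_rfl hpb)
    (by
      intro g hg
      have hd := orderOf_dvd_of_pow_eq_one hg
      obtain ⟨d₁, d₂, hd₁, hd₂, hd12⟩ := (Nat.dvd_mul).1 hd
      obtain ⟨j, _, hj⟩ := (Nat.dvd_prime_pow hp).1 hd₂
      have hd₁pos : 0 < d₁ := Nat.pos_of_dvd_of_pos hd₁ (by norm_num)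
      have hj1 : j ≤ 1 := by
        by_contra hj2
        obtain ⟨h', hh'⟩ := exists_order_sq g p j d₁ hp hd₁pos (by omega)
          (by rw [← hd12, hj, mul_comm])
        exact hno h' hh'
      have hd₁' : d₁ = 1 ∨ d₁ = 2 ∨ d₁ = 4 := by
        have h1 : d₁ ∈ Nat.divisors 4 := Nat.mem_divisors.2 ⟨hd₁, by norm_num⟩
        have h4 : Nat.divisors 4 = {1, 2, 4} := by decide
        rw [h4] at h1
        simpa using h1
      have hj' : j = 0 ∨ j = 1 := by omega
      simp only [Finset.mem_insert, Finset.mem_singleton]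
      rw [← hd12, hj]
      rcases hj' with rfl | rfl
      · rw [pow_zero, mul_one]
        rcases hd₁' with rfl | rfl | rfl <;> simp
      · rw [pow_one]
        rcases hd₁' with rfl | rfl | rfl <;> simp)
  rw [sum6 _ p hp3 hodd, card_orderOf_one, hc2, hc4, hcp, hc2p] at hsum
  have hp_sum : p ∣ 1 + 1 + n + n + n + Nat.card {x : G // orderOf x = 4 * p} :=
    (Dvd.dvd.mul_left (dvd_pow_self p (by omega : b ≠ 0)) 4).trans hsum
  have hp1n : p ∣ 1 + n := (dvd_pow_self p (by omega : b ≠ 0)).trans hpn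
  rcases count_zero_or n (4 * p) (by omega) hall3 with h0 | h0
  · rw [h0] at hp_sum
    have h3 : p ∣ 3 * (1 + n) := Dvd.dvd.mul_left hp1n 3
    have : p ∣ 3 * (1 + n) - (1 + 1 + n + n + n + 0) := Nat.dvd_sub h3 hp_sum
    have h1 : 3 * (1 + n) - (1 + 1 + n + n + n + 0) = 1 := by omega
    rw [h1] at this
    exact hp.one_lt.ne' (Nat.dvd_one.1 this)
  · rw [h0] at hp_sum
    have h3 : p ∣ 4 * (1 + n) := Dvd.dvd.mul_left hp1n 4
    have : p ∣ 4 * (1 + n) - (1 + 1 + n + n + n + n) := Nat.dvd_sub h3 hp_sum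
    have h1 : 4 * (1 + n) - (1 + 1 + n + n + n + n) = 2 := by omega
    rw [h1] at this
    have := Nat.le_of_dvd (by norm_num) this
    omega

theorem odd_prime_unique [Finite G] (n : ℕ)
    (hall3 : ∀ g : G, 3 ≤ orderOf g → Nat.card {x : G // orderOf x = orderOf g} = n)
    (p q : ℕ) (hp : p.Prime) (hq : q.Prime) (hp2 : p ≠ 2) (hq2 : q ≠ 2)
    (hpd : p ∣ Nat.card G) (hqd : q ∣ Nat.card G) : p = q := by
  by_contra hpq
  have hp3 : 3 ≤ p := by have := hp.two_le; omega
  have hq3 : 3 ≤ q := by have := hq.two_le; omega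
  obtain ⟨hcp, hnop, hpn⟩ := oddprime_facts n p hp hp2 hall3 hpd
  obtain ⟨hcq, hnoq, hqn⟩ := oddprime_facts n q hq hq2 hall3 hqd
  set b := (Nat.card G).factorization p with hb
  set c := (Nat.card G).factorization q with hc
  have hG0 : Nat.card G ≠ 0 := Nat.card_pos.ne'
  have hb1 : 1 ≤ b := hp.factorization_pos_of_dvd hG0 hpd
  have hc1 : 1 ≤ c := hq.factorization_pos_of_dvd hG0 hqd
  have hcop : Nat.Coprime (p ^ b) (q ^ c) :=
    Nat.Coprime.pow b c ((Nat.coprime_primes hp hq).2 hpq)
  have hm : p ^ b * q ^ c ∣ Nat.card G :=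
    Nat.Coprime.mul_dvd_of_dvd_of_dvd hcop (Nat.ordProj_dvd _ _) (Nat.ordProj_dvd _ _)
  have hpb : p ∣ p ^ b := dvd_pow_self p (by omega)
  have hqc : q ∣ q ^ c := dvd_pow_self q (by omega)
  have hsum := dvd_sum_card_orderOf (G := G) (p ^ b * q ^ c) hm {1, p, q, p * q}
    (by
      intro d hd
      simp only [Finset.mem_insert, Finset.mem_singleton] at hd
      rcases hd with rfl | rfl | rfl | rfl
      · exact one_dvd _
      · exact Dvd.dvd.mul_right hpb _
      · exact Dvd.dvd.mul_left hqc _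
      · exact Nat.mul_dvd_mul hpb hqc)
    (by
      intro g hg
      have hd := orderOf_dvd_of_pow_eq_one hg
      obtain ⟨d₁, d₂, hd₁, hd₂, hd12⟩ := (Nat.dvd_mul).1 hd
      obtain ⟨i, _, hi⟩ := (Nat.dvd_prime_pow hp).1 hd₁
      obtain ⟨j, _, hj⟩ := (Nat.dvd_prime_pow hq).1 hd₂
      have hi1 : i ≤ 1 := by
        by_contra hi2
        obtain ⟨h', hh'⟩ := exists_order_sq g p i d₂ hp (by rw [hj]; exact pow_pos hq.pos _)
          (by omega) (by rw [← hd12, hi])
        exact hnop h' hh'
      have hj1 : j ≤ 1 := by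
        by_contra hj2
        obtain ⟨h', hh'⟩ := exists_order_sq g q j d₁ hq (by rw [hi]; exact pow_pos hp.pos _)
          (by omega) (by rw [← hd12, hj, mul_comm])
        exact hnoq h' hh'
      have hi' : i = 0 ∨ i = 1 := by omega
      have hj' : j = 0 ∨ j = 1 := by omega
      simp only [Finset.mem_insert, Finset.mem_singleton]
      rw [← hd12, hi, hj]
      rcases hi' with rfl | rfl <;> rcases hj' with rfl | rfl <;> simp)
  rw [sum4 _ p q hp.two_le hq.two_le hpq, card_orderOf_one, hcp, hcq] at hsum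
  have hp_sum : p ∣ 1 + n + n + Nat.card {x : G // orderOf x = p * q} :=
    (Dvd.dvd.mul_right hpb _).trans hsum
  have hp1n : p ∣ 1 + n := hpb.trans hpn
  have hpq3 : 3 ≤ p * q := by nlinarith
  rcases count_zero_or n (p * q) hpq3 hall3 with h0 | h0
  · rw [h0] at hp_sum
    have h3 : p ∣ 2 * (1 + n) := Dvd.dvd.mul_left hp1n 2
    have : p ∣ 2 * (1 + n) - (1 + n + n + 0) := Nat.dvd_sub h3 hp_sum
    have h1 : 2 * (1 + n) - (1 + n + n + 0) = 1 := by omega
    rw [h1] at this
    exact hp.one_lt.ne' (Nat.dvd_one.1 this)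
  · rw [h0] at hp_sum
    have h3 : p ∣ 3 * (1 + n) := Dvd.dvd.mul_left hp1n 3
    have : p ∣ 3 * (1 + n) - (1 + n + n + n) := Nat.dvd_sub h3 hp_sum
    have h1 : 3 * (1 + n) - (1 + n + n + n) = 2 := by omega
    rw [h1] at this
    have := Nat.le_of_dvd (by norm_num) this
    omega

theorem mixed_structure [Finite G] (z : G) (hz : orderOf z = 2)
    (hcen : ∀ g : G, g * z = z * g)
    (p : ℕ) (hp : p.Prime) (hp2 : p ≠ 2) (hdvd : p ∣ Nat.card G)
    (h4 : ¬ 4 ∣ Nat.card G)
    (hprimes : ∀ q : ℕ, q.Prime → q ∣ Nat.card G → q = 2 ∨ q = p)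
    (hno : ∀ g : G, orderOf g ≠ p ^ 2) :
    ∃ (P : Type) (_ : Group P) (_ : Finite P), IsPGroup p P ∧ Monoid.exponent P = p ∧
        Nonempty (G ≃* Multiplicative (ZMod 2) × P) := by
  classical
  haveI := Fact.mk hp
  haveI : Fact (Nat.Prime 2) := ⟨Nat.prime_two⟩
  let S : Sylow p G := default
  have hG0 : Nat.card G ≠ 0 := Nat.card_pos.ne'
  have h2G : 2 ∣ Nat.card G := hz ▸ orderOf_dvd_natCard z
  -- index of S is 2
  have hidx : (S : Subgroup G).index = 2 := by
    have hidx0 : (S : Subgroup G).index ≠ 0 := Subgroup.index_ne_zero_of_finite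
    have hidvd : (S : Subgroup G).index ∣ Nat.card G := Subgroup.index_dvd_card _
    have hnp : ¬ p ∣ (S : Subgroup G).index := S.not_dvd_index
    have hpow : ∃ k, (S : Subgroup G).index = 2 ^ k := by
      by_cases h1 : (S : Subgroup G).index = 1
      · exact ⟨0, by rw [h1, pow_zero]⟩
      · have := Nat.eq_prime_pow_of_unique_prime_dvd hidx0 (p := 2) (fun {q} hq hqd => by
          rcases hprimes q hq (hqd.trans hidvd) with h | h
          · exact h
          · exact absurd (h ▸ hqd) hnp)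
        exact ⟨_, this⟩
    obtain ⟨k, hk⟩ := hpow
    have hk1 : k ≤ 1 := by
      by_contra hk2
      apply h4
      have : (2 : ℕ) ^ 2 ∣ 2 ^ k := pow_dvd_pow 2 (by omega)
      exact (this.trans (hk ▸ hidvd))
    have hk0 : k ≠ 0 := by
      rintro rfl
      rw [pow_zero] at hk
      have hcard := (S : Subgroup G).card_mul_index
      rw [hk, mul_one] at hcard
      obtain ⟨b, hb⟩ := (IsPGroup.iff_card.1 S.isPGroup')
      rw [← hcard, hb] at h2G
      have := (Nat.prime_dvd_prime_iff_eq Nat.prime_two hp).1 (Nat.prime_two.dvd_of_dvd_pow h2G)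
      exact hp2 this.symm
    have : k = 1 := by omega
    rw [hk, this, pow_one]
  have hcardG : Nat.card G = 2 * Nat.card (S : Subgroup G) := by
    rw [← (S : Subgroup G).card_mul_index, hidx, mul_comm]
  let Z : Subgroup G := Subgroup.zpowers z
  have hZcard : Nat.card Z = 2 := by rw [Nat.card_zpowers, hz]
  have hcomm : ∀ (m : Z) (s : (S : Subgroup G)), Commute (Z.subtype m) ((S : Subgroup G).subtype s) := by
    intro m s
    obtain ⟨k, hk⟩ := Subgroup.mem_zpowers_iff.1 m.2
    simp only [Subgroup.coe_subtype]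
    rw [← hk]
    exact ((show Commute z (s : G) from (hcen s).symm)).zpow_left k
  let φ : Z × (S : Subgroup G) →* G := MonoidHom.noncommCoprod Z.subtype (S : Subgroup G).subtype hcomm
  have hφinj : Function.Injective φ := by
    rw [MonoidHom.noncommCoprod_injective]
    refine ⟨Subgroup.subtype_injective _, Subgroup.subtype_injective _, ?_⟩
    rw [Subgroup.range_subtype, Subgroup.range_subtype]
    apply Subgroup.disjoint_of_coprime_natCard
    obtain ⟨b, hb⟩ := (IsPGroup.iff_card.1 S.isPGroup')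
    rw [hZcard, hb]
    apply Nat.Coprime.pow_right
    exact (Nat.coprime_primes Nat.prime_two hp).2 (Ne.symm hp2)
  have hφbij : Function.Bijective φ := by
    rw [Nat.bijective_iff_injective_and_card]
    refine ⟨hφinj, ?_⟩
    rw [Nat.card_prod, hZcard, hcardG]
  let e1 : Z × (S : Subgroup G) ≃* G := MulEquiv.ofBijective φ hφbij
  let e2 : Z ≃* Multiplicative (ZMod 2) :=
    mulEquivOfPrimeCardEq (p := 2) hZcard (by simp)
  let e3 : Shrink.{0} (S : Subgroup G) ≃* (S : Subgroup G) := Shrink.mulEquiv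
  haveI : Finite (Shrink.{0} (S : Subgroup G)) := Finite.of_equiv _ (equivShrink.{0} (S : Subgroup G))
  have hexpS : Monoid.exponent (S : Subgroup G) = p := by
    have h1 : Monoid.exponent (S : Subgroup G) ∣ p := by
      apply Monoid.exponent_dvd_of_forall_pow_eq_one
      intro s
      obtain ⟨i, hi⟩ := (IsPGroup.iff_orderOf.1 S.isPGroup') s
      have hi1 : i ≤ 1 := by
        by_contra hi2
        have hs : orderOf (s : G) = p ^ i := by rw [← hi, Subgroup.orderOf_coe]
        apply hno ((s : G) ^ p ^ (i - 2))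
        rw [orderOf_pow_of_dvd (pow_ne_zero _ hp.ne_zero) (hs ▸ pow_dvd_pow p (Nat.sub_le i 2)), hs]
        rw [Nat.pow_div (Nat.sub_le i 2) hp.pos]
        congr 1
        omega
      rw [← orderOf_dvd_iff_pow_eq_one, hi]
      calc p ^ i ∣ p ^ 1 := pow_dvd_pow p hi1
        _ = p := pow_one p
    rcases (Nat.dvd_prime hp).1 h1 with h | h
    · exfalso
      rw [Monoid.exp_eq_one_iff] at h
      have hSc : Nat.card (S : Subgroup G) = 1 := Nat.card_eq_one_iff_unique.2 ⟨h, ⟨1⟩⟩
      rw [hcardG, hSc, mul_one] at hdvd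
      exact hp2 ((Nat.prime_dvd_prime_iff_eq hp Nat.prime_two).1 hdvd)
    · exact h
  refine ⟨Shrink.{0} (S : Subgroup G), inferInstance, inferInstance, IsPGroup.of_equiv S.isPGroup' e3.symm, ?_, ?_⟩
  · rw [Monoid.exponent_eq_of_mulEquiv e3]
    exact hexpS
  · exact ⟨e1.symm.trans (MulEquiv.prodCongr e2 e3.symm)⟩

theorem no_order_eight [Finite G] (n : ℕ)
    (hc2 : Nat.card {x : G // orderOf x = 2} = 1)
    (hall3 : ∀ g : G, 3 ≤ orderOf g → Nat.card {x : G // orderOf x = orderOf g} = n) :
    ∀ u : G, orderOf u ≠ 8 := by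
  intro u hu
  have hu2 : orderOf (u ^ 2) = 4 := by
    rw [orderOf_pow_of_dvd (by norm_num) (by rw [hu]; norm_num), hu]
  have hc8 : Nat.card {x : G // orderOf x = 8} = n := by
    have := hall3 u (by rw [hu]; norm_num)
    rwa [hu] at this
  have hc4 : Nat.card {x : G // orderOf x = 4} = n := by
    have := hall3 (u ^ 2) (by rw [hu2]; norm_num)
    rwa [hu2] at this
  have h8 : 8 ∣ Nat.card G := hu ▸ orderOf_dvd_natCard u
  have h4 : 4 ∣ Nat.card G := Dvd.dvd.trans (by norm_num) h8
  have hmem : ∀ (a : ℕ) (g : G), g ^ 2 ^ a = 1 → ∃ i, i ≤ a ∧ orderOf g = 2 ^ i := by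
    intro a g hg
    exact (Nat.dvd_prime_pow Nat.prime_two).1 (orderOf_dvd_of_pow_eq_one hg)
  have hs8 := dvd_sum_card_orderOf (G := G) 8 h8 {1, 2, 4, 8}
    (by
      intro d hd
      simp only [Finset.mem_insert, Finset.mem_singleton] at hd
      rcases hd with rfl | rfl | rfl | rfl <;> norm_num)
    (by
      intro g hg
      obtain ⟨i, hi, hgi⟩ := hmem 3 g (by simpa using hg)
      simp only [Finset.mem_insert, Finset.mem_singleton]
      rw [hgi]
      interval_cases i <;> simp)
  have hs4 := dvd_sum_card_orderOf (G := G) 4 h4 {1, 2, 4}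
    (by
      intro d hd
      simp only [Finset.mem_insert, Finset.mem_singleton] at hd
      rcases hd with rfl | rfl | rfl <;> norm_num)
    (by
      intro g hg
      obtain ⟨i, hi, hgi⟩ := hmem 2 g (by simpa using hg)
      simp only [Finset.mem_insert, Finset.mem_singleton]
      rw [hgi]
      interval_cases i <;> simp)
  rw [Finset.sum_insert (by decide), Finset.sum_insert (by decide), Finset.sum_pair (by decide),
    card_orderOf_one, hc2, hc4, hc8] at hs8
  rw [Finset.sum_insert (by decide), Finset.sum_pair (by decide),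
    card_orderOf_one, hc2, hc4] at hs4
  omega

theorem exists_order_eight (g : G) (j : ℕ) (hj : 3 ≤ j) (hg : orderOf g = 2 ^ j) :
    ∃ u : G, orderOf u = 8 := by
  refine ⟨g ^ 2 ^ (j - 3), ?_⟩
  rw [orderOf_pow_of_dvd (pow_ne_zero _ (by norm_num)) (hg ▸ pow_dvd_pow 2 (Nat.sub_le j 3)), hg,
    Nat.pow_div (Nat.sub_le j 3) (by norm_num)]
  have : j - (j - 3) = 3 := by omega
  rw [this]

theorem two_group_case [Finite G] (n : ℕ) (z : G) (hz : orderOf z = 2)
    (huniq : ∀ g : G, orderOf g = 2 → g = z)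
    (hc2 : Nat.card {x : G // orderOf x = 2} = 1)
    (hall3 : ∀ g : G, 3 ≤ orderOf g → Nat.card {x : G // orderOf x = orderOf g} = n)
    (hex : ∃ g : G, 3 ≤ orderOf g)
    (h2 : IsPGroup 2 G) :
    Nonempty (G ≃* QuaternionGroup 2) ∨ (IsCyclic G ∧ Nat.card G = 4) := by
  have hno8 := no_order_eight n hc2 hall3
  have hU : Cfsg.Agent.Helper1.UniqP 2 G := by
    have key : ∀ H : Subgroup G, Nat.card H = 2 → H = Subgroup.zpowers z := by
      intro H hH
      have hnt : Nontrivial H := Finite.one_lt_card_iff_nontrivial.1 (by rw [hH]; norm_num)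
      obtain ⟨g, hg⟩ := exists_ne (1 : H)
      have hg2 : orderOf g = 2 := by
        have hd : orderOf g ∣ 2 := hH ▸ orderOf_dvd_natCard g
        rcases (Nat.dvd_prime Nat.prime_two).1 hd with h | h
        · exact absurd (orderOf_eq_one_iff.1 h) hg
        · exact h
      have hgz : (g : G) = z := huniq _ (by rw [Subgroup.orderOf_coe, hg2])
      have hle : Subgroup.zpowers z ≤ H := by
        rw [Subgroup.zpowers_le, ← hgz]
        exact g.2
      exact (Subgroup.eq_of_le_of_card_ge hle (by rw [Nat.card_zpowers, hz, hH])).symm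
    intro H K hH hK
    rw [key H hH, key K hK]
  obtain ⟨g₀, hg₀⟩ := hex
  obtain ⟨i₀, hi₀⟩ := (IsPGroup.iff_orderOf.1 h2) g₀
  have hi₀2 : 2 ≤ i₀ := by
    by_contra hlt
    have : i₀ = 0 ∨ i₀ = 1 := by omega
    rcases this with rfl | rfl
    · rw [pow_zero] at hi₀; omega
    · rw [pow_one] at hi₀; omega
  have h4G : 4 ∣ Nat.card G := by
    have h1 : (2 : ℕ) ^ 2 ∣ 2 ^ i₀ := pow_dvd_pow 2 hi₀2
    exact (h1.trans (hi₀ ▸ orderOf_dvd_natCard g₀))
  rcases Cfsg.Agent.Helper1.UniqP.two_case h2 hU with hc | ⟨k, ⟨e⟩⟩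
  · right
    refine ⟨hc, ?_⟩
    obtain ⟨g, hg⟩ := hc.exists_generator
    have hog : orderOf g = Nat.card G := orderOf_eq_card_of_forall_mem_zpowers hg
    obtain ⟨a, ha⟩ := (IsPGroup.iff_card.1 h2)
    have ha3 : a < 3 := by
      by_contra hge
      obtain ⟨u, hu⟩ := exists_order_eight g a (by omega) (by rw [hog, ha])
      exact hno8 u hu
    have ha2 : 2 ≤ a := by
      by_contra hlt
      rw [ha] at h4G
      have : a = 0 ∨ a = 1 := by omega
      rcases this with rfl | rfl <;> simp at h4G <;> omega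
    have : a = 2 := by omega
    rw [ha, this]
    norm_num
  · rcases Nat.lt_or_ge k 2 with hk | hk
    · have : k = 0 ∨ k = 1 := by omega
      rcases this with rfl | rfl
      · right
        have e' : G ≃* QuaternionGroup 1 := by simpa using e
        haveI := QuaternionGroup.quaternionGroup_one_isCyclic
        refine ⟨isCyclic_of_surjective e'.symm e'.symm.surjective, ?_⟩
        rw [Nat.card_congr e'.toEquiv, Nat.card_eq_fintype_card, QuaternionGroup.card]
      · left
        have e' : G ≃* QuaternionGroup 2 := by simpa using e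
        exact ⟨e'⟩
    · exfalso
      have h1 : orderOf (e.symm (QuaternionGroup.a 1)) = 2 ^ (k + 1) := by
        rw [MulEquiv.orderOf_eq, QuaternionGroup.orderOf_a_one, pow_succ, mul_comm]
      obtain ⟨u, hu⟩ := exists_order_eight _ (k + 1) (by omega) h1
      exact hno8 u hu

end

/-- Let G be a finite group such that the numbers of elements of each order that occurs in G (the numbers #{g : o(g) = m}, m ranging over the element orders of G) take exactly two values, 1 and some n ≠ 1. Then either G is a p-group of exponent p and order at least 3 for some prime p, or G is the quaternion group of order 8, or G is cyclic of order 4, or G ≅ Z₂ × P for a p-group P of exponent p with p an odd prime. -/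
theorem result {G : Type*} [Group G] [Finite G] (n : ℕ) (hn : n ≠ 1) (h : ((fun m : ℕ => Nat.card {g : G // orderOf g = m}) '' Set.range (orderOf : G → ℕ)) = {1, n}) :
    (∃ p : ℕ, p.Prime ∧ IsPGroup p G ∧ 3 ≤ Nat.card G ∧ Monoid.exponent G = p) ∨
      Nonempty (G ≃* QuaternionGroup 2) ∨ (IsCyclic G ∧ Nat.card G = 4) ∨
      (∃ (p : ℕ) (P : Type) (_ : Group P) (_ : Finite P), p.Prime ∧ p ≠ 2 ∧ IsPGroup p P ∧ Monoid.exponent P = p ∧
        Nonempty (G ≃* Multiplicative (ZMod 2) × P)) := by
  classical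
  have H1 : ∀ g : G, Nat.card {x : G // orderOf x = orderOf g} = 1 ∨
      Nat.card {x : G // orderOf x = orderOf g} = n := by
    intro g
    have hmem : Nat.card {x : G // orderOf x = orderOf g} ∈
        ((fun m : ℕ => Nat.card {g : G // orderOf g = m}) '' Set.range (orderOf : G → ℕ)) :=
      ⟨orderOf g, ⟨g, rfl⟩, rfl⟩
    rw [h] at hmem
    simpa using hmem
  have H2 : ∃ g : G, Nat.card {x : G // orderOf x = orderOf g} = n := by
    have hmem : n ∈
        ((fun m : ℕ => Nat.card {g : G // orderOf g = m}) '' Set.range (orderOf : G → ℕ)) := by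
      rw [h]; simp
    obtain ⟨m, ⟨g, rfl⟩, hm⟩ := hmem
    exact ⟨g, hm⟩
  have L3 : ∀ g : G, Nat.card {x : G // orderOf x = orderOf g} = 1 → orderOf g ≤ 2 := by
    intro g hg
    have hd := totient_dvd_card_orderOf (G := G) (orderOf g)
    rw [hg, Nat.dvd_one, Nat.totient_eq_one_iff] at hd
    omega
  have hall3 : ∀ g : G, 3 ≤ orderOf g → Nat.card {x : G // orderOf x = orderOf g} = n := by
    intro g hg
    rcases H1 g with h1 | h1
    · have := L3 g h1
      omega
    · exact h1
  obtain ⟨g₁, hg₁⟩ := H2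
  have hg₁ne : g₁ ≠ 1 := by
    rintro rfl
    rw [orderOf_one, card_orderOf_one] at hg₁
    exact hn hg₁.symm
  by_cases hB : ∃ z : G, orderOf z = 2 ∧ Nat.card {x : G // orderOf x = 2} = 1
  · obtain ⟨z, hz, hc2⟩ := hB
    have huniq : ∀ g : G, orderOf g = 2 → g = z := by
      intro g hg
      have hc2' := hc2
      rw [Nat.card_eq_one_iff_unique] at hc2'
      obtain ⟨hs, _⟩ := hc2'
      have := hs.elim ⟨g, hg⟩ ⟨z, hz⟩
      exact congrArg Subtype.val this
    have hex : ∃ g : G, 3 ≤ orderOf g := by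
      refine ⟨g₁, ?_⟩
      by_contra hlt
      have hpos := orderOf_pos g₁
      have h12 : orderOf g₁ = 1 ∨ orderOf g₁ = 2 := by omega
      rcases h12 with h1 | h1
      · exact hg₁ne (orderOf_eq_one_iff.1 h1)
      · rw [h1, hc2] at hg₁
        exact hn hg₁.symm
    by_cases hodd : ∃ p : ℕ, p.Prime ∧ p ≠ 2 ∧ p ∣ Nat.card G
    · obtain ⟨p, hp, hp2, hpd⟩ := hodd
      right; right; right
      have h4 := not_four_dvd n z hz huniq hc2 hall3 p hp hp2 hpd
      have hprimes : ∀ q : ℕ, q.Prime → q ∣ Nat.card G → q = 2 ∨ q = p := by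
        intro q hq hqd
        by_cases hq2 : q = 2
        · exact Or.inl hq2
        · exact Or.inr (odd_prime_unique n hall3 q p hq hp hq2 hp2 hqd hpd)
      obtain ⟨_, hno, _⟩ := oddprime_facts n p hp hp2 hall3 hpd
      obtain ⟨P, iG, iF, h1, h2, h3⟩ :=
        mixed_structure z hz (invol_central z hz huniq) p hp hp2 hpd h4 hprimes hno
      exact ⟨p, P, iG, iF, hp, hp2, h1, h2, h3⟩
    · push Not at hodd
      have h2 : IsPGroup 2 G := by
        rw [IsPGroup.iff_card]
        have hG0 : Nat.card G ≠ 0 := Nat.card_pos.ne'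
        exact ⟨_, Nat.eq_prime_pow_of_unique_prime_dvd hG0 (p := 2) (fun {q} hq hqd => by
          by_contra hq2
          exact hodd q hq hq2 hqd)⟩
      rcases two_group_case n z hz huniq hc2 hall3 hex h2 with h3 | h3
      · exact Or.inr (Or.inl h3)
      · exact Or.inr (Or.inr (Or.inl h3))
  · left
    push Not at hB
    have hnt : Nontrivial G := ⟨⟨g₁, 1, hg₁ne⟩⟩
    apply caseA n hn hnt
    intro g hg
    rcases H1 g with h1 | h1
    · exfalso
      have hle := L3 g h1
      have hpos := orderOf_pos g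
      have h12 : orderOf g = 1 ∨ orderOf g = 2 := by omega
      rcases h12 with h2 | h2
      · exact hg (orderOf_eq_one_iff.1 h2)
      · exact hB g h2 (h2 ▸ h1)
    · exact h1

end Cfsg.Agent.S3995
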