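import Cfsg.Statements.S3997
import Mathlib

set_option autoImplicit false
open Cfsg

namespace Cfsg.Agent.S3997

open scoped Classical in
lemma count_dvd {K : Type*} [Group K] [Finite K] (n : ℕ) (hn : 0 < n) :
    Nat.card {g : K // orderOf g ∣ n} = ∑ m ∈ n.divisors, Nat.card {g : K // orderOf g = m} := by
  haveI := Fintype.ofFinite K
  simp only [Nat.card_eq_fintype_card, Fintype.card_subtype]
  rw [Finset.card_eq_sum_card_fiberwise (f := orderOf) (t := n.divisors)]
  · apply Finset.sum_congr rfl
    intro m hm
    congr 1
    ext g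
    simp only [Finset.mem_filter, Finset.mem_univ, true_and]
    constructor
    · rintro ⟨_, h⟩; exact h
    · intro h; exact ⟨h ▸ (Nat.mem_divisors.1 hm).1, h⟩
  · intro g hg
    exact Nat.mem_divisors.2 ⟨(Finset.mem_filter.1 hg).2, hn.ne'⟩

lemma count_all {K : Type*} [Group K] [Finite K] (n : ℕ) (hn : Nat.card K ∣ n) :
    Nat.card {g : K // orderOf g ∣ n} = Nat.card K := by
  apply Nat.card_congr
  exact (Equiv.subtypeUnivEquiv (fun g => dvd_trans (orderOf_dvd_natCard g) hn))

/-- In a group with a normal Sylow `p`-subgroup the number of solutions of `orderOf g ∣ p^a` is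
`p ^ a`, `a` the exponent of `p` in the group order. -/
lemma count_normal_sylow {K : Type*} [Group K] [Finite K] (p : ℕ) [Fact p.Prime] (P : Sylow p K)
    (hP : (P : Subgroup K).Normal) :
    Nat.card {g : K // orderOf g ∣ p ^ (Nat.card K).factorization p} =
      p ^ (Nat.card K).factorization p := by
  rw [← Sylow.card_eq_multiplicity P]
  apply Nat.card_congr
  refine Equiv.subtypeEquivRight ?_
  intro g
  constructor
  · intro hg
    have hpg : IsPGroup p (Subgroup.zpowers g) := by
      rw [IsPGroup.iff_card, Nat.card_zpowers]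
      rw [Sylow.card_eq_multiplicity P] at hg
      obtain ⟨e, _, he⟩ := (Nat.dvd_prime_pow Fact.out).1 hg
      exact ⟨e, he⟩
    obtain ⟨Q, hQ⟩ := hpg.exists_le_sylow
    haveI : Subsingleton (Sylow p K) := (Sylow.unique_of_normal P hP).instSubsingleton
    have : Q = P := Subsingleton.elim _ _
    rw [← this]
    exact hQ (Subgroup.mem_zpowers g)
  · intro hg
    have := orderOf_dvd_natCard (⟨g, hg⟩ : (P : Subgroup K))
    rwa [Subgroup.orderOf_mk] at this

theorem result {G H : Type*} [Group G] [Finite G] [Group H] [Finite H] (hT : (∀ m : ℕ, Nat.card {g : G // orderOf g = m} = Nat.card {h : H // orderOf h = m})) (hG : Group.IsNilpotent G) :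
    Group.IsNilpotent H := by
  have hcount : ∀ n, 0 < n → Nat.card {g : G // orderOf g ∣ n} = Nat.card {h : H // orderOf h ∣ n} := by
    intro n hn
    rw [count_dvd n hn, count_dvd n hn]
    exact Finset.sum_congr rfl (fun m _ => hT m)
  have hcard : Nat.card G = Nat.card H := by
    have h1 := count_all (K := G) (Nat.card G * Nat.card H) (dvd_mul_right _ _)
    have h2 := count_all (K := H) (Nat.card G * Nat.card H) (dvd_mul_left _ _)
    exact h1.symm.trans ((hcount _ (Nat.mul_pos (Nat.card_pos (α := G)) (Nat.card_pos (α := H)))).trans h2)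
  have hGs := (Group.isNilpotent_of_finite_tfae (G := G)).out 0 3
  have hHs := (Group.isNilpotent_of_finite_tfae (G := H)).out 0 3
  rw [hHs]
  intro p hp Q
  haveI := hp
  have hGn := hGs.1 hG p hp
  obtain ⟨P⟩ : Nonempty (Sylow p G) := inferInstance
  have hc := count_normal_sylow p P (hGn P)
  rw [hcount _ (pow_pos hp.out.pos _), hcard] at hc
  -- every Sylow p-subgroup of H has carrier equal to the solution set
  have hcar : ∀ Q' : Sylow p H, ((Q' : Subgroup H) : Set H) = {h : H | orderOf h ∣ p ^ (Nat.card H).factorization p} := by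
    intro Q'
    apply Set.eq_of_subset_of_ncard_le
    · intro h hh
      have := orderOf_dvd_natCard (⟨h, hh⟩ : (Q' : Subgroup H))
      rw [Subgroup.orderOf_mk, Sylow.card_eq_multiplicity] at this
      exact this
    · have h1 : {h : H | orderOf h ∣ p ^ (Nat.card H).factorization p}.ncard = p ^ (Nat.card H).factorization p := by
        exact (Nat.card_coe_set_eq _).symm.trans hc
      have h2 : ((Q' : Subgroup H) : Set H).ncard = p ^ (Nat.card H).factorization p := by
        rw [← Sylow.card_eq_multiplicity Q']; rfl
      rw [h1, h2]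
    · exact Set.toFinite _
  haveI : Subsingleton (Sylow p H) := by
    constructor
    intro Q1 Q2
    apply Sylow.ext
    apply SetLike.coe_injective
    rw [hcar Q1, hcar Q2]
  exact Sylow.normal_of_subsingleton Q

end Cfsg.Agent.S3997
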