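import Cfsg.Statements.S4001
import Mathlib
import Cfsg.Agent.Helper1.FrobGroup
import Cfsg.Agent.Lead.FrobAction

set_option autoImplicit false
set_option linter.style.haveILetI false
set_option maxHeartbeats 800000
open Cfsg

namespace Cfsg.Agent.S4001

/-- Let G be a 2-Frobenius group: it has normal subgroups H < K with K a Frobenius group with kernel H and G/H a Frobenius group with kernel K/H. Then G is solvable; K/H has odd order coprime to the order of H and to the order of G/K (it is the image of an odd-order Hall subgroup); G/K is cyclic; and the prime graph of G has exactly two connected components, both complete: for distinct primes p, q dividing the order of G, G has an element of order pq exactly when p and q either both divide the order of K/H or both do not. -/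
theorem result {G : Type*} [Group G] [Finite G] (H K : Subgroup G) [H.Normal] [K.Normal] (hlt : H < K)
    (hK : ∃ C : Subgroup ↥K, Cfsg.IsFrobeniusComplement C ∧ Cfsg.frobeniusKernel C = (H.subgroupOf K : Set ↥K))
    (hGH : ∃ C : Subgroup (G ⧸ H), Cfsg.IsFrobeniusComplement C ∧ Cfsg.frobeniusKernel C = (K.map (QuotientGroup.mk' H) : Set (G ⧸ H))) :
    Group.IsSolvable G ∧ Odd (Nat.card (↥K ⧸ H.subgroupOf K)) ∧
      Nat.Coprime (Nat.card (↥K ⧸ H.subgroupOf K)) (Nat.card ↥H * Nat.card (G ⧸ K)) ∧ IsCyclic (G ⧸ K) ∧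
      ∀ p q : ℕ, p.Prime → q.Prime → p ≠ q → p ∣ Nat.card G → q ∣ Nat.card G →
        ((∃ g : G, orderOf g = p * q) ↔ (p ∣ Nat.card (↥K ⧸ H.subgroupOf K) ↔ q ∣ Nat.card (↥K ⧸ H.subgroupOf K))) := by
  classical
  obtain ⟨C₁, hC₁, hker₁⟩ := hK
  obtain ⟨C₂, hC₂, hker₂⟩ := hGH
  have hle : H ≤ K := hlt.le
  have hN₁ : ((H.subgroupOf K : Subgroup K) : Set K) = Cfsg.frobeniusKernel C₁ := hker₁.symm
  have hN₂ : ((K.map (QuotientGroup.mk' H) : Subgroup (G ⧸ H)) : Set (G ⧸ H)) =
      Cfsg.frobeniusKernel C₂ := hker₂.symm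
  haveI hKHn : (K.map (QuotientGroup.mk' H)).Normal :=
    Subgroup.Normal.map inferInstance _ (QuotientGroup.mk'_surjective H)
  -- (a) elements of `K \ H` act fixed-point-freely on `H`
  have F3 : ∀ k ∈ K, k ∉ H → ∀ h ∈ H, k * h = h * k → h = 1 := by
    intro k hk hkH h hh hc
    have := Cfsg.Agent.Helper1.FrobGroup.kernel_fpf hC₁ hN₁ (x := ⟨k, hk⟩) (n := ⟨h, hle hh⟩)
      (by rw [Subgroup.mem_subgroupOf]; exact hkH) (by rw [Subgroup.mem_subgroupOf]; exact hh)
      (Subtype.ext hc)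
    exact congrArg Subtype.val this
  -- (b) centralizers of nonidentity elements of `K/H` lie in `K/H`
  have G3 : ∀ x y : G ⧸ H, x ∈ K.map (QuotientGroup.mk' H) → x ≠ 1 → y * x = x * y →
      y ∈ K.map (QuotientGroup.mk' H) := by
    intro x y hx hx1 hc
    exact Cfsg.Agent.Helper1.FrobGroup.kernel_centralizer hC₂ hN₂ hx hx1 hc
  -- complements
  have hcomp₁ := Cfsg.Agent.Helper1.FrobGroup.isComplement' hC₁ hN₁
  have hcomp₂ := Cfsg.Agent.Helper1.FrobGroup.isComplement' hC₂ hN₂
  have hdisj₁ : ∀ c : K, c ∈ C₁ → (c : G) ∈ H → c = 1 := by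
    intro c hc hcH
    exact Cfsg.Agent.Helper1.FrobGroup.disjoint hN₁ (by rw [Subgroup.mem_subgroupOf]; exact hcH) hc
  -- the isomorphism `C₁ ≃* K/H`
  let ψ₀ : C₁ →* G ⧸ H := (QuotientGroup.mk' H).comp (K.subtype.comp C₁.subtype)
  have hψ₀ : ∀ c : C₁, ψ₀ c ∈ K.map (QuotientGroup.mk' H) := fun c =>
    Subgroup.mem_map_of_mem _ c.1.2
  let ψ : C₁ →* (K.map (QuotientGroup.mk' H) : Subgroup (G ⧸ H)) :=
    ψ₀.codRestrict _ hψ₀
  have hψval : ∀ c : C₁, ((ψ c : K.map (QuotientGroup.mk' H)) : G ⧸ H) =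
      QuotientGroup.mk' H ((c : K) : G) := fun c => rfl
  have hψinj : Function.Injective ψ := by
    rw [injective_iff_map_eq_one]
    intro c hc
    have h1 : QuotientGroup.mk' H ((c : K) : G) = 1 := by
      rw [← hψval, hc]; rfl
    rw [QuotientGroup.mk'_apply, QuotientGroup.eq_one_iff] at h1
    exact Subtype.ext (hdisj₁ c.1 c.2 h1)
  have hψsurj : Function.Surjective ψ := by
    rintro ⟨y, hy⟩
    obtain ⟨k, hk, rfl⟩ := Subgroup.mem_map.mp hy
    obtain ⟨⟨n, c⟩, hnc, -⟩ := hcomp₁.existsUnique ⟨k, hk⟩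
    refine ⟨c, ?_⟩
    apply Subtype.ext
    rw [hψval]
    have h1 : k = ((n : K) : G) * ((c : K) : G) := by
      have := congrArg Subtype.val hnc
      simpa using this.symm
    have h2 : ((n : K) : G) ∈ H := Subgroup.mem_subgroupOf.mp n.2
    change ((((c : K) : G) : G ⧸ H)) = ((k : G) : G ⧸ H)
    rw [h1, QuotientGroup.mk_mul, (QuotientGroup.eq_one_iff _).mpr h2, one_mul]
  let e : C₁ ≃* (K.map (QuotientGroup.mk' H) : Subgroup (G ⧸ H)) :=
    MulEquiv.ofBijective ψ ⟨hψinj, hψsurj⟩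
  -- cardinalities
  set nB := Nat.card C₁ with hnB
  have hcardHK : Nat.card (H.subgroupOf K) = Nat.card H :=
    Nat.card_congr (Subgroup.subgroupOfEquivOfLe hle).toEquiv
  have hcardK : Nat.card H * nB = Nat.card K := by
    rw [← hcardHK]; exact hcomp₁.card_mul_card
  have hcardQ : Nat.card (↥K ⧸ H.subgroupOf K) = nB := by
    have h1 := Subgroup.card_eq_card_quotient_mul_card_subgroup (H.subgroupOf K)
    rw [hcardHK, ← hcardK, mul_comm] at h1
    exact (Nat.eq_of_mul_eq_mul_right Nat.card_pos h1).symm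
  have hcardKH : Nat.card (K.map (QuotientGroup.mk' H) : Subgroup (G ⧸ H)) = nB :=
    (Nat.card_congr e.toEquiv).symm
  have hcardGH : nB * Nat.card C₂ = Nat.card (G ⧸ H) := by
    rw [← hcardKH]; exact hcomp₂.card_mul_card
  have hcardGK : Nat.card (G ⧸ K) = Nat.card C₂ := by
    have h1 := Subgroup.card_eq_card_quotient_mul_card_subgroup K
    have h2 := Subgroup.card_eq_card_quotient_mul_card_subgroup H
    rw [← hcardGH] at h2
    rw [h2, ← hcardK] at h1
    have h3 : Nat.card H * nB * Nat.card C₂ = Nat.card H * nB * Nat.card (G ⧸ K) := by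
      linarith
    have hpos : 0 < Nat.card H * nB := Nat.mul_pos Nat.card_pos Nat.card_pos
    exact (Nat.eq_of_mul_eq_mul_left hpos h3).symm
  have hcop₁ : nB.Coprime (Nat.card H) := by
    rw [← hcardHK]; exact Cfsg.Agent.Helper1.FrobGroup.coprime hC₁ hN₁
  have hcop₂ : nB.Coprime (Nat.card C₂) := by
    rw [← hcardKH]; exact (Cfsg.Agent.Helper1.FrobGroup.coprime hC₂ hN₂).symm
  have hcardG : Nat.card G = Nat.card H * nB * Nat.card C₂ := by
    rw [Subgroup.card_eq_card_quotient_mul_card_subgroup H, ← hcardGH]; ring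
  -- (2) `K/H` has odd order
  have hodd : Odd nB := by
    rw [← Nat.not_even_iff_odd]
    intro heven
    haveI : Fact (Nat.Prime 2) := ⟨Nat.prime_two⟩
    obtain ⟨t, ht⟩ := exists_prime_orderOf_dvd_card' (G := C₁) 2 heven.two_dvd
    have ht1 : t ≠ 1 := by
      intro h; rw [h, orderOf_one] at ht; norm_num at ht
    have ht2 : t * t = 1 := by
      rw [← pow_two, ← ht]; exact pow_orderOf_eq_one t
    set x : G ⧸ H := ((e t : K.map (QuotientGroup.mk' H)) : G ⧸ H) with hx
    have hxmem : x ∈ K.map (QuotientGroup.mk' H) := (e t).2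
    have hx1 : x ≠ 1 := by
      intro h
      apply ht1
      apply e.injective
      rw [map_one]
      exact Subtype.ext h
    have hx2 : x * x = 1 := by
      have : e t * e t = 1 := by rw [← map_mul, ht2, map_one]
      exact congrArg Subtype.val this
    have hcent : ∀ y : G ⧸ H, y * x = x * y := by
      intro y
      have hymem : y * x * y⁻¹ ∈ K.map (QuotientGroup.mk' H) := hKHn.conj_mem x hxmem y
      set u : C₁ := e.symm ⟨y * x * y⁻¹, hymem⟩ with hu
      have heu : e u = ⟨y * x * y⁻¹, hymem⟩ := by rw [hu, MulEquiv.apply_symm_apply]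
      have hu1 : u ≠ 1 := by
        intro h
        rw [h, map_one] at heu
        have h1 : y * x * y⁻¹ = 1 := (congrArg Subtype.val heu).symm
        apply hx1
        have e1 : x = y⁻¹ * (y * x * y⁻¹) * y := by group
        rw [e1, h1]; group
      have hu2 : u * u = 1 := by
        apply e.injective
        rw [map_mul, heu, map_one]
        apply Subtype.ext
        change (y * x * y⁻¹) * (y * x * y⁻¹) = 1
        have e1 : (y * x * y⁻¹) * (y * x * y⁻¹) = y * (x * x) * y⁻¹ := by group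
        rw [e1, hx2]; group
      have hut : (u : K) = (t : K) :=
        Cfsg.Agent.Helper1.FrobGroup.unique_involution hC₁ hN₁ u.2 t.2
          (fun h => hu1 (Subtype.ext h)) (fun h => ht1 (Subtype.ext h))
          (congrArg Subtype.val hu2) (congrArg Subtype.val ht2)
      have hut' : u = t := Subtype.ext hut
      rw [hut'] at heu
      have h1 : x = y * x * y⁻¹ := congrArg Subtype.val heu
      calc y * x = (y * x * y⁻¹) * y := by group
        _ = x * y := by rw [← h1]
    have htop : ∀ y : G ⧸ H, y ∈ K.map (QuotientGroup.mk' H) := fun y =>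
      G3 x y hxmem hx1 (hcent y)
    apply hC₂.1
    rw [eq_bot_iff]
    intro c hc
    rw [Subgroup.mem_bot]
    exact Cfsg.Agent.Helper1.FrobGroup.disjoint hN₂ (htop c) hc
  -- `C₁` is a Z-group
  haveI hKfin : Finite K := inferInstance
  have hHKbot : H.subgroupOf K ≠ ⊥ := Cfsg.Agent.Helper1.FrobGroup.kernel_ne_bot hC₁ hN₁
  haveI hZ₁ : IsZGroup C₁ := by
    refine ⟨fun p hp P => ?_⟩
    haveI : Fact p.Prime := ⟨hp⟩
    have hinj : Function.Injective C₁.subtype := C₁.subtype_injective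
    have hPp : IsPGroup p ((P : Subgroup C₁).map C₁.subtype) := P.isPGroup'.map _
    have hPle : (P : Subgroup C₁).map C₁.subtype ≤ C₁ := Subgroup.map_subtype_le _
    rcases Cfsg.Agent.Helper1.fpf_pgroup_cyclic_or_quaternion hHKbot
        ((P : Subgroup C₁).map C₁.subtype) hPp
        (fun a ha a1 => Cfsg.Agent.Helper1.FrobGroup.fpf_form hC₁ hN₁ a (hPle ha) a1)
      with hcyc | ⟨rfl, n, ⟨f⟩⟩
    · have e' := (P : Subgroup C₁).equivMapOfInjective C₁.subtype hinj
      exact isCyclic_of_surjective e'.symm.toMonoidHom e'.symm.surjective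
    · exfalso
      have h1 : Nat.card ((P : Subgroup C₁).map C₁.subtype) = 4 * 2 ^ n := by
        haveI : NeZero (2 ^ n) := ⟨by positivity⟩
        rw [Nat.card_congr f.toEquiv, Nat.card_eq_fintype_card, QuaternionGroup.card]
      have h2 : Nat.card ((P : Subgroup C₁).map C₁.subtype) ∣ nB := by
        rw [Subgroup.card_map_of_injective hinj]
        exact Subgroup.card_subgroup_dvd_card _
      rw [h1] at h2
      have : 2 ∣ nB := Dvd.dvd.trans ⟨2 * 2 ^ n, by ring⟩ h2
      rw [← Nat.not_even_iff_odd] at hodd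
      exact hodd (even_iff_two_dvd.mpr this)
  -- `K/H` is cyclic
  haveI hKHfin : Finite (K.map (QuotientGroup.mk' H) : Subgroup (G ⧸ H)) := inferInstance
  haveI hZKH : IsZGroup (K.map (QuotientGroup.mk' H) : Subgroup (G ⧸ H)) :=
    IsZGroup.of_surjective (f := e.toMonoidHom) e.surjective
  haveI hnilKH : Group.IsNilpotent (K.map (QuotientGroup.mk' H) : Subgroup (G ⧸ H)) :=
    Cfsg.Agent.Helper1.FrobGroup.nilpotent hC₂ hN₂
  have hcycKH : IsCyclic (K.map (QuotientGroup.mk' H) : Subgroup (G ⧸ H)) := inferInstance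
  have hcycC₁ : IsCyclic C₁ := isCyclic_of_surjective e.symm.toMonoidHom e.symm.surjective
  -- `C₂` is abelian, hence cyclic
  have hnB1 : 1 < nB := (Subgroup.one_lt_card_iff_ne_bot _).mpr hC₁.1
  have hC₂comm : IsMulCommutative C₂ := by
    obtain ⟨g, hg⟩ := hcycKH.exists_generator
    set x : G ⧸ H := (g : G ⧸ H) with hx
    have hxmem : x ∈ K.map (QuotientGroup.mk' H) := g.2
    have hx1 : x ≠ 1 := by
      intro h
      have hg1 : g = 1 := Subtype.ext h
      have : Nat.card (K.map (QuotientGroup.mk' H) : Subgroup (G ⧸ H)) = 1 := by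
        rw [Nat.card_eq_one_iff_unique]
        refine ⟨⟨fun a b => ?_⟩, ⟨1⟩⟩
        have ha := hg a
        have hb := hg b
        rw [hg1, Subgroup.zpowers_one_eq_bot, Subgroup.mem_bot] at ha hb
        rw [ha, hb]
      omega
    have hpow : ∀ y ∈ K.map (QuotientGroup.mk' H), ∃ i : ℤ, x ^ i = y := by
      intro y hy
      obtain ⟨i, hi⟩ := Subgroup.mem_zpowers_iff.mp (hg ⟨y, hy⟩)
      exact ⟨i, by rw [hx, ← Subgroup.coe_zpow, hi]⟩
    refine ⟨⟨fun a b => ?_⟩⟩
    obtain ⟨i, hi⟩ := hpow _ (hKHn.conj_mem x hxmem a)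
    obtain ⟨j, hj⟩ := hpow _ (hKHn.conj_mem x hxmem b)
    have h1 : ((a : G ⧸ H) * b) * x * ((a : G ⧸ H) * b)⁻¹ = x ^ (i * j) := by
      have e1 : ((a : G ⧸ H) * b) * x * ((a : G ⧸ H) * b)⁻¹ =
          (a : G ⧸ H) * ((b : G ⧸ H) * x * (b : G ⧸ H)⁻¹) * (a : G ⧸ H)⁻¹ := by group
      rw [e1, ← hj, ← MulAut.conj_apply, map_zpow, MulAut.conj_apply, ← hi, ← zpow_mul]
    have h2 : ((b : G ⧸ H) * a) * x * ((b : G ⧸ H) * a)⁻¹ = x ^ (i * j) := by
      have e1 : ((b : G ⧸ H) * a) * x * ((b : G ⧸ H) * a)⁻¹ =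
          (b : G ⧸ H) * ((a : G ⧸ H) * x * (a : G ⧸ H)⁻¹) * (b : G ⧸ H)⁻¹ := by group
      rw [e1, ← hi, ← MulAut.conj_apply, map_zpow, MulAut.conj_apply, ← hj, ← zpow_mul, mul_comm]
    set c : G ⧸ H := ((b : G ⧸ H) * a)⁻¹ * ((a : G ⧸ H) * b) with hc
    have hcC : c ∈ C₂ := C₂.mul_mem (C₂.inv_mem (C₂.mul_mem b.2 a.2)) (C₂.mul_mem a.2 b.2)
    have hcx : c * x = x * c := by
      have e1 : c * x = ((b : G ⧸ H) * a)⁻¹ * (((a : G ⧸ H) * b) * x * ((a : G ⧸ H) * b)⁻¹) *
          ((a : G ⧸ H) * b) := by rw [hc]; group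
      have e2 : x * c = ((b : G ⧸ H) * a)⁻¹ * (((b : G ⧸ H) * a) * x * ((b : G ⧸ H) * a)⁻¹) *
          ((a : G ⧸ H) * b) := by rw [hc]; group
      rw [e1, e2, h1, h2]
    have hc1 : c = 1 := by
      by_contra hne
      have hcK : c ∉ K.map (QuotientGroup.mk' H) := fun h =>
        hne (Cfsg.Agent.Helper1.FrobGroup.disjoint hN₂ h hcC)
      exact hx1 (Cfsg.Agent.Helper1.FrobGroup.kernel_fpf hC₂ hN₂ hcK hxmem hcx)
    apply Subtype.ext
    have : (a : G ⧸ H) * b = (b : G ⧸ H) * a := by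
      have e1 : (a : G ⧸ H) * b = ((b : G ⧸ H) * a) * c := by rw [hc]; group
      rw [e1, hc1, mul_one]
    exact this
  haveI hGHfin : Finite (G ⧸ H) := inferInstance
  have hcycC₂ : IsCyclic C₂ :=
    Cfsg.Agent.Helper1.frob_compl_subgroup_cyclic hC₂ hN₂ C₂ le_rfl (Or.inl hC₂comm)
  -- (4) `G/K` is cyclic
  let eGK : G ⧸ K ≃* C₂ :=
    (QuotientGroup.quotientQuotientEquivQuotient H K hle).symm.trans hcomp₂.symm.QuotientMulEquiv
  have hcycGK : IsCyclic (G ⧸ K) := isCyclic_of_surjective eGK.symm.toMonoidHom eGK.symm.surjective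
  -- (1) solvability
  haveI hnilHK : Group.IsNilpotent (H.subgroupOf K) :=
    Cfsg.Agent.Helper1.FrobGroup.nilpotent hC₁ hN₁
  haveI hnilH : Group.IsNilpotent H :=
    (Group.isNilpotent_congr (Subgroup.subgroupOfEquivOfLe hle)).mp hnilHK
  have hsolv : Group.IsSolvable G := by
    haveI : Group.IsSolvable H := inferInstance
    haveI : Group.IsSolvable (K.map (QuotientGroup.mk' H) : Subgroup (G ⧸ H)) := inferInstance
    haveI : Group.IsSolvable ((G ⧸ H) ⧸ (K.map (QuotientGroup.mk' H))) := by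
      haveI : IsCyclic ((G ⧸ H) ⧸ (K.map (QuotientGroup.mk' H))) :=
        isCyclic_of_surjective hcomp₂.symm.QuotientMulEquiv.symm.toMonoidHom
          hcomp₂.symm.QuotientMulEquiv.symm.surjective
      infer_instance
    haveI : Group.IsSolvable (G ⧸ H) :=
      Group.isSolvable_of_ker_le_range (K.map (QuotientGroup.mk' H)).subtype
        (QuotientGroup.mk' (K.map (QuotientGroup.mk' H))) (by simp)
    exact Group.isSolvable_of_ker_le_range H.subtype (QuotientGroup.mk' H) (by simp)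
  -- membership in `K/H`
  have hmemKH : ∀ g : G, ((g : G ⧸ H) ∈ K.map (QuotientGroup.mk' H)) ↔ g ∈ K := by
    intro g
    constructor
    · intro hg
      obtain ⟨k, hk, hkg⟩ := Subgroup.mem_map.mp hg
      have h1 : k⁻¹ * g ∈ H := QuotientGroup.eq.mp hkg
      have e1 : g = k * (k⁻¹ * g) := by group
      rw [e1]; exact K.mul_mem hk (hle h1)
    · intro hg
      exact Subgroup.mem_map_of_mem _ hg
  have hmk1 : ∀ g : G, ((g : G ⧸ H) = 1) ↔ g ∈ H := fun g => QuotientGroup.eq_one_iff g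
  -- (A) no element of order `pq` with `p ∣ nB`, `q ∤ nB`
  have LA : ∀ p q : ℕ, p.Prime → q.Prime → p ∣ nB → ¬ q ∣ nB → ¬ ∃ g : G, orderOf g = p * q := by
    rintro p q hp hq hpB hqB ⟨g, hg⟩
    have hxo : orderOf (g ^ q) = p := by
      rw [orderOf_pow_of_dvd hq.ne_zero (by rw [hg]; exact dvd_mul_left q p), hg,
        Nat.mul_div_cancel _ hq.pos]
    have hyo : orderOf (g ^ p) = q := by
      rw [orderOf_pow_of_dvd hp.ne_zero (by rw [hg]; exact dvd_mul_right p q), hg,
        Nat.mul_div_cancel_left _ hp.pos]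
    set x := g ^ q with hx
    set y := g ^ p with hy
    have hxy : x * y = y * x := ((Commute.refl g).pow_pow q p).eq
    have hpC₂ : ¬ p ∣ Nat.card C₂ := fun h =>
      hp.one_lt.ne' (Nat.eq_one_of_dvd_coprimes hcop₂ hpB h)
    have hpH : ¬ p ∣ Nat.card H := fun h =>
      hp.one_lt.ne' (Nat.eq_one_of_dvd_coprimes hcop₁ hpB h)
    have hxK : x ∈ K := by
      have h1 : orderOf ((x : G ⧸ K)) ∣ p := by
        rw [← hxo]; exact orderOf_map_dvd (QuotientGroup.mk' K) x
      have h2 : orderOf ((x : G ⧸ K)) ∣ Nat.card C₂ := by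
        rw [← hcardGK]; exact orderOf_dvd_natCard _
      rcases (Nat.dvd_prime hp).mp h1 with h3 | h3
      · rw [orderOf_eq_one_iff, QuotientGroup.eq_one_iff] at h3; exact h3
      · rw [h3] at h2; exact absurd h2 hpC₂
    have hxH : x ∉ H := by
      intro h
      apply hpH
      rw [← hxo]
      exact Subgroup.orderOf_dvd_natCard H h
    have hyK : y ∈ K := by
      rw [← hmemKH]
      apply G3 (x : G ⧸ H) (y : G ⧸ H) ((hmemKH x).mpr hxK) (fun h => hxH ((hmk1 x).mp h))
      rw [← QuotientGroup.mk_mul, ← QuotientGroup.mk_mul, hxy]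
    have hyH : y ∉ H := by
      intro h
      have := F3 x hxK hxH y h hxy
      rw [this, orderOf_one] at hyo
      exact hq.one_lt.ne hyo
    apply hqB
    have h1 : orderOf ((y : G ⧸ H)) ∣ q := by
      rw [← hyo]; exact orderOf_map_dvd (QuotientGroup.mk' H) y
    rcases (Nat.dvd_prime hq).mp h1 with h3 | h3
    · rw [orderOf_eq_one_iff, QuotientGroup.eq_one_iff] at h3; exact absurd h3 hyH
    · rw [← h3, ← hcardKH]
      exact Subgroup.orderOf_dvd_natCard _ ((hmemKH y).mpr hyK)
  -- (B) both divide `nB`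
  have LB : ∀ p q : ℕ, p.Prime → q.Prime → p ≠ q → p ∣ nB → q ∣ nB → ∃ g : G, orderOf g = p * q := by
    intro p q hp hq hpq hpB hqB
    have hdvd : p * q ∣ Nat.card C₁ :=
      Nat.Coprime.mul_dvd_of_dvd_of_dvd ((Nat.coprime_primes hp hq).mpr hpq) hpB hqB
    obtain ⟨z, hz⟩ := Cfsg.Agent.Helper1.FrobGroup.exists_orderOf_eq_of_isCyclic hdvd
    refine ⟨((z : K) : G), ?_⟩
    rw [Subgroup.orderOf_coe, Subgroup.orderOf_coe, hz]
  -- (C) both divide `#H`
  have LC : ∀ p q : ℕ, p.Prime → q.Prime → p ≠ q → p ∣ Nat.card H → q ∣ Nat.card H →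
      ∃ g : G, orderOf g = p * q := by
    intro p q hp hq hpq hpH hqH
    obtain ⟨z, hz⟩ := Cfsg.Agent.Helper1.FrobGroup.exists_orderOf_mul_of_nilpotent hp hq hpq hpH hqH
    exact ⟨(z : G), by rw [Subgroup.orderOf_coe, hz]⟩
  -- (E) both divide `#C₂`
  have LE : ∀ p q : ℕ, p.Prime → q.Prime → p ≠ q → p ∣ Nat.card C₂ → q ∣ Nat.card C₂ →
      ∃ g : G, orderOf g = p * q := by
    intro p q hp hq hpq hpC hqC
    have hdvd : p * q ∣ Nat.card C₂ :=
      Nat.Coprime.mul_dvd_of_dvd_of_dvd ((Nat.coprime_primes hp hq).mpr hpq) hpC hqC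
    obtain ⟨z, hz⟩ := Cfsg.Agent.Helper1.FrobGroup.exists_orderOf_eq_of_isCyclic hdvd
    obtain ⟨g, hg⟩ := Cfsg.Agent.Helper1.FrobGroup.exists_orderOf_eq_of_surjective
      (QuotientGroup.mk' H) (QuotientGroup.mk'_surjective H) (z : G ⧸ H)
    exact ⟨g, by rw [hg, Subgroup.orderOf_coe, hz]⟩
  -- (D) `p ∣ #H`, `q ∣ #C₂`
  have LD : ∀ p q : ℕ, p.Prime → q.Prime → p ≠ q → p ∣ Nat.card H → q ∣ Nat.card C₂ → ¬ q ∣ nB →
      ∃ g : G, orderOf g = p * q := by
    intro p q hp hq hpq hpH hqC hqB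
    haveI : Fact p.Prime := ⟨hp⟩
    haveI : Fact q.Prime := ⟨hq⟩
    -- a prime `r` dividing `nB` and a Sylow `r`-subgroup of `K`
    obtain ⟨r, hr, hrB⟩ := Nat.exists_prime_and_dvd hnB1.ne'
    haveI : Fact r.Prime := ⟨hr⟩
    have hrH : ¬ r ∣ Nat.card H := fun h =>
      hr.one_lt.ne' (Nat.eq_one_of_dvd_coprimes hcop₁ hrB h)
    have hrK : r ∣ Nat.card K := by rw [← hcardK]; exact Dvd.dvd.mul_left hrB _
    obtain ⟨R⟩ : Nonempty (Sylow r K) := inferInstance
    set R' : Subgroup G := (R : Subgroup K).map K.subtype with hR'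
    have hR'p : IsPGroup r R' := R.isPGroup'.map _
    have hR'K : R' ≤ K := Subgroup.map_subtype_le _
    have hR'bot : R' ≠ ⊥ := by
      intro h
      rw [hR', Subgroup.map_eq_bot_iff_of_injective _ K.subtype_injective] at h
      exact R.ne_bot_of_dvd_card hrK h
    have hR'H : ∀ c ∈ R', c ∈ H → c = 1 := by
      intro c hc hcH
      obtain ⟨k, hk⟩ := hR'p ⟨c, hc⟩
      have hk' : c ^ (r ^ k) = 1 := by simpa using congrArg Subtype.val hk
      have h1 : orderOf c ∣ r ^ k := orderOf_dvd_of_pow_eq_one hk'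
      have h2 : orderOf c ∣ Nat.card H := Subgroup.orderOf_dvd_natCard H hcH
      have h3 : (r ^ k).Coprime (Nat.card H) :=
        Nat.Coprime.pow_left k ((Nat.Prime.coprime_iff_not_dvd hr).mpr hrH)
      have := Nat.eq_one_of_dvd_coprimes h3 h1 h2
      exact orderOf_eq_one_iff.mp this
    obtain ⟨c₀, hc₀, hc₀1⟩ : ∃ c ∈ R', c ≠ 1 := by
      by_contra hcon
      push Not at hcon
      apply hR'bot
      rw [eq_bot_iff]
      intro x hx
      rw [Subgroup.mem_bot]; exact hcon x hx
    have hc₀K : c₀ ∈ K := hR'K hc₀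
    have hc₀H : c₀ ∉ H := fun h => hc₀1 (hR'H c₀ hc₀ h)
    -- Frattini
    have hfrat : Subgroup.normalizer (R' : Set G) ⊔ K = ⊤ := Sylow.normalizer_sup_eq_top R
    set M : Subgroup G := Subgroup.normalizer (R' : Set G) with hM
    have hMH : ∀ h ∈ M, h ∈ H → h = 1 := by
      intro h hhM hhH
      have h1 : h * c₀ * h⁻¹ ∈ R' := (Subgroup.mem_normalizer_iff.mp hhM c₀).mp hc₀
      have h2 : h * c₀ * h⁻¹ * c₀⁻¹ ∈ R' := R'.mul_mem h1 (R'.inv_mem hc₀)
      have h3 : h * c₀ * h⁻¹ * c₀⁻¹ ∈ H := by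
        have : h * c₀ * h⁻¹ * c₀⁻¹ = h * (c₀ * h⁻¹ * c₀⁻¹) := by group
        rw [this]
        exact H.mul_mem hhH (‹H.Normal›.conj_mem _ (H.inv_mem hhH) c₀)
      have h4 := hR'H _ h2 h3
      have h5 : c₀ * h = h * c₀ := by
        have : h * c₀ = (h * c₀ * h⁻¹ * c₀⁻¹) * (c₀ * h) := by group
        rw [this, h4, one_mul]
      exact F3 c₀ hc₀K hc₀H h hhH h5
    -- `q` divides `#M`
    have hqM : q ∣ Nat.card M := by
      have hsurj : Function.Surjective ((QuotientGroup.mk' K).comp M.subtype) := by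
        intro z
        obtain ⟨g, rfl⟩ := QuotientGroup.mk'_surjective K z
        have hg : g ∈ M ⊔ K := by rw [hfrat]; exact Subgroup.mem_top g
        rw [← SetLike.mem_coe, Subgroup.mul_normal] at hg
        obtain ⟨m, hm, k, hk, rfl⟩ := Set.mem_mul.mp hg
        refine ⟨⟨m, hm⟩, ?_⟩
        change ((m : G) : G ⧸ K) = ((m * k : G) : G ⧸ K)
        rw [QuotientGroup.mk_mul, (QuotientGroup.eq_one_iff k).mpr hk, mul_one]
      have := Subgroup.card_dvd_of_surjective _ hsurj
      rw [hcardGK] at this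
      exact hqC.trans this
    obtain ⟨x₀', hx₀'⟩ := exists_prime_orderOf_dvd_card' (G := M) q hqM
    -- elements of order `q` in `M` lie outside `K`
    have hout : ∀ h ∈ M, orderOf h = q → h ∉ K := by
      intro h hhM hho hhK
      have hhH : h ∉ H := by
        intro hh
        have := hMH h hhM hh
        rw [this, orderOf_one] at hho
        exact hq.one_lt.ne hho
      apply hqB
      have h1 : orderOf ((h : G ⧸ H)) ∣ q := by
        rw [← hho]; exact orderOf_map_dvd (QuotientGroup.mk' H) h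
      rcases (Nat.dvd_prime hq).mp h1 with h3 | h3
      · rw [orderOf_eq_one_iff, QuotientGroup.eq_one_iff] at h3; exact absurd h3 hhH
      · rw [← h3, ← hcardKH]
        exact Subgroup.orderOf_dvd_natCard _ ((hmemKH h).mpr hhK)
    -- the normal `p`-subgroup
    obtain ⟨P⟩ : Nonempty (Sylow p H) := inferInstance
    haveI hPn : (P : Subgroup H).Normal := inferInstance
    haveI hPc : (P : Subgroup H).Characteristic := Sylow.characteristic_of_normal P hPn
    set P' : Subgroup G := (P : Subgroup H).map H.subtype with hP'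
    haveI hP'n : P'.Normal := ConjAct.normal_of_characteristic_of_normal
    have hP'p : IsPGroup p P' := P.isPGroup'.map _
    have hP'H : P' ≤ H := Subgroup.map_subtype_le _
    have hP'bot : P' ≠ ⊥ := by
      intro h
      rw [hP', Subgroup.map_eq_bot_iff_of_injective _ H.subtype_injective] at h
      exact P.ne_bot_of_dvd_card hpH h
    set V : Subgroup G := Cfsg.Agent.Helper1.centerIn P' with hV
    have hVab : IsMulCommutative V := Cfsg.Agent.Helper1.centerIn_comm P'
    have hV1 : V ≠ ⊥ := Cfsg.Agent.Helper1.centerIn_ne_bot hP'p hP'bot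
    have hVP' : V ≤ P' := inf_le_left
    have hMV : M ≤ Subgroup.normalizer (V : Set G) := by
      refine le_trans ?_ (Cfsg.Agent.Helper1.normalizer_le_normalizer_centerIn P')
      rw [Subgroup.normalizer_eq_top_iff.mpr hP'n]; exact le_top
    -- apply the Frobenius action lemma
    set x₀ : G := (x₀' : G) with hx₀
    have hx₀o : orderOf x₀ = q := by rw [hx₀, Subgroup.orderOf_coe, hx₀']
    obtain ⟨v, hvV, hv1, hvx⟩ := Cfsg.Agent.Lead.frobenius_action_fixed_points V M hVab hV1 hMV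
      (Subgroup.zpowers x₀') (R'.subgroupOf M)
      (by
        intro n hn h hh hh1 hnh
        have hhG1 : (h : G) ≠ 1 := fun e0 => hh1 (Subtype.ext e0)
        have hhq : orderOf (h : G) = q := by
          have h1 : (h : G) ^ q = 1 := by
            obtain ⟨i, rfl⟩ := Subgroup.mem_zpowers_iff.mp hh
            have : (x₀' ^ i) ^ q = 1 := by
              rw [← zpow_natCast, ← zpow_mul, mul_comm, zpow_mul, zpow_natCast, ← hx₀',
                pow_orderOf_eq_one, one_zpow]
            simpa using congrArg Subtype.val this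
          rcases (Nat.dvd_prime hq).mp (orderOf_dvd_of_pow_eq_one h1) with h3 | h3
          · exact absurd (orderOf_eq_one_iff.mp h3) hhG1
          · exact h3
        have hhK : (h : G) ∉ K := hout _ h.2 hhq
        have hhKH : ((h : G) : G ⧸ H) ∉ K.map (QuotientGroup.mk' H) := fun h0 =>
          hhK ((hmemKH _).mp h0)
        have hnR : (n : G) ∈ R' := Subgroup.mem_subgroupOf.mp hn
        have hnKH : ((n : G) : G ⧸ H) ∈ K.map (QuotientGroup.mk' H) :=
          (hmemKH _).mpr (hR'K hnR)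
        have hcomm : ((h : G) : G ⧸ H) * ((n : G) : G ⧸ H) = ((n : G) : G ⧸ H) * ((h : G) : G ⧸ H) := by
          rw [← QuotientGroup.mk_mul, ← QuotientGroup.mk_mul]
          have : (n : G) * (h : G) = (h : G) * (n : G) := by
            simpa using congrArg Subtype.val hnh
          rw [this]
        have h1 := Cfsg.Agent.Helper1.FrobGroup.kernel_fpf hC₂ hN₂ hhKH hnKH hcomm
        have h2 : (n : G) ∈ H := (hmk1 _).mp h1
        exact Subtype.ext (hR'H _ hnR h2))
      (by
        have h1 : Nat.card V ∣ Nat.card H := Subgroup.card_dvd_of_le (hVP'.trans hP'H)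
        have h2 : Nat.card (R'.subgroupOf M) = Nat.card R' := by
          rw [Cfsg.Agent.Lead.card_subgroupOf_eq_card_inf, inf_of_le_left Subgroup.le_normalizer]
        obtain ⟨k, hk⟩ := IsPGroup.iff_card.mp hR'p
        rw [h2, hk]
        exact Nat.Coprime.coprime_dvd_left h1
          (Nat.Coprime.pow_right k ((Nat.Prime.coprime_iff_not_dvd hr).mpr hrH).symm))
      (by
        intro v hv hcv
        have h1 := hcv ⟨c₀, Subgroup.le_normalizer hc₀⟩ (Subgroup.mem_subgroupOf.mpr hc₀)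
        exact F3 c₀ hc₀K hc₀H v (hP'H (hVP' hv)) h1)
    have hvx₀ : x₀ * v = v * x₀ := hvx x₀' (Subgroup.mem_zpowers x₀')
    obtain ⟨k, hk⟩ := hP'p ⟨v, hVP' hvV⟩
    have hk' : v ^ (p ^ k) = 1 := by simpa using congrArg Subtype.val hk
    obtain ⟨i, hi⟩ := Cfsg.Agent.Helper1.FrobGroup.exists_pow_orderOf_eq_prime hp hv1 hk'
    have hcomm : Commute (v ^ i) x₀ := (Commute.pow_left (show Commute v x₀ from hvx₀.symm) i)
    refine ⟨v ^ i * x₀, ?_⟩
    rw [hcomm.orderOf_mul_eq_mul_orderOf_of_coprime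
      (by rw [hi, hx₀o]; exact (Nat.coprime_primes hp hq).mpr hpq), hi, hx₀o]
  refine ⟨hsolv, by rw [hcardQ]; exact hodd, ?_, hcycGK, ?_⟩
  · rw [hcardQ, hcardGK]; exact Nat.Coprime.mul_right hcop₁ hcop₂
  · intro p q hp hq hpq hpG hqG
    rw [hcardQ]
    have hsplit : ∀ s : ℕ, s.Prime → s ∣ Nat.card G → ¬ s ∣ nB →
        s ∣ Nat.card H ∨ s ∣ Nat.card C₂ := by
      intro s hs hsG hsB
      rw [hcardG] at hsG
      rcases (Nat.Prime.dvd_mul hs).mp hsG with h | h
      · rcases (Nat.Prime.dvd_mul hs).mp h with h' | h'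
        · exact Or.inl h'
        · exact absurd h' hsB
      · exact Or.inr h
    constructor
    · rintro ⟨g, hg⟩
      constructor
      · intro hpB
        by_contra hqB
        exact LA p q hp hq hpB hqB ⟨g, hg⟩
      · intro hqB
        by_contra hpB
        exact LA q p hq hp hqB hpB ⟨g, by rw [hg, mul_comm]⟩
    · intro hiff
      by_cases hpB : p ∣ nB
      · exact LB p q hp hq hpq hpB (hiff.mp hpB)
      · have hqB : ¬ q ∣ nB := fun h => hpB (hiff.mpr h)
        rcases hsplit p hp hpG hpB with hpH | hpC <;> rcases hsplit q hq hqG hqB with hqH | hqC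
        · exact LC p q hp hq hpq hpH hqH
        · exact LD p q hp hq hpq hpH hqC hqB
        · obtain ⟨g, hg⟩ := LD q p hq hp hpq.symm hqH hpC hpB
          exact ⟨g, by rw [hg, mul_comm]⟩
        · exact LE p q hp hq hpq hpC hqC

end Cfsg.Agent.S4001
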