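import Cfsg.Statements.S4002
import Cfsg.Agent.Helper18.PrimeGraph

set_option autoImplicit false
open Cfsg

namespace Cfsg.Agent.S4002

/-- three primes up to `n` whose pairwise products exceed `n`. -/
theorem exists_three_primes (n : ℕ) (hn : 7 ≤ n) :
    ∃ r s t : ℕ, r.Prime ∧ s.Prime ∧ t.Prime ∧ r < s ∧ s < t ∧ t ≤ n ∧ n < r * s := by
  by_cases h14 : n ≤ 14
  · exact ⟨3, 5, 7, by norm_num, by norm_num, by norm_num, by norm_num, by norm_num, hn, by omega⟩
  by_cases h34 : n ≤ 34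
  · exact ⟨5, 7, 11, by norm_num, by norm_num, by norm_num, by norm_num, by norm_num, by omega,
      by omega⟩
  -- Bertrand's postulate three times
  set a := n / 2 with ha
  set b := a / 2 with hb
  set c := b / 2 with hc
  have ha' : n ≤ 2 * a + 1 := by omega
  have hb' : a ≤ 2 * b + 1 := by omega
  have hc' : b ≤ 2 * c + 1 := by omega
  have hb8 : 8 ≤ b := by omega
  obtain ⟨t, ht, hat, hta⟩ := Nat.exists_prime_lt_and_le_two_mul a (by omega)
  obtain ⟨s, hs, hbs, hsb⟩ := Nat.exists_prime_lt_and_le_two_mul b (by omega)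
  obtain ⟨r, hr, hcr, hrc⟩ := Nat.exists_prime_lt_and_le_two_mul c (by omega)
  refine ⟨r, s, t, hr, hs, ht, by omega, by omega, by omega, ?_⟩
  have h1 : c + 1 ≤ r := hcr
  have h2 : b + 1 ≤ s := hbs
  have h3 : (c + 1) * (b + 1) ≤ r * s := Nat.mul_le_mul h1 h2
  have h4 : n ≤ 4 * b + 3 := by omega
  have h5 : b + 1 ≤ 2 * (c + 1) := by omega
  nlinarith

/-- If the set of element orders of a finite group G is {1, 2, …, n} with n ≥ 7, then G is not solvable. -/
theorem result {G : Type*} [Group G] [Finite G] (n : ℕ) (hn : 7 ≤ n) (h : Set.range (orderOf : G → ℕ) = {k : ℕ | 1 ≤ k ∧ k ≤ n}) : ¬ Group.IsSolvable G := by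
  intro hsol
  obtain ⟨r, s, t, hr, hs, ht, hrs, hst, htn, hprod⟩ := exists_three_primes n hn
  have hmem : ∀ k : ℕ, 1 ≤ k → k ≤ n → ∃ g : G, orderOf g = k := by
    intro k h1 h2
    have : k ∈ Set.range (orderOf : G → ℕ) := by rw [h]; exact ⟨h1, h2⟩
    exact this
  have hnot : ∀ k : ℕ, n < k → ¬ ∃ g : G, orderOf g = k := by
    rintro k hk ⟨g, hg⟩
    have : k ∈ Set.range (orderOf : G → ℕ) := ⟨g, hg⟩
    rw [h] at this
    exact absurd this.2 (by omega)
  have hdvd : ∀ k : ℕ, 1 ≤ k → k ≤ n → k ∣ Nat.card G := by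
    intro k h1 h2
    obtain ⟨g, hg⟩ := hmem k h1 h2
    rw [← hg]
    exact orderOf_dvd_natCard g
  have hr1 : 1 ≤ r := hr.one_lt.le
  have hs1 : 1 ≤ s := hs.one_lt.le
  have ht1 : 1 ≤ t := ht.one_lt.le
  have hrn : r ≤ n := by omega
  have hsn : s ≤ n := by omega
  have h1 : n < r * t := lt_of_lt_of_le hprod (Nat.mul_le_mul_left r (by omega))
  have h2 : n < s * t := by
    calc n < r * s := hprod
      _ ≤ s * t := by rw [Nat.mul_comm r s]; exact Nat.mul_le_mul_left s (by omega)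
  rcases Cfsg.Agent.Helper18.higman_three_primes _ G rfl r s t hr hs ht (by omega) (by omega)
    (by omega) (hdvd r hr1 hrn) (hdvd s hs1 hsn) (hdvd t ht1 htn) with h' | h' | h'
  · exact hnot _ hprod h'
  · exact hnot _ h1 h'
  · exact hnot _ h2 h'

end Cfsg.Agent.S4002
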