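import Cfsg.Statements.S4003
import Cfsg.Agent.Helper20.KulF

set_option autoImplicit false
open Cfsg

namespace Cfsg.Agent.S4003

/-- Let G be a finite group, p an odd prime dividing the order of G whose Sylow p-subgroups are not cyclic, and n = p^s·m with s > 1 and m coprime to p. Then the number of elements of G of order n is a multiple of p^s. -/
theorem result {G : Type*} [Group G] [Finite G] (p : ℕ) [Fact p.Prime] (hodd : p ≠ 2) (hpG : p ∣ Nat.card G)
    (P : Sylow p G) (hP : ¬ IsCyclic ↥(P : Subgroup G)) (s m : ℕ) (hs : 1 < s) (hm : Nat.Coprime p m) :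
    p ^ s ∣ Nat.card {g : G // orderOf g = p ^ s * m} := by
  have hp : p.Prime := Fact.out
  have hcop : (p ^ s).Coprime m := Nat.Coprime.pow_left s hm
  rw [Cfsg.Agent.Helper20.card_order_eq_card_PP (p ^ s) m hcop,
    Cfsg.Agent.Helper20.card_PP_eq, Nat.totient_prime_pow hp (by omega : 0 < s)]
  obtain ⟨c, hc⟩ := Cfsg.Agent.Helper20.dvd_card_TT hodd P hP s m hs
  rw [hc]
  have hps : p ^ s = p ^ (s - 1) * p := by rw [← pow_succ]; congr 1; omega
  rw [hps]
  exact ⟨(p - 1) * c, by ring⟩

end Cfsg.Agent.S4003
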