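import Cfsg.Statements.S4005
import Cfsg.Agent.Helper1.FpfCompl
import Mathlib

set_option autoImplicit false
open Cfsg

namespace Cfsg.Agent.S4005

section
variable {G : Type*} [Group G]

theorem braid_of_cube (s a : G) (hs : s * s = 1) (ha : a * a = 1) (h : (s * a) ^ 3 = 1) :
    s * a * s = a * s * a := by
  have hsi : s⁻¹ = s := inv_eq_of_mul_eq_one_left hs
  have hai : a⁻¹ = a := inv_eq_of_mul_eq_one_left ha
  have h1 : s * a * s * (a * s * a) = 1 := by
    rw [← h]; simp only [pow_succ, pow_zero, one_mul, mul_assoc]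
  have h2 : s * a * s = (a * s * a)⁻¹ := eq_inv_of_mul_eq_one_left h1
  rw [h2, mul_inv_rev, mul_inv_rev, hai, hsi, mul_assoc]

/-- three involutions `s, a, b` with `a b = b a` and `s a`, `s b`, `s a b` of order dividing 3
force `s = a`. -/
theorem invol_algebra (s a b : G) (hs : s * s = 1) (ha : a * a = 1) (hb : b * b = 1)
    (hab : a * b = b * a) (h1 : (s * a) ^ 3 = 1) (h2 : (s * b) ^ 3 = 1)
    (h3 : (s * (a * b)) ^ 3 = 1) : s = a := by
  have e1 := braid_of_cube s a hs ha h1
  have e2 := braid_of_cube s b hs hb h2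
  have habab : (a * b) * (a * b) = 1 := by
    calc a * b * (a * b) = a * (b * a) * b := by simp only [mul_assoc]
      _ = a * (a * b) * b := by rw [hab]
      _ = (a * a) * (b * b) := by simp only [mul_assoc]
      _ = 1 := by rw [ha, hb, one_mul]
  have e3 := braid_of_cube s (a * b) hs habab h3
  -- s a b s = (s a s)(s b s)
  have e4 : s * (a * b) * s = (a * s * a) * (b * s * b) := by
    calc s * (a * b) * s = s * a * (s * s) * b * s := by rw [hs]; simp only [mul_assoc, mul_one]
      _ = (s * a * s) * (s * b * s) := by simp only [mul_assoc]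
      _ = (a * s * a) * (b * s * b) := by rw [e1, e2]
  -- a s a b s b = a b s a b
  have e5 : a * s * a * (b * s * b) = a * b * s * (a * b) := by rw [← e4, e3]
  -- cancel: s a b s = b s a
  have e6 : s * a * b * s = b * s * a := by
    have : a * (s * a * b * s) * b = a * (b * s * a) * b := by
      calc a * (s * a * b * s) * b = a * s * a * (b * s * b) := by simp only [mul_assoc]
        _ = a * b * s * (a * b) := e5
        _ = a * (b * s * a) * b := by simp only [mul_assoc]
    exact mul_left_cancel (mul_right_cancel this)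
  -- a b s a b = b s a
  have e7 : a * b * s * (a * b) = b * s * a := by
    rw [← e6, ← e3]; simp only [mul_assoc]
  -- a s a b = s a
  have e8 : a * s * a * b = s * a := by
    have : b * (a * s * a * b) = b * (s * a) := by
      calc b * (a * s * a * b) = (b * a) * s * (a * b) := by simp only [mul_assoc]
        _ = (a * b) * s * (a * b) := by rw [hab]
        _ = b * s * a := e7
        _ = b * (s * a) := by simp only [mul_assoc]
    exact mul_left_cancel this
  -- a s b = s
  have e9 : a * s * b = s := by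
    calc a * s * b = a * s * (a * b * a) := by
          rw [hab, mul_assoc b a a, ha, mul_one]
      _ = (a * s * a * b) * a := by simp only [mul_assoc]
      _ = s * a * a := by rw [e8]
      _ = s := by rw [mul_assoc, ha, mul_one]
  -- s b = a s
  have e10 : s * b = a * s := by
    calc s * b = (a * a) * (s * b) := by rw [ha, one_mul]
      _ = a * (a * s * b) := by simp only [mul_assoc]
      _ = a * s := by rw [e9]
  -- s b s = a
  have e11 : s * b * s = a := by rw [e10, mul_assoc, hs, mul_one]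
  -- b s b = a ⇒ s = b a b = a
  rw [e2] at e11
  calc s = (b * b) * s * (b * b) := by rw [hb, one_mul, mul_one]
    _ = b * (b * s * b) * b := by simp only [mul_assoc]
    _ = b * a * b := by rw [e11]
    _ = a * b * b := by rw [← hab]
    _ = a := by rw [mul_assoc, hb, mul_one]

/-- Case I: a Sylow 2-subgroup of order 2. -/
theorem case_one [Finite G]
    (hord : ∀ g : G, orderOf g = 1 ∨ orderOf g = 2 ∨ orderOf g = 3)
    (hno6 : ∀ t y : G, orderOf t = 2 → orderOf y = 3 → t * y = y * t → False)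
    (T : Sylow 2 G) (t₀ : G) (ht₀ : orderOf t₀ = 2) (ht₀T : t₀ ∈ (T : Subgroup G))
    (hcard : Nat.card (T : Subgroup G) = 2) :
    ∃ N : Subgroup G, N.Normal ∧ Cfsg.IsElementaryAbelian 3 N ∧ N.index = 2 := by
  haveI : Fact (Nat.Prime 2) := ⟨Nat.prime_two⟩
  have ht₀1 : t₀ ≠ 1 := by
    intro h; rw [h, orderOf_one] at ht₀; omega
  have ht₀sq : t₀ * t₀ = 1 := by rw [← sq, ← ht₀]; exact pow_orderOf_eq_one t₀
  -- elements of T
  have hTelt : ∀ g ∈ (T : Subgroup G), g ≠ 1 → g = t₀ := by
    intro g hg hg1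
    obtain ⟨y, _, hy2⟩ := (Nat.card_eq_two_iff' (1 : (T : Subgroup G))).1 hcard
    have h1 : (⟨g, hg⟩ : (T : Subgroup G)) = y := hy2 _ (fun h => hg1 (congrArg Subtype.val h))
    have h2 : (⟨t₀, ht₀T⟩ : (T : Subgroup G)) = y := hy2 _ (fun h => ht₀1 (congrArg Subtype.val h))
    exact congrArg Subtype.val (h1.trans h2.symm)
  have hP : Subgroup.normalizer ((T : Subgroup G) : Set G) ≤
      Subgroup.centralizer ((T : Subgroup G) : Set G) := by
    intro n hn
    rw [Subgroup.mem_centralizer_iff]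
    intro g hg
    by_cases hg1 : g = 1
    · rw [hg1]; simp
    · have hgt : g = t₀ := hTelt g hg hg1
      have h1 : n * t₀ * n⁻¹ ∈ (T : Subgroup G) := (Subgroup.mem_normalizer_iff.1 hn t₀).1 ht₀T
      have h2 : n * t₀ * n⁻¹ ≠ 1 := by
        intro h
        apply ht₀1
        have : t₀ = n⁻¹ * (n * t₀ * n⁻¹) * n := by group
        rw [this, h]; group
      have h3 := hTelt _ h1 h2
      rw [hgt]
      calc t₀ * n = (n * t₀ * n⁻¹) * n := by rw [h3]
        _ = n * t₀ := by group
  set K : Subgroup G := (MonoidHom.transferSylow T hP).ker with hK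
  have hcompl : K.IsComplement' (T : Subgroup G) := MonoidHom.ker_transferSylow_isComplement' T hP
  haveI hKn : K.Normal := by rw [hK]; infer_instance
  have hidx : K.index = 2 := by rw [hcompl.symm.index_eq_card, hcard]
  have hdisj := hcompl.disjoint
  -- K has no involution
  have hKodd : ∀ k ∈ K, orderOf k ≠ 2 := by
    intro k hk hk2
    -- k is in a conjugate of T
    have hkp : IsPGroup 2 (Subgroup.zpowers k) := by
      apply IsPGroup.of_card (n := 1)
      rw [Nat.card_zpowers, hk2, pow_one]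
    obtain ⟨T', hT'⟩ := hkp.exists_le_sylow
    obtain ⟨g, hg⟩ := MulAction.exists_smul_eq G T' T
    have hkT' : k ∈ (T' : Subgroup G) := hT' (Subgroup.mem_zpowers k)
    have hgk : g * k * g⁻¹ ∈ (T : Subgroup G) := by
      rw [← hg, Sylow.coe_subgroup_smul, Cfsg.Agent.Helper1.mem_conj_smul_iff]
      have : g⁻¹ * (g * k * g⁻¹) * g = k := by group
      rw [this]; exact hkT'
    have hgkK : g * k * g⁻¹ ∈ K := hKn.conj_mem k hk g
    have h1 : g * k * g⁻¹ = 1 := by
      have := Subgroup.disjoint_def.1 hdisj hgkK hgk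
      exact this
    have : k = 1 := by
      have e : k = g⁻¹ * (g * k * g⁻¹) * g := by group
      rw [e, h1]; group
    rw [this, orderOf_one] at hk2
    omega
  have hKcube : ∀ k ∈ K, k ^ 3 = 1 := by
    intro k hk
    rcases hord k with h1 | h1 | h1
    · rw [orderOf_eq_one_iff.1 h1]; simp
    · exact absurd h1 (hKodd k hk)
    · rw [← h1]; exact pow_orderOf_eq_one k
  -- K abelian via the fixed point free involution
  have hKcomm : IsMulCommutative K := by
    let φ : K →* K := (MulAut.conjNormal t₀ : MulAut K).toMonoidHom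
    have hφ : ∀ k : K, ((φ k : K) : G) = t₀ * k * t₀⁻¹ := fun k => MulAut.conjNormal_apply t₀ k
    have hfpf : MonoidHom.FixedPointFree φ := by
      intro k hk
      by_contra hk1
      have hk1' : (k : G) ≠ 1 := fun h => hk1 (Subtype.ext h)
      have h3 : orderOf (k : G) = 3 := by
        rcases hord (k : G) with h1 | h1 | h1
        · exact absurd (orderOf_eq_one_iff.1 h1) hk1'
        · exact absurd h1 (hKodd k k.2)
        · exact h1
      apply hno6 t₀ k ht₀ h3
      have := congrArg Subtype.val hk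
      rw [hφ] at this
      calc t₀ * (k : G) = (t₀ * k * t₀⁻¹) * t₀ := by group
        _ = k * t₀ := by rw [this]
    have hinv : Function.Involutive φ := by
      intro k
      apply Subtype.ext
      rw [hφ, hφ]
      have hti : t₀⁻¹ = t₀ := inv_eq_of_mul_eq_one_left ht₀sq
      calc t₀ * (t₀ * (k : G) * t₀⁻¹) * t₀⁻¹ = (t₀ * t₀) * k * (t₀⁻¹ * t₀⁻¹) := by group
        _ = k := by rw [hti, ht₀sq, one_mul, mul_one]
    rw [isMulCommutative_iff]
    intro a b
    exact (hfpf.commute_all_of_involutive hinv a b).eq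
  exact ⟨K, hKn, ⟨hKcomm, hKcube⟩, hidx⟩

/-- Case II: a Sylow 2-subgroup of order at least 4. -/
theorem case_two [Finite G]
    (hord : ∀ g : G, orderOf g = 1 ∨ orderOf g = 2 ∨ orderOf g = 3)
    (hno6 : ∀ t y : G, orderOf t = 2 → orderOf y = 3 → t * y = y * t → False)
    (y₀ : G) (hy₀ : orderOf y₀ = 3)
    (T : Sylow 2 G) (t₀ : G) (ht₀ : orderOf t₀ = 2) (ht₀T : t₀ ∈ (T : Subgroup G))
    (hcard : 2 < Nat.card (T : Subgroup G)) :
    ∃ N : Subgroup G, N.Normal ∧ Cfsg.IsElementaryAbelian 2 N ∧ N.index = 3 := by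
  haveI : Fact (Nat.Prime 2) := ⟨Nat.prime_two⟩
  haveI : Fact (Nat.Prime 3) := ⟨Nat.prime_three⟩
  have ht₀1 : t₀ ≠ 1 := by
    intro h; rw [h, orderOf_one] at ht₀; omega
  have hsq_of : ∀ g : G, g * g = 1 → g ≠ 1 → orderOf g = 2 := by
    intro g hg hg1
    have : orderOf g ∣ 2 := orderOf_dvd_of_pow_eq_one (by rw [sq]; exact hg)
    rcases (Nat.dvd_prime Nat.prime_two).1 this with h1 | h1
    · exact absurd (orderOf_eq_one_iff.1 h1) hg1
    · exact h1
  have hTsq : ∀ g ∈ (T : Subgroup G), g * g = 1 := by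
    intro g hg
    obtain ⟨k, hk⟩ := (IsPGroup.iff_orderOf.1 T.isPGroup') ⟨g, hg⟩
    rw [Subgroup.orderOf_mk] at hk
    rcases hord g with h1 | h1 | h1
    · rw [orderOf_eq_one_iff.1 h1]; simp
    · rw [← sq, ← h1]; exact pow_orderOf_eq_one g
    · exfalso
      rw [h1] at hk
      cases k with
      | zero => simp at hk
      | succ k =>
        have : 2 ∣ 3 := by rw [hk, pow_succ]; exact dvd_mul_left 2 _
        omega
  have hTcomm : ∀ a ∈ (T : Subgroup G), ∀ b ∈ (T : Subgroup G), a * b = b * a := by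
    intro a ha b hb
    have h1 := hTsq (a * b) (Subgroup.mul_mem _ ha hb)
    have hai : a⁻¹ = a := inv_eq_of_mul_eq_one_left (hTsq a ha)
    have hbi : b⁻¹ = b := inv_eq_of_mul_eq_one_left (hTsq b hb)
    have h2 : a * b = (a * b)⁻¹ := (inv_eq_of_mul_eq_one_left h1).symm
    rw [h2, mul_inv_rev, hai, hbi]
  -- a second involution
  obtain ⟨t₂, ht₂T, ht₂z⟩ : ∃ t₂ ∈ (T : Subgroup G), t₂ ∉ Subgroup.zpowers t₀ := by
    have hle : Subgroup.zpowers t₀ ≤ (T : Subgroup G) := Subgroup.zpowers_le.2 ht₀T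
    have hlt : Subgroup.zpowers t₀ < (T : Subgroup G) := by
      refine lt_of_le_of_ne hle ?_
      intro h
      have : Nat.card (Subgroup.zpowers t₀) = Nat.card (T : Subgroup G) := by rw [h]
      rw [Nat.card_zpowers, ht₀] at this
      omega
    exact SetLike.exists_of_lt hlt
  have ht₂1 : t₂ ≠ 1 := fun h => ht₂z (h ▸ Subgroup.one_mem _)
  have ht₂0 : t₂ ≠ t₀ := fun h => ht₂z (h ▸ Subgroup.mem_zpowers t₀)
  have ht₃T : t₀ * t₂ ∈ (T : Subgroup G) := Subgroup.mul_mem _ ht₀T ht₂T
  have ht₃1 : t₀ * t₂ ≠ 1 := by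
    intro h
    apply ht₂0
    have h1 : t₂ = t₀⁻¹ := eq_inv_of_mul_eq_one_right h
    rw [h1]; exact inv_eq_of_mul_eq_one_left (hTsq t₀ ht₀T)
  -- centralizers of involutions of T
  have hcent : ∀ t ∈ (T : Subgroup G), t ≠ 1 → ∀ g : G, g * t = t * g → g ∈ (T : Subgroup G) := by
    intro t ht ht1 g hg
    have hto : orderOf t = 2 := hsq_of t (hTsq t ht) ht1
    have hC : IsPGroup 2 (Subgroup.centralizer ({t} : Set G)) := by
      intro c
      refine ⟨1, ?_⟩
      apply Subtype.ext
      have hc : (c : G) * t = t * c := Subgroup.mem_centralizer_singleton_iff.1 c.2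
      rcases hord (c : G) with h1 | h1 | h1
      · simp [orderOf_eq_one_iff.1 h1]
      · simp only [pow_one, Subgroup.coe_pow, Subgroup.coe_one]
        rw [← h1]; exact pow_orderOf_eq_one _
      · exact absurd hc.symm (hno6 t c hto h1)
    have hTC : (T : Subgroup G) ≤ Subgroup.centralizer ({t} : Set G) := by
      intro s hs
      exact Subgroup.mem_centralizer_singleton_iff.2 (hTcomm s hs t ht)
    have := T.is_maximal' hC hTC
    rw [← this]
    exact Subgroup.mem_centralizer_singleton_iff.2 hg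
  -- every involution lies in T
  have hinv : ∀ s : G, s * s = 1 → s ∈ (T : Subgroup G) := by
    intro s hs
    by_contra hsT
    have hsi : s⁻¹ = s := inv_eq_of_mul_eq_one_left hs
    have hcube : ∀ t ∈ (T : Subgroup G), t ≠ 1 → (s * t) ^ 3 = 1 := by
      intro t ht ht1
      have hti : t⁻¹ = t := inv_eq_of_mul_eq_one_left (hTsq t ht)
      rcases hord (s * t) with h1 | h1 | h1
      · exfalso
        have : s * t = 1 := orderOf_eq_one_iff.1 h1
        have h2 : s = t⁻¹ := eq_inv_of_mul_eq_one_left this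
        exact hsT (h2 ▸ Subgroup.inv_mem _ ht)
      · exfalso
        have h2 : (s * t) * (s * t) = 1 := by rw [← sq, ← h1]; exact pow_orderOf_eq_one _
        have h3 : s * t = (s * t)⁻¹ := (inv_eq_of_mul_eq_one_left h2).symm
        rw [mul_inv_rev, hti, hsi] at h3
        exact hsT (hcent t ht ht1 s h3)
      · rw [← h1]; exact pow_orderOf_eq_one _
    have := invol_algebra s t₀ t₂ hs (hTsq t₀ ht₀T) (hTsq t₂ ht₂T) (hTcomm t₀ ht₀T t₂ ht₂T)
      (hcube t₀ ht₀T ht₀1) (hcube t₂ ht₂T ht₂1) (hcube (t₀ * t₂) ht₃T ht₃1)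
    exact hsT (this ▸ ht₀T)
  haveI hTn : (T : Subgroup G).Normal := by
    refine ⟨fun n hn g => ?_⟩
    apply hinv
    calc g * n * g⁻¹ * (g * n * g⁻¹) = g * (n * n) * g⁻¹ := by group
      _ = 1 := by rw [hTsq n hn]; group
  have hTel : Cfsg.IsElementaryAbelian 2 (T : Subgroup G) := by
    refine ⟨?_, fun a ha => by rw [sq]; exact hTsq a ha⟩
    rw [isMulCommutative_iff]
    intro a b
    exact Subtype.ext (hTcomm a a.2 b b.2)
  refine ⟨(T : Subgroup G), hTn, hTel, ?_⟩
  -- the index
  let P₃ : Sylow 3 G := default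
  have hTne : (T : Subgroup G) ≠ ⊥ := by
    intro h
    rw [h, Subgroup.mem_bot] at ht₀T
    exact ht₀1 ht₀T
  have h3elt : ∀ a ∈ (P₃ : Subgroup G), a ≠ 1 → orderOf a = 3 := by
    intro a ha ha1
    obtain ⟨k, hk⟩ := (IsPGroup.iff_orderOf.1 P₃.isPGroup') ⟨a, ha⟩
    rw [Subgroup.orderOf_mk] at hk
    rcases hord a with h1 | h1 | h1
    · exact absurd (orderOf_eq_one_iff.1 h1) ha1
    · exfalso
      rw [h1] at hk
      cases k with
      | zero => simp at hk
      | succ k =>
        have : 3 ∣ 2 := by rw [hk, pow_succ]; exact dvd_mul_left 3 _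
        omega
    · exact h1
  have hfpf : ∀ a ∈ (P₃ : Subgroup G), a ≠ 1 →
      (T : Subgroup G) ⊓ Subgroup.centralizer {a} = ⊥ := by
    intro a ha ha1
    rw [eq_bot_iff]
    rintro x ⟨hxT, hxC⟩
    rw [Subgroup.mem_bot]
    by_contra hx1
    have hx2 : orderOf x = 2 := hsq_of x (hTsq x hxT) hx1
    exact hno6 x a hx2 (h3elt a ha ha1) (Subgroup.mem_centralizer_singleton_iff.1 hxC)
  have hcyc : IsCyclic (P₃ : Subgroup G) := by
    rcases Cfsg.Agent.Helper1.fpf_pgroup_cyclic_or_quaternion hTne (P₃ : Subgroup G)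
      P₃.isPGroup' hfpf with h | ⟨h, _⟩
    · exact h
    · omega
  obtain ⟨y, hy⟩ := (Subgroup.isCyclic_iff_exists_zpowers_eq_top (P₃ : Subgroup G)).1 hcyc
  have h3dvd : 3 ∣ Nat.card G := hy₀ ▸ orderOf_dvd_natCard y₀
  have hP3card : Nat.card (P₃ : Subgroup G) = 3 := by
    have h1 : 3 ^ 1 ∣ Nat.card (P₃ : Subgroup G) :=
      P₃.pow_dvd_card_of_pow_dvd_card (by simpa using h3dvd)
    have h2 : Nat.card (P₃ : Subgroup G) = orderOf y := by rw [← hy, Nat.card_zpowers]
    rw [h2] at h1 ⊢
    rcases hord y with h | h | h <;> rw [h] at h1 ⊢ <;> omega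
  -- arithmetic
  set m := (T : Subgroup G).index with hm
  have hm2 : ¬ 2 ∣ m := T.not_dvd_index
  have hmn : m ∣ Nat.card G := Subgroup.index_dvd_card _
  have hprime : ∀ {q : ℕ}, q.Prime → q ∣ m → q = 3 := by
    intro q hq hqm
    haveI : Fact q.Prime := ⟨hq⟩
    obtain ⟨g, hg⟩ := exists_prime_orderOf_dvd_card' q (hqm.trans hmn)
    rcases hord g with h | h | h
    · rw [h] at hg; exact absurd hg.symm hq.ne_one
    · rw [h] at hg; rw [← hg] at hqm; exact absurd hqm hm2
    · rw [h] at hg; exact hg.symm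
  have hm0 : m ≠ 0 := Subgroup.index_ne_zero_of_finite
  have hmpow := Nat.eq_prime_pow_of_unique_prime_dvd hm0 hprime
  set k := m.primeFactorsList.length with hk
  have hk1 : k ≤ 1 := by
    have h1 : 3 ^ k ∣ Nat.card G := hmpow ▸ hmn
    have h2 := P₃.pow_dvd_card_of_pow_dvd_card h1
    rw [hP3card] at h2
    by_contra hk2
    have : 3 ^ 2 ∣ 3 ^ k := pow_dvd_pow 3 (by omega)
    have := Nat.le_of_dvd (by norm_num) (this.trans h2)
    omega
  have hk0 : k ≠ 0 := by
    intro hk0
    rw [hk0, pow_zero] at hmpow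
    -- then G = T, no element of order 3
    have hTtop : (T : Subgroup G) = ⊤ := Subgroup.index_eq_one.1 hmpow
    have : y₀ ∈ (T : Subgroup G) := hTtop ▸ Subgroup.mem_top y₀
    have h1 := hTsq y₀ this
    have h2 : orderOf y₀ ∣ 2 := orderOf_dvd_of_pow_eq_one (by rw [sq]; exact h1)
    rw [hy₀] at h2
    omega
  have : k = 1 := by omega
  rw [hmpow, this, pow_one]

end

/-- A finite group whose set of element orders is exactly {1, 2, 3} has either a normal elementary abelian 3-subgroup of index 2 or a normal elementary abelian 2-subgroup of index 3. -/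
theorem result {G : Type*} [Group G] [Finite G] (h : Set.range (orderOf : G → ℕ) = {k : ℕ | 1 ≤ k ∧ k ≤ 3}) :
    (∃ N : Subgroup G, N.Normal ∧ Cfsg.IsElementaryAbelian 3 N ∧ N.index = 2) ∨
      (∃ N : Subgroup G, N.Normal ∧ Cfsg.IsElementaryAbelian 2 N ∧ N.index = 3) := by
  haveI : Fact (Nat.Prime 2) := ⟨Nat.prime_two⟩
  have hord : ∀ g : G, orderOf g = 1 ∨ orderOf g = 2 ∨ orderOf g = 3 := by
    intro g
    have : orderOf g ∈ Set.range (orderOf : G → ℕ) := ⟨g, rfl⟩
    rw [h] at this
    obtain ⟨h1, h2⟩ := this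
    omega
  obtain ⟨t₀, ht₀⟩ : ∃ t : G, orderOf t = 2 := by
    have : (2 : ℕ) ∈ Set.range (orderOf : G → ℕ) := by
      rw [h]; exact ⟨by norm_num, by norm_num⟩
    exact this
  obtain ⟨y₀, hy₀⟩ : ∃ y : G, orderOf y = 3 := by
    have : (3 : ℕ) ∈ Set.range (orderOf : G → ℕ) := by
      rw [h]; exact ⟨by norm_num, by norm_num⟩
    exact this
  have hno6 : ∀ t y : G, orderOf t = 2 → orderOf y = 3 → t * y = y * t → False := by
    intro t y ht hy hc
    have := Commute.orderOf_mul_eq_mul_orderOf_of_coprime (show Commute t y from hc)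
      (by rw [ht, hy]; norm_num)
    rw [ht, hy] at this
    rcases hord (t * y) with h1 | h1 | h1 <;> omega
  have hzp : IsPGroup 2 (Subgroup.zpowers t₀) := by
    apply IsPGroup.of_card (n := 1)
    rw [Nat.card_zpowers, ht₀, pow_one]
  obtain ⟨T, hT⟩ := hzp.exists_le_sylow
  have ht₀T : t₀ ∈ (T : Subgroup G) := hT (Subgroup.mem_zpowers t₀)
  have hcard2 : 2 ≤ Nat.card (T : Subgroup G) := by
    have := Subgroup.card_le_of_le hT
    rwa [Nat.card_zpowers, ht₀] at this
  rcases Nat.lt_or_ge 2 (Nat.card (T : Subgroup G)) with hlt | hge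
  · right
    exact case_two hord hno6 y₀ hy₀ T t₀ ht₀ ht₀T hlt
  · left
    exact case_one hord hno6 T t₀ ht₀ ht₀T (le_antisymm hge hcard2)

end Cfsg.Agent.S4005
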