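-- Statement S4009 (row 4009): A. Mann's lower bound for the order of a p-group of derived length k+1.
-- Proof: board s4009pieces (blueprint departures/helper27_S4009_blueprint.md).
import Cfsg.Statements.S4009
import Mathlib
import Cfsg.Agent.Helper27.S4009Defs
import Cfsg.Agent.Helper27.S4009MAIN
import Cfsg.Agent.Helper20.S4009STRICT

set_option autoImplicit false
open Cfsg

namespace Cfsg.Agent.S4009

open Cfsg.Agent.S4009P

/-- Let P be a finite p-group of order p^n whose derived length is exactly k + 1 (the k-th derived subgroup is nontrivial and the (k+1)-st is trivial). Then n ≥ 2^k + 2k − 2. -/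
theorem result {P : Type*} [Group P] [Finite P] (p : ℕ) [Fact p.Prime] (n k : ℕ) (hcard : Nat.card P = p ^ n) (hk : derivedSeries P k ≠ ⊥) (hk' : derivedSeries P (k + 1) = ⊥) : 2 ^ k + 2 * k ≤ n + 2 := by
  have hp : p.Prime := Fact.out
  have hP : IsPGroup p P := IsPGroup.of_card hcard
  have h0 : Gam P 0 ≠ ⊥ := by
    intro h
    apply hk
    have : derivedSeries P k ≤ (⊤ : Subgroup P) := le_top
    have e : Gam P 0 = ⊤ := rfl
    rw [e] at h
    rw [h] at this
    exact le_bot_iff.mp this
  have hnle : ¬ derivedSeries P 0 ≤ Gam P (0 + 1) := by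
    intro hle
    have e : derivedSeries P 0 = ⊤ := rfl
    rw [e] at hle
    have h1 := STRICT hP h0
    have h2 : Nat.card ↥(Gam P 0) ≤ Nat.card ↥(Gam P (0 + 1)) := Subgroup.card_le_of_le (le_trans le_top hle)
    have h3 : 0 < Nat.card ↥(Gam P (0 + 1)) := Nat.card_pos
    have h4 : 2 * Nat.card ↥(Gam P (0 + 1)) ≤ p * Nat.card ↥(Gam P (0 + 1)) :=
      Nat.mul_le_mul_right _ hp.two_le
    omega
  have hmain := (MAIN hP k 0 0 (by rw [Nat.zero_add]; exact hk) le_top hnle).1
  have e0 : Nat.card ↥(Gam P 0) = p ^ n := by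
    have e : Gam P 0 = ⊤ := rfl
    rw [e, Subgroup.card_top, hcard]
  rw [e0] at hmain
  have hexp := (Nat.pow_le_pow_iff_right hp.one_lt).mp hmain
  have h2k : 1 ≤ 2 ^ k := Nat.one_le_two_pow
  unfold gB at hexp
  split_ifs at hexp with hk0
  · subst hk0; omega
  · omega

end Cfsg.Agent.S4009
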