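import Cfsg.Statements.S4010
import Cfsg.Agent.Helper26.DLa
import Cfsg.Agent.Helper26.DLc

set_option autoImplicit false
open Cfsg

namespace Cfsg.Agent.S4010

/-- Let F be a field, n ≥ 1, and P a finite p-group (p a prime) admitting an injective homomorphism into the general linear group of degree n over F. Then the derived length of P is at most ⌊log₂ n⌋ + 1: that term of the derived series of P is trivial. -/
theorem result {P : Type*} [Group P] [Finite P] (p : ℕ) [Fact p.Prime] (hP : IsPGroup p P) (F : Type*) [Field F] (n : ℕ) (hn : 1 ≤ n) (ρ : P →* Matrix.GeneralLinearGroup (Fin n) F) (hρ : Function.Injective ρ) : derivedSeries P (Nat.log 2 n + 1) = ⊥ := by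
  classical
  -- the linear representation attached to a matrix representation over a field `L`
  have key : ∀ (L : Type _) [Field L] (σ : P →* Matrix (Fin n) (Fin n) L),
      Function.Injective σ →
      (((p : L) = 0 → derivedSeries P (Nat.clog 2 n) = ⊥) ∧
       (IsAlgClosed L → (p : L) ≠ 0 → derivedSeries P (Nat.log 2 n + 1) = ⊥)) := by
    intro L _ σ hσ
    obtain ⟨τ, hτ⟩ : ∃ τ : Representation L P (Fin n → L),
        τ = (Matrix.toLinAlgEquiv' : Matrix (Fin n) (Fin n) L ≃ₐ[L] _).toAlgHom.toRingHom.toMonoidHom.comp σ :=
      ⟨_, rfl⟩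
    have hτinj : Function.Injective τ := by
      rw [hτ]
      intro a b hab
      apply hσ
      exact (Matrix.toLinAlgEquiv' : Matrix (Fin n) (Fin n) L ≃ₐ[L] _).injective hab
    have hker : τ.ker = ⊥ := (MonoidHom.ker_eq_bot_iff τ).2 hτinj
    have hfr : Module.finrank L (Fin n → L) ≤ n := by simp
    constructor
    · intro hp0
      have := Cfsg.Agent.Helper26.DL.derivedSeries_le_ker_of_char τ p hp0 hP n hfr
      rwa [hker, le_bot_iff] at this
    · intro _ hpL
      have := Cfsg.Agent.Helper26.DL.dl_algClosed p hpL n (Fin n → L) P hP τ hfr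
      rwa [hker, le_bot_iff] at this
  by_cases hp0 : (p : F) = 0
  · -- characteristic p
    have hσinj : Function.Injective ((Units.coeHom (Matrix (Fin n) (Fin n) F)).comp ρ) := by
      intro a b hab
      apply hρ
      exact Units.ext hab
    have h1 := (key F _ hσinj).1 hp0
    have h2 : Nat.clog 2 n ≤ Nat.log 2 n + 1 :=
      Nat.clog_le_of_le_pow (Nat.lt_pow_succ_log_self (by norm_num) n).le
    exact le_bot_iff.1 (h1 ▸ derivedSeries_antitone P h2)
  · -- characteristic different from p: base change to the algebraic closure
    obtain ⟨σ, hσ⟩ : ∃ σ : P →* Matrix (Fin n) (Fin n) (AlgebraicClosure F),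
        σ = ((algebraMap F (AlgebraicClosure F)).mapMatrix.toMonoidHom.comp
          ((Units.coeHom (Matrix (Fin n) (Fin n) F)).comp ρ)) := ⟨_, rfl⟩
    have hσinj : Function.Injective σ := by
      rw [hσ]
      intro a b hab
      apply hρ
      apply Units.ext
      have h1 : ((ρ a : Matrix (Fin n) (Fin n) F)).map (algebraMap F (AlgebraicClosure F)) =
          ((ρ b : Matrix (Fin n) (Fin n) F)).map (algebraMap F (AlgebraicClosure F)) := hab
      exact Matrix.map_injective (algebraMap F (AlgebraicClosure F)).injective h1
    have hpL : (p : AlgebraicClosure F) ≠ 0 := by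
      intro h
      apply hp0
      apply (algebraMap F (AlgebraicClosure F)).injective
      rw [map_natCast, h, map_zero]
    exact (key (AlgebraicClosure F) σ hσinj).2 inferInstance hpL

end Cfsg.Agent.S4010
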