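import Cfsg.Statements.S4013
import Cfsg.Agent.Helper20.Basic

set_option autoImplicit false
open Cfsg

namespace Cfsg.Agent.S4013

lemma arith (p a b d : ℕ) (hp : p.Prime) (hd : 1 ≤ d) (h : p ^ a = p ^ b * (p ^ d - 1)) :
    p = 2 ∧ d = 1 := by
  have h1 : p ^ d - 1 ∣ p ^ a := ⟨p ^ b, by rw [h]; ring⟩
  obtain ⟨e, _, he⟩ := (Nat.dvd_prime_pow hp).1 h1
  have hpd : 2 ≤ p ^ d := by
    calc 2 ≤ p := hp.two_le
      _ = p ^ 1 := (pow_one p).symm
      _ ≤ p ^ d := Nat.pow_le_pow_right hp.pos hd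
  rcases Nat.eq_zero_or_pos e with he0 | hepos
  · rw [he0, pow_zero] at he
    have h2 : p ^ d = 2 := by omega
    have hp2 : p ∣ 2 := by
      rw [← h2]; exact dvd_pow_self p (by omega)
    have hp2' : p = 2 := (Nat.prime_dvd_prime_iff_eq hp Nat.prime_two).1 hp2
    refine ⟨hp2', ?_⟩
    rw [hp2'] at h2
    have : (2:ℕ) ^ d = 2 ^ 1 := by rw [h2]; norm_num
    exact Nat.pow_right_injective (le_refl 2) this
  · exfalso
    have hd1 : p ∣ p ^ d := dvd_pow_self p (by omega)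
    have hd2 : p ∣ p ^ d - 1 := by rw [he]; exact dvd_pow_self p (by omega)
    have : p ∣ 1 := by
      have := Nat.dvd_sub hd1 hd2
      rwa [Nat.sub_sub_self (by omega)] at this
    exact hp.one_lt.ne' (Nat.dvd_one.1 this)

theorem result {G : Type*} [Group G] [Finite G] (p : ℕ) [Fact p.Prime] (hG : IsPGroup p G) (N M : Subgroup G) [N.Normal] [M.Normal] (hNM : N < M) (g : G) (hgM : g ∈ M) (hgN : g ∉ N) (hcl : {h : G | IsConj g h} = (M : Set G) \ (N : Set G)) : p = 2 ∧ N.relIndex M = 2 := by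
  have hp := (Fact.out : p.Prime)
  have hcard : (Subgroup.centralizer ({g} : Set G)).index = Nat.card M - Nat.card N := by
    rw [← Helper20.ncard_setOf_isConj, hcl, Set.ncard_sdiff (SetLike.coe_subset_coe.2 hNM.le) (Set.toFinite _)]
    rfl
  obtain ⟨a, ha⟩ := hG.index (Subgroup.centralizer ({g} : Set G))
  obtain ⟨b, hb⟩ := IsPGroup.iff_card.1 (hG.to_subgroup N)
  have hrel : Nat.card N * N.relIndex M = Nat.card M := by
    have := Subgroup.relIndex_mul_relIndex ⊥ N M bot_le hNM.le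
    rwa [Subgroup.relIndex_bot_left, Subgroup.relIndex_bot_left] at this
  have hrelp : ∃ d, N.relIndex M = p ^ d := by
    have hdvd : N.relIndex M ∣ Nat.card G :=
      dvd_trans (Subgroup.relIndex_dvd_card N M) (Subgroup.card_subgroup_dvd_card M)
    obtain ⟨n, hn⟩ := IsPGroup.iff_card.1 hG
    rw [hn] at hdvd
    obtain ⟨d, _, hd⟩ := (Nat.dvd_prime_pow hp).1 hdvd
    exact ⟨d, hd⟩
  obtain ⟨d, hd⟩ := hrelp
  have hd1 : 1 ≤ d := by
    by_contra h
    have hd0 : d = 0 := by omega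
    rw [hd0, pow_zero] at hd
    rw [hd, mul_one] at hrel
    have hlt : Nat.card N < Nat.card M := by
      have : (N : Set G).ncard < (M : Set G).ncard :=
        Set.ncard_lt_ncard (SetLike.coe_ssubset_coe.2 hNM) (Set.toFinite _)
      exact this
    omega
  have key : p ^ a = p ^ b * (p ^ d - 1) := by
    rw [← ha, hcard, ← hrel, hb, hd, Nat.mul_sub, mul_one]
  obtain ⟨h2, hd1'⟩ := arith p a b d hp hd1 key
  refine ⟨h2, ?_⟩
  rw [hd, hd1', h2]; norm_num

end Cfsg.Agent.S4013
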