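import Cfsg.Statements.S4145
import Mathlib
import Cfsg.Agent.S0082
import Cfsg.Agent.Helper9.NPCSub
import Cfsg.Agent.Helper9.NPC
import Cfsg.Agent.Helper9.Burnside
import Cfsg.Agent.Helper9.AbelianSylow
import Cfsg.Agent.Helper9.PResidual
import Cfsg.Agent.Helper11.SylowInter

set_option autoImplicit false
set_option linter.style.haveILetI false
open Cfsg

namespace Cfsg.Agent.S4145

open Subgroup

/-- `HasNormalPComplement` is invariant under isomorphism. -/
theorem hasNormalPComplement_of_mulEquiv {A B : Type*} [Group A] [Group B] [Finite A] {p : ℕ}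
    [Fact p.Prime] (e : A ≃* B) (h : Cfsg.HasNormalPComplement p A) : Cfsg.HasNormalPComplement p B := by
  haveI : Finite B := Finite.of_equiv A e.toEquiv
  obtain ⟨P, N, hN, hc⟩ := h
  have hsurj : Function.Surjective e.toMonoidHom := e.surjective
  have hinj : Function.Injective e.toMonoidHom := e.injective
  refine ⟨P.mapSurjective hsurj, N.map e.toMonoidHom, hN.map _ hsurj, ?_⟩
  rw [Sylow.coe_mapSurjective]
  apply isComplement'_of_card_mul_and_disjoint
  · rw [Subgroup.card_map_of_injective hinj, Subgroup.card_map_of_injective hinj,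
      hc.card_mul_card, Nat.card_congr e.toEquiv]
  · rw [disjoint_iff, ← Subgroup.map_inf _ _ _ hinj, hc.disjoint.eq_bot, Subgroup.map_bot]

/-- A Sylow subgroup viewed inside a subgroup containing it is still cyclic. -/
theorem isCyclic_sylow_subtype {G : Type*} [Group G] {p : ℕ} (P : Sylow p G)
    (hP : IsCyclic (P : Subgroup G)) {Y : Subgroup G} (hPY : (P : Subgroup G) ≤ Y) :
    IsCyclic ((P.subtype hPY : Sylow p Y) : Subgroup Y) := by
  rw [Sylow.coe_subtype]
  exact isCyclic_of_surjective (Subgroup.subgroupOfEquivOfLe hPY).symm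
    (Subgroup.subgroupOfEquivOfLe hPY).symm.surjective

theorem part1 {G : Type*} [Group G] [Finite G] (p : ℕ) [Fact p.Prime] (P : Sylow p G)
    (hP : IsCyclic (P : Subgroup G)) (H : Subgroup G) [hHn : H.Normal] (h2 : p ∣ H.index) :
    Cfsg.HasNormalPComplement p H := by
  have hp : p.Prime := Fact.out
  set Y : Subgroup G := H ⊔ (P : Subgroup G) with hY
  have hPY : (P : Subgroup G) ≤ Y := le_sup_right
  have hHY : H ≤ Y := le_sup_left
  have hcyc := isCyclic_sylow_subtype P hP hPY
  rcases Cfsg.Agent.S0082.result (P.subtype hPY) hcyc with h | h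
  · have h3 := Cfsg.Agent.Helper9.hasNormalPComplement_subgroup h (H.subgroupOf Y)
    exact hasNormalPComplement_of_mulEquiv (Subgroup.subgroupOfEquivOfLe hHY) h3
  · exfalso
    -- every p'-element of Y lies in H
    have hle : Cfsg.pResidual p Y ≤ H.subgroupOf Y := by
      unfold Cfsg.pResidual
      rw [Subgroup.closure_le]
      intro g hg
      have hg' : Nat.Coprime (orderOf g) p := hg
      show (g : G) ∈ H
      rw [← QuotientGroup.eq_one_iff (N := H)]
      have hmem : ((g : G) : G ⧸ H) ∈ (P : Subgroup G).map (QuotientGroup.mk' H) := by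
        have h4 : ((g : G) : G ⧸ H) ∈ Y.map (QuotientGroup.mk' H) := ⟨g, g.2, rfl⟩
        have h40 : Y.map (QuotientGroup.mk' H) = (P : Subgroup G).map (QuotientGroup.mk' H) := by
          rw [hY, Subgroup.map_sup, QuotientGroup.map_mk'_self, bot_sup_eq]
        rw [h40] at h4
        exact h4
      have hpg : IsPGroup p ((P : Subgroup G).map (QuotientGroup.mk' H)) := P.2.map _
      obtain ⟨k, hk⟩ := hpg ⟨_, hmem⟩
      have hk' : ((g : G) : G ⧸ H) ^ p ^ k = 1 := by
        have := congrArg Subtype.val hk
        simpa using this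
      have h5 : orderOf ((g : G) : G ⧸ H) ∣ p ^ k := orderOf_dvd_of_pow_eq_one hk'
      have h6 : orderOf ((g : G) : G ⧸ H) ∣ orderOf g := by
        have := orderOf_map_dvd ((QuotientGroup.mk' H).comp Y.subtype) g
        exact this
      have h7 : Nat.Coprime (orderOf ((g : G) : G ⧸ H)) (p ^ k) :=
        Nat.Coprime.pow_right k (Nat.Coprime.coprime_dvd_left h6 hg')
      have h8 : orderOf ((g : G) : G ⧸ H) = 1 := Nat.Coprime.eq_one_of_dvd h7 h5
      exact orderOf_eq_one_iff.mp h8
    rw [h, top_le_iff, Subgroup.subgroupOf_eq_top] at hle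
    have hPH : (P : Subgroup G) ≤ H := le_trans hPY hle
    have h9 : H.index ∣ (P : Subgroup G).index := Subgroup.index_dvd_of_le hPH
    exact P.not_dvd_index (dvd_trans h2 h9)

/-- Pull back a `p`-solvable chain along the quotient by a normal `p'`-subgroup. -/
theorem isPSolvable_of_quotient {G : Type*} [Group G] {p : ℕ} (K : Subgroup G) [K.Normal]
    (hK : (Nat.card K).Coprime p) (h : Cfsg.IsPSolvable p (G ⧸ K)) : Cfsg.IsPSolvable p G := by
  obtain ⟨n, H, h0, hlast, hmono, hnorm, hstep⟩ := h
  have hsurj := QuotientGroup.mk'_surjective K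
  refine ⟨n + 1, Fin.cons ⊥ (fun i => (H i).comap (QuotientGroup.mk' K)), ?_, ?_, ?_, ?_, ?_⟩
  · rfl
  · have : Fin.last (n + 1) = (Fin.last n).succ := rfl
    rw [this, Fin.cons_succ, hlast, Subgroup.comap_top]
  · rw [Fin.monotone_iff_le_succ]
    intro i
    refine Fin.cases ?_ (fun j => ?_) i
    · rw [Fin.castSucc_zero, Fin.cons_zero]
      exact bot_le
    · rw [← Fin.succ_castSucc, Fin.cons_succ, Fin.cons_succ]
      exact Subgroup.comap_mono (hmono (Fin.castSucc_le_succ j))
  · intro i
    refine Fin.cases ?_ (fun j => ?_) i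
    · rw [Fin.cons_zero]; infer_instance
    · rw [Fin.cons_succ]
      haveI := hnorm j
      infer_instance
  · intro i
    refine Fin.cases ?_ (fun j => ?_) i
    · right
      rw [Fin.castSucc_zero, Fin.cons_zero, Fin.cons_succ, h0, Subgroup.relIndex_bot_left]
      have : (⊥ : Subgroup (G ⧸ K)).comap (QuotientGroup.mk' K) = K := by
        have h1 : (QuotientGroup.mk' K).ker = K := QuotientGroup.ker_mk' K
        exact h1
      rw [this]
      exact hK
    · rw [← Fin.succ_castSucc, Fin.cons_succ, Fin.cons_succ]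
      have hrel : ((H j.castSucc).comap (QuotientGroup.mk' K)).relIndex
          ((H j.succ).comap (QuotientGroup.mk' K)) = (H j.castSucc).relIndex (H j.succ) := by
        rw [Subgroup.relIndex_comap, Subgroup.map_comap_eq_self_of_surjective hsurj]
      rw [hrel]
      exact hstep j

/-- A group with a cyclic Sylow `p`-subgroup meeting the centre nontrivially is `p`-nilpotent. -/
theorem npc_of_central {C : Type*} [Group C] [Finite C] {p : ℕ} [Fact p.Prime] (S : Sylow p C)
    (hS : IsCyclic (S : Subgroup C)) (z : C) (hz1 : z ≠ 1) (hzS : z ∈ (S : Subgroup C))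
    (hzc : ∀ c : C, c * z = z * c) : Cfsg.HasNormalPComplement p C := by
  have hS' : IsCyclic S := hS
  have hScomm : IsMulCommutative S := IsCyclic.isMulCommutative
  obtain ⟨h1, h2⟩ := Cfsg.Agent.Helper9.abelian_sylow_decomp S hScomm
  have hA : (S : Subgroup C) ⊓ centralizer (normalizer (S : Set C) : Set C) ≤ (S : Subgroup C) :=
    inf_le_left
  have hB : ⁅(S : Subgroup C), normalizer (S : Set C)⁆ ≤ (S : Subgroup C) :=
    le_trans le_sup_right (le_of_eq h2)
  rcases Cfsg.Agent.Helper9.eq_bot_or_eq_bot_of_inf_eq_bot_of_isCyclic (S : Subgroup C) S.2 hS _ _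
    hA hB h1 with h | h
  · exfalso
    have hzA : z ∈ (S : Subgroup C) ⊓ centralizer (normalizer (S : Set C) : Set C) := by
      rw [Subgroup.mem_inf]
      refine ⟨hzS, ?_⟩
      rw [mem_centralizer_iff]
      intro c _
      exact hzc c
    rw [h, mem_bot] at hzA
    exact hz1 hzA
  · apply Cfsg.Agent.Helper9.hasNormalPComplement_of_normalizer_le_centralizer S
    have h3 := (Subgroup.commutator_eq_bot_iff_le_centralizer).mp h
    exact (Subgroup.le_centralizer_iff).mp h3

/-- Cyclic Sylow `p`-subgroup and a nontrivial normal `p`-subgroup: the group is `p`-solvable. -/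
theorem psolv_of_normal_pgroup {G : Type*} [Group G] [Finite G] (p : ℕ) [Fact p.Prime]
    (P : Sylow p G) (hP : IsCyclic (P : Subgroup G)) (H : Subgroup G) [hHn : H.Normal]
    (hHp : IsPGroup p H) (hH1 : H ≠ ⊥) : Cfsg.IsPSolvable p G := by
  have hp : p.Prime := Fact.out
  have hHP : H ≤ (P : Subgroup G) := Cfsg.Agent.Helper11.normal_pgroup_le_sylow P H hHp
  have hP' : IsCyclic P := hP
  have hPcomm : IsMulCommutative P := IsCyclic.isMulCommutative
  set C : Subgroup G := centralizer (H : Set G) with hC
  have hCn : C.Normal := inferInstance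
  have hPC : (P : Subgroup G) ≤ C := by
    intro u hu
    rw [hC, mem_centralizer_iff]
    intro h hh
    have := hPcomm.is_comm.comm (⟨h, hHP hh⟩ : P) ⟨u, hu⟩
    exact congrArg Subtype.val this
  -- a nontrivial central element of C in S
  obtain ⟨z, hzH, hz1⟩ : ∃ z ∈ H, z ≠ 1 := by
    by_contra hcon
    push Not at hcon
    exact hH1 ((Subgroup.eq_bot_iff_forall H).mpr hcon)
  have hzC : z ∈ C := hPC (hHP hzH)
  have hnpc : Cfsg.HasNormalPComplement p C := by
    apply npc_of_central (P.subtype hPC) (isCyclic_sylow_subtype P hP hPC) ⟨z, hzC⟩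
    · intro h; exact hz1 (congrArg Subtype.val h)
    · rw [Sylow.coe_subtype, mem_subgroupOf]; exact hHP hzH
    · intro c
      apply Subtype.ext
      have h1 : (c : G) ∈ centralizer (H : Set G) := c.2
      rw [mem_centralizer_iff] at h1
      exact (h1 z hzH).symm
  -- the normal p-complement of C
  obtain ⟨N, hNn, hNc⟩ := (Cfsg.Agent.Helper9.hasNormalPComplement_iff (P.subtype hPC)).mp hnpc
  haveI := hNn
  have hNeq : N = Cfsg.pResidual p C :=
    Cfsg.Agent.Helper9.normal_complement_eq_pResidual (P.subtype hPC) N hNc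
  set L : Subgroup G := (Cfsg.pResidual p C).map C.subtype with hL
  have hLn : L.Normal := inferInstance
  have hLC : L ≤ C := Subgroup.map_subtype_le _
  have hLcard : Nat.card L = ((P.subtype hPC : Sylow p C) : Subgroup C).index := by
    rw [hL, Subgroup.card_map_of_injective C.subtype_injective, ← hNeq]
    exact hNc.index_eq_card.symm
  have hLcop : (Nat.card L).Coprime p := by
    rw [hLcard]
    exact ((Nat.Prime.coprime_iff_not_dvd hp).mpr (P.subtype hPC).not_dvd_index).symm
  obtain ⟨k, hk⟩ := IsPGroup.iff_card.mp (P.subtype hPC).2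
  have hLrel : L.relIndex C = p ^ k := by
    have h1 : L.subgroupOf C = Cfsg.pResidual p C := by
      rw [hL, ← Subgroup.comap_subtype]
      exact Subgroup.comap_map_eq_self_of_injective C.subtype_injective _
    rw [Subgroup.relIndex, h1, ← hNeq, hNc.symm.index_eq_card]
    exact hk
  have hCidx : (C.index).Coprime p := by
    have h1 : C.index ∣ (P : Subgroup G).index := Subgroup.index_dvd_of_le hPC
    exact Nat.Coprime.coprime_dvd_left h1
      ((Nat.Prime.coprime_iff_not_dvd hp).mpr P.not_dvd_index).symm
  refine ⟨3, ![⊥, L, C, ⊤], rfl, rfl, ?_, ?_, ?_⟩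
  · rw [Fin.monotone_iff_le_succ]
    intro i
    fin_cases i
    · exact bot_le
    · exact hLC
    · exact le_top
  · intro i
    fin_cases i
    · exact (inferInstance : (⊥ : Subgroup G).Normal)
    · exact hLn
    · exact hCn
    · exact (inferInstance : (⊤ : Subgroup G).Normal)
  · intro i
    fin_cases i
    · right
      show ((⊥ : Subgroup G).relIndex L).Coprime p
      rw [Subgroup.relIndex_bot_left]
      exact hLcop
    · left
      exact ⟨k, hLrel⟩
    · right
      show (C.relIndex ⊤).Coprime p
      rw [Subgroup.relIndex_top_right]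
      exact hCidx


/-- Let G be a finite group with a cyclic Sylow p-subgroup and H a normal subgroup such that p divides both the order of H and the index of H. Then H has a normal p-complement and G is p-solvable. -/
theorem result {G : Type*} [Group G] [Finite G] (p : ℕ) [Fact p.Prime]
    (P : Sylow p G) (hP : IsCyclic (P : Subgroup G)) (H : Subgroup G) [H.Normal] (h1 : p ∣ Nat.card H) (h2 : p ∣ H.index) :
    Cfsg.HasNormalPComplement p H ∧ Cfsg.IsPSolvable p G := by
  have hp : p.Prime := Fact.out
  have hnpc : Cfsg.HasNormalPComplement p H := part1 p P hP H h2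
  refine ⟨hnpc, ?_⟩
  -- the normal p-complement of H, as a normal subgroup of G
  set K : Subgroup G := (Cfsg.pResidual p H).map H.subtype with hK
  have hKn : K.Normal := inferInstance
  have hKH : K ≤ H := Subgroup.map_subtype_le _
  obtain ⟨Q⟩ : Nonempty (Sylow p H) := inferInstance
  obtain ⟨N, hNn, hNc⟩ := (Cfsg.Agent.Helper9.hasNormalPComplement_iff Q).mp hnpc
  haveI := hNn
  have hNeq : N = Cfsg.pResidual p H := Cfsg.Agent.Helper9.normal_complement_eq_pResidual Q N hNc
  have hKcard : Nat.card K = (Q : Subgroup H).index := by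
    rw [hK, Subgroup.card_map_of_injective H.subtype_injective, ← hNeq]
    exact hNc.index_eq_card.symm
  have hKcop : (Nat.card K).Coprime p := by
    rw [hKcard]
    exact ((Nat.Prime.coprime_iff_not_dvd hp).mpr Q.not_dvd_index).symm
  apply isPSolvable_of_quotient K hKcop
  -- the quotient
  have hsurj := QuotientGroup.mk'_surjective K
  have hcycbar : IsCyclic ((P.mapSurjective hsurj : Sylow p (G ⧸ K)) : Subgroup (G ⧸ K)) := by
    rw [Sylow.coe_mapSurjective]
    haveI : IsCyclic (P : Subgroup G) := hP
    exact isCyclic_of_surjective ((QuotientGroup.mk' K).subgroupMap (P : Subgroup G))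
      ((QuotientGroup.mk' K).subgroupMap_surjective (P : Subgroup G))
  haveI hHbarn : (H.map (QuotientGroup.mk' K)).Normal :=
    Subgroup.Normal.map inferInstance _ hsurj
  have hHbarp : IsPGroup p (H.map (QuotientGroup.mk' K)) := by
    rintro ⟨y, x, hx, rfl⟩
    obtain ⟨k, hk⟩ := (Cfsg.Agent.Helper9.isPGroup_quotient_pResidual (G := H) p)
      ((⟨x, hx⟩ : H) : H ⧸ Cfsg.pResidual p H)
    refine ⟨k, ?_⟩
    apply Subtype.ext
    rw [← QuotientGroup.mk_pow, QuotientGroup.eq_one_iff] at hk
    show (QuotientGroup.mk' K x) ^ p ^ k = 1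
    rw [← map_pow, QuotientGroup.mk'_apply, QuotientGroup.eq_one_iff, hK]
    exact ⟨_, hk, rfl⟩
  have hHbar1 : H.map (QuotientGroup.mk' K) ≠ ⊥ := by
    intro h0
    have hHK : H ≤ K := by
      intro x hx
      have : QuotientGroup.mk' K x ∈ H.map (QuotientGroup.mk' K) := ⟨x, hx, rfl⟩
      rw [h0, Subgroup.mem_bot, QuotientGroup.mk'_apply, QuotientGroup.eq_one_iff] at this
      exact this
    have : H = K := le_antisymm hHK hKH
    rw [this] at h1
    exact (Nat.Prime.coprime_iff_not_dvd hp).mp hKcop.symm h1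
  exact psolv_of_normal_pgroup p (P.mapSurjective hsurj) hcycbar (H.map (QuotientGroup.mk' K))
    hHbarp hHbar1

end Cfsg.Agent.S4145
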