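import Cfsg.Statements.S4403
import Mathlib
import Cfsg.Agent.S4145
import Cfsg.Agent.S0088
import Cfsg.Agent.Helper7.FStar
import Cfsg.Agent.Helper7.PConstrained
import Cfsg.Agent.Helper7.PPrimeCore
import Cfsg.Agent.Helper14.PCore
import Cfsg.Agent.Helper23.Cyclic
import Cfsg.Agent.Helper9.AbelianSylow
-- import your own Cfsg.Agent.* helpers here

set_option autoImplicit false
set_option linter.style.haveILetI false
open Cfsg

namespace Cfsg.Agent.S4403

open Subgroup

/-- A perfect finite group with abelian Sylow `p`-subgroups has no central element of order `p`. -/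
theorem no_central_order_p {H : Type*} [Group H] [Finite H] {p : ℕ} [Fact p.Prime]
    (hperf : commutator H = ⊤) (T : Sylow p H) (hT : IsMulCommutative T)
    (z : H) (hz : z ∈ center H) (hzo : orderOf z = p) : False := by
  have h1 := Cfsg.Agent.S0088.result (T : Subgroup H) hT T.card_coprime_index
  have hZn : (zpowers z).Normal := by
    refine ⟨fun x hx g => ?_⟩
    obtain ⟨k, rfl⟩ := mem_zpowers_iff.mp hx
    have hc : Commute g (z ^ k) := (show Commute g z from mem_center_iff.mp hz g).zpow_right k
    rw [hc.eq, mul_inv_cancel_right]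
    exact hx
  have hZp : IsPGroup p (zpowers z) := by
    apply IsPGroup.of_card (n := 1)
    rw [Nat.card_zpowers, hzo, pow_one]
  have hzT : z ∈ (T : Subgroup H) := hZp.le_sylow_of_normal T (mem_zpowers z)
  have hmem : z ∈ (T : Subgroup H) ⊓ commutator H ⊓ center H :=
    ⟨⟨hzT, by rw [hperf]; trivial⟩, hz⟩
  rw [h1, mem_bot] at hmem
  rw [hmem, orderOf_one] at hzo
  exact (Fact.out : p.Prime).one_lt.ne hzo

section

variable {K : Type*} [Group K] [Finite K] {p : ℕ} [Fact p.Prime]

/-- every `p`-subgroup can be conjugated into a given Sylow `p`-subgroup -/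
theorem exists_conj_mem (P : Sylow p K) (Y : Subgroup K) (hY : IsPGroup p Y) :
    ∃ g : K, ∀ y ∈ Y, g * y * g⁻¹ ∈ P := by
  obtain ⟨h, -, hh⟩ := Cfsg.Agent.Helper7.exists_conj_mem_sylow_of_le P
    (le_top : (P : Subgroup K) ≤ ⊤) (le_top : Y ≤ ⊤) hY
  exact ⟨h, hh⟩

/-- With cyclic Sylow `p`-subgroups, `p`-subgroups are cyclic. -/
theorem isCyclic_of_isPGroup (P : Sylow p K) (hP : IsCyclic ↥(P : Subgroup K))
    {R : Type*} [Group R] (f : R →* K) (hf : Function.Injective f) (hR : IsPGroup p R) :
    IsCyclic R := by
  have hH : IsPGroup p f.range := hR.of_surjective f.rangeRestrict f.rangeRestrict_surjective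
  obtain ⟨g, hg⟩ := exists_conj_mem P f.range hH
  let ψ : R →* (P : Subgroup K) :=
    ((MulAut.conj g).toMonoidHom.comp f).codRestrict (P : Subgroup K) (fun r => by
      show g * f r * g⁻¹ ∈ P
      exact hg (f r) ⟨r, rfl⟩)
  have hψ : Function.Injective ψ := by
    intro a b hab
    have h1 : g * f a * g⁻¹ = g * f b * g⁻¹ := congrArg Subtype.val hab
    have h2 : f a = f b := by
      have := mul_right_cancel h1
      exact mul_left_cancel this
    exact hf h2
  exact isCyclic_of_injective ψ hψ

/-- With cyclic Sylow `p`-subgroups, commuting elements of order `p` generate the same subgroup. -/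
theorem mem_zpowers_of_commute (P : Sylow p K) (hP : IsCyclic ↥(P : Subgroup K))
    {x y : K} (hx : orderOf x = p) (hy : orderOf y = p) (hxy : Commute x y) :
    y ∈ zpowers x := by
  have hXp : IsPGroup p (zpowers x) := by
    apply IsPGroup.of_card (n := 1); rw [Nat.card_zpowers, hx, pow_one]
  have hYp : IsPGroup p (zpowers y) := by
    apply IsPGroup.of_card (n := 1); rw [Nat.card_zpowers, hy, pow_one]
  have hnorm : zpowers x ≤ normalizer (zpowers y : Set K) := by
    intro a ha
    obtain ⟨k, rfl⟩ := mem_zpowers_iff.mp ha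
    rw [mem_normalizer_iff]
    intro b
    have hcb : ∀ c ∈ zpowers y, x ^ k * c * (x ^ k)⁻¹ = c := by
      intro c hc
      obtain ⟨j, rfl⟩ := mem_zpowers_iff.mp hc
      have : Commute (x ^ k) (y ^ j) := (hxy.zpow_left k).zpow_right j
      rw [this.eq, mul_inv_cancel_right]
    constructor
    · intro hb
      rw [hcb b hb]; exact hb
    · intro hb
      have h1 := hcb _ hb
      have h2 : x ^ k * b * (x ^ k)⁻¹ = b := by
        have h3 := mul_right_cancel h1
        exact mul_left_cancel h3
      rw [← h2]; exact hb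
  have hsup : IsPGroup p (zpowers x ⊔ zpowers y : Subgroup K) :=
    hXp.to_sup_of_normal_right' hYp hnorm
  haveI : IsCyclic ↥(zpowers x ⊔ zpowers y : Subgroup K) :=
    isCyclic_of_isPGroup P hP (zpowers x ⊔ zpowers y : Subgroup K).subtype
      (subtype_injective _) hsup
  have heq : zpowers x = zpowers y := by
    apply Cfsg.Agent.Helper23.eq_of_card_eq_of_isCyclic (zpowers x ⊔ zpowers y) inferInstance
    · exact le_sup_left
    · exact le_sup_right
    · rw [Nat.card_zpowers, Nat.card_zpowers, hx, hy]
  rw [heq]
  exact mem_zpowers y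

variable (hO : Cfsg.pPrimeCore p K = ⊥)
include hO

theorem component_dvd_card {L : Subgroup K} (hL : Cfsg.IsComponent L) : p ∣ Nat.card L := by
  by_contra h
  have hcop : (Nat.card L).Coprime p :=
    (Nat.Coprime.symm ((Nat.Prime.coprime_iff_not_dvd (Fact.out : p.Prime)).mpr h))
  have hle := Cfsg.Agent.Helper7.subnormal_coprime_le_pPrimeCore hL.1 hcop
  rw [hO] at hle
  exact Cfsg.Agent.Helper7.IsComponent.ne_bot hL (le_bot_iff.mp hle)

omit hO in
theorem component_no_central (P : Sylow p K) (hP : IsCyclic ↥(P : Subgroup K))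
    {L : Subgroup K} (hL : Cfsg.IsComponent L) (z : K) (hzL : z ∈ L)
    (hzc : ∀ x ∈ L, z * x = x * z) (hzo : orderOf z = p) : False := by
  have hperf : commutator ↥L = ⊤ := Group.isPerfect_def.mp hL.2.1
  obtain ⟨T⟩ : Nonempty (Sylow p ↥L) := inferInstance
  haveI hTc : IsCyclic ↥(T : Subgroup ↥L) :=
    isCyclic_of_isPGroup P hP (L.subtype.comp (T : Subgroup ↥L).subtype)
      (fun a b hab => Subtype.ext (Subtype.ext hab)) T.2
  have hT : IsMulCommutative ↥(T : Subgroup ↥L) := IsCyclic.isMulCommutative
  apply no_central_order_p hperf T hT ⟨z, hzL⟩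
  · rw [mem_center_iff]
    intro g
    apply Subtype.ext
    exact (hzc g g.2).symm
  · rw [← hzo]
    exact Subgroup.orderOf_mk z hzL

end

/-- Let K be a finite group, p a prime dividing its order with O_{p'}(K) = 1 (no nontrivial normal subgroup of order prime to p), and P a cyclic Sylow p-subgroup of K. Then either P is normal and self-centralizing in K with K/P cyclic of order dividing p − 1 (so K is the semidirect product of P by a group of automorphisms of P of order dividing p − 1), or the generalized Fitting subgroup F*(K) is a non-abelian simple group and p does not divide the index of F*(K) in K. -/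
theorem result {K : Type*} [Group K] [Finite K] (p : ℕ) [Fact p.Prime] (hp : p ∣ Nat.card K) (hO : Cfsg.pPrimeCore p K = ⊥)
    (P : Sylow p K) (hP : IsCyclic ↥(P : Subgroup K)) :
    ((P : Subgroup K).Normal ∧ Subgroup.centralizer ((P : Subgroup K) : Set K) = (P : Subgroup K) ∧
      (∀ (_ : (P : Subgroup K).Normal), IsCyclic (K ⧸ (P : Subgroup K))) ∧ (P : Subgroup K).index ∣ p - 1) ∨
    (IsSimpleGroup ↥(Cfsg.generalizedFittingSubgroup K) ∧ ¬ IsMulCommutative ↥(Cfsg.generalizedFittingSubgroup K) ∧
      ¬ p ∣ (Cfsg.generalizedFittingSubgroup K).index) := by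
  classical
  have hpp : p.Prime := Fact.out
  set Q : Subgroup K := Cfsg.pCore p K with hQ
  have hF : Cfsg.fittingSubgroup K = Q :=
    Cfsg.Agent.Helper7.fittingSubgroup_eq_pCore_of_pPrimeCore_eq_bot hO
  have hQP : Q ≤ (P : Subgroup K) := Cfsg.Agent.Helper14.pCore_le_sylow p P
  have hQp : IsPGroup p Q := Cfsg.Agent.Helper14.pCore_isPGroup p
  haveI hQn : Q.Normal := Cfsg.Agent.Helper14.pCore_normal p
  have hPcomm : ∀ a ∈ (P : Subgroup K), ∀ b ∈ (P : Subgroup K), a * b = b * a := by
    intro a ha b hb
    have hc : IsMulCommutative ↥(P : Subgroup K) := IsCyclic.isMulCommutative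
    exact congrArg Subtype.val (hc.is_comm.comm ⟨a, ha⟩ ⟨b, hb⟩)
  have hFs : Cfsg.generalizedFittingSubgroup K = Cfsg.layer K ⊔ Q := by
    unfold Cfsg.generalizedFittingSubgroup
    rw [hF]
  have hcent := Cfsg.Agent.Helper7.centralizer_generalizedFitting_le (G := K)
  by_cases hQ1 : Q = ⊥
  · -- the simple case
    right
    have hFs' : Cfsg.generalizedFittingSubgroup K = Cfsg.layer K := by
      rw [hFs, hQ1, sup_bot_eq]
    have hFbot : Cfsg.fittingSubgroup K = ⊥ := by rw [hF, hQ1]
    have hlayer_ne : Cfsg.layer K ≠ ⊥ := by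
      intro h
      rw [hFs', h] at hcent
      have htop : (⊤ : Subgroup K) ≤ ⊥ := by
        refine le_trans ?_ hcent
        intro x _
        rw [mem_centralizer_iff]
        intro y hy
        have : y = 1 := hy
        rw [this, one_mul, mul_one]
      have hK1 : Nat.card K = 1 := by
        have h2 : (⊤ : Subgroup K) = ⊥ := le_bot_iff.mp htop
        rw [← Subgroup.card_top (G := K), h2, Subgroup.card_bot]
      rw [hK1] at hp
      exact hpp.one_lt.ne' (Nat.dvd_one.mp hp)
    obtain ⟨L, hL⟩ : ∃ L : Subgroup K, Cfsg.IsComponent L := by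
      by_contra hno
      push Not at hno
      apply hlayer_ne
      rw [eq_bot_iff, Cfsg.Agent.Helper7.layer_le_iff]
      intro L hL
      exact absurd hL (hno L)
    have huniq : ∀ L' : Subgroup K, Cfsg.IsComponent L' → L' = L := by
      intro L' hL'
      by_contra hne
      have hcomm := Cfsg.Agent.Helper7.components_commute hL hL' (Ne.symm hne)
      rw [Cfsg.Agent.Helper7.commutator_eq_bot_iff_forall_commute] at hcomm
      obtain ⟨x1, hx1⟩ := exists_prime_orderOf_dvd_card' p (component_dvd_card hO hL)
      obtain ⟨x2, hx2⟩ := exists_prime_orderOf_dvd_card' p (component_dvd_card hO hL')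
      have hx1' : orderOf (x1 : K) = p := by rw [Subgroup.orderOf_coe, hx1]
      have hx2' : orderOf (x2 : K) = p := by rw [Subgroup.orderOf_coe, hx2]
      have hmem : (x2 : K) ∈ zpowers (x1 : K) :=
        mem_zpowers_of_commute P hP hx1' hx2' (hcomm x1 x1.2 x2 x2.2)
      have hx2L : (x2 : K) ∈ L := (zpowers_le.mpr x1.2) hmem
      exact component_no_central P hP hL (x2 : K) hx2L
        (fun x hx => (hcomm x hx x2 x2.2).symm) hx2'
    have hlayerL : Cfsg.layer K = L := by
      apply le_antisymm
      · rw [Cfsg.Agent.Helper7.layer_le_iff]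
        intro L' hL'
        rw [huniq L' hL']
      · exact Cfsg.Agent.Helper7.IsComponent.le_layer hL
    haveI hLn : L.Normal := hlayerL ▸ (inferInstance : (Cfsg.layer K).Normal)
    have hcenter : center ↥L = ⊥ := by
      have h1 := Cfsg.Agent.Helper7.map_subtype_center_layer_le_fitting (G := K)
      rw [hlayerL, hFbot] at h1
      exact (Subgroup.map_eq_bot_iff_of_injective _ (subtype_injective L)).mp (le_bot_iff.mp h1)
    haveI hLnt : Nontrivial ↥L :=
      (Subgroup.nontrivial_iff_ne_bot L).mpr (Cfsg.Agent.Helper7.IsComponent.ne_bot hL)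
    have hsimple : IsSimpleGroup ↥L := by
      haveI : IsSimpleGroup (↥L ⧸ center ↥L) := hL.2.2
      let e : (↥L ⧸ center ↥L) ≃* ↥L :=
        (QuotientGroup.quotientMulEquivOfEq hcenter).trans QuotientGroup.quotientBot
      exact IsSimpleGroup.isSimpleGroup_of_surjective e.toMonoidHom e.surjective
    rw [hFs', hlayerL]
    refine ⟨hsimple, Cfsg.Agent.Helper7.IsQuasisimple.not_isMulCommutative hL.2, ?_⟩
    intro hidx
    have hpL : p ∣ Nat.card L := component_dvd_card hO hL
    obtain ⟨⟨T, N, hN, hc⟩, -⟩ := Cfsg.Agent.S4145.result p P hP L hpL hidx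
    haveI := hsimple
    rcases hN.eq_bot_or_eq_top with h | h
    · rw [h, Subgroup.isComplement'_bot_left] at hc
      have hLp : IsPGroup p ↥L := by
        intro x
        have hx : x ∈ (T : Subgroup ↥L) := by rw [hc]; trivial
        obtain ⟨k, hk⟩ := T.2 ⟨x, hx⟩
        exact ⟨k, congrArg Subtype.val hk⟩
      haveI : Group.IsNilpotent ↥L := hLp.isNilpotent
      exact Cfsg.Agent.Helper7.IsQuasisimple.not_isSolvable hL.2 inferInstance
    · rw [h, Subgroup.isComplement'_top_left] at hc
      exact T.ne_bot_of_dvd_card hpL hc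
  · -- the local case
    left
    have hlayer : Cfsg.layer K = ⊥ := by
      rw [eq_bot_iff, Cfsg.Agent.Helper7.layer_le_iff]
      intro L hL
      exfalso
      have hcomm := Cfsg.Agent.Helper7.component_commutator_fitting hL
      rw [hF, Cfsg.Agent.Helper7.commutator_eq_bot_iff_forall_commute] at hcomm
      obtain ⟨x, hx⟩ := exists_prime_orderOf_dvd_card' p (component_dvd_card hO hL)
      have hx' : orderOf (x : K) = p := by rw [Subgroup.orderOf_coe, hx]
      obtain ⟨y, hyQ, hy⟩ := Cfsg.Agent.Helper9.exists_orderOf_eq_prime_of_ne_bot Q hQp hQ1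
      have hmem : y ∈ zpowers (x : K) :=
        mem_zpowers_of_commute P hP hx' hy (hcomm x x.2 y hyQ)
      have hyL : y ∈ L := (zpowers_le.mpr x.2) hmem
      exact component_no_central P hP hL y hyL (fun l hl => (hcomm l hl y hyQ).symm) hy
    have hFsQ : Cfsg.generalizedFittingSubgroup K = Q := by
      rw [hFs, hlayer, bot_sup_eq]
    rw [hFsQ] at hcent
    have hPC : (P : Subgroup K) ≤ centralizer (Q : Set K) := by
      intro a ha
      rw [mem_centralizer_iff]
      intro q hq
      exact hPcomm q (hQP hq) a ha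
    have hPQ : (P : Subgroup K) = Q := le_antisymm (hPC.trans hcent) hQP
    have hPn : (P : Subgroup K).Normal := hPQ ▸ hQn
    have hCP : centralizer ((P : Subgroup K) : Set K) = (P : Subgroup K) := by
      apply le_antisymm
      · rw [hPQ]; exact hcent
      · intro a ha
        rw [mem_centralizer_iff]
        intro b hb
        exact hPcomm b hb a ha
    haveI := hPn
    let φ : K →* MulAut ↥(P : Subgroup K) := MulAut.conjNormal
    have hker : φ.ker = (P : Subgroup K) := by
      refine Eq.trans ?_ hCP
      ext x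
      rw [MonoidHom.mem_ker, mem_centralizer_iff]
      constructor
      · intro h y hy
        have h1 : φ x ⟨y, hy⟩ = ⟨y, hy⟩ := by rw [h]; rfl
        have h2 : x * y * x⁻¹ = y := by
          have := congrArg Subtype.val h1
          rwa [MulAut.conjNormal_apply] at this
        calc y * x = (x * y * x⁻¹) * x := by rw [h2]
          _ = x * y := by group
      · intro h
        ext y
        rw [MulAut.conjNormal_apply, MulAut.one_apply]
        have := h y y.2
        calc x * ↑y * x⁻¹ = (↑y * x) * x⁻¹ := by rw [this]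
          _ = ↑y := by group
    obtain ⟨n, hn⟩ := IsPGroup.iff_card.mp P.2
    have hn0 : 0 < n := by
      rcases Nat.eq_zero_or_pos n with h0 | h0
      · exfalso
        rw [h0, pow_zero] at hn
        exact P.ne_bot_of_dvd_card hp (Subgroup.card_eq_one.mp hn)
      · exact h0
    have hidx : (P : Subgroup K).index ∣ p - 1 := by
      have h1 : (P : Subgroup K).index = Nat.card φ.range :=
        (congrArg Subgroup.index hker.symm).trans (Subgroup.index_ker φ)
      have h2 : Nat.card φ.range ∣ Nat.card (MulAut ↥(P : Subgroup K)) :=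
        Subgroup.card_subgroup_dvd_card _
      have h3 : Nat.card (MulAut ↥(P : Subgroup K)) = p ^ (n - 1) * (p - 1) := by
        rw [IsCyclic.card_mulAut, hn, Nat.totient_prime_pow hpp hn0]
      have h4 : (P : Subgroup K).index ∣ p ^ (n - 1) * (p - 1) := by
        rw [h1, ← h3]; exact h2
      have h5 : ((P : Subgroup K).index).Coprime (p ^ (n - 1)) := by
        apply Nat.Coprime.pow_right
        exact (Nat.Coprime.symm ((Nat.Prime.coprime_iff_not_dvd hpp).mpr P.not_dvd_index))
      exact h5.dvd_of_dvd_mul_left h4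
    refine ⟨hPn, hCP, ?_, hidx⟩
    intro hN'
    by_cases hp2 : p = 2
    · have h1 : (P : Subgroup K).index = 1 := by
        have h0 : p - 1 = 1 := by omega
        rw [h0] at hidx
        exact Nat.dvd_one.mp hidx
      have h2 : Nat.card (K ⧸ (P : Subgroup K)) = 1 := by
        rw [← Subgroup.index_eq_card]; exact h1
      haveI : Subsingleton (K ⧸ (P : Subgroup K)) :=
        (Nat.card_eq_one_iff_unique.mp h2).1
      exact isCyclic_of_subsingleton
    · haveI hcycU : IsCyclic (ZMod (Nat.card ↥(P : Subgroup K)))ˣ := by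
        rw [hn]
        exact ZMod.isCyclic_units_of_prime_pow p hpp hp2 n
      haveI hcycA : IsCyclic (MulAut ↥(P : Subgroup K)) :=
        isCyclic_of_injective (IsCyclic.mulAutMulEquiv ↥(P : Subgroup K)).toMonoidHom
          (IsCyclic.mulAutMulEquiv ↥(P : Subgroup K)).injective
      let ψ : K ⧸ (P : Subgroup K) →* MulAut ↥(P : Subgroup K) :=
        QuotientGroup.lift (P : Subgroup K) φ (by rw [hker])
      have hψ : Function.Injective ψ := by
        rw [injective_iff_map_eq_one]
        intro q
        induction q using QuotientGroup.induction_on with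
        | H x =>
          intro hx
          have h1 : φ x = 1 := hx
          have h2 : x ∈ φ.ker := h1
          rw [hker] at h2
          exact (QuotientGroup.eq_one_iff x).mpr h2
      exact isCyclic_of_injective ψ hψ

end Cfsg.Agent.S4403
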