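import Cfsg.Statements.S4022
import Cfsg.Agent.Helper20.EqOrdC
import Cfsg.Agent.Helper1.MinNormal
import Cfsg.Agent.S4403

set_option autoImplicit false
open Cfsg
open Pointwise

namespace Cfsg.Agent.S4022

open Cfsg.Agent.Helper20

universe u

/-- Sylow subgroups of a subgroup of order prime to `r` are cyclic. -/
theorem sylow_cyclic_of_coprime {G : Type*} [Group G] [Finite G] {r : ℕ} (hr : CycExcept G r)
    (C : Subgroup G) (hC : (Nat.card C).Coprime r) :
    ∀ p : ℕ, p.Prime → ∀ P : Sylow p C, IsCyclic P := by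
  intro p hp P
  haveI : Fact p.Prime := ⟨hp⟩
  by_cases hpr : p = r
  · subst hpr
    obtain ⟨k, hk⟩ := P.isPGroup'.exists_card_eq
    have hdvd : Nat.card (P : Subgroup C) ∣ Nat.card C := Subgroup.card_subgroup_dvd_card _
    have hk0 : k = 0 := by
      by_contra hne
      have h1 : p ∣ Nat.card C := (dvd_pow_self p hne).trans (hk ▸ hdvd)
      have h2 : p ∣ Nat.gcd (Nat.card C) p := Nat.dvd_gcd h1 dvd_rfl
      rw [hC] at h2
      exact hp.one_lt.ne' (Nat.dvd_one.mp h2)
    rw [hk0, pow_zero] at hk
    haveI : Subsingleton (P : Subgroup C) := (Nat.card_eq_one_iff_unique.mp hk).1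
    infer_instance
  · obtain ⟨Q⟩ : Nonempty (Sylow p G) := inferInstance
    exact Cfsg.Agent.S4403.isCyclic_of_isPGroup Q (hr p hp hpr Q)
      (C.subtype.comp (P : Subgroup C).subtype)
      (C.subtype_injective.comp (P : Subgroup C).subtype_injective) P.isPGroup'

theorem eqOrdConj_main (r : ℕ) (n : ℕ) :
    ∀ (G : Type u) [Group G] [Finite G] [Group.IsSolvable G],
      Nat.card G = n → EqOrdPConj G → CycExcept G r → EqOrdConj G := by
  induction n using Nat.strong_induction_on with
  | _ n ih =>
  intro G _ _ _ hn hDP hcyc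
  by_cases htriv : Subsingleton G
  · intro H K _
    refine ⟨1, ?_⟩
    rw [map_one, one_smul, Subgroup.eq_bot_of_subsingleton H, Subgroup.eq_bot_of_subsingleton K]
  have hnt : Nontrivial G := not_subsingleton_iff_nontrivial.mp htriv
  obtain ⟨q, N, hq, hNn, hNne, hNp, hNc, hexp⟩ :=
    Cfsg.Agent.Helper1.exists_normal_pgroup_of_solvable (G := G)
  haveI := hNn
  haveI : Fact q.Prime := ⟨hq⟩
  have hNcard1 : 1 < Nat.card N := (Subgroup.one_lt_card_iff_ne_bot N).mpr hNne
  by_cases hNq : Nat.card N = q
  · -- case A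
    apply eqOrdConj_of_normal_card_prime hq N hNq hDP
    have hlt : Nat.card (G ⧸ N) < n := by
      rw [← hn, Subgroup.card_eq_card_quotient_mul_card_subgroup N]
      exact lt_mul_of_one_lt_right Nat.card_pos hNcard1
    exact ih _ hlt (G ⧸ N) rfl (eqOrdPConj_quotient hq N hNp hDP) (cycExcept_quotient N hcyc)
  · -- case B
    obtain ⟨Q⟩ : Nonempty (Sylow q G) := inferInstance
    have hQN : (Q : Subgroup G) = N := sylow_eq_of_card_ne hq N hNne hNp hexp hDP hNq Q
    have hcop : (Nat.card N).Coprime N.index := hQN ▸ Q.card_coprime_index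
    have hqr : q = r := by
      by_contra hne
      have hcycN : IsCyclic N := hQN ▸ hcyc q hq hne Q
      obtain ⟨g, hg⟩ := hcycN.exists_generator
      have h1 : orderOf g ∣ q := by
        apply orderOf_dvd_of_pow_eq_one
        ext
        simpa using hexp g g.2
      have h2 : orderOf g = Nat.card N := orderOf_eq_card_of_forall_mem_zpowers hg
      rw [← h2] at hNq hNcard1
      rcases (Nat.dvd_prime hq).mp h1 with h | h
      · omega
      · exact hNq h
    have hG : Nat.card G = N.index * Nat.card N := (Subgroup.index_mul_card N).symm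
    obtain ⟨C, hC, -⟩ := Cfsg.Agent.Lead.hall_exists_ge_aux (Nat.card G) rfl N.index (Nat.card N)
      hG hcop.symm ⊥ (by rw [Subgroup.card_bot]; exact Nat.coprime_one_left _)
    have hqN : q ∣ Nat.card N := by
      obtain ⟨k, hk⟩ := hNp.exists_card_eq
      have hk0 : k ≠ 0 := by
        rintro rfl
        rw [pow_zero] at hk
        omega
      rw [hk]
      exact dvd_pow_self q hk0
    have hCr : (Nat.card C).Coprime r := by
      rw [hC, ← hqr]
      exact (Nat.Coprime.coprime_dvd_left hqN hcop).symm
    have hClt : Nat.card C < n := by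
      rw [← hn, hG, hC]
      exact lt_mul_of_one_lt_right (Nat.pos_of_ne_zero Subgroup.index_ne_zero_of_finite) hNcard1
    apply eqOrdConj_of_normal_sylow hq N hNp hNc hcop C hC hDP
    intro C' hC'C A B hA hB hAB
    have hcyc' : ∀ p : ℕ, p.Prime → ∀ P : Sylow p C', IsCyclic P :=
      sylow_cyclic_of_coprime hcyc C'
        (Nat.Coprime.coprime_dvd_left (Subgroup.card_dvd_of_le hC'C) hCr)
    have hlt : Nat.card C' < n := lt_of_le_of_lt (Subgroup.card_le_of_le hC'C) hClt
    haveI : Group.IsSolvable C' := Cfsg.Agent.Lead.isSolvable_subgroup C'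
    have hconc : EqOrdConj C' :=
      ih _ hlt C' rfl (eqOrdPConj_of_cyclic hcyc') (fun p hp _ P => hcyc' p hp P)
    obtain ⟨c, hc⟩ := hconc (A.subgroupOf C') (B.subgroupOf C')
      (by rw [Cfsg.Agent.Helper17.card_subgroupOf_of_le hA,
        Cfsg.Agent.Helper17.card_subgroupOf_of_le hB, hAB])
    refine ⟨c, c.2, ?_⟩
    rw [Subgroup.conj_smul_subgroupOf hA c, Subgroup.subgroupOf_inj, inf_eq_left.mpr hB,
      inf_eq_left.mpr (Subgroup.conj_smul_le_of_le hA c)] at hc
    exact hc

/-- Let G be a finite solvable group in which, for every prime p, any two p-subgroups of the same order are conjugate, and suppose the Sylow p-subgroups of G are cyclic for all primes p with at most one exception. Then any two subgroups of G of the same order are conjugate. -/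
theorem result {G : Type*} [Group G] [Finite G]
    [Group.IsSolvable G] (hD : ∀ p : ℕ, p.Prime → ∀ H K : Subgroup G, IsPGroup p H → IsPGroup p K → Nat.card H = Nat.card K →
      ∃ g : G, K = H.map (MulAut.conj g).toMonoidHom)
    (r : ℕ) (hcyc : ∀ p : ℕ, p.Prime → p ≠ r → ∀ P : Sylow p G, IsCyclic P) :
    ∀ H K : Subgroup G, Nat.card H = Nat.card K → ∃ g : G, K = H.map (MulAut.conj g).toMonoidHom := by
  intro H K hHK
  exact eqOrdConj_main r _ G rfl hD hcyc H K hHK

end Cfsg.Agent.S4022
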