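import Cfsg.Statements.S4023
import Cfsg.Agent.Helper20.PCube
import Cfsg.Agent.Helper1.UniqueOrderP
import Cfsg.Agent.Helper23.Cyclic
import Mathlib

set_option autoImplicit false
open Cfsg

namespace Cfsg.Agent.S4023

open Cfsg.Agent.Helper20

open QuaternionGroup in
theorem quaternion_subgroups (k : ℕ) (hk : 2 ≤ k) :
    (∃ C : Subgroup (QuaternionGroup (2 ^ k)), Nat.card C = 8 ∧ IsCyclic C) ∧
    (∃ H : Subgroup (QuaternionGroup (2 ^ k)), Nat.card H = 8 ∧ ¬ IsCyclic H) := by
  haveI : NeZero (2 ^ k) := ⟨pow_ne_zero _ (by norm_num)⟩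
  haveI : Fact (Nat.Prime 2) := ⟨Nat.prime_two⟩
  have hcardQ : Nat.card (QuaternionGroup (2 ^ k)) = 2 ^ (k + 2) := by
    rw [Nat.card_eq_fintype_card, QuaternionGroup.card, pow_add]
    ring
  constructor
  · have h1 : orderOf (a 1 : QuaternionGroup (2 ^ k)) = 2 ^ (k + 1) := by
      rw [orderOf_a_one, pow_succ, mul_comm]
    refine ⟨Subgroup.zpowers ((a 1 : QuaternionGroup (2 ^ k)) ^ 2 ^ (k + 1 - 3)), ?_, inferInstance⟩
    rw [Nat.card_zpowers, orderOf_pow_of_dvd (pow_ne_zero _ (by norm_num))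
      (h1 ▸ pow_dvd_pow 2 (Nat.sub_le (k + 1) 3)), h1, Nat.pow_div (Nat.sub_le (k + 1) 3) (by norm_num)]
    have : k + 1 - (k + 1 - 3) = 3 := by omega
    rw [this]
  · set W := Subgroup.zpowers (xa 0 : QuaternionGroup (2 ^ k)) with hW
    have hWcard : Nat.card W = 2 ^ 2 := by
      rw [hW, Nat.card_zpowers, orderOf_xa]
      norm_num
    have hdvd : 2 ^ 3 ∣ Nat.card (QuaternionGroup (2 ^ k)) := by
      rw [hcardQ]
      exact pow_dvd_pow 2 (by omega)
    obtain ⟨K, hKcard, hWK⟩ := Sylow.exists_subgroup_card_pow_prime_le 2 hdvd W hWcard (by norm_num)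
    refine ⟨K, by rw [hKcard]; norm_num, ?_⟩
    intro hcyc
    obtain ⟨g, hg⟩ := hcyc.exists_generator
    have hog : orderOf g = 8 := by
      rw [orderOf_eq_card_of_forall_mem_zpowers hg, hKcard]
      norm_num
    have hog' : orderOf (g : QuaternionGroup (2 ^ k)) = 8 := by
      rw [Subgroup.orderOf_coe, hog]
    have hxK : (xa 0 : QuaternionGroup (2 ^ k)) ∈ K := hWK (Subgroup.mem_zpowers _)
    have hxg : (xa 0 : QuaternionGroup (2 ^ k)) ∈ Subgroup.zpowers (g : QuaternionGroup (2 ^ k)) := by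
      have := hg ⟨xa 0, hxK⟩
      obtain ⟨m, hm⟩ := Subgroup.mem_zpowers_iff.1 this
      refine Subgroup.mem_zpowers_iff.2 ⟨m, ?_⟩
      have := congrArg Subtype.val hm
      simpa using this
    rcases hgq : (g : QuaternionGroup (2 ^ k)) with i | i
    · have hle : Subgroup.zpowers (a i : QuaternionGroup (2 ^ k)) ≤ Subgroup.zpowers (a 1) := by
        rw [Subgroup.zpowers_le]
        have : (a i : QuaternionGroup (2 ^ k)) = (a 1) ^ i.val := by
          rw [a_one_pow, ZMod.natCast_zmod_val]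
        rw [this]
        exact Subgroup.npow_mem_zpowers _ _
      rw [hgq] at hxg
      have h2 := hle hxg
      rw [← mem_powers_iff_mem_zpowers] at h2
      obtain ⟨n, hn⟩ := h2
      simp only [a_one_pow] at hn
      exact absurd hn (by simp)
    · rw [hgq, orderOf_xa] at hog'
      norm_num at hog'

section
universe u
variable {Q : Type u} [Group Q] [Finite Q]

/-- an element of order at least `p ^ 2` forces a unique subgroup of order `p` -/
theorem uniqP_of_iso {p : ℕ} [hp : Fact p.Prime] (hQ : IsPGroup p Q)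
    (hiso : ∀ H K : Subgroup Q, Nat.card H = Nat.card K → Nonempty (H ≃* K))
    (x : Q) (hx : x ^ p ≠ 1) : Helper1.UniqP p Q := by
  intro H K hH hK
  by_contra hne
  obtain ⟨k, hk⟩ := (IsPGroup.iff_orderOf.mp hQ) x
  have hk2 : 2 ≤ k := by
    by_contra hlt
    push Not at hlt
    apply hx
    apply orderOf_dvd_iff_pow_eq_one.mp
    rw [hk]
    have : k ≤ 1 := by omega
    calc p ^ k ∣ p ^ 1 := pow_dvd_pow p this
      _ = p := pow_one p
  set y := x ^ (p ^ (k - 2)) with hy
  have hordy : orderOf y = p ^ 2 := by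
    rw [hy, orderOf_pow_of_dvd (pow_ne_zero _ hp.out.ne_zero)
      (by rw [hk]; exact pow_dvd_pow p (by omega)), hk]
    rw [Nat.pow_div (by omega) hp.out.pos]
    congr 1
    omega
  set C := Subgroup.zpowers y with hC
  have hCcard : Nat.card C = p ^ 2 := by rw [hC, Nat.card_zpowers, hordy]
  have hQnt : Nontrivial Q := ⟨⟨x, 1, fun h => hx (by rw [h, one_pow])⟩⟩
  have hZnt : Nontrivial (Subgroup.center Q) := IsPGroup.center_nontrivial hQ
  have hZp : IsPGroup p (Subgroup.center Q) := hQ.to_subgroup _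
  obtain ⟨n, hn0, hn⟩ := hZp.nontrivial_iff_card.mp hZnt
  have hdvd : p ∣ Nat.card (Subgroup.center Q) := by
    rw [hn]; exact dvd_pow_self p (ne_of_gt hn0)
  obtain ⟨z, hz⟩ := exists_prime_orderOf_dvd_card' p hdvd
  set Z₀ : Subgroup Q := Subgroup.zpowers (z : Q) with hZ₀
  have hZ₀card : Nat.card Z₀ = p := by
    rw [hZ₀, Nat.card_zpowers, Subgroup.orderOf_coe, hz]
  obtain ⟨U, hUcard, hUne⟩ : ∃ U : Subgroup Q, Nat.card U = p ∧ Z₀ ≠ U := by
    by_cases h1 : Z₀ = H
    · exact ⟨K, hK, fun h2 => hne (h1.symm.trans h2)⟩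
    · exact ⟨H, hH, h1⟩
  have hcomm : ∀ a ∈ Z₀, ∀ b ∈ U, a * b = b * a := by
    intro a ha b _
    obtain ⟨j, rfl⟩ := Subgroup.mem_zpowers_iff.mp ha
    have hzc : (z : Q) ∈ Subgroup.center Q := z.2
    have := (Subgroup.center Q).zpow_mem hzc j
    exact ((Subgroup.mem_center_iff.mp this) b).symm
  have hdisj : Z₀ ⊓ U = ⊥ := by
    apply inf_eq_bot_of_card_prime hp.out _ _ hZ₀card
    intro hle
    exact hUne (Subgroup.eq_of_le_of_card_ge hle (by rw [hZ₀card, hUcard]))
  have hEcard : Nat.card ↥(Z₀ ⊔ U) = p ^ 2 := by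
    rw [Helper23.card_sup_of_commute_of_disjoint Z₀ U hcomm hdisj, hZ₀card, hUcard, pow_two]
  obtain ⟨e⟩ := hiso (Z₀ ⊔ U) C (hEcard.trans hCcard.symm)
  have hcyc : IsCyclic ↥(Z₀ ⊔ U) := by
    have hCcyc : IsCyclic C := by rw [hC]; infer_instance
    exact isCyclic_of_surjective e.symm e.symm.surjective
  exact hUne (Helper23.eq_of_card_eq_of_isCyclic (Z₀ ⊔ U) hcyc Z₀ U le_sup_left le_sup_right
    (hZ₀card.trans hUcard.symm))

theorem main_abstract {p : ℕ} [hp : Fact p.Prime] (hQ : IsPGroup p Q)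
    (hiso : ∀ H K : Subgroup Q, Nat.card H = Nat.card K → Nonempty (H ≃* K)) :
    IsCyclic Q ∨ (IsMulCommutative Q ∧ ∀ a : Q, a ^ p = 1) ∨
      (p = 2 ∧ Nonempty (Q ≃* QuaternionGroup 2)) ∨
      (p ≠ 2 ∧ ¬ IsMulCommutative Q ∧ Nat.card Q = p ^ 3 ∧ Monoid.exponent Q = p) := by
  by_cases hx : ∃ x : Q, x ^ p ≠ 1
  · obtain ⟨x, hx⟩ := hx
    have hU := uniqP_of_iso hQ hiso x hx
    rcases Helper1.UniqP.cyclic_or_quaternion p hQ hU with hc | ⟨rfl, k, ⟨e⟩⟩
    · exact Or.inl hc
    · rcases Nat.lt_or_ge k 2 with hk | hk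
      · have : k = 0 ∨ k = 1 := by omega
        rcases this with rfl | rfl
        · left
          have e' : Q ≃* QuaternionGroup 1 := by simpa using e
          haveI := QuaternionGroup.quaternionGroup_one_isCyclic
          exact isCyclic_of_surjective e'.symm e'.symm.surjective
        · right; right; left
          have e' : Q ≃* QuaternionGroup 2 := by simpa using e
          exact ⟨rfl, ⟨e'⟩⟩
      · exfalso
        obtain ⟨⟨C, hCcard, hCcyc⟩, ⟨H, hHcard, hHnc⟩⟩ := quaternion_subgroups k hk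
        have eC : ↥(C.map e.symm.toMonoidHom) ≃* C :=
          (C.equivMapOfInjective _ e.symm.injective).symm
        have eH : ↥(H.map e.symm.toMonoidHom) ≃* H :=
          (H.equivMapOfInjective _ e.symm.injective).symm
        obtain ⟨f⟩ := hiso (C.map e.symm.toMonoidHom) (H.map e.symm.toMonoidHom)
          (by rw [Nat.card_congr eC.toEquiv, Nat.card_congr eH.toEquiv, hCcard, hHcard])
        apply hHnc
        let g : C ≃* H := eC.symm.trans (f.trans eH)
        exact isCyclic_of_surjective g g.surjective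
  · push Not at hx
    by_cases hcomm : IsMulCommutative Q
    · exact Or.inr (Or.inl ⟨hcomm, hx⟩)
    · right; right; right
      have hna : ∃ a b : Q, a * b ≠ b * a := by
        by_contra hcon
        push Not at hcon
        exact hcomm ⟨⟨hcon⟩⟩
      have hp2 : p ≠ 2 := by
        rintro rfl
        obtain ⟨a, b, hab⟩ := hna
        apply hab
        have inv_eq : ∀ g : Q, g⁻¹ = g := fun g => by
          rw [inv_eq_iff_mul_eq_one, ← pow_two]
          exact hx g
        calc a * b = (a * b)⁻¹ := (inv_eq _).symm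
          _ = b⁻¹ * a⁻¹ := mul_inv_rev a b
          _ = b * a := by rw [inv_eq, inv_eq]
      obtain ⟨K, hKcard, hKna⟩ := exists_nonabelian_card_cube hQ hx hna
      obtain ⟨n, hn⟩ := IsPGroup.iff_card.1 hQ
      have hn3 : 3 ≤ n := by
        have h1 : p ^ 3 ∣ p ^ n := by
          rw [← hn, ← hKcard]
          exact Subgroup.card_subgroup_dvd_card K
        exact (Nat.pow_dvd_pow_iff_le_right hp.out.one_lt).1 h1
      have hn3' : n = 3 := by
        by_contra hne
        have h4 : p ^ 4 ∣ Nat.card Q := by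
          rw [hn]
          exact pow_dvd_pow p (by omega)
        obtain ⟨A, hAcard, hAcomm⟩ := exists_abelian_card_cube hQ h4
        obtain ⟨f⟩ := hiso A K (hAcard.trans hKcard.symm)
        apply hKna
        rw [isMulCommutative_iff]
        intro u v
        apply f.symm.injective
        rw [map_mul, map_mul]
        exact (isMulCommutative_iff.1 hAcomm) _ _
      refine ⟨hp2, hcomm, by rw [hn, hn3'], ?_⟩
      have hdvd : Monoid.exponent Q ∣ p := Monoid.exponent_dvd_of_forall_pow_eq_one hx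
      rcases (Nat.dvd_prime hp.out).1 hdvd with h1 | h1
      · exfalso
        rw [Monoid.exp_eq_one_iff] at h1
        obtain ⟨a, b, hab⟩ := hna
        exact hab (by rw [Subsingleton.elim a 1, Subsingleton.elim b 1])
      · exact h1

end

/-- Let p be a prime and G a finite group in which any two p-subgroups of the same order are conjugate, with Sylow p-subgroup P. Then P is cyclic, or elementary abelian, or p = 2 and P is a quaternion group of order 8, or p is odd and P is non-abelian of order p³ and exponent p. -/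
theorem result {G : Type*} [Group G] [Finite G]
    {p : ℕ} [Fact p.Prime] (hC : ∀ H K : Subgroup G, IsPGroup p H → IsPGroup p K → Nat.card H = Nat.card K →
      ∃ g : G, K = H.map (MulAut.conj g).toMonoidHom) (P : Sylow p G) :
    IsCyclic P ∨ Cfsg.IsElementaryAbelian p (P : Subgroup G) ∨
      (p = 2 ∧ Nonempty ((P : Subgroup G) ≃* QuaternionGroup 2)) ∨
      (p ≠ 2 ∧ ¬ IsMulCommutative P ∧ Nat.card P = p ^ 3 ∧ Monoid.exponent P = p) := by
  have hQ : IsPGroup p ↥(P : Subgroup G) := P.isPGroup'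
  have hiso : ∀ H K : Subgroup ↥(P : Subgroup G), Nat.card H = Nat.card K → Nonempty (H ≃* K) := by
    intro H K hHK
    have e1 : H ≃* ↥(H.map (P : Subgroup G).subtype) :=
      H.equivMapOfInjective _ (Subgroup.subtype_injective _)
    have e3 : K ≃* ↥(K.map (P : Subgroup G).subtype) :=
      K.equivMapOfInjective _ (Subgroup.subtype_injective _)
    have hH : IsPGroup p ↥(H.map (P : Subgroup G).subtype) := (hQ.to_subgroup H).of_equiv e1
    have hK : IsPGroup p ↥(K.map (P : Subgroup G).subtype) := (hQ.to_subgroup K).of_equiv e3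
    obtain ⟨g, hg⟩ := hC _ _ hH hK (by
      rw [← Nat.card_congr e1.toEquiv, ← Nat.card_congr e3.toEquiv, hHK])
    have e2 : ↥(H.map (P : Subgroup G).subtype) ≃*
        ↥((H.map (P : Subgroup G).subtype).map (MulAut.conj g).toMonoidHom) :=
      Subgroup.equivMapOfInjective _ _ (MulAut.conj g).injective
    exact ⟨e1.trans (e2.trans ((MulEquiv.subgroupCongr hg.symm).trans e3.symm))⟩
  rcases main_abstract hQ hiso with h | ⟨h1, h2⟩ | h | h
  · exact Or.inl h
  · right; left
    refine ⟨h1, ?_⟩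
    intro a ha
    have := h2 ⟨a, ha⟩
    exact congrArg Subtype.val this
  · exact Or.inr (Or.inr (Or.inl h))
  · exact Or.inr (Or.inr (Or.inr h))

end Cfsg.Agent.S4023
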