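import Cfsg.Statements.S4024
import Cfsg.Agent.S4023
import Cfsg.Agent.Helper23.HallHigman
import Cfsg.Agent.Helper10.PConstrained
import Cfsg.Agent.Helper7.PPrimeCore
import Cfsg.Agent.Helper7.QConstrained
import Cfsg.Agent.Helper19.Cores
import Mathlib

set_option autoImplicit false
open Cfsg

namespace Cfsg.Agent.S4024

section
universe u
variable {G : Type u} [Group G] [Finite G]

theorem abelian_of_pSolvable_normal {p : ℕ} [hp : Fact p.Prime]
    (P : Sylow p G) (H : Subgroup G) [hHn : H.Normal] (hsolv : Cfsg.IsPSolvable p H)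
    (hPH : (P : Subgroup G) ≤ H) (hexp : ∀ x ∈ (P : Subgroup G), x ^ p = 1)
    (hconj : ∀ x y : G, orderOf x = p → orderOf y = p → ∃ g : G, ∃ j : ℤ, y = g * x ^ j * g⁻¹) :
    ∀ a ∈ (P : Subgroup G), ∀ b ∈ (P : Subgroup G), a * b = b * a := by
  classical
  by_cases hPtriv : (P : Subgroup G) = ⊥
  · intro a ha b hb
    rw [hPtriv, Subgroup.mem_bot] at ha hb
    rw [ha, hb]
  -- a central element of order `p`
  have hPnt : Nontrivial ↥(P : Subgroup G) := (Subgroup.nontrivial_iff_ne_bot _).2 hPtriv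
  have hZnt : Nontrivial (Subgroup.center ↥(P : Subgroup G)) :=
    IsPGroup.center_nontrivial P.isPGroup'
  obtain ⟨⟨⟨z₀, hz₀P⟩, hz₀c⟩, hz₀ne⟩ := exists_ne (1 : Subgroup.center ↥(P : Subgroup G))
  have hz₀1 : z₀ ≠ 1 := by
    rintro rfl
    exact hz₀ne rfl
  have hz₀cen : ∀ b ∈ (P : Subgroup G), b * z₀ = z₀ * b := by
    intro b hb
    have := Subgroup.mem_center_iff.1 hz₀c ⟨b, hb⟩
    exact congrArg Subtype.val this
  have horder : ∀ y ∈ (P : Subgroup G), y ≠ 1 → orderOf y = p :=
    fun y hy hy1 => orderOf_eq_prime (hexp y hy) hy1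
  -- the characteristic subgroups
  set K := Cfsg.pPrimeCore p ↥H with hK
  set M := Cfsg.pPrimePCore p ↥H with hM
  set KG := K.map H.subtype with hKG
  set MG := M.map H.subtype with hMG
  have hKGn : KG.Normal := inferInstance
  have hMGn : MG.Normal := by
    haveI : M.Characteristic := Cfsg.Agent.Helper7.pPrimePCore_characteristic p ↥H
    infer_instance
  have hKcop : (Nat.card KG).Coprime p := by
    rw [hKG, Subgroup.card_map_of_injective (Subgroup.subtype_injective _)]
    exact Cfsg.Agent.Helper19.pPrimeCore_coprime (G := ↥H) p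
  have hKM : K ≤ M := Cfsg.Agent.Helper10.pPrimeCore_le_pPrimePCore p
  let S : Sylow p ↥H := P.subtype hPH
  have hSmem : ∀ x : ↥H, x ∈ (S : Subgroup ↥H) ↔ (x : G) ∈ (P : Subgroup G) := by
    intro x
    rw [Sylow.coe_subtype, Subgroup.mem_subgroupOf]
  -- Step 1: a nontrivial element of `P` in `MG`
  obtain ⟨s, hsP, hs1, hsM⟩ : ∃ s : G, s ∈ (P : Subgroup G) ∧ s ≠ 1 ∧ s ∈ MG := by
    have hne : Cfsg.pCore p (↥H ⧸ K) ≠ ⊥ := by
      intro hbot
      have hHH : Subgroup.centralizer (Cfsg.pCore p (↥H ⧸ K) : Set (↥H ⧸ K)) ≤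
          Cfsg.pCore p (↥H ⧸ K) :=
        Cfsg.Agent.Helper23.centralizer_pCore_quotient_le_of_isPSolvable hsolv
      rw [hbot] at hHH
      -- the quotient is trivial
      have htop : (⊤ : Subgroup (↥H ⧸ K)) ≤ ⊥ := by
        refine le_trans ?_ hHH
        intro x _
        rw [Subgroup.mem_centralizer_iff]
        intro y hy
        rw [Subgroup.coe_bot, Set.mem_singleton_iff] at hy
        rw [hy, mul_one, one_mul]
      -- so `K = ⊤` and `p ∤ |H|`
      have hKtop : K = ⊤ := by
        rw [eq_top_iff]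
        intro x _
        rw [← QuotientGroup.eq_one_iff]
        have : (x : ↥H ⧸ K) ∈ (⊥ : Subgroup (↥H ⧸ K)) := htop (Subgroup.mem_top _)
        exact Subgroup.mem_bot.1 this
      have hcop : (Nat.card ↥H).Coprime p := by
        have := Cfsg.Agent.Helper19.pPrimeCore_coprime (G := ↥H) p
        rw [← hK, hKtop, Subgroup.card_top] at this
        exact this
      have hdvd : p ∣ Nat.card ↥H := by
        have h1 : Nat.card ↥(P : Subgroup G) ∣ Nat.card ↥H := Subgroup.card_dvd_of_le hPH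
        obtain ⟨n, hn0, hn⟩ := (P.isPGroup'.nontrivial_iff_card).1 hPnt
        rw [hn] at h1
        exact (dvd_pow_self p (ne_of_gt hn0)).trans h1
      exact hp.out.one_lt.ne' (Nat.dvd_one.1 (hcop ▸ Nat.dvd_gcd hdvd dvd_rfl))
    obtain ⟨⟨xbar, hxbar⟩, hxne'⟩ := (Subgroup.ne_bot_iff_exists_ne_one).1 hne
    have hxne : xbar ≠ 1 := fun h => hxne' (Subtype.ext h)
    obtain ⟨x, rfl⟩ := QuotientGroup.mk_surjective xbar
    have hxM : x ∈ M := by
      rw [hM]
      unfold Cfsg.pPrimePCore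
      rw [Subgroup.mem_comap]
      exact hxbar
    have hxK : x ∉ K := by
      intro hx
      exact hxne ((QuotientGroup.eq_one_iff x).2 hx)
    obtain ⟨s, hsS, k, hkK, hxsk⟩ := Cfsg.Agent.Helper10.exists_mul_of_mem_pPrimePCore S hxM
    have hsM : s ∈ M := by
      have : s = x * k⁻¹ := by rw [hxsk]; group
      rw [this]
      exact M.mul_mem hxM (M.inv_mem (hKM hkK))
    refine ⟨(s : G), (hSmem s).1 hsS, ?_, ⟨s, hsM, rfl⟩⟩
    intro hs1
    apply hxK
    have : s = 1 := Subtype.ext hs1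
    rw [hxsk, this, one_mul]
    exact hkK
  -- Step 2: `P ≤ MG`
  have hPM : (P : Subgroup G) ≤ MG := by
    intro y hy
    by_cases hy1 : y = 1
    · rw [hy1]; exact MG.one_mem
    · obtain ⟨g, j, hgj⟩ := hconj s y (horder s hsP hs1) (horder y hy hy1)
      rw [hgj]
      exact hMGn.conj_mem _ (MG.zpow_mem hsM j) g
  -- Step 3: Frattini decomposition
  have hdecomp : ∀ g : G, ∃ n ∈ Subgroup.normalizer ((P : Subgroup G) : Set G), ∃ k ∈ KG, g = n * k := by
    intro g
    have htop : Subgroup.normalizer ((P : Subgroup G) : Set G) ⊔ MG = ⊤ :=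
      Sylow.normalizer_sup_eq_top' P hPM
    have hg : g ∈ Subgroup.normalizer ((P : Subgroup G) : Set G) ⊔ MG := by
      rw [htop]; exact Subgroup.mem_top g
    obtain ⟨n, hn, m, hm, hnm⟩ := Subgroup.mem_sup_of_normal_right.1 hg
    obtain ⟨m', hm'M, rfl⟩ := hm
    obtain ⟨s', hs'S, k', hk'K, hm'sk⟩ := Cfsg.Agent.Helper10.exists_mul_of_mem_pPrimePCore S hm'M
    refine ⟨n * (s' : G), ?_, (k' : G), ⟨k', hk'K, rfl⟩, ?_⟩
    · exact Subgroup.mul_mem _ hn (Subgroup.le_normalizer ((hSmem s').1 hs'S))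
    · rw [← hnm, hm'sk]
      simp [mul_assoc]
  -- `KG ∩ P = 1`
  have hKP : ∀ x : G, x ∈ KG → x ∈ (P : Subgroup G) → x = 1 := by
    intro x hxK hxP
    have hdisj : Disjoint KG (P : Subgroup G) := by
      apply Subgroup.disjoint_of_coprime_natCard
      obtain ⟨n, hn⟩ := IsPGroup.iff_card.1 P.isPGroup'
      rw [hn]
      exact Nat.Coprime.pow_right n hKcop
    have := (Subgroup.disjoint_def.1 hdisj) hxK hxP
    exact this
  -- Step 4: every element of `P` is central in `P`
  have hcentral : ∀ y ∈ (P : Subgroup G), ∀ b ∈ (P : Subgroup G), y * b = b * y := by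
    intro y hy b hb
    by_cases hy1 : y = 1
    · rw [hy1, one_mul, mul_one]
    obtain ⟨g, j, hgj⟩ := hconj z₀ y (horder z₀ hz₀P hz₀1) (horder y hy hy1)
    obtain ⟨n, hn, k, hk, hgnk⟩ := hdecomp g
    set w := z₀ ^ j with hw
    have hwP : w ∈ (P : Subgroup G) := Subgroup.zpow_mem _ hz₀P j
    have hwcen : ∀ b ∈ (P : Subgroup G), b * w = w * b := by
      intro b hb
      exact ((show Commute b z₀ from hz₀cen b hb).zpow_right j)
    have hninv : n⁻¹ ∈ Subgroup.normalizer ((P : Subgroup G) : Set G) := Subgroup.inv_mem _ hn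
    have hy'' : n⁻¹ * y * n ∈ (P : Subgroup G) := by
      have := (Subgroup.mem_normalizer_iff.1 hninv y).1 hy
      simpa using this
    have hy''eq : n⁻¹ * y * n = k * w * k⁻¹ := by
      rw [hgj, hgnk]
      group
    have hw1 : (n⁻¹ * y * n) * w⁻¹ = 1 := by
      apply hKP
      · rw [hy''eq]
        have : k * w * k⁻¹ * w⁻¹ = k * (w * k⁻¹ * w⁻¹) := by group
        rw [this]
        exact KG.mul_mem hk (hKGn.conj_mem _ (KG.inv_mem hk) w)
      · exact Subgroup.mul_mem _ hy'' (Subgroup.inv_mem _ hwP)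
    have hyw : y = n * w * n⁻¹ := by
      have : n⁻¹ * y * n = w := by
        rw [mul_inv_eq_one] at hw1
        exact hw1
      rw [← this]
      group
    have hb' : n⁻¹ * b * n ∈ (P : Subgroup G) := by
      have := (Subgroup.mem_normalizer_iff.1 hninv b).1 hb
      simpa using this
    have hcomm := hwcen _ hb'
    rw [hyw]
    calc n * w * n⁻¹ * b = n * (w * (n⁻¹ * b * n)) * n⁻¹ := by group
      _ = n * ((n⁻¹ * b * n) * w) * n⁻¹ := by rw [hcomm]
      _ = b * (n * w * n⁻¹) := by group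
  exact hcentral

end

/-- Let p be an odd prime and G a finite group in which any two p-subgroups of the same order are conjugate, with Sylow p-subgroup P. If H is a normal p-solvable subgroup of G whose order is divisible by p, then P is abelian, and either P ≤ H or P is cyclic. -/
theorem result {G : Type*} [Group G] [Finite G]
    {p : ℕ} [Fact p.Prime] (hp : p ≠ 2) (hC : ∀ H K : Subgroup G, IsPGroup p H → IsPGroup p K → Nat.card H = Nat.card K →
      ∃ g : G, K = H.map (MulAut.conj g).toMonoidHom) (P : Sylow p G)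
    (H : Subgroup G) [H.Normal] (hsolv : Cfsg.IsPSolvable p H) (hdiv : p ∣ Nat.card H) :
    IsMulCommutative P ∧ ((P : Subgroup G) ≤ H ∨ IsCyclic P) := by
  have hQ : IsPGroup p ↥(P : Subgroup G) := P.isPGroup'
  have hpp : p.Prime := Fact.out
  have hiso : ∀ A B : Subgroup ↥(P : Subgroup G), Nat.card A = Nat.card B → Nonempty (A ≃* B) := by
    intro A B hAB
    have e1 : A ≃* ↥(A.map (P : Subgroup G).subtype) :=
      A.equivMapOfInjective _ (Subgroup.subtype_injective _)
    have e3 : B ≃* ↥(B.map (P : Subgroup G).subtype) :=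
      B.equivMapOfInjective _ (Subgroup.subtype_injective _)
    have hA : IsPGroup p ↥(A.map (P : Subgroup G).subtype) := (hQ.to_subgroup A).of_equiv e1
    have hB : IsPGroup p ↥(B.map (P : Subgroup G).subtype) := (hQ.to_subgroup B).of_equiv e3
    obtain ⟨g, hg⟩ := hC _ _ hA hB (by
      rw [← Nat.card_congr e1.toEquiv, ← Nat.card_congr e3.toEquiv, hAB])
    have e2 : ↥(A.map (P : Subgroup G).subtype) ≃*
        ↥((A.map (P : Subgroup G).subtype).map (MulAut.conj g).toMonoidHom) :=
      Subgroup.equivMapOfInjective _ _ (MulAut.conj g).injective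
    exact ⟨e1.trans (e2.trans ((MulEquiv.subgroupCongr hg.symm).trans e3.symm))⟩
  have hconj : ∀ x y : G, orderOf x = p → orderOf y = p →
      ∃ g : G, ∃ j : ℤ, y = g * x ^ j * g⁻¹ := by
    intro x y hx hy
    have hcx : Nat.card (Subgroup.zpowers x) = p ^ 1 := by rw [Nat.card_zpowers, hx, pow_one]
    have hcy : Nat.card (Subgroup.zpowers y) = p ^ 1 := by rw [Nat.card_zpowers, hy, pow_one]
    obtain ⟨g, hg⟩ := hC (Subgroup.zpowers x) (Subgroup.zpowers y) (IsPGroup.of_card hcx)
      (IsPGroup.of_card hcy) (hcx.trans hcy.symm)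
    have hymem : y ∈ (Subgroup.zpowers x).map (MulAut.conj g).toMonoidHom := by
      rw [← hg]; exact Subgroup.mem_zpowers y
    obtain ⟨x', hx', hxy⟩ := hymem
    obtain ⟨j, rfl⟩ := Subgroup.mem_zpowers_iff.1 hx'
    refine ⟨g, j, ?_⟩
    rw [← hxy]
    simp [MulAut.conj_apply]
  -- when `P` has exponent `p`, it lies in `H`
  have hPH_of_exp : (∀ a : ↥(P : Subgroup G), a ^ p = 1) → (P : Subgroup G) ≤ H := by
    intro hexp y hy
    by_cases hy1 : y = 1
    · rw [hy1]; exact H.one_mem
    · have hoy : orderOf y = p := by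
        apply orderOf_eq_prime _ hy1
        exact congrArg Subtype.val (hexp ⟨y, hy⟩)
      obtain ⟨x, hx⟩ := exists_prime_orderOf_dvd_card' p hdiv
      have hox : orderOf (x : G) = p := by rw [Subgroup.orderOf_coe, hx]
      obtain ⟨g, j, hgj⟩ := hconj (x : G) y hox hoy
      rw [hgj]
      exact (inferInstance : H.Normal).conj_mem _ (H.zpow_mem x.2 j) g
  rcases Cfsg.Agent.S4023.main_abstract hQ hiso with h | ⟨h1, h2⟩ | ⟨h1, _⟩ | ⟨_, h2, _, h4⟩
  · refine ⟨?_, Or.inr h⟩
    haveI : IsCyclic ↥(P : Subgroup G) := h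
    exact ⟨⟨fun a b => IsCyclic.commGroup.mul_comm a b⟩⟩
  · exact ⟨h1, Or.inl (hPH_of_exp h2)⟩
  · exact absurd h1 hp
  · exfalso
    have hexp : ∀ a : ↥(P : Subgroup G), a ^ p = 1 := by
      intro a
      have := Monoid.pow_exponent_eq_one a
      rwa [h4] at this
    have hPH := hPH_of_exp hexp
    apply h2
    have hab := abelian_of_pSolvable_normal P H hsolv hPH
      (fun x hx => congrArg Subtype.val (hexp ⟨x, hx⟩)) hconj
    exact ⟨⟨fun a b => Subtype.ext (hab a a.2 b b.2)⟩⟩

end Cfsg.Agent.S4024
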