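import Cfsg.Statements.S4025
import Cfsg.Agent.Helper23.EqOrdFus
import Cfsg.Agent.Helper23.EqOrdMain

set_option autoImplicit false
open Cfsg

namespace Cfsg.Agent.S4025

/-- Let p be a prime and G a finite group in which any two p-subgroups of the same order are conjugate, and suppose a Sylow p-subgroup P of G is elementary abelian of order pⁿ with n ≥ 3. Let N be the normalizer of P and K the largest normal subgroup of N of order prime to p, and assume N/K is solvable. Then either n = 3 and N/K embeds in the one-dimensional semi-affine group over the field with p³ elements (and for p = 2 it is isomorphic to the affine or the semi-affine group over the field with 8 elements), or n = 5, p = 2 and N/K is isomorphic to the one-dimensional semi-affine group over the field with 32 elements. -/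
theorem result {G : Type*} [Group G] [Finite G]
    {p : ℕ} [Fact p.Prime] (hC : ∀ H K : Subgroup G, IsPGroup p H → IsPGroup p K → Nat.card H = Nat.card K →
      ∃ g : G, K = H.map (MulAut.conj g).toMonoidHom) (P : Sylow p G) (n : ℕ) (hn : 3 ≤ n)
    (hel : Cfsg.IsElementaryAbelian p (P : Subgroup G)) (hcard : Nat.card P = p ^ n)
    (N : Subgroup G) (hN : N = Subgroup.normalizer ((P : Subgroup G) : Set G))
    (hsolv : Group.IsSolvable (↥N ⧸ Cfsg.pPrimeCore p ↥N)) :
    (n = 3 ∧ (∃ f : ↥N ⧸ Cfsg.pPrimeCore p ↥N →* ↥(Cfsg.semiaffineGroup (GaloisField p 3)), Function.Injective f) ∧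
      (p = 2 → Nonempty (↥N ⧸ Cfsg.pPrimeCore p ↥N ≃* Cfsg.semiaffineGroup (GaloisField 2 3)) ∨
               Nonempty (↥N ⧸ Cfsg.pPrimeCore p ↥N ≃* Cfsg.affineGroup (GaloisField 2 3)))) ∨
    (n = 5 ∧ p = 2 ∧ Nonempty (↥N ⧸ Cfsg.pPrimeCore p ↥N ≃* Cfsg.semiaffineGroup (GaloisField 2 5))) := by
  subst hN
  set N := Subgroup.normalizer ((P : Subgroup G) : Set G) with hNdef
  have hPN : (P : Subgroup G) ≤ N := Subgroup.le_normalizer
  set E : Subgroup ↥N := (P : Subgroup G).subgroupOf N with hEdef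
  haveI hEn : E.Normal := Subgroup.normal_in_normalizer
  have hcomm : ∀ x ∈ (P : Subgroup G), ∀ y ∈ (P : Subgroup G), x * y = y * x := by
    intro x hx y hy
    have := hel.1.is_comm.comm (⟨x, hx⟩ : ↥(P : Subgroup G)) ⟨y, hy⟩
    exact congrArg Subtype.val this
  have hab : ∀ x ∈ E, ∀ y ∈ E, x * y = y * x := by
    intro x hx y hy
    apply Subtype.ext
    exact hcomm x.1 (Subgroup.mem_subgroupOf.1 hx) y.1 (Subgroup.mem_subgroupOf.1 hy)
  have hexp : ∀ x ∈ E, x ^ p = 1 := by
    intro x hx
    apply Subtype.ext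
    have := hel.2 x.1 (Subgroup.mem_subgroupOf.1 hx)
    simpa using this
  have hcardE : Nat.card E = p ^ n := by
    rw [← hcard]
    exact Nat.card_congr (Subgroup.subgroupOfEquivOfLe hPN).toEquiv
  have hidx : ¬ p ∣ E.index := by
    intro h
    have h1 : E.index = (P : Subgroup G).relIndex N := rfl
    rw [h1] at h
    exact P.not_dvd_index (dvd_trans h (Subgroup.relIndex_dvd_index_of_le hPN))
  have htr : ∀ k : ℕ, ∀ H K : Subgroup ↥N, H ≤ E → K ≤ E → Nat.card H = p ^ k →
      Nat.card K = p ^ k → ∃ g : ↥N, ∀ x ∈ H, g * x * g⁻¹ ∈ K := by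
    intro k H K hH hK hHc hKc
    have hH' : H.map N.subtype ≤ (P : Subgroup G) := by
      rintro _ ⟨x, hx, rfl⟩
      exact Subgroup.mem_subgroupOf.1 (hH hx)
    have hK' : K.map N.subtype ≤ (P : Subgroup G) := by
      rintro _ ⟨x, hx, rfl⟩
      exact Subgroup.mem_subgroupOf.1 (hK hx)
    have hc : Nat.card (H.map N.subtype) = Nat.card (K.map N.subtype) := by
      rw [Subgroup.card_map_of_injective N.subtype_injective,
        Subgroup.card_map_of_injective N.subtype_injective, hHc, hKc]
    obtain ⟨g, hg, hgK⟩ := Cfsg.Agent.Helper23.EqOrdFus.fusion hC P hcomm _ _ hH' hK' hc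
    refine ⟨⟨g, hg⟩, fun x hx => ?_⟩
    have h1 : g * (x : G) * g⁻¹ ∈ K.map N.subtype := by
      rw [hgK]
      exact ⟨(x : G), ⟨x, hx, rfl⟩, rfl⟩
    obtain ⟨y, hy, hyx⟩ := h1
    have : (⟨g, hg⟩ : ↥N) * x * (⟨g, hg⟩ : ↥N)⁻¹ = y := by
      apply Subtype.ext
      exact hyx.symm
    rw [this]
    exact hy
  have hmain := Cfsg.Agent.Helper23.EqOrdMain.asm (p := p) E hab hexp hn hcardE hidx hsolv htr
  rcases hmain with ⟨hn3, hf, h2⟩ | ⟨hn5, hp2, hiso⟩
  · left
    subst hn3
    refine ⟨rfl, hf, fun hp2 => ?_⟩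
    subst hp2
    exact h2 rfl
  · right
    subst hn5
    subst hp2
    exact ⟨rfl, rfl, hiso⟩

end Cfsg.Agent.S4025
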