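import Cfsg.Statements.S4032
import Cfsg.Agent.Helper20.PiPart
import Cfsg.Agent.Lead.Coprime

set_option autoImplicit false
open Cfsg

namespace Cfsg.Agent.S4032

open Cfsg.Agent.Helper20
open scoped Pointwise

lemma mem_conj_smul {G : Type*} [Group G] (g x : G) (H : Subgroup G) :
    x ∈ MulAut.conj g • H ↔ g⁻¹ * x * g ∈ H := by
  rw [Subgroup.mem_smul_pointwise_iff_exists]
  constructor
  · rintro ⟨s, hs, rfl⟩
    simpa [MulAut.smul_def, mul_assoc] using hs
  · intro h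
    exact ⟨_, h, by simp [MulAut.smul_def, mul_assoc]⟩

theorem result {G : Type*} [Group G] [Finite G] (π : Set ℕ)
    (hirr : ∀ x : G, (∀ r : ℕ, r.Prime → r ∣ orderOf x → r ∈ π) →
      Subgroup.normalizer ((Subgroup.zpowers x : Subgroup G) : Set G) ≤ Subgroup.centralizer {x})
    (N : Subgroup G) [N.Normal] (hN : ∀ r : ℕ, r.Prime → r ∣ Nat.card N → r ∉ π) :
    ∀ y : G ⧸ N, (∀ r : ℕ, r.Prime → r ∣ orderOf y → r ∈ π) →
      Subgroup.normalizer ((Subgroup.zpowers y : Subgroup (G ⧸ N)) : Set (G ⧸ N)) ≤ Subgroup.centralizer {y} := by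
  intro y' hy' z' hz'
  obtain ⟨y, rfl, hy⟩ := exists_pi_lift π N y' hy'
  obtain ⟨z, rfl⟩ := QuotientGroup.mk_surjective z'
  -- z y z⁻¹ ∈ y^j N
  have h1 : (z : G ⧸ N) * (y : G ⧸ N) * (z : G ⧸ N)⁻¹ ∈ Subgroup.zpowers (y : G ⧸ N) :=
    (Subgroup.mem_normalizer_iff.1 hz' _).1 (Subgroup.mem_zpowers _)
  obtain ⟨j, hj⟩ := Subgroup.mem_zpowers_iff.1 h1
  have hjN : (y ^ j)⁻¹ * (z * y * z⁻¹) ∈ N := by
    rw [← QuotientGroup.eq]
    simpa using hj
  have hA : Subgroup.zpowers y ≤ Subgroup.normalizer (N : Set G) := by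
    rw [Subgroup.normalizer_eq_top]; exact le_top
  have hcop : (Nat.card (Subgroup.zpowers y)).Coprime (Nat.card N) := by
    rw [Nat.card_zpowers]
    exact Nat.coprime_of_dvd (fun r hr h1 h2 => hN r hr h2 (hy r hr h1))
  have hB : MulAut.conj z • Subgroup.zpowers y ≤ N ⊔ Subgroup.zpowers y := by
    intro x hx
    rw [mem_conj_smul] at hx
    obtain ⟨i, hi⟩ := Subgroup.mem_zpowers_iff.1 hx
    have hx' : x = (z * y * z⁻¹) ^ i := by
      rw [conj_zpow, hi]; group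
    rw [hx']
    apply Subgroup.zpow_mem
    have : z * y * z⁻¹ = y ^ j * ((y ^ j)⁻¹ * (z * y * z⁻¹)) := by group
    rw [this, sup_comm]
    exact Subgroup.mul_mem_sup (Subgroup.zpow_mem _ (Subgroup.mem_zpowers y) j) hjN
  have hBcard : Nat.card (MulAut.conj z • Subgroup.zpowers y : Subgroup G) =
      Nat.card (Subgroup.zpowers y) :=
    Nat.card_congr (Subgroup.equivSMul (MulAut.conj z) (Subgroup.zpowers y)).toEquiv.symm
  obtain ⟨k, hkN, hk⟩ := Cfsg.Agent.Lead.sz_conj_rel hA hcop (Or.inl inferInstance) hB hBcard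
  -- w = k⁻¹ z normalizes ⟨y⟩
  have hw : k⁻¹ * z ∈ Subgroup.normalizer ((Subgroup.zpowers y : Subgroup G) : Set G) := by
    rw [Subgroup.mem_normalizer_iff]
    intro h
    have e1 : ∀ x, x ∈ MulAut.conj k • Subgroup.zpowers y ↔ x ∈ MulAut.conj z • Subgroup.zpowers y := by
      intro x; rw [hk]
    constructor
    · intro hh
      have : z * h * z⁻¹ ∈ MulAut.conj z • Subgroup.zpowers y := by
        rw [mem_conj_smul]
        have : z⁻¹ * (z * h * z⁻¹) * z = h := by group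
        rw [this]; exact hh
      rw [← e1, mem_conj_smul] at this
      have e : k⁻¹ * z * h * (k⁻¹ * z)⁻¹ = k⁻¹ * (z * h * z⁻¹) * k := by group
      rw [e]; exact this
    · intro hh
      have e : k⁻¹ * z * h * (k⁻¹ * z)⁻¹ = k⁻¹ * (z * h * z⁻¹) * k := by group
      rw [e, ← mem_conj_smul, e1, mem_conj_smul] at hh
      have : z⁻¹ * (z * h * z⁻¹) * z = h := by group
      rw [this] at hh; exact hh
  have hwc := hirr y hy hw
  rw [Subgroup.mem_centralizer_iff] at hwc ⊢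
  intro x hx
  rw [Set.mem_singleton_iff] at hx
  subst hx
  have h2 := hwc y rfl
  have h3 : ((k⁻¹ * z : G) : G ⧸ N) = (z : G ⧸ N) := by
    have : ((k⁻¹ : G) : G ⧸ N) = 1 := (QuotientGroup.eq_one_iff _).2 (N.inv_mem hkN)
    simp [this]
  rw [← h3, ← QuotientGroup.mk_mul, ← QuotientGroup.mk_mul, h2]

end Cfsg.Agent.S4032
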