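import Cfsg.Statements.S4028
import Cfsg.Agent.Helper20.NormZpowers
import Cfsg.Agent.Helper20.Sylow

set_option autoImplicit false
open Cfsg

namespace Cfsg.Agent.S4028

open Cfsg.Agent.Helper20
open scoped Pointwise

lemma mem_conj_smul {G : Type*} [Group G] (g x : G) (H : Subgroup G) :
    x ∈ MulAut.conj g • H ↔ g⁻¹ * x * g ∈ H := by
  rw [Subgroup.mem_smul_pointwise_iff_exists]
  constructor
  · rintro ⟨s, hs, rfl⟩
    simpa [MulAut.smul_def, mul_assoc] using hs
  · intro h
    exact ⟨_, h, by simp [MulAut.smul_def, mul_assoc]⟩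

lemma coe_mem_zpowers {G : Type*} [Group G] (H : Subgroup G) (a b : H) :
    a ∈ Subgroup.zpowers b ↔ (a : G) ∈ Subgroup.zpowers (b : G) := by
  constructor
  · rintro ⟨i, rfl⟩
    exact ⟨i, by simp⟩
  · rintro ⟨i, hi⟩
    refine ⟨i, Subtype.ext ?_⟩
    simpa using hi

theorem result {G : Type*} [Group G] [Finite G] (P : Sylow 2 G) :
    (∀ x : G, (∀ r : ℕ, r.Prime → r ∣ orderOf x → r = 2) →
      Subgroup.normalizer ((Subgroup.zpowers x : Subgroup G) : Set G) ≤ Subgroup.centralizer {x}) ↔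
    (∀ y : ↥(P : Subgroup G), Subgroup.normalizer ((Subgroup.zpowers y : Subgroup ↥(P : Subgroup G)) : Set ↥(P : Subgroup G)) ≤
        Subgroup.centralizer {y}) := by
  haveI : Fact (Nat.Prime 2) := ⟨Nat.prime_two⟩
  constructor
  · intro hG y w hw
    have hy2 : ∀ r : ℕ, r.Prime → r ∣ orderOf (y : G) → r = 2 := by
      intro r hr hdvd
      obtain ⟨a, ha⟩ := orderOf_eq_pow_of_mem_pgroup (P : Subgroup G) P.2 (y : G) y.2
      rw [ha] at hdvd
      exact (Nat.prime_dvd_prime_iff_eq hr Nat.prime_two).1 (hr.dvd_of_dvd_pow hdvd)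
    have hwN : (w : G) ∈ Subgroup.normalizer ((Subgroup.zpowers (y : G) : Subgroup G) : Set G) := by
      rw [mem_normalizer_zpowers_iff] at hw ⊢
      obtain ⟨h1, h2⟩ := hw
      rw [coe_mem_zpowers] at h1 h2
      exact ⟨by simpa using h1, by simpa using h2⟩
    have := hG (y : G) hy2 hwN
    rw [Subgroup.mem_centralizer_iff] at this ⊢
    intro z hz
    rw [Set.mem_singleton_iff] at hz
    subst hz
    exact Subtype.ext (this _ rfl)
  · intro hP x hx g hg
    obtain ⟨n, hn⟩ : ∃ n, orderOf x = 2 ^ n :=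
      ⟨_, Nat.eq_prime_pow_of_unique_prime_dvd (orderOf_pos x).ne' (fun {d} hd hdvd => hx d hd hdvd)⟩
    obtain ⟨a, m, s, t, hcop, hordv, hdecomp⟩ := exists_pow_decomp 2 g
    have hpowN : ∀ j : ℕ, g ^ j ∈ Subgroup.normalizer ((Subgroup.zpowers x : Subgroup G) : Set G) :=
      fun j => Subgroup.pow_mem _ hg j
    -- the odd part
    have hu : Commute (g ^ (2 ^ a)) x := by
      have hN := hpowN (2 ^ a)
      rw [mem_normalizer_zpowers_iff] at hN
      have hfin : IsOfFinOrder x := isOfFinOrder_of_finite _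
      obtain ⟨k, hk⟩ := (Submonoid.mem_powers_iff _ _).1 (hfin.mem_powers_iff_mem_zpowers.2 hN.1)
      have hodd : Odd (orderOf (g ^ (2 ^ a))) := Nat.coprime_two_left.1 hcop.symm
      have := conj_eq_self_of_odd_of_two_group x (g ^ (2 ^ a)) n k _ hn hk.symm
        (pow_orderOf_eq_one _) hodd
      rw [commute_iff_eq]
      calc g ^ (2 ^ a) * x = (g ^ (2 ^ a) * x * (g ^ (2 ^ a))⁻¹) * g ^ (2 ^ a) := by group
        _ = x * g ^ (2 ^ a) := by rw [this]
    -- the 2-part
    have hv : Commute (g ^ m) x := by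
      have hN := hpowN m
      have hpgv : IsPGroup 2 (Subgroup.zpowers (g ^ m)) := by
        rw [IsPGroup.iff_card, Nat.card_zpowers]; exact ⟨a, hordv⟩
      have hpgx : IsPGroup 2 (Subgroup.zpowers x) := by
        rw [IsPGroup.iff_card, Nat.card_zpowers]; exact ⟨n, hn⟩
      have hle : Subgroup.zpowers (g ^ m) ≤
          Subgroup.normalizer ((Subgroup.zpowers x : Subgroup G) : Set G) := by
        rw [Subgroup.zpowers_le]; exact hN
      have hsup := IsPGroup.to_sup_of_normal_right' hpgv hpgx hle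
      obtain ⟨Q, hQ⟩ := hsup.exists_le_sylow
      obtain ⟨h, rfl⟩ := MulAction.exists_smul_eq G P Q
      have hxQ : x ∈ ((h • P : Sylow 2 G) : Subgroup G) :=
        hQ (Subgroup.mem_sup_right (Subgroup.mem_zpowers x))
      have hvQ : g ^ m ∈ ((h • P : Sylow 2 G) : Subgroup G) :=
        hQ (Subgroup.mem_sup_left (Subgroup.mem_zpowers _))
      rw [Sylow.smul_def, Sylow.pointwise_smul_def, mem_conj_smul] at hxQ hvQ
      have hwy := hP ⟨h⁻¹ * x * h, hxQ⟩ (show (⟨h⁻¹ * g ^ m * h, hvQ⟩ : (P : Subgroup G)) ∈ _ from by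
        rw [mem_normalizer_zpowers_iff, coe_mem_zpowers, coe_mem_zpowers]
        rw [mem_normalizer_zpowers_iff] at hN
        obtain ⟨⟨i, hi⟩, ⟨j, hj⟩⟩ := hN
        constructor
        · refine ⟨i, ?_⟩
          show (h⁻¹ * x * h) ^ i = (h⁻¹ * g ^ m * h) * (h⁻¹ * x * h) * (h⁻¹ * g ^ m * h)⁻¹
          have e := (conj_zpow (a := h⁻¹) (b := x) (i := i))
          simp only [inv_inv] at e
          rw [e]
          have hi' : x ^ i = g ^ m * x * (g ^ m)⁻¹ := hi
          rw [hi']; group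
        · refine ⟨j, ?_⟩
          show (h⁻¹ * x * h) ^ j = (h⁻¹ * g ^ m * h)⁻¹ * (h⁻¹ * x * h) * (h⁻¹ * g ^ m * h)
          have e := (conj_zpow (a := h⁻¹) (b := x) (i := j))
          simp only [inv_inv] at e
          rw [e]
          have hj' : x ^ j = (g ^ m)⁻¹ * x * (g ^ m) := hj
          rw [hj']; group)
      rw [Subgroup.mem_centralizer_iff] at hwy
      have h1 := congrArg Subtype.val (hwy _ rfl)
      have h2 : (h⁻¹ * x * h) * (h⁻¹ * g ^ m * h) = (h⁻¹ * g ^ m * h) * (h⁻¹ * x * h) := h1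
      rw [commute_iff_eq]
      calc g ^ m * x = h * ((h⁻¹ * g ^ m * h) * (h⁻¹ * x * h)) * h⁻¹ := by group
        _ = h * ((h⁻¹ * x * h) * (h⁻¹ * g ^ m * h)) * h⁻¹ := by rw [h2]
        _ = x * g ^ m := by group
    rw [Subgroup.mem_centralizer_iff]
    intro z hz
    rw [Set.mem_singleton_iff] at hz
    subst hz
    have h3 : Commute g z := by
      rw [hdecomp]
      exact (hu.zpow_left s).mul_left (hv.zpow_left t)
    exact h3.eq.symm

end Cfsg.Agent.S4028
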