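import Cfsg.Statements.S4029
import Cfsg.Agent.Helper1.PGroup
import Mathlib

set_option autoImplicit false
open Cfsg

namespace Cfsg.Agent.S4029

open Classical in
/-- Counting pairs `(x, g)` with `g x g⁻¹ = x⁻¹`: Cauchy–Schwarz on the square-root counts. -/
theorem key {P : Type*} [Group P] [Fintype P] (Φ : Finset P) (hsq : ∀ x : P, x ^ 2 ∈ Φ) :
    Fintype.card P ^ 2 ≤
      Φ.card * (Finset.univ.filter (fun q : P × P => q.2 * q.1 * q.2⁻¹ = q.1⁻¹)).card := by
  set T := Finset.univ.filter (fun q : P × P => q.2 * q.1 * q.2⁻¹ = q.1⁻¹) with hTdef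
  set s : P → ℕ := fun z => (Finset.univ.filter (fun h : P => h ^ 2 = z)).card with hs
  -- step A
  have hA : T.card = (Finset.univ.filter (fun q : P × P => q.1 ^ 2 = q.2 ^ 2)).card := by
    refine Finset.card_bij' (fun q _ => (q.1 * q.2, q.2)) (fun q _ => (q.1 * q.2⁻¹, q.2)) ?hi ?hj ?li ?ri
    case hi =>
      rintro ⟨x, g⟩ hq
      simp only [hTdef, Finset.mem_filter, Finset.mem_univ, true_and] at hq ⊢
      have h2 : g * x = x⁻¹ * g := by rw [← hq]; group
      have h3 : x * g * x = g := by
        calc x * g * x = x * (g * x) := mul_assoc _ _ _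
          _ = x * (x⁻¹ * g) := by rw [h2]
          _ = g := by group
      calc (x * g) ^ 2 = (x * g * x) * g := by rw [sq]; simp only [mul_assoc]
        _ = g ^ 2 := by rw [h3, sq]
    case hj =>
      rintro ⟨h, g⟩ hq
      simp only [hTdef, Finset.mem_filter, Finset.mem_univ, true_and] at hq ⊢
      have e : g⁻¹ * g⁻¹ = (h * h)⁻¹ := by rw [← sq h, hq, sq]; group
      calc g * (h * g⁻¹) * g⁻¹ = g * h * (g⁻¹ * g⁻¹) := by simp only [mul_assoc]
        _ = g * h * (h * h)⁻¹ := by rw [e]
        _ = (h * g⁻¹)⁻¹ := by group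
    case li => rintro ⟨x, g⟩ _; simp
    case ri => rintro ⟨h, g⟩ _; simp
  -- step B
  have hB : (Finset.univ.filter (fun q : P × P => q.1 ^ 2 = q.2 ^ 2)).card = ∑ z, s z ^ 2 := by
    rw [Finset.card_eq_sum_card_fiberwise (f := fun q : P × P => q.2 ^ 2) (t := Finset.univ)
      (fun _ _ => Finset.mem_coe.2 (Finset.mem_univ _))]
    apply Finset.sum_congr rfl
    intro z _
    have : (Finset.univ.filter (fun q : P × P => q.1 ^ 2 = q.2 ^ 2)).filter (fun q => q.2 ^ 2 = z)
        = (Finset.univ.filter (fun h : P => h ^ 2 = z)) ×ˢ (Finset.univ.filter (fun h : P => h ^ 2 = z)) := by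
      ext ⟨h, g⟩
      simp only [Finset.mem_filter, Finset.mem_univ, true_and, Finset.mem_product]
      constructor
      · rintro ⟨h1, h2⟩; exact ⟨h1.trans h2, h2⟩
      · rintro ⟨h1, h2⟩; exact ⟨h1.trans h2.symm, h2⟩
    rw [this, Finset.card_product, sq]
  -- sum of s
  have hsum : ∑ z, s z = Fintype.card P := by
    have := Finset.card_eq_sum_card_fiberwise (f := fun h : P => h ^ 2) (s := Finset.univ) (t := Finset.univ)
      (fun _ _ => Finset.mem_coe.2 (Finset.mem_univ _))
    rw [Finset.card_univ] at this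
    rw [this]
  have hzero : ∀ z, z ∉ Φ → s z = 0 := by
    intro z hz
    simp only [hs, Finset.card_eq_zero, Finset.filter_eq_empty_iff, Finset.mem_univ, true_implies]
    intro h hh
    exact hz (hh ▸ hsq h)
  have hsumΦ : ∑ z ∈ Φ, s z = Fintype.card P := by
    rw [← hsum]
    apply Finset.sum_subset (Finset.subset_univ _)
    intro z _ hz
    exact hzero z hz
  have hCS := sq_sum_le_card_mul_sum_sq (s := Φ) (f := s)
  rw [hsumΦ] at hCS
  calc Fintype.card P ^ 2 ≤ Φ.card * ∑ i ∈ Φ, s i ^ 2 := hCS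
    _ ≤ Φ.card * ∑ z, s z ^ 2 := by
        apply Nat.mul_le_mul_left
        exact Finset.sum_le_sum_of_subset (Finset.subset_univ _)
    _ = Φ.card * T.card := by rw [hA, hB]

theorem facts {P : Type*} [Group P]
    (hirr : ∀ y : P, Subgroup.normalizer ((Subgroup.zpowers y : Subgroup P) : Set P) ≤
      Subgroup.centralizer {y})
    (x g : P) (h : g * x * g⁻¹ = x⁻¹) : g * x = x * g ∧ x ^ 2 = 1 := by
  have h1 : g * x⁻¹ * g⁻¹ = x := by
    have := congrArg Inv.inv h
    simpa [mul_assoc] using this
  have h' : g⁻¹ * x * g = x⁻¹ := by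
    calc g⁻¹ * x * g = g⁻¹ * (g * x⁻¹ * g⁻¹) * g := by rw [h1]
      _ = x⁻¹ := by group
  have hn : g ∈ Subgroup.normalizer ((Subgroup.zpowers x : Subgroup P) : Set P) := by
    rw [Subgroup.mem_normalizer_iff]
    intro y
    constructor
    · intro hy
      obtain ⟨i, rfl⟩ := Subgroup.mem_zpowers_iff.1 hy
      have : g * x ^ i * g⁻¹ = (x⁻¹) ^ i := by rw [← h, conj_zpow]
      rw [this]
      exact Subgroup.zpow_mem _ (Subgroup.inv_mem _ (Subgroup.mem_zpowers x)) i
    · intro hy
      obtain ⟨i, hi⟩ := Subgroup.mem_zpowers_iff.1 hy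
      have : y = (x⁻¹) ^ i := by
        have e : y = g⁻¹ * (g * y * g⁻¹) * g := by group
        rw [e, ← hi, ← h']
        have := conj_zpow (a := g⁻¹) (b := x) (i := i)
        rw [inv_inv] at this
        exact this.symm
      rw [this]
      exact Subgroup.zpow_mem _ (Subgroup.inv_mem _ (Subgroup.mem_zpowers x)) i
  have hc := hirr x hn
  rw [Subgroup.mem_centralizer_singleton_iff] at hc
  refine ⟨hc, ?_⟩
  have : x⁻¹ = x := by rw [← h, hc]; group
  calc x ^ 2 = x * x := sq x
    _ = x⁻¹ * x := by rw [this]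
    _ = 1 := inv_mul_cancel x

open Classical in
theorem key2 {P : Type*} [Group P] [Fintype P]
    (hirr : ∀ y : P, Subgroup.normalizer ((Subgroup.zpowers y : Subgroup P) : Set P) ≤
      Subgroup.centralizer {y})
    (r : P → P) (hr : ∀ x : P, x ^ 2 = 1 → ∃ t : P, t * r x * t⁻¹ = x) :
    (Finset.univ.filter (fun q : P × P => q.2 * q.1 * q.2⁻¹ = q.1⁻¹)).card ≤
      ((Finset.univ.filter (fun x : P => x ^ 2 = 1)).image r).card * Fintype.card P := by
  have hr' : ∀ x : P, ∃ t : P, x ^ 2 = 1 → t * r x * t⁻¹ = x := by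
    intro x
    by_cases hx : x ^ 2 = 1
    · obtain ⟨t, ht⟩ := hr x hx
      exact ⟨t, fun _ => ht⟩
    · exact ⟨1, fun h => absurd h hx⟩
  choose t ht using hr'
  rw [← Finset.card_univ, ← Finset.card_product]
  apply Finset.card_le_card_of_injOn (fun q => (r q.1, q.2 * t q.1))
  · rintro ⟨x, g⟩ hq
    simp only [Finset.coe_filter, Finset.mem_univ, true_and, Set.mem_setOf_eq] at hq
    obtain ⟨_, hx2⟩ := facts hirr x g hq
    simp only [Finset.coe_product, Set.mem_prod, Finset.mem_coe, Finset.mem_image, Finset.mem_filter,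
      Finset.mem_univ, true_and, and_true]
    exact ⟨x, hx2, rfl⟩
  · rintro ⟨x, g⟩ hq ⟨x', g'⟩ hq' heq
    simp only [Finset.coe_filter, Finset.mem_univ, true_and, Set.mem_setOf_eq] at hq hq'
    obtain ⟨hc, hx2⟩ := facts hirr x g hq
    obtain ⟨hc', hx2'⟩ := facts hirr x' g' hq'
    simp only [Prod.mk.injEq] at heq
    obtain ⟨h1, h2⟩ := heq
    have e1 : x = (g * t x) * r x * (g * t x)⁻¹ := by
      have := ht x hx2
      calc x = g * x * g⁻¹ := by rw [hc]; group
        _ = g * (t x * r x * (t x)⁻¹) * g⁻¹ := by rw [this]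
        _ = (g * t x) * r x * (g * t x)⁻¹ := by group
    have e2 : x' = (g' * t x') * r x' * (g' * t x')⁻¹ := by
      have := ht x' hx2'
      calc x' = g' * x' * g'⁻¹ := by rw [hc']; group
        _ = g' * (t x' * r x' * (t x')⁻¹) * g'⁻¹ := by rw [this]
        _ = (g' * t x') * r x' * (g' * t x')⁻¹ := by group
    have hxx : x = x' := by rw [e1, e2, h1, h2]
    subst hxx
    have : g = g' := mul_right_cancel h2
    rw [this]

open Classical in
theorem card_filter_mem {P : Type*} [Group P] [Fintype P] (H : Subgroup P) :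
    (Finset.univ.filter (· ∈ H)).card = Nat.card H := by
  rw [Nat.card_eq_fintype_card]
  exact (Fintype.card_of_subtype _ (by simp)).symm

theorem result {P : Type*} [Group P] [Finite P] (hP : IsPGroup 2 P)
    (hirr : ∀ y : P, Subgroup.normalizer ((Subgroup.zpowers y : Subgroup P) : Set P) ≤ Subgroup.centralizer {y}) :
    Nat.card (P ⧸ frattini P) ≤ Nat.card {c : ConjClasses P // ∃ y : P, ConjClasses.mk y = c ∧ orderOf y = 2} + 1 ∧
    Nat.card (P ⧸ frattini P) ≤ Nat.card (Subgroup.closure {y : P | orderOf y = 2}) := by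
  classical
  haveI : Fintype P := Fintype.ofFinite P
  haveI : Fact (Nat.Prime 2) := ⟨Nat.prime_two⟩
  have hrep : ∀ c : {c : ConjClasses P // ∃ y : P, ConjClasses.mk y = c ∧ orderOf y = 2},
      ∃ y : P, ConjClasses.mk y = c.1 ∧ orderOf y = 2 := fun c => c.2
  choose rep hrep1 hrep2 using hrep
  let r : P → P := fun x => if h : orderOf x = 2 then rep ⟨ConjClasses.mk x, x, rfl, h⟩ else 1
  have hr : ∀ x : P, x ^ 2 = 1 → ∃ t, t * r x * t⁻¹ = x := by
    intro x hx
    by_cases h : orderOf x = 2
    · have e : r x = rep ⟨ConjClasses.mk x, x, rfl, h⟩ := dif_pos h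
      have hc : IsConj (r x) x := by
        rw [e, ← ConjClasses.mk_eq_mk_iff_isConj]; exact hrep1 _
      obtain ⟨t, ht⟩ := hc
      refine ⟨t, ?_⟩
      rw [ht.eq]; group
    · have e : r x = 1 := dif_neg h
      have hx1 : x = 1 := by
        have := orderOf_dvd_of_pow_eq_one hx
        rcases (Nat.dvd_prime Nat.prime_two).1 this with h1 | h2
        · exact orderOf_eq_one_iff.1 h1
        · exact absurd h2 h
      exact ⟨1, by rw [e, hx1]; simp⟩
  have h1 := key (Finset.univ.filter (· ∈ frattini P))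
    (fun x => by
      simp only [Finset.mem_filter, Finset.mem_univ, true_and]
      exact Cfsg.Agent.Helper1.IsPGroup.pow_mem_frattini hP x)
  have h2 := key2 hirr r hr
  rw [card_filter_mem] at h1
  set R := (Finset.univ.filter (fun x : P => x ^ 2 = 1)).image r with hRdef
  have h3 : Fintype.card P ≤ Nat.card (frattini P) * R.card := by
    have : Fintype.card P * Fintype.card P ≤ (Nat.card (frattini P) * R.card) * Fintype.card P := by
      calc Fintype.card P * Fintype.card P = Fintype.card P ^ 2 := (sq _).symm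
        _ ≤ _ := h1
        _ ≤ Nat.card (frattini P) * (R.card * Fintype.card P) := Nat.mul_le_mul_left _ h2
        _ = _ := by ring
    exact Nat.le_of_mul_le_mul_right this Fintype.card_pos
  have h4 : Nat.card (P ⧸ frattini P) ≤ R.card := by
    have := Subgroup.card_eq_card_quotient_mul_card_subgroup (frattini P)
    rw [← Nat.card_eq_fintype_card, this, mul_comm] at h3
    exact Nat.le_of_mul_le_mul_left h3 Nat.card_pos
  have hR : R ⊆ insert 1 (Finset.univ.image rep) := by
    intro y hy
    obtain ⟨x, _, rfl⟩ := Finset.mem_image.1 hy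
    by_cases h : orderOf x = 2
    · have e : r x = rep ⟨ConjClasses.mk x, x, rfl, h⟩ := dif_pos h
      rw [e]
      exact Finset.mem_insert_of_mem (Finset.mem_image_of_mem _ (Finset.mem_univ _))
    · have e : r x = 1 := dif_neg h
      rw [e]
      exact Finset.mem_insert_self _ _
  constructor
  · calc Nat.card (P ⧸ frattini P) ≤ R.card := h4
      _ ≤ (insert 1 (Finset.univ.image rep)).card := Finset.card_le_card hR
      _ ≤ (Finset.univ.image rep).card + 1 := Finset.card_insert_le _ _
      _ ≤ Fintype.card {c : ConjClasses P // ∃ y : P, ConjClasses.mk y = c ∧ orderOf y = 2} + 1 := by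
          apply Nat.add_le_add_right
          exact Finset.card_image_le.trans (le_of_eq Finset.card_univ)
      _ = _ := by rw [Nat.card_eq_fintype_card]
  · rw [← card_filter_mem]
    refine h4.trans (Finset.card_le_card ?_)
    intro y hy
    simp only [Finset.mem_filter, Finset.mem_univ, true_and]
    rcases Finset.mem_insert.1 (hR hy) with h | h
    · rw [h]; exact Subgroup.one_mem _
    · obtain ⟨c, _, rfl⟩ := Finset.mem_image.1 h
      exact Subgroup.subset_closure (hrep2 c)

end Cfsg.Agent.S4029
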