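import Cfsg.Statements.S4035
import Cfsg.Agent.Helper20.Basic
import Cfsg.Agent.Helper20.Sylow
import Cfsg.Agent.Helper22.ConjCover

set_option autoImplicit false
open Cfsg
open scoped Pointwise

namespace Cfsg.Agent.S4035

open Helper20

theorem result {G : Type*} [Group G] [Finite G] {p : ℕ} [Fact p.Prime]
    (h : ∀ x : G, (orderOf x).Coprime p → ¬ p ∣ (ConjClasses.mk x).carrier.ncard) (P : Sylow p G) :
    (P : Subgroup G).Normal ∧ ∃ H : Subgroup G, H.Normal ∧ ¬ p ∣ Nat.card H ∧
      (P : Subgroup G) ⊓ H = ⊥ ∧ (P : Subgroup G) ⊔ H = ⊤ := by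
  have hp : p.Prime := Fact.out
  -- every p'-element centralizes some Sylow p-subgroup
  have ha : ∀ x : G, (orderOf x).Coprime p →
      ∃ Q : Sylow p G, (Q : Subgroup G) ≤ Subgroup.centralizer {x} := by
    intro x hx
    apply exists_sylow_le_of_not_dvd_index
    rw [← ncard_carrier_eq_index]; exact h x hx
  -- every element normalizes some Sylow p-subgroup
  have hb : ∀ g : G, ∃ Q : Sylow p G, g ∈ Subgroup.normalizer ((Q : Subgroup G) : Set G) := by
    intro g
    obtain ⟨a, m, s, t, hu, hv, hg⟩ := exists_pow_decomp p g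
    obtain ⟨Q, hQ⟩ := ha _ hu
    have hvC : g ^ m ∈ Subgroup.centralizer ({g ^ (p ^ a)} : Set G) := by
      rw [Subgroup.mem_centralizer_iff]
      intro y hy
      rw [Set.mem_singleton_iff] at hy
      subst hy
      rw [← pow_add, ← pow_add, add_comm]
    obtain ⟨Q', hQ', hvQ'⟩ := exists_sylow_le_and_mem _ Q hQ (g ^ m) hvC a hv
    refine ⟨Q', ?_⟩
    have h1 : g ^ (p ^ a) ∈ Subgroup.normalizer ((Q' : Subgroup G) : Set G) := by
      apply Subgroup.centralizer_le_normalizer
      rw [Subgroup.mem_centralizer_iff]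
      intro y hy
      have := hQ' hy
      rw [Subgroup.mem_centralizer_iff] at this
      exact (this _ rfl).symm
    have h2 : g ^ m ∈ Subgroup.normalizer ((Q' : Subgroup G) : Set G) :=
      Subgroup.le_normalizer hvQ'
    rw [hg]
    exact mul_mem (Subgroup.zpow_mem _ h1 s) (Subgroup.zpow_mem _ h2 t)
  -- hence N(P) = G
  have hPn : (P : Subgroup G).Normal := by
    rw [← Subgroup.normalizer_eq_top_iff]
    by_contra hne
    obtain ⟨g, hg⟩ := Helper22.exists_not_mem_conj _ hne
    obtain ⟨Q, hQ⟩ := hb g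
    obtain ⟨x, rfl⟩ := MulAction.exists_smul_eq G P Q
    apply hg x
    rw [mem_normalizer_smul_sylow_iff] at hQ
    rw [Subgroup.mem_pointwise_smul_iff_inv_smul_mem]
    simpa [MulAut.smul_def] using hQ
  refine ⟨hPn, ?_⟩
  haveI := hPn
  haveI : Subsingleton (Sylow p G) := (Sylow.unique_of_normal P hPn).instSubsingleton
  obtain ⟨K, hK⟩ := Subgroup.exists_right_complement'_of_coprime P.card_coprime_index
  have hKcard : ¬ p ∣ Nat.card K := by
    have h1 : Nat.card K = (P : Subgroup G).index := hK.symm.index_eq_card.symm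
    rw [h1]
    exact P.not_dvd_index
  have hKC : K ≤ Subgroup.centralizer ((P : Subgroup G) : Set G) := by
    intro k hk
    have hcop : (orderOf k).Coprime p := by
      have : orderOf k ∣ Nat.card K := by
        have := orderOf_dvd_natCard (⟨k, hk⟩ : K)
        rwa [Subgroup.orderOf_mk] at this
      exact Nat.Coprime.coprime_dvd_left this ((Nat.Prime.coprime_iff_not_dvd hp).2 hKcard).symm
    obtain ⟨Q, hQ⟩ := ha k hcop
    have hQP : Q = P := Subsingleton.elim _ _
    rw [hQP] at hQ
    rw [Subgroup.mem_centralizer_iff]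
    intro y hy
    have := hQ hy
    rw [Subgroup.mem_centralizer_iff] at this
    exact (this k rfl).symm
  have hKn : K.Normal := by
    rw [← Subgroup.normalizer_eq_top_iff, eq_top_iff, ← hK.sup_eq_top, sup_le_iff]
    refine ⟨?_, Subgroup.le_normalizer⟩
    intro x hx
    apply Subgroup.centralizer_le_normalizer
    rw [Subgroup.mem_centralizer_iff]
    intro k hk
    have := hKC hk
    rw [Subgroup.mem_centralizer_iff] at this
    exact (this x hx).symm
  exact ⟨K, hKn, hKcard, disjoint_iff.1 hK.disjoint, hK.sup_eq_top⟩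

end Cfsg.Agent.S4035
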