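import Cfsg.Statements.S4036
import Cfsg.Agent.Helper20.AutFixed

set_option autoImplicit false
open Cfsg

namespace Cfsg.Agent.S4036

open Cfsg.Agent.Helper20

theorem result {P : Type*} [CommGroup P] [Finite P] {p : ℕ}
    [Fact p.Prime] (hP : IsPGroup p P) (K : Subgroup (MulAut P)) (hK : p ∣ Nat.card K)
    (hfix : ∀ x y : MulAut P, x ∈ K → y ∈ K → x ≠ 1 → y ≠ 1 → ∀ v : P, x v = v ↔ y v = v) :
    ∀ N : Subgroup ↥K, N.Normal → ¬ p ∣ Nat.card N → N = ⊥ := by
  classical
  intro N hNn hNp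
  by_contra hN
  obtain ⟨a₀, ha₀N, ha₀1⟩ := N.bot_or_exists_ne_one.resolve_left hN
  haveI : Finite K := inferInstance
  obtain ⟨y, hy⟩ := exists_prime_orderOf_dvd_card' p hK
  haveI := Fintype.ofFinite N
  -- trace map
  let T : P →* P := ∏ a : N, (((a : K) : MulAut P) : P ≃* P).toMonoidHom
  have hT : ∀ v, T v = ∏ a : N, ((a : K) : MulAut P) v := by
    intro v
    simp only [T, MonoidHom.finset_prod_apply]
    rfl
  -- (2) T (b v) = T v
  have hT2 : ∀ (b : N) (v : P), T (((b : K) : MulAut P) v) = T v := by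
    intro b v
    rw [hT, hT]
    refine Fintype.prod_equiv (Equiv.mulRight b) _ _ (fun a => ?_)
    simp only [Equiv.coe_mulRight, Subgroup.coe_mul, MulAut.mul_apply]
  -- (3) T (k v) = k (T v)
  have hT3 : ∀ (k : K) (v : P), T ((k : MulAut P) v) = (k : MulAut P) (T v) := by
    intro k v
    rw [hT, hT, map_prod]
    refine Fintype.prod_equiv (MulAut.conjNormal (H := N) k⁻¹).toEquiv _ _ (fun a => ?_)
    have h1 : ((MulAut.conjNormal (H := N) k⁻¹ a : N) : K) = k⁻¹ * (a : K) * k⁻¹⁻¹ :=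
      MulAut.conjNormal_apply _ _
    show ((a : K) : MulAut P) ((k : MulAut P) v) =
      (k : MulAut P) ((((MulAut.conjNormal (H := N) k⁻¹ a : N) : K) : MulAut P) v)
    rw [h1]
    simp [MulAut.mul_apply]
  -- (4) fixed vectors
  have hT4 : ∀ v : P, (∀ a : N, ((a : K) : MulAut P) v = v) → T v = v ^ Nat.card N := by
    intro v hv
    rw [hT]
    simp only [hv, Finset.prod_const, Finset.card_univ, Nat.card_eq_fintype_card]
  -- kernel is trivial
  have hker : T.ker = ⊥ := by
    by_contra hW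
    have hyo : orderOf (y : MulAut P) = p ^ 1 := by
      rw [pow_one, Subgroup.orderOf_coe, hy]
    obtain ⟨w, hwW, hw1, hyw⟩ := exists_fixed_ne_one_of_invariant hP (y : MulAut P) 1 hyo T.ker hW
      (by
        intro w hw
        rw [MonoidHom.mem_ker] at hw ⊢
        rw [hT3 y w, hw, map_one])
    have hy1 : (y : MulAut P) ≠ 1 := by
      intro h
      rw [h, orderOf_one, pow_one] at hyo
      have := (Fact.out : p.Prime).one_lt
      omega
    have hall : ∀ a : N, ((a : K) : MulAut P) w = w := by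
      intro a
      by_cases ha : ((a : K) : MulAut P) = 1
      · rw [ha]; rfl
      · exact (hfix _ _ (a : K).2 y.2 ha hy1 w).2 hyw
    have h4 := hT4 w hall
    rw [MonoidHom.mem_ker] at hwW
    rw [hwW] at h4
    obtain ⟨j, hj⟩ := hP w
    have hcop : Nat.Coprime (Nat.card N) (p ^ j) :=
      Nat.Coprime.pow_right _ (Nat.Coprime.symm ((Nat.Prime.coprime_iff_not_dvd Fact.out).2 hNp))
    have h5 : orderOf w ∣ Nat.card N := orderOf_dvd_of_pow_eq_one h4.symm
    have h6 : orderOf w ∣ p ^ j := orderOf_dvd_of_pow_eq_one hj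
    have h7 : orderOf w = 1 := Nat.eq_one_of_dvd_coprimes hcop h5 h6
    exact hw1 (orderOf_eq_one_iff.1 h7)
  have hinj : Function.Injective T := (MonoidHom.ker_eq_bot_iff T).1 hker
  apply ha₀1
  apply Subtype.ext
  apply MulEquiv.ext
  intro v
  have := hT2 ⟨a₀, ha₀N⟩ v
  exact hinj this

end Cfsg.Agent.S4036
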