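import Cfsg.Statements.S4039
import Cfsg.Agent.Helper21.NilpMax

set_option autoImplicit false
set_option linter.style.haveILetI false
open Cfsg
open scoped commutatorElement

namespace Cfsg.Agent.S4039

/-- A finite group possessing a maximal subgroup that is nilpotent of class at most 2 is solvable. -/
theorem result {G : Type*} [Group G] [Finite G]
    (M : Subgroup G) (hmax : IsCoatom M) (hnil : Group.IsNilpotent M) (hcl : Group.nilpotencyClass ↥M ≤ 2) :
    Group.IsSolvable G := by
  haveI := hnil
  have h2 : (⊤ : Subgroup M).lowerCentralSeries 2 = ⊥ :=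
    Subgroup.lowerCentralSeries_eq_bot_iff_nilpotencyClass_le.mpr hcl
  have h3 : ∀ a b c : M, ⁅⁅a, b⁆, c⁆ = 1 := by
    intro a b c
    have : ⁅⁅a, b⁆, c⁆ ∈ (⊤ : Subgroup M).lowerCentralSeries 2 :=
      Subgroup.commutator_mem_commutator
        (Subgroup.commutator_mem_commutator (Subgroup.mem_top a) (Subgroup.mem_top b))
        (Subgroup.mem_top c)
    rw [h2, Subgroup.mem_bot] at this
    exact this
  refine Cfsg.Agent.Helper21.NilpMax.isSolvable_of_nilpotent_coatom _ G rfl M hmax hnil ?_
  intro a ha b hb c hc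
  have := congrArg Subtype.val (h3 ⟨a, ha⟩ ⟨b, hb⟩ ⟨c, hc⟩)
  simpa [commutatorElement_def] using this

end Cfsg.Agent.S4039
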