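import Cfsg.Statements.S4049
import Cfsg.Agent.Helper20.InvolCore
import Cfsg.Agent.Helper20.PiPart
import Cfsg.Agent.Lead.Coprime

set_option autoImplicit false
open Cfsg

namespace Cfsg.Agent.S4049

open Cfsg.Agent.Helper20
open scoped Pointwise

lemma mem_conj_smul {G : Type*} [Group G] (g x : G) (H : Subgroup G) :
    x ∈ MulAut.conj g • H ↔ g⁻¹ * x * g ∈ H := by
  rw [Subgroup.mem_smul_pointwise_iff_exists]
  constructor
  · rintro ⟨s, hs, rfl⟩
    simpa [MulAut.smul_def, mul_assoc] using hs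
  · intro h
    exact ⟨_, h, by simp [MulAut.smul_def, mul_assoc]⟩

/-- Lemma X: under the hypothesis, no element inverts a nontrivial element of odd order. -/
lemma noInv_of_hyp {G : Type*} [Group G] [Finite G]
    (hhom : ∀ H : Subgroup G, H ≠ ⊥ → ¬ 2 ∣ Nat.card ↥H →
        ¬ 2 ∣ (Subgroup.centralizer (H : Set G)).relIndex (Subgroup.normalizer (H : Set G))) :
    NoInv G := by
  intro w y hodd hwy
  by_contra hy1
  have hH1 : Subgroup.zpowers y ≠ ⊥ := by
    rw [Ne, Subgroup.zpowers_eq_bot]; exact hy1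
  have hH2 : ¬ 2 ∣ Nat.card (Subgroup.zpowers y) := by
    rw [Nat.card_zpowers]
    intro h
    exact (Nat.not_even_iff_odd.2 hodd) (even_iff_two_dvd.2 h)
  have hrel := hhom _ hH1 hH2
  apply hrel
  -- w ∈ N
  have hwN : w ∈ Subgroup.normalizer ((Subgroup.zpowers y : Subgroup G) : Set G) := by
    rw [mem_normalizer_zpowers_iff]
    constructor
    · rw [hwy]; exact Subgroup.inv_mem _ (Subgroup.mem_zpowers y)
    · have : w⁻¹ * y * w = y⁻¹ := by
        have h1 : y = w⁻¹ * y⁻¹ * w := by rw [← hwy]; group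
        calc w⁻¹ * y * w = (w⁻¹ * y⁻¹ * w)⁻¹ := by group
          _ = y⁻¹ := by rw [← h1]
      rw [this]; exact Subgroup.inv_mem _ (Subgroup.mem_zpowers y)
  -- elements of C commute with y
  have hCmem : ∀ c : G, c ∈ Subgroup.centralizer ((Subgroup.zpowers y : Subgroup G) : Set G) ↔
      c * y = y * c := by
    intro c
    rw [Subgroup.mem_centralizer_iff]
    constructor
    · intro h; exact (h y (Subgroup.mem_zpowers y)).symm
    · intro h z hz
      obtain ⟨i, rfl⟩ := Subgroup.mem_zpowers_iff.1 hz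
      exact ((Commute.zpow_right (show Commute c y from h) i).eq).symm
  -- w ∉ C
  have hwC : w ∉ Subgroup.centralizer ((Subgroup.zpowers y : Subgroup G) : Set G) := by
    rw [hCmem]
    intro h
    have hyy : y = y⁻¹ := by
      rw [← hwy, h]; group
    have hy2 : y ^ 2 = 1 := by
      rw [pow_two]
      nth_rewrite 1 [hyy]
      exact inv_mul_cancel y
    have h2 : orderOf y ∣ 2 := orderOf_dvd_of_pow_eq_one hy2
    have h1 : orderOf y = 1 := by
      rcases (Nat.dvd_prime Nat.prime_two).1 h2 with h | h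
      · exact h
      · rw [h] at hodd; exact absurd hodd (by decide)
    exact hy1 (orderOf_eq_one_iff.1 h1)
  -- w² ∈ C
  have hw2C : w ^ 2 ∈ Subgroup.centralizer ((Subgroup.zpowers y : Subgroup G) : Set G) := by
    rw [hCmem]
    have : w ^ 2 * y * (w ^ 2)⁻¹ = y := by
      calc w ^ 2 * y * (w ^ 2)⁻¹ = w * (w * y * w⁻¹) * w⁻¹ := by rw [pow_two]; group
        _ = w * y⁻¹ * w⁻¹ := by rw [hwy]
        _ = (w * y * w⁻¹)⁻¹ := by group
        _ = y := by rw [hwy, inv_inv]
    calc w ^ 2 * y = (w ^ 2 * y * (w ^ 2)⁻¹) * w ^ 2 := by group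
      _ = y * w ^ 2 := by rw [this]
  -- normality of C in N
  set N := Subgroup.normalizer ((Subgroup.zpowers y : Subgroup G) : Set G) with hNdef
  set C := Subgroup.centralizer ((Subgroup.zpowers y : Subgroup G) : Set G) with hCdef
  haveI hnorm : (C.subgroupOf N).Normal := by
    constructor
    intro c hc n
    rw [Subgroup.mem_subgroupOf] at hc ⊢
    rw [hCdef, Subgroup.mem_centralizer_iff] at hc ⊢
    intro h hh
    have hn : (n : G) ∈ N := n.2
    have hh' : (n : G)⁻¹ * h * (n : G) ∈ Subgroup.zpowers y := by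
      have := (Subgroup.mem_normalizer_iff.1 (Subgroup.inv_mem _ hn) h).1 hh
      simpa using this
    have := hc _ hh'
    simp only [Subgroup.coe_mul, Subgroup.coe_inv]
    calc h * ((n : G) * (c : G) * (n : G)⁻¹)
        = (n : G) * (((n : G)⁻¹ * h * (n : G)) * (c : G)) * (n : G)⁻¹ := by group
      _ = (n : G) * ((c : G) * ((n : G)⁻¹ * h * (n : G))) * (n : G)⁻¹ := by rw [this]
      _ = (n : G) * (c : G) * (n : G)⁻¹ * h := by group
  -- the image of w in N/C has order 2
  have hq : orderOf ((⟨w, hwN⟩ : N) : N ⧸ C.subgroupOf N) = 2 := by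
    apply orderOf_eq_prime
    · rw [← QuotientGroup.mk_pow, QuotientGroup.eq_one_iff, Subgroup.mem_subgroupOf]
      exact hw2C
    · rw [Ne, QuotientGroup.eq_one_iff, Subgroup.mem_subgroupOf]
      exact hwC
  have : 2 ∣ Nat.card (N ⧸ C.subgroupOf N) := by
    rw [← hq]; exact orderOf_dvd_natCard _
  rw [Subgroup.relIndex, Subgroup.index_eq_card]
  exact this

/-- Lemma Y: the quotient by a normal `2`-subgroup also satisfies `NoInv`. -/
lemma noInv_quotient {G : Type*} [Group G] [Finite G] (hG : NoInv G)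
    (O : Subgroup G) [O.Normal] (hO : IsPGroup 2 O) : NoInv (G ⧸ O) := by
  haveI : Fact (Nat.Prime 2) := ⟨Nat.prime_two⟩
  intro t' y' hodd hty
  obtain ⟨y, rfl, hy⟩ := exists_pi_lift {r : ℕ | r ≠ 2} O y' (by
    rintro r hr hdvd rfl
    exact (Nat.not_even_iff_odd.2 hodd) (even_iff_two_dvd.2 hdvd))
  obtain ⟨t, rfl⟩ := QuotientGroup.mk_surjective t'
  have hyodd : Odd (orderOf y) := by
    rw [← Nat.not_even_iff_odd, even_iff_two_dvd]
    intro h
    exact hy 2 Nat.prime_two h rfl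
  have hjN : t * y * t⁻¹ * y ∈ O := by
    rw [← QuotientGroup.eq_one_iff]
    simp only [QuotientGroup.mk_mul, QuotientGroup.mk_inv]
    rw [hty]; simp
  have hA : Subgroup.zpowers y ≤ Subgroup.normalizer (O : Set G) := by
    rw [Subgroup.normalizer_eq_top]; exact le_top
  obtain ⟨k, hk⟩ := IsPGroup.iff_card.1 hO
  have hcop : (Nat.card (Subgroup.zpowers y)).Coprime (Nat.card O) := by
    rw [Nat.card_zpowers, hk]
    exact Nat.Coprime.pow_right _ (Nat.coprime_comm.1 (Nat.coprime_two_left.2 hyodd))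
  have hB : MulAut.conj t • Subgroup.zpowers y ≤ O ⊔ Subgroup.zpowers y := by
    intro x hx
    rw [mem_conj_smul] at hx
    obtain ⟨i, hi⟩ := Subgroup.mem_zpowers_iff.1 hx
    have hx' : x = (t * y * t⁻¹) ^ i := by
      rw [conj_zpow, hi]; group
    rw [hx']
    apply Subgroup.zpow_mem
    have : t * y * t⁻¹ = (t * y * t⁻¹ * y) * y⁻¹ := by group
    rw [this]
    exact Subgroup.mul_mem_sup hjN (Subgroup.inv_mem _ (Subgroup.mem_zpowers y))
  have hBcard : Nat.card (MulAut.conj t • Subgroup.zpowers y : Subgroup G) =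
      Nat.card (Subgroup.zpowers y) :=
    Nat.card_congr (Subgroup.equivSMul (MulAut.conj t) (Subgroup.zpowers y)).toEquiv.symm
  obtain ⟨n, hnO, hn⟩ := Cfsg.Agent.Lead.sz_conj_rel hA hcop (Or.inl inferInstance) hB hBcard
  -- w = n⁻¹ t conjugates y into ⟨y⟩
  have hwy : (n⁻¹ * t) * y * (n⁻¹ * t)⁻¹ ∈ Subgroup.zpowers y := by
    have h1 : t * y * t⁻¹ ∈ MulAut.conj t • Subgroup.zpowers y := by
      rw [mem_conj_smul]
      have : t⁻¹ * (t * y * t⁻¹) * t = y := by group
      rw [this]; exact Subgroup.mem_zpowers y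
    rw [← hn, mem_conj_smul] at h1
    have e : (n⁻¹ * t) * y * (n⁻¹ * t)⁻¹ = n⁻¹ * (t * y * t⁻¹) * n := by group
    rw [e]; exact h1
  obtain ⟨i, hi⟩ := Subgroup.mem_zpowers_iff.1 hwy
  -- mod O
  have h3 : ((n⁻¹ * t : G) : G ⧸ O) = (t : G ⧸ O) := by
    have : ((n⁻¹ : G) : G ⧸ O) = 1 := (QuotientGroup.eq_one_iff _).2 (O.inv_mem hnO)
    simp [this]
  have h4 : ((y ^ i : G) : G ⧸ O) = ((y⁻¹ : G) : G ⧸ O) := by
    rw [hi]
    have e : ((n⁻¹ * t * y * (n⁻¹ * t)⁻¹ : G) : G ⧸ O) =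
        ((n⁻¹ * t : G) : G ⧸ O) * (y : G ⧸ O) * ((n⁻¹ * t : G) : G ⧸ O)⁻¹ := by
      simp only [QuotientGroup.mk_mul, QuotientGroup.mk_inv]
    rw [e, h3, hty, QuotientGroup.mk_inv]
  have h5 : y ^ i * y ∈ O := by
    rw [← QuotientGroup.eq_one_iff, QuotientGroup.mk_mul, h4, QuotientGroup.mk_inv]
    simp
  have hdisj : O ⊓ Subgroup.zpowers y = ⊥ :=
    (Subgroup.disjoint_of_coprime_natCard hcop.symm).eq_bot  -- may need adjusting
  have h6 : y ^ i * y = 1 := by
    have : y ^ i * y ∈ O ⊓ Subgroup.zpowers y :=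
      Subgroup.mem_inf.2 ⟨h5, Subgroup.mul_mem _ (Subgroup.zpow_mem _ (Subgroup.mem_zpowers y) i)
        (Subgroup.mem_zpowers y)⟩
    rw [hdisj] at this
    exact Subgroup.mem_bot.1 this
  have h7 : (n⁻¹ * t) * y * (n⁻¹ * t)⁻¹ = y⁻¹ := by
    rw [← hi]; exact eq_inv_of_mul_eq_one_left h6
  have := hG _ y hyodd h7
  rw [this]; rfl

theorem result {G : Type*} [Group G] [Finite G]
    (hhom : ∀ H : Subgroup G, H ≠ ⊥ → ¬ 2 ∣ Nat.card ↥H →
        ¬ 2 ∣ (Subgroup.centralizer (H : Set G)).relIndex (Subgroup.normalizer (H : Set G))) (P : Sylow 2 G) :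
    (P : Subgroup G).Normal := by
  apply sylow2_normal_of_noInv
  intro O _ hO
  exact noInv_quotient (noInv_of_hyp hhom) O hO

end Cfsg.Agent.S4049
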