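import Cfsg.Statements.S4056
import Cfsg.Agent.S0841
import Cfsg.Agent.Helper20.FrattiniElem

set_option autoImplicit false
open Cfsg

namespace Cfsg.Agent.S4056

open Cfsg.Agent.Helper20
open scoped commutatorElement

theorem result {P : Type*} [Group P] [Finite P] (hP : IsPGroup 2 P)
    (hcl : Group.nilpotencyClass P ≤ 2) (hexp : Monoid.exponent P ∣ 4) :
    frattini P ≤ Subgroup.center P ∧ Cfsg.IsElementaryAbelian 2 (frattini P) := by
  haveI : Fact (Nat.Prime 2) := ⟨Nat.prime_two⟩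
  haveI : Group.IsNilpotent P := hP.isNilpotent
  have hlcs : (⊤ : Subgroup P).lowerCentralSeries 2 = ⊥ :=
    Subgroup.lowerCentralSeries_eq_bot_iff_nilpotencyClass_le.2 hcl
  -- commutators are central
  have hcomm_central : ∀ a b g : P, g * ⁅a, b⁆ = ⁅a, b⁆ * g := by
    intro a b g
    have h1 : ⁅a, b⁆ ∈ (⊤ : Subgroup P).lowerCentralSeries 1 := by
      show ⁅a, b⁆ ∈ ⁅(⊤ : Subgroup P).lowerCentralSeries 0, (⊤ : Subgroup P)⁆
      exact Subgroup.commutator_mem_commutator (Subgroup.mem_top a) (Subgroup.mem_top b)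
    have h2 : ⁅⁅a, b⁆, g⁆ ∈ (⊤ : Subgroup P).lowerCentralSeries 2 := by
      show ⁅⁅a, b⁆, g⁆ ∈ ⁅(⊤ : Subgroup P).lowerCentralSeries 1, (⊤ : Subgroup P)⁆
      exact Subgroup.commutator_mem_commutator h1 (Subgroup.mem_top g)
    rw [hlcs, Subgroup.mem_bot, commutatorElement_eq_one_iff_mul_comm] at h2
    exact h2.symm
  have hcc : commutator P ≤ Subgroup.center P := by
    rw [commutator_eq_closure, Subgroup.closure_le]
    rintro _ ⟨a, b, rfl⟩
    rw [SetLike.mem_coe, Subgroup.mem_center_iff]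
    intro g; exact hcomm_central a b g
  have h4 : ∀ x : P, x ^ 4 = 1 := fun x =>
    (Monoid.exponent_dvd_iff_forall_pow_eq_one.1 hexp) x
  -- commutators have order ≤ 2
  have hc2 : ∀ a b : P, ⁅a, b⁆ ^ 2 = 1 := by
    intro a b
    have h := Cfsg.Agent.S0841.result hcc b⁻¹ a⁻¹ 4
    rw [h4, h4, h4, one_mul, one_mul] at h
    have e : a⁻¹⁻¹ * b⁻¹⁻¹ * a⁻¹ * b⁻¹ = ⁅a, b⁆ := by
      rw [commutatorElement_def]; group
    rw [e] at h
    norm_num at h
    have h6 : ⁅a, b⁆ ^ 6 = 1 := h.symm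
    calc ⁅a, b⁆ ^ 2 = ⁅a, b⁆ ^ 6 * (⁅a, b⁆ ^ 4)⁻¹ := by
          rw [show (6 : ℕ) = 2 + 4 from rfl, pow_add]; group
      _ = 1 := by rw [h6, h4]; simp
  -- squares are central
  have hsq_central : ∀ a g : P, g * a ^ 2 = a ^ 2 * g := by
    intro a g
    have h1 : ⁅a ^ 2, g⁆ = ⁅a, g⁆ ^ 2 := by
      rw [pow_two, commutatorElement_def, commutatorElement_def]
      have c := hcomm_central a g
      have e : a * a * g * (a * a)⁻¹ * g⁻¹ = a * (a * g * a⁻¹ * g⁻¹) * g * a⁻¹ * g⁻¹ := by group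
      rw [e]
      have c' := c a
      rw [commutatorElement_def] at c'
      rw [c', pow_two]; group
    rw [hc2, commutatorElement_eq_one_iff_mul_comm] at h1
    exact h1.symm
  -- the subgroup of central elements of order ≤ 2
  let K : Subgroup P :=
    { carrier := {x | x ∈ Subgroup.center P ∧ x ^ 2 = 1}
      one_mem' := ⟨Subgroup.one_mem _, one_pow 2⟩
      mul_mem' := by
        rintro x y ⟨hx, hx2⟩ ⟨hy, hy2⟩
        refine ⟨Subgroup.mul_mem _ hx hy, ?_⟩
        have c : Commute x y := (Subgroup.mem_center_iff.1 hx y).symm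
        rw [c.mul_pow, hx2, hy2, one_mul]
      inv_mem' := by
        rintro x ⟨hx, hx2⟩
        exact ⟨Subgroup.inv_mem _ hx, by rw [inv_pow, hx2, inv_one]⟩ }
  have hK : frattini P ≤ K := by
    apply frattini_le_of_elemAb' 2 K
    · intro a b
      exact ⟨Subgroup.mem_center_iff.2 (fun g => hcomm_central a b g), hc2 a b⟩
    · intro a
      refine ⟨Subgroup.mem_center_iff.2 (fun g => hsq_central a g), ?_⟩
      rw [← pow_mul]; exact h4 a
  refine ⟨fun x hx => (hK hx).1, ⟨⟨fun a b => ?_⟩⟩, fun a ha => (hK ha).2⟩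
  apply Subtype.ext
  exact (Subgroup.mem_center_iff.1 (hK a.2).1 b).symm

end Cfsg.Agent.S4056
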