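import Cfsg.Statements.S4058
import Mathlib
import Cfsg.Agent.Helper1.PGroup
import Cfsg.Agent.Helper20.InvolCountC

set_option autoImplicit false
open Cfsg
open scoped commutatorElement

namespace Cfsg.Agent.S4058

/-- Let G be a finite 2-group with #(G/Φ(G)) ≥ 2^(2k+1). Then the number of elements x of G with x² = 1 is divisible by 2^(k+1). -/
theorem result {G : Type*} [Group G] [Finite G] (hG : IsPGroup 2 G) (k : ℕ)
    (hgen : 2 ^ (2 * k + 1) ≤ Nat.card (G ⧸ frattini G)) :
    2 ^ (k + 1) ∣ Nat.card {x : G // x ^ 2 = 1} := by
  classical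
  haveI : Fact (Nat.Prime 2) := ⟨Nat.prime_two⟩
  haveI : Fintype G := Fintype.ofFinite G
  have hsq : ∀ x : G, x ^ 2 ∈ frattini G := by
    intro x
    unfold frattini Order.radical
    rw [Subgroup.mem_iInf]
    intro M
    rw [Subgroup.mem_iInf]
    intro hM
    exact Cfsg.Agent.Helper1.IsPGroup.pow_mem_coatom hG hM x
  have hcomm : commutator G ≤ frattini G := by
    unfold frattini Order.radical
    refine le_iInf fun M => le_iInf fun hM => ?_
    exact Cfsg.Agent.Helper1.IsPGroup.commutator_le_coatom hG hM
  have hexp : ∀ q : G ⧸ frattini G, q * q = 1 := by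
    intro q
    induction q using QuotientGroup.induction_on with
    | H x =>
      rw [← QuotientGroup.mk_mul, QuotientGroup.eq_one_iff, ← sq]
      exact hsq x
  have hQc : ∀ a b : G ⧸ frattini G, a * b = b * a := by
    intro a b
    induction a using QuotientGroup.induction_on with
    | H a =>
      induction b using QuotientGroup.induction_on with
      | H b =>
        rw [← QuotientGroup.mk_mul, ← QuotientGroup.mk_mul, QuotientGroup.eq]
        apply hcomm
        have : (a * b)⁻¹ * (b * a) = ⁅b⁻¹, a⁻¹⁆ := by
          rw [commutatorElement_def]; group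
        rw [this, commutator_def]
        exact Subgroup.commutator_mem_commutator (Subgroup.mem_top _) (Subgroup.mem_top _)
  have key := Cfsg.Agent.Helper20.two_pow_dvd_card_mul_self_eq_one (frattini G) hG hQc hexp k hgen
  have hc : Nat.card {x : G // x ^ 2 = 1} = Nat.card {s : G // s * s = 1} := by
    apply Nat.card_congr
    apply Equiv.subtypeEquivRight
    intro x
    rw [sq]
  rw [hc]
  exact key

end Cfsg.Agent.S4058
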