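import Cfsg.Statements.S4059
import Cfsg.Agent.Helper20.Basic
import Cfsg.Agent.Helper20.Sylow
import Cfsg.Agent.Helper20.Misc

set_option autoImplicit false
open Cfsg

namespace Cfsg.Agent.S4059

open Helper20
open scoped commutatorElement

theorem result {G : Type*} [Group G] [Finite G] (hamb : ∀ x : G, IsConj x x⁻¹) :
    (∀ (S : Sylow 2 G) (x : G), x ∈ Subgroup.centralizer ((S : Subgroup G) : Set G) → x ≠ 1 → orderOf x = 2) ∧
    (∀ z : G, z ∈ Subgroup.center G → z ^ 2 = 1) ∧
    (∀ x : G, x ^ 2 ∈ commutator G) ∧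
    Subgroup.closure {x : G | ∃ k : ℕ, orderOf x = 2 ^ k} = ⊤ := by
  refine ⟨?_, ?_, ?_, ?_⟩
  · intro S x hx hx1
    -- class size of x is odd
    have hle : (S : Subgroup G) ≤ Subgroup.centralizer ({x} : Set G) := by
      intro s hs
      rw [Subgroup.mem_centralizer_iff] at hx ⊢
      intro y hy
      rw [Set.mem_singleton_iff] at hy
      subst hy
      exact (hx s hs).symm
    have hodd : Odd (Subgroup.centralizer ({x} : Set G)).index := by
      have h1 : (Subgroup.centralizer ({x} : Set G)).index ∣ (S : Subgroup G).index :=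
        Subgroup.index_dvd_of_le hle
      have h2 : ¬ 2 ∣ (S : Subgroup G).index := S.not_dvd_index
      rw [← Nat.not_even_iff_odd, even_iff_two_dvd]
      exact fun h => h2 (dvd_trans h h1)
    rw [← ncard_setOf_isConj, ← Nat.card_coe_set_eq] at hodd
    -- inversion acts on the class
    have hinvmem : ∀ h : G, IsConj x h → IsConj x h⁻¹ := by
      intro h hh
      obtain ⟨g, rfl⟩ := isConj_iff.1 hh
      obtain ⟨k, hk⟩ := isConj_iff.1 (hamb x)
      rw [isConj_iff]
      refine ⟨g * k, ?_⟩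
      calc g * k * x * (g * k)⁻¹ = g * (k * x * k⁻¹) * g⁻¹ := by group
        _ = (g * x * g⁻¹)⁻¹ := by rw [hk]; group
    let f : {h : G | IsConj x h} → {h : G | IsConj x h} := fun h =>
      ⟨(h : G)⁻¹, hinvmem h h.2⟩
    have hf : Function.Involutive f := by
      intro h
      apply Subtype.ext
      simp [f]
    obtain ⟨⟨h, hh⟩, hfix⟩ := exists_fixed_of_involutive_of_odd f hf hodd
    have hfix' : h⁻¹ = h := congrArg Subtype.val hfix
    obtain ⟨g, hg⟩ := isConj_iff.1 hh
    have hxx : x⁻¹ = x := by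
      have : (g * x * g⁻¹)⁻¹ = g * x * g⁻¹ := by rw [hg]; exact hfix'
      have h3 : g * x⁻¹ * g⁻¹ = g * x * g⁻¹ := by rw [← this]; group
      have h4 := mul_right_cancel h3
      exact mul_left_cancel h4
    apply orderOf_eq_prime
    · rw [pow_two]; nth_rw 1 [← hxx]; exact inv_mul_cancel x
    · exact hx1
  · intro z hz
    obtain ⟨g, hg⟩ := isConj_iff.1 (hamb z)
    rw [Subgroup.mem_center_iff] at hz
    have : z = z⁻¹ := by
      rw [← hg, hz g]; group
    rw [pow_two]; nth_rw 2 [this]; exact mul_inv_cancel z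
  · intro x
    obtain ⟨g, hg⟩ := isConj_iff.1 (hamb x)
    have : x ^ 2 = ⁅x, g⁆ := by
      rw [commutatorElement_def, pow_two]
      have : g * x⁻¹ * g⁻¹ = x := by
        calc g * x⁻¹ * g⁻¹ = (g * x * g⁻¹)⁻¹ := by group
          _ = x := by rw [hg, inv_inv]
      calc x * x = x * (g * x⁻¹ * g⁻¹) := by rw [this]
        _ = x * g * x⁻¹ * g⁻¹ := by group
    rw [this]
    exact Subgroup.commutator_mem_commutator (Subgroup.mem_top _) (Subgroup.mem_top _)
  · set T := Subgroup.closure {x : G | ∃ k : ℕ, orderOf x = 2 ^ k} with hT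
    haveI hTn : T.Normal := by
      apply closure_normal_of_forall_conj_mem_set
      rintro g x ⟨k, hk⟩
      refine ⟨k, ?_⟩
      rw [← hk, ← MulAut.conj_apply]
      exact MulEquiv.orderOf_eq (MulAut.conj g) x
    -- index of T is odd
    obtain ⟨S⟩ : Nonempty (Sylow 2 G) := inferInstance
    have hST : (S : Subgroup G) ≤ T := by
      intro s hs
      apply Subgroup.subset_closure
      exact orderOf_eq_pow_of_mem_pgroup _ S.2 s hs
    have hodd : Odd (Nat.card (G ⧸ T)) := by
      have h1 : T.index ∣ (S : Subgroup G).index := Subgroup.index_dvd_of_le hST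
      have h2 : ¬ 2 ∣ (S : Subgroup G).index := S.not_dvd_index
      rw [← Subgroup.index_eq_card, ← Nat.not_even_iff_odd, even_iff_two_dvd]
      exact fun h => h2 (dvd_trans h h1)
    rw [eq_top_iff]
    intro g _
    obtain ⟨h, hh⟩ := isConj_iff.1 (hamb g)
    rw [← QuotientGroup.eq_one_iff]
    apply eq_one_of_conj_inv_of_odd hodd (g : G ⧸ T) (h : G ⧸ T)
    rw [← QuotientGroup.mk_inv, ← QuotientGroup.mk_mul, ← QuotientGroup.mk_mul, hh]
    rfl

end Cfsg.Agent.S4059
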