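import Cfsg.Statements.S4060
import Cfsg.Agent.S0005
import Cfsg.Agent.Helper20.Misc
import Cfsg.Agent.Helper20.Sylow

set_option autoImplicit false
open Cfsg

namespace Cfsg.Agent.S4060

open Cfsg.Agent.Helper20

theorem result {G : Type*} [Group G] [Finite G] [Group.IsSolvable G]
    (S : Sylow 2 G) (x : G) (hx : x ≠ 1) (hodd : Odd (orderOf x))
    (hnorm : x ∈ Subgroup.normalizer ((S : Subgroup G) : Set G)) : ¬ IsConj x x⁻¹ := by
  haveI : Fact (Nat.Prime 2) := ⟨Nat.prime_two⟩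
  intro hconj
  obtain ⟨g, hg⟩ := isConj_iff.1 hconj
  -- Hall 2'-subgroup containing x
  obtain ⟨k, hk⟩ := IsPGroup.iff_card.1 S.2
  have hcardG : Nat.card G = (S : Subgroup G).index * 2 ^ k := by
    rw [← hk, mul_comm]; exact (Subgroup.card_mul_index _).symm
  have hidx : ((S : Subgroup G).index).Coprime (2 ^ k) := by
    apply Nat.Coprime.pow_right
    rw [Nat.coprime_comm, Nat.Prime.coprime_iff_not_dvd Nat.prime_two]
    exact S.not_dvd_index
  have hxcop : (Nat.card (Subgroup.zpowers x)).Coprime (2 ^ k) := by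
    rw [Nat.card_zpowers]
    exact Nat.Coprime.pow_right _ (Nat.coprime_comm.1 (Nat.coprime_two_left.2 hodd))
  obtain ⟨H, hHcard, hxH⟩ := Cfsg.Agent.S0005.result _ _ hcardG hidx (Subgroup.zpowers x) hxcop
  have hxH' : x ∈ H := hxH (Subgroup.mem_zpowers x)
  have hHodd : Odd (Nat.card H) := by
    rw [hHcard]
    rw [← Nat.coprime_two_left]
    have := hidx.symm
    rcases Nat.eq_zero_or_pos k with rfl | hk0
    · -- S trivial: then index = |G|; need oddness: G has odd order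
      rw [Nat.coprime_two_left]
      rw [pow_zero] at hk
      by_contra hcon
      rw [Nat.not_odd_iff_even] at hcon
      have h2 : 2 ∣ Nat.card G := by
        rw [hcardG]; exact Dvd.dvd.mul_right hcon.two_dvd _
      have := S.card_eq_multiplicity
      rw [hk] at this
      have hpos : 0 < (Nat.card G).factorization 2 :=
        Nat.Prime.factorization_pos_of_dvd Nat.prime_two Nat.card_pos.ne' h2
      have : 2 ^ (Nat.card G).factorization 2 = 1 := this.symm
      have := Nat.pow_eq_one.1 this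
      omega
    · exact Nat.Coprime.coprime_dvd_left (dvd_pow_self 2 hk0.ne') this
  have hcompl : Subgroup.IsComplement' H (S : Subgroup G) := by
    apply Subgroup.isComplement'_of_coprime
    · rw [hHcard, hk, hcardG]
    · rw [hHcard, hk]; exact hidx
  obtain ⟨⟨⟨h, hh⟩, ⟨s, hs⟩⟩, hhs, -⟩ := Subgroup.isComplement_iff_existsUnique.1 hcompl g
  have hhs' : h * s = g := hhs
  -- s x s⁻¹ x⁻¹ ∈ H ⊓ S
  have h1 : s * x * s⁻¹ = h⁻¹ * x⁻¹ * h := by
    rw [← hg, ← hhs']; group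
  have h2 : s * x * s⁻¹ * x⁻¹ ∈ H := by
    rw [h1]
    exact H.mul_mem (H.mul_mem (H.mul_mem (H.inv_mem hh) (H.inv_mem hxH')) hh) (H.inv_mem hxH')
  have h3 : s * x * s⁻¹ * x⁻¹ ∈ (S : Subgroup G) := by
    have : x * s⁻¹ * x⁻¹ ∈ (S : Subgroup G) :=
      (Subgroup.mem_normalizer_iff.1 hnorm s⁻¹).1 ((S : Subgroup G).inv_mem hs)
    have e : s * x * s⁻¹ * x⁻¹ = s * (x * s⁻¹ * x⁻¹) := by group
    rw [e]; exact (S : Subgroup G).mul_mem hs this
  have hdisj : H ⊓ (S : Subgroup G) = ⊥ := hcompl.disjoint.eq_bot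
  have h4 : s * x * s⁻¹ * x⁻¹ = 1 := by
    have : s * x * s⁻¹ * x⁻¹ ∈ H ⊓ (S : Subgroup G) := Subgroup.mem_inf.2 ⟨h2, h3⟩
    rw [hdisj] at this
    exact Subgroup.mem_bot.1 this
  have h5 : s * x * s⁻¹ = x := by
    calc s * x * s⁻¹ = (s * x * s⁻¹ * x⁻¹) * x := by group
      _ = x := by rw [h4, one_mul]
  have h6 : h * x * h⁻¹ = x⁻¹ := by
    rw [← hg, ← hhs']
    calc h * x * h⁻¹ = h * (s * x * s⁻¹) * h⁻¹ := by rw [h5]
      _ = h * s * x * (h * s)⁻¹ := by group
  have h7 := eq_one_of_conj_inv_of_odd (Q := H) hHodd ⟨x, hxH'⟩ ⟨h, hh⟩ (Subtype.ext (by simpa using h6))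
  exact hx (by simpa using congrArg Subtype.val h7)

end Cfsg.Agent.S4060
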