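import Cfsg.Statements.S4062
-- import your own Cfsg.Agent.* helpers here
import Mathlib
import Cfsg.Agent.Helper16.OrderConj4

set_option autoImplicit false
open Cfsg

namespace Cfsg.Agent.S4062

/-- A finite solvable group in which any two elements of the same order are conjugate has order 1 or 2 or is isomorphic to the symmetric group of degree 3. -/
theorem result {G : Type*} [Group G] [Finite G] [Group.IsSolvable G]
    (h : ∀ x y : G, orderOf x = orderOf y → IsConj x y) :
    Nat.card G = 1 ∨ Nat.card G = 2 ∨ Nonempty (G ≃* Equiv.Perm (Fin 3)) := by
  exact Cfsg.Agent.Helper16.OrderConj.main_theorem h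

end Cfsg.Agent.S4062
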