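import Cfsg.Statements.S4066
import Mathlib

set_option autoImplicit false
open Cfsg

namespace Cfsg.Agent.S4066

open scoped Pointwise

lemma mem_conj_smul {G : Type*} [Group G] (g x : G) (H : Subgroup G) :
    x ∈ MulAut.conj g • H ↔ g⁻¹ * x * g ∈ H := by
  rw [Subgroup.mem_smul_pointwise_iff_exists]
  constructor
  · rintro ⟨s, hs, rfl⟩
    simpa [MulAut.smul_def, mul_assoc] using hs
  · intro h
    exact ⟨_, h, by simp [MulAut.smul_def, mul_assoc]⟩

lemma mem_centralizer_singleton {G : Type*} [Group G] (x c : G) :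
    c ∈ Subgroup.centralizer ({x} : Set G) ↔ x * c = c * x := by
  rw [Subgroup.mem_centralizer_iff]
  constructor
  · intro h; exact h x rfl
  · intro h z hz
    rw [Set.mem_singleton_iff] at hz
    subst hz; exact h

/-- the key step: a `p`-subgroup generated by pairwise commuting conjugates -/
lemma mem_of_conj_commute {G : Type*} [Group G] [Finite G] {p : ℕ} [Fact p.Prime] (Q : Sylow p G)
    (L : Subgroup G) (hQL : (Q : Subgroup G) ≤ L) (y : G) (k : ℕ) (hy : y ^ (p ^ k) = 1)
    (hcomm : ∀ l ∈ L, y * (l * y * l⁻¹) = (l * y * l⁻¹) * y) : y ∈ (Q : Subgroup G) := by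
  obtain ⟨S, hS⟩ : ∃ S : Set G, S = {w | ∃ l ∈ L, w = l * y * l⁻¹} := ⟨_, rfl⟩
  have hSc : ∀ a ∈ S, ∀ b ∈ S, a * b = b * a := by
    rw [hS]
    rintro _ ⟨l₁, hl₁, rfl⟩ _ ⟨l₂, hl₂, rfl⟩
    have h := hcomm (l₁⁻¹ * l₂) (L.mul_mem (L.inv_mem hl₁) hl₂)
    calc l₁ * y * l₁⁻¹ * (l₂ * y * l₂⁻¹)
        = l₁ * (y * ((l₁⁻¹ * l₂) * y * (l₁⁻¹ * l₂)⁻¹)) * l₁⁻¹ := by group
      _ = l₁ * (((l₁⁻¹ * l₂) * y * (l₁⁻¹ * l₂)⁻¹) * y) * l₁⁻¹ := by rw [h]
      _ = l₂ * y * l₂⁻¹ * (l₁ * y * l₁⁻¹) := by group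
  have hS1 : Subgroup.closure S ≤ Subgroup.centralizer S := by
    rw [Subgroup.closure_le]
    intro a ha
    rw [SetLike.mem_coe, Subgroup.mem_centralizer_iff]
    intro b hb
    exact hSc b hb a ha
  have hYc : ∀ a ∈ Subgroup.closure S, ∀ b ∈ Subgroup.closure S, a * b = b * a := by
    intro a ha b hb
    have h1 := Subgroup.closure_le_centralizer_centralizer S ha
    rw [Subgroup.mem_centralizer_iff] at h1
    exact (h1 b (hS1 hb)).symm
  have hYp : ∀ w ∈ Subgroup.closure S, ∃ j : ℕ, w ^ (p ^ j) = 1 := by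
    intro w hw
    induction hw using Subgroup.closure_induction with
    | mem w hw =>
      rw [hS] at hw
      obtain ⟨l, _, rfl⟩ := hw
      exact ⟨k, by rw [conj_pow, hy]; group⟩
    | one => exact ⟨0, one_pow _⟩
    | mul a b ha hb iha ihb =>
      obtain ⟨j₁, h₁⟩ := iha
      obtain ⟨j₂, h₂⟩ := ihb
      refine ⟨j₁ + j₂, ?_⟩
      have c : Commute a b := hYc a ha b hb
      rw [c.mul_pow, pow_add, pow_mul, h₁, one_pow, mul_comm (p ^ j₁), pow_mul, h₂, one_pow, one_mul]
    | inv a _ iha =>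
      obtain ⟨j, hj⟩ := iha
      exact ⟨j, by rw [inv_pow, hj, inv_one]⟩
  have hYpg : IsPGroup p (Subgroup.closure S) := by
    intro w
    obtain ⟨j, hj⟩ := hYp w.1 w.2
    exact ⟨j, Subtype.ext (by simpa using hj)⟩
  have hconj : ∀ l ∈ L, ∀ w ∈ Subgroup.closure S, l * w * l⁻¹ ∈ Subgroup.closure S := by
    intro l hl w hw
    induction hw using Subgroup.closure_induction with
    | mem w hw =>
      rw [hS] at hw
      obtain ⟨l', hl', rfl⟩ := hw
      apply Subgroup.subset_closure
      rw [hS]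
      exact ⟨l * l', L.mul_mem hl hl', by group⟩
    | one => simp
    | mul a b _ _ iha ihb =>
      have : l * (a * b) * l⁻¹ = (l * a * l⁻¹) * (l * b * l⁻¹) := by group
      rw [this]; exact Subgroup.mul_mem _ iha ihb
    | inv a _ iha =>
      have : l * a⁻¹ * l⁻¹ = (l * a * l⁻¹)⁻¹ := by group
      rw [this]; exact Subgroup.inv_mem _ iha
  have hQN : (Q : Subgroup G) ≤ Subgroup.normalizer ((Subgroup.closure S : Subgroup G) : Set G) := by
    intro h hh
    rw [Subgroup.mem_normalizer_iff]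
    intro w
    constructor
    · intro hw; exact hconj h (hQL hh) w hw
    · intro hw
      have := hconj h⁻¹ (L.inv_mem (hQL hh)) _ hw
      have e : h⁻¹ * (h * w * h⁻¹) * h⁻¹⁻¹ = w := by group
      rwa [e] at this
  have hsup := IsPGroup.to_sup_of_normal_left' hYpg Q.2 hQN
  have hmax := Q.is_maximal' hsup le_sup_right
  have : y ∈ Subgroup.closure S ⊔ (Q : Subgroup G) := by
    apply Subgroup.mem_sup_left
    apply Subgroup.subset_closure
    rw [hS]
    exact ⟨1, L.one_mem, by group⟩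
  rw [hmax] at this
  exact this

theorem result {G : Type*} [Group G] [Finite G] (hTI : ∀ x : G, Cfsg.IsTISubset (Subgroup.centralizer ({x} : Set G) : Set G))
    {p : ℕ} [Fact p.Prime] (P Q : Sylow p G) (hPQ : P ≠ Q) : (P : Subgroup G) ⊓ (Q : Subgroup G) = ⊥ := by
  by_contra hne
  obtain ⟨⟨x, hx⟩, hx1⟩ := (Subgroup.ne_bot_iff_exists_ne_one).1 hne
  have hx1' : x ≠ 1 := fun h => hx1 (Subtype.ext h)
  obtain ⟨hxP, hxQ⟩ := Subgroup.mem_inf.1 hx
  apply hPQ
  -- a nontrivial central element of P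
  haveI : Nontrivial (P : Subgroup G) := ⟨⟨⟨x, hxP⟩, 1, fun h => hx1' (congrArg Subtype.val h)⟩⟩
  haveI : Nontrivial (Subgroup.center (P : Subgroup G)) := IsPGroup.center_nontrivial P.2
  obtain ⟨⟨⟨z, hzP⟩, hzc⟩, hz1⟩ := exists_ne (1 : Subgroup.center (P : Subgroup G))
  have hz1' : z ≠ 1 := by
    intro h
    apply hz1
    apply Subtype.ext
    apply Subtype.ext
    exact h
  have hzcomm : ∀ u ∈ (P : Subgroup G), u * z = z * u := by
    intro u hu
    have := Subgroup.mem_center_iff.1 hzc ⟨u, hu⟩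
    exact congrArg Subtype.val this
  -- Q = g • P
  obtain ⟨g, hg⟩ := MulAction.exists_smul_eq G P Q
  have hQmem : ∀ h : G, h ∈ (Q : Subgroup G) ↔ g⁻¹ * h * g ∈ (P : Subgroup G) := by
    intro h
    rw [← hg, Sylow.smul_def, Sylow.pointwise_smul_def, mem_conj_smul]
  -- g normalizes C_G(z)
  have hgN : g ∈ Subgroup.normalizer ((Subgroup.centralizer ({z} : Set G) : Subgroup G) : Set G) := by
    by_contra hcon
    have hx' : g⁻¹ * x * g ∈ (P : Subgroup G) := (hQmem x).1 hxQ
    have h1 : g⁻¹ * x * g ∈ ((Subgroup.centralizer ({z} : Set G) : Subgroup G) : Set G) := by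
      rw [SetLike.mem_coe, mem_centralizer_singleton]
      exact (hzcomm _ hx').symm
    have h2 : g * (g⁻¹ * x * g) * g⁻¹ ∈ ((Subgroup.centralizer ({z} : Set G) : Subgroup G) : Set G) := by
      have e : g * (g⁻¹ * x * g) * g⁻¹ = x := by group
      rw [e, SetLike.mem_coe, mem_centralizer_singleton]
      exact (hzcomm _ hxP).symm
    have := hTI z g hcon _ h1 h2
    apply hx1'
    have e : x = g * (g⁻¹ * x * g) * g⁻¹ := by group
    rw [e, this]; group
  -- Q centralizes z
  have hQz : ∀ h ∈ (Q : Subgroup G), h * z = z * h := by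
    intro h hh
    have h1 : g⁻¹ * h * g ∈ Subgroup.centralizer ({z} : Set G) := by
      rw [mem_centralizer_singleton]
      exact (hzcomm _ ((hQmem h).1 hh)).symm
    have h2 := (Subgroup.mem_normalizer_iff.1 hgN _).1 h1
    have e : g * (g⁻¹ * h * g) * g⁻¹ = h := by group
    rw [e, mem_centralizer_singleton] at h2
    exact h2.symm
  -- every element of P lies in Q
  have hPQle : (P : Subgroup G) ≤ (Q : Subgroup G) := by
    intro y hyP
    by_cases hy1 : y = 1
    · rw [hy1]; exact Subgroup.one_mem _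
    obtain ⟨k, hk⟩ := P.2 ⟨y, hyP⟩
    have hk' : y ^ (p ^ k) = 1 := by
      have := congrArg Subtype.val hk
      simpa using this
    apply mem_of_conj_commute Q ((P : Subgroup G) ⊔ (Q : Subgroup G)) le_sup_right y k hk'
    -- P ⊔ Q normalizes C_G(y)
    have hLN : (P : Subgroup G) ⊔ (Q : Subgroup G) ≤
        Subgroup.normalizer ((Subgroup.centralizer ({y} : Set G) : Subgroup G) : Set G) := by
      have hzy : z ∈ ((Subgroup.centralizer ({y} : Set G) : Subgroup G) : Set G) := by
        rw [SetLike.mem_coe, mem_centralizer_singleton]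
        exact hzcomm y hyP
      have hkey : ∀ l : G, l * z = z * l →
          l ∈ Subgroup.normalizer ((Subgroup.centralizer ({y} : Set G) : Subgroup G) : Set G) := by
        intro l hl
        by_contra hcon
        have h2 : l * z * l⁻¹ ∈ ((Subgroup.centralizer ({y} : Set G) : Subgroup G) : Set G) := by
          have e : l * z * l⁻¹ = z := by rw [hl]; group
          rw [e]; exact hzy
        exact hz1' (hTI y l hcon z hzy h2)
      apply sup_le
      · intro l hl; exact hkey l (hzcomm l hl)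
      · intro l hl; exact hkey l (hQz l hl)
    intro l hl
    have h1 : y ∈ Subgroup.centralizer ({y} : Set G) := by
      rw [mem_centralizer_singleton]
    have h2 := (Subgroup.mem_normalizer_iff.1 (hLN hl) y).1 h1
    rw [mem_centralizer_singleton] at h2
    exact h2
  have h4 : (P : Subgroup G) = (Q : Subgroup G) := (P.is_maximal' Q.2 hPQle).symm
  exact Sylow.ext h4

end Cfsg.Agent.S4066
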