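import Cfsg.Statements.S4067
import Cfsg.Agent.Helper13.AutOrbC
import Cfsg.Agent.Helper13.AutOrbF

set_option autoImplicit false
open Cfsg

namespace Cfsg.Agent.S4067

open Cfsg.Agent.Helper13.AutOrb in
/-- Let G be a finite non-abelian group and p the least prime dividing its order. Then the automorphism group of G has at most #G/p orbits on G. -/
theorem result {G : Type*} [Group G] [Finite G] (hna : ¬ IsMulCommutative G) :
    Nat.card (MulAction.orbitRel.Quotient (MulAut G) G) ≤ Nat.card G / (Nat.card G).minFac := by
  by_cases hcard : Nat.card (commutator G) = (Nat.card G).minFac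
  · exact caseB hna hcard
  · have hn1 : Nat.card G ≠ 1 := not_comm_group_card_ne_one hna
    have hpprime : (Nat.card G).minFac.Prime := Nat.minFac_prime hn1
    have h1 : Nat.card (commutator G) ≠ 1 := by
      intro h
      rw [Subgroup.card_eq_one, commutator_eq_bot_iff_center_eq_top] at h
      exact center_ne_top_of_not_comm hna h
    have hk := minFac_mul_card_conjClasses_le h1 hcard
    rw [Nat.le_div_iff_mul_le hpprime.pos]
    -- surjection from conjugacy classes onto orbits
    have hsurj : Nat.card (MulAction.orbitRel.Quotient (MulAut G) G) ≤ Nat.card (ConjClasses G) := by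
      let f : ConjClasses G → MulAction.orbitRel.Quotient (MulAut G) G :=
        Quotient.lift (fun x : G => (Quotient.mk'' x : MulAction.orbitRel.Quotient (MulAut G) G))
          (by
            intro x y hxy
            apply Quotient.sound'
            obtain ⟨g, hg⟩ := isConj_iff.mp hxy
            rw [MulAction.orbitRel_apply]
            refine ⟨(MulAut.conj g)⁻¹, ?_⟩
            subst hg
            show (MulAut.conj g)⁻¹ (g * x * g⁻¹) = x
            rw [MulAut.conj_inv_apply]
            group)
      apply Nat.card_le_card_of_surjective f
      intro q
      induction q using Quotient.inductionOn' with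
      | h x => exact ⟨ConjClasses.mk x, rfl⟩
    calc Nat.card (MulAction.orbitRel.Quotient (MulAut G) G) * (Nat.card G).minFac
        ≤ Nat.card (ConjClasses G) * (Nat.card G).minFac := Nat.mul_le_mul_right _ hsurj
      _ = (Nat.card G).minFac * Nat.card (ConjClasses G) := mul_comm _ _
      _ ≤ Nat.card G := hk

end Cfsg.Agent.S4067
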