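import Cfsg.Statements.S4074

set_option autoImplicit false
open Cfsg

namespace Cfsg.Agent.S4074

open DihedralGroup

/-- the parity hom for even `n` -/
noncomputable def parity {n : ℕ} (h : 2 ∣ n) : DihedralGroup n →* Multiplicative (ZMod 2) :=
  MonoidHom.mk' (fun g => match g with
    | r i => Multiplicative.ofAdd (ZMod.castHom h (ZMod 2) i)
    | sr i => Multiplicative.ofAdd (ZMod.castHom h (ZMod 2) i)) (by
    rintro (i | i) (j | j)
    · simp only [r_mul_r, map_add, ofAdd_add]
    · simp only [r_mul_sr, map_sub, ← ofAdd_add]
      congr 1
      rw [CharTwo.sub_eq_add, add_comm]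
    · simp only [sr_mul_r, map_add, ofAdd_add]
    · simp only [sr_mul_sr, map_sub, ← ofAdd_add]
      congr 1
      rw [CharTwo.sub_eq_add, add_comm])

theorem parity_r {n : ℕ} (h : 2 ∣ n) (i : ZMod n) :
    parity h (r i) = Multiplicative.ofAdd (ZMod.castHom h (ZMod 2) i) := rfl

theorem parity_sr {n : ℕ} (h : 2 ∣ n) (i : ZMod n) :
    parity h (sr i) = Multiplicative.ofAdd (ZMod.castHom h (ZMod 2) i) := rfl

theorem result (n : ℕ) (hn : 2 < n) :
    (∀ H : Subgroup (DihedralGroup n), ¬ IsMulCommutative H → Subgroup.normalizer (H : Set (DihedralGroup n)) = H) ↔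
    (n = 4 ∨ Odd n) := by
  haveI : NeZero n := ⟨by omega⟩
  constructor
  · intro hall
    by_contra hcon
    push Not at hcon
    obtain ⟨hn4, hodd⟩ := hcon
    have heven : Even n := Nat.not_odd_iff_even.1 hodd
    have h2 : 2 ∣ n := even_iff_two_dvd.1 heven
    have hn6 : 6 ≤ n := by
      obtain ⟨k, hk⟩ := heven
      omega
    set H : Subgroup (DihedralGroup n) := (parity h2).ker with hH
    have hr2 : (r 2 : DihedralGroup n) ∈ H := by
      rw [hH, MonoidHom.mem_ker, parity_r]
      have : (ZMod.castHom h2 (ZMod 2)) (2 : ZMod n) = 0 := by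
        rw [map_ofNat]
        exact CharTwo.two_eq_zero
      rw [this]; rfl
    have hs0 : (sr 0 : DihedralGroup n) ∈ H := by
      rw [hH, MonoidHom.mem_ker, parity_sr, map_zero]; rfl
    have hnc : ¬ IsMulCommutative H := by
      intro hc
      have h1 := (isMulCommutative_iff.1 hc) ⟨r 2, hr2⟩ ⟨sr 0, hs0⟩
      have h2' := congrArg Subtype.val h1
      simp only [Subgroup.coe_mul, r_mul_sr, sr_mul_r, zero_sub, zero_add] at h2'
      have h3 : (-2 : ZMod n) = 2 := by
        injection h2'
      have h4 : ((4 : ℕ) : ZMod n) = 0 := by
        have : (2 : ZMod n) + 2 = 0 := by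
          nth_rewrite 1 [← h3]; ring
        push_cast
        rw [← this]; ring
      rw [ZMod.natCast_eq_zero_iff] at h4
      have := Nat.le_of_dvd (by norm_num) h4
      omega
    have hnorm := hall H hnc
    have hHn : H.Normal := by rw [hH]; infer_instance
    rw [Subgroup.normalizer_eq_top] at hnorm
    have hr1 : (r 1 : DihedralGroup n) ∈ H := by rw [← hnorm]; trivial
    rw [hH, MonoidHom.mem_ker, parity_r, map_one] at hr1
    have : (1 : ZMod 2) = 0 := by
      have := congrArg Multiplicative.toAdd hr1
      simpa using this
    exact one_ne_zero this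
  · rintro (rfl | hodd)
    · -- n = 4
      intro H hnc
      have hcard : Nat.card (DihedralGroup 4) = 2 ^ 3 := by rw [nat_card]; norm_num
      have hdvd : Nat.card H ∣ 2 ^ 3 := hcard ▸ Subgroup.card_subgroup_dvd_card H
      obtain ⟨k, hk, hHk⟩ := (Nat.dvd_prime_pow Nat.prime_two).1 hdvd
      have hk3 : k = 3 := by
        by_contra hk3
        apply hnc
        haveI : Fact (Nat.Prime 2) := ⟨Nat.prime_two⟩
        interval_cases k
        · -- card 1
          rw [pow_zero, Subgroup.card_eq_one] at hHk
          rw [hHk]
          rw [isMulCommutative_iff]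
          intro a b
          have ha : a = 1 := Subsingleton.elim _ _
          have hb : b = 1 := Subsingleton.elim _ _
          rw [ha, hb]
        · -- card 2
          rw [pow_one] at hHk
          haveI := isCyclic_of_prime_card hHk
          rw [isMulCommutative_iff]
          intro a b
          exact (IsCyclic.commGroup (α := H)).mul_comm a b
        · -- card 4
          exact IsPGroup.isMulCommutative_of_card_eq_prime_sq hHk
        · exact absurd rfl hk3
      subst hk3
      have htop : H = ⊤ := Subgroup.eq_top_of_card_eq H (by rw [hHk, hcard])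
      rw [htop]
      exact Subgroup.normalizer_eq_top ⊤
    · -- n odd
      intro H hnc
      apply le_antisymm _ Subgroup.le_normalizer
      -- H contains a reflection
      have hrefl : ∃ i, (sr i : DihedralGroup n) ∈ H := by
        by_contra hno
        push Not at hno
        apply hnc
        rw [isMulCommutative_iff]
        rintro ⟨a, ha⟩ ⟨b, hb⟩
        apply Subtype.ext
        cases a with
        | r i =>
          cases b with
          | r j => simp only [Subgroup.coe_mul, r_mul_r, add_comm]
          | sr j => exact absurd hb (hno j)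
        | sr i => exact absurd ha (hno i)
      obtain ⟨i, hi⟩ := hrefl
      -- rotations in the normalizer lie in H
      have hrot : ∀ j : ZMod n, (r j : DihedralGroup n) ∈ Subgroup.normalizer (H : Set (DihedralGroup n)) →
          (r j : DihedralGroup n) ∈ H := by
        intro j hj
        have h1 := (Subgroup.mem_normalizer_iff.1 hj (sr i)).1 hi
        simp only [inv_r, r_mul_sr, sr_mul_r] at h1
        have h2 := H.mul_mem hi h1
        simp only [sr_mul_sr] at h2
        have h3 : i - j + -j - i = -(2 * j) := by ring
        rw [h3] at h2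
        have h4 : (r (2 * j) : DihedralGroup n) ∈ H := by
          have := H.inv_mem h2
          simpa [inv_r] using this
        obtain ⟨k, hk⟩ := hodd
        have h5 := H.pow_mem h4 (k + 1)
        rw [r_pow] at h5
        have h6 : (2 * j * ((k + 1 : ℕ) : ZMod n)) = j := by
          have hn0 : ((n : ℕ) : ZMod n) = 0 := ZMod.natCast_self n
          have : ((2 * (k + 1) : ℕ) : ZMod n) = 1 := by
            have e : 2 * (k + 1) = n + 1 := by omega
            rw [e]; push_cast; rw [hn0, zero_add]
          calc 2 * j * ((k + 1 : ℕ) : ZMod n) = j * ((2 * (k + 1) : ℕ) : ZMod n) := by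
                push_cast; ring
            _ = j := by rw [this, mul_one]
        rw [h6] at h5
        exact h5
      intro g hg
      cases g with
      | r j => exact hrot j hg
      | sr j =>
        have h1 : (sr j : DihedralGroup n) * sr i ∈ Subgroup.normalizer (H : Set (DihedralGroup n)) :=
          Subgroup.mul_mem _ hg (Subgroup.le_normalizer hi)
        rw [sr_mul_sr] at h1
        have h2 := hrot _ h1
        have h3 : (sr j : DihedralGroup n) = r (i - j) * sr i := by
          rw [r_mul_sr]; congr 1; ring
        rw [h3]
        exact H.mul_mem h2 hi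

end Cfsg.Agent.S4074
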