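import Cfsg.Statements.S4075
import Mathlib

set_option autoImplicit false
open Cfsg

namespace Cfsg.Agent.S4075

theorem result {G : Type*} [Group G] [Finite G]
    [Group.IsNilpotent G] :
    (∀ H : Subgroup G, ¬ IsMulCommutative H → Subgroup.normalizer (H : Set G) = H) ↔
    (IsMulCommutative G ∨ (IsPrimePow (Nat.card G) ∧ ¬ IsMulCommutative G ∧ ∀ H : Subgroup G, H ≠ ⊤ → IsMulCommutative H)) := by
  constructor
  · intro h
    by_cases hab : IsMulCommutative G
    · exact Or.inl hab
    · right
      have hprop : ∀ H : Subgroup G, H ≠ ⊤ → IsMulCommutative H := by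
        intro H hH
        by_contra hna
        have h1 := h H hna
        have h2 := Group.normalizerCondition_of_isNilpotent (G := G) H (lt_top_iff_ne_top.2 hH)
        rw [h1] at h2
        exact lt_irrefl _ h2
      refine ⟨?_, hab, hprop⟩
      by_contra hnpp
      apply hab
      have hS : ∀ (p : ℕ) [Fact p.Prime] (P : Sylow p G), IsMulCommutative (P : Subgroup G) := by
        intro p _ P
        apply hprop
        intro htop
        apply hnpp
        obtain ⟨n, hn⟩ := IsPGroup.iff_card.1 P.2
        have hcard : Nat.card G = p ^ n := by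
          rw [← hn, htop]
          exact (Subgroup.card_top).symm
        rw [hcard]
        refine ⟨p, n, (Fact.out : p.Prime).prime, ?_, rfl⟩
        rcases Nat.eq_zero_or_pos n with h0 | h0
        · exfalso
          rw [h0, pow_zero] at hcard
          haveI : Subsingleton G := (Nat.card_eq_one_iff_unique.1 hcard).1
          exact hab ⟨⟨fun a b => Subsingleton.elim _ _⟩⟩
        · exact h0
      have hnil : Group.IsNilpotent G := inferInstance
      obtain ⟨e⟩ := ((Group.isNilpotent_of_finite_tfae (G := G)).out 0 4).1 hnil
      constructor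
      constructor
      intro a b
      obtain ⟨a', rfl⟩ := e.surjective a
      obtain ⟨b', rfl⟩ := e.surjective b
      rw [← map_mul, ← map_mul]
      congr 1
      funext p P
      haveI : Fact (p : ℕ).Prime := ⟨Nat.prime_of_mem_primeFactors p.2⟩
      haveI := hS p P
      exact mul_comm' (a' p P) (b' p P)
  · rintro (hab | ⟨_, _, hmin⟩) H hH
    · exfalso
      apply hH
      exact ⟨⟨fun a b => Subtype.ext (mul_comm' (a : G) (b : G))⟩⟩
    · have : H = ⊤ := by
        by_contra hne
        exact hH (hmin H hne)
      rw [this]
      exact Subgroup.normalizer_eq_top ⊤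

end Cfsg.Agent.S4075
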