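import Cfsg.Statements.S4079
import Mathlib
import Cfsg.Agent.S0112
import Cfsg.Agent.Helper6.S4079KE
import Cfsg.Agent.Helper10.S4079KM
import Cfsg.Agent.Helper19.S4079KP
import Cfsg.Agent.Helper25.S4079TRV
import Cfsg.Agent.Helper25.S4079P3
import Cfsg.Agent.Helper7.S4079CENh
import Cfsg.Agent.Helper14.S4079SC
import Cfsg.Agent.Helper14.S4079ZG
import Cfsg.Agent.Helper27.S4079DER

set_option autoImplicit false
open Cfsg
open Cfsg.Agent.S4079P

namespace Cfsg.Agent.S4079

/-- Let p be an odd prime and L a finite metacyclic p-group with no cyclic subgroup of index p, and let a be an automorphism of L of order p. Then a moves some element of order p of L if and only if p = 3 and the semidirect product L ⋊ ⟨a⟩ (of order 3·#L) has maximal class, i.e. nilpotency class m where #L = 3^m. -/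
theorem result {L : Type*} [Group L] [Finite L] {p : ℕ} [Fact p.Prime]
    (hp : p ≠ 2) (hL : IsPGroup p L) (hmc : Cfsg.IsMetacyclic L) (hnc : ∀ C : Subgroup L, IsCyclic C → C.index ≠ p)
    (a : MulAut L) (ha : orderOf a = p) (m : ℕ) (hm : Nat.card L = p ^ m) :
    (∃ x : L, orderOf x = p ∧ a x ≠ x) ↔
    (p = 3 ∧ Group.nilpotencyClass (SemidirectProduct L ↥(Subgroup.zpowers a) (Subgroup.zpowers a).subtype) = m) := by
  have hpp : p.Prime := Fact.out
  haveI : Finite (L ⋊[(Subgroup.zpowers a).subtype] ↥(Subgroup.zpowers a)) :=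
    Finite.of_equiv _ SemidirectProduct.equivProd.symm
  -- L is not cyclic
  have hncyc : ¬ IsCyclic L := by
    intro hcyc
    rcases Nat.eq_zero_or_pos m with hm0 | hm0
    · -- L trivial, so `a = 1`
      subst hm0
      rw [pow_zero] at hm
      haveI : Subsingleton L := (Nat.card_eq_one_iff_unique.mp hm).1
      have ha1 : a = 1 := by
        ext x
        exact Subsingleton.elim _ _
      rw [ha1, orderOf_one] at ha
      exact hpp.one_lt.ne ha
    · -- a subgroup of index p
      have hdvd : p ^ (m - 1) ∣ Nat.card L := by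
        rw [hm]; exact pow_dvd_pow p (Nat.sub_le m 1)
      obtain ⟨K, hK⟩ := Sylow.exists_subgroup_card_pow_prime p hdvd
      have hKc : IsCyclic K := inferInstance
      apply hnc K hKc
      have h1 := K.card_mul_index
      rw [hK, hm] at h1
      have h2 : p ^ m = p ^ (m - 1) * p := by
        rw [← pow_succ]; congr 1; omega
      rw [h2] at h1
      exact Nat.eq_of_mul_eq_mul_left (pow_pos hpp.pos _) h1
  obtain ⟨E, hE, hEc, hEcomm⟩ := KE hp hL hmc hncyc
  obtain ⟨M, hM, hMc⟩ := KM hp hL hmc hnc E hE hEc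
  obtain ⟨hpow, hcen, hsurj⟩ := KP hp hL hmc E M hE hEc hM hMc
  have hm4 : 4 ≤ m := by
    have h1 : Nat.card M ∣ Nat.card L := Subgroup.card_subgroup_dvd_card M
    rw [hMc, hm] at h1
    exact (Nat.pow_dvd_pow_iff_le_right hpp.one_lt).mp h1
  have hap : a ^ p = 1 := by rw [← ha]; exact pow_orderOf_eq_one a
  constructor
  · rintro ⟨x, hxo, hax⟩
    have hxp : x ^ p = 1 := by rw [← hxo]; exact pow_orderOf_eq_one x
    obtain ⟨hp3, u₁, u₂, hu₁, hu₁p, hau₁p, hu₂, h1, h2⟩ :=
      P3 hp E M hE hEc hEcomm hM hpow hcen hsurj a ha x hxp hax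
    have hC := CEN_h7 hL E M hE hEc hEcomm hM hpow hcen a ha u₁ u₂ hu₁ hu₁p hau₁p hu₂ h1 h2
    obtain ⟨-, htr2⟩ := TRV E hE hEc hEcomm a hap x ((hE x).mpr hxp) hax
    have hdE : u₁ ^ p ∈ E := by
      rw [hE, ← pow_mul, ← pow_two]; exact (hM u₁).mp hu₁
    have hcen' : ∀ c : L, a c = c → c ∈ Subgroup.zpowers (u₁ ^ p) := by
      intro c hc
      exact htr2 (u₁ ^ p) hdE hu₁p hau₁p c ((hE c).mpr (hC c hc)) hc
    obtain ⟨A, hAc, hAC⟩ := SC a ha (u₁ ^ p) hu₁p ((hE _).mp hdE) hau₁p hcen'
    have hG : Nat.card (L ⋊[(Subgroup.zpowers a).subtype] ↥(Subgroup.zpowers a)) = p ^ (m + 1) := by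
      rw [SemidirectProduct.card, hm, Nat.card_zpowers, ha, pow_succ]
    have h := Cfsg.Agent.S0112.result (m + 1) hG A hAc hAC
    exact ⟨hp3, by simpa using h⟩
  · rintro ⟨-, hcl⟩
    by_contra hno
    have haE : ∀ e ∈ E, a e = e := by
      intro e he
      by_contra hne
      apply hno
      refine ⟨e, ?_, hne⟩
      have he1 : e ≠ 1 := by
        rintro rfl
        exact hne (map_one a)
      exact orderOf_eq_prime ((hE e).mp he) he1
    have hder := DER hp hL hmc E hE hEc a ha m hm hm4 hcl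
    have hEL : ∀ e ∈ E, ∀ g : L, g * e = e * g := by
      intro e he t
      obtain ⟨g, -, rfl⟩ := hsurj e he
      obtain ⟨hcp, hcz⟩ := hder t g
      have h1 : t * g * t⁻¹ = (t * g * t⁻¹ * g⁻¹) * g := by group
      have h2 : (t * g * t⁻¹) ^ p = g ^ p := by
        rw [h1, (show Commute (t * g * t⁻¹ * g⁻¹) g from (hcz g).symm).mul_pow, hcp, one_mul]
      have h3 : t * g ^ p * t⁻¹ = g ^ p := by
        rw [← conj_pow]; exact h2
      calc t * g ^ p = t * g ^ p * t⁻¹ * t := by group
        _ = g ^ p * t := by rw [h3]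
    exact ZG hL E hEc hEL a ha haE m hm hm4 hcl

end Cfsg.Agent.S4079
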