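import Cfsg.Statements.S4080
import Cfsg.Agent.Helper12.Unipotent
import Mathlib

set_option autoImplicit false
open Cfsg

namespace Cfsg.Agent.S4080

theorem zmod_sq_lift {p : ℕ} [hp : Fact p.Prime] (t : ZMod (p ^ 2))
    (ht : (ZMod.castHom (dvd_pow_self p two_ne_zero) (ZMod p)) t = 0) :
    ∃ s : ZMod (p ^ 2), t = (p : ZMod (p ^ 2)) * s := by
  haveI : NeZero (p ^ 2) := ⟨pow_ne_zero _ hp.out.ne_zero⟩
  have h1 : t = ((t.val : ℕ) : ZMod (p ^ 2)) := (ZMod.natCast_zmod_val t).symm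
  rw [h1, map_natCast, ZMod.natCast_eq_zero_iff] at ht
  obtain ⟨k, hk⟩ := ht
  refine ⟨(k : ZMod (p ^ 2)), ?_⟩
  rw [h1, hk]
  push_cast
  ring

theorem zmod_sq_lift' {p : ℕ} [hp : Fact p.Prime] (t : ZMod (p ^ 2))
    (ht : (p : ZMod (p ^ 2)) * t = 0) :
    ∃ s : ZMod (p ^ 2), t = (p : ZMod (p ^ 2)) * s := by
  haveI : NeZero (p ^ 2) := ⟨pow_ne_zero _ hp.out.ne_zero⟩
  have h1 : t = ((t.val : ℕ) : ZMod (p ^ 2)) := (ZMod.natCast_zmod_val t).symm
  rw [h1, ← Nat.cast_mul, ZMod.natCast_eq_zero_iff] at ht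
  have ht' : p * p ∣ p * t.val := by
    have : p * p = p ^ 2 := (pow_two p).symm
    rw [this]; exact ht
  have h2 : p ∣ t.val := Nat.dvd_of_mul_dvd_mul_left hp.out.pos ht'
  obtain ⟨k, hk⟩ := h2
  refine ⟨(k : ZMod (p ^ 2)), ?_⟩
  rw [h1, hk]
  push_cast
  ring

theorem p_mul_p {p : ℕ} : ((p : ℕ) : ZMod (p ^ 2)) * (p : ZMod (p ^ 2)) = 0 := by
  rw [← Nat.cast_mul, ← pow_two]
  exact ZMod.natCast_self (p ^ 2)

theorem matrix_key {p : ℕ} [hp : Fact p.Prime] (hp3 : 3 < p)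
    (F : Matrix (Fin 2) (Fin 2) (ZMod (p ^ 2))) (hF : F ^ p = 1) :
    ((p : ℕ) : ZMod (p ^ 2)) • (F - 1) = 0 := by
  classical
  set ρ := (ZMod.castHom (dvd_pow_self p two_ne_zero) (ZMod p)).mapMatrix (m := Fin 2) with hρ
  have hFbar : (ρ F) ^ (p ^ 1) = 1 := by rw [pow_one, ← map_pow, hF, map_one]
  have h2 := Cfsg.Agent.Helper12.sub_one_pow_eq_zero_of_pow_eq_one p (ρ F) 1 hFbar
  have h3 := Cfsg.Agent.Helper12.nilpotent_pow_card (ρ F - 1) ⟨_, h2⟩
  rw [Fintype.card_fin] at h3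
  set N := F - 1 with hN
  have h4 : ρ (N ^ 2) = 0 := by rw [map_pow, hN, map_sub, map_one, h3]
  have h5 : ∀ i j, ∃ s : ZMod (p ^ 2), (N ^ 2) i j = (p : ZMod (p ^ 2)) * s := by
    intro i j
    apply zmod_sq_lift
    have := congrFun (congrFun h4 i) j
    simpa [hρ, RingHom.mapMatrix_apply, Matrix.map_apply] using this
  choose Y hY using h5
  have hN2 : N ^ 2 = (p : ZMod (p ^ 2)) • (Matrix.of Y) := by
    ext i j
    rw [hY i j]
    simp
  set c : ZMod (p ^ 2) := (p : ZMod (p ^ 2)) with hc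
  have hcc : c * c = 0 := p_mul_p
  set Y' := Matrix.of Y with hY'
  have hN4 : N ^ 2 * N ^ 2 = 0 := by
    rw [hN2, Matrix.smul_mul, Matrix.mul_smul, smul_smul, hcc, zero_smul]
  have factA : ∀ k, 4 ≤ k → N ^ k = 0 := by
    intro k hk
    have : k = (k - 4) + (2 + 2) := by omega
    rw [this, pow_add, pow_add, hN4, mul_zero]
  have factB : ∀ k, 2 ≤ k → c • N ^ k = 0 := by
    intro k hk
    have : k = (k - 2) + 2 := by omega
    rw [this, pow_add, hN2, Matrix.mul_smul, smul_smul, hcc, zero_smul]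
  have hFN : F = N + 1 := by rw [hN]; abel
  have hexp := (Commute.one_right N).add_pow p
  rw [← hFN, hF] at hexp
  have hterm : ∀ m ∈ Finset.range (p + 1), m ∉ Finset.range 2 →
      N ^ m * 1 ^ (p - m) * ((p.choose m : ℕ) : Matrix (Fin 2) (Fin 2) (ZMod (p ^ 2))) = 0 := by
    intro m hm hm2
    rw [Finset.mem_range] at hm hm2
    have hm2' : 2 ≤ m := by omega
    by_cases hmp : m = p
    · rw [factA m (by omega), zero_mul, zero_mul]
    · have hdvd : p ∣ p.choose m := hp.out.dvd_choose_self (by omega) (by omega)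
      obtain ⟨d, hd⟩ := hdvd
      rw [one_pow, mul_one, hd, Nat.cast_mul, ← mul_assoc]
      have h1 : N ^ m * ((p : ℕ) : Matrix (Fin 2) (Fin 2) (ZMod (p ^ 2))) = c • N ^ m := by
        rw [← nsmul_eq_mul', ← Nat.cast_smul_eq_nsmul (ZMod (p ^ 2))]
      rw [h1, factB m hm2', zero_mul]
  rw [← Finset.sum_subset (Finset.range_subset_range.2 (by omega : 2 ≤ p + 1)) hterm] at hexp
  rw [Finset.sum_range_succ, Finset.sum_range_one] at hexp
  simp only [pow_zero, one_pow, mul_one, Nat.choose_zero_right, Nat.cast_one, pow_one,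
    Nat.choose_one_right, Nat.sub_zero] at hexp
  have h1 : N * ((p : ℕ) : Matrix (Fin 2) (Fin 2) (ZMod (p ^ 2))) = c • N := by
    rw [← nsmul_eq_mul', ← Nat.cast_smul_eq_nsmul (ZMod (p ^ 2))]
  rw [h1] at hexp
  have := hexp.symm
  rwa [add_eq_left] at this

/-- Let p > 3 be a prime and L the direct product of two cyclic groups of order p². Every automorphism of L of order p fixes every element of order p of L. -/
theorem result {p : ℕ} [Fact p.Prime] (hp : 3 < p)
    (a : MulAut (Multiplicative (ZMod (p ^ 2) × ZMod (p ^ 2)))) (ha : orderOf a = p)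
    (x : Multiplicative (ZMod (p ^ 2) × ZMod (p ^ 2))) (hx : orderOf x = p) : a x = x := by
  classical
  have hpp : p.Prime := Fact.out
  let f₀ : (ZMod (p ^ 2) × ZMod (p ^ 2)) ≃+ (ZMod (p ^ 2) × ZMod (p ^ 2)) :=
    AddEquiv.toMultiplicative.symm a
  have hf₀ : ∀ v, f₀ v = Multiplicative.toAdd (a (Multiplicative.ofAdd v)) := fun v => rfl
  let f : (ZMod (p ^ 2) × ZMod (p ^ 2)) →ₗ[ZMod (p ^ 2)] (ZMod (p ^ 2) × ZMod (p ^ 2)) :=
    (f₀ : (ZMod (p ^ 2) × ZMod (p ^ 2)) →+ (ZMod (p ^ 2) × ZMod (p ^ 2))).toZModLinearMap (p ^ 2)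
  have hf : ∀ v, f v = Multiplicative.toAdd (a (Multiplicative.ofAdd v)) := fun v => rfl
  have hfpow : ∀ (k : ℕ) v, (f ^ k) v = Multiplicative.toAdd ((a ^ k) (Multiplicative.ofAdd v)) := by
    intro k
    induction k with
    | zero => intro v; simp
    | succ k ih =>
      intro v
      rw [pow_succ f k, Module.End.mul_apply, ih, hf, pow_succ a k, MulAut.mul_apply]
      rfl
  have hfp : f ^ p = 1 := by
    refine LinearMap.ext fun v => ?_
    have hap : a ^ p = 1 := by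
      have := pow_orderOf_eq_one a
      rwa [ha] at this
    rw [hfpow, hap]
    rfl
  let b := Module.Basis.finTwoProd (ZMod (p ^ 2))
  let Φ := LinearMap.toMatrixAlgEquiv b
  have hFp : (Φ f) ^ p = 1 := by rw [← map_pow, hfp, map_one]
  have hkey := matrix_key hp (Φ f) hFp
  have hkey' : ((p : ℕ) : ZMod (p ^ 2)) • (f - 1) = 0 := by
    apply Φ.injective
    rw [map_smul, map_sub, map_one, map_zero]
    exact hkey
  have hfv : ∀ v, ((p : ℕ) : ZMod (p ^ 2)) • (f v - v) = 0 := by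
    intro v
    have := congrArg (fun g : Module.End (ZMod (p ^ 2)) (ZMod (p ^ 2) × ZMod (p ^ 2)) => g v) hkey'
    simpa using this
  -- decompose `x`
  set v := Multiplicative.toAdd x with hv
  have hxp : x ^ p = 1 := by
    have := pow_orderOf_eq_one x
    rwa [hx] at this
  have hpv : p • v = 0 := by
    have := congrArg Multiplicative.toAdd hxp
    simpa using this
  have h1 : ((p : ℕ) : ZMod (p ^ 2)) * v.1 = 0 := by
    have := congrArg Prod.fst hpv
    simpa using this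
  have h2 : ((p : ℕ) : ZMod (p ^ 2)) * v.2 = 0 := by
    have := congrArg Prod.snd hpv
    simpa using this
  obtain ⟨w1, hw1⟩ := zmod_sq_lift' v.1 h1
  obtain ⟨w2, hw2⟩ := zmod_sq_lift' v.2 h2
  have hvw : v = ((p : ℕ) : ZMod (p ^ 2)) • ((w1, w2) : ZMod (p ^ 2) × ZMod (p ^ 2)) := by
    apply Prod.ext
    · simpa using hw1
    · simpa using hw2
  have hfvv : f v = v := by
    have h3 := hfv (w1, w2)
    rw [smul_sub, ← map_smul, ← hvw, sub_eq_zero] at h3
    exact h3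
  have : a x = Multiplicative.ofAdd (f v) := rfl
  rw [this, hfvv]
  rfl

end Cfsg.Agent.S4080
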