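import Cfsg.Statements.S4082
import Mathlib
import Cfsg.Agent.Helper1.PByCyc3

set_option autoImplicit false
open Cfsg

namespace Cfsg.Agent.S4082

/-- Let p be an odd prime and G a finite group with Sylow p-subgroup P. Say that G has restricted p-by-cyclic subgroups when every subgroup H of G whose Sylow p-subgroup is normal in H with cyclic quotient is itself cyclic or dihedral of order 2pⁿ for some n. Then G has restricted p-by-cyclic subgroups if and only if P is cyclic and one of the following holds: (1) N_G(P) = C_G(P); or (2) N_G(P)/C_G(P) has order 2 and, for the subgroup Q of order p of P, the centralizer C_G(Q) is abelian and every element of N_G(Q) outside C_G(Q) is an involution inverting every element of C_G(Q). -/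
theorem result {G : Type*} [Group G] [Finite G] {p : ℕ}
    [Fact p.Prime] (hp : p ≠ 2) (P : Sylow p G) :
    (∀ H : Subgroup G, (∀ S : Sylow p ↥H, (S : Subgroup ↥H).Normal) →
        (∀ (S : Sylow p ↥H) [(S : Subgroup ↥H).Normal], IsCyclic (↥H ⧸ (S : Subgroup ↥H))) →
        IsCyclic H ∨ (∃ n : ℕ, Nonempty (H ≃* DihedralGroup (p ^ n)))) ↔
    (IsCyclic P ∧
      (Subgroup.normalizer ((P : Subgroup G) : Set G) = Subgroup.centralizer ((P : Subgroup G) : Set G) ∨
       ((Subgroup.centralizer ((P : Subgroup G) : Set G)).relIndex (Subgroup.normalizer ((P : Subgroup G) : Set G)) = 2 ∧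
        ∀ Q : Subgroup G, Q ≤ P → Nat.card Q = p →
          IsMulCommutative ↥(Subgroup.centralizer (Q : Set G)) ∧
          ∀ x : G, x ∈ Subgroup.normalizer (Q : Set G) → x ∉ Subgroup.centralizer (Q : Set G) →
            orderOf x = 2 ∧ ∀ c : G, c ∈ Subgroup.centralizer (Q : Set G) → x * c * x⁻¹ = c⁻¹))) := by
  constructor
  · intro h
    have h' : Cfsg.Agent.Helper1.PByCyc.RestrictedP p G := h
    exact Cfsg.Agent.Helper1.PByCyc.forward_p hp P h'
  · rintro ⟨hPc, h⟩ H hN hC
    have hP : Subgroup.normalizer ((P : Subgroup G) : Set G)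
          ≤ Subgroup.centralizer ((P : Subgroup G) : Set G) ∨
        ∀ Q : Subgroup G, Q ≤ P → Nat.card Q = p → Cfsg.Agent.Helper1.PByCyc.Cond Q := by
      rcases h with h | h
      · exact Or.inl (le_of_eq h)
      · exact Or.inr fun Q hQP hQp => h.2 Q hQP hQp
    obtain ⟨S⟩ : Nonempty (Sylow p ↥H) := inferInstance
    have hSn := hN S
    exact Cfsg.Agent.Helper1.PByCyc.backward_p P hPc hP H S (hC S)

end Cfsg.Agent.S4082
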