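import Cfsg.Statements.S4083
import Mathlib
import Cfsg.Agent.Helper1.TwoByCyc3

set_option autoImplicit false
open Cfsg

namespace Cfsg.Agent.S4083

/-- Let G be a finite group with Sylow 2-subgroup P. Every subgroup H of G whose Sylow 2-subgroup is normal in H with cyclic quotient is cyclic, dihedral of 2-power order, or isomorphic to the alternating group of degree 4, if and only if either P is cyclic, or P is dihedral (of order at least 4) and every elementary abelian subgroup K of order 4 of P satisfies C_G(K) = K. -/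
theorem result {G : Type*} [Group G] [Finite G] (P : Sylow 2 G) :
    (∀ H : Subgroup G, (∀ S : Sylow 2 ↥H, (S : Subgroup ↥H).Normal) →
        (∀ (S : Sylow 2 ↥H) [(S : Subgroup ↥H).Normal], IsCyclic (↥H ⧸ (S : Subgroup ↥H))) →
        IsCyclic H ∨ (∃ n : ℕ, Nonempty (H ≃* DihedralGroup (2 ^ n))) ∨ Nonempty (H ≃* alternatingGroup (Fin 4))) ↔
    (IsCyclic P ∨
      ((∃ n : ℕ, 1 ≤ n ∧ Nonempty ((P : Subgroup G) ≃* DihedralGroup (2 ^ n))) ∧
        ∀ K : Subgroup G, K ≤ P → Nat.card K = 4 → (∀ k ∈ K, k ^ 2 = 1) → Subgroup.centralizer (K : Set G) = K)) := by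
  constructor
  · intro h
    rcases Cfsg.Agent.Helper1.TwoByCyc.forward P h with h1 | ⟨h1, h2⟩
    · left; exact h1
    · right
      refine ⟨h1, ?_⟩
      intro K hKP hK4 hK2
      exact h2 K hKP hK4 hK2
  · intro h H hN hC
    have hP : IsCyclic (P : Subgroup G) ∨
        ((∃ n : ℕ, 1 ≤ n ∧ Nonempty ((P : Subgroup G) ≃* DihedralGroup (2 ^ n))) ∧
          Cfsg.Agent.Helper1.TwoByCyc.FourSC (P : Subgroup G)) := by
      rcases h with h | ⟨h1, h2⟩
      · left; exact h
      · right
        exact ⟨h1, fun K hKP hK4 hK2 => h2 K hKP hK4 hK2⟩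
    have : Fact (Nat.Prime 2) := ⟨Nat.prime_two⟩
    obtain ⟨S⟩ : Nonempty (Sylow 2 ↥H) := inferInstance
    have := hN S
    exact Cfsg.Agent.Helper1.TwoByCyc.backward P hP H S (hC S)

end Cfsg.Agent.S4083
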