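import Cfsg.Statements.S4084
import Mathlib

set_option autoImplicit false
open Cfsg

namespace Cfsg.Agent.S4084

lemma one_dir {G H : Type*} [Group G] [Finite G] [Group H] [Finite H] (e : G ≃ H)
    (he : ∀ x y : G, Commute x y ↔ Commute (e x) (e y))
    {p q : ℕ} (hp : p.Prime) (hq : q.Prime) (hpq : p ≠ q) :
    (∃ g : G, orderOf g = p * q) → (∃ h : H, orderOf h = p * q) := by
  rintro ⟨g, hg⟩
  set T : Subgroup G := Subgroup.centralizer {g} with hT
  set T' : Subgroup H := Subgroup.centralizer {e g} with hT'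
  set Z : Subgroup G := T ⊓ Subgroup.centralizer (T : Set G) with hZ
  set Z' : Subgroup H := T' ⊓ Subgroup.centralizer (T' : Set H) with hZ'
  have hmT : ∀ x : G, x ∈ T ↔ e x ∈ T' := by
    intro x
    rw [hT, hT', Subgroup.mem_centralizer_iff, Subgroup.mem_centralizer_iff]
    simp only [Set.mem_singleton_iff, forall_eq]
    exact he g x
  have hmC : ∀ x : G, x ∈ Subgroup.centralizer (T : Set G) ↔ e x ∈ Subgroup.centralizer (T' : Set H) := by
    intro x
    rw [Subgroup.mem_centralizer_iff, Subgroup.mem_centralizer_iff]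
    constructor
    · intro h t' ht'
      obtain ⟨t, rfl⟩ := e.surjective t'
      exact (he t x).1 (h t ((hmT t).2 ht'))
    · intro h t ht
      exact (he t x).2 (h (e t) ((hmT t).1 ht))
  have hmZ : ∀ x : G, x ∈ Z ↔ e x ∈ Z' := by
    intro x
    rw [hZ, hZ', Subgroup.mem_inf, Subgroup.mem_inf, hmT, hmC]
  have hcard : Nat.card Z = Nat.card Z' := Nat.card_congr (e.subtypeEquiv hmZ)
  have hgZ : g ∈ Z := by
    have h1 : g ∈ T := by
      rw [hT, Subgroup.mem_centralizer_iff]
      simp
    have h2 : g ∈ Subgroup.centralizer (T : Set G) := by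
      rw [Subgroup.mem_centralizer_iff]
      intro t ht
      rw [hT, SetLike.mem_coe, Subgroup.mem_centralizer_iff] at ht
      exact (ht g rfl).symm
    exact Subgroup.mem_inf.2 ⟨h1, h2⟩
  have hdvd : p * q ∣ Nat.card Z' := by
    rw [← hcard, ← hg]
    have := orderOf_dvd_natCard (⟨g, hgZ⟩ : Z)
    rwa [Subgroup.orderOf_mk] at this
  haveI := Fact.mk hp
  haveI := Fact.mk hq
  obtain ⟨a, ha⟩ := exists_prime_orderOf_dvd_card' (G := Z') p (dvd_trans (dvd_mul_right p q) hdvd)
  obtain ⟨b, hb⟩ := exists_prime_orderOf_dvd_card' (G := Z') q (dvd_trans (dvd_mul_left q p) hdvd)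
  have hcomm : Commute (a : H) (b : H) := by
    have h1 : (a : H) ∈ T' := (Subgroup.mem_inf.1 a.2).1
    have h2 : (b : H) ∈ Subgroup.centralizer (T' : Set H) := (Subgroup.mem_inf.1 b.2).2
    rw [Subgroup.mem_centralizer_iff] at h2
    exact h2 _ h1
  refine ⟨(a : H) * (b : H), ?_⟩
  rw [hcomm.orderOf_mul_eq_mul_orderOf_of_coprime, Subgroup.orderOf_coe, Subgroup.orderOf_coe, ha, hb]
  rw [Subgroup.orderOf_coe, Subgroup.orderOf_coe, ha, hb]
  exact (Nat.coprime_primes hp hq).2 hpq

theorem result {G H : Type*} [Group G] [Finite G] [Group H] [Finite H] (e : G ≃ H)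
    (he : ∀ x y : G, Commute x y ↔ Commute (e x) (e y))
    {p q : ℕ} (hp : p.Prime) (hq : q.Prime) (hpq : p ≠ q) :
    (∃ g : G, orderOf g = p * q) ↔ (∃ h : H, orderOf h = p * q) := by
  constructor
  · exact one_dir e he hp hq hpq
  · apply one_dir e.symm _ hp hq hpq
    intro x y
    have := he (e.symm x) (e.symm y)
    simp only [Equiv.apply_symm_apply] at this
    exact this.symm

end Cfsg.Agent.S4084
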