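import Cfsg.Statements.S4086
import Mathlib

set_option autoImplicit false
open Cfsg

namespace Cfsg.Agent.S4086

open scoped Classical in
lemma mem_zpowers_of_orderOf_dvd {C : Type*} [Group C] [Finite C] [IsCyclic C] (x y : C)
    (h : orderOf x ∣ orderOf y) : x ∈ Subgroup.zpowers y := by
  haveI := Fintype.ofFinite C
  have hm : 0 < orderOf y := orderOf_pos y
  have h1 := IsCyclic.card_pow_eq_one_le (α := C) hm
  have hsub : (Subgroup.zpowers y : Set C).toFinset ⊆ Finset.univ.filter (fun a : C => a ^ orderOf y = 1) := by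
    intro g hg
    rw [Set.mem_toFinset] at hg
    simp only [Finset.mem_filter, Finset.mem_univ, true_and]
    obtain ⟨k, rfl⟩ := hg
    rw [← zpow_natCast, ← zpow_mul, mul_comm, zpow_mul, zpow_natCast, pow_orderOf_eq_one, one_zpow]
  have hcard : (Subgroup.zpowers y : Set C).toFinset.card = orderOf y := by
    rw [Set.toFinset_card]
    exact Fintype.card_zpowers
  have heq := Finset.eq_of_subset_of_card_le hsub (by rw [hcard]; exact h1)
  have hx : x ∈ Finset.univ.filter (fun a : C => a ^ orderOf y = 1) := by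
    simp only [Finset.mem_filter, Finset.mem_univ, true_and]
    exact orderOf_dvd_iff_pow_eq_one.1 h
  rw [← heq, Set.mem_toFinset] at hx
  exact hx

theorem result {G : Type*} [Group G] [Finite G] :
    (∀ g : G, g ≠ 1 → IsPrimePow (orderOf g)) ↔
    (∀ x y : G, IsCyclic ↥(Subgroup.closure ({x, y} : Set G)) → (x ∈ Subgroup.zpowers y ∨ y ∈ Subgroup.zpowers x)) := by
  constructor
  · intro hpp x y hcyc
    set C := Subgroup.closure ({x, y} : Set G) with hC
    have hxC : x ∈ C := Subgroup.subset_closure (by simp)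
    have hyC : y ∈ C := Subgroup.subset_closure (by simp)
    obtain ⟨z, hz⟩ := hcyc.exists_generator
    -- orders of x, y are powers of a single prime (or trivial)
    have key : orderOf (⟨x, hxC⟩ : C) ∣ orderOf (⟨y, hyC⟩ : C) ∨ orderOf (⟨y, hyC⟩ : C) ∣ orderOf (⟨x, hxC⟩ : C) := by
      by_cases hz1 : (z : G) = 1
      · have hz1' : z = 1 := Subtype.ext hz1
        have hall : ∀ w : C, w = 1 := by
          intro w
          have := hz w
          rw [hz1', Subgroup.zpowers_one_eq_bot, Subgroup.mem_bot] at this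
          exact this
        left
        rw [hall ⟨x, hxC⟩, hall ⟨y, hyC⟩]
      · obtain ⟨p, k, hp, hk, hpk⟩ := hpp z hz1
        have hoz : orderOf z = p ^ k := by rw [hpk, Subgroup.orderOf_coe]
        have hx' : orderOf (⟨x, hxC⟩ : C) ∣ p ^ k := by
          rw [← hoz]; exact orderOf_dvd_of_mem_zpowers (hz _)
        have hy' : orderOf (⟨y, hyC⟩ : C) ∣ p ^ k := by
          rw [← hoz]; exact orderOf_dvd_of_mem_zpowers (hz _)
        obtain ⟨i, _, hi⟩ := (Nat.dvd_prime_pow hp.nat_prime).1 hx'
        obtain ⟨j, _, hj⟩ := (Nat.dvd_prime_pow hp.nat_prime).1 hy'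
        rw [hi, hj]
        rcases le_total i j with h | h
        · left; exact pow_dvd_pow p h
        · right; exact pow_dvd_pow p h
    rcases key with h | h
    · left
      have := mem_zpowers_of_orderOf_dvd _ _ h
      obtain ⟨k, hk⟩ := this
      exact ⟨k, by simpa using congrArg Subtype.val hk⟩
    · right
      have := mem_zpowers_of_orderOf_dvd _ _ h
      obtain ⟨k, hk⟩ := this
      exact ⟨k, by simpa using congrArg Subtype.val hk⟩
  · intro h g hg
    by_contra hnpp
    rw [isPrimePow_iff_unique_prime_dvd] at hnpp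
    have hn1 : orderOf g ≠ 1 := by rwa [Ne, orderOf_eq_one_iff]
    obtain ⟨p, hp, hpn⟩ := Nat.exists_prime_and_dvd hn1
    have : ∃ q : ℕ, q.Prime ∧ q ∣ orderOf g ∧ q ≠ p := by
      by_contra hno
      apply hnpp
      refine ⟨p, ⟨hp, hpn⟩, ?_⟩
      rintro q ⟨hq, hqn⟩
      by_contra hqp
      exact hno ⟨q, hq, hqn, hqp⟩
    obtain ⟨q, hq, hqn, hqp⟩ := this
    have hox : orderOf (g ^ (orderOf g / p)) = p := orderOf_pow_orderOf_div (orderOf_pos g).ne' hpn
    have hoy : orderOf (g ^ (orderOf g / q)) = q := orderOf_pow_orderOf_div (orderOf_pos g).ne' hqn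
    have hcyc : IsCyclic ↥(Subgroup.closure ({g ^ (orderOf g / p), g ^ (orderOf g / q)} : Set G)) := by
      have hle : Subgroup.closure ({g ^ (orderOf g / p), g ^ (orderOf g / q)} : Set G) ≤ Subgroup.zpowers g := by
        rw [Subgroup.closure_le]
        rintro w (rfl | rfl)
        · exact Subgroup.npow_mem_zpowers g _
        · exact Subgroup.npow_mem_zpowers g _
      exact Subgroup.isCyclic_of_le hle
    rcases h _ _ hcyc with h1 | h1
    · have := orderOf_dvd_of_mem_zpowers h1
      rw [hox, hoy] at this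
      exact hqp ((Nat.prime_dvd_prime_iff_eq hp hq).1 this).symm
    · have := orderOf_dvd_of_mem_zpowers h1
      rw [hox, hoy] at this
      exact hqp ((Nat.prime_dvd_prime_iff_eq hq hp).1 this)

end Cfsg.Agent.S4086
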