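import Cfsg.Statements.S4089
import Cfsg.Agent.Helper14.PCore
import Cfsg.Agent.Helper7.Fitting
import Cfsg.Agent.Helper1.SubnIn
import Cfsg.Agent.S0064
import Cfsg.Agent.Helper1.SylowBasic
import Mathlib

set_option autoImplicit false
open Cfsg

namespace Cfsg.Agent.S4089

open Cfsg.Agent.Helper1 Cfsg.Agent.Helper14

section
universe u
variable {G : Type u} [Group G]

theorem le_normalizer_of_conj_mem (K H : Subgroup G)
    (h : ∀ g ∈ K, ∀ x ∈ H, g * x * g⁻¹ ∈ H) : K ≤ Subgroup.normalizer (H : Set G) := by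
  intro g hg
  rw [Subgroup.mem_normalizer_iff]
  intro x
  constructor
  · exact h g hg x
  · intro hx
    have := h g⁻¹ (K.inv_mem hg) _ hx
    simpa [mul_assoc] using this

/-- Lemma A: subnormality of a `p`-subgroup `H` in `⟨H, g⟩` means that some `p`-subgroup
containing `H` is normalized by `g`. -/
theorem subn_iff [Finite G] (p : ℕ) [Fact p.Prime] (H : Subgroup G) (hH : IsPGroup p H) (g : G) :
    (H.subgroupOf (H ⊔ Subgroup.zpowers g)).IsSubnormal ↔
      ∃ R : Subgroup G, IsPGroup p R ∧ H ≤ R ∧ g ∈ Subgroup.normalizer (R : Set G) := by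
  constructor
  · intro hsub
    set X := H ⊔ Subgroup.zpowers g with hX
    have hp : IsPGroup p (H.subgroupOf X) := hH.comap_subtype
    have hle : H.subgroupOf X ≤ pCore p ↥X := Cfsg.Agent.Helper7.subnormal_pGroup_le_pCore hsub hp
    refine ⟨pCoreOf p X, pCoreOf_isPGroup p X, ?_, ?_⟩
    · intro x hx
      have hxX : x ∈ X := (le_sup_left : H ≤ X) hx
      exact ⟨⟨x, hxX⟩, hle (by simpa [Subgroup.mem_subgroupOf] using hx), rfl⟩
    · exact le_normalizer_pCoreOf p X
        ((le_sup_right : Subgroup.zpowers g ≤ X) (Subgroup.mem_zpowers g))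
  · rintro ⟨R, hR, hHR, hg⟩
    set X := H ⊔ Subgroup.zpowers g with hX
    have hXN : X ≤ Subgroup.normalizer (R : Set G) :=
      sup_le (hHR.trans Subgroup.le_normalizer) (Subgroup.zpowers_le.2 hg)
    have h1 : SubnIn H (R ⊓ X) := by
      refine ⟨le_inf hHR le_sup_left, ?_⟩
      have hM : IsPGroup p ↥(R ⊓ X : Subgroup G) := hR.to_le inf_le_left
      haveI : Group.IsNilpotent ↥(R ⊓ X : Subgroup G) := hM.isNilpotent
      exact (Cfsg.Agent.S0064.result.1 inferInstance) _
    have h2 : SubnIn (R ⊓ X) X := by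
      apply SubnIn.of_normal inf_le_right
      apply le_normalizer_of_conj_mem
      intro x hx m hm
      refine ⟨?_, X.mul_mem (X.mul_mem hx hm.2) (X.inv_mem hx)⟩
      exact (Subgroup.mem_normalizer_iff.1 (hXN hx) m).1 hm.1
    exact (h1.trans h2).2

/-- the intersection of the Sylow subgroups containing a `p`-subgroup `R` is a `p`-group
normalized by everything normalizing `R` -/
theorem sInf_sylow_props [Finite G] (p : ℕ) [Fact p.Prime] (R : Subgroup G) (hR : IsPGroup p R)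
    (g : G) (hg : g ∈ Subgroup.normalizer (R : Set G)) :
    IsPGroup p ↥(sInf {K : Subgroup G | ∃ Q : Sylow p G, R ≤ (Q : Subgroup G) ∧ K = (Q : Subgroup G)}) ∧
    R ≤ sInf {K : Subgroup G | ∃ Q : Sylow p G, R ≤ (Q : Subgroup G) ∧ K = (Q : Subgroup G)} ∧
    g ∈ Subgroup.normalizer
      ((sInf {K : Subgroup G | ∃ Q : Sylow p G, R ≤ (Q : Subgroup G) ∧ K = (Q : Subgroup G)} :
        Subgroup G) : Set G) := by
  set D := sInf {K : Subgroup G | ∃ Q : Sylow p G, R ≤ (Q : Subgroup G) ∧ K = (Q : Subgroup G)}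
    with hD
  obtain ⟨Q₀, hQ₀⟩ := hR.exists_le_sylow
  refine ⟨?_, ?_, ?_⟩
  · have : D ≤ (Q₀ : Subgroup G) := sInf_le ⟨Q₀, hQ₀, rfl⟩
    exact Q₀.isPGroup'.to_le this
  · apply le_sInf
    rintro K ⟨Q, hQ, rfl⟩
    exact hQ
  · apply Subgroup.mem_normalizer_fintype
    intro x hx
    show g * x * g⁻¹ ∈ D
    rw [hD, Subgroup.mem_sInf]
    rintro K ⟨Q, hQ, rfl⟩
    -- x ∈ g⁻¹ • Q
    have hRQ' : R ≤ ((g⁻¹ • Q : Sylow p G) : Subgroup G) := by
      intro r hr
      rw [Sylow.coe_subgroup_smul, Cfsg.Agent.Helper1.mem_conj_smul_iff]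
      simp only [inv_inv]
      exact hQ ((Subgroup.mem_normalizer_iff.1 hg r).1 hr)
    have hx' : x ∈ ((g⁻¹ • Q : Sylow p G) : Subgroup G) := by
      have h1 : D ≤ ((g⁻¹ • Q : Sylow p G) : Subgroup G) := sInf_le ⟨g⁻¹ • Q, hRQ', rfl⟩
      exact h1 hx
    rw [Sylow.coe_subgroup_smul, Cfsg.Agent.Helper1.mem_conj_smul_iff] at hx'
    simpa using hx'

end

/-- Let G be a finite group, p a prime and H a p-subgroup of G. Then the set of elements g of G such that H is subnormal in the subgroup generated by H and g is the union of the normalizers N_G(R) over the subgroups R of G containing H with R = O_p(N_G(R)); and this set does not change when H is replaced by the intersection of all Sylow p-subgroups of G containing H. -/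
theorem result {G : Type*} [Group G] [Finite G] (p : ℕ) [Fact p.Prime]
    (H : Subgroup G) (hH : IsPGroup p H) :
    {g : G | ((H).subgroupOf (H ⊔ Subgroup.zpowers g)).IsSubnormal} =
      {g : G | ∃ R : Subgroup G, H ≤ R ∧ (Cfsg.pCore p (Subgroup.normalizer (R : Set G))).map (Subgroup.normalizer (R : Set G)).subtype = R ∧ g ∈ Subgroup.normalizer (R : Set G)} ∧
    ∀ g : G, (((H).subgroupOf (H ⊔ Subgroup.zpowers g)).IsSubnormal ↔
      (((sInf {K : Subgroup G | ∃ Q : Sylow p G, H ≤ (Q : Subgroup G) ∧ K = (Q : Subgroup G)})).subgroupOf ((sInf {K : Subgroup G | ∃ Q : Sylow p G, H ≤ (Q : Subgroup G) ∧ K = (Q : Subgroup G)}) ⊔ Subgroup.zpowers g)).IsSubnormal) := by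
  constructor
  · ext g
    simp only [Set.mem_setOf_eq]
    rw [subn_iff p H hH g]
    constructor
    · rintro ⟨R₀, hR₀, hHR₀, hgR₀⟩
      -- choose a maximal such R
      obtain ⟨R, ⟨hR, hHR, hgR⟩, hmax⟩ := Set.exists_max_image
        {R : Subgroup G | IsPGroup p R ∧ H ≤ R ∧ g ∈ Subgroup.normalizer (R : Set G)}
        (fun R => Nat.card R) (Set.toFinite _) ⟨R₀, hR₀, hHR₀, hgR₀⟩
      refine ⟨R, hHR, ?_, hgR⟩
      have hle : R ≤ pCoreOf p (Subgroup.normalizer (R : Set G)) :=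
        Cfsg.Agent.Helper14.le_pCoreOf p Subgroup.le_normalizer le_rfl hR
      have hmem : pCoreOf p (Subgroup.normalizer (R : Set G)) ∈
          {R : Subgroup G | IsPGroup p R ∧ H ≤ R ∧ g ∈ Subgroup.normalizer (R : Set G)} :=
        ⟨Cfsg.Agent.Helper14.pCoreOf_isPGroup p _, hHR.trans hle,
          Cfsg.Agent.Helper14.le_normalizer_pCoreOf p _ hgR⟩
      have hcard := hmax _ hmem
      exact (Subgroup.eq_of_le_of_card_ge hle hcard).symm
    · rintro ⟨R, hHR, hRcore, hgR⟩
      refine ⟨R, ?_, hHR, hgR⟩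
      have := Cfsg.Agent.Helper14.pCoreOf_isPGroup p (Subgroup.normalizer (R : Set G))
      unfold pCoreOf at this
      rwa [hRcore] at this
  · intro g
    obtain ⟨hDp, hHD, _⟩ := sInf_sylow_props p H hH 1 (Subgroup.one_mem _)
    rw [subn_iff p H hH g, subn_iff p _ hDp g]
    constructor
    · rintro ⟨R, hR, hHR, hgR⟩
      obtain ⟨hDRp, hRDR, hgDR⟩ := sInf_sylow_props p R hR g hgR
      refine ⟨_, hDRp, ?_, hgDR⟩
      apply sInf_le_sInf
      rintro K ⟨Q, hQ, rfl⟩
      exact ⟨Q, hHR.trans hQ, rfl⟩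
    · rintro ⟨R, hR, hDR, hgR⟩
      exact ⟨R, hR, hHD.trans hDR, hgR⟩

end Cfsg.Agent.S4089
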