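import Cfsg.Statements.S4090
import Cfsg.Agent.Helper20.SubnCountB

set_option autoImplicit false
open Cfsg

namespace Cfsg.Agent.S4090

open Subgroup Cfsg.Agent.Helper20

universe u

/-- the factor term of the product. -/
noncomputable def fac {G : Type u} [Group G] (p : ℕ) (H A B : Subgroup G) : ℕ :=
  if (A.relIndex B).Coprime p then
    Nat.card {u : G // u ∈ B ∧ ∀ h ∈ H, h * u * h⁻¹ * u⁻¹ ∈ A} / Nat.card A
  else 1

theorem mem_of_map_mk_mem {G : Type u} [Group G] (N : Subgroup G) [N.Normal] {A : Subgroup G}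
    (hNA : N ≤ A) {x : G} (h : QuotientGroup.mk' N x ∈ A.map (QuotientGroup.mk' N)) : x ∈ A := by
  obtain ⟨a, ha, hax⟩ := h
  have h2 : a⁻¹ * x ∈ N := QuotientGroup.eq.mp hax
  have : x = a * (a⁻¹ * x) := by group
  rw [this]
  exact A.mul_mem ha (hNA h2)

theorem relIndex_map_mk {G : Type u} [Group G] (N : Subgroup G) [N.Normal] {A : Subgroup G}
    (hNA : N ≤ A) (B : Subgroup G) :
    (A.map (QuotientGroup.mk' N)).relIndex (B.map (QuotientGroup.mk' N)) = A.relIndex B := by
  rw [← relIndex_comap, comap_map_eq_self]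
  rw [QuotientGroup.ker_mk']; exact hNA

theorem fac_quot {G : Type u} [Group G] [Finite G] (p : ℕ) (N : Subgroup G) [N.Normal]
    (H A B : Subgroup G) (hNA : N ≤ A) (hAB : A ≤ B) :
    fac p (H.map (QuotientGroup.mk' N)) (A.map (QuotientGroup.mk' N)) (B.map (QuotientGroup.mk' N)) =
      fac p H A B := by
  set φ := QuotientGroup.mk' N with hφ
  unfold fac
  rw [relIndex_map_mk N hNA B]
  split_ifs with hc
  · have h1 : Nat.card {u : G // u ∈ B ∧ ∀ h ∈ H, h * u * h⁻¹ * u⁻¹ ∈ A} =
        Nat.card N * Nat.card {ub : G ⧸ N // ub ∈ B.map φ ∧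
          ∀ hb ∈ H.map φ, hb * ub * hb⁻¹ * ub⁻¹ ∈ A.map φ} := by
      refine Eq.trans ?_ (QuotientGroup.card_preimage_mk N
        {ub : G ⧸ N | ub ∈ B.map φ ∧ ∀ hb ∈ H.map φ, hb * ub * hb⁻¹ * ub⁻¹ ∈ A.map φ})
      apply Nat.card_congr
      apply Equiv.subtypeEquivRight
      intro u
      change _ ↔ (φ u ∈ B.map φ ∧ ∀ hb ∈ H.map φ, hb * φ u * hb⁻¹ * (φ u)⁻¹ ∈ A.map φ)
      constructor
      · rintro ⟨huB, hu⟩
        refine ⟨⟨u, huB, rfl⟩, ?_⟩
        rintro _ ⟨h, hh, rfl⟩
        exact ⟨h * u * h⁻¹ * u⁻¹, hu h hh, by simp [hφ]⟩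
      · rintro ⟨huB, hu⟩
        refine ⟨mem_of_map_mk_mem N (hNA.trans hAB) huB, ?_⟩
        intro h hh
        apply mem_of_map_mk_mem N hNA
        have := hu (φ h) ⟨h, hh, rfl⟩
        simpa [hφ] using this
    have h2 : Nat.card A = Nat.card N * Nat.card (A.map φ) := by
      refine Eq.trans ?_ (QuotientGroup.card_preimage_mk N
        ((A.map φ : Subgroup (G ⧸ N)) : Set (G ⧸ N)))
      apply Nat.card_congr
      apply Equiv.subtypeEquivRight
      intro u
      change _ ↔ φ u ∈ A.map φ
      constructor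
      · intro hu
        exact ⟨u, hu, rfl⟩
      · intro hu
        exact mem_of_map_mk_mem N hNA hu
    rw [h1, h2, Nat.mul_div_mul_left _ _ Nat.card_pos]
  · rfl

theorem aux (p : ℕ) [Fact p.Prime] : ∀ (n : ℕ) (G : Type u) [Group G] [Finite G] (H : Subgroup G)
    (_ : IsPGroup p H) (P : Sylow p G) (M : Fin (n + 1) → Subgroup G), M 0 = ⊥ →
    M (Fin.last n) = ⊤ → Monotone M → (∀ i, (M i).Normal) →
    (∀ i : Fin n, (∃ m : ℕ, (M i.castSucc).relIndex (M i.succ) = p ^ m) ∨
      ((M i.castSucc).relIndex (M i.succ)).Coprime p) →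
    Nat.card (Tset p H) =
      Nat.card (P : Subgroup G) * ∏ i : Fin n, fac p H (M i.castSucc) (M i.succ) := by
  intro n
  induction n with
  | zero =>
    intro G _ _ H hH P M h0 hn _ _ _
    have hbt : (⊥ : Subgroup G) = ⊤ := by rw [← h0, ← hn]; rfl
    have hG1 : Nat.card G = 1 := by
      rw [← Subgroup.card_top (G := G), ← hbt, Subgroup.card_bot]
    have hP1 : Nat.card (P : Subgroup G) = 1 := by
      have := Subgroup.card_subgroup_dvd_card (P : Subgroup G)
      rw [hG1] at this
      exact Nat.dvd_one.mp this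
    have hT1 : Nat.card (Tset p H) = 1 := by
      apply le_antisymm
      · rw [← hG1]; exact Finite.card_subtype_le _
      · haveI : Nonempty (Tset p H) := ⟨⟨1, H, hH, le_rfl, one_mem _⟩⟩
        exact Nat.card_pos
    rw [hT1, hP1]
    simp
  | succ n ih =>
    intro G _ _ H hH P M h0 hn hmono hnormal hfac
    set N := M (Fin.succ 0) with hN
    haveI : N.Normal := hnormal _
    set φ := QuotientGroup.mk' N with hφ
    have hsurj : Function.Surjective φ := QuotientGroup.mk'_surjective N
    have hNle : ∀ j : Fin (n + 1), N ≤ M j.succ := fun j =>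
      hmono (Fin.succ_le_succ_iff.mpr (Fin.zero_le j))
    -- the quotient chain
    have hM'0 : (M (Fin.succ 0)).map φ = ⊥ := QuotientGroup.map_mk'_self N
    have hM'n : (M (Fin.succ (Fin.last n))).map φ = ⊤ := by
      rw [Fin.succ_last, hn]
      exact Subgroup.map_top_of_surjective φ hsurj
    have hIH := ih (G ⧸ N) (H.map φ) (hH.map φ) (P.mapSurjective hsurj)
      (fun i => (M i.succ).map φ) hM'0 hM'n
      (fun i j hij => Subgroup.map_mono (hmono (Fin.succ_le_succ_iff.mpr hij)))
      (fun i => Subgroup.Normal.map (hnormal _) φ hsurj)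
      (by
        intro i
        have := hfac i.succ
        rw [relIndex_map_mk N (hNle _) _, Fin.succ_castSucc]
        exact this)
    have hprod : ∏ i : Fin n, fac p (H.map φ) ((M i.castSucc.succ).map φ) ((M i.succ.succ).map φ) =
        ∏ i : Fin n, fac p H (M i.succ.castSucc) (M i.succ.succ) := by
      apply Finset.prod_congr rfl
      intro i _
      rw [fac_quot p N H _ _ (hNle _) (hmono (Fin.succ_le_succ_iff.mpr (Fin.castSucc_le_succ i))),
        Fin.succ_castSucc]
    rw [hprod] at hIH
    rw [Fin.prod_univ_succ]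
    have hM0 : M (Fin.castSucc 0) = ⊥ := by rw [Fin.castSucc_zero]; exact h0
    rw [hM0]
    have hrel : (⊥ : Subgroup G).relIndex N = Nat.card N := Subgroup.relIndex_bot_left N
    by_cases hc : (Nat.card N).Coprime p
    · -- p'-case
      have hfac0 : fac p H ⊥ N = Nat.card ↥(N ⊓ centralizer (H : Set G)) := by
        unfold fac
        rw [hrel, if_pos hc, Subgroup.card_bot, Nat.div_one]
        apply Nat.card_congr
        apply Equiv.subtypeEquivRight
        intro u
        constructor
        · rintro ⟨huN, hu⟩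
          refine ⟨huN, mem_centralizer_iff.mpr ?_⟩
          intro h hh
          have := hu h hh
          rw [mem_bot] at this
          have e : h * u = (h * u * h⁻¹ * u⁻¹) * (u * h) := by group
          rw [e, this, one_mul]
        · rintro ⟨huN, hu⟩
          refine ⟨huN, ?_⟩
          intro h hh
          rw [mem_bot]
          have := mem_centralizer_iff.mp hu h hh
          rw [this]; group
      have hcardP : Nat.card ((P.mapSurjective hsurj : Sylow p (G ⧸ N)) : Subgroup (G ⧸ N)) =
          Nat.card (P : Subgroup G) := by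
        rw [Sylow.coe_mapSurjective]
        exact card_map_mk_of_pgroup N hc _ P.isPGroup'
      rw [card_Tset_pprime_quot N hc H hH, hIH, hcardP, hfac0]
      ring
    · -- p-case
      have hNp : IsPGroup p N := by
        rcases hfac 0 with ⟨m, hm⟩ | hcop
        · rw [hM0, hrel] at hm
          exact IsPGroup.of_card hm
        · rw [hM0, hrel] at hcop
          exact absurd hcop hc
      have hfac0 : fac p H ⊥ N = 1 := by
        unfold fac
        rw [hrel, if_neg hc]
      have hNP : N ≤ (P : Subgroup G) := hNp.le_sylow_of_normal P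
      have hcardP : Nat.card (P : Subgroup G) = Nat.card N *
          Nat.card ((P.mapSurjective hsurj : Sylow p (G ⧸ N)) : Subgroup (G ⧸ N)) := by
        rw [Sylow.coe_mapSurjective]
        have := card_map_mk'_mul_card_inf N (P : Subgroup G)
        rw [inf_eq_left.mpr hNP] at this
        rw [← this]; ring
      rw [card_Tset_pgroup_quot N hNp H, hIH, hcardP, hfac0]
      ring

/-- Let G be a finite p-solvable group, H a p-subgroup of G and P a Sylow p-subgroup, and fix a chain of normal subgroups 1 = M₀ ≤ M₁ ≤ ⋯ ≤ Mₙ = G of G each of whose factors is a p-group or a p'-group. Then the number of elements g of G such that H is subnormal in the subgroup generated by H and g equals the order of P times the product, over the factors Mᵢ₊₁/Mᵢ of order prime to p, of the order of the centralizer of H in Mᵢ₊₁/Mᵢ (counted as the number of u ∈ Mᵢ₊₁ with [h, u] ∈ Mᵢ for all h ∈ H, divided by the order of Mᵢ). -/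
theorem result {G : Type*} [Group G] [Finite G] (p : ℕ) [Fact p.Prime]
    (hG : Cfsg.IsPSolvable p G) (H : Subgroup G) (hH : IsPGroup p H) (P : Sylow p G)
    (n : ℕ) (M : Fin (n + 1) → Subgroup G) (h0 : M 0 = ⊥) (hn : M (Fin.last n) = ⊤) (hmono : Monotone M)
    (hnormal : ∀ i, (M i).Normal)
    (hfac : ∀ i : Fin n, (∃ m : ℕ, (M i.castSucc).relIndex (M i.succ) = p ^ m) ∨ ((M i.castSucc).relIndex (M i.succ)).Coprime p) :
    Nat.card {g : G // ((H).subgroupOf (H ⊔ Subgroup.zpowers g)).IsSubnormal} =
      Nat.card (P : Subgroup G) *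
        ∏ i : Fin n, (if ((M i.castSucc).relIndex (M i.succ)).Coprime p then
          Nat.card {u : G // u ∈ M i.succ ∧ ∀ h ∈ H, h * u * h⁻¹ * u⁻¹ ∈ M i.castSucc} / Nat.card (M i.castSucc)
          else 1) := by
  have h1 : Nat.card {g : G // ((H).subgroupOf (H ⊔ Subgroup.zpowers g)).IsSubnormal} =
      Nat.card (Tset p H) := by
    apply Nat.card_congr
    apply Equiv.subtypeEquivRight
    intro g
    exact sn_iff H hH g
  rw [h1, aux p n G H hH P M h0 hn hmono hnormal hfac]
  rfl

end Cfsg.Agent.S4090
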