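import Cfsg.Statements.S4091
import Cfsg.Agent.Helper9.S4091Defs
import Cfsg.Agent.Helper9.S4091IND
import Cfsg.Agent.Helper27.S4091FIN1
import Cfsg.Agent.Helper9.S4091FIN2

set_option autoImplicit false
open Cfsg

namespace Cfsg.Agent.S4091

open Cfsg.Agent.S4091P
open Cfsg.Agent.Helper7 (subFinset mem_subFinset card_subFinset)

theorem result {G : Type*} [Group G] [Finite G] (p : ℕ) [Fact p.Prime]
    (hG : Cfsg.IsPSolvable p G) (P : Sylow p G) :
    Nat.card (P : Subgroup G) ^ p * Nat.card (Sylow p G) ^ (p - 1) ≤ Nat.card {g : G // ∃ k : ℕ, orderOf g = p ^ k} ^ p := by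
  have hp : p.Prime := Fact.out
  have hLG := IND (p := p) (Nat.card G) G rfl hG P
  set s := subFinset (P : Subgroup G) with hs
  set m := Nat.card ↥(P : Subgroup G) with hm
  set c := Nat.card ↥(Subgroup.normalizer ((P : Subgroup G) : Set G)) with hc
  set g := Nat.card G with hg
  set n := Nat.card (Sylow p G) with hn
  set U := Nat.card {g : G // ∃ k : ℕ, orderOf g = p ^ k} with hU
  set T := ∏ x ∈ s, tc (P : Subgroup G) x with hT
  have hscard : s.card = m := card_subFinset _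
  have hmpos : 0 < m := Nat.card_pos
  have hcpos : 0 < c := Nat.card_pos
  have hgpos : 0 < g := Nat.card_pos
  have hgnc : g = n * c := by
    rw [hn, Sylow.card_eq_index_normalizer P, hc, hg]
    exact (Subgroup.index_mul_card _).symm
  have htpos : ∀ y ∈ s, 0 < tc (P : Subgroup G) y := by
    intro y hy
    have hyP : y ∈ (P : Subgroup G) := mem_subFinset.1 hy
    unfold tc
    have : Nonempty {g : G // g * y * g⁻¹ ∈ (P : Subgroup G)} := ⟨⟨1, by simpa using hyP⟩⟩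
    exact Nat.card_pos
  have hTpos : 0 < T := Finset.prod_pos htpos
  -- (F2): U^m * T ≥ (g m)^m
  have h1 := FIN1 (p := p) P
  have h2 := FIN2 s (fun y => tc (P : Subgroup G) y) htpos
  have hF2 : (g * m) ^ m ≤ U ^ m * T := by
    have hR : ((g * m : ℕ) : ℝ) ^ m ≤ (U : ℝ) ^ m * (T : ℝ) := by
      have hU' : (U : ℝ) = (g : ℝ) * ∑ y ∈ s, (1 : ℝ) / (tc (P : Subgroup G) y : ℝ) := h1
      rw [hscard] at h2
      have hg0 : (0 : ℝ) ≤ (g : ℝ) ^ m := by positivity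
      have hTc : (T : ℝ) = ∏ i ∈ s, ((tc (P : Subgroup G) i : ℕ) : ℝ) := by
        rw [hT]; push_cast; rfl
      calc ((g * m : ℕ) : ℝ) ^ m = (g : ℝ) ^ m * (m : ℝ) ^ m := by push_cast; ring
        _ ≤ (g : ℝ) ^ m * ((∑ i ∈ s, (1 : ℝ) / (tc (P : Subgroup G) i : ℝ)) ^ m *
              ∏ i ∈ s, ((tc (P : Subgroup G) i : ℕ) : ℝ)) :=
            mul_le_mul_of_nonneg_left h2 hg0
        _ = ((g : ℝ) * ∑ y ∈ s, (1 : ℝ) / (tc (P : Subgroup G) y : ℝ)) ^ m *
              ∏ i ∈ s, ((tc (P : Subgroup G) i : ℕ) : ℝ) := by ring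
        _ = (U : ℝ) ^ m * (T : ℝ) := by rw [← hU', ← hTc]
    exact_mod_cast hR
  -- combine with (LG)
  have hLG' : T ^ p ≤ c ^ ((p - 1) * m) * g ^ m := hLG
  have h3 : (g * m) ^ (m * p) ≤ U ^ (m * p) * (c ^ ((p - 1) * m) * g ^ m) := by
    calc (g * m) ^ (m * p) = ((g * m) ^ m) ^ p := by rw [pow_mul]
      _ ≤ (U ^ m * T) ^ p := Nat.pow_le_pow_left hF2 p
      _ = U ^ (m * p) * T ^ p := by rw [mul_pow, ← pow_mul]
      _ ≤ U ^ (m * p) * (c ^ ((p - 1) * m) * g ^ m) := Nat.mul_le_mul_left _ hLG'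
  -- cancel
  obtain ⟨q, hq⟩ : ∃ q, p = q + 1 := ⟨p - 1, by have := hp.pos; omega⟩
  have h4 : (m ^ p * n ^ (p - 1)) ^ m * (c ^ ((p - 1) * m) * g ^ m) = (g * m) ^ (m * p) := by
    rw [hgnc, hq]
    simp only [Nat.add_sub_cancel]
    ring
  have h5 : (m ^ p * n ^ (p - 1)) ^ m * (c ^ ((p - 1) * m) * g ^ m)
      ≤ (U ^ p) ^ m * (c ^ ((p - 1) * m) * g ^ m) := by
    rw [h4, ← pow_mul, mul_comm p m]
    exact h3
  have h6 : (m ^ p * n ^ (p - 1)) ^ m ≤ (U ^ p) ^ m :=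
    Nat.le_of_mul_le_mul_right h5 (by positivity)
  exact (Nat.pow_le_pow_iff_left hmpos.ne').1 h6

end Cfsg.Agent.S4091
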