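import Cfsg.Statements.S4092
import Cfsg.Agent.Helper11.SylowInter
import Cfsg.Agent.Helper1.SylowBasic
import Mathlib

set_option autoImplicit false
open Cfsg

namespace Cfsg.Agent.S4092

open Pointwise

section
variable {G : Type*} [Group G]

theorem mem_smul_sylow_iff {p : ℕ} (Q : Sylow p G) (y v : G) :
    v ∈ ((y • Q : Sylow p G) : Subgroup G) ↔ y⁻¹ * v * y ∈ (Q : Subgroup G) := by
  rw [Sylow.coe_subgroup_smul]
  exact Cfsg.Agent.Helper1.mem_conj_smul_iff _ y v

theorem normalizer_sup_of_mem (A B : Subgroup G) (g : G)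
    (hA : g ∈ Subgroup.normalizer (A : Set G)) (hB : g ∈ Subgroup.normalizer (B : Set G)) :
    ∀ n ∈ A ⊔ B, g * n * g⁻¹ ∈ A ⊔ B := by
  have h1 : A ≤ (A ⊔ B).comap (MulAut.conj g).toMonoidHom := by
    intro n hn
    rw [Subgroup.mem_comap]
    exact Subgroup.mem_sup_left ((Subgroup.mem_normalizer_iff.1 hA n).1 hn)
  have h2 : B ≤ (A ⊔ B).comap (MulAut.conj g).toMonoidHom := by
    intro n hn
    rw [Subgroup.mem_comap]
    exact Subgroup.mem_sup_right ((Subgroup.mem_normalizer_iff.1 hB n).1 hn)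
  intro n hn
  have := (sup_le h1 h2) hn
  rwa [Subgroup.mem_comap] at this

theorem card_lt_of_lt [Finite G] {A B : Subgroup G} (h : A < B) : Nat.card A < Nat.card B := by
  have h1 : (A : Set G) ⊂ (B : Set G) := SetLike.coe_ssubset_coe.mpr h
  exact Set.ncard_lt_ncard h1 (Set.toFinite _)

open Classical in
theorem card_filter_mem [Fintype G] (H : Subgroup G) :
    (Finset.univ.filter (· ∈ H)).card = Nat.card H := by
  rw [Nat.card_eq_fintype_card]
  exact (Fintype.card_of_subtype _ (by simp)).symm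

/-- the key fusion claim -/
theorem key_claim [Finite G] (p : ℕ) [hp : Fact p.Prime] (P Q : Sylow p G) (hPQ : P ≠ Q)
    (hmax : ∀ R₁ R₂ : Sylow p G, R₁ ≠ R₂ →
      Nat.card ((R₁ : Subgroup G) ⊓ R₂ : Subgroup G) ≤ Nat.card ((P : Subgroup G) ⊓ Q : Subgroup G))
    (y v : G) (hy : y ∈ (P : Subgroup G))
    (hvQ : v ∈ (Q : Subgroup G))
    (hvN : v ∈ Subgroup.normalizer ((((P : Subgroup G) ⊓ Q : Subgroup G)) : Set G))
    (hv'Q : y * v * y⁻¹ ∈ (Q : Subgroup G))
    (hv'N : y * v * y⁻¹ ∈ Subgroup.normalizer ((((P : Subgroup G) ⊓ Q : Subgroup G)) : Set G))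
    (hv'P : y * v * y⁻¹ ∉ (P : Subgroup G)) :
    y ∈ (Q : Subgroup G) := by
  set D : Subgroup G := (P : Subgroup G) ⊓ Q with hD
  set v' := y * v * y⁻¹ with hv'
  -- suffices y • Q = Q
  by_contra hyQ
  have hQy : (y • Q : Sylow p G) ≠ Q := by
    intro h
    have h1 : y ∈ Subgroup.normalizer ((Q : Subgroup G) : Set G) := Sylow.smul_eq_iff_mem_normalizer.1 h
    have h2 : y ∈ (P : Subgroup G) ⊓ Subgroup.normalizer ((Q : Subgroup G) : Set G) := ⟨hy, h1⟩
    have h3 : y ∈ (P : Subgroup G) ⊓ Q := (le_of_eq (P.isPGroup'.inf_normalizer_sylow Q)) h2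
    exact hyQ h3.2
  have hv'Qy : v' ∈ ((y • Q : Sylow p G) : Subgroup G) := by
    rw [mem_smul_sylow_iff, hv']
    have : y⁻¹ * (y * v * y⁻¹) * y = v := by group
    rw [this]; exact hvQ
  set Dy : Subgroup G := (P : Subgroup G) ⊓ ((y • Q : Sylow p G) : Subgroup G) with hDy
  -- Dy = y D y⁻¹
  have hDy_mem : ∀ g, g ∈ Dy ↔ y⁻¹ * g * y ∈ D := by
    intro g
    rw [hDy, hD, Subgroup.mem_inf, Subgroup.mem_inf, mem_smul_sylow_iff]
    constructor
    · rintro ⟨h1, h2⟩
      exact ⟨Subgroup.mul_mem _ (Subgroup.mul_mem _ (Subgroup.inv_mem _ hy) h1) hy, h2⟩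
    · rintro ⟨h1, h2⟩
      refine ⟨?_, h2⟩
      have : g = y * (y⁻¹ * g * y) * y⁻¹ := by group
      rw [this]
      exact Subgroup.mul_mem _ (Subgroup.mul_mem _ hy h1) (Subgroup.inv_mem _ hy)
  have hcardDy : Nat.card Dy = Nat.card D := by
    have : Dy = D.map (MulAut.conj y).toMonoidHom := by
      ext g
      rw [hDy_mem, Cfsg.Agent.Helper1.mem_map_conj_iff]
    rw [this, Subgroup.card_map_of_injective (MulAut.conj y).injective]
  have hv'Dy : v' ∈ Subgroup.normalizer (Dy : Set G) := by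
    apply Subgroup.mem_normalizer_fintype
    intro n hn
    have hn' : y⁻¹ * n * y ∈ D := (hDy_mem n).1 hn
    show v' * n * v'⁻¹ ∈ Dy
    rw [hDy_mem]
    have : y⁻¹ * (v' * n * v'⁻¹) * y = v * (y⁻¹ * n * y) * v⁻¹ := by rw [hv']; group
    rw [this]
    exact (Subgroup.mem_normalizer_iff.1 hvN _).1 hn'
  have hv'D : v' ∉ D := fun h => hv'P h.1
  by_cases hDD : Dy = D
  · -- D < Q ⊓ Qy
    have hle : D ≤ (Q : Subgroup G) ⊓ ((y • Q : Sylow p G) : Subgroup G) := by
      have h0 : Dy ≤ ((y • Q : Sylow p G) : Subgroup G) := inf_le_right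
      exact le_inf inf_le_right (hDD ▸ h0)
    have hlt : D < (Q : Subgroup G) ⊓ ((y • Q : Sylow p G) : Subgroup G) := by
      refine lt_of_le_of_ne hle ?_
      intro h
      apply hv'D
      rw [h]; exact ⟨hv'Q, hv'Qy⟩
    have h1 := card_lt_of_lt hlt
    have h2 := hmax Q (y • Q) hQy.symm
    omega
  · -- E = D ⊔ Dy
    have hDltE : D < D ⊔ Dy := by
      refine lt_of_le_of_ne le_sup_left ?_
      intro h
      have hle : Dy ≤ D := h ▸ le_sup_right
      exact hDD (Subgroup.eq_of_le_of_card_ge hle (le_of_eq hcardDy.symm))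
    have hEP : D ⊔ Dy ≤ (P : Subgroup G) := sup_le inf_le_left inf_le_left
    have hEp : IsPGroup p (D ⊔ Dy : Subgroup G) := P.isPGroup'.to_le hEP
    have hzp : IsPGroup p (Subgroup.zpowers v') :=
      Q.isPGroup'.to_le (Subgroup.zpowers_le.2 hv'Q)
    have hzn : Subgroup.zpowers v' ≤ Subgroup.normalizer ((D ⊔ Dy : Subgroup G) : Set G) := by
      rw [Subgroup.zpowers_le]
      apply Subgroup.mem_normalizer_fintype
      exact normalizer_sup_of_mem D Dy v' hv'N hv'Dy
    have hL := IsPGroup.to_sup_of_normal_right' hzp hEp hzn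
    obtain ⟨R, hR⟩ := hL.exists_le_sylow
    have hRP : R ≠ P := by
      intro h
      apply hv'P
      rw [← h]
      exact hR (Subgroup.mem_sup_left (Subgroup.mem_zpowers v'))
    have h1 : D ⊔ Dy ≤ (R : Subgroup G) ⊓ P := le_inf (le_sup_right.trans hR) hEP
    have h2 := Subgroup.card_le_of_le h1
    have h3 := card_lt_of_lt hDltE
    have h4 := hmax R P hRP
    omega

open Classical in
theorem main [Finite G] (p : ℕ) [hp : Fact p.Prime] (P Q : Sylow p G) (hPQ : P ≠ Q)
    (hmax : ∀ R₁ R₂ : Sylow p G, R₁ ≠ R₂ →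
      Nat.card ((R₁ : Subgroup G) ⊓ R₂ : Subgroup G) ≤ Nat.card ((P : Subgroup G) ⊓ Q : Subgroup G)) :
    p * Nat.card (P : Subgroup G) ≤ Nat.card {g : G // ∃ k : ℕ, orderOf g = p ^ k} := by
  haveI : Fintype G := Fintype.ofFinite G
  set D : Subgroup G := (P : Subgroup G) ⊓ Q with hD
  have hDQ : D < (Q : Subgroup G) := by
    refine lt_of_le_of_ne inf_le_right ?_
    intro h
    have : (Q : Subgroup G) ≤ P := h ▸ inf_le_left
    exact hPQ (Cfsg.Agent.Helper11.sylow_eq_of_le Q P this).symm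
  have hN := Cfsg.Agent.Helper11.lt_inf_normalizer (Q : Subgroup G) D Q.isPGroup' hDQ
  set N : Subgroup G := (Q : Subgroup G) ⊓ Subgroup.normalizer (D : Set G) with hNdef
  have hdpos : 0 < Nat.card D := Nat.card_pos
  have hcardN : p * Nat.card D ≤ Nat.card N := by
    obtain ⟨i, hi⟩ := IsPGroup.iff_card.1 (Q.isPGroup'.to_le (inf_le_right : D ≤ Q))
    obtain ⟨j, hj⟩ := IsPGroup.iff_card.1 (Q.isPGroup'.to_le (inf_le_left : N ≤ Q))
    have hlt := card_lt_of_lt hN
    rw [hi, hj] at hlt ⊢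
    have hij : i < j := (Nat.pow_lt_pow_iff_right hp.out.one_lt).1 hlt
    calc p * p ^ i = p ^ (i + 1) := by rw [pow_succ, mul_comm]
      _ ≤ p ^ j := Nat.pow_le_pow_right hp.out.pos hij
  set W : Finset G := Finset.univ.filter (fun v => v ∈ (Q : Subgroup G) ∧
    v ∈ Subgroup.normalizer (D : Set G) ∧ v ∉ (P : Subgroup G)) with hW
  have hWcard : p * Nat.card D ≤ Nat.card D + W.card := by
    refine hcardN.trans ?_
    rw [← card_filter_mem N, ← card_filter_mem D]
    refine (Finset.card_le_card ?_).trans (Finset.card_union_le _ _)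
    intro v hv
    simp only [hNdef, hW, hD, Finset.mem_filter, Finset.mem_univ, true_and, Finset.mem_union,
      Subgroup.mem_inf] at hv ⊢
    by_cases hvP : v ∈ (P : Subgroup G)
    · left; exact ⟨hvP, hv.1⟩
    · right; exact ⟨hv.1, hv.2, hvP⟩
  set Pf : Finset G := Finset.univ.filter (· ∈ (P : Subgroup G)) with hPf
  set S : Finset (G × G) := Pf ×ˢ W with hS
  set ψ : G × G → G := fun q => q.1 * q.2 * q.1⁻¹ with hψ
  have hSmem : ∀ q : G × G, q ∈ S ↔ q.1 ∈ (P : Subgroup G) ∧ q.2 ∈ (Q : Subgroup G) ∧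
      q.2 ∈ Subgroup.normalizer (D : Set G) ∧ q.2 ∉ (P : Subgroup G) := by
    intro q
    simp only [hS, hPf, hW, Finset.mem_product, Finset.mem_filter, Finset.mem_univ, true_and]
  have hfiber : ∀ w ∈ S.image ψ, (S.filter (fun q => ψ q = w)).card ≤ Nat.card D := by
    intro w hw
    obtain ⟨⟨x, v⟩, hxv, hxvw⟩ := Finset.mem_image.1 hw
    obtain ⟨hxP, hvQ, hvN, hvP⟩ := (hSmem _).1 hxv
    simp only at hxP hvQ hvN hvP
    rw [← card_filter_mem D]
    apply Finset.card_le_card_of_injOn (fun q => q.1⁻¹ * x)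
    · rintro ⟨x', v'⟩ hq
      rw [Finset.coe_filter] at hq
      obtain ⟨hq1, hq2⟩ := hq
      obtain ⟨hx'P, hv'Q, hv'N, hv'P⟩ := (hSmem _).1 hq1
      simp only at hx'P hv'Q hv'N hv'P
      have hyP : x'⁻¹ * x ∈ (P : Subgroup G) := Subgroup.mul_mem _ (Subgroup.inv_mem _ hx'P) hxP
      have hv'eq : (x'⁻¹ * x) * v * (x'⁻¹ * x)⁻¹ = v' := by
        have e1 : x' * v' * x'⁻¹ = x * v * x⁻¹ := by
          have h1 : ψ (x', v') = w := hq2
          have h2 : ψ (x, v) = w := hxvw
          simp only [hψ] at h1 h2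
          rw [h1, h2]
        calc (x'⁻¹ * x) * v * (x'⁻¹ * x)⁻¹ = x'⁻¹ * (x * v * x⁻¹) * x' := by group
          _ = x'⁻¹ * (x' * v' * x'⁻¹) * x' := by rw [e1]
          _ = v' := by group
      have hyQ : x'⁻¹ * x ∈ (Q : Subgroup G) :=
        key_claim p P Q hPQ hmax (x'⁻¹ * x) v hyP hvQ hvN (hv'eq ▸ hv'Q) (hv'eq ▸ hv'N)
          (hv'eq ▸ hv'P)
      simp only [Finset.coe_filter, Finset.mem_univ, true_and, Set.mem_setOf_eq]
      exact ⟨hyP, hyQ⟩
    · rintro ⟨x', v'⟩ hq ⟨x'', v''⟩ hq' heq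
      rw [Finset.coe_filter] at hq hq'
      have h1 : ψ (x', v') = w := hq.2
      have h2 : ψ (x'', v'') = w := hq'.2
      simp only [hψ] at h1 h2
      simp only at heq
      have hxx : x' = x'' := by
        have := mul_right_cancel heq
        exact inv_injective this
      subst hxx
      have hvv : v' = v'' := by
        have : x' * v' * x'⁻¹ = x' * v'' * x'⁻¹ := h1.trans h2.symm
        exact mul_left_cancel (mul_right_cancel this)
      rw [hvv]
  have h1 := Finset.card_le_mul_card_image S (Nat.card D) hfiber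
  have hScard : S.card = Nat.card (P : Subgroup G) * W.card := by
    rw [hS, Finset.card_product, hPf, card_filter_mem]
  rw [hScard] at h1
  -- p-elements
  set U : Finset G := Finset.univ.filter (fun g => ∃ k : ℕ, orderOf g = p ^ k) with hU
  have hUcard : Nat.card {g : G // ∃ k : ℕ, orderOf g = p ^ k} = U.card := by
    rw [Nat.card_eq_fintype_card]
    exact Fintype.card_of_subtype _ (by simp [hU])
  have hpelt : ∀ (R : Sylow p G) (g : G), g ∈ (R : Subgroup G) → ∃ k : ℕ, orderOf g = p ^ k := by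
    intro R g hg
    obtain ⟨k, hk⟩ := R.isPGroup' ⟨g, hg⟩
    have : g ^ p ^ k = 1 := by
      have := congrArg Subtype.val hk
      simpa using this
    obtain ⟨j, _, hj⟩ := (Nat.dvd_prime_pow hp.out).1 (orderOf_dvd_of_pow_eq_one this)
    exact ⟨j, hj⟩
  have hsub : Pf ∪ S.image ψ ⊆ U := by
    intro g hg
    rcases Finset.mem_union.1 hg with hg | hg
    · simp only [hPf, Finset.mem_filter, Finset.mem_univ, true_and] at hg
      simp only [hU, Finset.mem_filter, Finset.mem_univ, true_and]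
      exact hpelt P g hg
    · obtain ⟨⟨x, v⟩, hxv, rfl⟩ := Finset.mem_image.1 hg
      obtain ⟨hxP, hvQ, hvN, hvP⟩ := (hSmem _).1 hxv
      simp only at hvQ
      simp only [hU, hψ, Finset.mem_filter, Finset.mem_univ, true_and]
      obtain ⟨k, hk⟩ := hpelt Q v hvQ
      refine ⟨k, ?_⟩
      rw [← hk]
      have := orderOf_injective (MulAut.conj x).toMonoidHom (MulAut.conj x).injective v
      simpa using this
  have hdisj : Disjoint Pf (S.image ψ) := by
    rw [Finset.disjoint_left]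
    intro g hg hg'
    obtain ⟨⟨x, v⟩, hxv, rfl⟩ := Finset.mem_image.1 hg'
    obtain ⟨hxP, hvQ, hvN, hvP⟩ := (hSmem _).1 hxv
    simp only at hxP hvP
    simp only [hPf, hψ, Finset.mem_filter, Finset.mem_univ, true_and] at hg
    apply hvP
    have : v = x⁻¹ * (x * v * x⁻¹) * x := by group
    rw [this]
    exact Subgroup.mul_mem _ (Subgroup.mul_mem _ (Subgroup.inv_mem _ hxP) hg) hxP
  have h2 : Pf.card + (S.image ψ).card ≤ U.card := by
    rw [← Finset.card_union_of_disjoint hdisj]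
    exact Finset.card_le_card hsub
  rw [hPf, card_filter_mem] at h2
  rw [hUcard]
  -- arithmetic
  set d := Nat.card D with hd
  set n := Nat.card (P : Subgroup G) with hn
  set q := p - 1 with hq
  have hpq : p = q + 1 := by have := hp.out.pos; omega
  have e1 : q * d ≤ W.card := by
    have : p * d = q * d + d := by rw [hpq]; ring
    omega
  have e2 : (n * q) * d ≤ (S.image ψ).card * d := by
    calc (n * q) * d = n * (q * d) := by ring
      _ ≤ n * W.card := Nat.mul_le_mul_left _ e1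
      _ ≤ d * (S.image ψ).card := h1
      _ = (S.image ψ).card * d := by ring
  have e3 : n * q ≤ (S.image ψ).card := Nat.le_of_mul_le_mul_right e2 hdpos
  calc p * n = n * q + n := by rw [hpq]; ring
    _ ≤ (S.image ψ).card + n := Nat.add_le_add_right e3 _
    _ ≤ U.card := by omega

end

/-- Let G be a finite group, p a prime and P a Sylow p-subgroup of G that is not normal in G. Then G has at least p·#P elements of p-power order (the identity included). -/
theorem result {G : Type*} [Group G] [Finite G] (p : ℕ) [Fact p.Prime]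
    (P : Sylow p G) (hP : ¬ (P : Subgroup G).Normal) :
    p * Nat.card (P : Subgroup G) ≤ Nat.card {g : G // ∃ k : ℕ, orderOf g = p ^ k} := by
  classical
  haveI : Fintype (Sylow p G) := Fintype.ofFinite _
  have hex : ∃ Q : Sylow p G, Q ≠ P := by
    by_contra h
    push Not at h
    haveI : Subsingleton (Sylow p G) := ⟨fun a b => (h a).trans (h b).symm⟩
    exact hP (Sylow.normal_of_subsingleton P)
  obtain ⟨Q₀, hQ₀⟩ := hex
  let pairs : Finset (Sylow p G × Sylow p G) := Finset.univ.filter (fun q => q.1 ≠ q.2)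
  have hne : pairs.Nonempty := ⟨(P, Q₀), by simp [pairs, hQ₀.symm]⟩
  obtain ⟨⟨P₁, P₂⟩, hmem, hmax⟩ := Finset.exists_max_image pairs
    (fun q => Nat.card ((q.1 : Subgroup G) ⊓ q.2 : Subgroup G)) hne
  have h12 : P₁ ≠ P₂ := by simpa [pairs] using hmem
  have := main p P₁ P₂ h12 (fun R₁ R₂ hR => hmax (R₁, R₂) (by simp [pairs, hR]))
  rwa [Cfsg.Agent.Helper11.sylow_card_eq P₁ P] at this

end Cfsg.Agent.S4092
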