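import Cfsg.Statements.S4093
import Cfsg.Agent.Helper20.Sylow
import Cfsg.Agent.Helper20.SylowConj

set_option autoImplicit false
open scoped BigOperators
open Cfsg

namespace Cfsg.Agent.S4093

/-- The `N`-conjugacy class of `x`. -/
def nCls {G : Type*} [Group G] (N : Subgroup G) (x : G) : Set G :=
  Set.range (fun m : N => (m : G) * x * (m : G)⁻¹)

theorem card_nCls {G : Type*} [Group G] [Finite G] (N : Subgroup G) (x : G) :
    (nCls N x).ncard = Nat.card N / Nat.card ↥(N ⊓ Subgroup.centralizer ({x} : Set G)) := by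
  letI act : MulAction N G := MulAction.compHom G (MulAut.conj.comp N.subtype)
  have hsm : ∀ (m : N) (g : G), m • g = (m : G) * g * (m : G)⁻¹ := fun m g => rfl
  have h1 : nCls N x = MulAction.orbit N x := by
    ext g
    simp only [nCls, Set.mem_range, MulAction.mem_orbit_iff, hsm]
  have h2 : Nat.card (MulAction.stabilizer N x) =
      Nat.card ↥(N ⊓ Subgroup.centralizer ({x} : Set G)) := by
    have : (MulAction.stabilizer N x).map N.subtype = N ⊓ Subgroup.centralizer ({x} : Set G) := by
      ext g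
      simp only [Subgroup.mem_map, MulAction.mem_stabilizer_iff, hsm, Subgroup.mem_inf,
        Subgroup.mem_centralizer_iff, Set.mem_singleton_iff, forall_eq, Subgroup.subtype_apply]
      constructor
      · rintro ⟨m, hm, rfl⟩
        refine ⟨m.2, ?_⟩
        have := congrArg (· * (m : G)) hm
        simp only [inv_mul_cancel_right] at this
        exact this.symm
      · rintro ⟨hg, hc⟩
        refine ⟨⟨g, hg⟩, ?_, rfl⟩
        show g * x * g⁻¹ = x
        rw [← hc]; group
    rw [← this, Subgroup.card_map_of_injective N.subtype_injective]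
  have h3 : Nat.card (MulAction.orbit N x) * Nat.card (MulAction.stabilizer N x) = Nat.card N := by
    rw [← Nat.card_prod, Nat.card_congr (MulAction.orbitProdStabilizerEquivGroup N x)]
  rw [h1, ← h2, ← h3, Nat.card_coe_set_eq]
  rw [Nat.mul_div_cancel _ Nat.card_pos]

theorem result {G : Type*} [Group G] [Finite G] (p : ℕ) [Fact p.Prime]
    (P : Sylow p G) (N : Subgroup G) [N.Normal] (hNP : N.IsComplement' (P : Subgroup G)) :
    Nat.card {g : G // ∃ k : ℕ, orderOf g = p ^ k} =
      ∑ᶠ x : (P : Subgroup G), Nat.card N / Nat.card ↥(N ⊓ Subgroup.centralizer ({(x : G)} : Set G)) := by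
  have hdisj : Disjoint N (P : Subgroup G) := hNP.disjoint
  -- union
  have hU : {g : G | ∃ k : ℕ, orderOf g = p ^ k} = ⋃ x : (P : Subgroup G), nCls N (x : G) := by
    ext g
    simp only [Set.mem_setOf_eq, Set.mem_iUnion, nCls, Set.mem_range]
    constructor
    · rintro ⟨k, hk⟩
      obtain ⟨c, -, hc⟩ := Helper20.exists_mem_conj_mem_sylow ⊤ P le_top g trivial k hk
      -- c⁻¹ = n * y
      obtain ⟨⟨⟨n, hn⟩, ⟨y, hy⟩⟩, hny⟩ := hNP.2 c⁻¹
      simp only at hny
      refine ⟨⟨y * (c * g * c⁻¹) * y⁻¹, ?_⟩, ⟨n, hn⟩, ?_⟩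
      · exact (P : Subgroup G).mul_mem ((P : Subgroup G).mul_mem hy hc) ((P : Subgroup G).inv_mem hy)
      · simp only
        have hc' : c = y⁻¹ * n⁻¹ := by
          rw [← mul_inv_rev, hny, inv_inv]
        rw [hc']; group
    · rintro ⟨x, m, rfl⟩
      obtain ⟨a, ha⟩ := Helper20.orderOf_eq_pow_of_mem_pgroup (P : Subgroup G) P.2 (x : G) x.2
      refine ⟨a, ?_⟩
      rw [← ha]
      have : SemiconjBy (m : G) (x : G) ((m : G) * x * (m : G)⁻¹) := by
        unfold SemiconjBy; group
      exact this.orderOf_eq.symm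
  have hpd : Pairwise (Function.onFun Disjoint fun x : (P : Subgroup G) => nCls N (x : G)) := by
    intro x x' hxx'
    simp only [Function.onFun]
    rw [Set.disjoint_left]
    rintro g ⟨m, hm⟩ ⟨m', hm'⟩
    apply hxx'
    simp only at hm hm'
    -- x'⁻¹ x ∈ N
    have h1 : (x : G)⁻¹ * (x' : G) ∈ N := by
      rw [← QuotientGroup.eq (s := N)]
      have e1 : (QuotientGroup.mk g : G ⧸ N) = QuotientGroup.mk (x : G) := by
        rw [← hm, QuotientGroup.mk_mul, QuotientGroup.mk_mul, QuotientGroup.mk_inv,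
          (QuotientGroup.eq_one_iff (m : G)).2 m.2]
        simp
      have e2 : (QuotientGroup.mk g : G ⧸ N) = QuotientGroup.mk (x' : G) := by
        rw [← hm', QuotientGroup.mk_mul, QuotientGroup.mk_mul, QuotientGroup.mk_inv,
          (QuotientGroup.eq_one_iff (m' : G)).2 m'.2]
        simp
      rw [← e1, e2]
    have h2 : (x : G)⁻¹ * (x' : G) ∈ (P : Subgroup G) :=
      (P : Subgroup G).mul_mem ((P : Subgroup G).inv_mem x.2) x'.2
    have h3 := Subgroup.disjoint_def.1 hdisj h1 h2
    ext
    exact (inv_mul_eq_one.1 h3)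
  have hc : Nat.card {g : G // ∃ k : ℕ, orderOf g = p ^ k} =
      ({g : G | ∃ k : ℕ, orderOf g = p ^ k}).ncard := (Nat.card_coe_set_eq _)
  rw [hc, hU, Set.ncard_iUnion_of_finite (fun _ => Set.toFinite _) hpd]
  exact finsum_congr (fun x => card_nCls N (x : G))

end Cfsg.Agent.S4093
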