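import Cfsg.Statements.S4107
import Cfsg.Agent.Helper7.Fitting
import Cfsg.Agent.Helper14.PCore
import Cfsg.Agent.S0064
import Cfsg.Agent.Helper20.Sylow

set_option autoImplicit false
open Cfsg

namespace Cfsg.Agent.S4107

open Cfsg.Agent.Helper7 Cfsg.Agent.Helper14

/-- Elements of `r`-power order of the Fitting subgroup lie in `O_r(G)`. -/
theorem mem_pCore_of_mem_fit {G : Type*} [Group G] [Finite G] {r : ℕ} [Fact r.Prime] {w : G}
    (hw : w ∈ fittingSubgroup G) {j : ℕ} (hwr : orderOf w = r ^ j) : w ∈ pCore r G := by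
  have hnil : Group.IsNilpotent (fittingSubgroup G) := fittingSubgroup_isNilpotent
  have hsub : (Subgroup.zpowers (⟨w, hw⟩ : fittingSubgroup G)).IsSubnormal :=
    (Cfsg.Agent.S0064.result.mp hnil) _
  have hsubG := hsub.trans' (fittingSubgroup_normal G).isSubnormal
  have hmap : (Subgroup.zpowers (⟨w, hw⟩ : fittingSubgroup G)).map (fittingSubgroup G).subtype =
      Subgroup.zpowers w := by
    rw [MonoidHom.map_zpowers]; rfl
  rw [hmap] at hsubG
  have hp : IsPGroup r (Subgroup.zpowers w) :=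
    IsPGroup.of_card (n := j) (by rw [Nat.card_zpowers, hwr])
  exact subnormal_pGroup_le_pCore hsubG hp (Subgroup.mem_zpowers w)

section
variable {G : Type*} [Group G] [Finite G] (N : Subgroup G)
  (heq : ∀ x : G, x ∉ N → ∀ n ∈ N, orderOf (x * n) = orderOf x)

include heq in
/-- Key lemma: an element of `O_p(G)` outside `N` forces `N` to be a `p`-group. -/
theorem isPGroup_of_mem_pCore (p : ℕ) [Fact p.Prime] (x : G) (hx : x ∈ pCore p G) (hxN : x ∉ N) :
    IsPGroup p N := by
  obtain ⟨a, ha⟩ := Helper20.orderOf_eq_pow_of_mem_pgroup (pCore p G) (pCore_isPGroup p) x hx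
  intro n
  have h1 : orderOf (x * (n : G)) = p ^ a := by rw [heq x hxN n n.2, ha]
  -- (x n)^(p^a) = 1, so n^(p^a) ∈ O_p
  have h2 : ((QuotientGroup.mk (x * (n : G)) : G ⧸ pCore p G)) ^ (p ^ a) = 1 := by
    rw [← QuotientGroup.mk_pow, ← h1, pow_orderOf_eq_one, QuotientGroup.mk_one]
  rw [QuotientGroup.mk_mul, (QuotientGroup.eq_one_iff x).2 hx, one_mul, ← QuotientGroup.mk_pow,
    QuotientGroup.eq_one_iff] at h2
  obtain ⟨b, hb⟩ := Helper20.orderOf_eq_pow_of_mem_pgroup (pCore p G) (pCore_isPGroup p) _ h2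
  refine ⟨a + b, ?_⟩
  have h3 : ((n : G) ^ p ^ a) ^ p ^ b = 1 := by rw [← hb, pow_orderOf_eq_one]
  ext
  rw [Subgroup.coe_pow, Subgroup.coe_one, pow_add, pow_mul]
  exact h3

/-- an element of `F(G)` outside `N` yields a prime-power-order such element -/
theorem exists_primePow_elt : ∀ (k : ℕ) (x : G), orderOf x = k → x ∈ fittingSubgroup G → x ∉ N →
    ∃ (p : ℕ) (_ : Fact p.Prime) (y : G) (a : ℕ), y ∈ fittingSubgroup G ∧ y ∉ N ∧ orderOf y = p ^ a := by
  intro k
  induction k using Nat.strong_induction_on with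
  | _ k ih =>
  intro x hk hxF hxN
  have hx1 : x ≠ 1 := fun h => hxN (h ▸ N.one_mem)
  have ho : orderOf x ≠ 1 := by rwa [Ne, orderOf_eq_one_iff]
  obtain ⟨p, hp, hpd⟩ := Nat.exists_prime_and_dvd ho
  haveI : Fact p.Prime := ⟨hp⟩
  obtain ⟨a, m, s, t, hcop, hv, hdec⟩ := Helper20.exists_pow_decomp p x
  by_cases hvN : x ^ m ∈ N
  · -- then x^(p^a) ∉ N and has smaller order
    have huN : x ^ (p ^ a) ∉ N := by
      intro hu
      apply hxN
      rw [hdec]
      exact N.mul_mem (N.zpow_mem hu s) (N.zpow_mem hvN t)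
    have hlt : orderOf (x ^ (p ^ a)) < k := by
      rw [← hk]
      have hdvd : orderOf (x ^ (p ^ a)) ∣ orderOf x := orderOf_pow_dvd _
      refine lt_of_le_of_ne (Nat.le_of_dvd (orderOf_pos x) hdvd) ?_
      intro h
      rw [h] at hcop
      exact hp.one_lt.ne' (Nat.Coprime.eq_one_of_dvd hcop.symm hpd)
    exact ih _ hlt _ rfl ((fittingSubgroup G).pow_mem hxF _) huN
  · exact ⟨p, inferInstance, x ^ m, a, (fittingSubgroup G).pow_mem hxF _, hvN, hv⟩

end

theorem result {G : Type*} [Group G] [Finite G] (N : Subgroup G) [N.Normal] (hN1 : N ≠ ⊥) (hN2 : N ≠ ⊤)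
    (heq : ∀ x : G, x ∉ N → ∀ n ∈ N, orderOf (x * n) = orderOf x) :
    (N ≤ Cfsg.fittingSubgroup G ∨ Cfsg.fittingSubgroup G ≤ N) ∧
    (N < Cfsg.fittingSubgroup G → IsPrimePow (Nat.card (Cfsg.fittingSubgroup G))) := by
  have key : ¬ fittingSubgroup G ≤ N → ∃ (p : ℕ) (_ : Fact p.Prime), IsPGroup p N := by
    intro h
    obtain ⟨x, hxF, hxN⟩ := SetLike.not_le_iff_exists.1 h
    obtain ⟨p, hp, y, a, hyF, hyN, hya⟩ := exists_primePow_elt N _ x rfl hxF hxN
    exact ⟨p, hp, isPGroup_of_mem_pCore N heq p y (mem_pCore_of_mem_fit hyF hya) hyN⟩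
  constructor
  · by_cases h : fittingSubgroup G ≤ N
    · exact Or.inr h
    · left
      obtain ⟨p, hp, hNp⟩ := key h
      exact (le_pCore p inferInstance hNp).trans (pCore_le_fittingSubgroup p)
  · intro hlt
    have h : ¬ fittingSubgroup G ≤ N := not_le_of_gt hlt
    obtain ⟨p, hp, hNp⟩ := key h
    -- F is a p-group
    have hFp : IsPGroup p (fittingSubgroup G) := by
      intro z
      by_contra hz
      -- the order of z is not a power of p
      have hoz : ¬ ∃ k, orderOf (z : G) = p ^ k := by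
        rintro ⟨k, hk⟩
        apply hz
        refine ⟨k, ?_⟩
        ext
        rw [Subgroup.coe_pow, Subgroup.coe_one, ← hk, pow_orderOf_eq_one]
      -- a prime q ≠ p dividing the order
      have hq : ∃ q : ℕ, q.Prime ∧ q ∣ orderOf (z : G) ∧ q ≠ p := by
        by_contra hcon
        push Not at hcon
        apply hoz
        refine ⟨(orderOf (z : G)).primeFactorsList.length, ?_⟩
        exact Nat.eq_prime_pow_of_unique_prime_dvd (orderOf_pos _).ne'
          (fun {d} hd hdd => hcon d hd hdd)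
      obtain ⟨q, hqp, hqd, hqne⟩ := hq
      haveI : Fact q.Prime := ⟨hqp⟩
      set w := (z : G) ^ (orderOf (z : G) / q) with hw
      have how : orderOf w = q := orderOf_pow_orderOf_div (orderOf_pos _).ne' hqd
      have hwF : w ∈ fittingSubgroup G := (fittingSubgroup G).pow_mem z.2 _
      have hwN : w ∉ N := by
        intro hwN
        obtain ⟨b, hb⟩ := Helper20.orderOf_eq_pow_of_mem_pgroup N hNp w hwN
        rw [how] at hb
        have : q ∣ p ^ b := by rw [← hb]
        have := (Nat.prime_dvd_prime_iff_eq hqp hp.out).1 (hqp.dvd_of_dvd_pow this)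
        exact hqne this
      have hNq : IsPGroup q N :=
        isPGroup_of_mem_pCore N heq q w (mem_pCore_of_mem_fit hwF (j := 1) (by rw [how, pow_one])) hwN
      -- N ≠ ⊥ is both p- and q-group
      obtain ⟨n, hn1⟩ := (Subgroup.ne_bot_iff_exists_ne_one).1 hN1
      obtain ⟨i, hi⟩ := hNp n
      obtain ⟨j, hj⟩ := hNq n
      have h1 : orderOf n ∣ p ^ i := orderOf_dvd_of_pow_eq_one hi
      have h2 : orderOf n ∣ q ^ j := orderOf_dvd_of_pow_eq_one hj
      have hcop : Nat.Coprime (p ^ i) (q ^ j) :=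
        Nat.Coprime.pow _ _ ((Nat.coprime_primes hp.out hqp).2 (Ne.symm hqne))
      have h3 : orderOf n = 1 := Nat.eq_one_of_dvd_coprimes hcop h1 h2
      exact hn1 (orderOf_eq_one_iff.1 h3)
    obtain ⟨k, hk⟩ := IsPGroup.iff_card.1 hFp
    rw [hk]
    have hk0 : k ≠ 0 := by
      rintro rfl
      rw [pow_zero] at hk
      have : fittingSubgroup G = ⊥ := Subgroup.card_eq_one.1 hk
      rw [this] at hlt
      exact not_lt_bot hlt
    exact IsPrimePow.pow hp.out.isPrimePow hk0

end Cfsg.Agent.S4107
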