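import Cfsg.Statements.S4108

set_option autoImplicit false
open Cfsg
open scoped Pointwise

namespace Cfsg.Agent.S4108

theorem mem_conj_smul {G : Type*} [Group G] (H : Subgroup G) (g x : G) :
    x ∈ MulAut.conj g • H ↔ g⁻¹ * x * g ∈ H := by
  rw [Subgroup.mem_pointwise_smul_iff_inv_smul_mem]
  simp [MulAut.smul_def]

theorem frob_of_fpf {K : Type*} [Group K] [Finite K] (N H : Subgroup K) [N.Normal]
    (hsup : N ⊔ H = ⊤) (hdisj : N ⊓ H = ⊥) (hH : H ≠ ⊥) (hN : N ≠ ⊥)
    (hfpf : ∀ h ∈ H, h ≠ 1 → ∀ n ∈ N, h * n = n * h → n = 1) :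
    Cfsg.IsFrobeniusComplement H ∧ Cfsg.frobeniusKernel H = (N : Set K) := by
  have hdec : ∀ g : K, ∃ n ∈ N, ∃ h ∈ H, g = n * h := by
    intro g
    have hg : g ∈ ((N ⊔ H : Subgroup K) : Set K) := by rw [hsup]; trivial
    rw [Subgroup.normal_mul, Set.mem_mul] at hg
    obtain ⟨n, hn, h, hh, rfl⟩ := hg
    exact ⟨n, hn, h, hh, rfl⟩
  have hNH : ∀ x, x ∈ N → x ∈ H → x = 1 := by
    intro x h1 h2
    have : x ∈ N ⊓ H := ⟨h1, h2⟩
    rw [hdisj] at this
    exact Subgroup.mem_bot.1 this
  refine ⟨⟨hH, ?_, ?_⟩, ?_⟩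
  · intro htop
    apply hN
    rw [← hdisj, htop, inf_top_eq]
  · intro g hg
    obtain ⟨n, hn, h, hh, rfl⟩ := hdec g
    have hn1 : n ≠ 1 := by
      rintro rfl
      apply hg
      simpa using hh
    rw [eq_bot_iff]
    intro a ha
    rw [Subgroup.mem_inf, mem_conj_smul] at ha
    obtain ⟨ha1, ha2⟩ := ha
    rw [Subgroup.mem_bot]
    by_contra ha0
    have hb : n⁻¹ * a * n ∈ H := by
      have := H.mul_mem (H.mul_mem hh ha2) (H.inv_mem hh)
      convert this using 1
      group
    have hab : a⁻¹ * (n⁻¹ * a * n) = 1 := by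
      apply hNH
      · have h1 : a⁻¹ * n⁻¹ * a⁻¹⁻¹ ∈ N :=
          Subgroup.Normal.conj_mem inferInstance _ (N.inv_mem hn) _
        have := N.mul_mem h1 hn
        convert this using 1
        group
      · exact H.mul_mem (H.inv_mem ha1) hb
    have hcomm : a * n = n * a := by
      have h1 : n⁻¹ * a * n = a := by
        have := congrArg (a * ·) hab
        simpa using this
      calc a * n = n * (n⁻¹ * a * n) := by group
        _ = n * a := by rw [h1]
    exact hn1 (hfpf a ha1 ha0 n hn hcomm)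
  · ext x
    simp only [Cfsg.frobeniusKernel, Set.mem_setOf_eq, SetLike.mem_coe]
    constructor
    · intro hx
      by_contra hxN
      obtain ⟨n, hn, h, hh, rfl⟩ := hdec x
      have hh1 : h ≠ 1 := by
        rintro rfl
        apply hxN
        simpa using hn
      have hx' : ∀ g : K, n * h ∉ MulAut.conj g • H := by
        rcases hx with hx | hx
        · exfalso
          apply hxN
          rw [hx]; exact N.one_mem
        · exact hx
      -- the map m ↦ m h m⁻¹ h⁻¹ on N
      let φ : N → N := fun m => ⟨(m : K) * h * (m : K)⁻¹ * h⁻¹, by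
        have h1 : h * (m : K)⁻¹ * h⁻¹ ∈ N :=
          Subgroup.Normal.conj_mem inferInstance _ (N.inv_mem m.2) _
        have := N.mul_mem m.2 h1
        convert this using 1
        group⟩
      have hinj : Function.Injective φ := by
        intro m m' hmm
        have h1 : (m : K) * h * (m : K)⁻¹ * h⁻¹ = (m' : K) * h * (m' : K)⁻¹ * h⁻¹ :=
          congrArg Subtype.val hmm
        have h2 : (m : K) * h * (m : K)⁻¹ = (m' : K) * h * (m' : K)⁻¹ := mul_right_cancel h1
        have h3 : h * ((m' : K)⁻¹ * (m : K)) = ((m' : K)⁻¹ * (m : K)) * h := by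
          calc h * ((m' : K)⁻¹ * (m : K)) = (m' : K)⁻¹ * ((m' : K) * h * (m' : K)⁻¹) * (m : K) := by group
            _ = (m' : K)⁻¹ * ((m : K) * h * (m : K)⁻¹) * (m : K) := by rw [h2]
            _ = ((m' : K)⁻¹ * (m : K)) * h := by group
        have h4 := hfpf h hh hh1 _ (N.mul_mem (N.inv_mem m'.2) m.2) h3
        ext
        exact (inv_mul_eq_one.1 h4).symm
      have hsurj : Function.Surjective φ := Finite.injective_iff_surjective.1 hinj
      obtain ⟨m, hm⟩ := hsurj ⟨n, hn⟩
      have hm' : (m : K) * h * (m : K)⁻¹ * h⁻¹ = n := congrArg Subtype.val hm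
      apply hx' (m : K)
      rw [mem_conj_smul, ← hm']
      convert hh using 1
      group
    · intro hx
      by_cases hx1 : x = 1
      · exact Or.inl hx1
      · right
        intro g hg
        rw [mem_conj_smul] at hg
        apply hx1
        have h1 : g⁻¹ * x * g⁻¹⁻¹ ∈ N := Subgroup.Normal.conj_mem inferInstance _ hx _
        rw [inv_inv] at h1
        have := hNH _ h1 hg
        have h2 : x = g * (g⁻¹ * x * g) * g⁻¹ := by group
        rw [h2, this]; group

theorem result {G : Type*} [Group G] [Finite G] (N : Subgroup G) [N.Normal] (hN1 : N ≠ ⊥) (hN2 : N ≠ ⊤)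
    (heq : ∀ x : G, x ∉ N → ∀ n ∈ N, orderOf (x * n) = orderOf x)
    (p : ℕ) [Fact p.Prime] (hNp : IsPGroup p N) :
    ∀ H : Subgroup G, H ≠ ⊥ → (Nat.card H).Coprime p →
      Cfsg.IsFrobeniusComplement (H.subgroupOf (N ⊔ H)) ∧ Cfsg.frobeniusKernel (H.subgroupOf (N ⊔ H)) = (N.subgroupOf (N ⊔ H) : Set ↥(N ⊔ H)) := by
  intro H hH hcop
  obtain ⟨k, hk⟩ := IsPGroup.iff_card.1 hNp
  have hcop' : (Nat.card N).Coprime (Nat.card H) := by
    rw [hk]
    exact (Nat.Coprime.pow_right k hcop).symm
  have hNH : N ⊓ H = ⊥ := disjoint_iff.1 (Subgroup.disjoint_of_coprime_natCard hcop')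
  apply frob_of_fpf (N.subgroupOf (N ⊔ H)) (H.subgroupOf (N ⊔ H))
  · exact codisjoint_iff.1 (Subgroup.codisjoint_subgroupOf_sup N H)
  · rw [eq_bot_iff]
    intro x hx
    rw [Subgroup.mem_inf, Subgroup.mem_subgroupOf, Subgroup.mem_subgroupOf] at hx
    have : (x : G) ∈ N ⊓ H := hx
    rw [hNH, Subgroup.mem_bot] at this
    rw [Subgroup.mem_bot]
    ext
    exact this
  · intro h
    apply hH
    rw [Subgroup.subgroupOf_eq_bot] at h
    rw [eq_bot_iff]
    intro x hx
    have : x ∈ H ⊓ (N ⊔ H) := ⟨hx, Subgroup.mem_sup_right hx⟩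
    rw [disjoint_iff.1 h] at this
    exact this
  · intro h
    apply hN1
    rw [Subgroup.subgroupOf_eq_bot] at h
    rw [eq_bot_iff]
    intro x hx
    have : x ∈ N ⊓ (N ⊔ H) := ⟨hx, Subgroup.mem_sup_left hx⟩
    rw [disjoint_iff.1 h] at this
    exact this
  · intro h hh hh1 n hn hc
    rw [Subgroup.mem_subgroupOf] at hh hn
    have hh1' : (h : G) ≠ 1 := fun e => hh1 (by ext; exact e)
    have hhN : (h : G) ∉ N := by
      intro hmem
      have : (h : G) ∈ N ⊓ H := ⟨hmem, hh⟩
      rw [hNH, Subgroup.mem_bot] at this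
      exact hh1' this
    have hc' : Commute (h : G) (n : G) := by
      have := congrArg Subtype.val hc
      simpa [Commute, SemiconjBy] using this
    have ho := heq (h : G) hhN (n : G) hn
    have hoh : orderOf (h : G) ∣ Nat.card H := by
      have := orderOf_dvd_natCard (⟨(h : G), hh⟩ : H)
      rwa [← Subgroup.orderOf_coe] at this
    have hon : orderOf (n : G) ∣ Nat.card N := by
      have := orderOf_dvd_natCard (⟨(n : G), hn⟩ : N)
      rwa [← Subgroup.orderOf_coe] at this
    have hcop2 : (orderOf (h : G)).Coprime (orderOf (n : G)) :=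
      Nat.Coprime.of_dvd hoh hon hcop'.symm
    rw [hc'.orderOf_mul_eq_mul_orderOf_of_coprime hcop2] at ho
    have hpos : 0 < orderOf (h : G) := orderOf_pos _
    have h1 : orderOf (n : G) = 1 := by
      have : orderOf (h : G) * orderOf (n : G) = orderOf (h : G) * 1 := by rw [ho, mul_one]
      exact Nat.eq_of_mul_eq_mul_left hpos this
    rw [orderOf_eq_one_iff] at h1
    ext
    exact h1

end Cfsg.Agent.S4108
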