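import Cfsg.Statements.S4112
import Cfsg.Agent.Helper20.PiSupplement
import Cfsg.Agent.Helper20.PiPart
import Cfsg.Agent.Lead.HallPrep
import Cfsg.Agent.Helper10.PGroupBasic

set_option autoImplicit false
open Cfsg

namespace Cfsg.Agent.S4112

section
variable {G : Type*} [Group G] [Finite G] (N M : Subgroup G)

/-- (1) ⇒ (2) -/
theorem coprime_of_fpf [M.Normal] (hMN : M ≤ N)
    (h1 : ∀ x ∈ M, x ≠ 1 → Subgroup.centralizer ({x} : Set G) ≤ N) :
    N.index.Coprime (Nat.card M) := by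
  apply Nat.coprime_of_dvd
  intro q hq hqN hqM
  haveI : Fact q.Prime := ⟨hq⟩
  obtain ⟨x, hx⟩ := exists_prime_orderOf_dvd_card' (G := M) q hqM
  have hxp : IsPGroup q (Subgroup.zpowers (x : G)) := by
    rw [IsPGroup.iff_card, Nat.card_zpowers, Subgroup.orderOf_coe, hx]
    exact ⟨1, (pow_one q).symm⟩
  obtain ⟨S, hS⟩ := hxp.exists_le_sylow
  have hxS : (x : G) ∈ (S : Subgroup G) := hS (Subgroup.mem_zpowers _)
  -- (S ⊓ M) inside S is normal and nontrivial
  haveI : (M.subgroupOf (S : Subgroup G)).Normal := inferInstance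
  have hne : M.subgroupOf (S : Subgroup G) ≠ ⊥ := by
    intro h
    have : (⟨(x : G), hxS⟩ : (S : Subgroup G)) ∈ M.subgroupOf (S : Subgroup G) := x.2
    rw [h, Subgroup.mem_bot] at this
    have hx1 : (x : G) = 1 := congrArg Subtype.val this
    have : x = 1 := Subtype.ext hx1
    rw [this, orderOf_one] at hx
    exact hq.one_lt.ne hx
  obtain ⟨z, hzM, hz1, hzc⟩ := Helper10.exists_ne_one_mem_inf_center (p := q)
    (G := (S : Subgroup G)) S.2 (M.subgroupOf (S : Subgroup G)) hne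
  have hzM' : (z : G) ∈ M := hzM
  have hz1' : (z : G) ≠ 1 := fun h => hz1 (Subtype.ext h)
  have hSN : (S : Subgroup G) ≤ N := by
    intro s hs
    apply h1 (z : G) hzM' hz1'
    rw [Subgroup.mem_centralizer_iff]
    intro w hw
    rw [Set.mem_singleton_iff] at hw
    rw [hw]
    have := Subgroup.mem_center_iff.1 hzc ⟨s, hs⟩
    exact (congrArg Subtype.val this).symm
  have hdvd : N.index ∣ (S : Subgroup G).index := Subgroup.index_dvd_of_le hSN
  exact S.not_dvd_index (hqN.trans hdvd)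

/-- (2) ⇒ (1) -/
theorem fpf_of_coprime [N.Normal]
    (hcam : ∀ g : G, g ∉ N → ∀ m ∈ M, ∃ x : G, x * g * x⁻¹ = g * m)
    (h2 : N.index.Coprime (Nat.card M)) :
    ∀ x ∈ M, x ≠ 1 → Subgroup.centralizer ({x} : Set G) ≤ N := by
  intro x hxM hx1 g hg
  by_contra hgN
  rw [Subgroup.mem_centralizer_iff] at hg
  have hgx : x * g = g * x := hg x (Set.mem_singleton _)
  obtain ⟨a, b, hab, hcopab, ha, hb⟩ :=
    Helper20.exists_pi_decomp {q | q ∣ Nat.card M} (orderOf g) (orderOf_pos g).ne'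
  -- a is coprime to N.index
  have haidx : Nat.Coprime a N.index := by
    apply Nat.coprime_of_dvd
    intro q hq hqa hqi
    have hqM : q ∣ Nat.card M := ha q hq hqa
    have := Nat.Coprime.eq_one_of_dvd (Nat.Coprime.coprime_dvd_left hqi h2) hqM
    exact hq.one_lt.ne' this
  -- b is coprime to |M|
  have hbM : Nat.Coprime b (Nat.card M) := by
    apply Nat.coprime_of_dvd
    intro q hq hqb hqM
    exact hb q hq hqb hqM
  -- v = g^a ∉ N
  have hvN : g ^ a ∉ N := by
    intro hv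
    apply hgN
    have h3 : g ^ N.index ∈ N := N.pow_index_mem g
    have hbz := Nat.gcd_eq_gcd_ab a N.index
    rw [haidx] at hbz
    have : g = (g ^ a) ^ (Nat.gcdA a N.index) * (g ^ N.index) ^ (Nat.gcdB a N.index) := by
      rw [← zpow_natCast, ← zpow_natCast, ← zpow_mul, ← zpow_mul, ← zpow_add, ← hbz]
      simp
    rw [this]
    exact N.mul_mem (N.zpow_mem hv _) (N.zpow_mem h3 _)
  have hvo : orderOf (g ^ a) ∣ b := by
    apply orderOf_dvd_of_pow_eq_one
    rw [← pow_mul, ← hab, pow_orderOf_eq_one]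
  have hvx : Commute (g ^ a) x := by
    have : Commute g x := hgx.symm
    exact this.pow_left a
  obtain ⟨c, hc⟩ := hcam (g ^ a) hvN x hxM
  have ho : orderOf (g ^ a * x) = orderOf (g ^ a) := by
    rw [← hc]
    have : SemiconjBy c (g ^ a) (c * g ^ a * c⁻¹) := by unfold SemiconjBy; group
    exact this.orderOf_eq.symm
  have hox : orderOf x ∣ Nat.card M := by
    have := orderOf_dvd_natCard (⟨x, hxM⟩ : M)
    rwa [← Subgroup.orderOf_coe] at this
  have hcop : (orderOf (g ^ a)).Coprime (orderOf x) :=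
    Nat.Coprime.of_dvd hvo hox hbM
  rw [hvx.orderOf_mul_eq_mul_orderOf_of_coprime hcop] at ho
  have hpos : 0 < orderOf (g ^ a) := orderOf_pos _
  have h5 : orderOf x = 1 := by
    have : orderOf (g ^ a) * orderOf x = orderOf (g ^ a) * 1 := by rw [ho, mul_one]
    exact Nat.eq_of_mul_eq_mul_left hpos this
  exact hx1 (orderOf_eq_one_iff.1 h5)

/-- (2) ⇒ (3) -/
theorem exists_supplement [N.Normal] [M.Normal] (hMN : M ≤ N) (h2 : N.index.Coprime (Nat.card M)) :
    ∃ H : Subgroup G, H ⊔ N = ⊤ ∧ H ⊓ M = ⊥ := by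
  let π := QuotientGroup.mk' M
  have hπ : Function.Surjective π := QuotientGroup.mk'_surjective M
  set Nb : Subgroup (G ⧸ M) := N.map π with hNb
  haveI : Nb.Normal := Subgroup.Normal.map inferInstance π hπ
  have hker : π.ker = M := QuotientGroup.ker_mk' M
  have hNbidx : Nb.index = N.index := Subgroup.index_map_eq N hπ (by rw [hker]; exact hMN)
  obtain ⟨Xb, hXb, hXbr⟩ := Helper20.exists_pi_supplement Nb
  set X : Subgroup G := Xb.comap π with hX
  have hMX : M ≤ X := by
    rw [← hker]; exact Subgroup.ker_le_comap π Xb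
  have hXcard : Nat.card X = Nat.card Xb * Nat.card M := Lead.card_comap_mk' M Xb
  have hXN : X ⊔ N = ⊤ := by
    have h1 : Nb.comap π = N := by
      rw [hNb, Subgroup.comap_map_eq, hker]
      exact sup_eq_left.2 hMN
    rw [← h1, hX, Subgroup.comap_sup_eq π Xb Nb hπ, hXb, Subgroup.comap_top]
  -- inside X
  set M' : Subgroup X := M.subgroupOf X with hM'
  haveI : M'.Normal := inferInstance
  have hM'card : Nat.card M' = Nat.card M :=
    Nat.card_congr (Subgroup.subgroupOfEquivOfLe hMX).toEquiv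
  have hM'idx : M'.index = Nat.card Xb := by
    have h1 := Subgroup.index_mul_card M'
    rw [hM'card, hXcard] at h1
    exact Nat.eq_of_mul_eq_mul_right Nat.card_pos h1
  have hcop : (Nat.card M').Coprime M'.index := by
    rw [hM'card, hM'idx]
    apply Nat.coprime_of_dvd
    intro q hq hqM hqX
    have hqN : q ∣ N.index := hNbidx ▸ hXbr q hq hqX
    have := Nat.Coprime.eq_one_of_dvd (Nat.Coprime.coprime_dvd_left hqN h2) hqM
    exact hq.one_lt.ne' this
  obtain ⟨H', hH'⟩ := Subgroup.exists_right_complement'_of_coprime hcop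
  refine ⟨H'.map X.subtype, ?_, ?_⟩
  · have h1 : (M' ⊔ H').map X.subtype = X := by
      rw [hH'.sup_eq_top, ← MonoidHom.range_eq_map, Subgroup.range_subtype]
    rw [Subgroup.map_sup, hM', Subgroup.subgroupOf_map_subtype] at h1
    rw [eq_top_iff, ← hXN, sup_le_iff]
    refine ⟨?_, le_sup_right⟩
    have h2 : M ⊓ X ⊔ H'.map X.subtype ≤ H'.map X.subtype ⊔ N :=
      sup_le (inf_le_left.trans (hMN.trans le_sup_right)) le_sup_left
    exact (le_of_eq h1.symm).trans h2
  · rw [eq_bot_iff]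
    rintro h ⟨⟨h', hh', rfl⟩, hhM⟩
    have : h' ∈ M' ⊓ H' := ⟨hhM, hh'⟩
    rw [disjoint_iff.1 hH'.disjoint, Subgroup.mem_bot] at this
    rw [Subgroup.mem_bot, this]
    rfl

end

theorem result {G : Type*} [Group G] [Finite G] (N M : Subgroup G) [N.Normal] [M.Normal] (hMN : M ≤ N) (hM1 : M ≠ ⊥) (hN2 : N ≠ ⊤)
    (hcam : ∀ g : G, g ∉ N → ∀ m ∈ M, ∃ x : G, x * g * x⁻¹ = g * m) :
    ((∀ x ∈ M, x ≠ 1 → Subgroup.centralizer ({x} : Set G) ≤ N) ↔ N.index.Coprime (Nat.card M)) ∧
    ((∀ x ∈ M, x ≠ 1 → Subgroup.centralizer ({x} : Set G) ≤ N) → ∃ H : Subgroup G, H ⊔ N = ⊤ ∧ H ⊓ M = ⊥) := by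
  refine ⟨⟨coprime_of_fpf N M hMN, fpf_of_coprime N M hcam⟩, ?_⟩
  intro h1
  exact exists_supplement N M hMN (coprime_of_fpf N M hMN h1)

end Cfsg.Agent.S4112
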