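import Cfsg.Statements.S4113

set_option autoImplicit false
open Cfsg

namespace Cfsg.Agent.S4113

theorem mem_map_conj {G : Type*} [Group G] (H : Subgroup G) (g x : G) :
    x ∈ H.map (MulAut.conj g).toMonoidHom ↔ g⁻¹ * x * g ∈ H := by
  constructor
  · rintro ⟨y, hy, rfl⟩
    simp only [MulEquiv.toMonoidHom_eq_coe, MonoidHom.coe_coe, MulAut.conj_apply]
    have : g⁻¹ * (g * y * g⁻¹) * g = y := by group
    rw [this]; exact hy
  · intro h
    refine ⟨g⁻¹ * x * g, h, ?_⟩
    simp only [MulEquiv.toMonoidHom_eq_coe, MonoidHom.coe_coe, MulAut.conj_apply]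
    group

theorem result {G : Type*} [Group G] [Finite G] (N M : Subgroup G) [N.Normal] [M.Normal] (hMN : M ≤ N) (hM1 : M ≠ ⊥) (hN2 : N ≠ ⊤)
    (H : Subgroup G) (hHM : H ⊔ M = ⊤) (hHM' : H ⊓ M = ⊥) :
    (∀ x ∈ M, x ≠ 1 → Subgroup.centralizer ({x} : Set G) ≤ N) ↔
      (H ≠ ⊥ ∧ H ≠ ⊤ ∧ H ⊓ N < H ∧ ∀ g : G, g ∉ H → H ⊓ H.map (MulAut.conj g).toMonoidHom ≤ N) := by
  -- decomposition g = h * m
  have hdec : ∀ g : G, ∃ h ∈ H, ∃ m ∈ M, g = h * m := by
    intro g
    have hg : g ∈ ((H ⊔ M : Subgroup G) : Set G) := by rw [hHM]; trivial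
    rw [Subgroup.mul_normal, Set.mem_mul] at hg
    obtain ⟨h, hh, m, hm, rfl⟩ := hg
    exact ⟨h, hh, m, hm, rfl⟩
  have hHM1 : ∀ x, x ∈ H → x ∈ M → x = 1 := by
    intro x h1 h2
    have : x ∈ H ⊓ M := ⟨h1, h2⟩
    rw [hHM'] at this
    exact Subgroup.mem_bot.1 this
  constructor
  · intro hA
    refine ⟨?_, ?_, ?_, ?_⟩
    · rintro rfl
      apply hN2
      rw [eq_top_iff, ← hHM]
      simpa using hMN
    · rintro rfl
      apply hM1
      rw [← hHM', top_inf_eq]
    · refine lt_of_le_of_ne inf_le_left ?_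
      intro h
      apply hN2
      rw [eq_top_iff, ← hHM, sup_le_iff]
      exact ⟨inf_eq_left.1 h, hMN⟩
    · intro g hg a ha
      obtain ⟨ha1, ha2⟩ := ha
      replace ha1 : a ∈ H := ha1
      replace ha2 : a ∈ H.map (MulAut.conj g).toMonoidHom := ha2
      rw [mem_map_conj] at ha2
      -- g⁻¹ = h * m
      obtain ⟨h, hh, m, hm, hgm⟩ := hdec g⁻¹
      have hm1 : m ≠ 1 := by
        rintro rfl
        apply hg
        have : g = h⁻¹ := by rw [← inv_inv g, hgm, mul_one]
        rw [this]; exact H.inv_mem hh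
      have hg' : g = m⁻¹ * h⁻¹ := by rw [← inv_inv g, hgm, mul_inv_rev]
      rw [hg'] at ha2
      -- h m a m⁻¹ h⁻¹ ∈ H, so b := m a m⁻¹ ∈ H
      have hb : m * a * m⁻¹ ∈ H := by
        have := H.mul_mem (H.mul_mem (H.inv_mem hh) ha2) hh
        convert this using 1
        group
      have hab : (m * a * m⁻¹) * a⁻¹ = 1 := by
        apply hHM1
        · exact H.mul_mem hb (H.inv_mem ha1)
        · have h1 : a * m⁻¹ * a⁻¹ ∈ M :=
            Subgroup.Normal.conj_mem inferInstance _ (M.inv_mem hm) _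
          have := M.mul_mem hm h1
          convert this using 1
          group
      have hcomm : m * a = a * m := by
        have h1 : m * a * m⁻¹ = a := by
          have := congrArg (· * a) hab
          simpa using this
        calc m * a = (m * a * m⁻¹) * m := by group
          _ = a * m := by rw [h1]
      have : a ∈ Subgroup.centralizer ({m} : Set G) := by
        rw [Subgroup.mem_centralizer_iff]
        intro y hy
        rw [Set.mem_singleton_iff] at hy
        rw [hy]; exact hcomm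
      exact hA m hm hm1 this
  · rintro ⟨hH1, hH2, hHN, hB⟩
    -- C_H(m) ≤ N for m ∈ M∖1
    have hCH : ∀ m ∈ M, m ≠ 1 → ∀ h ∈ H, h * m = m * h → h ∈ N := by
      intro m hm hm1 h hh hc
      have hmH : m ∉ H := fun hmH => hm1 (hHM1 m hmH hm)
      apply hB m hmH
      refine ⟨hh, ?_⟩
      show h ∈ H.map (MulAut.conj m).toMonoidHom
      rw [mem_map_conj]
      have : m⁻¹ * h * m = h := by
        calc m⁻¹ * h * m = m⁻¹ * (h * m) := by group
          _ = m⁻¹ * (m * h) := by rw [hc]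
          _ = h := by group
      rw [this]; exact hh
    intro x hxM hx1 c hc
    rw [Subgroup.mem_centralizer_iff] at hc
    have hcx : x * c = c * x := hc x (Set.mem_singleton _)
    by_contra hcN
    obtain ⟨h, hh, m, hm, rfl⟩ := hdec c
    have hhN : h ∉ N := by
      intro hhN
      exact hcN (N.mul_mem hhN (hMN hm))
    -- C_M(h) = 1
    have hfpf : ∀ m₀ ∈ M, h * m₀ = m₀ * h → m₀ = 1 := by
      intro m₀ hm₀ hc₀
      by_contra h1
      exact hhN (hCH m₀ hm₀ h1 h hh hc₀)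
    let φ : M → M := fun m' => ⟨(m' : G) * h * (m' : G)⁻¹ * h⁻¹, by
      have h1 : h * (m' : G)⁻¹ * h⁻¹ ∈ M :=
        Subgroup.Normal.conj_mem inferInstance _ (M.inv_mem m'.2) _
      have := M.mul_mem m'.2 h1
      convert this using 1
      group⟩
    have hinj : Function.Injective φ := by
      intro m₁ m₂ hmm
      have h1 : (m₁ : G) * h * (m₁ : G)⁻¹ * h⁻¹ = (m₂ : G) * h * (m₂ : G)⁻¹ * h⁻¹ :=
        congrArg Subtype.val hmm
      have h2 : (m₁ : G) * h * (m₁ : G)⁻¹ = (m₂ : G) * h * (m₂ : G)⁻¹ := mul_right_cancel h1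
      have h3 : h * ((m₂ : G)⁻¹ * (m₁ : G)) = ((m₂ : G)⁻¹ * (m₁ : G)) * h := by
        calc h * ((m₂ : G)⁻¹ * (m₁ : G)) = (m₂ : G)⁻¹ * ((m₂ : G) * h * (m₂ : G)⁻¹) * (m₁ : G) := by group
          _ = (m₂ : G)⁻¹ * ((m₁ : G) * h * (m₁ : G)⁻¹) * (m₁ : G) := by rw [h2]
          _ = ((m₂ : G)⁻¹ * (m₁ : G)) * h := by group
      have h4 := hfpf _ (M.mul_mem (M.inv_mem m₂.2) m₁.2) h3
      ext
      exact (inv_mul_eq_one.1 h4).symm
    have hsurj : Function.Surjective φ := Finite.injective_iff_surjective.1 hinj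
    have hhm : h * m * h⁻¹ ∈ M := Subgroup.Normal.conj_mem inferInstance _ hm _
    obtain ⟨m', hm'⟩ := hsurj ⟨h * m * h⁻¹, hhm⟩
    have hm'' : (m' : G) * h * (m' : G)⁻¹ * h⁻¹ = h * m * h⁻¹ := congrArg Subtype.val hm'
    have hc' : h * m = (m' : G) * h * (m' : G)⁻¹ := by
      have := congrArg (· * h) hm''
      simpa using this.symm
    rw [hc'] at hcx
    -- h commutes with x'' = m'⁻¹ x m'
    have hx'' : (m' : G)⁻¹ * x * (m' : G) ∈ M := by
      have := Subgroup.Normal.conj_mem (inferInstance : M.Normal) x hxM (m' : G)⁻¹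
      simpa using this
    have hx''1 : (m' : G)⁻¹ * x * (m' : G) ≠ 1 := by
      intro h1
      apply hx1
      have : x = (m' : G) * ((m' : G)⁻¹ * x * (m' : G)) * (m' : G)⁻¹ := by group
      rw [this, h1]; group
    have hcomm : h * ((m' : G)⁻¹ * x * (m' : G)) = ((m' : G)⁻¹ * x * (m' : G)) * h := by
      calc h * ((m' : G)⁻¹ * x * (m' : G))
          = (m' : G)⁻¹ * (((m' : G) * h * (m' : G)⁻¹) * x) * (m' : G) := by group
        _ = (m' : G)⁻¹ * (x * ((m' : G) * h * (m' : G)⁻¹)) * (m' : G) := by rw [hcx]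
        _ = ((m' : G)⁻¹ * x * (m' : G)) * h := by group
    exact hhN (hCH _ hx'' hx''1 h hh hcomm)

end Cfsg.Agent.S4113
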