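import Cfsg.Statements.S4116
import Cfsg.Agent.Helper20.UniqueFixed
import Cfsg.Agent.Helper20.Sylow

set_option autoImplicit false
open Cfsg

namespace Cfsg.Agent.S4116

open Cfsg.Agent.Helper20
open scoped Pointwise

lemma mem_conj_smul {G : Type*} [Group G] (g x : G) (H : Subgroup G) :
    x ∈ MulAut.conj g • H ↔ g⁻¹ * x * g ∈ H := by
  rw [Subgroup.mem_smul_pointwise_iff_exists]
  constructor
  · rintro ⟨s, hs, rfl⟩
    simpa [MulAut.smul_def, mul_assoc] using hs
  · intro h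
    exact ⟨_, h, by simp [MulAut.smul_def, mul_assoc]⟩

section

variable {G : Type*} [Group G] [Finite G] (H : Subgroup G)
  (hHall : (Nat.card H).Coprime H.index)

include hHall

/-- (A) a `π`-element of the normalizer of the Hall subgroup `H` lies in `H` -/
lemma hall_mem (y : G) (hyN : y ∈ Subgroup.normalizer (H : Set G))
    (hy : ∀ q : ℕ, q.Prime → q ∣ orderOf y → q ∣ Nat.card H) : y ∈ H := by
  haveI : (H.subgroupOf (Subgroup.normalizer (H : Set G))).Normal := Subgroup.normal_in_normalizer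
  set N := Subgroup.normalizer (H : Set G) with hN
  have h1 : orderOf ((⟨y, hyN⟩ : N) : N ⧸ H.subgroupOf N) ∣ orderOf y := by
    have := orderOf_map_dvd (QuotientGroup.mk' (H.subgroupOf N)) (⟨y, hyN⟩ : N)
    rwa [← Subgroup.orderOf_coe] at this
  have h2 : orderOf ((⟨y, hyN⟩ : N) : N ⧸ H.subgroupOf N) ∣ H.index := by
    have h3 : orderOf ((⟨y, hyN⟩ : N) : N ⧸ H.subgroupOf N) ∣ Nat.card (N ⧸ H.subgroupOf N) :=
      orderOf_dvd_natCard _
    rw [← Subgroup.index_eq_card] at h3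
    have h4 : H.relIndex N * N.index = H.index := Subgroup.relIndex_mul_index Subgroup.le_normalizer
    exact h3.trans (Dvd.intro _ h4)
  have h5 : orderOf ((⟨y, hyN⟩ : N) : N ⧸ H.subgroupOf N) = 1 := by
    by_contra hne
    obtain ⟨r, hr, hrd⟩ := Nat.exists_prime_and_dvd hne
    have hr1 : r ∣ Nat.card H := hy r hr (hrd.trans h1)
    have hr2 : r ∣ H.index := hrd.trans h2
    have := Nat.dvd_gcd hr1 hr2
    rw [hHall] at this
    exact hr.one_lt.ne' (Nat.dvd_one.1 this)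
  rw [orderOf_eq_one_iff, QuotientGroup.eq_one_iff, Subgroup.mem_subgroupOf] at h5
  exact h5

/-- (B) a `q`-element, `q ∣ |H|`, is conjugate into `H` -/
lemma exists_conj_mem_of_prime_pow (q : ℕ) [Fact q.Prime] (hq : q ∣ Nat.card H) (z : G) (a : ℕ)
    (hz : orderOf z = q ^ a) : ∃ g : G, g⁻¹ * z * g ∈ H := by
  have hqi : ¬ q ∣ H.index := by
    intro h
    have := Nat.dvd_gcd hq h
    rw [hHall] at this
    exact (Fact.out : q.Prime).one_lt.ne' (Nat.dvd_one.1 this)
  obtain ⟨Q, hQ⟩ := exists_sylow_le_of_not_dvd_index H hqi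
  have hpg : IsPGroup q (Subgroup.zpowers z) := by
    rw [IsPGroup.iff_card, Nat.card_zpowers]; exact ⟨a, hz⟩
  obtain ⟨Q', hQ'⟩ := hpg.exists_le_sylow
  obtain ⟨g, rfl⟩ := MulAction.exists_smul_eq G Q Q'
  refine ⟨g, hQ ?_⟩
  have := hQ' (Subgroup.mem_zpowers z)
  rwa [Sylow.smul_def, Sylow.pointwise_smul_def, mem_conj_smul] at this

variable (hTI : Cfsg.IsTISubset (H : Set G))
include hTI

/-- (C) a nonidentity `π`-element is conjugate into `H` -/
lemma exists_conj_mem (x : G) (hx1 : x ≠ 1)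
    (hx : ∀ q : ℕ, q.Prime → q ∣ orderOf x → q ∣ Nat.card H) : ∃ g : G, g⁻¹ * x * g ∈ H := by
  have ho1 : orderOf x ≠ 1 := by rwa [Ne, orderOf_eq_one_iff]
  have hq : (orderOf x).minFac.Prime := Nat.minFac_prime ho1
  haveI := Fact.mk hq
  have hqd : (orderOf x).minFac ∣ orderOf x := Nat.minFac_dvd _
  have hz := orderOf_pow_orderOf_div (orderOf_pos x).ne' hqd
  obtain ⟨g, hg⟩ := exists_conj_mem_of_prime_pow H hHall (orderOf x).minFac (hx _ hq hqd)
    (x ^ (orderOf x / (orderOf x).minFac)) 1 (by rw [hz, pow_one])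
  refine ⟨g, ?_⟩
  have hz1 : g⁻¹ * x ^ (orderOf x / (orderOf x).minFac) * g ≠ 1 := by
    intro h
    have : x ^ (orderOf x / (orderOf x).minFac) = 1 := by
      have e : x ^ (orderOf x / (orderOf x).minFac) =
          g * (g⁻¹ * x ^ (orderOf x / (orderOf x).minFac) * g) * g⁻¹ := by group
      rw [e, h]; group
    rw [← orderOf_eq_one_iff, hz] at this
    exact hq.one_lt.ne' this
  have hcomm : (g⁻¹ * x * g) * (g⁻¹ * x ^ (orderOf x / (orderOf x).minFac) * g) * (g⁻¹ * x * g)⁻¹ =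
      g⁻¹ * x ^ (orderOf x / (orderOf x).minFac) * g := by
    have c : x * x ^ (orderOf x / (orderOf x).minFac) = x ^ (orderOf x / (orderOf x).minFac) * x :=
      ((Commute.refl x).pow_right _).eq
    calc (g⁻¹ * x * g) * (g⁻¹ * x ^ (orderOf x / (orderOf x).minFac) * g) * (g⁻¹ * x * g)⁻¹
        = g⁻¹ * (x * x ^ (orderOf x / (orderOf x).minFac)) * x⁻¹ * g := by group
      _ = g⁻¹ * (x ^ (orderOf x / (orderOf x).minFac) * x) * x⁻¹ * g := by rw [c]
      _ = g⁻¹ * x ^ (orderOf x / (orderOf x).minFac) * g := by group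
  have hN : g⁻¹ * x * g ∈ Subgroup.normalizer (H : Set G) := by
    by_contra hcon
    have := hTI _ hcon _ hg (by rw [hcomm]; exact hg)
    exact hz1 this
  apply hall_mem H hHall _ hN
  intro q hq' hdvd
  apply hx q hq'
  have : orderOf (g⁻¹ * x * g) = orderOf x := by
    have hs : SemiconjBy g⁻¹ x (g⁻¹ * x * g) := by
      unfold SemiconjBy; group
    exact (SemiconjBy.orderOf_eq g⁻¹ hs).symm
  rwa [this] at hdvd

/-- (D) uniqueness of the coset -/
lemma coset_unique (x : G) (hx1 : x ≠ 1)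
    (hx : ∀ q : ℕ, q.Prime → q ∣ orderOf x → q ∣ Nat.card H) (g₁ g₂ : G)
    (h₁ : g₁⁻¹ * x * g₁ ∈ Subgroup.normalizer (H : Set G))
    (h₂ : g₂⁻¹ * x * g₂ ∈ Subgroup.normalizer (H : Set G)) :
    (g₁ : G ⧸ Subgroup.normalizer (H : Set G)) = (g₂ : G ⧸ Subgroup.normalizer (H : Set G)) := by
  have hord : ∀ g : G, orderOf (g⁻¹ * x * g) = orderOf x := by
    intro g
    have hs : SemiconjBy g⁻¹ x (g⁻¹ * x * g) := by
      unfold SemiconjBy; group
    exact (SemiconjBy.orderOf_eq g⁻¹ hs).symm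
  have hH₁ : g₁⁻¹ * x * g₁ ∈ H := hall_mem H hHall _ h₁ (by
    intro q hq hd; rw [hord] at hd; exact hx q hq hd)
  have hH₂ : g₂⁻¹ * x * g₂ ∈ H := hall_mem H hHall _ h₂ (by
    intro q hq hd; rw [hord] at hd; exact hx q hq hd)
  rw [QuotientGroup.eq]
  by_contra hcon
  have hcon' : g₂⁻¹ * g₁ ∉ Subgroup.normalizer (H : Set G) := by
    intro h
    apply hcon
    have := Subgroup.inv_mem _ h
    simpa using this
  have e : (g₂⁻¹ * g₁) * (g₁⁻¹ * x * g₁) * (g₂⁻¹ * g₁)⁻¹ = g₂⁻¹ * x * g₂ := by group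
  have := hTI _ hcon' _ hH₁ (by rw [e]; exact hH₂)
  apply hx1
  have e2 : x = g₁ * (g₁⁻¹ * x * g₁) * g₁⁻¹ := by group
  rw [e2, this]; group

end

theorem result {G : Type*} [Group G] [Finite G] (H : Subgroup G)
    (hHall : (Nat.card H).Coprime H.index) (hTI : Cfsg.IsTISubset (H : Set G))
    (K : Subgroup G) (hK : ∀ q : ℕ, q.Prime → q ∣ Nat.card K → q ∣ Nat.card H) :
    ∃ g : G, K ≤ H.map (MulAut.conj g).toMonoidHom := by
  have hKel : ∀ k : K, ∀ q : ℕ, q.Prime → q ∣ orderOf (k : G) → q ∣ Nat.card H := by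
    intro k q hq hd
    apply hK q hq
    rw [Subgroup.orderOf_coe] at hd
    exact hd.trans (orderOf_dvd_natCard k)
  have hfix : ∀ k : K, k ≠ 1 →
      Nat.card (MulAction.fixedBy (G ⧸ Subgroup.normalizer (H : Set G)) k) = 1 := by
    intro k hk
    have hk1 : (k : G) ≠ 1 := fun h => hk (Subtype.ext h)
    obtain ⟨g, hg⟩ := exists_conj_mem H hHall hTI (k : G) hk1 (hKel k)
    have hfixmem : ∀ g' : G, ((g' : G ⧸ Subgroup.normalizer (H : Set G)) ∈
        MulAction.fixedBy (G ⧸ Subgroup.normalizer (H : Set G)) k) ↔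
        g'⁻¹ * (k : G) * g' ∈ Subgroup.normalizer (H : Set G) := by
      intro g'
      rw [MulAction.mem_fixedBy]
      have : k • (g' : G ⧸ Subgroup.normalizer (H : Set G)) =
          (((k : G) * g' : G) : G ⧸ Subgroup.normalizer (H : Set G)) := rfl
      rw [this, QuotientGroup.eq]
      constructor
      · intro h
        have := Subgroup.inv_mem _ h
        have e : (((k : G) * g')⁻¹ * g')⁻¹ = g'⁻¹ * (k : G) * g' := by group
        rwa [e] at this
      · intro h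
        have := Subgroup.inv_mem _ h
        have e : (g'⁻¹ * (k : G) * g')⁻¹ = ((k : G) * g')⁻¹ * g' := by group
        rwa [e] at this
    rw [Nat.card_eq_one_iff_exists]
    refine ⟨⟨(g : G ⧸ Subgroup.normalizer (H : Set G)),
      (hfixmem g).2 (Subgroup.le_normalizer hg)⟩, ?_⟩
    rintro ⟨ξ, hξ⟩
    obtain ⟨g', rfl⟩ := QuotientGroup.mk_surjective ξ
    apply Subtype.ext
    exact coset_unique H hHall hTI (k : G) hk1 (hKel k) g' g ((hfixmem g').1 hξ)
      (Subgroup.le_normalizer hg)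
  obtain ⟨ξ, hξ⟩ := exists_fixed_of_unique_fixed (K := K)
    (X := G ⧸ Subgroup.normalizer (H : Set G)) hfix
  obtain ⟨g, rfl⟩ := QuotientGroup.mk_surjective ξ
  refine ⟨g, ?_⟩
  intro k hk
  have h1 := hξ ⟨k, hk⟩
  have : (⟨k, hk⟩ : K) • (g : G ⧸ Subgroup.normalizer (H : Set G)) =
      ((k * g : G) : G ⧸ Subgroup.normalizer (H : Set G)) := rfl
  rw [this, QuotientGroup.eq] at h1
  have h2 : g⁻¹ * k * g ∈ Subgroup.normalizer (H : Set G) := by
    have := Subgroup.inv_mem _ h1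
    have e : ((k * g)⁻¹ * g)⁻¹ = g⁻¹ * k * g := by group
    rwa [e] at this
  have h3 : g⁻¹ * k * g ∈ H := by
    apply hall_mem H hHall _ h2
    intro q hq hd
    have hs : SemiconjBy g⁻¹ k (g⁻¹ * k * g) := by
      unfold SemiconjBy; group
    rw [← SemiconjBy.orderOf_eq g⁻¹ hs] at hd
    exact hKel ⟨k, hk⟩ q hq hd
  rw [Subgroup.mem_map]
  refine ⟨g⁻¹ * k * g, h3, ?_⟩
  simp [MulAut.conj_apply, mul_assoc]

end Cfsg.Agent.S4116
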