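import Mathlib
import Cfsg.Statements.S4126
import Cfsg.Agent.S0071
import Cfsg.Agent.S3736
import Cfsg.Agent.S3803
import Cfsg.Agent.Helper19.PPowerClass

set_option autoImplicit false
open Cfsg

namespace Cfsg.Agent.S4126

open Subgroup

/-- Let G be a finite group and p a prime. Suppose every element of order p, and when p = 2 also every element of order 4, has a conjugacy class of p-power size. Then G has a normal p-complement. -/
theorem result {G : Type*} [Group G] [Finite G] (p : ℕ) [Fact p.Prime]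
    (h : ∀ x : G, (orderOf x = p ∨ (p = 2 ∧ orderOf x = 4)) → ∃ a : ℕ, (Subgroup.centralizer ({x} : Set G)).index = p ^ a) :
    Cfsg.HasNormalPComplement p G := by
  classical
  have hp : p.Prime := Fact.out
  obtain ⟨P⟩ : Nonempty (Sylow p G) := inferInstance
  suffices key : ∀ Q : Subgroup G, Q ≤ (P : Subgroup G) → ∀ g ∈ Subgroup.normalizer (Q : Set G),
      Nat.Coprime (orderOf g) p → g ∈ Subgroup.centralizer (Q : Set G) by
    obtain ⟨N, hN, hc⟩ := (Cfsg.Agent.S0071.result P).mpr key
    exact ⟨P, N, hN, hc⟩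
  intro Q hQP g hg hcop
  set A : Subgroup G := zpowers g with hA
  have hAQ : A ≤ normalizer (Q : Set G) := by rw [hA, zpowers_le]; exact hg
  have hQp : IsPGroup p Q := P.isPGroup'.to_le hQP
  have hcopA : (Nat.card A).Coprime p := by rw [hA, Nat.card_zpowers]; exact hcop
  suffices hs : ⁅Q, A⁆ = ⊥ by
    rw [commutator_comm, commutator_eq_bot_iff_le_centralizer] at hs
    exact hs (mem_zpowers g)
  by_contra hne
  let S : Set (Subgroup G) := {U | U ≤ Q ∧ A ≤ normalizer (U : Set G) ∧ ⁅U, A⁆ ≠ ⊥}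
  obtain ⟨P₁, ⟨hP₁Q, hAP₁, hP₁ne⟩, hP₁min⟩ := wellFounded_lt.has_min S ⟨Q, le_rfl, hAQ, hne⟩
  have hmin : ∀ U : Subgroup G, U < P₁ → A ≤ normalizer (U : Set G) → ⁅U, A⁆ = ⊥ := by
    intro U hU hAU
    by_contra hUne
    exact hP₁min U ⟨hU.le.trans hP₁Q, hAU, hUne⟩ hU
  have hP₁ : IsPGroup p P₁ := hQp.to_le hP₁Q
  obtain ⟨-, hdich, -, hexp⟩ :=
    Cfsg.Agent.S3736.result (p := p) A A P₁ hP₁ hAP₁ le_rfl le_normalizer hcopA hP₁ne hmin
  have hcl : ∀ x ∈ P₁, ∃ a : ℕ, (centralizer ({x} : Set G)).index = p ^ a := by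
    intro x hx
    by_cases hx1 : x = 1
    · refine ⟨0, ?_⟩
      have : centralizer ({x} : Set G) = ⊤ := by
        rw [eq_top_iff]
        intro y _
        rw [mem_centralizer_iff]
        intro z hz
        rw [Set.mem_singleton_iff.mp hz, hx1, one_mul, mul_one]
      rw [this, index_top, pow_zero]
    · apply h x
      by_cases hp2 : p = 2
      · have h4 : (x ^ p) ^ p = 1 := by
          rcases hdich with ⟨_, he⟩ | hs
          · rw [he x hx, one_pow]
          · have := Cfsg.Agent.S3803.special_pow hs ⟨x, hx⟩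
            exact congrArg Subtype.val this
        rw [← pow_mul, hp2] at h4
        have hd : orderOf x ∣ 2 ^ 2 := orderOf_dvd_of_pow_eq_one h4
        obtain ⟨k, hk, hkc⟩ := (Nat.dvd_prime_pow Nat.prime_two).mp hd
        interval_cases k
        · exact absurd (orderOf_eq_one_iff.mp (by simpa using hkc)) hx1
        · left; rw [hkc, hp2]; norm_num
        · right; exact ⟨hp2, by rw [hkc]; norm_num⟩
      · left
        have hxp : x ^ p = 1 := hexp hp2 x hx
        have hd : orderOf x ∣ p := orderOf_dvd_of_pow_eq_one hxp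
        rcases (Nat.dvd_prime hp).mp hd with h1 | h1
        · exact absurd (orderOf_eq_one_iff.mp h1) hx1
        · exact h1
  have hbot := Cfsg.Agent.Helper19.commutator_eq_bot_of_ppow_class P₁ hP₁ g
    (hAP₁ (mem_zpowers g)) hcop hcl
  exact hP₁ne hbot

end Cfsg.Agent.S4126
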