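import Mathlib
import Cfsg.Statements.S4127
import Cfsg.Agent.Helper19.Camina
import Cfsg.Agent.Helper19.PPowerClass
import Cfsg.Agent.Helper19.Sylow
import Cfsg.Agent.Helper20.DirectFactor

set_option autoImplicit false
open Cfsg

namespace Cfsg.Agent.S4127

open Subgroup
open scoped commutatorElement

/-- The centralizer of a product of commuting elements of coprime orders. -/
theorem centralizer_mul_of_coprime {G : Type*} [Group G] (x y : G) (hxy : x * y = y * x)
    (hcop : (orderOf y).Coprime (orderOf x)) :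
    centralizer ({x * y} : Set G) = centralizer ({x} : Set G) ⊓ centralizer ({y} : Set G) := by
  apply le_antisymm
  · intro g hg
    have hg1 : Commute g (x * y) := ((mem_centralizer_iff.mp hg) _ rfl).symm
    have hc : Commute x y := hxy
    have h1 : Commute g (x ^ orderOf y) := by
      have := hg1.pow_right (orderOf y)
      rwa [hc.mul_pow, pow_orderOf_eq_one, mul_one] at this
    obtain ⟨m, hm⟩ := exists_pow_eq_self_of_coprime hcop
    have hgx : Commute g x := by
      have := h1.pow_right m
      rwa [hm] at this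
    have hgy : Commute g y := by
      have := (hgx.inv_right).mul_right hg1
      rwa [inv_mul_cancel_left] at this
    refine Subgroup.mem_inf.mpr ⟨?_, ?_⟩
    · rw [mem_centralizer_iff]
      intro z hz
      rw [Set.mem_singleton_iff.mp hz]
      exact hgx.symm
    · rw [mem_centralizer_iff]
      intro z hz
      rw [Set.mem_singleton_iff.mp hz]
      exact hgy.symm
  · intro g hg
    obtain ⟨hgx, hgy⟩ := Subgroup.mem_inf.mp hg
    have h1 : x * g = g * x := (mem_centralizer_iff.mp hgx) x rfl
    have h2 : y * g = g * y := (mem_centralizer_iff.mp hgy) y rfl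
    rw [mem_centralizer_iff]
    intro z hz
    rw [Set.mem_singleton_iff.mp hz]
    calc x * y * g = x * (y * g) := by group
      _ = x * (g * y) := by rw [h2]
      _ = (x * g) * y := by group
      _ = g * x * y := by rw [h1]
      _ = g * (x * y) := by group

/-- Let G be a finite group, p a prime and p^a the largest power of p dividing the size of any conjugacy class of G. If some element of p-power order has a conjugacy class of size exactly p^a, then G has a normal p-complement. -/
theorem result {G : Type*} [Group G] [Finite G] (p : ℕ) [Fact p.Prime]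
    (a : ℕ) (hmax : ∀ y : G, ¬ p ^ (a + 1) ∣ (Subgroup.centralizer ({y} : Set G)).index)
    (hx : ∃ x : G, (∃ k : ℕ, orderOf x = p ^ k) ∧ (Subgroup.centralizer ({x} : Set G)).index = p ^ a) :
    Cfsg.HasNormalPComplement p G := by
  classical
  have hp : p.Prime := Fact.out
  obtain ⟨x, ⟨k, hk⟩, hxa⟩ := hx
  set C : Subgroup G := centralizer ({x} : Set G) with hC
  -- Step 2: `p'`-elements of `C` have `p'`-class sizes in `C`
  have hstep2 : ∀ y : ↥C, (orderOf y).Coprime p →
      ¬ p ∣ (centralizer ({y} : Set ↥C)).index := by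
    intro y hy hdvd
    have hyx : x * (y : G) = (y : G) * x := (mem_centralizer_iff.mp y.2) x rfl
    have hcent : (centralizer ({y} : Set ↥C)) = (centralizer ({(y : G)} : Set G)).subgroupOf C := by
      ext g
      rw [mem_subgroupOf, mem_centralizer_iff, mem_centralizer_iff]
      constructor
      · intro h z hz
        rw [Set.mem_singleton_iff.mp hz]
        exact congrArg Subtype.val (h y rfl)
      · intro h z hz
        rw [Set.mem_singleton_iff.mp hz]
        exact Subtype.ext (h (y : G) rfl)
    have hcop : (orderOf (y : G)).Coprime (orderOf x) := by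
      rw [Subgroup.orderOf_coe, hk]
      exact Nat.Coprime.pow_right _ hy
    have hxy := centralizer_mul_of_coprime x (y : G) hyx hcop
    have hidx : (centralizer ({x * (y : G)} : Set G)).index =
        (centralizer ({(y : G)} : Set G)).relIndex C * C.index := by
      rw [hxy, ← Subgroup.inf_relIndex_left, Subgroup.relIndex_mul_index inf_le_left]
    apply hmax (x * (y : G))
    rw [hidx, hxa, pow_succ, mul_comm (p ^ a) p]
    apply mul_dvd_mul_right
    rw [hcent] at hdvd
    exact hdvd
  -- Step 3: `C = P₀ × K`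
  have hcomm : ∀ u v : ↥C, (∃ a : ℕ, orderOf u = p ^ a) →
      (∃ q b : ℕ, q.Prime ∧ q ≠ p ∧ orderOf v = q ^ b) → u * v = v * u := by
    rintro u v hu ⟨q, b, hq, hqp, hv⟩
    apply Cfsg.Agent.Helper19.commute_of_pprime_class hstep2 u v hu
    rw [hv]
    exact Nat.Coprime.pow_left _ ((Nat.coprime_primes hq hp).mpr hqp)
  obtain ⟨P₀, K, hP₀n, hKn, hinf, hsup⟩ :=
    (Cfsg.Agent.Helper20.sylow_direct_factor_iff (G := ↥C) p).mpr hcomm
  have hcompl : Subgroup.IsComplement' (P₀ : Subgroup ↥C) K := by
    apply Subgroup.isComplement'_of_disjoint_and_mul_eq_univ (disjoint_iff.2 hinf)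
    rw [← Subgroup.mul_normal, hsup]; rfl
  have hKidx : K.index = Nat.card (P₀ : Subgroup ↥C) := hcompl.index_eq_card
  obtain ⟨n₀, hn₀⟩ := IsPGroup.iff_card.1 P₀.2
  have hcardmul : Nat.card (P₀ : Subgroup ↥C) * Nat.card K = Nat.card ↥C := hcompl.card_mul_card
  have hKcop : (Nat.card K).Coprime p := by
    have h1 : Nat.card K = (P₀ : Subgroup ↥C).index := by
      have h2 := Subgroup.card_mul_index (P₀ : Subgroup ↥C)
      rw [← hcardmul] at h2
      exact (Nat.eq_of_mul_eq_mul_left Nat.card_pos h2).symm
    rw [h1]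
    exact ((Nat.Prime.coprime_iff_not_dvd hp).mpr P₀.not_dvd_index).symm
  set H : Subgroup G := K.map C.subtype with hH
  have hHC : H ≤ C := Subgroup.map_subtype_le K
  have hHcard : Nat.card H = Nat.card K := Subgroup.card_map_of_injective C.subtype_injective
  have hHcop : (Nat.card H).Coprime p := by rw [hHcard]; exact hKcop
  -- index of `H` in `G`
  have hHidx : H.index = p ^ (n₀ + a) := by
    have h1 := Subgroup.card_mul_index H
    have h2 := Subgroup.card_mul_index C
    rw [hxa, ← hcardmul, hn₀] at h2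
    rw [← h2, hHcard] at h1
    have h3 : Nat.card K * H.index = Nat.card K * (p ^ n₀ * p ^ a) := by rw [h1]; ring
    rw [pow_add]
    exact Nat.eq_of_mul_eq_mul_left Nat.card_pos h3
  -- `p'`-elements of `C` lie in `H`
  have hH4 : ∀ y ∈ C, (orderOf y).Coprime p → y ∈ H := by
    intro y hy hcop
    have h1 : (⟨y, hy⟩ : ↥C) ^ (p ^ n₀) ∈ K := by
      rw [← hn₀, ← hKidx]; exact Subgroup.pow_index_mem K _
    have h2 : (⟨y, hy⟩ : ↥C) ∈ K := by
      rw [← QuotientGroup.eq_one_iff] at h1 ⊢
      have h3 : (((⟨y, hy⟩ : ↥C) : ↥C ⧸ K)) ^ (orderOf y) = 1 := by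
        rw [← QuotientGroup.mk_pow]
        have : (⟨y, hy⟩ : ↥C) ^ orderOf y = 1 := Subtype.ext (by simp [pow_orderOf_eq_one])
        rw [this]; rfl
      rw [QuotientGroup.mk_pow] at h1
      have d1 := orderOf_dvd_of_pow_eq_one h1
      have d2 := orderOf_dvd_of_pow_eq_one h3
      have hc : Nat.Coprime (p ^ n₀) (orderOf y) := (Nat.Coprime.pow_right _ hcop).symm
      exact orderOf_eq_one_iff.1 (Nat.eq_one_of_dvd_coprimes hc d1 d2)
    exact ⟨⟨y, hy⟩, h2, rfl⟩
  -- `C` normalizes `H`
  have hCN : C ≤ normalizer (H : Set G) := by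
    have h1 := Subgroup.le_normalizer_map (H := K) C.subtype
    rw [Subgroup.normalizer_eq_top] at h1
    intro c hc
    exact h1 ⟨⟨c, hc⟩, Subgroup.mem_top _, rfl⟩
  have hxC : x ∈ C := by
    rw [hC, mem_centralizer_iff]
    intro z hz
    rw [Set.mem_singleton_iff.mp hz]
  -- elements of `H` have order prime to `p`
  have hHord : ∀ h ∈ H, (orderOf h).Coprime p := by
    intro h hh
    have : orderOf h ∣ Nat.card H := by
      have := orderOf_dvd_natCard (⟨h, hh⟩ : H)
      rwa [Subgroup.orderOf_mk] at this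
    exact Nat.Coprime.coprime_dvd_left this hHcop
  -- a Sylow subgroup containing `x`
  have hxp : IsPGroup p (zpowers x) := by
    rw [IsPGroup.iff_card, Nat.card_zpowers]; exact ⟨k, hk⟩
  obtain ⟨P, hxP⟩ := hxp.exists_le_sylow
  have hxP' : x ∈ (P : Subgroup G) := hxP (mem_zpowers x)
  -- conjugates of `x` lie in `P`, and the normal closure is a `p`-group
  have hconjP : ∀ u : G, u * x * u⁻¹ ∈ (P : Subgroup G) := by
    intro u
    obtain ⟨v, hv, hh⟩ := Cfsg.Agent.Helper19.exists_sylow_conj_of_index_pow P x a hxa u 1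
    rw [hh]
    simp only [one_mul, inv_one, mul_one]
    exact (P : Subgroup G).mul_mem ((P : Subgroup G).mul_mem hv hxP') ((P : Subgroup G).inv_mem hv)
  set D : Subgroup G := normalClosure ({x} : Set G) with hD
  have hDP : D ≤ (P : Subgroup G) := by
    rw [hD, normalClosure, closure_le]
    intro z hz
    obtain ⟨y, hy, hyz⟩ := Group.mem_conjugatesOfSet_iff.mp hz
    obtain ⟨u, hu⟩ := isConj_iff.mp hyz
    rw [← hu, Set.mem_singleton_iff.mp hy]
    exact hconjP u
  have hHD : H ⊓ D = ⊥ := by
    apply disjoint_iff.mp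
    apply Subgroup.disjoint_of_coprime_natCard
    obtain ⟨m, hm⟩ := IsPGroup.iff_card.1 (P.isPGroup'.to_le hDP)
    rw [hm]
    exact Nat.Coprime.pow_right _ hHcop
  -- Step 6: conjugates of `x` normalizing `H` centralize `H`
  have hstep6 : ∀ u : G, u * x * u⁻¹ ∈ normalizer (H : Set G) →
      ∀ h ∈ H, h * (u * x * u⁻¹) = (u * x * u⁻¹) * h := by
    intro u hw h hh
    set w := u * x * u⁻¹ with hw'
    have hwD : w ∈ D := by
      rw [hD]
      exact conjugatesOfSet_subset_normalClosure
        (Group.mem_conjugatesOfSet_iff.mpr ⟨x, rfl, isConj_iff.mpr ⟨u, rfl⟩⟩)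
    have hDn : D.Normal := by rw [hD]; exact normalClosure_normal
    have hc1 : ⁅h, w⁆ ∈ H := by
      rw [commutatorElement_def]
      have : w * h⁻¹ * w⁻¹ ∈ H := (mem_normalizer_iff.mp hw h⁻¹).mp (H.inv_mem hh)
      have e : h * w * h⁻¹ * w⁻¹ = h * (w * h⁻¹ * w⁻¹) := by group
      rw [e]
      exact H.mul_mem hh this
    have hc2 : ⁅h, w⁆ ∈ D := by
      rw [commutatorElement_def]
      exact D.mul_mem (hDn.conj_mem w hwD h) (D.inv_mem hwD)
    have hc3 : ⁅h, w⁆ ∈ H ⊓ D := ⟨hc1, hc2⟩
    rw [hHD, Subgroup.mem_bot] at hc3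
    exact commutatorElement_eq_one_iff_mul_comm.mp hc3
  -- Step 7: `P` normalizes `H`
  have hPN : (P : Subgroup G) ≤ normalizer (H : Set G) := by
    by_contra hnot
    have hlt : (P : Subgroup G) ⊓ normalizer (H : Set G) < (P : Subgroup G) := by
      refine lt_of_le_of_ne inf_le_left ?_
      intro heq
      apply hnot
      rw [← heq]; exact inf_le_right
    obtain ⟨u, huP, huN, hunot⟩ :=
      Cfsg.Agent.Helper19.exists_mem_normalizer_not_mem P.isPGroup' hlt
    apply hunot
    refine ⟨huP, ?_⟩
    have hxPH : x ∈ (P : Subgroup G) ⊓ normalizer (H : Set G) := ⟨hxP', hCN hxC⟩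
    have hwPH : u * x * u⁻¹ ∈ (P : Subgroup G) ⊓ normalizer (H : Set G) :=
      (mem_normalizer_iff.mp huN x).mp hxPH
    have hcent := hstep6 u hwPH.2
    -- `u⁻¹ H u ≤ H`
    have hinv : u⁻¹ ∈ normalizer (H : Set G) := by
      apply Cfsg.Agent.Helper19.mem_normalizer_of_forall
      intro h hh
      rw [inv_inv]
      apply hH4
      · rw [hC, mem_centralizer_iff]
        intro z hz
        rw [Set.mem_singleton_iff.mp hz]
        have := hcent h hh
        calc x * (u⁻¹ * h * u) = u⁻¹ * ((u * x * u⁻¹) * h) * u := by group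
          _ = u⁻¹ * (h * (u * x * u⁻¹)) * u := by rw [this]
          _ = u⁻¹ * h * u * x := by group
      · have : orderOf (u⁻¹ * h * u) = orderOf h := by
          have := orderOf_injective (MulAut.conj u⁻¹).toMonoidHom (MulAut.conj u⁻¹).injective h
          simpa [MulAut.conj_apply] using this
        rw [this]; exact hHord h hh
    have := (normalizer (H : Set G)).inv_mem hinv
    rwa [inv_inv] at this
  -- Step 8
  have hNtop : normalizer (H : Set G) = ⊤ := by
    rw [← Subgroup.index_eq_one]
    have d1 : (normalizer (H : Set G)).index ∣ p ^ (n₀ + a) := by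
      rw [← hHidx]; exact Subgroup.index_dvd_of_le le_normalizer
    have d2 : (normalizer (H : Set G)).index ∣ (P : Subgroup G).index :=
      Subgroup.index_dvd_of_le hPN
    obtain ⟨j, hj, hjc⟩ := (Nat.dvd_prime_pow hp).mp d1
    rcases Nat.eq_zero_or_pos j with h0 | hpos
    · rw [hjc, h0, pow_zero]
    · exfalso
      apply P.not_dvd_index
      refine dvd_trans ?_ d2
      rw [hjc]
      exact dvd_pow_self p hpos.ne'
  have hHn : H.Normal := Subgroup.normalizer_eq_top_iff.mp hNtop
  refine ⟨P, H, hHn, ?_⟩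
  obtain ⟨m, hm⟩ := IsPGroup.iff_card.1 P.isPGroup'
  have hPcard : Nat.card (P : Subgroup G) = p ^ (n₀ + a) := by
    have e1 : Nat.card H * p ^ (n₀ + a) = Nat.card G := by rw [← hHidx]; exact Subgroup.card_mul_index H
    have e2 : Nat.card (P : Subgroup G) * (P : Subgroup G).index = Nat.card G :=
      Subgroup.card_mul_index _
    have hPcop : (p ^ (n₀ + a)).Coprime (P : Subgroup G).index :=
      Nat.Coprime.pow_left _ ((Nat.Prime.coprime_iff_not_dvd hp).mpr P.not_dvd_index)
    apply Nat.dvd_antisymm
    · have : Nat.card (P : Subgroup G) ∣ Nat.card H * p ^ (n₀ + a) := by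
        rw [e1]; exact Subgroup.card_subgroup_dvd_card _
      have hc : (Nat.card (P : Subgroup G)).Coprime (Nat.card H) := by
        rw [hm]; exact (Nat.Coprime.pow_right _ hHcop).symm
      exact hc.dvd_of_dvd_mul_left this
    · have : p ^ (n₀ + a) ∣ Nat.card (P : Subgroup G) * (P : Subgroup G).index := by
        rw [e2, ← e1]; exact dvd_mul_left _ _
      exact hPcop.dvd_of_dvd_mul_right this
  apply Subgroup.isComplement'_of_coprime
  · rw [hPcard, ← hHidx]; exact Subgroup.card_mul_index H
  · rw [hPcard]; exact Nat.Coprime.pow_right _ hHcop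

end Cfsg.Agent.S4127
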