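import Mathlib
import Cfsg.Statements.S4130
import Cfsg.Agent.Helper2.S4130Defs
import Cfsg.Agent.Helper2.S4130Adapt
import Cfsg.Agent.Helper7.S4130PGDS
import Cfsg.Agent.Helper7.Fitting
import Cfsg.Agent.Helper11.S4130PFC2

set_option autoImplicit false
open Cfsg

namespace Cfsg.Agent.S4130

open Cfsg.Agent.S4130P

/-- Let G be a finite group all of whose conjugacy class sizes are square-free. Then G is supersolvable, G/F(G) and the derived subgroup G′ are cyclic of square-free order (F(G) the Fitting subgroup, which is normal), F(G) has nilpotency class at most 2, and G is metabelian. -/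
theorem result {G : Type*} [Group G] [Finite G]
    (h : ∀ x : G, Squarefree (Subgroup.centralizer ({x} : Set G)).index) :
    Cfsg.IsSupersolvable G ∧ (Cfsg.fittingSubgroup G).Normal ∧
    (∀ _h : (Cfsg.fittingSubgroup G).Normal, IsCyclic (G ⧸ Cfsg.fittingSubgroup G) ∧ Squarefree (Cfsg.fittingSubgroup G).index) ∧
    IsCyclic (commutator G) ∧ Squarefree (Nat.card (commutator G)) ∧
    Subgroup.upperCentralSeries ↥(Cfsg.fittingSubgroup G) 2 = ⊤ ∧ commutator ↥(commutator G) = ⊥ := by
  have hs : SqfCls G := h
  have hD := PGD hs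
  refine ⟨PSS hs, Cfsg.Agent.Helper7.fittingSubgroup_normal G, fun hF => PGF hs, hD.1, hD.2,
    PFC2 hs, ?_⟩
  haveI := hD.1
  rw [commutator_eq_bot_iff_center_eq_top]
  exact (Subgroup.eq_top_iff' _).mpr fun x => Subgroup.mem_center_iff.mpr fun y =>
    (IsCyclic.commGroup.mul_comm y x)

end Cfsg.Agent.S4130
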