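import Cfsg.Statements.S4134
import Mathlib
import Cfsg.Agent.Helper1.Ito5

set_option autoImplicit false
open Cfsg

namespace Cfsg.Agent.S4134

/-- Let G be a finite group whose conjugacy classes have exactly two sizes, 1 and n > 1. Then n is a power of a prime p and G is the direct product of a p-group and an abelian group of order prime to p: its Sylow p-subgroup P is normal with an abelian normal complement centralizing it; moreover P has an abelian normal subgroup A with P/A of exponent dividing p. -/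
theorem result {G : Type*} [Group G] [Finite G] (n : ℕ) (hn : 1 < n)
    (h : ∀ x : G, (Subgroup.centralizer ({x} : Set G)).index = 1 ∨ (Subgroup.centralizer ({x} : Set G)).index = n) (hex : ∃ x : G, (Subgroup.centralizer ({x} : Set G)).index = n) :
    ∃ (p : ℕ) (_ : Fact p.Prime) (a : ℕ), n = p ^ a ∧ ∀ P : Sylow p G, (P : Subgroup G).Normal ∧
      (∃ N : Subgroup G, N.Normal ∧ N.IsComplement' (P : Subgroup G) ∧ IsMulCommutative N ∧
        ∀ x ∈ N, ∀ y ∈ (P : Subgroup G), x * y = y * x) ∧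
      ∃ A : Subgroup (P : Subgroup G), A.Normal ∧ IsMulCommutative A ∧ ∀ y : (P : Subgroup G), y ^ p ∈ A := by
  classical
  have hT : Cfsg.Agent.Helper1.Ito.TwoCS G n := h
  obtain ⟨x₀, hx₀⟩ := hex
  have hx₀z : x₀ ∉ Subgroup.center G := by
    intro hz
    have := Cfsg.Agent.Helper1.Ito.index_eq_one_iff.mpr hz
    omega
  obtain ⟨p, k, hp, -, hxz, hxp⟩ := Cfsg.Agent.Helper1.Ito.exists_noncentral_part' hx₀z
  have hpF : Fact p.Prime := ⟨hp⟩
  have hcentral : ∀ s : ℕ, s.Prime → s ≠ p → ∀ y : G, Cfsg.Agent.Helper1.Ito.IsQ s y →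
      y ∈ Subgroup.center G := by
    intro s hs hsp y hys
    by_contra hyz
    exact hT.false_of_twoPrimes hn ⟨p, s, hp, hs, hsp.symm, ⟨_, hxz, hxp⟩, ⟨y, hyz, hys⟩⟩
  -- `n` is a power of `p`
  have hnp : ∃ a : ℕ, n = p ^ a := by
    obtain ⟨j, hj⟩ := IsPGroup.iff_card.mp
      (Cfsg.Agent.Helper1.Ito.isPGroup_quotient_pPrimeCenter hcentral)
    rw [← Subgroup.index_eq_card] at hj
    have hle : Cfsg.Agent.Helper1.Ito.pPrimeCenter G p ≤
        Subgroup.centralizer ({x₀} : Set G) :=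
      (Cfsg.Agent.Helper1.Ito.pPrimeCenter_le_center p).trans
        (Cfsg.Agent.Helper1.Ito.center_le_cent x₀)
    have hd := Subgroup.index_dvd_of_le hle
    rw [hx₀, hj] at hd
    obtain ⟨a, -, ha⟩ := (Nat.dvd_prime_pow hp).mp hd
    exact ⟨a, ha⟩
  obtain ⟨a, ha⟩ := hnp
  refine ⟨p, hpF, a, ha, fun P => ⟨?_, ?_, ?_⟩⟩
  · exact Cfsg.Agent.Helper1.Ito.sylow_normal_of_central hcentral P
  · refine ⟨Cfsg.Agent.Helper1.Ito.pPrimeCenter G p, inferInstance,
      Cfsg.Agent.Helper1.Ito.isComplement'_pPrimeCenter hcentral P, ?_, ?_⟩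
    · refine ⟨⟨fun x y => ?_⟩⟩
      apply Subtype.ext
      exact ((Subgroup.mem_center_iff.mp x.2.1) y).symm
    · intro x hx y _
      exact ((Subgroup.mem_center_iff.mp hx.1) y).symm
  · have hcomm : ∀ y g : (P : Subgroup G), y ^ p * g ^ p = g ^ p * y ^ p := by
      intro y g
      apply Subtype.ext
      exact hT.pow_comm hn hcentral (y : G) (g : G)
    refine ⟨Subgroup.normalClosure (Set.range fun y : (P : Subgroup G) => y ^ p), inferInstance,
      ?_, fun y => Subgroup.subset_normalClosure ⟨y, rfl⟩⟩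
    rw [Subgroup.normalClosure]
    apply Subgroup.isMulCommutative_closure
    intro c hc d hd
    rw [Group.mem_conjugatesOfSet_iff] at hc hd
    obtain ⟨_, ⟨y, rfl⟩, hy⟩ := hc
    obtain ⟨_, ⟨g, rfl⟩, hg⟩ := hd
    rw [isConj_iff] at hy hg
    obtain ⟨c', rfl⟩ := hy
    obtain ⟨d', rfl⟩ := hg
    rw [← conj_pow, ← conj_pow]
    exact hcomm _ _

end Cfsg.Agent.S4134
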