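import Cfsg.Statements.S4138
import Mathlib
import Cfsg.Agent.Helper1.ClsGraph10

set_option autoImplicit false
open Cfsg

namespace Cfsg.Agent.S4138

/-- Let G be a finite group whose two largest conjugacy class sizes m > n > 1 are coprime, and let x, y ∈ G have classes of sizes n and m respectively. Then C_G(x) and C_G(y) are abelian, and G/Z(G) is a Frobenius group with kernel C_G(x)/Z(G) and complement C_G(y)/Z(G). -/
theorem result {G : Type*} [Group G] [Finite G] (m n : ℕ) (hmn : n < m) (hn : 1 < n)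
    (hcop : m.Coprime n) (htop : ∀ z : G, (Subgroup.centralizer ({z} : Set G)).index ≤ m) (hsecond : ∀ z : G, (Subgroup.centralizer ({z} : Set G)).index < m → (Subgroup.centralizer ({z} : Set G)).index ≤ n)
    (x y : G) (hx : (Subgroup.centralizer ({x} : Set G)).index = n) (hy : (Subgroup.centralizer ({y} : Set G)).index = m) :
    IsMulCommutative (Subgroup.centralizer ({x} : Set G)) ∧ IsMulCommutative (Subgroup.centralizer ({y} : Set G)) ∧
    Cfsg.IsFrobeniusComplement ((Subgroup.centralizer ({y} : Set G)).map (QuotientGroup.mk' (Subgroup.center G))) ∧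
    Cfsg.frobeniusKernel ((Subgroup.centralizer ({y} : Set G)).map (QuotientGroup.mk' (Subgroup.center G))) =
      ((Subgroup.centralizer ({x} : Set G)).map (QuotientGroup.mk' (Subgroup.center G)) : Set (G ⧸ Subgroup.center G)) := by
  classical
  open Cfsg.Agent.Helper1.ClsGraph in
  open Cfsg.Agent.Helper1 in
  have T : Top2 G m n := ⟨hmn, hn, hcop, htop, hsecond, ⟨x, hx⟩, ⟨y, hy⟩⟩
  have S := T.setup
  have hxQ : IsPi (Qm m) (idx x) := by rw [idx_def, hx]; exact T.isQ_of_dvd dvd_rfl
  obtain ⟨a, ha, hCa⟩ := T.setup0.exists_P_part hxQ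
  have hidx1 : idx (x ^ a) = n := by rw [idx_def, hCa, hx]
  have hbase : IsBase (Pm m) (Qm m) (x ^ a) := by
    refine ⟨by rw [hidx1]; exact T.isQ_of_dvd dvd_rfl, ha, ?_⟩
    intro h
    rw [← idx_eq_one_iff, hidx1] at h
    omega
  have hyP : IsPi (Pm m) (idx y) := isPi_Pm_of_dvd (by rw [idx_def, hy])
  have hmax : ∀ g : G, idx g ≤ idx y := fun g => by rw [idx_def y, hy]; exact htop g
  obtain ⟨hMab, hfrob, hker, hcent⟩ := S.main' hbase hyP hmax
  rw [hCa] at hMab hker
  refine ⟨⟨⟨fun u v => Subtype.ext (hMab u u.2 v v.2)⟩⟩, ?_, hfrob, hker⟩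
  -- `C(y)` is abelian
  obtain ⟨b, hb, hCb⟩ := T.exists_Q_part (show idx y = m from hy)
  have hwm : idx (y ^ b) = m := by rw [idx_def, hCb, hy]
  refine ⟨⟨fun u v => Subtype.ext ?_⟩⟩
  change (u : G) * v = v * u
  by_cases huZ : (u : G) ∈ Subgroup.center G
  · exact (Subgroup.mem_center_iff.mp huZ v).symm
  · have hu' : (u : G) ∈ Subgroup.centralizer ({y ^ b} : Set G) := by rw [hCb]; exact u.2
    have h1 : idx (u : G) = m := T.idx_eq_of_mem hwm hb hu' huZ
    have h2 : Subgroup.centralizer ({(u : G)} : Set G) = Subgroup.centralizer ({y} : Set G) :=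
      eq_of_le_of_index_eq (hcent u u.2 huZ) (by rw [← idx_def, h1, hy])
    have h3 : (v : G) ∈ Subgroup.centralizer ({(u : G)} : Set G) := by rw [h2]; exact v.2
    exact (Ito.mem_cent.mp h3).symm

end Cfsg.Agent.S4138
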