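import Mathlib
import Cfsg.Statements.S4142

set_option autoImplicit false
open Cfsg

namespace Cfsg.Agent.S4142

theorem conj_eq_iff {G : Type*} [Group G] (x g h : G) : x * g * x⁻¹ = h ↔ x * g = h * x := by
  constructor
  · intro e; rw [← e]; group
  · intro e; rw [e]; group

theorem card_mul {G : Type*} [Group G] [Finite G] (N : Subgroup G) [N.Normal] (g : G) :
    Nat.card {n : G | n ∈ N ∧ ∃ x, x * g * x⁻¹ = g * n} * Nat.card (Subgroup.centralizer ({g} : Set G)) =
    Nat.card N * Nat.card (Subgroup.centralizer ({(QuotientGroup.mk g : G ⧸ N)} : Set (G ⧸ N))) := by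
  classical
  rw [← SetLike.coe_sort_coe (Subgroup.centralizer ({(QuotientGroup.mk g : G ⧸ N)} : Set (G ⧸ N))),
    ← QuotientGroup.card_preimage_mk, ← Nat.card_prod]
  set T := {n : G | n ∈ N ∧ ∃ x, x * g * x⁻¹ = g * n} with hT
  set C := Subgroup.centralizer ({g} : Set G) with hC
  set Cb := Subgroup.centralizer ({(QuotientGroup.mk g : G ⧸ N)} : Set (G ⧸ N)) with hCb
  let xs : T → G := fun n => n.2.2.choose
  have hxs : ∀ n : T, xs n * g * (xs n)⁻¹ = g * n := fun n => n.2.2.choose_spec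
  have hmem : ∀ (n : T) (c : C), xs n * c ∈ (QuotientGroup.mk ⁻¹' (Cb : Set (G ⧸ N))) := by
    intro n c
    rw [Set.mem_preimage, SetLike.mem_coe, hCb, Subgroup.mem_centralizer_singleton_iff]
    have h1 : xs n * g = g * n * xs n := (conj_eq_iff _ _ _).mp (hxs n)
    have h2 : (c : G) * g = g * c := Subgroup.mem_centralizer_singleton_iff.mp c.2
    have h3 : xs n * c * g = g * n * (xs n * c) := by
      calc xs n * c * g = xs n * (c * g) := by group
        _ = xs n * (g * c) := by rw [h2]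
        _ = (xs n * g) * c := by group
        _ = g * n * xs n * c := by rw [h1]
        _ = g * n * (xs n * c) := by group
    have h4 : ((n : G) : G ⧸ N) = 1 := (QuotientGroup.eq_one_iff _).mpr n.2.1
    rw [← QuotientGroup.mk_mul, h3, QuotientGroup.mk_mul, QuotientGroup.mk_mul, h4, mul_one,
      ← QuotientGroup.mk_mul]
  let f : T × C → (QuotientGroup.mk ⁻¹' (Cb : Set (G ⧸ N))) := fun p => ⟨xs p.1 * p.2, hmem p.1 p.2⟩
  apply Nat.card_eq_of_bijective f
  constructor
  · rintro ⟨n, c⟩ ⟨n', c'⟩ h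
    have h' : xs n * c = xs n' * c' := congrArg Subtype.val h
    have hc : ∀ (m : T) (d : C), (xs m * d) * g * (xs m * d)⁻¹ = g * m := by
      intro m d
      have h2 : (d : G) * g = g * d := Subgroup.mem_centralizer_singleton_iff.mp d.2
      calc (xs m * d) * g * (xs m * d)⁻¹ = xs m * (d * g) * (d : G)⁻¹ * (xs m)⁻¹ := by group
        _ = xs m * (g * d) * (d : G)⁻¹ * (xs m)⁻¹ := by rw [h2]
        _ = xs m * g * (xs m)⁻¹ := by group
        _ = g * m := hxs m
    have h5 : g * (n : G) = g * n' := by rw [← hc n c, ← hc n' c', h']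
    have h6 : n = n' := Subtype.ext (mul_left_cancel h5)
    subst h6
    have h7 : (c : G) = c' := mul_left_cancel h'
    rw [Prod.mk.injEq]
    exact ⟨rfl, Subtype.ext h7⟩
  · rintro ⟨y, hy⟩
    rw [Set.mem_preimage, SetLike.mem_coe, hCb, Subgroup.mem_centralizer_singleton_iff] at hy
    have hn : g⁻¹ * (y * g * y⁻¹) ∈ N := by
      rw [← QuotientGroup.eq_one_iff]
      rw [QuotientGroup.mk_mul, QuotientGroup.mk_mul, QuotientGroup.mk_mul, hy,
        QuotientGroup.mk_inv, QuotientGroup.mk_inv]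
      group
    let n : T := ⟨g⁻¹ * (y * g * y⁻¹), hn, y, by group⟩
    have hc : (xs n)⁻¹ * y ∈ C := by
      rw [hC, Subgroup.mem_centralizer_singleton_iff]
      have h1 : xs n * g * (xs n)⁻¹ = y * g * y⁻¹ := by
        rw [hxs n]; show g * (g⁻¹ * (y * g * y⁻¹)) = _; group
      calc (xs n)⁻¹ * y * g = (xs n)⁻¹ * (y * g * y⁻¹) * y := by group
        _ = (xs n)⁻¹ * (xs n * g * (xs n)⁻¹) * y := by rw [h1]
        _ = g * ((xs n)⁻¹ * y) := by group
    refine ⟨(n, ⟨(xs n)⁻¹ * y, hc⟩), ?_⟩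
    apply Subtype.ext
    show xs n * ((xs n)⁻¹ * y) = y
    group

/-- (G, N) is a Camina pair iff #C_G(g) = #C_{G/N}(gN) for every g ∉ N. -/
theorem result {G : Type*} [Group G] [Finite G] (N : Subgroup G) [N.Normal] :
    (∀ g : G, g ∉ N → ∀ n ∈ N, ∃ x : G, x * g * x⁻¹ = g * n) ↔
      ∀ g : G, g ∉ N → Nat.card (Subgroup.centralizer ({g} : Set G)) =
        Nat.card (Subgroup.centralizer ({(QuotientGroup.mk g : G ⧸ N)} : Set (G ⧸ N))) := by
  have hpt : ∀ g : G, (∀ n ∈ N, ∃ x : G, x * g * x⁻¹ = g * n) ↔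
      Nat.card (Subgroup.centralizer ({g} : Set G)) =
        Nat.card (Subgroup.centralizer ({(QuotientGroup.mk g : G ⧸ N)} : Set (G ⧸ N))) := by
    intro g
    have hcm := card_mul N g
    have hNpos : 0 < Nat.card N := Nat.card_pos
    have hCpos : 0 < Nat.card (Subgroup.centralizer ({g} : Set G)) := Nat.card_pos
    constructor
    · intro h
      have hT : {n : G | n ∈ N ∧ ∃ x, x * g * x⁻¹ = g * n} = (N : Set G) := by
        ext n
        constructor
        · intro hn; exact hn.1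
        · intro hn; exact ⟨hn, h n hn⟩
      rw [hT] at hcm
      exact Nat.eq_of_mul_eq_mul_left hNpos hcm
    · intro h n hn
      rw [← h] at hcm
      have h1 : Nat.card {n : G | n ∈ N ∧ ∃ x, x * g * x⁻¹ = g * n} = Nat.card N :=
        Nat.eq_of_mul_eq_mul_right hCpos hcm
      have hsub : {n : G | n ∈ N ∧ ∃ x, x * g * x⁻¹ = g * n} ⊆ (N : Set G) := fun n hn => hn.1
      have hfin : (N : Set G).Finite := Set.toFinite _
      have h2 : {n : G | n ∈ N ∧ ∃ x, x * g * x⁻¹ = g * n} = (N : Set G) := by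
        apply Set.eq_of_subset_of_ncard_le hsub _ hfin
        rw [← Nat.card_coe_set_eq, ← Nat.card_coe_set_eq, h1]
        rfl
      have : n ∈ {n : G | n ∈ N ∧ ∃ x, x * g * x⁻¹ = g * n} := by rw [h2]; exact hn
      exact this.2
  constructor
  · intro h g hg
    exact (hpt g).mp (h g hg)
  · intro h g hg
    exact (hpt g).mpr (h g hg)

end Cfsg.Agent.S4142
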