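import Cfsg.Statements.S4150
import Cfsg.Agent.Helper27.S4150GEN
import Cfsg.Agent.Helper8.S4150ALTCL
import Cfsg.Agent.Helper17.S4150PRIMES

set_option autoImplicit false
open Cfsg

namespace Cfsg.Agent.S4150P

open Equiv Equiv.Perm

/-- one choice of primes settles a given `m`. -/
theorem FINAL.of_pair (m p q : ℕ) (hp : p.Prime) (hq : q.Prime) (hpq : p < q) (h3 : 3 ≤ p)
    (h2p : m ≤ 2 * p) (hqm : q ≤ m)
    (htwin : q = p + 2 → p = 3 ∨ p = 5 ∨ p = 11)
    (hdbl : m = 2 * p → q + 3 ≤ 2 * p ∨ (p = 3 ∧ q = 5)) :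
    ∃ p q : ℕ, p.Prime ∧ q.Prime ∧ m ≤ 2 * p ∧ p < q ∧ q ≤ m ∧
      ∀ x y : alternatingGroup (Fin m), orderOf x = p → orderOf y = q →
        ∃ d : ℕ, 5 ≤ d ∧ Nonempty (Subgroup.closure ({x, y} : Set (alternatingGroup (Fin m))) ≃*
          alternatingGroup (Fin d)) := by
  refine ⟨p, q, hp, hq, h2p, hpq, hqm, fun x y hx hy => ?_⟩
  have hX : orderOf (x : Perm (Fin m)) = p := by rw [Subgroup.orderOf_coe]; exact hx
  have hY : orderOf (y : Perm (Fin m)) = q := by rw [Subgroup.orderOf_coe]; exact hy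
  have hXs : Equiv.Perm.sign (x : Perm (Fin m)) = 1 := Equiv.Perm.mem_alternatingGroup.mp x.2
  have hYs : Equiv.Perm.sign (y : Perm (Fin m)) = 1 := Equiv.Perm.mem_alternatingGroup.mp y.2
  obtain ⟨d, hd, ⟨e⟩⟩ := GEN.main hp hq hpq h3 (x : Perm (Fin m)) (y : Perm (Fin m)) hXs hYs hX hY
    (by rw [Fintype.card_fin]; exact h2p) htwin (by rw [Fintype.card_fin]; exact hdbl)
  obtain ⟨e0⟩ := ALTCL.main m x y
  exact ⟨d, hd, ⟨e0.trans e⟩⟩

theorem FINAL.main (m : ℕ) (hm : 5 ≤ m) :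
    ∃ p q : ℕ, p.Prime ∧ q.Prime ∧ m ≤ 2 * p ∧ p < q ∧ q ≤ m ∧
      ∀ x y : alternatingGroup (Fin m), orderOf x = p → orderOf y = q →
        ∃ d : ℕ, 5 ≤ d ∧ Nonempty (Subgroup.closure ({x, y} : Set (alternatingGroup (Fin m))) ≃*
          alternatingGroup (Fin d)) := by
  by_cases h17 : 17 ≤ m
  · obtain ⟨p, q, hp, hq, h1, h2, h3⟩ := PRIMES.exists_pair m h17
    exact FINAL.of_pair m p q hp hq (by omega) (by omega) (by omega) h3 (by omega) (by omega)
  · have h5 : (5 : ℕ).Prime := by norm_num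
    have h3 : (3 : ℕ).Prime := by norm_num
    have h7 : (7 : ℕ).Prime := by norm_num
    have h11 : (11 : ℕ).Prime := by norm_num
    have h13 : (13 : ℕ).Prime := by norm_num
    by_cases hm6 : m ≤ 6
    · exact FINAL.of_pair m 3 5 h3 h5 (by omega) (by omega) (by omega) (by omega) (by omega)
        (by omega)
    by_cases hm10 : m ≤ 10
    · exact FINAL.of_pair m 5 7 h5 h7 (by omega) (by omega) (by omega) (by omega) (by omega)
        (by omega)
    by_cases hm13 : m ≤ 13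
    · exact FINAL.of_pair m 7 11 h7 h11 (by omega) (by omega) (by omega) (by omega) (by omega)
        (by omega)
    · exact FINAL.of_pair m 11 13 h11 h13 (by omega) (by omega) (by omega) (by omega) (by omega)
        (by omega)

end Cfsg.Agent.S4150P

namespace Cfsg.Agent.S4150
theorem result (m : ℕ) (hm : 5 ≤ m) :
    ∃ p q : ℕ, p.Prime ∧ q.Prime ∧ m ≤ 2 * p ∧ p < q ∧ q ≤ m ∧
      ∀ x y : alternatingGroup (Fin m), orderOf x = p → orderOf y = q →
        ∃ d : ℕ, 5 ≤ d ∧ Nonempty (Subgroup.closure ({x, y} : Set (alternatingGroup (Fin m))) ≃* alternatingGroup (Fin d)) :=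
  Cfsg.Agent.S4150P.FINAL.main m hm
end Cfsg.Agent.S4150
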