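import Cfsg.Statements.S4151
import Mathlib
import Cfsg.Agent.Helper13.TIHallZ
import Cfsg.Agent.Helper9.WardA

set_option autoImplicit false
open Cfsg
open scoped commutatorElement Pointwise

namespace Cfsg.Agent.S4151

/-- Let G be a finite group and H a non-normal subgroup meeting each of its conjugates by elements outside N_G(H) trivially, with the order of H coprime to its index in N_G(H), such that G is π-separable for π the set of primes dividing the order of H (G has a chain of normal subgroups from 1 to G each of whose factors has order divisible only by primes dividing the order of H or coprime to it). Suppose a Sylow 2-subgroup of H is abelian and Q is a complement of H in N_G(H). Then C_H(Q), the subgroup of elements of H commuting with Q, has order coprime to its index in G and has a normal complement in G. -/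
theorem result {G : Type*} [Group G] [Finite G] (H : Subgroup G)
    (hTI : Cfsg.IsTISubset (H : Set G)) (hnn : ¬ H.Normal)
    (hHall : (Nat.card H).Coprime (H.subgroupOf (Subgroup.normalizer (H : Set G))).index)
    (hsep : ∃ (n : ℕ) (M : Fin (n + 1) → Subgroup G), M 0 = ⊥ ∧ M (Fin.last n) = ⊤ ∧ Monotone M ∧ (∀ i, (M i).Normal) ∧
      ∀ i : Fin n, (∀ q : ℕ, q.Prime → q ∣ (M i.castSucc).relIndex (M i.succ) → q ∣ Nat.card H) ∨
        ((M i.castSucc).relIndex (M i.succ)).Coprime (Nat.card H))
    (h2 : ∀ P : Sylow 2 H, IsMulCommutative (P : Subgroup H))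
    (Q : Subgroup G) (hQ : Q ≤ Subgroup.normalizer (H : Set G)) (hQH : Q ⊓ H = ⊥) (hQH' : Q ⊔ H = Subgroup.normalizer (H : Set G)) :
    (Nat.card ↥(H ⊓ Subgroup.centralizer (Q : Set G))).Coprime (H ⊓ Subgroup.centralizer (Q : Set G)).index ∧
    ∃ N : Subgroup G, N.Normal ∧ N.IsComplement' (H ⊓ Subgroup.centralizer (Q : Set G)) := by
  classical
  obtain ⟨hOn, hOcop, hOmax, htop, hOHn⟩ :=
    Cfsg.Agent.Helper13.TIHall.structure_thm H hTI hnn hHall hsep _ rfl
  set O : Subgroup G :=
    sSup {K : Subgroup G | K.Normal ∧ (Nat.card K).Coprime (Nat.card H)} with hO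
  have := hOn
  have huni := Cfsg.Agent.Helper13.TIHall.uniform_centralizer H O hTI hOcop
  have hnt := Cfsg.Agent.Helper13.TIHall.exists_not_commute H O hnn htop
  have hHO : H ≤ Subgroup.normalizer (O : Set G) := by
    rw [Subgroup.normalizer_eq_top]; exact le_top
  have hZ : IsZGroup H :=
    Cfsg.Agent.Helper13.TIHall.isZGroup_of_uniform H O hHO hOcop huni hnt h2
  have hQcard := Cfsg.Agent.Helper13.TIHall.card_complement_eq H Q hQ hQH hQH'
  have hQcop : (Nat.card Q).Coprime (Nat.card H) := by rw [hQcard]; exact hHall.symm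
  obtain ⟨hLcyc, hLZ, hLsup, hcard, hcopLZ⟩ :=
    Cfsg.Agent.Lead.zgroup_coprime_structure Q H hQ hQcop
  set L : Subgroup G := ⁅H, Q⁆ with hL
  set Z : Subgroup G := H ⊓ Subgroup.centralizer (Q : Set G) with hZdef
  have hLH : L ≤ H := Cfsg.Agent.Lead.commutator_le_of_le_normalizer hQ
  have hQL : Q ≤ Subgroup.normalizer (L : Set G) :=
    Cfsg.Agent.Lead.le_normalizer_commutator_right H Q
  have hHL : H ≤ Subgroup.normalizer (L : Set G) :=
    Cfsg.Agent.Lead.le_normalizer_commutator_left H Q
  set N : Subgroup G := O ⊔ (L ⊔ Q) with hN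
  have hNn : N.Normal := by
    rw [← Subgroup.normalizer_eq_top_iff, eq_top_iff, ← htop, ← hQH']
    refine sup_le ?_ (sup_le ?_ ?_)
    · exact le_sup_left.trans Subgroup.le_normalizer
    · exact (le_sup_right.trans le_sup_right).trans Subgroup.le_normalizer
    · apply Cfsg.Agent.Helper13.TIHall.le_normalizer_of_map_le
      intro h hh
      rw [hN, Subgroup.map_sup, Subgroup.map_sup]
      refine sup_le ?_ (sup_le ?_ ?_)
      · rw [Cfsg.Agent.Helper13.TIHall.map_conj_eq_of_mem_normalizer O h (hHO hh)]
        exact le_sup_left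
      · rw [Cfsg.Agent.Helper13.TIHall.map_conj_eq_of_mem_normalizer L h (hHL hh)]
        exact le_sup_left.trans le_sup_right
      · rintro _ ⟨q, hq, rfl⟩
        show h * q * h⁻¹ ∈ _
        have : h * q * h⁻¹ = ⁅h, q⁆ * q := by rw [commutatorElement_def]; group
        rw [this]
        apply Subgroup.mul_mem
        · exact Subgroup.mem_sup_right
            (Subgroup.mem_sup_left (Subgroup.commutator_mem_commutator hh hq))
        · exact Subgroup.mem_sup_right (Subgroup.mem_sup_right hq)
  have hNcard : Nat.card N ∣ Nat.card O * (Nat.card L * Nat.card Q) := by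
    have h1 : Nat.card ↥(L ⊔ Q) ∣ Nat.card L * Nat.card Q := by
      rw [sup_comm, mul_comm]
      exact Cfsg.Agent.Helper9.Ward.card_sup_dvd_mul hQL
    have h2 : Nat.card ↥((L ⊔ Q) ⊔ O) ∣ Nat.card ↥(L ⊔ Q) * Nat.card O :=
      Cfsg.Agent.Helper9.Ward.card_sup_dvd_mul (by rw [Subgroup.normalizer_eq_top]; exact le_top)
    rw [hN, sup_comm O]
    refine h2.trans ?_
    rw [mul_comm]
    exact Nat.mul_dvd_mul_left _ h1
  have hZH : Z ≤ H := inf_le_left
  have hcopNZ : (Nat.card N).Coprime (Nat.card Z) := by
    apply Nat.Coprime.coprime_dvd_left hNcard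
    apply Nat.Coprime.mul_left
    · exact hOcop.coprime_dvd_right (Subgroup.card_dvd_of_le hZH)
    · apply Nat.Coprime.mul_left hcopLZ
      exact hQcop.coprime_dvd_right (Subgroup.card_dvd_of_le hZH)
  have hdisj : Disjoint N Z := Subgroup.disjoint_of_coprime_natCard hcopNZ
  have hsup : N ⊔ Z = ⊤ := by
    rw [eq_top_iff, ← htop, ← hQH', ← hLsup]
    refine sup_le ?_ (sup_le ?_ (sup_le ?_ ?_))
    · exact le_sup_left.trans le_sup_left
    · exact (le_sup_right.trans le_sup_right).trans le_sup_left
    · exact (le_sup_left.trans le_sup_right).trans le_sup_left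
    · exact le_sup_right
  have hcompl : N.IsComplement' Z := by
    apply Subgroup.isComplement'_of_disjoint_and_mul_eq_univ hdisj
    rw [← Subgroup.normal_mul, hsup]
    rfl
  refine ⟨?_, N, hNn, hcompl⟩
  rw [hcompl.index_eq_card]
  exact hcopNZ.symm

end Cfsg.Agent.S4151
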