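import Mathlib
import Cfsg.Statements.S4153

set_option autoImplicit false
open Cfsg

namespace Cfsg.Agent.S4153

theorem card_inf_ker_mul_card_map {G G' : Type*} [Group G] [Group G'] [Finite G] (Q : Subgroup G) (f : G →* G') :
    Nat.card (f.ker ⊓ Q : Subgroup G) * Nat.card (Q.map f) = Nat.card Q := by
  have h1 : f.ker.relIndex Q = Nat.card (Q.map f) := Subgroup.relIndex_ker (K := Q) f
  have h2 : Nat.card (f.ker.subgroupOf Q) * (f.ker.subgroupOf Q).index = Nat.card Q :=
    (f.ker.subgroupOf Q).card_mul_index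
  have h3 : Nat.card (f.ker ⊓ Q : Subgroup G) = Nat.card (f.ker.subgroupOf Q) := by
    rw [← Subgroup.inf_subgroupOf_right]
    exact (Nat.card_congr (Subgroup.subgroupOfEquivOfLe (inf_le_right : f.ker ⊓ Q ≤ Q)).toEquiv).symm
  rw [h3, ← h1]
  exact h2

theorem isPElt_of_mem {G : Type*} [Group G] {p : ℕ} [Fact p.Prime] (Q : Subgroup G) (hQ : IsPGroup p Q)
    (x : G) (hx : x ∈ Q) : ∃ k : ℕ, orderOf x = p ^ k := by
  obtain ⟨k, hk⟩ := (IsPGroup.iff_orderOf.mp hQ) ⟨x, hx⟩
  exact ⟨k, by rw [← Subgroup.orderOf_coe] at hk; exact hk⟩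

theorem isPElt_map {G G' : Type*} [Group G] [Group G'] {p : ℕ} [hp : Fact p.Prime] (f : G →* G') (x : G)
    (hx : ∃ k : ℕ, orderOf x = p ^ k) : ∃ k : ℕ, orderOf (f x) = p ^ k := by
  obtain ⟨k, hk⟩ := hx
  have h1 : orderOf (f x) ∣ p ^ k := hk ▸ orderOf_map_dvd f x
  obtain ⟨j, _, hj⟩ := (Nat.dvd_prime_pow hp.out).mp h1
  exact ⟨j, hj⟩

/-- The ratio (number of p-elements)/(order of a Sylow p-subgroup) does not increase on passing to a quotient G/N, and is unchanged when N ≤ Z(G). -/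
theorem result {G : Type*} [Group G] [Finite G] (p : ℕ) [Fact p.Prime] (N : Subgroup G) [N.Normal]
    (P : Sylow p G) (Pbar : Sylow p (G ⧸ N)) :
    Nat.card {g : (G ⧸ N) // ∃ k : ℕ, orderOf g = p ^ k} * Nat.card (P : Subgroup G) ≤ Nat.card {g : G // ∃ k : ℕ, orderOf g = p ^ k} * Nat.card (Pbar : Subgroup (G ⧸ N)) ∧
    (N ≤ Subgroup.center G → Nat.card {g : (G ⧸ N) // ∃ k : ℕ, orderOf g = p ^ k} * Nat.card (P : Subgroup G) = Nat.card {g : G // ∃ k : ℕ, orderOf g = p ^ k} * Nat.card (Pbar : Subgroup (G ⧸ N))) := by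
  classical
  have hp : p.Prime := Fact.out
  set EG := {g : G // ∃ k : ℕ, orderOf g = p ^ k} with hEG
  set EQ := {g : (G ⧸ N) // ∃ k : ℕ, orderOf g = p ^ k} with hEQ
  have : Fintype EG := Fintype.ofFinite _
  have : Fintype EQ := Fintype.ofFinite _
  let f : EG → EQ := fun g => ⟨QuotientGroup.mk' N g.1, isPElt_map (QuotientGroup.mk' N) g.1 g.2⟩
  -- every Sylow Q of G: |Q ⊓ N| * |Pbar| = |P|
  have hsyl : ∀ Q : Sylow p G, Nat.card (N ⊓ (Q : Subgroup G) : Subgroup G) * Nat.card (Pbar : Subgroup (G ⧸ N)) = Nat.card (P : Subgroup G) := by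
    intro Q
    have h1 := card_inf_ker_mul_card_map (Q : Subgroup G) (QuotientGroup.mk' N)
    rw [QuotientGroup.ker_mk'] at h1
    have h2 : Nat.card ((Q : Subgroup G).map (QuotientGroup.mk' N)) = Nat.card (Pbar : Subgroup (G ⧸ N)) := by
      have := (Q.mapSurjective (QuotientGroup.mk'_surjective N)).card_eq_multiplicity
      rw [Sylow.coe_mapSurjective] at this
      rw [this, Pbar.card_eq_multiplicity]
    rw [h2] at h1
    rw [h1, Q.card_eq_multiplicity, P.card_eq_multiplicity]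
  set ν := Nat.card (N ⊓ (P : Subgroup G) : Subgroup G) with hν
  have hνeq : ∀ Q : Sylow p G, Nat.card (N ⊓ (Q : Subgroup G) : Subgroup G) = ν := by
    intro Q
    have h1 := hsyl Q
    have h2 := hsyl P
    have hpos : 0 < Nat.card (Pbar : Subgroup (G ⧸ N)) := Nat.card_pos
    exact Nat.eq_of_mul_eq_mul_right hpos (h1.trans h2.symm)
  -- lifting
  have hlift : ∀ y : EQ, ∃ (Q : Sylow p G) (x : G), x ∈ (Q : Subgroup G) ∧ QuotientGroup.mk' N x = y.1 := by
    rintro ⟨y, k, hk⟩
    have hpg : IsPGroup p (Subgroup.zpowers y) := by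
      rw [IsPGroup.iff_card]
      exact ⟨k, by rw [Nat.card_zpowers, hk]⟩
    obtain ⟨Qb, hQb⟩ := hpg.exists_le_sylow
    obtain ⟨Q, hQ⟩ := Sylow.mapSurjective_surjective (QuotientGroup.mk'_surjective N) p Qb
    have hy : y ∈ (Qb : Subgroup (G ⧸ N)) := hQb (Subgroup.mem_zpowers y)
    rw [← hQ, Sylow.coe_mapSurjective] at hy
    obtain ⟨x, hx, hxy⟩ := hy
    exact ⟨Q, x, hx, hxy⟩
  -- fiber lower bound
  have hfib : ∀ y : EQ, ν ≤ Fintype.card {x : EG // f x = y} := by
    intro y
    obtain ⟨Q, x, hxQ, hxy⟩ := hlift y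
    rw [← hνeq Q, ← Nat.card_eq_fintype_card]
    let ι : (N ⊓ (Q : Subgroup G) : Subgroup G) → {x : EG // f x = y} := fun u =>
      ⟨⟨x * u.1, isPElt_of_mem (Q : Subgroup G) Q.isPGroup' _ ((Q : Subgroup G).mul_mem hxQ u.2.2)⟩, by
        apply Subtype.ext
        show QuotientGroup.mk' N (x * u.1) = y.1
        rw [map_mul, hxy]
        have : QuotientGroup.mk' N u.1 = 1 := (QuotientGroup.eq_one_iff _).mpr u.2.1
        rw [this, mul_one]⟩
    apply Nat.card_le_card_of_injective ι
    intro u v huv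
    have h1 : x * u.1 = x * v.1 := congrArg (fun z => z.1.1) huv
    exact Subtype.ext (mul_left_cancel h1)
  have hsum : Fintype.card EG = ∑ y : EQ, Fintype.card {x : EG // f x = y} := by
    rw [← Fintype.card_sigma]
    exact Fintype.card_congr (Equiv.sigmaFiberEquiv f).symm
  have hcardEG : Nat.card EG = Fintype.card EG := Nat.card_eq_fintype_card
  have hcardEQ : Nat.card EQ = Fintype.card EQ := Nat.card_eq_fintype_card
  constructor
  · rw [← hsyl P, hcardEG, hcardEQ]
    have h1 : Fintype.card EQ * ν ≤ Fintype.card EG := by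
      rw [hsum, ← smul_eq_mul, ← Finset.card_univ]
      exact Finset.card_nsmul_le_sum _ _ _ (fun y _ => hfib y)
    calc Fintype.card EQ * (ν * Nat.card (Pbar : Subgroup (G ⧸ N)))
        = (Fintype.card EQ * ν) * Nat.card (Pbar : Subgroup (G ⧸ N)) := by ring
      _ ≤ Fintype.card EG * Nat.card (Pbar : Subgroup (G ⧸ N)) := Nat.mul_le_mul_right _ h1
  · intro hZ
    have hfib' : ∀ y : EQ, Fintype.card {x : EG // f x = y} = ν := by
      intro y
      apply le_antisymm _ (hfib y)
      obtain ⟨Q, x, hxQ, hxy⟩ := hlift y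
      rw [← hνeq Q, ← Nat.card_eq_fintype_card]
      -- injection fiber → N ⊓ Q
      have hmem : ∀ z : {x : EG // f x = y}, x⁻¹ * z.1.1 ∈ (N ⊓ (Q : Subgroup G) : Subgroup G) := by
        rintro ⟨⟨z, hz⟩, hzy⟩
        have hzy' : QuotientGroup.mk' N z = y.1 := congrArg Subtype.val hzy
        have hN : x⁻¹ * z ∈ N := by
          rw [← QuotientGroup.eq_one_iff]
          have : ((x⁻¹ * z : G) : G ⧸ N) = (QuotientGroup.mk' N x)⁻¹ * QuotientGroup.mk' N z := by
            simp
          rw [this, hxy, hzy', inv_mul_cancel]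
        refine ⟨hN, ?_⟩
        -- x⁻¹ z is a central p-element
        have hcen : x⁻¹ * z ∈ Subgroup.center G := hZ hN
        have hcomm : Commute x (x⁻¹ * z) := (Subgroup.mem_center_iff.mp hcen x)
        have hzeq : z = x * (x⁻¹ * z) := by group
        -- order of x⁻¹ z divides lcm
        obtain ⟨k1, hk1⟩ := isPElt_of_mem (Q : Subgroup G) Q.isPGroup' x hxQ
        obtain ⟨k2, hk2⟩ := hz
        have hcomm2 : Commute x⁻¹ z := by
          have : Commute x⁻¹ (x⁻¹ * z) := hcomm.inv_left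
          have h3 : z = x * (x⁻¹ * z) := hzeq
          rw [h3]
          exact (Commute.refl x).inv_left.mul_right this
        have hdvd : orderOf (x⁻¹ * z) ∣ Nat.lcm (orderOf x⁻¹) (orderOf z) := hcomm2.orderOf_mul_dvd_lcm
        rw [orderOf_inv, hk1, hk2] at hdvd
        have hdvd2 : orderOf (x⁻¹ * z) ∣ p ^ (max k1 k2) := by
          refine dvd_trans hdvd (Nat.lcm_dvd ?_ ?_)
          · exact pow_dvd_pow p (le_max_left _ _)
          · exact pow_dvd_pow p (le_max_right _ _)
        obtain ⟨j, _, hj⟩ := (Nat.dvd_prime_pow hp).mp hdvd2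
        -- zpowers is a normal p-subgroup
        have hpg : IsPGroup p (Subgroup.zpowers (x⁻¹ * z)) := by
          rw [IsPGroup.iff_card]
          exact ⟨j, by rw [Nat.card_zpowers, hj]⟩
        have hnorm : (Subgroup.zpowers (x⁻¹ * z)).Normal := by
          constructor
          intro n hn g
          have hle : Subgroup.zpowers (x⁻¹ * z) ≤ Subgroup.center G :=
            (Subgroup.zpowers_le).mpr hcen
          have hn' := hle hn
          have : g * n * g⁻¹ = n := by
            rw [Subgroup.mem_center_iff.mp hn' g]; group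
          rw [this]; exact hn
        exact hpg.le_sylow_of_normal Q (Subgroup.mem_zpowers _)
      let κ : {x : EG // f x = y} → (N ⊓ (Q : Subgroup G) : Subgroup G) := fun z => ⟨x⁻¹ * z.1.1, hmem z⟩
      apply Nat.card_le_card_of_injective κ
      intro z w hzw
      have h1 : x⁻¹ * z.1.1 = x⁻¹ * w.1.1 := congrArg Subtype.val hzw
      exact Subtype.ext (Subtype.ext (mul_left_cancel h1))
    rw [← hsyl P, hcardEG, hcardEQ, hsum]
    simp_rw [hfib']
    rw [Finset.sum_const, Finset.card_univ, smul_eq_mul]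
    ring

end Cfsg.Agent.S4153
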