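import Mathlib
import Cfsg.Statements.S4154

set_option autoImplicit false
open Cfsg

namespace Cfsg.Agent.S4154

variable {G : Type*} [Group G]

/-- fixed points of an automorphism -/
def fixSub (α : MulAut G) : Subgroup G where
  carrier := {c | α c = c}
  one_mem' := map_one α
  mul_mem' := by
    intro a b ha hb
    simp only [Set.mem_setOf_eq] at *
    rw [map_mul, ha, hb]
  inv_mem' := by
    intro a ha
    simp only [Set.mem_setOf_eq] at *
    rw [map_inv, ha]

theorem mem_fixSub (α : MulAut G) (c : G) : c ∈ fixSub α ↔ α c = c := Iff.rfl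

/-- the map `g ↦ g⁻¹ α(g)` -/
def psi (α : MulAut G) (g : G) : G := g⁻¹ * α g

theorem psi_mul_left (α : MulAut G) (c g : G) (hc : α c = c) : psi α (c * g) = psi α g := by
  unfold psi; rw [map_mul, hc]; group

theorem fix_of_psi_eq (α : MulAut G) (g h : G) (e : psi α g = psi α h) : α (h * g⁻¹) = h * g⁻¹ := by
  unfold psi at e
  have h1 : α g = g * (h⁻¹ * α h) := by rw [← e]; group
  rw [map_mul, map_inv, h1]; group

theorem psi_inj_on_range [Finite G] (α : MulAut G)
    (hccp : ∀ x : G, ∃ c g : G, α c = c ∧ x = c * (g⁻¹ * α g))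
    (k₁ k₂ : G) (h₁ : k₁ ∈ Set.range (psi α)) (h₂ : k₂ ∈ Set.range (psi α))
    (e : psi α k₁ = psi α k₂) : k₁ = k₂ := by
  classical
  let K := Set.range (psi α)
  let pre : K → G := fun k => k.2.choose
  have hpre : ∀ k : K, psi α (pre k) = k := fun k => k.2.choose_spec
  let inj : fixSub α × K → G := fun p => (p.1 : G) * pre p.2
  have hinj : Function.Injective inj := by
    rintro ⟨c, k⟩ ⟨c', k'⟩ h
    simp only [inj] at h
    have h1 : psi α ((c : G) * pre k) = psi α ((c' : G) * pre k') := by rw [h]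
    rw [psi_mul_left α _ _ c.2, psi_mul_left α _ _ c'.2, hpre, hpre] at h1
    have hk : k = k' := Subtype.ext h1
    subst hk
    have hc : (c : G) = c' := mul_right_cancel h
    rw [Prod.mk.injEq]
    exact ⟨Subtype.ext hc, rfl⟩
  have hcard : Nat.card (fixSub α × K) ≤ Nat.card G := Nat.card_le_card_of_injective inj hinj
  let m : fixSub α × K → G := fun p => (p.1 : G) * (p.2 : G)
  have hsurj : Function.Surjective m := by
    intro x
    obtain ⟨c, g, hc, hx⟩ := hccp x
    exact ⟨(⟨c, hc⟩, ⟨g⁻¹ * α g, ⟨g, rfl⟩⟩), hx.symm⟩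
  have hbij := hsurj.bijective_of_nat_card_le hcard
  have hc : k₂ * k₁⁻¹ ∈ fixSub α := fix_of_psi_eq α k₁ k₂ e
  have h3 : m (⟨k₂ * k₁⁻¹, hc⟩, ⟨k₁, h₁⟩) = m (1, ⟨k₂, h₂⟩) := by
    simp only [m]
    rw [Subgroup.coe_one, one_mul, inv_mul_cancel_right]
  have h4 := hbij.1 h3
  rw [Prod.mk.injEq] at h4
  exact congrArg Subtype.val h4.2

/-- Let G be a finite group and α an automorphism of G such that every element of G is the product of an element fixed by α and an element of the form g⁻¹α(g). If N is a normal α-invariant subgroup, then the automorphism ᾱ induced on G/N has the same property, and every coset fixed by ᾱ contains an element fixed by α (so the fixed points of ᾱ are the images of the fixed points of α). -/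
theorem result {G : Type*} [Group G] [Finite G] (α : MulAut G)
    (hccp : ∀ x : G, ∃ c g : G, α c = c ∧ x = c * (g⁻¹ * α g))
    (N : Subgroup G) [N.Normal] (hN : ∀ n ∈ N, α n ∈ N) :
    (∀ x : G, ∃ c g : G, c⁻¹ * α c ∈ N ∧ x⁻¹ * (c * (g⁻¹ * α g)) ∈ N) ∧
    (∀ x : G, x⁻¹ * α x ∈ N → ∃ c : G, α c = c ∧ c⁻¹ * x ∈ N) := by
  constructor
  · intro x
    obtain ⟨c, g, hc, hx⟩ := hccp x
    refine ⟨c, g, ?_, ?_⟩
    · rw [hc, inv_mul_cancel]; exact N.one_mem
    · rw [← hx, inv_mul_cancel]; exact N.one_mem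
  · intro x hx
    let S : Set G := {k | k ∈ Set.range (psi α) ∧ k ∈ N}
    have hmaps : ∀ k : S, psi α k ∈ S := by
      rintro ⟨k, hk1, hk2⟩
      refine ⟨⟨k, rfl⟩, ?_⟩
      exact N.mul_mem (N.inv_mem hk2) (hN k hk2)
    let f : S → S := fun k => ⟨psi α k, hmaps k⟩
    have hf : Function.Injective f := by
      rintro ⟨k₁, h₁⟩ ⟨k₂, h₂⟩ h
      have h' : psi α k₁ = psi α k₂ := congrArg Subtype.val h
      exact Subtype.ext (psi_inj_on_range α hccp k₁ k₂ h₁.1 h₂.1 h')
    have hfs : Function.Surjective f := Finite.surjective_of_injective hf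
    obtain ⟨⟨k, hk1, hk2⟩, hk⟩ := hfs ⟨psi α x, ⟨⟨x, rfl⟩, hx⟩⟩
    have hk' : psi α k = psi α x := congrArg Subtype.val hk
    refine ⟨x * k⁻¹, fix_of_psi_eq α k x hk', ?_⟩
    have : (x * k⁻¹)⁻¹ * x = k := by group
    rw [this]; exact hk2

end Cfsg.Agent.S4154
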