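import Cfsg.Statements.S4155
import Mathlib
import Cfsg.Agent.Helper7.Fitting
import Cfsg.Agent.Helper1.FpfCompl
import Cfsg.Agent.Helper23.NilpotentElts
import Cfsg.Agent.Helper29.Schmidt
import Cfsg.Agent.S0009

set_option linter.style.haveILetI false
set_option linter.unusedSectionVars false
set_option linter.unusedVariables false

set_option autoImplicit false
open Cfsg

namespace Cfsg.Agent.S4155


section aux

variable {G : Type*} [Group G] [Finite G]

/-- the key consequence of the equal-order hypothesis -/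
theorem eq_one_of_commute (N : Subgroup G)
    (heq : ∀ x : G, x ∉ N → ∀ n ∈ N, orderOf (x * n) = orderOf x)
    {g z : G} (hg : g ∉ N) (hz : z ∈ N) (hc : Commute g z)
    (hcop : (orderOf g).Coprime (orderOf z)) : z = 1 := by
  have h1 := hc.orderOf_mul_eq_mul_orderOf_of_coprime hcop
  rw [heq g hg z hz] at h1
  have hpos : 0 < orderOf g := orderOf_pos g
  have h2 : orderOf z = 1 := by
    have : orderOf g * 1 = orderOf g * orderOf z := by rw [mul_one]; exact h1
    exact (Nat.eq_of_mul_eq_mul_left hpos this).symm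
  exact orderOf_eq_one_iff.mp h2

/-- a group of non-prime-power order `> 1` has a prime divisor different from any given prime -/
theorem exists_other_prime {n : ℕ} (hn1 : n ≠ 1) (hn0 : n ≠ 0) (hnpp : ¬ IsPrimePow n)
    (q : ℕ) (hq : q.Prime) : ∃ p : ℕ, p.Prime ∧ p ≠ q ∧ p ∣ n := by
  by_contra hcon
  push Not at hcon
  apply hnpp
  have h1 : n = q ^ n.primeFactorsList.length :=
    Nat.eq_prime_pow_of_unique_prime_dvd hn0 (fun {d} hd hdn => by
      by_contra hne
      exact hcon d hd hne hdn)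
  rw [h1]
  refine ⟨q, n.primeFactorsList.length, hq.prime, ?_, rfl⟩
  rcases Nat.eq_zero_or_pos n.primeFactorsList.length with h0 | h0
  · rw [h0, pow_zero] at h1; exact absurd h1 hn1
  · exact h0

theorem orderOf_coprime_of_isPGroup {p q : ℕ} (hp : p.Prime) (hq : q.Prime) (hpq : p ≠ q)
    {a b : G} (ha : ∃ k : ℕ, a ^ p ^ k = 1) (hb : ∃ k : ℕ, b ^ q ^ k = 1) :
    (orderOf a).Coprime (orderOf b) := by
  obtain ⟨k, hk⟩ := ha
  obtain ⟨l, hl⟩ := hb
  have h1 : orderOf a ∣ p ^ k := orderOf_dvd_of_pow_eq_one hk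
  have h2 : orderOf b ∣ q ^ l := orderOf_dvd_of_pow_eq_one hl
  exact Nat.Coprime.coprime_dvd_left h1 (Nat.Coprime.coprime_dvd_right h2
    (Nat.Coprime.pow _ _ ((Nat.coprime_primes hp hq).mpr hpq)))

end aux

/-- Let G be a finite group and N a proper non-trivial normal nilpotent subgroup whose order is not a prime power, such that for every x outside N all elements of the coset xN have the same order as x. Then N is the Fitting subgroup of G, and for every prime q every Sylow q-subgroup of G/N is cyclic or generalized quaternion. -/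
theorem result {G : Type*} [Group G] [Finite G] (N : Subgroup G) [N.Normal] (hN1 : N ≠ ⊥) (hN2 : N ≠ ⊤)
    (heq : ∀ x : G, x ∉ N → ∀ n ∈ N, orderOf (x * n) = orderOf x)
    (hnil : Group.IsNilpotent N) (hnpp : ¬ IsPrimePow (Nat.card N)) :
    N = Cfsg.fittingSubgroup G ∧
    ∀ (q : ℕ) [Fact q.Prime] (Q : Sylow q (G ⧸ N)), IsCyclic (Q : Subgroup (G ⧸ N)) ∨ ∃ n : ℕ, Nonempty ((Q : Subgroup (G ⧸ N)) ≃* QuaternionGroup (2 ^ n)) := by
  haveI := hnil
  have hN0 : Nat.card N ≠ 0 := Nat.card_pos.ne'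
  have hN1' : Nat.card N ≠ 1 := fun h => hN1 (Subgroup.card_eq_one.mp h)
  -- the Sylow subgroups of N as normal subgroups of G
  have hsyl : ∀ (t : ℕ) [Fact t.Prime], ∃ Nt : Subgroup G, Nt.Normal ∧ Nt ≤ N ∧ IsPGroup t Nt ∧
      (∀ a ∈ N, (∃ k : ℕ, a ^ t ^ k = 1) → a ∈ Nt) ∧ (t ∣ Nat.card N → Nt ≠ ⊥) := by
    intro t ht
    obtain ⟨S⟩ : Nonempty (Sylow t N) := inferInstance
    haveI hSn : (S : Subgroup N).Normal := inferInstance
    haveI hSc : (S : Subgroup N).Characteristic := S.characteristic_of_normal hSn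
    refine ⟨(S : Subgroup N).map N.subtype, ConjAct.normal_of_characteristic_of_normal,
      Subgroup.map_subtype_le _, S.2.map _, ?_, ?_⟩
    · intro a ha ⟨k, hk⟩
      have h1 : IsPGroup t (Subgroup.zpowers (⟨a, ha⟩ : N)) := by
        apply IsPGroup.of_card (n := (Nat.card (Subgroup.zpowers (⟨a, ha⟩ : N))).factorization t)
        have hd : Nat.card (Subgroup.zpowers (⟨a, ha⟩ : N)) ∣ t ^ k := by
          rw [Nat.card_zpowers]
          apply orderOf_dvd_of_pow_eq_one
          exact Subtype.ext (by simpa using hk)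
        obtain ⟨j, -, hj⟩ := (Nat.dvd_prime_pow ht.out).mp hd
        rw [hj, ht.out.factorization_pow, Finsupp.single_eq_same]
      have := Cfsg.Agent.Helper23.mem_sylow_of_isNilpotent S ⟨a, ha⟩ h1
      exact ⟨⟨a, ha⟩, this, rfl⟩
    · intro hdvd hbot
      have h1 : Nat.card ((S : Subgroup N).map N.subtype) = 1 := by rw [hbot, Subgroup.card_bot]
      rw [Subgroup.card_subtype, S.card_eq_multiplicity] at h1
      have h2 : (Nat.card N).factorization t = 0 := by
        by_contra hne
        have : t ∣ t ^ (Nat.card N).factorization t := dvd_pow_self t hne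
        rw [h1] at this
        exact ht.out.one_lt.ne' (Nat.dvd_one.mp this)
      rcases (Nat.factorization_eq_zero_iff _ _).mp h2 with h' | h' | h'
      · exact h' ht.out
      · exact h' hdvd
      · exact hN0 h'
  constructor
  · -- N is the Fitting subgroup
    apply le_antisymm
    · exact Cfsg.Agent.Helper7.le_fittingSubgroup inferInstance hnil
    · rw [Cfsg.Agent.S0009.result]
      apply iSup_le
      intro s
      haveI hs : Fact (s : ℕ).Prime := ⟨s.2⟩
      intro x hx
      by_contra hxN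
      obtain ⟨t, ht, hts, htN⟩ := exists_other_prime hN1' hN0 hnpp s s.2
      haveI : Fact t.Prime := ⟨ht⟩
      obtain ⟨z, hz⟩ := exists_prime_orderOf_dvd_card' t htN
      have hFnil : Group.IsNilpotent (Cfsg.fittingSubgroup G) :=
        Cfsg.Agent.Helper7.fittingSubgroup_isNilpotent
      have hxF : Subgroup.zpowers x ≤ Cfsg.fittingSubgroup G := by
        rw [Subgroup.zpowers_le]
        exact Cfsg.Agent.Helper7.pCore_le_fittingSubgroup (s : ℕ) hx
      have hzF : Subgroup.zpowers (z : G) ≤ Cfsg.fittingSubgroup G := by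
        rw [Subgroup.zpowers_le]
        exact Cfsg.Agent.Helper7.le_fittingSubgroup inferInstance hnil z.2
      obtain ⟨k, hk⟩ := (Cfsg.Agent.Helper14.pCore_isPGroup (p := (s : ℕ)) (G := G)) ⟨x, hx⟩
      have hk' : x ^ (s : ℕ) ^ k = 1 := by simpa using congrArg Subtype.val hk
      have hzt : (z : G) ^ t ^ 1 = 1 := by
        rw [pow_one, ← hz, ← Subgroup.coe_pow, pow_orderOf_eq_one]; rfl
      have hxs : IsPGroup (s : ℕ) (Subgroup.zpowers x) := by
        apply IsPGroup.of_card (n := (orderOf x).factorization s)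
        rw [Nat.card_zpowers]
        obtain ⟨j, -, hj⟩ := (Nat.dvd_prime_pow s.2).mp (orderOf_dvd_of_pow_eq_one hk')
        rw [hj, s.2.factorization_pow, Finsupp.single_eq_same]
      have hzt' : IsPGroup t (Subgroup.zpowers (z : G)) := by
        apply IsPGroup.of_card (n := 1)
        rw [Nat.card_zpowers, Subgroup.orderOf_coe, hz, pow_one]
      have hcomm := Cfsg.Agent.Helper29.commute_of_nilpotent_of_pgroups hFnil hxF hzF
        (fun h => hts h.symm) hxs hzt' x (Subgroup.mem_zpowers x) z (Subgroup.mem_zpowers _)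
      have hcop := orderOf_coprime_of_isPGroup s.2 ht (fun h => hts h.symm) ⟨k, hk'⟩ ⟨1, hzt⟩
      have hz1 := eq_one_of_commute N heq hxN z.2 hcomm hcop
      have : orderOf z = 1 := by
        rw [← Subgroup.orderOf_coe, hz1, orderOf_one]
      rw [hz] at this
      exact ht.one_lt.ne' this
  · -- Sylow subgroups of the quotient
    intro q hqf Qbar
    have hq : q.Prime := hqf.out
    obtain ⟨p, hp, hpq, hpN⟩ := exists_other_prime hN1' hN0 hnpp q hq
    haveI : Fact p.Prime := ⟨hp⟩
    obtain ⟨Np, hNpn, hNpN, hNpp, -, hNpne⟩ := hsyl p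
    obtain ⟨Nq, hNqn, hNqN, hNqq, hNqmem, -⟩ := hsyl q
    have hNpne' : Np ≠ ⊥ := hNpne hpN
    haveI := hNpn
    haveI := hNqn
    have hdisj : Np ⊓ Nq = ⊥ := (IsPGroup.disjoint_of_ne p q hpq _ _ hNpp hNqq).eq_bot
    obtain ⟨Q, hQ⟩ := Sylow.mapSurjective_surjective (QuotientGroup.mk'_surjective N) q Qbar
    have hQbar : (Qbar : Subgroup (G ⧸ N)) = (Q : Subgroup G).map (QuotientGroup.mk' N) := by
      rw [← hQ, Sylow.coe_mapSurjective]
    -- the group G/Nq
    have hK3n : (Np.map (QuotientGroup.mk' Nq)).Normal :=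
      hNpn.map _ (QuotientGroup.mk'_surjective Nq)
    have hK3ne : Np.map (QuotientGroup.mk' Nq) ≠ ⊥ := by
      intro hbot
      apply hNpne'
      rw [eq_bot_iff]
      intro w hw
      have h1 : QuotientGroup.mk' Nq w ∈ Np.map (QuotientGroup.mk' Nq) :=
        Subgroup.mem_map_of_mem _ hw
      rw [hbot, Subgroup.mem_bot] at h1
      have h2 : w ∈ Nq := (QuotientGroup.eq_one_iff w).mp h1
      have : w ∈ Np ⊓ Nq := ⟨hw, h2⟩
      rw [hdisj] at this
      exact this
    have hQ3 : IsPGroup q ((Q : Subgroup G).map (QuotientGroup.mk' Nq)) := Q.2.map _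
    have hfpf : ∀ a ∈ (Q : Subgroup G).map (QuotientGroup.mk' Nq), a ≠ 1 →
        Np.map (QuotientGroup.mk' Nq) ⊓ Subgroup.centralizer {a} = ⊥ := by
      rintro _ ⟨a, ha, rfl⟩ ha1
      have haq : ∃ k : ℕ, a ^ q ^ k = 1 := by
        obtain ⟨k, hk⟩ := Q.2 ⟨a, ha⟩
        exact ⟨k, by simpa using congrArg Subtype.val hk⟩
      have haN : a ∉ N := by
        intro haN
        apply ha1
        exact (QuotientGroup.eq_one_iff a).mpr (hNqmem a haN haq)
      rw [eq_bot_iff]
      rintro _ ⟨⟨w, hw, rfl⟩, hcen⟩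
      rw [Subgroup.mem_bot]
      replace hcen : (QuotientGroup.mk' Nq) w ∈
          Subgroup.centralizer ({(QuotientGroup.mk' Nq) a} : Set (G ⧸ Nq)) := hcen
      rw [Subgroup.mem_centralizer_singleton_iff] at hcen
      -- hcen : mk w * mk a = mk a * mk w
      have h1 : (a * w)⁻¹ * (w * a) ∈ Nq := by
        rw [← QuotientGroup.eq_one_iff (N := Nq)]
        have : (QuotientGroup.mk' Nq) ((a * w)⁻¹ * (w * a)) = 1 := by
          rw [map_mul, map_inv, map_mul, map_mul, hcen, inv_mul_cancel]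
        exact this
      have h2 : (a * w)⁻¹ * (w * a) ∈ Np := by
        have : (a * w)⁻¹ * (w * a) = w⁻¹ * (a⁻¹ * w * a⁻¹⁻¹) := by group
        rw [this]
        exact Np.mul_mem (Np.inv_mem hw) (hNpn.conj_mem w hw a⁻¹)
      have h3 : (a * w)⁻¹ * (w * a) ∈ Np ⊓ Nq := ⟨h2, h1⟩
      rw [hdisj, Subgroup.mem_bot, inv_mul_eq_one] at h3
      have hwp : ∃ k : ℕ, w ^ p ^ k = 1 := by
        obtain ⟨k, hk⟩ := hNpp ⟨w, hw⟩
        exact ⟨k, by simpa using congrArg Subtype.val hk⟩
      have hcop := orderOf_coprime_of_isPGroup hq hp (fun h => hpq h.symm) haq hwp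
      have hw1 := eq_one_of_commute N heq haN (hNpN hw) h3 hcop
      rw [hw1, map_one]
    have hmain := Cfsg.Agent.Helper1.fpf_pgroup_cyclic_or_quaternion (K := Np.map (QuotientGroup.mk' Nq))
      hK3ne ((Q : Subgroup G).map (QuotientGroup.mk' Nq)) hQ3 hfpf
    -- the isomorphism between the two images of Q
    let φ : G ⧸ Nq →* G ⧸ N := QuotientGroup.map Nq N (MonoidHom.id G) (fun x hx => hNqN hx)
    have hφ : ∀ x : G, φ (QuotientGroup.mk' Nq x) = QuotientGroup.mk' N x := fun x => rfl
    have hinj : Function.Injective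
        (φ.comp ((Q : Subgroup G).map (QuotientGroup.mk' Nq)).subtype) := by
      rw [injective_iff_map_eq_one]
      rintro ⟨_, ⟨a, ha, rfl⟩⟩ h1
      have h2 : QuotientGroup.mk' N a = 1 := h1
      have haN : a ∈ N := (QuotientGroup.eq_one_iff a).mp h2
      have haq : ∃ k : ℕ, a ^ q ^ k = 1 := by
        obtain ⟨k, hk⟩ := Q.2 ⟨a, ha⟩
        exact ⟨k, by simpa using congrArg Subtype.val hk⟩
      apply Subtype.ext
      exact (QuotientGroup.eq_one_iff a).mpr (hNqmem a haN haq)
    have hrange : (φ.comp ((Q : Subgroup G).map (QuotientGroup.mk' Nq)).subtype).range =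
        (Qbar : Subgroup (G ⧸ N)) := by
      rw [MonoidHom.range_comp, Subgroup.range_subtype, Subgroup.map_map, hQbar]
      congr 1
    let e : ↥((Q : Subgroup G).map (QuotientGroup.mk' Nq)) ≃* ↥(Qbar : Subgroup (G ⧸ N)) :=
      (MonoidHom.ofInjective hinj).trans (MulEquiv.subgroupCongr hrange)
    rcases hmain with hcyc | ⟨-, n, ⟨e'⟩⟩
    · left
      exact isCyclic_of_surjective e e.surjective
    · right
      exact ⟨n, ⟨e.symm.trans e'⟩⟩

end Cfsg.Agent.S4155
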