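import Cfsg.Statements.S4156
import Mathlib

set_option autoImplicit false
set_option linter.style.haveILetI false
open Cfsg

namespace Cfsg.Agent.S4156

open Matrix

/-- A matrix of determinant one as an element of the special linear group. -/
def toSL {n : Type*} [Fintype n] [DecidableEq n] {F : Type*} [CommRing F] (A : Matrix n n F)
    (h : A.det = 1) : Matrix.SpecialLinearGroup n F := ⟨A, h⟩

theorem toSL_coe {n : Type*} [Fintype n] [DecidableEq n] {F : Type*} [CommRing F] (A : Matrix n n F)
    (h : A.det = 1) : ((toSL A h : Matrix.SpecialLinearGroup n F) : Matrix n n F) = A := rfl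

theorem exists_injective_psl {S : Type*} [Group S] [IsSimpleGroup S] (hnc : ∃ a b : S, a * b ≠ b * a)
    {n : Type*} [Fintype n] [DecidableEq n] {F : Type*} [Field F]
    (ρ : S →* GL n F) (hρ : ∃ g, ρ g ≠ 1) :
    ∃ f : S →* Matrix.ProjectiveSpecialLinearGroup n F, Function.Injective f := by
  obtain ⟨a, b, hab⟩ := hnc
  -- a hom from S to a group in which the images of a and b commute has kernel ⊤
  have key : ∀ {T : Type _} [Group T] (φ : S →* T), φ a * φ b = φ b * φ a → ∀ g, φ g = 1 := by
    intro T _ φ hφ g
    rcases IsSimpleGroup.eq_bot_or_eq_top_of_normal φ.ker inferInstance with h | h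
    · exfalso
      apply hab
      have hinj : Function.Injective φ := (MonoidHom.ker_eq_bot_iff φ).mp h
      apply hinj
      rw [map_mul, map_mul, hφ]
    · have : g ∈ φ.ker := by rw [h]; trivial
      exact this
  have hdet : ∀ g, Matrix.GeneralLinearGroup.det (ρ g) = 1 :=
    key (Matrix.GeneralLinearGroup.det.comp ρ) (mul_comm _ _)
  have hdet' : ∀ g, ((ρ g : GL n F) : Matrix n n F).det = 1 := by
    intro g
    have := congrArg Units.val (hdet g)
    simpa using this
  let ρ' : S →* Matrix.SpecialLinearGroup n F :=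
    MonoidHom.mk' (fun g => toSL ((ρ g : GL n F) : Matrix n n F) (hdet' g))
      (fun g h => by
        apply Matrix.SpecialLinearGroup.ext
        intro i j
        rw [Matrix.SpecialLinearGroup.coe_mul, toSL_coe, toSL_coe, toSL_coe]
        simp)
  have hρ'val : ∀ g, ((ρ' g : Matrix.SpecialLinearGroup n F) : Matrix n n F) = ((ρ g : GL n F) : Matrix n n F) :=
    fun g => rfl
  have hρ'inj : Function.Injective ρ' := by
    rw [← MonoidHom.ker_eq_bot_iff]
    rcases IsSimpleGroup.eq_bot_or_eq_top_of_normal ρ'.ker inferInstance with h | h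
    · exact h
    · exfalso
      obtain ⟨g, hg⟩ := hρ
      apply hg
      have : g ∈ ρ'.ker := by rw [h]; trivial
      rw [MonoidHom.mem_ker] at this
      have h2 := congrArg (fun x : Matrix.SpecialLinearGroup n F => (x : Matrix n n F)) this
      apply Units.ext
      simpa [hρ'val] using h2
  refine ⟨(QuotientGroup.mk' (Subgroup.center (Matrix.SpecialLinearGroup n F))).comp ρ', ?_⟩
  rw [← MonoidHom.ker_eq_bot_iff]
  rcases IsSimpleGroup.eq_bot_or_eq_top_of_normal
    ((QuotientGroup.mk' (Subgroup.center (Matrix.SpecialLinearGroup n F))).comp ρ').ker inferInstance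
    with h | h
  · exact h
  · exfalso
    have hc : ∀ g, ρ' g ∈ Subgroup.center (Matrix.SpecialLinearGroup n F) := by
      intro g
      have : g ∈ ((QuotientGroup.mk' (Subgroup.center (Matrix.SpecialLinearGroup n F))).comp ρ').ker := by
        rw [h]; trivial
      rw [MonoidHom.mem_ker, MonoidHom.comp_apply, QuotientGroup.mk'_apply,
        QuotientGroup.eq_one_iff] at this
      exact this
    apply hab
    apply hρ'inj
    rw [map_mul, map_mul]
    exact ((Subgroup.mem_center_iff.mp (hc a)) (ρ' b)).symm

section rep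
variable (n : ℕ) (F : Type*) [Field F]

/-- The quotient map `F^(n+1) → F^n`, `x ↦ (x_j - x_n)_j`. -/
def qmap : (Fin (n + 1) → F) →ₗ[F] (Fin n → F) where
  toFun x j := x (Fin.castSucc j) - x (Fin.last n)
  map_add' x y := by ext j; simp only [Pi.add_apply]; ring
  map_smul' c x := by ext j; simp only [Pi.smul_apply, smul_eq_mul, RingHom.id_apply]; ring

/-- The section `F^n → F^(n+1)`, `y ↦ (y, 0)`. -/
def smap : (Fin n → F) →ₗ[F] (Fin (n + 1) → F) where
  toFun y i := if h : (i : ℕ) < n then y ⟨i, h⟩ else 0
  map_add' x y := by ext i; simp only [Pi.add_apply]; split_ifs <;> simp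
  map_smul' c x := by ext i; simp only [Pi.smul_apply, smul_eq_mul, RingHom.id_apply]; split_ifs <;> simp

theorem smap_castSucc (y : Fin n → F) (j : Fin n) : smap n F y (Fin.castSucc j) = y j := by
  simp [smap]

theorem smap_last (y : Fin n → F) : smap n F y (Fin.last n) = 0 := by
  simp [smap]

theorem smap_qmap (x : Fin (n + 1) → F) (i : Fin (n + 1)) :
    smap n F (qmap n F x) i = x i - x (Fin.last n) := by
  induction i using Fin.lastCases with
  | last => rw [smap_last, sub_self]
  | cast j => rw [smap_castSucc]; rfl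

/-- The permutation action on `F^(n+1)`. -/
def pmap (σ : Equiv.Perm (Fin (n + 1))) : (Fin (n + 1) → F) →ₗ[F] (Fin (n + 1) → F) :=
  LinearMap.funLeft F F σ.symm

theorem pmap_apply (σ : Equiv.Perm (Fin (n + 1))) (x : Fin (n + 1) → F) (i : Fin (n + 1)) :
    pmap n F σ x i = x (σ.symm i) := rfl

/-- The deleted permutation representation. -/
def mmap (σ : Equiv.Perm (Fin (n + 1))) : (Fin n → F) →ₗ[F] (Fin n → F) :=
  (qmap n F) ∘ₗ (pmap n F σ) ∘ₗ (smap n F)

theorem mmap_apply (σ : Equiv.Perm (Fin (n + 1))) (y : Fin n → F) (j : Fin n) :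
    mmap n F σ y j = smap n F y (σ.symm (Fin.castSucc j)) - smap n F y (σ.symm (Fin.last n)) := rfl

theorem mmap_one : mmap n F 1 = 1 := by
  apply LinearMap.ext
  intro y
  ext j
  rw [mmap_apply]
  show smap n F y (Fin.castSucc j) - smap n F y (Fin.last n) = y j
  rw [smap_castSucc, smap_last, sub_zero]

theorem mmap_mul (σ τ : Equiv.Perm (Fin (n + 1))) : mmap n F (σ * τ) = mmap n F σ * mmap n F τ := by
  apply LinearMap.ext
  intro y
  ext j
  rw [Module.End.mul_apply, mmap_apply, mmap_apply]
  have h : mmap n F τ y = qmap n F (pmap n F τ (smap n F y)) := rfl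
  rw [h, smap_qmap, smap_qmap, pmap_apply, pmap_apply, pmap_apply]
  simp only [Equiv.Perm.mul_def, Equiv.symm_trans_apply]
  ring

/-- The deleted permutation representation as a monoid homomorphism. -/
def rep : Equiv.Perm (Fin (n + 1)) →* Module.End F (Fin n → F) where
  toFun := mmap n F
  map_one' := mmap_one n F
  map_mul' := mmap_mul n F

end rep


/-- Let n ≥ 5 and F a finite field. Then the projective special linear group PSL_n(F) contains a subgroup isomorphic to the alternating group of degree n + 1. -/
theorem result (n : ℕ) (hn : 5 ≤ n) (F : Type*) [Field F] [Finite F] :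
    ∃ f : alternatingGroup (Fin (n + 1)) →* Matrix.ProjectiveSpecialLinearGroup (Fin n) F, Function.Injective f := by
  classical
  have hcard : Nat.card (Fin (n + 1)) = n + 1 := by simp
  haveI : IsSimpleGroup (alternatingGroup (Fin (n + 1))) :=
    alternatingGroup.isSimpleGroup (by rw [hcard]; omega)
  -- non-commutativity
  have hnc : ∃ a b : alternatingGroup (Fin (n + 1)), a * b ≠ b * a := by
    by_contra hcon
    push Not at hcon
    have h1 : Subgroup.center (alternatingGroup (Fin (n + 1))) = ⊤ := by
      rw [eq_top_iff]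
      intro x _
      rw [Subgroup.mem_center_iff]
      intro y
      exact hcon y x
    rw [alternatingGroup.center_eq_bot (by rw [hcard]; omega)] at h1
    haveI : Nontrivial (alternatingGroup (Fin (n + 1))) :=
      alternatingGroup.nontrivial_of_three_le_card (by rw [hcard]; omega)
    exact bot_ne_top h1
  -- the representation
  let ρ₀ : alternatingGroup (Fin (n + 1)) →* Module.End F (Fin n → F) :=
    (rep n F).comp (alternatingGroup (Fin (n + 1))).subtype
  let ρ : alternatingGroup (Fin (n + 1)) →* GL (Fin n) F :=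
    (Matrix.GeneralLinearGroup.toLin (n := Fin n) (R := F)).symm.toMonoidHom.comp ρ₀.toHomUnits
  apply exists_injective_psl hnc ρ
  -- nontriviality: a three-cycle
  let a : Fin n := ⟨0, by omega⟩
  let b : Fin n := ⟨1, by omega⟩
  let c : Fin n := ⟨2, by omega⟩
  have hab : a ≠ b := by intro h; have := congrArg Fin.val h; simp [a, b] at this
  have hac : a ≠ c := by intro h; have := congrArg Fin.val h; simp [a, c] at this
  have hbc : b ≠ c := by intro h; have := congrArg Fin.val h; simp [b, c] at this
  have hab' : Fin.castSucc a ≠ Fin.castSucc b := fun h => hab (Fin.castSucc_injective n h)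
  have hac' : Fin.castSucc a ≠ Fin.castSucc c := fun h => hac (Fin.castSucc_injective n h)
  have hbc' : Fin.castSucc b ≠ Fin.castSucc c := fun h => hbc (Fin.castSucc_injective n h)
  set σ : Equiv.Perm (Fin (n + 1)) :=
    Equiv.swap (Fin.castSucc a) (Fin.castSucc b) * Equiv.swap (Fin.castSucc a) (Fin.castSucc c) with hσ
  have hσ3 : σ.IsThreeCycle := Equiv.Perm.isThreeCycle_swap_mul_swap_same hab' hac' hbc'
  have hσmem : σ ∈ alternatingGroup (Fin (n + 1)) := hσ3.mem_alternatingGroup
  have hσc : σ (Fin.castSucc c) = Fin.castSucc b := by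
    rw [hσ, Equiv.Perm.mul_apply, Equiv.swap_apply_right, Equiv.swap_apply_left]
  have hσl : σ (Fin.last n) = Fin.last n := by
    rw [hσ, Equiv.Perm.mul_apply,
      Equiv.swap_apply_of_ne_of_ne (Fin.castSucc_ne_last a).symm (Fin.castSucc_ne_last c).symm,
      Equiv.swap_apply_of_ne_of_ne (Fin.castSucc_ne_last a).symm (Fin.castSucc_ne_last b).symm]
  refine ⟨(⟨σ, hσmem⟩ : alternatingGroup (Fin (n + 1)))⁻¹, ?_⟩
  intro h1
  have h2 : ρ₀.toHomUnits (⟨σ, hσmem⟩ : alternatingGroup (Fin (n + 1)))⁻¹ = 1 := by
    have := congrArg (Matrix.GeneralLinearGroup.toLin (n := Fin n) (R := F)) h1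
    simpa [ρ] using this
  have h3 : mmap n F σ⁻¹ = 1 := by
    have := congrArg Units.val h2
    rw [MonoidHom.coe_toHomUnits] at this
    exact this
  have h4 := congrArg (fun L : Module.End F (Fin n → F) => L (Pi.single b 1) c) h3
  simp only [Module.End.one_apply] at h4
  rw [mmap_apply, Equiv.Perm.inv_def, Equiv.symm_symm, hσc, hσl, smap_castSucc, smap_last, sub_zero,
    Pi.single_eq_same, Pi.single_eq_of_ne hbc.symm] at h4
  exact one_ne_zero h4

end Cfsg.Agent.S4156
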