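import Cfsg.Statements.S4157
import Mathlib
import Cfsg.Agent.Helper20.KulI
import Cfsg.Agent.Helper20.Kul2L

set_option autoImplicit false
open Cfsg

namespace Cfsg.Agent.S4157

/-- Let G be a finite p-group of order p^m that is not cyclic and, when p = 2, not of maximal class (nilpotency class m − 1). Then for every 1 ≤ k < m the number of subgroups of G of order p^k is congruent to 1 + p modulo p². -/
theorem result {G : Type*} [Group G] [Finite G] {p : ℕ} [Fact p.Prime] (m : ℕ)
    (hG : Nat.card G = p ^ m) (hnc : ¬ IsCyclic G) (h2 : p = 2 → Group.nilpotencyClass G ≠ m - 1)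
    (k : ℕ) (hk1 : 1 ≤ k) (hk2 : k < m) :
    Nat.card {H : Subgroup G // Nat.card H = p ^ k} ≡ 1 + p [MOD p ^ 2] := by
  by_cases hp2 : p = 2
  · subst hp2
    have hP : IsPGroup 2 G := IsPGroup.of_card hG
    have : Group.IsNilpotent G := hP.isNilpotent
    have hm3 : 3 ≤ m := by
      by_contra hlt
      have hm2 : m = 2 := by omega
      subst hm2
      have hcomm : IsMulCommutative G := IsPGroup.isMulCommutative_of_card_eq_prime_sq hG
      have h1 : Group.nilpotencyClass G ≤ 1 :=
        Group.IsNilpotent.nilpotencyClass_le_one_iff.mpr hcomm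
      have h0 : Group.nilpotencyClass G ≠ 0 := by
        intro h0
        have hs : Subsingleton G := Group.nilpotencyClass_zero_iff_subsingleton.mp h0
        have : Nat.card G = 1 := Nat.card_unique
        rw [hG] at this
        norm_num at this
      exact h2 rfl (by omega)
    have h4 : (commutator G).index ≠ 4 := fun h =>
      h2 rfl (Cfsg.Agent.Helper9.maxClass_of_index_commutator_aux m hm3 G hG h)
    have := Cfsg.Agent.Helper20.kulakoff_two m hG hnc h4 k hk1 (by omega)
    exact this
  · exact Cfsg.Agent.Helper20.kulakoff hp2 m hG hnc k hk1 (by omega)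

end Cfsg.Agent.S4157
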