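import Mathlib
import Cfsg.Statements.S4160
import Cfsg.Agent.Helper1.SylowBasic

set_option autoImplicit false
set_option linter.unusedSectionVars false
open Cfsg

namespace Cfsg.Agent.S4160

open Subgroup
open scoped Pointwise

section
variable {G : Type*} [Group G] [Finite G]

/-- if `p` does not divide the index of `H` then `H` contains a Sylow `p`-subgroup of `G` -/
theorem exists_sylow_le_of_not_dvd_index {p : ℕ} [Fact p.Prime] (H : Subgroup G)
    (hH : ¬ p ∣ H.index) : ∃ S : Sylow p G, (S : Subgroup G) ≤ H := by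
  obtain ⟨S'⟩ : Nonempty (Sylow p H) := inferInstance
  have hcard : Nat.card ((S' : Subgroup H).map H.subtype) = p ^ (Nat.card G).factorization p := by
    rw [Subgroup.card_subtype, S'.card_eq_multiplicity]
    congr 1
    have h1 : Nat.card G = Nat.card H * H.index := (Subgroup.card_mul_index H).symm
    have hidx : H.index ≠ 0 := Subgroup.index_ne_zero_of_finite
    rw [h1, Nat.factorization_mul Nat.card_pos.ne' hidx]
    have h2 : (H.index).factorization p = 0 := Nat.factorization_eq_zero_of_not_dvd hH
    simp [h2]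
  refine ⟨Sylow.ofCard _ hcard, ?_⟩
  rw [Sylow.coe_ofCard]
  rintro _ ⟨x, _, rfl⟩
  exact x.2

/-- the conjugation map whose range covers the conjugates of `C(P)` -/
noncomputable def psi (P : Subgroup G) :
    (G ⧸ normalizer (P : Set G)) × centralizer (P : Set G) → G :=
  fun z => z.1.out * (z.2 : G) * (z.1.out)⁻¹

theorem one_mem_range_psi (P : Subgroup G) : (1 : G) ∈ Set.range (psi P) :=
  ⟨(((1 : G) : G ⧸ normalizer (P : Set G)), 1), by simp [psi]⟩

theorem mem_range_psi {p : ℕ} [Fact p.Prime] (P : Sylow p G) {x : G}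
    (hx : ¬ p ∣ (centralizer ({x} : Set G)).index) : x ∈ Set.range (psi (P : Subgroup G)) := by
  obtain ⟨S, hS⟩ := exists_sylow_le_of_not_dvd_index _ hx
  obtain ⟨g, hg⟩ := MulAction.exists_smul_eq G P S
  -- `g⁻¹ x g` centralizes `P`
  have hc : g⁻¹ * x * g ∈ centralizer ((P : Subgroup G) : Set G) := by
    rw [mem_centralizer_iff]
    intro u hu
    have h1 : g * u * g⁻¹ ∈ (S : Subgroup G) := by
      rw [← hg, Sylow.coe_subgroup_smul, Cfsg.Agent.Helper1.mem_conj_smul_iff]
      have : g⁻¹ * (g * u * g⁻¹) * g = u := by group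
      rw [this]
      exact hu
    have h2 := hS h1
    rw [mem_centralizer_singleton_iff] at h2
    calc u * (g⁻¹ * x * g) = g⁻¹ * (g * u * g⁻¹ * x) * g := by group
      _ = g⁻¹ * (x * (g * u * g⁻¹)) * g := by rw [h2]
      _ = g⁻¹ * x * g * u := by group
  obtain ⟨n, hn⟩ := QuotientGroup.mk_out_eq_mul (normalizer ((P : Subgroup G) : Set G)) g
  -- `n⁻¹ (g⁻¹ x g) n` also centralizes `P`
  have hc' : (n : G)⁻¹ * (g⁻¹ * x * g) * n ∈ centralizer ((P : Subgroup G) : Set G) := by
    rw [mem_centralizer_iff]
    intro u hu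
    have hnu : (n : G) * u * (n : G)⁻¹ ∈ (P : Subgroup G) :=
      (mem_normalizer_iff.mp n.2 u).mp hu
    have h3 := (mem_centralizer_iff.mp hc) _ hnu
    calc u * ((n : G)⁻¹ * (g⁻¹ * x * g) * n)
        = (n : G)⁻¹ * ((n : G) * u * (n : G)⁻¹ * (g⁻¹ * x * g)) * n := by group
      _ = (n : G)⁻¹ * ((g⁻¹ * x * g) * ((n : G) * u * (n : G)⁻¹)) * n := by rw [h3]
      _ = (n : G)⁻¹ * (g⁻¹ * x * g) * n * u := by group
  refine ⟨((g : G ⧸ normalizer ((P : Subgroup G) : Set G)), ⟨_, hc'⟩), ?_⟩
  change (g : G ⧸ normalizer ((P : Subgroup G) : Set G)).out *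
    ((n : G)⁻¹ * (g⁻¹ * x * g) * n) * ((g : G ⧸ normalizer ((P : Subgroup G) : Set G)).out)⁻¹ = x
  rw [hn]
  group

theorem ncard_range_psi_le (P : Subgroup G) :
    (Set.range (psi P)).ncard ≤ (normalizer (P : Set G)).index * Nat.card (centralizer (P : Set G)) := by
  calc (Set.range (psi P)).ncard = (psi P '' Set.univ).ncard := by rw [Set.image_univ]
    _ ≤ (Set.univ : Set ((G ⧸ normalizer (P : Set G)) × centralizer (P : Set G))).ncard :=
        Set.ncard_image_le
    _ = Nat.card ((G ⧸ normalizer (P : Set G)) × centralizer (P : Set G)) := Set.ncard_univ _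
    _ = _ := by rw [Nat.card_prod]; rfl

theorem centralizer_le_normalizer' (P : Subgroup G) :
    centralizer (P : Set G) ≤ normalizer (P : Set G) := by
  intro c hc
  rw [mem_normalizer_iff]
  intro u
  rw [mem_centralizer_iff] at hc
  constructor
  · intro hu
    have := hc u hu
    have e : c * u * c⁻¹ = u := by rw [← this]; group
    rw [e]; exact hu
  · intro hu
    have := hc _ hu
    have e : u = c * u * c⁻¹ := by
      calc u = c⁻¹ * (c * u * c⁻¹ * c) := by group
        _ = c⁻¹ * (c * (c * u * c⁻¹)) := by rw [this]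
        _ = c * u * c⁻¹ := by group
    rw [e]; exact hu

/-- if `C(P) ≠ N(P)` then the conjugates of `C(P)` cover at most half of `G` -/
theorem two_mul_le (P : Subgroup G) (hne : centralizer (P : Set G) ≠ normalizer (P : Set G)) :
    2 * ((normalizer (P : Set G)).index * Nat.card (centralizer (P : Set G))) ≤ Nat.card G := by
  have hle := centralizer_le_normalizer' P
  obtain ⟨k, hk⟩ := Subgroup.card_dvd_of_le hle
  have hk2 : 2 ≤ k := by
    by_contra hlt
    have hk' : k = 0 ∨ k = 1 := by omega
    rcases hk' with rfl | rfl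
    · rw [mul_zero] at hk
      exact Nat.card_pos.ne' hk
    · rw [mul_one] at hk
      exact hne (Subgroup.eq_of_le_of_card_ge hle hk.le)
  calc 2 * ((normalizer (P : Set G)).index * Nat.card (centralizer (P : Set G)))
      ≤ k * ((normalizer (P : Set G)).index * Nat.card (centralizer (P : Set G))) :=
        Nat.mul_le_mul_right _ hk2
    _ = (normalizer (P : Set G)).index * (Nat.card (centralizer (P : Set G)) * k) := by ring
    _ = (normalizer (P : Set G)).index * Nat.card (normalizer (P : Set G)) := by rw [← hk]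
    _ = Nat.card G := by rw [mul_comm]; exact Subgroup.card_mul_index _

theorem hasNormalPComplement_of_eq {p : ℕ} [Fact p.Prime] (P : Sylow p G)
    (he : centralizer ((P : Subgroup G) : Set G) = normalizer ((P : Subgroup G) : Set G)) :
    Cfsg.HasNormalPComplement p G := by
  have hP : normalizer ((P : Subgroup G) : Set G) ≤ centralizer ((P : Subgroup G) : Set G) := by
    rw [he]
  exact ⟨P, (MonoidHom.transferSylow P hP).ker, inferInstance,
    MonoidHom.ker_transferSylow_isComplement' P hP⟩

end

/-- Let G be a finite group and p ≠ q primes each dividing the size of some conjugacy class of G, such that no conjugacy class size is divisible by pq. Then G has a normal p-complement or a normal q-complement. -/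
theorem result {G : Type*} [Group G] [Finite G] (p q : ℕ) (hp : p.Prime) (hq : q.Prime) (hpq : p ≠ q)
    (hp' : ∃ x : G, p ∣ (Subgroup.centralizer ({x} : Set G)).index) (hq' : ∃ x : G, q ∣ (Subgroup.centralizer ({x} : Set G)).index) (h : ∀ x : G, ¬ p * q ∣ (Subgroup.centralizer ({x} : Set G)).index) :
    Cfsg.HasNormalPComplement p G ∨ Cfsg.HasNormalPComplement q G := by
  have hpF : Fact p.Prime := ⟨hp⟩
  have hqF : Fact q.Prime := ⟨hq⟩
  obtain ⟨P⟩ : Nonempty (Sylow p G) := inferInstance
  obtain ⟨Q⟩ : Nonempty (Sylow q G) := inferInstance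
  by_cases hP : centralizer ((P : Subgroup G) : Set G) = normalizer ((P : Subgroup G) : Set G)
  · exact Or.inl (hasNormalPComplement_of_eq P hP)
  by_cases hQ : centralizer ((Q : Subgroup G) : Set G) = normalizer ((Q : Subgroup G) : Set G)
  · exact Or.inr (hasNormalPComplement_of_eq Q hQ)
  exfalso
  have h1 := two_mul_le (P : Subgroup G) hP
  have h2 := two_mul_le (Q : Subgroup G) hQ
  have hcover : (Set.univ : Set G) ⊆ Set.range (psi (P : Subgroup G)) ∪
      Set.range (psi (Q : Subgroup G)) := by
    intro x _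
    by_cases hxp : p ∣ (centralizer ({x} : Set G)).index
    · right
      apply mem_range_psi Q
      intro hxq
      exact h x (Nat.Coprime.mul_dvd_of_dvd_of_dvd ((Nat.coprime_primes hp hq).mpr hpq) hxp hxq)
    · left
      exact mem_range_psi P hxp
  have h3 : Nat.card G ≤ (Set.range (psi (P : Subgroup G)) ∪
      Set.range (psi (Q : Subgroup G))).ncard := by
    rw [← Set.ncard_univ]
    exact Set.ncard_le_ncard hcover
  have h4 := Set.ncard_union_add_ncard_inter (Set.range (psi (P : Subgroup G)))
    (Set.range (psi (Q : Subgroup G)))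
  have h5 : 0 < (Set.range (psi (P : Subgroup G)) ∩ Set.range (psi (Q : Subgroup G))).ncard := by
    rw [Set.ncard_pos]
    exact ⟨1, one_mem_range_psi _, one_mem_range_psi _⟩
  have h6 := ncard_range_psi_le (P : Subgroup G)
  have h7 := ncard_range_psi_le (Q : Subgroup G)
  omega

end Cfsg.Agent.S4160
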