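import Mathlib
import Cfsg.Statements.S4168

set_option autoImplicit false
open Cfsg

namespace Cfsg.Agent.S4168

open scoped commutatorElement in
theorem perfect_hom_trivial {L : Type*} [Group L] (hperf : Group.IsPerfect L) (A : Type*) [Group A]
    (hA : ∀ a b : A, a * b = b * a) (f : L →* A) (g : L) : f g = 1 := by
  have h1 : commutator L ≤ f.ker := by
    rw [commutator_eq_closure, Subgroup.closure_le]
    rintro x ⟨a, b, rfl⟩
    rw [SetLike.mem_coe, MonoidHom.mem_ker, map_commutatorElement]
    exact commutatorElement_eq_one_iff_commute.mpr (hA _ _)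
  have h2 : g ∈ commutator L := by
    rw [hperf.commutator_eq_top]; exact Subgroup.mem_top g
  exact MonoidHom.mem_ker.mp (h1 h2)

/-- Let L be a finite quasisimple group (perfect with L/Z(L) simple). Then every prime dividing the order of the centre Z(L) also divides the order of L/Z(L). -/
theorem result {L : Type*} [Group L] [Finite L] (hL : Cfsg.IsQuasisimple L)
    (p : ℕ) (hp : p.Prime) (hdiv : p ∣ Nat.card (Subgroup.center L)) : p ∣ (Subgroup.center L).index := by
  obtain ⟨hperf, _⟩ := hL
  have htriv : ∀ g : L, MonoidHom.transferCenterPow L g = 1 := fun g =>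
    perfect_hom_trivial hperf _ (fun a b => Subtype.ext (Subgroup.mem_center_iff.mp a.2 b.1).symm) _ g
  have : Fact p.Prime := ⟨hp⟩
  obtain ⟨z, hz⟩ := exists_prime_orderOf_dvd_card' p hdiv
  have h3 : (z : L) ^ (Subgroup.center L).index = 1 := by
    have h4 := congrArg Subtype.val (htriv (z : L))
    rw [MonoidHom.transferCenterPow_apply] at h4
    exact h4
  have h5 : orderOf (z : L) = p := by
    rw [Subgroup.orderOf_coe]; exact hz
  rw [← h5]
  exact orderOf_dvd_of_pow_eq_one h3

end Cfsg.Agent.S4168
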