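import Cfsg.Statements.S4169
import Cfsg.Agent.Helper21.MinClass
import Cfsg.Agent.Helper9.PGroupCent

set_option autoImplicit false
open Cfsg

namespace Cfsg.Agent.S4169

/-- Let P be a finite p-group whose conjugacy classes have exactly two sizes (1 and one other value). Then P has nilpotency class at most 3. -/
theorem result {P : Type*} [Group P] [Finite P] {p : ℕ} [Fact p.Prime] (hP : IsPGroup p P)
    (m : ℕ) (hm : 1 < m) (h : ∀ x : P, (Subgroup.centralizer ({x} : Set P)).index = 1 ∨ (Subgroup.centralizer ({x} : Set P)).index = m) :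
    upperCentralSeries P 3 = ⊤ := by
  classical
  obtain ⟨A, ⟨hAn, hAc⟩, hAmax⟩ :=
    (Set.toFinite {B : Subgroup P | B.Normal ∧ IsMulCommutative B}).exists_maximal
      ⟨⊥, inferInstance, inferInstance⟩
  haveI := hAn
  have hCA : Subgroup.centralizer (A : Set P) = A := by
    apply Cfsg.Agent.Helper9.centralizer_eq_of_maximal_normal_abelian hP A hAc
    intro B hBn hBc hAB
    exact le_antisymm (hAmax ⟨hBn, hBc⟩ hAB) hAB
  have hcomm : ∀ a ∈ A, ∀ b ∈ A, a * b = b * a := fun a ha b hb =>
    congrArg Subtype.val (hAc.is_comm.comm ⟨a, ha⟩ ⟨b, hb⟩)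
  apply Cfsg.Agent.Helper21.MinClass.upperCentralSeries_three_eq_top' A hCA
  intro x k hk
  rcases h x with hx | hx
  · exact Cfsg.Agent.Helper21.MinClass.commutator_mem_center_of_index_eq_one x hx k
  · refine Cfsg.Agent.Helper21.MinClass.commutator_mem_center A hcomm x ?_ k hk
    intro y hy
    rcases h y with hy' | hy'
    · omega
    · rw [hx, hy']

end Cfsg.Agent.S4169
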