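import Cfsg.Statements.S4170
import Mathlib

set_option autoImplicit false
open scoped Pointwise
open Cfsg

namespace Cfsg.Agent.S4170

/-- An element of order `p` exists in a nontrivial group generated by `p`-elements. -/
theorem exists_orderOf_eq_p {Γ : Type*} [Group Γ] (p : ℕ) [Fact p.Prime]
    (hG : Nontrivial Γ)
    (hgen : Subgroup.closure {g : Γ | ∃ k : ℕ, orderOf g = p ^ k} = ⊤) :
    ∃ x : Γ, orderOf x = p := by
  classical
  have hp : p.Prime := Fact.out
  by_contra hcon
  push Not at hcon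
  have h1 : ∀ g : Γ, (∃ k : ℕ, orderOf g = p ^ k) → g = 1 := by
    rintro g ⟨k, hk⟩
    rcases Nat.eq_zero_or_pos k with rfl | hkpos
    · simpa using hk
    · exfalso
      apply hcon (g ^ (p ^ (k - 1)))
      rw [orderOf_pow_of_dvd (pow_ne_zero _ hp.ne_zero)
        (by rw [hk]; exact pow_dvd_pow p (Nat.sub_le k 1)), hk]
      obtain ⟨j, rfl⟩ : ∃ j, k = j + 1 := ⟨k - 1, by omega⟩
      simp only [Nat.add_sub_cancel]
      rw [pow_succ]
      exact Nat.mul_div_cancel_left p (pow_pos hp.pos j)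
  have h2 : (⊤ : Subgroup Γ) = ⊥ := by
    rw [← hgen, Subgroup.closure_eq_bot_iff]
    intro g hg
    exact h1 g hg
  obtain ⟨y, hy⟩ := exists_ne (1 : Γ)
  have : y ∈ (⊥ : Subgroup Γ) := h2 ▸ Subgroup.mem_top y
  exact hy (Subgroup.mem_bot.mp this)

/-- Core: a group `Γ` acting on `Ω`, `x` of prime order `p` moving `a`. -/
theorem core {Γ Ω : Type*} [Group Γ] [MulAction Γ Ω] (p : ℕ) [Fact p.Prime]
    (x : Γ) (hx : orderOf x = p) (a : Ω) (hxa : x • a ≠ a) :
    ∃ Δ₁ Δ₂ : Set Ω, Δ₁.Nonempty ∧ Δ₂.Nonempty ∧ Disjoint Δ₁ Δ₂ ∧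
      p ∣ (MulAction.stabilizer Γ Δ₁ ⊓ MulAction.stabilizer Γ Δ₂).index := by
  classical
  have hp : p.Prime := Fact.out
  set S : Set Ω := MulAction.orbit (Subgroup.zpowers x) a with hS
  have haS : a ∈ S := MulAction.mem_orbit_self a
  have hxS : x • S = S := by
    have := MulAction.smul_orbit (⟨x, Subgroup.mem_zpowers x⟩ : Subgroup.zpowers x) a
    exact this
  have hxaS : x • a ∈ S := by
    rw [← hxS]
    exact Set.smul_mem_smul_set haS
  refine ⟨{a}, S \ {a}, Set.singleton_nonempty a, ⟨x • a, hxaS, hxa⟩,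
    Set.disjoint_sdiff_right, ?_⟩
  set T : Subgroup Γ := MulAction.stabilizer Γ S with hT
  -- H = stabilizer a ⊓ T
  have hH : MulAction.stabilizer Γ ({a} : Set Ω) ⊓ MulAction.stabilizer Γ (S \ {a})
      = MulAction.stabilizer Γ a ⊓ T := by
    rw [MulAction.stabilizer_singleton]
    ext g
    simp only [Subgroup.mem_inf, MulAction.mem_stabilizer_iff, hT]
    constructor
    · rintro ⟨h1, h2⟩
      refine ⟨h1, ?_⟩
      have : S = {a} ∪ (S \ {a}) := by
        rw [Set.union_sdiff_cancel (Set.singleton_subset_iff.mpr haS)]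
      rw [this, Set.smul_set_union, h2, Set.smul_set_singleton, h1]
    · rintro ⟨h1, h2⟩
      refine ⟨h1, ?_⟩
      rw [Set.smul_set_sdiff, h2, Set.smul_set_singleton, h1]
  rw [hH]
  have hle : MulAction.stabilizer Γ a ⊓ T ≤ T := inf_le_right
  rw [← Subgroup.relIndex_mul_index hle, Subgroup.inf_relIndex_right]
  apply Dvd.dvd.mul_right
  -- relIndex (stabilizer a) T = card of T-orbit of a = |S| = p
  have h3 : (MulAction.stabilizer Γ a).subgroupOf T = MulAction.stabilizer T a := by
    ext g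
    simp only [Subgroup.mem_subgroupOf, MulAction.mem_stabilizer_iff]
    rfl
  have hxT : x ∈ T := by
    rw [hT, MulAction.mem_stabilizer_iff]; exact hxS
  have h4 : MulAction.orbit T a = S := by
    ext b
    constructor
    · rintro ⟨g, rfl⟩
      have hg : (g : Γ) • S = S := g.2
      show (g : Γ) • a ∈ S
      rw [← hg]
      exact Set.smul_mem_smul_set haS
    · rintro ⟨⟨y, hy⟩, rfl⟩
      have hyT : y ∈ T := by
        obtain ⟨k, rfl⟩ := hy
        exact T.zpow_mem hxT k
      exact ⟨⟨y, hyT⟩, rfl⟩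
  have h5 : S.ncard = p := by
    have h6 := MulAction.index_stabilizer (Subgroup.zpowers x) a
    rw [← hS] at h6
    rw [← h6]
    have h7 : (MulAction.stabilizer (Subgroup.zpowers x) a).index ∣ p := by
      have := Subgroup.index_dvd_card (MulAction.stabilizer (Subgroup.zpowers x) a)
      rwa [Nat.card_zpowers, hx] at this
    rcases (Nat.dvd_prime hp).mp h7 with h8 | h8
    · exfalso
      rw [Subgroup.index_eq_one] at h8
      have : (⟨x, Subgroup.mem_zpowers x⟩ : Subgroup.zpowers x) ∈
          MulAction.stabilizer (Subgroup.zpowers x) a := by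
        rw [h8]; exact Subgroup.mem_top _
      exact hxa this
    · exact h8
  rw [Subgroup.relIndex, h3, MulAction.index_stabilizer, h4, h5]

/-- Let p be an odd prime and G a nontrivial group of permutations of a finite set Ω that is generated by its elements of p-power order. Then Ω has two disjoint nonempty subsets Δ₁ and Δ₂ such that the index in G of the subgroup of elements mapping Δ₁ onto Δ₁ and Δ₂ onto Δ₂ (and hence also the complement of their union onto itself) is divisible by p. -/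
theorem result {Ω : Type*} [Fintype Ω] (p : ℕ) [Fact p.Prime] (hp : p ≠ 2) (G : Subgroup (Equiv.Perm Ω)) (hG : G ≠ ⊥) (hgen : Subgroup.closure {g : G | ∃ k : ℕ, orderOf g = p ^ k} = ⊤) :
    ∃ Δ₁ Δ₂ : Set Ω, Δ₁.Nonempty ∧ Δ₂.Nonempty ∧ Disjoint Δ₁ Δ₂ ∧ p ∣ (MulAction.stabilizer G Δ₁ ⊓ MulAction.stabilizer G Δ₂).index := by
  classical
  have hnt : Nontrivial G := by
    rw [Subgroup.nontrivial_iff_ne_bot]; exact hG
  obtain ⟨x, hx⟩ := exists_orderOf_eq_p p hnt hgen
  have hx1 : x ≠ 1 := by
    rintro rfl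
    rw [orderOf_one] at hx
    exact (Fact.out : p.Prime).one_lt.ne hx
  have : ∃ a : Ω, x • a ≠ a := by
    by_contra hcon
    push Not at hcon
    apply hx1
    apply Subtype.ext
    apply Equiv.Perm.ext
    intro a
    exact hcon a
  obtain ⟨a, ha⟩ := this
  exact core p x hx a ha

end Cfsg.Agent.S4170
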