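import Cfsg.Statements.S4172
import Mathlib
import Cfsg.Agent.Helper9.TwoGenD
import Cfsg.Agent.Helper7.FStar

set_option autoImplicit false
open Cfsg

namespace Cfsg.Agent.S4172

/-- Let p be a prime and G a finite group with a non-commutative Sylow p-subgroup P whose Frattini subgroup has index p² in P (P is generated by two elements). Suppose G has no nontrivial normal subgroup of order prime to p and the Frattini subgroup of P contains no nontrivial normal subgroup of G. Then the generalized Fitting subgroup F*(G) is the unique minimal normal subgroup of G, the image of P in G/F*(G) is cyclic, and if F*(G) is not commutative then P permutes the components of G transitively by conjugation. -/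
theorem result {G : Type*} [Group G] [Finite G] (p : ℕ) [Fact p.Prime] (P : Sylow p G) (hna : ¬ IsMulCommutative (P : Subgroup G)) (hgen : (frattini ↥(P : Subgroup G)).index = p ^ 2) (hcore : Cfsg.pPrimeCore p G = ⊥) (hfrat : ((frattini ↥(P : Subgroup G)).map (P : Subgroup G).subtype).normalCore = ⊥) [hFn : (Cfsg.generalizedFittingSubgroup G).Normal] :
    (Cfsg.generalizedFittingSubgroup G ≠ ⊥ ∧ ∀ K : Subgroup G, K.Normal → K ≠ ⊥ → Cfsg.generalizedFittingSubgroup G ≤ K) ∧
      IsCyclic ↥((P : Subgroup G).map (QuotientGroup.mk' (Cfsg.generalizedFittingSubgroup G))) ∧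
      (¬ IsMulCommutative (Cfsg.generalizedFittingSubgroup G) → ∀ K L : Subgroup G, Cfsg.IsComponent K → Cfsg.IsComponent L → ∃ x ∈ (P : Subgroup G), L = K.map (MulAut.conj x).toMonoidHom) := by
  obtain ⟨N₀, hN₀n, hN₀ne, hmin⟩ := Cfsg.Agent.Helper9.TwoGen.exists_min_normal P hna hgen hcore hfrat
  have := hN₀n
  have hFsne : Cfsg.generalizedFittingSubgroup G ≠ ⊥ := by
    intro hbot
    have h1 := Cfsg.Agent.Helper7.centralizer_generalizedFitting_le (G := G)
    rw [hbot] at h1
    apply hN₀ne
    rw [eq_bot_iff]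
    intro x _
    apply h1
    rw [Subgroup.mem_centralizer_iff]
    intro h hh
    have : h = 1 := by simpa using hh
    rw [this, one_mul, mul_one]
  have hN₀F : N₀ ≤ Cfsg.generalizedFittingSubgroup G := hmin _ hFn hFsne
  have hFN₀ : Cfsg.generalizedFittingSubgroup G ≤ N₀ := by
    by_cases hF : Cfsg.fittingSubgroup G = ⊥
    · unfold Cfsg.generalizedFittingSubgroup
      rw [hF, sup_bot_eq]
      exact Cfsg.Agent.Helper9.TwoGen.layer_le_min_normal N₀ hN₀ne hmin hF
    · have hE := Cfsg.Agent.Helper9.TwoGen.layer_eq_bot_of_fitting_ne_bot P hcore hfrat N₀ hN₀ne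
        hmin hF
      unfold Cfsg.generalizedFittingSubgroup
      rw [hE, bot_sup_eq]
      exact Cfsg.Agent.Helper9.TwoGen.fitting_le_min_normal P hgen hcore hfrat N₀ hN₀ne hmin hF
  have hFeq : Cfsg.generalizedFittingSubgroup G = N₀ := le_antisymm hFN₀ hN₀F
  refine ⟨⟨hFsne, fun K hK hKne => hFeq ▸ hmin K hK hKne⟩, ?_, ?_⟩
  · have hnorm : (P : Subgroup G) ≤
        Subgroup.normalizer (Cfsg.generalizedFittingSubgroup G : Set G) := by
      rw [Subgroup.normalizer_eq_top_iff.mpr hFn]; exact le_top
    obtain ⟨g, hgP, hgx⟩ := Cfsg.Agent.Helper9.TwoGen.exists_gen_mod P hgen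
      (Cfsg.generalizedFittingSubgroup G) hnorm
      (Cfsg.Agent.Helper9.TwoGen.not_inf_le_frattini P hcore hfrat _ hFsne)
    refine ⟨⟨⟨QuotientGroup.mk' _ g, Subgroup.mem_map_of_mem _ hgP⟩, ?_⟩⟩
    rintro ⟨_, x, hx, rfl⟩
    obtain ⟨k, a, ha, rfl⟩ := hgx x hx
    refine ⟨k, Subtype.ext ?_⟩
    have ha1 : QuotientGroup.mk' (Cfsg.generalizedFittingSubgroup G) a = 1 := by
      rw [QuotientGroup.mk'_apply, QuotientGroup.eq_one_iff]
      exact (Subgroup.mem_inf.mp ha).1
    have h2 : QuotientGroup.mk' (Cfsg.generalizedFittingSubgroup G) (g ^ k * a)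
        = (QuotientGroup.mk' (Cfsg.generalizedFittingSubgroup G) g) ^ k := by
      rw [map_mul, ha1, mul_one, map_zpow]
    simp only [Subgroup.coe_zpow]
    exact h2.symm
  · intro _ K L hK hL
    have hF : Cfsg.fittingSubgroup G = ⊥ := by
      by_contra hF
      have hE := Cfsg.Agent.Helper9.TwoGen.layer_eq_bot_of_fitting_ne_bot P hcore hfrat N₀ hN₀ne
        hmin hF
      have h1 := Cfsg.Agent.Helper7.IsComponent.le_layer hK
      rw [hE] at h1
      exact Cfsg.Agent.Helper7.IsComponent.ne_bot hK (eq_bot_iff.mpr h1)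
    exact Cfsg.Agent.Helper9.TwoGen.exists_conj_of_components P hna hgen hcore hF hK hL

end Cfsg.Agent.S4172
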