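import Cfsg.Statements.S4177
import Mathlib

set_option autoImplicit false
set_option linter.style.haveILetI false
open Cfsg

namespace Cfsg.Agent.S4177

open MulAction

/-- Coprime indices: the `B`-orbit of `a` is the whole `G`-orbit. -/
theorem orbit_subgroup_eq_of_coprime {G X : Type*} [Group G] [Finite G] [MulAction G X]
    (B : Subgroup G) (a : X) (hcop : (stabilizer G a).index.Coprime B.index) :
    ∀ h : G, ∃ g ∈ B, g • a = h • a := by
  classical
  set A := stabilizer G a with hA
  have h1 : (A ⊓ B).index = A.index * B.index := by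
    apply Nat.le_antisymm Subgroup.index_inf_le
    apply Nat.le_of_dvd
    · exact Nat.pos_of_ne_zero Subgroup.index_ne_zero_of_finite
    · exact hcop.mul_dvd_of_dvd_of_dvd (Subgroup.index_dvd_of_le inf_le_left)
        (Subgroup.index_dvd_of_le inf_le_right)
  have h2 : A.relIndex B = A.index := by
    rw [← Subgroup.inf_relIndex_right]
    have := Subgroup.relIndex_mul_index (inf_le_right : A ⊓ B ≤ B)
    rw [h1] at this
    exact Nat.eq_of_mul_eq_mul_right (Nat.pos_of_ne_zero Subgroup.index_ne_zero_of_finite) this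
  have h3 : stabilizer B a = A.subgroupOf B := by
    ext g
    simp only [mem_stabilizer_iff, Subgroup.mem_subgroupOf, hA]
    rfl
  have h4 : (orbit B a).ncard = (orbit G a).ncard := by
    rw [← index_stabilizer, ← index_stabilizer, h3, ← hA, ← h2]
    rfl
  have h5 : orbit B a ⊆ orbit G a := by
    rintro _ ⟨g, rfl⟩
    exact ⟨(g : G), rfl⟩
  have hfin : (orbit G a).Finite := Set.finite_range _
  have h6 : orbit B a = orbit G a := Set.eq_of_subset_of_ncard_le h5 (le_of_eq h4.symm) hfin
  intro h
  have : h • a ∈ orbit B a := by rw [h6]; exact ⟨h, rfl⟩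
  obtain ⟨g, hg⟩ := this
  exact ⟨(g : G), g.2, hg⟩

theorem fixed_mem_span {k V B : Type*} [Field k] [AddCommGroup V] [Module k V] [Group B] [Fintype B]
    (σ : Representation k B V) (hB : (Fintype.card B : k) ≠ 0) (a : V)
    (hspan : Submodule.span k {u : V | ∃ g : B, σ g a = u} = ⊤) (w : V) (hw : ∀ g, σ g w = w) :
    w ∈ Submodule.span k {∑ g : B, σ g a} := by
  set t : V →ₗ[k] V := ∑ g : B, σ g with ht
  have hta : t a = ∑ g : B, σ g a := by rw [ht, LinearMap.sum_apply]
  have h1 : ∀ v, t v ∈ Submodule.span k {t a} := by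
    have : (⊤ : Submodule k V) ≤ (Submodule.span k {t a}).comap t := by
      rw [← hspan, Submodule.span_le]
      rintro _ ⟨g, rfl⟩
      show t (σ g a) ∈ Submodule.span k {t a}
      have : t (σ g a) = t a := by
        rw [ht, LinearMap.sum_apply, LinearMap.sum_apply]
        rw [← Fintype.sum_equiv (Equiv.mulRight g) (fun g' => σ (g' * g) a) (fun g' => σ g' a)
          (fun g' => rfl)]
        apply Finset.sum_congr rfl
        intro g' _
        rw [map_mul]; rfl
      rw [this]
      exact Submodule.mem_span_singleton_self _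
    intro v
    exact this (Submodule.mem_top)
  have h2 : t w = (Fintype.card B : k) • w := by
    rw [ht, LinearMap.sum_apply]
    simp only [hw, Finset.sum_const, Finset.card_univ]
    rw [Nat.cast_smul_eq_nsmul]
  have h3 := h1 w
  rw [h2, hta] at h3
  have := Submodule.smul_mem _ (Fintype.card B : k)⁻¹ h3
  rwa [smul_smul, inv_mul_cancel₀ hB, one_smul] at this

theorem sum_subgroup_fixed {k V H : Type*} [Field k] [AddCommGroup V] [Module k V] [Group H] [Fintype H]
    (ρ : Representation k H V) (B : Subgroup H) [Fintype B] (hH : (Fintype.card H : k) ≠ 0) (a : V)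
    (hF : ∀ h : H, ∃ g ∈ B, ρ g a = ρ h a) (h : H) :
    ρ h (∑ g : B, ρ (g : H) a) = ∑ g : B, ρ (g : H) a := by
  set s := ∑ g : B, ρ (g : H) a with hs
  set T := ∑ h : H, ρ h a with hT
  -- T is fixed
  have hTfix : ρ h T = T := by
    rw [hT, map_sum]
    rw [← Fintype.sum_equiv (Equiv.mulLeft h) (fun h' => ρ (h * h') a) (fun h' => ρ h' a)
      (fun h' => rfl)]
    apply Finset.sum_congr rfl
    intro h' _
    rw [map_mul]; rfl
  -- t_B is constant on the orbit
  have h1 : ∀ h' : H, ∑ g : B, ρ (g : H) (ρ h' a) = s := by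
    intro h'
    obtain ⟨g₀, hg₀, e⟩ := hF h'
    rw [← e, hs]
    rw [← Fintype.sum_equiv (Equiv.mulRight (⟨g₀, hg₀⟩ : B)) (fun g : B => ρ ((g : H) * g₀) a)
      (fun g : B => ρ (g : H) a) (fun g => rfl)]
    apply Finset.sum_congr rfl
    intro g _
    rw [map_mul]; rfl
  have h2 : ∀ g : B, ∑ h' : H, ρ (g : H) (ρ h' a) = T := by
    intro g
    rw [hT]
    rw [← Fintype.sum_equiv (Equiv.mulLeft (g : H)) (fun h' => ρ ((g : H) * h') a) (fun h' => ρ h' a)
      (fun h' => rfl)]
    apply Finset.sum_congr rfl
    intro h' _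
    rw [map_mul]; rfl
  have h3 : (Fintype.card H : k) • s = (Fintype.card B : k) • T := by
    have e1 : ∑ h' : H, ∑ g : B, ρ (g : H) (ρ h' a) = (Fintype.card H : k) • s := by
      simp only [h1, Finset.sum_const, Finset.card_univ]
      rw [Nat.cast_smul_eq_nsmul]
    have e2 : ∑ g : B, ∑ h' : H, ρ (g : H) (ρ h' a) = (Fintype.card B : k) • T := by
      simp only [h2, Finset.sum_const, Finset.card_univ]
      rw [Nat.cast_smul_eq_nsmul]
    rw [← e1, ← e2, Finset.sum_comm]
  have h4 : s = ((Fintype.card H : k)⁻¹ * (Fintype.card B : k)) • T := by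
    rw [mul_smul, ← h3, smul_smul, inv_mul_cancel₀ hH, one_smul]
  rw [h4, map_smul, hTfix]


/-- Let k be a field whose characteristic does not divide the order of the finite group H (for instance a field of characteristic zero), and ρ a k-linear representation of H on V. Let a be a vector whose H-orbit spans V. Then the space of H-fixed vectors has dimension at most 1, and every vector b whose H-orbit has size coprime to the size of the orbit of a is fixed by H. -/
theorem result {k V H : Type*} [Field k] [AddCommGroup V] [Module k V] [Group H] [Finite H]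
    (hchar : ¬ ringChar k ∣ Nat.card H) (ρ : Representation k H V) (a : V)
    (hspan : Submodule.span k {u : V | ∃ h : H, ρ h a = u} = ⊤) :
    Module.finrank k ρ.invariants ≤ 1 ∧
    ∀ b : V, (Nat.card {u : V | ∃ h : H, ρ h a = u}).Coprime (Nat.card {u : V | ∃ h : H, ρ h b = u}) → ∀ h : H, ρ h b = b := by
  classical
  haveI : Fintype H := Fintype.ofFinite H
  have hcast : ∀ n : ℕ, n ∣ Nat.card H → (n : k) ≠ 0 := by
    intro n hn h0
    rw [ringChar.spec] at h0
    exact hchar (dvd_trans h0 hn)
  have hH : (Fintype.card H : k) ≠ 0 := hcast _ (by rw [Nat.card_eq_fintype_card])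
  -- the sum over the whole group is fixed
  have hFtop : ∀ h : H, ∃ g ∈ (⊤ : Subgroup H), ρ g a = ρ h a := fun h => ⟨h, Subgroup.mem_top h, rfl⟩
  constructor
  · -- dimension of invariants
    set T := ∑ h : H, ρ h a with hT
    have hTfix : ∀ h : H, ρ h T = T := by
      intro h
      rw [hT, map_sum]
      rw [← Fintype.sum_equiv (Equiv.mulLeft h) (fun h' => ρ (h * h') a) (fun h' => ρ h' a)
        (fun h' => rfl)]
      apply Finset.sum_congr rfl
      intro h' _
      rw [map_mul]; rfl
    have hTmem : T ∈ ρ.invariants := (Representation.mem_invariants ρ T).mpr hTfix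
    apply finrank_le_one (⟨T, hTmem⟩ : ρ.invariants)
    rintro ⟨w, hw⟩
    have hw' := (Representation.mem_invariants ρ w).mp hw
    have := fixed_mem_span ρ hH a hspan w hw'
    obtain ⟨c, hc⟩ := Submodule.mem_span_singleton.mp this
    exact ⟨c, Subtype.ext hc⟩
  · intro b hcop
    letI act : MulAction H V := MulAction.compHom V ρ
    have hsm : ∀ (h : H) (v : V), h • v = ρ h v := fun _ _ => rfl
    have hca : Nat.card {u : V | ∃ h : H, ρ h a = u} = (stabilizer H a).index := by
      rw [index_stabilizer, ← Nat.card_coe_set_eq]; rfl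
    have hcb : Nat.card {u : V | ∃ h : H, ρ h b = u} = (stabilizer H b).index := by
      rw [index_stabilizer, ← Nat.card_coe_set_eq]; rfl
    rw [hca, hcb] at hcop
    set B := stabilizer H b with hB
    have hF : ∀ h : H, ∃ g ∈ B, ρ g a = ρ h a := orbit_subgroup_eq_of_coprime B a hcop
    haveI : Fintype B := Fintype.ofFinite B
    have hBcard : (Fintype.card B : k) ≠ 0 :=
      hcast _ (by rw [← Nat.card_eq_fintype_card]; exact Subgroup.card_subgroup_dvd_card B)
    have hspanB : Submodule.span k {u : V | ∃ g : B, (ρ.comp B.subtype) g a = u} = ⊤ := by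
      rw [← hspan]
      congr 1
      ext u
      constructor
      · rintro ⟨g, rfl⟩; exact ⟨(g : H), rfl⟩
      · rintro ⟨h, rfl⟩
        obtain ⟨g, hg, e⟩ := hF h
        exact ⟨⟨g, hg⟩, e⟩
    have hbfix : ∀ g : B, (ρ.comp B.subtype) g b = b := by
      intro g
      have h1 : (g : H) ∈ stabilizer H b := g.2
      exact mem_stabilizer_iff.mp h1
    have hmem := fixed_mem_span (ρ.comp B.subtype) hBcard a hspanB b hbfix
    obtain ⟨c, hc⟩ := Submodule.mem_span_singleton.mp hmem
    intro h
    rw [← hc, map_smul]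
    congr 1
    exact sum_subgroup_fixed ρ B hH a hF h

end Cfsg.Agent.S4177
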