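import Cfsg.Statements.S4176
import Mathlib
import Cfsg.Agent.S4177
import Cfsg.Agent.S3744
import Cfsg.Agent.Helper21.PSolv

set_option autoImplicit false
set_option linter.style.haveILetI false
open Cfsg

namespace Cfsg.Agent.S4176

open MulAction

/-- If the subgroup `X` is transitive on the `H`-orbit of `a`, then `∑_{g ∈ X} ρ g a` is `H`-fixed. -/
theorem sum_subgroup_fixed' {k V H : Type*} [Field k] [AddCommGroup V] [Module k V] [Group H] [Finite H]
    (ρ : Representation k H V) (X : Subgroup H) [Fintype X] (a : V)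
    (hF : ∀ h : H, ∃ g ∈ X, ρ g a = ρ h a) (h : H) :
    ρ h (∑ g : X, ρ (g : H) a) = ∑ g : X, ρ (g : H) a := by
  classical
  haveI : Fintype H := Fintype.ofFinite H
  -- the orbit
  set O : Finset V := Finset.univ.image (fun h' : H => ρ h' a) with hO
  -- number of elements of X mapping a to u
  have hcount : ∀ (h₁ : H), ∀ u ∈ O,
      (Finset.univ.filter (fun g : X => ρ (h₁ * (g : H)) a = u)).card =
        (Finset.univ.filter (fun g : X => ρ (g : H) a = a)).card := by
    intro h₁ u hu
    obtain ⟨h', -, rfl⟩ := Finset.mem_image.mp hu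
    obtain ⟨g₀, hg₀, e⟩ := hF (h₁⁻¹ * h')
    -- ρ (h₁ g) a = ρ h' a ↔ ρ (g₀⁻¹ g) a = a
    apply Finset.card_nbij' (fun g : X => (⟨g₀, hg₀⟩ : X)⁻¹ * g) (fun g : X => (⟨g₀, hg₀⟩ : X) * g)
    · intro g hg
      simp only [Finset.coe_filter, Finset.mem_univ, true_and, Set.mem_ofPred_eq] at hg ⊢
      have h1 : ρ (g : H) a = ρ g₀ a := by
        rw [e]
        have := congrArg (ρ h₁⁻¹) hg
        rw [← Module.End.mul_apply, ← Module.End.mul_apply, ← map_mul, ← map_mul, inv_mul_cancel_left] at this
        exact this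
      rw [Subgroup.coe_mul, Subgroup.coe_inv, Subgroup.coe_mk, map_mul, Module.End.mul_apply, h1,
        ← Module.End.mul_apply, ← map_mul, inv_mul_cancel, map_one, Module.End.one_apply]
    · intro g hg
      simp only [Finset.coe_filter, Finset.mem_univ, true_and, Set.mem_ofPred_eq] at hg ⊢
      rw [Subgroup.coe_mul, Subgroup.coe_mk, ← mul_assoc, map_mul, Module.End.mul_apply, hg, map_mul,
        Module.End.mul_apply, e, ← Module.End.mul_apply, ← map_mul, mul_inv_cancel_left]
    · intro g _; simp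
    · intro g _; simp
  have hsum : ∀ h₁ : H, ∑ g : X, ρ (h₁ * (g : H)) a =
      (Finset.univ.filter (fun g : X => ρ (g : H) a = a)).card • ∑ u ∈ O, u := by
    intro h₁
    have hmaps : ∀ g ∈ (Finset.univ : Finset X), ρ (h₁ * (g : H)) a ∈ O := by
      intro g _
      exact Finset.mem_image.mpr ⟨h₁ * g, Finset.mem_univ _, rfl⟩
    rw [← Finset.sum_fiberwise_of_maps_to hmaps (fun g : X => ρ (h₁ * (g : H)) a), Finset.smul_sum]
    apply Finset.sum_congr rfl
    intro u hu
    rw [Finset.sum_congr rfl (fun g hg => (Finset.mem_filter.mp hg).2), Finset.sum_const,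
      hcount h₁ u hu]
  have e1 : ∑ g : X, ρ (g : H) a = ∑ g : X, ρ (1 * (g : H)) a := by simp
  have e2 : ∑ g : X, ρ (g : H) a =
      (Finset.univ.filter (fun g : X => ρ (g : H) a = a)).card • ∑ u ∈ O, u := by
    rw [e1, hsum 1]
  have e3 : ρ h (∑ g : X, ρ (g : H) a) = ∑ g : X, ρ (h * (g : H)) a := by
    rw [map_sum]
    apply Finset.sum_congr rfl
    intro g _
    rw [map_mul]; rfl
  rw [e3, hsum h, e2]


/-- A subgroup `X` of `p'`-order, transitive on the orbit of `a` (which spans `V`):
every `X`-fixed vector is `H`-fixed. -/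
theorem fixed_of_fixed {k V H : Type*} [Field k] (p : ℕ) [Fact p.Prime] [CharP k p] [AddCommGroup V]
    [Module k V] [Group H] [Finite H] (ρ : Representation k H V) (a : V)
    (hspan : Submodule.span k {u : V | ∃ h : H, ρ h a = u} = ⊤)
    (X : Subgroup H) (hX : (Nat.card X).Coprime p)
    (hF : ∀ h : H, ∃ g ∈ X, ρ g a = ρ h a) :
    ∃ s : V, (∀ h : H, ρ h s = s) ∧ ∀ w : V, (∀ g ∈ X, ρ g w = w) → ∃ c : k, c • s = w := by
  classical
  haveI : Fintype X := Fintype.ofFinite X
  have hp : p.Prime := Fact.out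
  have hXcard : (Fintype.card X : k) ≠ 0 := by
    intro h0
    rw [CharP.cast_eq_zero_iff k p, ← Nat.card_eq_fintype_card] at h0
    exact (Nat.Prime.coprime_iff_not_dvd hp).mp hX.symm h0
  have hspanX : Submodule.span k {u : V | ∃ g : X, (ρ.comp X.subtype) g a = u} = ⊤ := by
    rw [← hspan]
    congr 1
    ext u
    constructor
    · rintro ⟨g, rfl⟩; exact ⟨(g : H), rfl⟩
    · rintro ⟨h, rfl⟩
      obtain ⟨g, hg, e⟩ := hF h
      exact ⟨⟨g, hg⟩, e⟩
  refine ⟨∑ g : X, ρ (g : H) a, fun h => sum_subgroup_fixed' ρ X a hF h, ?_⟩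
  intro w hw
  have hmem := Cfsg.Agent.S4177.fixed_mem_span (ρ.comp X.subtype) hXcard a hspanX w
    (fun g => hw g g.2)
  exact Submodule.mem_span_singleton.mp hmem

/-- Let k be a field of prime characteristic p, H a finite p-soluble group and ρ a k-linear representation of H on V. Let a be a vector that is fixed by some Sylow p-subgroup of H and whose H-orbit spans V. Then the space of H-fixed vectors has dimension at most 1, and every vector b whose H-orbit has size coprime to the size of the orbit of a is fixed by H. -/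
theorem result {k V H : Type*} [Field k] (p : ℕ) [Fact p.Prime] [CharP k p] [AddCommGroup V] [Module k V]
    [Group H] [Finite H] (hsol : Cfsg.IsPSolvable p H) (ρ : Representation k H V) (a : V)
    (hfix : ∃ P : Sylow p H, ∀ x : H, x ∈ (P : Subgroup H) → ρ x a = a)
    (hspan : Submodule.span k {u : V | ∃ h : H, ρ h a = u} = ⊤) :
    Module.finrank k ρ.invariants ≤ 1 ∧
    ∀ b : V, (Nat.card {u : V | ∃ h : H, ρ h a = u}).Coprime (Nat.card {u : V | ∃ h : H, ρ h b = u}) → ∀ h : H, ρ h b = b := by
  classical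
  have hp : p.Prime := Fact.out
  obtain ⟨P, hP⟩ := hfix
  letI act : MulAction H V := MulAction.compHom V ρ
  have hPA : (P : Subgroup H) ≤ stabilizer H a := fun x hx => mem_stabilizer_iff.mpr (hP x hx)
  have hAidx : ((stabilizer H a).index).Coprime p := by
    have h1 : (stabilizer H a).index ∣ (P : Subgroup H).index := Subgroup.index_dvd_of_le hPA
    have h2 : ((P : Subgroup H).index).Coprime p :=
      ((Nat.Prime.coprime_iff_not_dvd hp).mpr P.not_dvd_index).symm
    exact Nat.Coprime.coprime_dvd_left h1 h2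
  constructor
  · obtain ⟨⟨K, hK, n, hKn⟩, -, -⟩ := Cfsg.Agent.S3744.result hsol
    have hcop : ((stabilizer H a).index).Coprime K.index := by
      rw [hKn]; exact Nat.Coprime.pow_right n hAidx
    have hF : ∀ h : H, ∃ g ∈ K, ρ g a = ρ h a :=
      Cfsg.Agent.S4177.orbit_subgroup_eq_of_coprime K a hcop
    obtain ⟨s, hs, hgen⟩ := fixed_of_fixed p ρ a hspan K hK hF
    have hsmem : s ∈ ρ.invariants := (Representation.mem_invariants ρ s).mpr hs
    apply finrank_le_one (⟨s, hsmem⟩ : ρ.invariants)
    rintro ⟨w, hw⟩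
    have hw' := (Representation.mem_invariants ρ w).mp hw
    obtain ⟨c, hc⟩ := hgen w (fun g _ => hw' g)
    exact ⟨c, Subtype.ext hc⟩
  · intro b hcop
    have hca : Nat.card {u : V | ∃ h : H, ρ h a = u} = (stabilizer H a).index := by
      rw [index_stabilizer, ← Nat.card_coe_set_eq]; rfl
    have hcb : Nat.card {u : V | ∃ h : H, ρ h b = u} = (stabilizer H b).index := by
      rw [index_stabilizer, ← Nat.card_coe_set_eq]; rfl
    rw [hca, hcb] at hcop
    set B := stabilizer H b with hB
    have hBsol : Cfsg.IsPSolvable p B := Cfsg.Agent.Helper21.PSolv.isPSolvable_subgroup hp hsol B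
    obtain ⟨⟨K, hK, n, hKn⟩, -, -⟩ := Cfsg.Agent.S3744.result hBsol
    set X : Subgroup H := K.map B.subtype with hX
    have hXcard : Nat.card X = Nat.card K :=
      Subgroup.card_map_of_injective B.subtype_injective
    have hXidx : X.index = p ^ n * B.index := by
      rw [hX, Subgroup.index_map_subtype, hKn]
    have hcopX : ((stabilizer H a).index).Coprime X.index := by
      rw [hXidx]
      exact Nat.Coprime.mul_right (Nat.Coprime.pow_right n hAidx) hcop
    have hF : ∀ h : H, ∃ g ∈ X, ρ g a = ρ h a :=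
      Cfsg.Agent.S4177.orbit_subgroup_eq_of_coprime X a hcopX
    obtain ⟨s, hs, hgen⟩ := fixed_of_fixed p ρ a hspan X (by rw [hXcard]; exact hK) hF
    have hbX : ∀ g ∈ X, ρ g b = b := by
      intro g hg
      have hgB : g ∈ B := by
        obtain ⟨y, -, rfl⟩ := hg
        exact y.2
      exact mem_stabilizer_iff.mp hgB
    obtain ⟨c, hc⟩ := hgen b hbX
    intro h
    rw [← hc, map_smul, hs]

end Cfsg.Agent.S4176
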