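import Cfsg.Statements.S4178
-- import your own Cfsg.Agent.* helpers here
import Cfsg.Agent.Helper11.EigenOneIndex

set_option autoImplicit false
open Cfsg

namespace Cfsg.Agent.S4178

/-- Let F be a finite field with q elements, V a non-zero finite-dimensional F-space of dimension d, H a group of invertible linear maps of V, and R the subgroup of H generated by the elements of H that fix some non-zero vector (have eigenvalue 1). Then the index of R in H is at most q^d − 1; and if H leaves invariant some proper non-zero subspace, the index is at most q^(d/2) − 1. -/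
theorem result {F V : Type*} [Field F] [Fintype F] [AddCommGroup V] [Module F V] [FiniteDimensional F V] [Nontrivial V]
    (H : Subgroup (V ≃ₗ[F] V)) :
    (Subgroup.closure {h : ↥H | ∃ v : V, v ≠ 0 ∧ (h : V ≃ₗ[F] V) v = v}).index ≤ Fintype.card F ^ Module.finrank F V - 1 ∧
    ((∃ W : Submodule F V, W ≠ ⊥ ∧ W ≠ ⊤ ∧ ∀ h ∈ H, ∀ w ∈ W, h w ∈ W) →
      ((Subgroup.closure {h : ↥H | ∃ v : V, v ≠ 0 ∧ (h : V ≃ₗ[F] V) v = v}).index : ℝ) ≤ Real.sqrt ((Fintype.card F : ℝ) ^ Module.finrank F V) - 1) := by
  have hq : Nat.card F = Fintype.card F := Nat.card_eq_fintype_card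
  have hq1 : 1 ≤ Fintype.card F := Fintype.card_pos
  constructor
  · have h1 := Helper11.eigenOne_index_le_of_invariant H ⊤ top_ne_bot (fun _ _ _ _ => trivial)
    rw [finrank_top, hq] at h1
    exact h1
  · rintro ⟨W, hW0, hW1, hinv⟩
    have h1 := Helper11.eigenOne_index_le_of_invariant H W hW0 hinv
    have h2 := Helper11.eigenOne_index_le_of_invariant_dual H W hW1 hinv
    have hsum := Subspace.finrank_add_finrank_dualAnnihilator_eq W
    rw [hq] at h1 h2
    -- choose the smaller exponent
    have key : ∀ m : ℕ, 2 * m ≤ Module.finrank F V →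
        ((Fintype.card F ^ m - 1 : ℕ) : ℝ) ≤
          Real.sqrt ((Fintype.card F : ℝ) ^ Module.finrank F V) - 1 := by
      intro m hm
      have hpow : 1 ≤ Fintype.card F ^ m := Nat.one_le_pow _ _ hq1
      rw [Nat.cast_sub hpow, Nat.cast_one, Nat.cast_pow]
      apply sub_le_sub_right
      apply Real.le_sqrt_of_sq_le
      rw [← pow_mul, mul_comm]
      apply pow_le_pow_right₀ _ hm
      exact_mod_cast hq1
    rcases le_or_gt (Module.finrank F W) (Module.finrank F W.dualAnnihilator) with hle | hlt
    · refine le_trans ?_ (key (Module.finrank F W) (by omega))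
      exact_mod_cast h1
    · refine le_trans ?_ (key (Module.finrank F W.dualAnnihilator) (by omega))
      exact_mod_cast h2

end Cfsg.Agent.S4178
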