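import Mathlib
import Cfsg.Statements.S4186

set_option autoImplicit false
open Cfsg

namespace Cfsg.Agent.S4186

/-- Let T and X be subgroups of a group with T a finite 2-group normalizing X but not centralizing it. Then some element of T inverts some non-identity element of X under conjugation. -/
theorem result {G : Type*} [Group G] (T X : Subgroup G) [Finite ↥T] (hT : IsPGroup 2 ↥T) (hTN : T ≤ Subgroup.normalizer (X : Set G)) (hTC : ¬ T ≤ Subgroup.centralizer (X : Set G)) : ∃ t ∈ T, ∃ x ∈ X, x ≠ 1 ∧ t * x * t⁻¹ = x⁻¹ := by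
  classical
  rw [SetLike.not_le_iff_exists] at hTC
  obtain ⟨t, htT, htC⟩ := hTC
  -- t has 2-power order
  obtain ⟨n, hn⟩ := hT ⟨t, htT⟩
  have hn' : t ^ 2 ^ n = 1 := by
    have := congrArg Subtype.val hn
    simpa using this
  have hex : ∃ k : ℕ, t ^ 2 ^ k ∈ Subgroup.centralizer (X : Set G) :=
    ⟨n, by rw [hn']; exact Subgroup.one_mem _⟩
  set k := Nat.find hex with hk
  have hk1 : t ^ 2 ^ k ∈ Subgroup.centralizer (X : Set G) := Nat.find_spec hex
  have hk0 : k ≠ 0 := by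
    intro h0
    rw [h0, pow_zero, pow_one] at hk1
    exact htC hk1
  obtain ⟨j, hj⟩ := Nat.exists_eq_succ_of_ne_zero hk0
  set s := t ^ 2 ^ j with hs
  have hsT : s ∈ T := T.pow_mem htT _
  have hsC : s ∉ Subgroup.centralizer (X : Set G) := by
    have : j < k := by omega
    exact Nat.find_min hex this
  have hs2 : s ^ 2 ∈ Subgroup.centralizer (X : Set G) := by
    have : s ^ 2 = t ^ 2 ^ k := by
      rw [hs, ← pow_mul, hj, pow_succ]
    rw [this]; exact hk1
  -- find y ∈ X not centralized by s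
  rw [Subgroup.mem_centralizer_iff] at hsC
  push Not at hsC
  obtain ⟨y, hyX, hy⟩ := hsC
  have hsN : s ∈ Subgroup.normalizer (X : Set G) := hTN hsT
  have hsy : s * y * s⁻¹ ∈ X := (Subgroup.mem_normalizer_iff.mp hsN y).mp hyX
  refine ⟨s, hsT, y⁻¹ * (s * y * s⁻¹), X.mul_mem (X.inv_mem hyX) hsy, ?_, ?_⟩
  · intro h
    apply hy
    have h1 : s * y * s⁻¹ = y := by
      calc s * y * s⁻¹ = y * (y⁻¹ * (s * y * s⁻¹)) := by group
        _ = y := by rw [h, mul_one]
    calc y * s = (s * y * s⁻¹) * s := by rw [h1]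
      _ = s * y := by group
  · have h2 : y * s ^ 2 = s ^ 2 * y := Subgroup.mem_centralizer_iff.mp hs2 y hyX
    have h3 : s ^ 2 * y * (s ^ 2)⁻¹ = y := by
      rw [← h2]; group
    calc s * (y⁻¹ * (s * y * s⁻¹)) * s⁻¹ = (s * y * s⁻¹)⁻¹ * (s ^ 2 * y * (s ^ 2)⁻¹) := by
          rw [pow_two]; group
      _ = (s * y * s⁻¹)⁻¹ * y := by rw [h3]
      _ = (y⁻¹ * (s * y * s⁻¹))⁻¹ := by group

end Cfsg.Agent.S4186
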