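import Cfsg.Statements.S4188
import Mathlib
import Cfsg.Agent.Helper1.FratBound5

set_option autoImplicit false
open Cfsg

namespace Cfsg.Agent.S4188

/-- Let G be a finite group that is the semidirect product of a normal abelian subgroup N of odd order by a 2-subgroup P, and suppose N is the unique minimal normal subgroup of G. Then the index of the Frattini subgroup of P in P is at most #N − 1. -/
theorem result {G : Type*} [Group G] [Finite G] (N P : Subgroup G) (hN : N.Normal) (hNab : IsMulCommutative ↥N) (hNodd : Odd (Nat.card ↥N)) (hP : IsPGroup 2 ↥P) (hdisj : N ⊓ P = ⊥) (hprod : N ⊔ P = ⊤) (hmin : N ≠ ⊥ ∧ ∀ M : Subgroup G, M.Normal → M ≠ ⊥ → N ≤ M) : (frattini ↥P).index ≤ Nat.card ↥N - 1 := by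
  open Cfsg.Agent.Helper1.FratBound in
  have := hN
  let _ : CommGroup ↥N := { (inferInstance : Group ↥N) with mul_comm := fun a b => mul_comm' a b }
  have hN3 : 3 ≤ Nat.card ↥N := by
    have h1 : 1 < Nat.card ↥N := (Subgroup.one_lt_card_iff_ne_bot N).mpr hmin.1
    obtain ⟨k, hk⟩ := hNodd
    omega
  -- the conjugation action of `P` on `N`
  let ι : ↥P →* MulAut ↥N := (MulAut.conjNormal (H := N)).comp P.subtype
  have hιapp : ∀ (x : ↥P) (n : ↥N), ((ι x n : ↥N) : G) = (x : G) * (n : G) * (x : G)⁻¹ := by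
    intro x n
    exact MulAut.conjNormal_apply (x : G) n
  -- the kernel of the action is normal in `G`
  let C : Subgroup G := P ⊓ Subgroup.centralizer (N : Set G)
  have hCmem : ∀ c, c ∈ C ↔ c ∈ P ∧ ∀ n ∈ N, n * c = c * n := by
    intro c
    show c ∈ P ⊓ Subgroup.centralizer (N : Set G) ↔ _
    rw [Subgroup.mem_inf, Subgroup.mem_centralizer_iff]
    rfl
  have hCP : ∀ p ∈ P, ∀ c ∈ C, p * c * p⁻¹ ∈ C := by
    intro p hp c hc
    rw [hCmem] at hc ⊢
    refine ⟨P.mul_mem (P.mul_mem hp hc.1) (P.inv_mem hp), ?_⟩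
    intro n hn
    have h1 : p⁻¹ * n * p ∈ N := by
      have := hN.conj_mem n hn p⁻¹
      rwa [inv_inv] at this
    have h2 := hc.2 _ h1
    calc n * (p * c * p⁻¹) = p * ((p⁻¹ * n * p) * c) * p⁻¹ := by group
      _ = p * (c * (p⁻¹ * n * p)) * p⁻¹ := by rw [h2]
      _ = p * c * p⁻¹ * n := by group
  have hCN : ∀ n ∈ N, ∀ c ∈ C, n * c * n⁻¹ = c := by
    intro n hn c hc
    rw [((hCmem c).mp hc).2 n hn]
    group
  have hCnormal : C.Normal := by
    constructor
    intro c hc g
    have hg : g ∈ ((N ⊔ P : Subgroup G) : Set G) := by rw [hprod]; trivial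
    rw [Subgroup.normal_mul] at hg
    obtain ⟨n, hn, p, hp, rfl⟩ := Set.mem_mul.mp hg
    have h1 := hCP p hp c hc
    have h2 := hCN n hn _ h1
    have h3 : n * p * c * (n * p)⁻¹ = n * (p * c * p⁻¹) * n⁻¹ := by group
    rw [h3, h2]; exact h1
  have hCbot : C = ⊥ := by
    by_contra hne
    have h1 : N ≤ C := hmin.2 C hCnormal hne
    have h2 : N ≤ N ⊓ P := le_inf le_rfl (h1.trans inf_le_left)
    rw [hdisj] at h2
    exact hmin.1 (le_bot_iff.mp h2)
  have hι : Function.Injective ι := by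
    rw [injective_iff_map_eq_one]
    intro x hx
    have hxC : (x : G) ∈ C := by
      rw [hCmem]
      refine ⟨x.2, ?_⟩
      intro n hn
      have h1 := hιapp x ⟨n, hn⟩
      rw [hx] at h1
      have h2 : n = (x : G) * n * (x : G)⁻¹ := h1
      calc n * (x : G) = ((x : G) * n * (x : G)⁻¹) * (x : G) := by rw [← h2]
        _ = (x : G) * n := by group
    rw [hCbot, Subgroup.mem_bot] at hxC
    exact Subtype.ext hxC
  exact frattini_index_le_of_faithful hP hNodd hN3 ι hι

end Cfsg.Agent.S4188
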