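import Cfsg.Statements.S4194
-- import your own Cfsg.Agent.* helpers here
import Mathlib
import Cfsg.Agent.Helper16.CamHerzGroup

set_option autoImplicit false
open Cfsg

namespace Cfsg.Agent.S4194

/-- A finite group G has commutative Sylow 2-subgroups if and only if every 2-element of G (element of order a power of 2) is 2-central, that is, its centralizer contains a Sylow 2-subgroup of G. -/
theorem result {G : Type*} [Group G] [Finite G] (P : Sylow 2 G) :
    IsMulCommutative (P : Subgroup G) ↔ ∀ x : G, (∃ k : ℕ, orderOf x = 2 ^ k) → (∃ Q : Sylow 2 G, (Q : Subgroup G) ≤ Subgroup.centralizer ({x} : Set G)) := by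
  constructor
  · intro hP x hx
    obtain ⟨k, hk⟩ := hx
    have hpg : IsPGroup 2 (Subgroup.zpowers x) := by
      rw [IsPGroup.iff_card, Nat.card_zpowers]
      exact ⟨k, hk⟩
    obtain ⟨Q, hQ⟩ := hpg.exists_le_sylow
    refine ⟨Q, ?_⟩
    obtain ⟨g, hg⟩ := MulAction.exists_smul_eq G P Q
    have hmem : ∀ y : G, y ∈ (Q : Subgroup G) ↔ g⁻¹ * y * g ∈ (P : Subgroup G) := by
      intro y
      rw [← hg, Sylow.smul_def, Sylow.pointwise_smul_def,
        Subgroup.mem_pointwise_smul_iff_inv_smul_mem, ← map_inv, MulAut.smul_def,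
        MulAut.conj_apply, inv_inv]
    have hxQ : x ∈ (Q : Subgroup G) := hQ (Subgroup.mem_zpowers x)
    intro y hy
    rw [Subgroup.mem_centralizer_singleton_iff]
    have h1 := (hmem y).1 hy
    have h2 := (hmem x).1 hxQ
    have h3 := congrArg Subtype.val (hP.is_comm.comm ⟨_, h1⟩ ⟨_, h2⟩)
    simp only [Subgroup.coe_mul] at h3
    -- h3 : g⁻¹ * y * g * (g⁻¹ * x * g) = g⁻¹ * x * g * (g⁻¹ * y * g)
    calc y * x = g * ((g⁻¹ * y * g) * (g⁻¹ * x * g)) * g⁻¹ := by group
      _ = g * ((g⁻¹ * x * g) * (g⁻¹ * y * g)) * g⁻¹ := by rw [h3]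
      _ = x * y := by group
  · intro h
    exact Cfsg.Agent.Helper16.CamHerzGroup.comm_of_central P (by
      intro x hx
      obtain ⟨a, ha⟩ := Cfsg.Agent.Helper20.orderOf_eq_pow_of_mem_pgroup (P : Subgroup G) P.isPGroup' x hx
      exact h x ⟨a, ha⟩)

end Cfsg.Agent.S4194
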