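import Mathlib
import Cfsg.Statements.S4195

set_option autoImplicit false
open Cfsg

namespace Cfsg.Agent.S4195

/-- the subgroup of elements conjugating `x` to `x` or `x⁻¹` -/
def invNormalizer {G : Type*} [Group G] (x : G) : Subgroup G where
  carrier := {g | g * x * g⁻¹ = x ∨ g * x * g⁻¹ = x⁻¹}
  one_mem' := by left; simp
  mul_mem' := by
    intro a b ha hb
    have e : a * b * x * (a * b)⁻¹ = a * (b * x * b⁻¹) * a⁻¹ := by group
    rcases ha with ha | ha <;> rcases hb with hb | hb
    · left; rw [e, hb, ha]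
    · right
      rw [e, hb]
      have : a * x⁻¹ * a⁻¹ = (a * x * a⁻¹)⁻¹ := by group
      rw [this, ha]
    · right; rw [e, hb, ha]
    · left
      rw [e, hb]
      have : a * x⁻¹ * a⁻¹ = (a * x * a⁻¹)⁻¹ := by group
      rw [this, ha, inv_inv]
  inv_mem' := by
    intro a ha
    rcases ha with ha | ha
    · left
      calc a⁻¹ * x * a⁻¹⁻¹ = a⁻¹ * (a * x * a⁻¹) * a := by rw [ha, inv_inv]
        _ = x := by group
    · right
      have h2 : a * x⁻¹ * a⁻¹ = x := by
        have : a * x⁻¹ * a⁻¹ = (a * x * a⁻¹)⁻¹ := by group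
        rw [this, ha, inv_inv]
      calc a⁻¹ * x * a⁻¹⁻¹ = a⁻¹ * (a * x⁻¹ * a⁻¹) * a := by rw [h2, inv_inv]
        _ = x⁻¹ := by group

theorem mem_invNormalizer {G : Type*} [Group G] (x g : G) :
    g ∈ invNormalizer x ↔ g * x * g⁻¹ = x ∨ g * x * g⁻¹ = x⁻¹ := Iff.rfl

theorem mem_centralizer_singleton {G : Type*} [Group G] (x g : G) :
    g ∈ Subgroup.centralizer ({x} : Set G) ↔ g * x * g⁻¹ = x := by
  rw [Subgroup.mem_centralizer_singleton_iff]
  constructor
  · intro h; rw [h]; group
  · intro h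
    calc g * x = g * x * g⁻¹ * g := by group
      _ = x * g := by rw [h]

/-- Let x be a non-identity element of a finite group G whose centralizer contains a Sylow 2-subgroup of G. If x is conjugate to its inverse, then x has order 2. -/
theorem result {G : Type*} [Group G] [Finite G] (x : G) (hx : x ≠ 1) (P : Sylow 2 G) (hP : (P : Subgroup G) ≤ Subgroup.centralizer ({x} : Set G)) (hreal : IsConj x x⁻¹) : orderOf x = 2 := by
  have : Fact (Nat.Prime 2) := ⟨Nat.prime_two⟩
  apply orderOf_eq_prime _ hx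
  by_contra hne
  have hxx : x ≠ x⁻¹ := by
    intro h
    apply hne
    calc x ^ 2 = x * x := pow_two x
      _ = x * x⁻¹ := by rw [← h]
      _ = 1 := mul_inv_cancel x
  obtain ⟨g, hg⟩ := isConj_iff.mp hreal
  set C := Subgroup.centralizer ({x} : Set G) with hC
  set N := invNormalizer x with hN
  have hCN : C ≤ N := by
    intro c hc
    rw [hN, mem_invNormalizer]
    left
    exact (mem_centralizer_singleton x c).mp hc
  have hgN : g ∈ N := by
    rw [hN, mem_invNormalizer]; right; exact hg
  have hidx : (C.subgroupOf N).index = 2 := by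
    rw [Subgroup.index_eq_two_iff]
    refine ⟨⟨g, hgN⟩, ?_⟩
    rintro ⟨b, hb⟩
    rw [Subgroup.mem_subgroupOf, Subgroup.mem_subgroupOf]
    simp only [Subgroup.coe_mul]
    rw [hC, mem_centralizer_singleton, mem_centralizer_singleton]
    have e : b * g * x * (b * g)⁻¹ = b * (g * x * g⁻¹) * b⁻¹ := by group
    rw [e, hg]
    have e2 : b * x⁻¹ * b⁻¹ = (b * x * b⁻¹)⁻¹ := by group
    rw [e2]
    rcases (mem_invNormalizer x b).mp hb with h | h
    · right
      refine ⟨h, ?_⟩
      rw [h]; exact fun h' => hxx h'.symm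
    · left
      refine ⟨by rw [h, inv_inv], ?_⟩
      rw [h]; exact fun h' => hxx h'.symm
  have h2 : 2 ∣ C.index := by
    have : C.relIndex N ∣ C.index := Subgroup.relIndex_dvd_index_of_le hCN
    rw [Subgroup.relIndex, hidx] at this
    exact this
  have h3 : C.index ∣ (P : Subgroup G).index := Subgroup.index_dvd_of_le hP
  exact P.not_dvd_index (dvd_trans h2 h3)

end Cfsg.Agent.S4195
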