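import Mathlib
import Cfsg.Statements.S4196
import Cfsg.Agent.S4195

set_option autoImplicit false
open Cfsg

namespace Cfsg.Agent.S4196

/-- A finite group G has elementary abelian Sylow 2-subgroups (commutative with every element squaring to the identity) if and only if every 2-element of G has a Sylow 2-subgroup in its centralizer and is conjugate to its inverse. -/
theorem result {G : Type*} [Group G] [Finite G] (P : Sylow 2 G) :
    (IsMulCommutative (P : Subgroup G) ∧ ∀ x ∈ (P : Subgroup G), x ^ 2 = 1) ↔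
      ∀ x : G, (∃ k : ℕ, orderOf x = 2 ^ k) → (∃ Q : Sylow 2 G, (Q : Subgroup G) ≤ Subgroup.centralizer ({x} : Set G)) ∧ IsConj x x⁻¹ := by
  have : Fact (Nat.Prime 2) := ⟨Nat.prime_two⟩
  constructor
  · rintro ⟨hcomm, hexp⟩ x ⟨k, hk⟩
    -- x lies in a Sylow 2-subgroup Q
    have hpg : IsPGroup 2 (Subgroup.zpowers x) := by
      rw [IsPGroup.iff_card]
      exact ⟨k, by rw [Nat.card_zpowers, hk]⟩
    obtain ⟨Q, hQ⟩ := hpg.exists_le_sylow
    have hxQ : x ∈ (Q : Subgroup G) := hQ (Subgroup.mem_zpowers x)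
    obtain ⟨g, hg⟩ := MulAction.exists_smul_eq G P Q
    have hmem : ∀ y, y ∈ (Q : Subgroup G) → g⁻¹ * y * g ∈ (P : Subgroup G) := by
      intro y hy
      rw [← hg, Sylow.coe_subgroup_smul, Subgroup.mem_pointwise_smul_iff_inv_smul_mem] at hy
      simpa [MulAut.smul_def] using hy
    have hcommP : ∀ a ∈ (P : Subgroup G), ∀ b ∈ (P : Subgroup G), a * b = b * a := by
      intro a ha b hb
      have := hcomm.is_comm.comm (⟨a, ha⟩ : (P : Subgroup G)) ⟨b, hb⟩
      exact congrArg Subtype.val this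
    have hx2 : x ^ 2 = 1 := by
      have h1 := hexp _ (hmem x hxQ)
      have e : (g⁻¹ * x * g) ^ 2 = g⁻¹ * x ^ 2 * g := by
        rw [pow_two, pow_two]; group
      rw [e] at h1
      calc x ^ 2 = g * (g⁻¹ * x ^ 2 * g) * g⁻¹ := by group
        _ = 1 := by rw [h1]; group
    refine ⟨⟨Q, ?_⟩, ?_⟩
    · intro y hy
      rw [Subgroup.mem_centralizer_singleton_iff]
      have h1 := hcommP _ (hmem y hy) _ (hmem x hxQ)
      calc y * x = g * ((g⁻¹ * y * g) * (g⁻¹ * x * g)) * g⁻¹ := by group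
        _ = g * ((g⁻¹ * x * g) * (g⁻¹ * y * g)) * g⁻¹ := by rw [h1]
        _ = x * y := by group
    · have : x⁻¹ = x := by
        rw [inv_eq_iff_mul_eq_one, ← pow_two]; exact hx2
      rw [this]
  · intro h
    have hexp : ∀ x ∈ (P : Subgroup G), x ^ 2 = 1 := by
      intro x hx
      by_cases hx1 : x = 1
      · rw [hx1]; simp
      · have hk : ∃ k : ℕ, orderOf x = 2 ^ k := by
          have hP2 : IsPGroup 2 (P : Subgroup G) := P.isPGroup'
          obtain ⟨k, hk⟩ := (IsPGroup.iff_orderOf.mp hP2) ⟨x, hx⟩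
          exact ⟨k, by rw [← Subgroup.orderOf_coe] at hk; exact hk⟩
        obtain ⟨⟨Q, hQ⟩, hreal⟩ := h x hk
        have := Cfsg.Agent.S4195.result x hx1 Q hQ hreal
        rw [← this]; exact pow_orderOf_eq_one x
    refine ⟨⟨⟨?_⟩⟩, hexp⟩
    rintro ⟨a, ha⟩ ⟨b, hb⟩
    apply Subtype.ext
    show a * b = b * a
    have h1 := hexp a ha
    have h2 := hexp b hb
    have h3 := hexp (a * b) ((P : Subgroup G).mul_mem ha hb)
    rw [pow_two] at h1 h2 h3
    have e1 : a⁻¹ = a := inv_eq_of_mul_eq_one_right h1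
    have e2 : b⁻¹ = b := inv_eq_of_mul_eq_one_right h2
    have e3 : (a * b)⁻¹ = a * b := inv_eq_of_mul_eq_one_right h3
    calc a * b = (a * b)⁻¹ := e3.symm
      _ = b⁻¹ * a⁻¹ := mul_inv_rev a b
      _ = b * a := by rw [e1, e2]

end Cfsg.Agent.S4196
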