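import Cfsg.Statements.S4203
import Mathlib
import Cfsg.Agent.Helper24.Burnside

set_option autoImplicit false
set_option linter.style.haveILetI false
open Cfsg

namespace Cfsg.Agent.S4203

universe u

/-- A subgroup containing the normalizer of a Sylow `p`-subgroup has index `≡ 1 mod p`. -/
theorem index_modEq_one {G : Type*} [Group G] [Finite G] {p : ℕ} [Fact p.Prime] (P : Sylow p G)
    (M : Subgroup G) (hM : Subgroup.normalizer ((P : Subgroup G) : Set G) ≤ M) :
    M.index ≡ 1 [MOD p] := by
  have hPM : (P : Subgroup G) ≤ M := le_trans Subgroup.le_normalizer hM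
  have ha : (Subgroup.normalizer ((P : Subgroup G) : Set G)).index ≡ 1 [MOD p] := by
    have h0 := Sylow.card_eq_index_normalizer P
    have h1 := card_sylow_modEq_one p G
    rw [h0] at h1
    exact h1
  have hc : (Subgroup.normalizer ((P : Subgroup G) : Set G)).relIndex M ≡ 1 [MOD p] := by
    have h1 := Sylow.card_eq_index_normalizer (P.subtype hPM)
    have h2 : Subgroup.normalizer (((P.subtype hPM : Sylow p M) : Subgroup M) : Set M) =
        (Subgroup.normalizer ((P : Subgroup G) : Set G)).subgroupOf M := by
      rw [Sylow.coe_subtype]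
      exact (Subgroup.subgroupOf_normalizer_eq hPM).symm
    have h3 : Nat.card (Sylow p M) = ((Subgroup.normalizer ((P : Subgroup G) : Set G)).subgroupOf M).index := by
      rw [← h2]; exact h1
    rw [Subgroup.relIndex, ← h3]
    exact card_sylow_modEq_one p M
  have hmul := Subgroup.relIndex_mul_index hM
  have h3 : (Subgroup.normalizer ((P : Subgroup G) : Set G)).relIndex M * M.index ≡ 1 * M.index [MOD p] :=
    Nat.ModEq.mul_right _ hc
  rw [hmul, one_mul] at h3
  exact h3.symm.trans ha

theorem nt_key {p q i : ℕ} (hp : p.Prime) (hq : q.Prime) (hqp : q ≤ p)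
    (hi : i = q ∨ i = q ^ 2) (hmod : i ≡ 1 [MOD p]) : p = 3 := by
  have hp1 : 1 < p := hp.one_lt
  have hq1 : 1 < q := hq.one_lt
  have hne : q ≠ p := by
    rintro rfl
    have h0 : i ≡ 0 [MOD q] := by
      rcases hi with rfl | rfl
      · exact (Nat.modEq_zero_iff_dvd).mpr dvd_rfl
      · exact (Nat.modEq_zero_iff_dvd).mpr (dvd_pow_self q two_ne_zero)
    have h1 : (0 : ℕ) ≡ 1 [MOD q] := h0.symm.trans hmod
    have h2 : q ∣ 1 := by
      have := (Nat.modEq_iff_dvd' (by omega : (0 : ℕ) ≤ 1)).mp h1
      simpa using this
    exact hq.one_lt.ne' (Nat.dvd_one.mp h2)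
  have hlt : q < p := lt_of_le_of_ne hqp hne
  rcases hi with rfl | rfl
  · exfalso
    have h1 : i % p = 1 % p := hmod
    rw [Nat.mod_eq_of_lt hlt, Nat.mod_eq_of_lt hp1] at h1
    omega
  · have h1 : p ∣ q ^ 2 - 1 := (Nat.modEq_iff_dvd' (by nlinarith)).mp hmod.symm
    have h2 : q ^ 2 - 1 = (q - 1) * (q + 1) := by
      obtain ⟨k, rfl⟩ : ∃ k, q = k + 1 := ⟨q - 1, by omega⟩
      simp only [Nat.add_sub_cancel]
      ring_nf
      omega
    rw [h2] at h1
    rcases (Nat.Prime.dvd_mul hp).mp h1 with h3 | h3
    · exfalso
      have := Nat.le_of_dvd (by omega) h3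
      omega
    · have h4 := Nat.le_of_dvd (by omega) h3
      have h5 : p = q + 1 := by omega
      rcases Nat.Prime.eq_one_or_self_of_dvd hq 2 (by
        rcases Nat.even_or_odd q with he | ho
        · exact he.two_dvd
        · exfalso
          have hev : Even p := by rw [h5]; exact ho.add_one
          have : p = 2 := (Nat.Prime.even_iff hp).mp hev
          omega) with h6 | h6
      · omega
      · omega

theorem eq_two_pow_mul_three_pow : ∀ (n : ℕ), n ≠ 0 → (∀ r : ℕ, r.Prime → r ∣ n → r ≤ 3) →
    ∃ a b : ℕ, n = 2 ^ a * 3 ^ b := by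
  intro n
  induction n using Nat.strong_induction_on with
  | _ n ih =>
    intro hn h
    by_cases h1 : n = 1
    · exact ⟨0, 0, by simp [h1]⟩
    · obtain ⟨r, hr, hrn⟩ := Nat.exists_prime_and_dvd h1
      obtain ⟨k, rfl⟩ := hrn
      have hk0 : k ≠ 0 := by rintro rfl; simp at hn
      have hklt : k < r * k := by
        have := hr.one_lt
        nlinarith [Nat.pos_of_ne_zero hk0]
      obtain ⟨a, b, hab⟩ := ih k hklt hk0 (fun s hs hsk => h s hs (dvd_mul_of_dvd_right hsk r))
      have hr3 := h r hr (dvd_mul_right r k)
      have hr2 := hr.two_le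
      interval_cases r
      · exact ⟨a + 1, b, by rw [hab]; ring⟩
      · exact ⟨a, b + 1, by rw [hab]; ring⟩

/-- Coatoms of a quotient pull back to coatoms. -/
theorem isCoatom_comap_mk {G : Type*} [Group G] (N : Subgroup G) [N.Normal] (M : Subgroup (G ⧸ N))
    (hM : IsCoatom M) : IsCoatom (M.comap (QuotientGroup.mk' N)) := by
  have hsurj := QuotientGroup.mk'_surjective N
  constructor
  · intro h
    apply hM.1
    rw [← Subgroup.map_comap_eq_self_of_surjective hsurj M, h, ← MonoidHom.range_eq_map,
      MonoidHom.range_eq_top.mpr hsurj]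
  · intro K hK
    have hNK : N ≤ K := by
      refine le_trans ?_ hK.le
      intro x hx
      rw [Subgroup.mem_comap, QuotientGroup.mk'_apply, (QuotientGroup.eq_one_iff x).mpr hx]
      exact M.one_mem
    have h1 : M ≤ K.map (QuotientGroup.mk' N) := by
      rw [← Subgroup.map_comap_eq_self_of_surjective hsurj M]
      exact Subgroup.map_mono hK.le
    have h2 : M ≠ K.map (QuotientGroup.mk' N) := by
      intro h
      apply hK.ne
      apply le_antisymm hK.le
      rw [h]
      exact Subgroup.le_comap_map _ _
    have h3 := hM.2 _ (lt_of_le_of_ne h1 h2)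
    have h4 : K = (K.map (QuotientGroup.mk' N)).comap (QuotientGroup.mk' N) := by
      rw [QuotientGroup.comap_map_mk', sup_eq_right.mpr hNK]
    rw [h4, h3, Subgroup.comap_top]

theorem main : ∀ (n : ℕ) (G : Type u) [Group G] [Finite G], Nat.card G = n →
    (∀ M : Subgroup G, IsCoatom M → ∃ p : ℕ, p.Prime ∧ (M.index = p ∨ M.index = p ^ 2)) →
    Group.IsSolvable G := by
  intro n
  induction n using Nat.strong_induction_on with
  | _ n ih =>
    intro G _ _ hcard h
    by_cases h1 : n = 1
    · haveI : Subsingleton G := by
        rw [← Finite.card_le_one_iff_subsingleton, hcard, h1]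
      infer_instance
    -- the largest prime divisor
    have hn0 : n ≠ 0 := by rw [← hcard]; exact Nat.card_pos.ne'
    have hne : n.primeFactors.Nonempty := Nat.nonempty_primeFactors.mpr (by omega)
    set p := n.primeFactors.max' hne with hp
    have hpmem : p ∈ n.primeFactors := Finset.max'_mem _ hne
    have hpp : p.Prime := Nat.prime_of_mem_primeFactors hpmem
    have hpn : p ∣ n := Nat.dvd_of_mem_primeFactors hpmem
    have hpmax : ∀ r : ℕ, r.Prime → r ∣ n → r ≤ p := by
      intro r hr hrn
      exact Finset.le_max' _ r (Nat.mem_primeFactors.mpr ⟨hr, hrn, hn0⟩)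
    haveI : Fact p.Prime := ⟨hpp⟩
    obtain P : Sylow p G := default
    by_cases hPn : (P : Subgroup G).Normal
    · -- quotient
      haveI := hPn
      have hPcard : Nat.card (P : Subgroup G) ≠ 1 := by
        rw [Sylow.card_eq_multiplicity, hcard]
        intro h0
        have : n.factorization p = 0 := by
          by_contra hne0
          have : 1 < p ^ n.factorization p := Nat.one_lt_pow hne0 hpp.one_lt
          omega
        rw [Nat.factorization_eq_zero_iff] at this
        rcases this with h | h | h
        · exact h hpp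
        · exact h hpn
        · exact hn0 h
      have hlt : Nat.card (G ⧸ (P : Subgroup G)) < n := by
        rw [← hcard, ← Subgroup.index_eq_card, ← (P : Subgroup G).card_mul_index]
        have hidx : 0 < (P : Subgroup G).index := Nat.pos_of_ne_zero Subgroup.index_ne_zero_of_finite
        have : 1 < Nat.card (P : Subgroup G) := by
          have := Nat.card_pos (α := (P : Subgroup G))
          omega
        nlinarith
      haveI : Group.IsSolvable (G ⧸ (P : Subgroup G)) := by
        apply ih _ hlt (G ⧸ (P : Subgroup G)) rfl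
        intro M hM
        obtain ⟨q, hq, hqi⟩ := h _ (isCoatom_comap_mk (P : Subgroup G) M hM)
        rw [Subgroup.index_comap_of_surjective _ (QuotientGroup.mk'_surjective _)] at hqi
        exact ⟨q, hq, hqi⟩
      haveI : Group.IsSolvable (P : Subgroup G) := by
        haveI : Group.IsNilpotent (P : Subgroup G) := P.2.isNilpotent
        infer_instance
      refine Group.isSolvable_of_ker_le_range (P : Subgroup G).subtype
        (QuotientGroup.mk' (P : Subgroup G)) ?_
      rw [QuotientGroup.ker_mk', Subgroup.range_subtype]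
    · -- non-normal: normalizer is proper
      have hNtop : Subgroup.normalizer ((P : Subgroup G) : Set G) ≠ ⊤ := by
        intro htop
        exact hPn (Subgroup.normalizer_eq_top_iff.mp htop)
      obtain ⟨M, hMco, hNM⟩ := (eq_top_or_exists_le_coatom _).resolve_left hNtop
      obtain ⟨q, hq, hqi⟩ := h M hMco
      have hmod := index_modEq_one P M hNM
      have hqn : q ∣ n := by
        rw [← hcard]
        refine dvd_trans ?_ (Subgroup.index_dvd_card M)
        rcases hqi with h | h
        · rw [h]
        · rw [h]; exact dvd_pow_self q two_ne_zero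
      have hp3 : p = 3 := nt_key hpp hq (hpmax q hq hqn) hqi hmod
      obtain ⟨a, b, hab⟩ := eq_two_pow_mul_three_pow n hn0 (fun r hr hrn => hp3 ▸ hpmax r hr hrn)
      exact Cfsg.Agent.Helper24.isSolvable_of_card_eq_prime_pow_mul 2 3 a b Nat.prime_two
        Nat.prime_three (hcard.trans hab)


/-- A finite group in which every maximal subgroup has index a prime or the square of a prime is solvable. -/
theorem result {G : Type*} [Group G] [Finite G] (h : ∀ M : Subgroup G, IsCoatom M → ∃ p : ℕ, p.Prime ∧ (M.index = p ∨ M.index = p ^ 2)) : Group.IsSolvable G := by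
  exact main _ G rfl h

end Cfsg.Agent.S4203
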