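import Mathlib
import Cfsg.Statements.S4204
import Cfsg.Agent.Helper21.ThreeSubgroups

set_option autoImplicit false
open Cfsg

namespace Cfsg.Agent.S4204

universe u

theorem lcs_normal {G : Type u} [Group G] (H : Subgroup G) [hH : H.Normal] (n : ℕ) :
    (H.lowerCentralSeries n).Normal := by
  induction n with
  | zero => exact hH
  | succ n ih =>
    rw [Subgroup.lowerCentralSeries_succ]
    exact Subgroup.commutator_normal _ _

theorem comm_inf_sup_eq_bot {G : Type u} [Group G] (H K A B : Subgroup G)
    (hA : ⁅A, H⁆ = ⊥) (hB : ⁅B, K⁆ = ⊥) : ⁅A ⊓ B, H ⊔ K⁆ = ⊥ := by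
  rw [Subgroup.commutator_comm, Subgroup.commutator_eq_bot_iff_le_centralizer]
  apply sup_le
  · rw [← Subgroup.commutator_eq_bot_iff_le_centralizer, eq_bot_iff, ← hA, Subgroup.commutator_comm]
    exact Subgroup.commutator_mono inf_le_left le_rfl
  · rw [← Subgroup.commutator_eq_bot_iff_le_centralizer, eq_bot_iff, ← hB, Subgroup.commutator_comm]
    exact Subgroup.commutator_mono inf_le_right le_rfl

theorem main (N : ℕ) : ∀ (c d : ℕ), c + d = N → ∀ {G : Type u} [Group G] (H K : Subgroup G)
    [H.Normal] [K.Normal], H.lowerCentralSeries c = ⊥ → K.lowerCentralSeries d = ⊥ →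
    (H ⊔ K).lowerCentralSeries (c + d) = ⊥ := by
  induction N with
  | zero =>
    intro c d hcd G _ H K _ _ hH hK
    have hc : c = 0 := by omega
    have hd : d = 0 := by omega
    subst hc; subst hd
    rw [Subgroup.lowerCentralSeries_zero] at hH hK ⊢
    rw [hH, hK, sup_bot_eq]
  | succ N ih =>
    intro c d hcd G _ H K _ _ hH hK
    rcases Nat.eq_zero_or_pos c with hc | hc
    · subst hc
      rw [Subgroup.lowerCentralSeries_zero] at hH
      rw [hH, bot_sup_eq, zero_add]; exact hK
    rcases Nat.eq_zero_or_pos d with hd | hd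
    · subst hd
      rw [Subgroup.lowerCentralSeries_zero] at hK
      rw [hK, sup_bot_eq, add_zero]; exact hH
    obtain ⟨c', rfl⟩ := Nat.exists_eq_succ_of_ne_zero (Nat.pos_iff_ne_zero.mp hc)
    obtain ⟨d', rfl⟩ := Nat.exists_eq_succ_of_ne_zero (Nat.pos_iff_ne_zero.mp hd)
    -- step via A
    have stepA : (H ⊔ K).lowerCentralSeries (c' + (d' + 1)) ≤ H.lowerCentralSeries c' := by
      have hAn : (H.lowerCentralSeries c').Normal := lcs_normal H c'
      rw [Cfsg.Agent.Helper21.le_normal_iff_map_mk_eq_bot, Subgroup.map_lowerCentralSeries,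
        Subgroup.map_sup]
      have hs := QuotientGroup.mk'_surjective (H.lowerCentralSeries c')
      have h1 : (H.map (QuotientGroup.mk' (H.lowerCentralSeries c'))).Normal :=
        Subgroup.Normal.map inferInstance _ hs
      have h2 : (K.map (QuotientGroup.mk' (H.lowerCentralSeries c'))).Normal :=
        Subgroup.Normal.map inferInstance _ hs
      apply ih c' (d' + 1) (by omega)
      · rw [← Subgroup.map_lowerCentralSeries, ← Cfsg.Agent.Helper21.le_normal_iff_map_mk_eq_bot]
      · rw [← Subgroup.map_lowerCentralSeries, hK, Subgroup.map_bot]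
    have stepB : (H ⊔ K).lowerCentralSeries ((c' + 1) + d') ≤ K.lowerCentralSeries d' := by
      have hBn : (K.lowerCentralSeries d').Normal := lcs_normal K d'
      rw [Cfsg.Agent.Helper21.le_normal_iff_map_mk_eq_bot, Subgroup.map_lowerCentralSeries,
        Subgroup.map_sup]
      have hs := QuotientGroup.mk'_surjective (K.lowerCentralSeries d')
      have h1 : (H.map (QuotientGroup.mk' (K.lowerCentralSeries d'))).Normal :=
        Subgroup.Normal.map inferInstance _ hs
      have h2 : (K.map (QuotientGroup.mk' (K.lowerCentralSeries d'))).Normal :=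
        Subgroup.Normal.map inferInstance _ hs
      apply ih (c' + 1) d' (by omega)
      · rw [← Subgroup.map_lowerCentralSeries, hH, Subgroup.map_bot]
      · rw [← Subgroup.map_lowerCentralSeries, ← Cfsg.Agent.Helper21.le_normal_iff_map_mk_eq_bot]
    have e1 : c' + 1 + (d' + 1) = (c' + (d' + 1)) + 1 := by omega
    have e2 : (c' + 1) + d' = c' + (d' + 1) := by omega
    rw [e2] at stepB
    rw [e1, Subgroup.lowerCentralSeries_succ, eq_bot_iff]
    calc ⁅(H ⊔ K).lowerCentralSeries (c' + (d' + 1)), H ⊔ K⁆
        ≤ ⁅H.lowerCentralSeries c' ⊓ K.lowerCentralSeries d', H ⊔ K⁆ :=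
          Subgroup.commutator_mono (le_inf stepA stepB) le_rfl
      _ = ⊥ := comm_inf_sup_eq_bot H K _ _ hH hK

/-- The product of two normal nilpotent subgroups of classes c and d is nilpotent of class at most c + d. -/
theorem result {G : Type*} [Group G] [Finite G] (H K : Subgroup G) [H.Normal] [K.Normal] (c d : ℕ) (hH : H.lowerCentralSeries c = ⊥) (hK : K.lowerCentralSeries d = ⊥) : (H ⊔ K).lowerCentralSeries (c + d) = ⊥ :=
  main (c + d) c d rfl H K hH hK

end Cfsg.Agent.S4204
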