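import Mathlib
import Cfsg.Statements.S4205

set_option autoImplicit false
open Cfsg

namespace Cfsg.Agent.S4205

open scoped commutatorElement in
theorem ucs_le_iter {G : Type*} [Group G] (H : Subgroup G) (i : ℕ) :
    Subgroup.upperCentralSeries G i ≤ (fun K : Subgroup G => Subgroup.normalizer (K : Set G))^[i] H := by
  induction i with
  | zero => simp [Subgroup.upperCentralSeries_zero]
  | succ i ih =>
    rw [Function.iterate_succ_apply']
    set K := (fun K : Subgroup G => Subgroup.normalizer (K : Set G))^[i] H with hK
    have key : ∀ z ∈ Subgroup.upperCentralSeries G (i + 1), ∀ k ∈ K, z * k * z⁻¹ ∈ K := by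
      intro z hz k hk
      have h1 : ⁅z, k⁆ ∈ Subgroup.upperCentralSeries G i :=
        Subgroup.mem_upperCentralSeries_succ_iff.mp hz k
      have h2 : ⁅z, k⁆ ∈ K := ih h1
      have h3 : z * k * z⁻¹ = ⁅z, k⁆ * k := by
        rw [commutatorElement_def]; group
      rw [h3]
      exact K.mul_mem h2 hk
    intro z hz
    show z ∈ Subgroup.normalizer (K : Set G)
    rw [Subgroup.mem_normalizer_iff]
    intro k
    constructor
    · exact key z hz k
    · intro hk
      have hz' := (Subgroup.upperCentralSeries G (i + 1)).inv_mem hz
      have := key z⁻¹ hz' _ hk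
      have e : z⁻¹ * (z * k * z⁻¹) * z⁻¹⁻¹ = k := by group
      rw [e] at this
      exact this

/-- In a finite group whose upper central series reaches the whole group at step `c` (nilpotent of class at most `c`), starting from any subgroup and taking normalizers `c` times reaches the whole group. -/
theorem result {G : Type*} [Group G] [Finite G] (c : ℕ) (hG : Subgroup.upperCentralSeries G c = ⊤) (H : Subgroup G) : (fun K : Subgroup G => Subgroup.normalizer (K : Set G))^[c] H = ⊤ := by
  apply top_unique
  rw [← hG]
  exact ucs_le_iter H c

end Cfsg.Agent.S4205
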