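import Cfsg.Statements.S4208
import Mathlib
import Cfsg.Agent.S4207
import Cfsg.Agent.Helper1.PGroup

set_option autoImplicit false
set_option linter.style.haveILetI false
open Cfsg
open scoped commutatorElement

namespace Cfsg.Agent.S4208

theorem card_aut_dvd {Q : Type*} [CommGroup Q] [Finite Q] {p r : ℕ} [hp : Fact p.Prime]
    (hexp : ∀ x : Q, x ^ p = 1) (hcard : Nat.card Q = p ^ r) :
    Nat.card (MulAut Q) ∣ ∏ i ∈ Finset.range r, (p ^ r - p ^ i) := by
  classical
  have : Module (ZMod p) (Additive Q) := AddCommGroup.zmodModule (fun x => by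
    change Additive.ofMul (x.toMul ^ p) = 0
    rw [hexp]; rfl)
  haveI : Fintype (Additive Q) := Fintype.ofFinite _
  have hfr : Module.finrank (ZMod p) (Additive Q) = r := by
    have h1 := Module.card_eq_pow_finrank (K := ZMod p) (V := Additive Q)
    rw [ZMod.card, ← Nat.card_eq_fintype_card] at h1
    have h2 : Nat.card (Additive Q) = p ^ r := hcard
    rw [h2] at h1
    exact (Nat.pow_right_injective hp.out.two_le h1).symm
  -- linear map of an automorphism
  let L : MulAut Q → (Additive Q →ₗ[ZMod p] Additive Q) := fun α =>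
    (MulEquiv.toAdditive α).toAddMonoidHom.toZModLinearMap p
  have hL : ∀ (α : MulAut Q) (v : Additive Q), L α v = Additive.ofMul (α v.toMul) := fun _ _ => rfl
  have hLker : ∀ α : MulAut Q, LinearMap.ker (L α) = ⊥ := by
    intro α
    rw [LinearMap.ker_eq_bot]
    intro v w hvw
    rw [hL, hL] at hvw
    have := α.injective (Additive.ofMul.injective hvw)
    exact Additive.toMul.injective this
  let Ω := {s : Fin r → Additive Q // LinearIndependent (ZMod p) s}
  letI act : MulAction (MulAut Q) Ω :=
    { smul := fun α s => ⟨fun i => L α (s.1 i), s.2.map' (L α) (hLker α)⟩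
      one_smul := fun s => by apply Subtype.ext; funext i; rfl
      mul_smul := fun α β s => by apply Subtype.ext; funext i; rfl }
  have hsmul : ∀ (α : MulAut Q) (s : Ω) (i : Fin r), (α • s).1 i = L α (s.1 i) := fun _ _ _ => rfl
  have hfree : ∀ s : Ω, MulAction.stabilizer (MulAut Q) s = ⊥ := by
    intro s
    rw [Subgroup.eq_bot_iff_forall]
    intro α hα
    rw [MulAction.mem_stabilizer_iff] at hα
    have hspan : Submodule.span (ZMod p) (Set.range s.1) = ⊤ :=
      s.2.span_eq_top_of_card_eq_finrank' (by rw [Fintype.card_fin, hfr])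
    have h1 : L α = LinearMap.id := by
      apply LinearMap.ext_on hspan
      rintro _ ⟨i, rfl⟩
      have := congrArg (fun u : Ω => u.1 i) hα
      simp only [hsmul] at this
      exact this
    apply MulEquiv.ext
    intro x
    have := congrArg (fun f : Additive Q →ₗ[ZMod p] Additive Q => f (Additive.ofMul x)) h1
    simp only [hL] at this
    exact Additive.ofMul.injective this
  have hdvd : Nat.card (MulAut Q) ∣ Nat.card Ω := Cfsg.Agent.S4207.card_dvd_of_free hfree
  have hΩ : Nat.card Ω = ∏ i ∈ Finset.range r, (p ^ r - p ^ i) := by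
    have := card_linearIndependent (K := ZMod p) (V := Additive Q) (k := r) (by rw [hfr])
    rw [this, hfr, ZMod.card]
    exact Fin.prod_univ_eq_prod_range (fun i => p ^ r - p ^ i) r
  rwa [hΩ] at hdvd


/-- Let `P` be a group of order `p^n` whose Frattini subgroup has index `p^r`. Then the order of the automorphism group of `P` divides `p^(r(n-r)) · (p^r - 1)(p^r - p) ⋯ (p^r - p^(r-1))`. -/
theorem result {P : Type*} [Group P] [Finite P] {p n r : ℕ} [Fact p.Prime] (hP : Nat.card P = p ^ n) (hr : (frattini P).index = p ^ r) : Nat.card (MulAut P) ∣ p ^ (r * (n - r)) * ∏ i ∈ Finset.range r, (p ^ r - p ^ i) := by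
  classical
  have hp : p.Prime := Fact.out
  have hPG : IsPGroup p P := IsPGroup.of_card hP
  set Φ := frattini P with hΦ
  have hchar : ∀ α : MulAut P, Φ.map (α : P ≃* P).toMonoidHom = Φ :=
    Subgroup.characteristic_iff_map_eq.mp frattini_characteristic
  -- the induced hom
  let ρ : MulAut P →* MulAut (P ⧸ Φ) :=
    { toFun := fun α => QuotientGroup.congr Φ Φ α (hchar α)
      map_one' := by
        apply MulEquiv.ext
        intro x
        induction x using QuotientGroup.induction_on with
        | H x => rfl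
      map_mul' := fun α β => by
        apply MulEquiv.ext
        intro x
        induction x using QuotientGroup.induction_on with
        | H x => rfl }
  have hρ : ∀ (α : MulAut P) (x : P), ρ α (x : P ⧸ Φ) = ((α x : P) : P ⧸ Φ) := fun _ _ => rfl
  -- kernel
  have hker : ∀ α ∈ ρ.ker, ∀ x : P, α x * x⁻¹ ∈ frattini P := by
    intro α hα x
    rw [MonoidHom.mem_ker] at hα
    have h1 : ρ α (x : P ⧸ Φ) = (x : P ⧸ Φ) := by rw [hα]; rfl
    rw [hρ, QuotientGroup.eq] at h1
    have h2 : α x * x⁻¹ = (α x) * ((α x)⁻¹ * x)⁻¹ * (α x)⁻¹ := by group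
    rw [h2]
    exact (inferInstance : Φ.Normal).conj_mem _ (Φ.inv_mem h1) _
  have hkerdvd : Nat.card ρ.ker ∣ p ^ (r * (n - r)) := Cfsg.Agent.S4207.result hP hr ρ.ker hker
  -- the quotient is elementary abelian
  have hcommQ : ∀ x y : P ⧸ Φ, x * y = y * x := by
    intro x y
    induction x using QuotientGroup.induction_on with
    | H x =>
    induction y using QuotientGroup.induction_on with
    | H y =>
    rw [← QuotientGroup.mk_mul, ← QuotientGroup.mk_mul, QuotientGroup.eq]
    have h1 : (x * y)⁻¹ * (y * x) = ⁅y⁻¹, x⁻¹⁆ := by rw [commutatorElement_def]; group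
    rw [h1]
    exact Cfsg.Agent.Helper1.IsPGroup.commutator_le_frattini hPG
      (Subgroup.commutator_mem_commutator (Subgroup.mem_top _) (Subgroup.mem_top _))
  have hexpQ : ∀ x : P ⧸ Φ, x ^ p = 1 := by
    intro x
    induction x using QuotientGroup.induction_on with
    | H x =>
    rw [← QuotientGroup.mk_pow, QuotientGroup.eq_one_iff]
    exact Cfsg.Agent.Helper1.IsPGroup.pow_mem_frattini hPG x
  have hcardQ : Nat.card (P ⧸ Φ) = p ^ r := by rw [← hr]; exact (Subgroup.index_eq_card Φ).symm
  letI : CommGroup (P ⧸ Φ) := { (inferInstance : Group (P ⧸ Φ)) with mul_comm := hcommQ }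
  have hQdvd : Nat.card (MulAut (P ⧸ Φ)) ∣ ∏ i ∈ Finset.range r, (p ^ r - p ^ i) :=
    card_aut_dvd hexpQ hcardQ
  have hrange : Nat.card ρ.range ∣ Nat.card (MulAut (P ⧸ Φ)) := Subgroup.card_subgroup_dvd_card _
  have hsplit : Nat.card (MulAut P) = Nat.card ρ.ker * Nat.card ρ.range := by
    rw [← Subgroup.index_ker, Subgroup.card_mul_index]
  rw [hsplit]
  exact Nat.mul_dvd_mul hkerdvd (dvd_trans hrange hQdvd)

end Cfsg.Agent.S4208
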