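import Cfsg.Statements.S4212
import Cfsg.Agent.Helper21.FrobGen

set_option autoImplicit false
open Cfsg

namespace Cfsg.Agent.S4212

set_option linter.style.haveILetI false

theorem card_class_mul {G : Type*} [Group G] [Finite G] (c : G) :
    Nat.card {y : G // IsConj c y} * Nat.card (Subgroup.centralizer ({c} : Set G)) =
      Nat.card G := by
  have h1 : Nat.card (MulAction.orbit (ConjAct G) c) *
      Nat.card (MulAction.stabilizer (ConjAct G) c) = Nat.card (ConjAct G) := by
    rw [← Nat.card_prod, Nat.card_congr (MulAction.orbitProdStabilizerEquivGroup (ConjAct G) c)]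
  have h2 : Nat.card (MulAction.orbit (ConjAct G) c) = Nat.card {y : G // IsConj c y} := by
    apply Nat.card_congr
    apply Equiv.subtypeEquivRight
    intro y
    rw [ConjAct.mem_orbit_conjAct, isConj_comm]
  have h3 : Nat.card (ConjAct G) = Nat.card G := rfl
  rw [← h2, Subgroup.nat_card_centralizer_nat_card_stabilizer, h1, h3]

theorem card_pow_mem_class {G : Type*} [Group G] [Finite G] (c : G) (n : ℕ) :
    Nat.card {x : G // IsConj c (x ^ n)} =
      Nat.card {y : G // IsConj c y} * Nat.card {x : G // x ^ n = c} := by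
  classical
  haveI : Fintype {y : G // IsConj c y} := Fintype.ofFinite _
  have e : {x : G // IsConj c (x ^ n)} ≃ Σ y : {y : G // IsConj c y}, {x : G // x ^ n = y.1} :=
    { toFun := fun x => ⟨⟨x.1 ^ n, x.2⟩, ⟨x.1, rfl⟩⟩
      invFun := fun q => ⟨q.2.1, by rw [q.2.2]; exact q.1.2⟩
      left_inv := fun x => rfl
      right_inv := by
        rintro ⟨⟨y, hy⟩, ⟨x, hx⟩⟩
        have hx' : x ^ n = y := hx
        refine Sigma.ext (Subtype.ext hx') ?_
        show HEq (⟨x, rfl⟩ : {z : G // z ^ n = x ^ n}) (⟨x, hx'⟩ : {z : G // z ^ n = y})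
        exact (Subtype.heq_iff_coe_eq (fun z => by rw [hx'])).mpr rfl }
  rw [Nat.card_congr e, Nat.card_sigma]
  have : ∀ y : {y : G // IsConj c y}, Nat.card {x : G // x ^ n = y.1} =
      Nat.card {x : G // x ^ n = c} := by
    rintro ⟨y, hy⟩
    obtain ⟨g, hg⟩ := isConj_iff.mp hy
    show Nat.card {x : G // x ^ n = y} = _
    rw [← hg]
    exact Cfsg.Agent.Helper21.FrobGen.card_conj n g c
  rw [Finset.sum_congr rfl (fun y _ => this y), Finset.sum_const, Finset.card_univ, smul_eq_mul,
    ← Nat.card_eq_fintype_card]

/-- Let `G` be a finite group of order `g`, `c` an element whose conjugacy class has `h` elements, and `n` a natural number. Then the number of elements `x` of `G` with `x^n` conjugate to `c` is a multiple of `gcd(hn, g)`. -/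
theorem result {G : Type*} [Group G] [Finite G] (c : G) (n : ℕ) : Nat.gcd (Nat.card {y : G // IsConj c y} * n) (Nat.card G) ∣ Nat.card {x : G // IsConj c (x ^ n)} := by
  rcases Nat.eq_zero_or_pos n with hn | hn
  · subst hn
    rw [mul_zero, Nat.gcd_zero_left]
    by_cases hc : c = 1
    · subst hc
      have : Nat.card {x : G // IsConj (1 : G) (x ^ 0)} = Nat.card G := by
        apply Nat.card_congr
        refine Equiv.subtypeUnivEquiv ?_
        intro x
        rw [pow_zero]
      rw [this]
    · haveI : IsEmpty {x : G // IsConj c (x ^ 0)} := by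
        constructor
        rintro ⟨x, hx⟩
        rw [pow_zero, isConj_comm, isConj_one_right] at hx
        exact hc hx
      have h0 : Nat.card {x : G // IsConj c (x ^ 0)} = 0 := Nat.card_of_isEmpty
      rw [h0]
      exact dvd_zero _
  · rw [card_pow_mem_class c n]
    have h1 := card_class_mul c
    have h2 := Cfsg.Agent.Helper21.FrobGen.gcd_dvd_card_root n hn c
    rw [← h1, Nat.gcd_mul_left]
    exact Nat.mul_dvd_mul_left _ h2

end Cfsg.Agent.S4212
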