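import Cfsg.Statements.S4213
import Cfsg.Agent.Helper1.MinNormal
import Cfsg.Agent.Helper20.FrobF
import Cfsg.Agent.Helper21.PiClasses

set_option autoImplicit false
open Cfsg

namespace Cfsg.Agent.S4213

set_option linter.style.haveILetI false

universe u

/-- a finite subset closed under conjugation that is the carrier of a subgroup is normal -/
theorem normal_of_carrier {G : Type*} [Group G] (H : Subgroup G) (n : ℕ)
    (h : (H : Set G) = {x : G | x ^ n = 1}) : H.Normal := by
  refine ⟨fun x hx g => ?_⟩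
  have hx' : x ∈ (H : Set G) := hx
  rw [h] at hx'
  have : g * x * g⁻¹ ∈ (H : Set G) := by
    rw [h]
    show (g * x * g⁻¹) ^ n = 1
    rw [conj_pow, hx', mul_one, mul_inv_cancel]
  exact this

theorem aux : ∀ (g : ℕ) (G : Type u) [Group G] [Finite G] [Group.IsSolvable G], Nat.card G = g →
    ∀ n : ℕ, n ∣ g → Nat.card {x : G // x ^ n = 1} = n →
    ∃ H : Subgroup G, H.Normal ∧ (H : Set G) = {x : G | x ^ n = 1} := by
  intro g
  induction g using Nat.strong_induction_on with
  | _ g ih =>
  intro G _ _ _ hg n hn hcount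
  classical
  by_cases hsub : Subsingleton G
  · refine ⟨⊤, inferInstance, ?_⟩
    ext x
    simp only [Subgroup.coe_top, Set.mem_univ, Set.mem_ofPred_eq, true_iff]
    rw [Subsingleton.elim x 1, one_pow]
  haveI hnt : Nontrivial G := not_subsingleton_iff_nontrivial.mp hsub
  obtain ⟨p, K, hp, hKn, hKne, hKp, -, hKexp⟩ :=
    Cfsg.Agent.Helper1.exists_normal_pgroup_of_solvable (G := G)
  haveI := hKn
  haveI : Fact p.Prime := ⟨hp⟩
  obtain ⟨i, hi⟩ := hKp.exists_card_eq
  have hi1 : 1 ≤ i := by
    rcases Nat.eq_zero_or_pos i with h0 | h0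
    · exfalso; rw [h0, pow_zero] at hi
      exact hKne (Subgroup.card_eq_one.mp hi)
    · exact h0
  have hcardG : Nat.card (G ⧸ K) * p ^ i = g := by
    rw [← hi, ← hg]; exact (Subgroup.card_eq_card_quotient_mul_card_subgroup K).symm
  have hg0 : 0 < g := hg ▸ Nat.card_pos
  have hn0 : 0 < n := Nat.pos_of_dvd_of_pos hn hg0
  have hpi : 1 < p ^ i := Nat.one_lt_pow (by omega) hp.one_lt
  have hQlt : Nat.card (G ⧸ K) < g := by
    have hQpos : 0 < Nat.card (G ⧸ K) := Nat.card_pos
    calc Nat.card (G ⧸ K) = Nat.card (G ⧸ K) * 1 := (mul_one _).symm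
      _ < Nat.card (G ⧸ K) * p ^ i := Nat.mul_lt_mul_of_pos_left hpi hQpos
      _ = g := hcardG
  have hLn : Nat.card {x : G // x ^ n = 1} = ({x : G | x ^ n = 1} : Set G).ncard :=
    (Nat.card_coe_set_eq _)
  have hQpos : 0 < Nat.card (G ⧸ K) := Nat.card_pos
  by_cases hpn : p ∣ n
  · -- case p ∣ n
    set d := Nat.gcd n (p ^ i) with hd
    have hd0 : 0 < d := Nat.gcd_pos_of_pos_left _ hn0
    set nbar := n / d with hnbar
    have hn_eq : n = d * nbar := (Nat.mul_div_cancel' (Nat.gcd_dvd_left n (p ^ i))).symm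
    have hnbar0 : 0 < nbar := by
      rcases Nat.eq_zero_or_pos nbar with h | h
      · rw [h, mul_zero] at hn_eq; omega
      · exact h
    have hpd : p ∣ d := Nat.dvd_gcd hpn (dvd_pow_self p (by omega))
    have hnbar_dvd : nbar ∣ Nat.card (G ⧸ K) := by
      have hcop : Nat.Coprime nbar (p ^ i / d) := Nat.coprime_div_gcd_div_gcd hd0
      have hpim : p ^ i = d * (p ^ i / d) :=
        (Nat.mul_div_cancel' (Nat.gcd_dvd_right n (p ^ i))).symm
      have h1 : d * nbar ∣ d * (Nat.card (G ⧸ K) * (p ^ i / d)) := by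
        rw [← hn_eq]
        have : d * (Nat.card (G ⧸ K) * (p ^ i / d)) = Nat.card (G ⧸ K) * p ^ i := by
          rw [hpim]
          have : d * (p ^ i / d) / d = p ^ i / d := by
            rw [Nat.mul_div_cancel_left _ hd0]
          rw [this]; ring
        rw [this, hcardG]; exact hn
      have h2 : nbar ∣ Nat.card (G ⧸ K) * (p ^ i / d) := Nat.dvd_of_mul_dvd_mul_left hd0 h1
      exact hcop.dvd_of_dvd_mul_right h2
    set T : Set (G ⧸ K) := {y | y ^ nbar = 1} with hT
    have hfrob : nbar ∣ Nat.card {y : G ⧸ K // y ^ nbar = 1} :=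
      Cfsg.Agent.Helper20.frobenius_dvd nbar hnbar_dvd
    have hTcard : Nat.card {y : G ⧸ K // y ^ nbar = 1} = T.ncard := Nat.card_coe_set_eq _
    have hTpos : 0 < T.ncard := by
      rw [Set.ncard_pos (Set.toFinite T)]
      exact ⟨1, by simp [hT]⟩
    have hTge : nbar ≤ T.ncard := Nat.le_of_dvd hTpos (hTcard ▸ hfrob)
    have hsub : (QuotientGroup.mk ⁻¹' T : Set G) ⊆ {x : G | x ^ n = 1} := by
      intro x hx
      have hx' : ((x : G ⧸ K)) ^ nbar = 1 := hx
      have hxK : x ^ nbar ∈ K := by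
        rw [← QuotientGroup.eq_one_iff, QuotientGroup.mk_pow]; exact hx'
      have h1 : (x ^ nbar) ^ p = 1 := hKexp _ hxK
      obtain ⟨c, hc⟩ := hpd
      show x ^ n = 1
      have hn2 : n = nbar * p * c := by rw [hn_eq, hc]; ring
      rw [hn2, pow_mul, pow_mul, h1, one_pow]
    have hpre : (QuotientGroup.mk ⁻¹' T : Set G).ncard = p ^ i * T.ncard := by
      rw [← Nat.card_coe_set_eq, QuotientGroup.card_preimage_mk, hi, Nat.card_coe_set_eq]
    have hle : p ^ i * T.ncard ≤ n := by
      rw [← hpre, ← hcount, hLn]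
      exact Set.ncard_le_ncard hsub (Set.toFinite _)
    -- d = p ^ i
    have hdpi : d = p ^ i := by
      apply Nat.le_antisymm (Nat.le_of_dvd (pow_pos hp.pos i) (Nat.gcd_dvd_right n (p ^ i)))
      have h1 : p ^ i * nbar ≤ d * nbar :=
        le_trans (Nat.mul_le_mul_left _ hTge) (hn_eq ▸ hle)
      exact Nat.le_of_mul_le_mul_right h1 hnbar0
    have hTeq : T.ncard = nbar := by
      apply Nat.le_antisymm _ hTge
      have h1 : p ^ i * T.ncard ≤ p ^ i * nbar := by
        calc p ^ i * T.ncard ≤ n := hle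
          _ = d * nbar := hn_eq
          _ = p ^ i * nbar := by rw [hdpi]
      exact Nat.le_of_mul_le_mul_left h1 (pow_pos hp.pos i)
    obtain ⟨Hbar, hHn, hHc⟩ := ih (Nat.card (G ⧸ K)) hQlt (G ⧸ K) rfl nbar hnbar_dvd
      (hTcard.trans hTeq)
    haveI := hHn
    refine ⟨Hbar.comap (QuotientGroup.mk' K), inferInstance, ?_⟩
    have hcoe : ((Hbar.comap (QuotientGroup.mk' K) : Subgroup G) : Set G) =
        QuotientGroup.mk ⁻¹' T := by
      ext x
      simp only [Subgroup.coe_comap, Set.mem_preimage, QuotientGroup.mk'_apply, SetLike.mem_coe]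
      rw [← SetLike.mem_coe, hHc]
    rw [hcoe]
    apply Set.eq_of_subset_of_ncard_le hsub _ (Set.toFinite _)
    rw [hpre, hTeq, ← hdpi, ← hn_eq, ← hLn, hcount]
  · -- case p ∤ n
    have hcop : Nat.Coprime n p := ((Nat.Prime.coprime_iff_not_dvd hp).mpr hpn).symm
    have hn_dvd : n ∣ Nat.card (G ⧸ K) := by
      have : n ∣ Nat.card (G ⧸ K) * p ^ i := hcardG ▸ hn
      exact (Nat.Coprime.pow_right i hcop).dvd_of_dvd_mul_right this
    have hfrob : n ∣ Nat.card {y : G ⧸ K // y ^ n = 1} :=
      Cfsg.Agent.Helper20.frobenius_dvd n hn_dvd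
    have hTpos : 0 < Nat.card {y : G ⧸ K // y ^ n = 1} := by
      haveI : Nonempty {y : G ⧸ K // y ^ n = 1} := ⟨⟨1, one_pow n⟩⟩
      exact Nat.card_pos
    have hTge : n ≤ Nat.card {y : G ⧸ K // y ^ n = 1} := Nat.le_of_dvd hTpos hfrob
    -- the surjection
    have hsurj : Function.Surjective
        (fun x : {x : G // x ^ n = 1} => (⟨(x.1 : G ⧸ K), by
          rw [← QuotientGroup.mk_pow, x.2]; rfl⟩ : {y : G ⧸ K // y ^ n = 1})) := by
      rintro ⟨y, hy⟩
      obtain ⟨x, rfl⟩ := QuotientGroup.mk_surjective y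
      obtain ⟨s, t, hst, hs, ht, hsπ, htπ, -⟩ :=
        Cfsg.Agent.Helper21.PiClasses.exists_decomp ({p} : Set ℕ) x
      -- s maps to 1
      have hsK : s ∈ K := by
        rw [← QuotientGroup.eq_one_iff]
        obtain ⟨e, he⟩ := hs
        have h1 : ((s : G ⧸ K)) ^ n = 1 := by
          rw [← he, QuotientGroup.mk_zpow, ← zpow_natCast, ← zpow_mul, mul_comm, zpow_mul,
            zpow_natCast, hy, one_zpow]
        have h2 : orderOf (s : G ⧸ K) ∣ n := orderOf_dvd_of_pow_eq_one h1
        have h3 : orderOf (s : G ⧸ K) ∣ orderOf s :=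
          orderOf_map_dvd (QuotientGroup.mk' K) s
        rw [← orderOf_eq_one_iff]
        by_contra hne
        obtain ⟨q, hq, hqd⟩ := Nat.exists_prime_and_dvd hne
        have hqp : q = p := hsπ q hq (dvd_trans hqd h3)
        exact hpn (hqp ▸ dvd_trans hqd h2)
      have htx : ((t : G ⧸ K)) = (x : G ⧸ K) := by
        rw [← hst, QuotientGroup.mk_mul, (QuotientGroup.eq_one_iff s).mpr hsK, one_mul]
      have htn : t ^ n = 1 := by
        have h1 : t ^ n ∈ K := by
          rw [← QuotientGroup.eq_one_iff, QuotientGroup.mk_pow, htx]; exact hy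
        rw [← orderOf_eq_one_iff]
        by_contra hne
        obtain ⟨q, hq, hqd⟩ := Nat.exists_prime_and_dvd hne
        have h2 : orderOf (t ^ n) ∣ orderOf t := orderOf_pow_dvd n
        have hqnp : q ∉ ({p} : Set ℕ) := htπ q hq (dvd_trans hqd h2)
        obtain ⟨k, hk⟩ := hKp ⟨t ^ n, h1⟩
        have hk' : (t ^ n) ^ p ^ k = 1 := by
          have := congrArg Subtype.val hk
          simpa using this
        have h3 : q ∣ p ^ k := dvd_trans hqd (orderOf_dvd_of_pow_eq_one hk')
        have h4 : q = p := (Nat.prime_dvd_prime_iff_eq hq hp).mp (hq.dvd_of_dvd_pow h3)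
        exact hqnp h4
      exact ⟨⟨t, htn⟩, Subtype.ext htx⟩
    have hTle : Nat.card {y : G ⧸ K // y ^ n = 1} ≤ n := by
      exact le_trans (Nat.card_le_card_of_surjective _ hsurj) (le_of_eq hcount)
    have hTeq : Nat.card {y : G ⧸ K // y ^ n = 1} = n := Nat.le_antisymm hTle hTge
    obtain ⟨Hbar, hHn, hHc⟩ := ih (Nat.card (G ⧸ K)) hQlt (G ⧸ K) rfl n hn_dvd hTeq
    haveI := hHn
    set M := Hbar.comap (QuotientGroup.mk' K) with hM
    have hKM : K ≤ M := by
      intro k hk
      rw [hM, Subgroup.mem_comap, QuotientGroup.mk'_apply, (QuotientGroup.eq_one_iff k).mpr hk]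
      exact one_mem _
    have hHbarcard : Nat.card Hbar = n := by
      have : Nat.card Hbar = Nat.card ((Hbar : Set (G ⧸ K))) := rfl
      rw [this, hHc]; exact hTeq
    have hMcard : Nat.card M = p ^ i * n := by
      have h1 := QuotientGroup.card_preimage_mk K (Hbar : Set (G ⧸ K))
      rw [hi] at h1
      have h2 : Nat.card ((Hbar : Set (G ⧸ K))) = n := hHbarcard
      rw [h2] at h1
      exact h1
    set K' := K.subgroupOf M with hK'
    haveI : K'.Normal := Subgroup.normal_subgroupOf
    have hK'card : Nat.card K' = p ^ i := by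
      rw [← hi]; exact Nat.card_congr (Subgroup.subgroupOfEquivOfLe hKM).toEquiv
    have hK'idx : K'.index = n := by
      have := K'.card_mul_index
      rw [hK'card, hMcard] at this
      exact Nat.eq_of_mul_eq_mul_left (pow_pos hp.pos i) this
    have hcop' : Nat.Coprime (Nat.card K') K'.index := by
      rw [hK'card, hK'idx]; exact (Nat.Coprime.pow_right i hcop).symm
    obtain ⟨Q', hQ'⟩ := Subgroup.exists_right_complement'_of_coprime hcop'
    have hQ'card : Nat.card Q' = n := by
      rw [← hK'idx]; exact hQ'.symm.index_eq_card.symm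
    set Q := Q'.map M.subtype with hQ
    have hQcard : Nat.card Q = n := by
      rw [hQ, Subgroup.card_map_of_injective M.subtype_injective, hQ'card]
    have hQsub : (Q : Set G) ⊆ {x : G | x ^ n = 1} := by
      rintro x ⟨q, hq, rfl⟩
      have h1 : (⟨q, hq⟩ : Q') ^ Nat.card Q' = 1 := pow_card_eq_one'
      rw [hQ'card] at h1
      have h2 : (q : M) ^ n = 1 := by
        have := congrArg Subtype.val h1
        simpa using this
      show ((M.subtype q : G)) ^ n = 1
      rw [← map_pow, h2, map_one]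
    have hQeq : (Q : Set G) = {x : G | x ^ n = 1} := by
      apply Set.eq_of_subset_of_ncard_le hQsub _ (Set.toFinite _)
      rw [← hLn, hcount]
      have : (Q : Set G).ncard = Nat.card Q := (Nat.card_coe_set_eq _).symm
      rw [this, hQcard]
    exact ⟨Q, normal_of_carrier Q n hQeq, hQeq⟩

/-- If `G` is a finite solvable group and `n` divides the order of `G` and exactly `n` elements `x` of `G` satisfy `x^n = 1`, then these elements form a normal subgroup. -/
theorem result {G : Type*} [Group G] [Finite G] [Group.IsSolvable G] (n : ℕ) (hn : n ∣ Nat.card G) (hcount : Nat.card {x : G // x ^ n = 1} = n) : ∃ H : Subgroup G, H.Normal ∧ (H : Set G) = {x : G | x ^ n = 1} := by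
  exact aux _ G rfl n hn hcount

end Cfsg.Agent.S4213
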