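import Cfsg.Statements.S4216
import Mathlib
import Cfsg.Agent.Helper21.Gruen

set_option autoImplicit false
set_option linter.style.haveILetI false
open Cfsg
open scoped commutatorElement

namespace Cfsg.Agent.S4216

/-- Grün's first Theorem: if `P` is a Sylow `p`-subgroup of the finite group `G`, then `P ∩ G'` is the subgroup generated by `P ∩ N_G(P)'` together with the subgroups `P ∩ z P' z⁻¹` for all `z ∈ G`, where `'` denotes the derived subgroup and `N_G(P)` the normalizer of `P`. -/
theorem result {G : Type*} [Group G] [Finite G] {p : ℕ} [Fact p.Prime] (P : Sylow p G) : (P : Subgroup G) ⊓ commutator G = ((P : Subgroup G) ⊓ ⁅Subgroup.normalizer ((P : Subgroup G) : Set G), Subgroup.normalizer ((P : Subgroup G) : Set G)⁆) ⊔ ⨆ z : G, (P : Subgroup G) ⊓ (⁅(P : Subgroup G), (P : Subgroup G)⁆).map (MulAut.conj z).toMonoidHom := by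
  classical
  set H : Subgroup G := (P : Subgroup G) with hH
  set N : Subgroup G := Subgroup.normalizer (H : Set G) with hN
  set P₀ : Subgroup G := (H ⊓ ⁅N, N⁆) ⊔
    ⨆ z : G, H ⊓ (⁅H, H⁆).map (MulAut.conj z).toMonoidHom with hP₀
  have hP₀H : P₀ ≤ H := by
    apply sup_le inf_le_left
    apply iSup_le
    intro z
    exact inf_le_left
  apply le_antisymm
  · -- the hard direction, via the transfer
    have hcomm : commutator ↥H ≤ P₀.subgroupOf H := by
      rw [commutator_def, Subgroup.commutator_le]
      intro a _ b _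
      rw [Subgroup.mem_subgroupOf]
      apply le_sup_right (a := H ⊓ ⁅N, N⁆)
      apply Subgroup.mem_iSup_of_mem (1 : G)
      refine Subgroup.mem_inf.mpr ⟨(⁅a, b⁆ : ↥H).2, ?_⟩
      refine ⟨⁅(a : G), (b : G)⁆, Subgroup.commutator_mem_commutator a.2 b.2, ?_⟩
      simp [commutatorElement_def]
    haveI hnorm : (P₀.subgroupOf H).Normal := Subgroup.Normal.of_commutator_le _ hcomm
    have hmc : IsMulCommutative (↥H ⧸ P₀.subgroupOf H) :=
      Subgroup.Normal.quotient_commutative_iff_commutator_le.mpr hcomm
    letI : CommGroup (↥H ⧸ P₀.subgroupOf H) :=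
      { (inferInstance : Group (↥H ⧸ P₀.subgroupOf H)) with
        mul_comm := fun a b => hmc.is_comm.comm a b }
    have hidx : ¬ p ∣ H.index := P.not_dvd_index
    have key := Cfsg.Agent.Helper21.gruen_core H P.isPGroup' hidx
      (QuotientGroup.mk' (P₀.subgroupOf H)) ?_ ?_
    · intro u hu
      obtain ⟨huH, huc⟩ := Subgroup.mem_inf.mp hu
      have := key ⟨u, huH⟩ huc
      rw [QuotientGroup.mk'_apply, QuotientGroup.eq_one_iff, Subgroup.mem_subgroupOf] at this
      exact this
    · intro y hy
      rw [QuotientGroup.mk'_apply, QuotientGroup.eq_one_iff, Subgroup.mem_subgroupOf]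
      exact le_sup_left (b := ⨆ z : G, H ⊓ (⁅H, H⁆).map (MulAut.conj z).toMonoidHom)
        (Subgroup.mem_inf.mpr ⟨y.2, hy⟩)
    · intro z y hy
      rw [QuotientGroup.mk'_apply, QuotientGroup.eq_one_iff, Subgroup.mem_subgroupOf]
      apply le_sup_right (a := H ⊓ ⁅N, N⁆)
      exact Subgroup.mem_iSup_of_mem z (Subgroup.mem_inf.mpr ⟨y.2, hy⟩)
  · -- the easy direction
    apply le_inf hP₀H
    apply sup_le
    · apply inf_le_right.trans
      rw [commutator_def]
      exact Subgroup.commutator_mono le_top le_top
    · apply iSup_le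
      intro z
      apply inf_le_right.trans
      rw [Subgroup.map_le_iff_le_comap]
      intro y hy
      rw [Subgroup.mem_comap]
      have hyc : y ∈ commutator G := by
        rw [commutator_def]
        exact Subgroup.commutator_mono le_top le_top hy
      have hn : (commutator G).Normal := inferInstance
      have := hn.conj_mem y hyc z
      simpa using this

end Cfsg.Agent.S4216
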