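import Cfsg.Statements.S4217
import Mathlib
import Cfsg.Agent.Helper21.CrossedHom

set_option autoImplicit false
open Cfsg

namespace Cfsg.Agent.S4217

/-- Let `A` be an abelian normal subgroup of the finite group `G`. Then `A` has a complement in `G` if and only if, for every prime `p` dividing the index of `A`, there are a Sylow `p`-subgroup `S` of `G/A` and a subgroup `K` of `G` with `K ∩ A = 1` and `KA` equal to the preimage of `S` (that is, `A` has a complement in the preimage of a Sylow `p`-subgroup of `G/A`). -/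
theorem result {G : Type*} [Group G] [Finite G] (A : Subgroup G) [A.Normal] (hA : IsMulCommutative A) : (∃ K : Subgroup G, K.IsComplement' A) ↔ ∀ p : ℕ, p.Prime → p ∣ A.index → ∃ (S : Sylow p (G ⧸ A)) (K : Subgroup G), K ⊓ A = ⊥ ∧ K ⊔ A = (S : Subgroup (G ⧸ A)).comap (QuotientGroup.mk' A) := by
  classical
  constructor
  · rintro ⟨K₀, hK₀⟩ p hp hpA
    have : Fact p.Prime := ⟨hp⟩
    have hdisj : K₀ ⊓ A = ⊥ := disjoint_iff.mp hK₀.disjoint
    have hsup : K₀ ⊔ A = ⊤ := hK₀.sup_eq_top
    let f : K₀ →* G ⧸ A := (QuotientGroup.mk' A).comp K₀.subtype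
    have hf : Function.Surjective f := by
      intro x
      induction x using QuotientGroup.induction_on with
      | H g =>
      have hg : g ∈ K₀ ⊔ A := by rw [hsup]; trivial
      rw [sup_comm, ← SetLike.mem_coe, Subgroup.normal_mul] at hg
      obtain ⟨a, ha, k, hk, rfl⟩ := hg
      refine ⟨⟨k, hk⟩, ?_⟩
      change ((k : G) : G ⧸ A) = ((a * k : G) : G ⧸ A)
      rw [QuotientGroup.eq]
      have : k⁻¹ * (a * k) = k⁻¹ * a * k⁻¹⁻¹ := by group
      rw [this]
      exact (inferInstance : A.Normal).conj_mem a ha k⁻¹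
    let T : Sylow p K₀ := default
    refine ⟨T.mapSurjective hf, (T : Subgroup K₀).map K₀.subtype, ?_, ?_⟩
    · rw [eq_bot_iff, ← hdisj]
      exact inf_le_inf_right A (Subgroup.map_subtype_le _)
    · rw [Sylow.coe_mapSurjective, ← Subgroup.map_map, QuotientGroup.comap_map_mk', sup_comm]
  · intro h
    obtain ⟨H, hH⟩ := Cfsg.Agent.Helper21.CrossedHom.exists_complement_of_forall_prime A (by
      intro q hq
      have : Fact q.Prime := ⟨hq⟩
      by_cases hqA : q ∣ A.index
      · obtain ⟨S, K, hKA, hsup⟩ := h q hq hqA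
        refine ⟨_, Cfsg.Agent.Helper21.CrossedHom.index_mem_expIdeal A _ K hKA hsup, ?_⟩
        rw [Subgroup.index_comap_of_surjective _ (QuotientGroup.mk'_surjective A), Int.natCast_dvd_natCast]
        exact S.not_dvd_index
      · refine ⟨_, Cfsg.Agent.Helper21.CrossedHom.index_mem_expIdeal A A ⊥ (bot_inf_eq A) (bot_sup_eq A), ?_⟩
        rwa [Int.natCast_dvd_natCast])
    exact ⟨H, hH.symm⟩

end Cfsg.Agent.S4217
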