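import Cfsg.Statements.S4218
import Mathlib
import Cfsg.Agent.Helper21.FrattiniAut
import Cfsg.Agent.Helper23.HallHigman
import Cfsg.Agent.Helper14.PCore
import Cfsg.Agent.Helper1.PGroup

set_option autoImplicit false
set_option linter.style.haveILetI false
open Cfsg
open scoped commutatorElement

namespace Cfsg.Agent.S4218

/-- Let `G` be a finite `p`-solvable group, `N₀ = O_{p'}(G)`, `P₁ = O_{p',p}(G)`, and let `F ≤ P₁` be the preimage of the Frattini subgroup of `P₁/N₀`. Then an element `g` of `G` induces the identity on `P₁/F` by conjugation (that is, `g x g⁻¹ x⁻¹ ∈ F` for all `x ∈ P₁`) if and only if `g ∈ P₁`: the group `G/P₁` acts faithfully on `P₁/F`. -/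
theorem result {G : Type*} [Group G] [Finite G] {p : ℕ} [Fact p.Prime] (hG : Cfsg.IsPSolvable p G) (g : G) : (∀ x ∈ Cfsg.pPrimePCore p G, g * x * g⁻¹ * x⁻¹ ∈ ((frattini (↥(Cfsg.pPrimePCore p G) ⧸ (Cfsg.pPrimeCore p G).subgroupOf (Cfsg.pPrimePCore p G))).comap (QuotientGroup.mk' ((Cfsg.pPrimeCore p G).subgroupOf (Cfsg.pPrimePCore p G)))).map (Cfsg.pPrimePCore p G).subtype) ↔ g ∈ Cfsg.pPrimePCore p G := by
  classical
  have hp : p.Prime := Fact.out
  set N₀ := Cfsg.pPrimeCore p G with hN₀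
  set P₁ := Cfsg.pPrimePCore p G with hP₁
  haveI hP₁n : P₁.Normal := by
    rw [hP₁]; unfold Cfsg.pPrimePCore; infer_instance
  have hP₁mem : ∀ x : G, x ∈ P₁ ↔ (QuotientGroup.mk' N₀ x) ∈ Cfsg.pCore p (G ⧸ N₀) := fun x => Iff.rfl
  have hN₀P₁ : N₀ ≤ P₁ := by
    intro x hx
    rw [hP₁mem, QuotientGroup.mk'_apply, (QuotientGroup.eq_one_iff x).mpr hx]
    exact Subgroup.one_mem _
  set K₀ := N₀.subgroupOf P₁ with hK₀
  -- Q is a p-group
  have hQ : IsPGroup p (↥P₁ ⧸ K₀) := by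
    intro q
    induction q using QuotientGroup.induction_on with
    | H x =>
      have hx : (QuotientGroup.mk' N₀ (x : G)) ∈ Cfsg.pCore p (G ⧸ N₀) := (hP₁mem x).mp x.2
      obtain ⟨k, hk⟩ := (Cfsg.Agent.Helper14.pCore_isPGroup (G := G ⧸ N₀) p) ⟨_, hx⟩
      refine ⟨k, ?_⟩
      rw [← QuotientGroup.mk_pow, QuotientGroup.eq_one_iff, hK₀, Subgroup.mem_subgroupOf]
      have h1 := congrArg Subtype.val hk
      simp only [Subgroup.coe_pow, Subgroup.coe_one] at h1
      rw [← map_pow, QuotientGroup.mk'_apply, QuotientGroup.eq_one_iff] at h1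
      simpa using h1
  -- membership in F
  have hFmem : ∀ (y : G) (hy : y ∈ P₁),
      y ∈ ((frattini (↥P₁ ⧸ K₀)).comap (QuotientGroup.mk' K₀)).map P₁.subtype ↔
        ((⟨y, hy⟩ : P₁) : ↥P₁ ⧸ K₀) ∈ frattini (↥P₁ ⧸ K₀) := by
    intro y hy
    constructor
    · rintro ⟨z, hz, hzy⟩
      have : z = ⟨y, hy⟩ := Subtype.ext hzy
      rw [← this]
      exact hz
    · intro h
      exact ⟨⟨y, hy⟩, h, rfl⟩
  -- the action of G on Q
  have hconj : ∀ g : G, K₀.map ((MulAut.conjNormal g : MulAut P₁) : P₁ ≃* P₁).toMonoidHom = K₀ := by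
    intro g
    ext y
    constructor
    · rintro ⟨x, hx, rfl⟩
      have hx' : (x : G) ∈ N₀ := hx
      show ((MulAut.conjNormal g x : P₁) : G) ∈ N₀
      rw [MulAut.conjNormal_apply]
      exact (inferInstance : N₀.Normal).conj_mem _ hx' g
    · intro hy
      refine ⟨MulAut.conjNormal g⁻¹ y, ?_, ?_⟩
      · have hy' : (y : G) ∈ N₀ := hy
        show ((MulAut.conjNormal g⁻¹ y : P₁) : G) ∈ N₀
        rw [MulAut.conjNormal_apply]
        exact (inferInstance : N₀.Normal).conj_mem _ hy' g⁻¹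
      · show MulAut.conjNormal g (MulAut.conjNormal g⁻¹ y) = y
        rw [← MulAut.mul_apply, ← map_mul, mul_inv_cancel, map_one, MulAut.one_apply]
  let θ : G →* MulAut (↥P₁ ⧸ K₀) :=
    { toFun := fun g => QuotientGroup.congr K₀ K₀ (MulAut.conjNormal g) (hconj g)
      map_one' := by
        apply MulEquiv.ext
        intro x
        induction x using QuotientGroup.induction_on with
        | H x =>
          show ((MulAut.conjNormal (1 : G) x : P₁) : ↥P₁ ⧸ K₀) = (x : ↥P₁ ⧸ K₀)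
          rw [map_one, MulAut.one_apply]
      map_mul' := fun a b => by
        apply MulEquiv.ext
        intro x
        induction x using QuotientGroup.induction_on with
        | H x =>
          show ((MulAut.conjNormal (a * b) x : P₁) : ↥P₁ ⧸ K₀) =
            ((MulAut.conjNormal a (MulAut.conjNormal b x) : P₁) : ↥P₁ ⧸ K₀)
          rw [map_mul, MulAut.mul_apply] }
  have hθ : ∀ (g : G) (x : P₁), θ g (x : ↥P₁ ⧸ K₀) = ((MulAut.conjNormal g x : P₁) : ↥P₁ ⧸ K₀) :=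
    fun _ _ => rfl
  -- the key element: commutator as an element of P₁
  have hcomm_mem : ∀ (g : G) (x : P₁), g * (x : G) * g⁻¹ * (x : G)⁻¹ ∈ P₁ := by
    intro g x
    exact P₁.mul_mem (hP₁n.conj_mem _ x.2 g) (P₁.inv_mem x.2)
  have hkey : ∀ (g : G) (x : P₁),
      θ g (x : ↥P₁ ⧸ K₀) * ((x : ↥P₁ ⧸ K₀))⁻¹ =
        ((⟨g * (x : G) * g⁻¹ * (x : G)⁻¹, hcomm_mem g x⟩ : P₁) : ↥P₁ ⧸ K₀) := by
    intro g x
    rw [hθ, ← QuotientGroup.mk_inv, ← QuotientGroup.mk_mul]
    congr 1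
  constructor
  · intro h
    -- θ g is trivial on the Frattini quotient
    have hA : ∀ q : ↥P₁ ⧸ K₀, θ g q * q⁻¹ ∈ frattini (↥P₁ ⧸ K₀) := by
      intro q
      induction q using QuotientGroup.induction_on with
      | H x =>
        rw [hkey]
        exact (hFmem _ (hcomm_mem g x)).mp (h x x.2)
    -- the normal subgroup C
    let C : Subgroup G :=
      (Cfsg.Agent.Helper21.FrattiniAut.frattiniQuotHom (↥P₁ ⧸ K₀)).ker.comap θ
    have hCn : C.Normal := inferInstance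
    have hgC : g ∈ C :=
      (Cfsg.Agent.Helper21.FrattiniAut.mem_ker_frattiniQuotHom_iff _ (θ g)).mpr hA
    -- elements of C map to p-elements of G ⧸ N₀
    have hCp : IsPGroup p (C.map (QuotientGroup.mk' N₀)) := by
      rintro ⟨y, c, hc, rfl⟩
      have hc' : ∀ q : ↥P₁ ⧸ K₀, θ c q * q⁻¹ ∈ frattini (↥P₁ ⧸ K₀) :=
        (Cfsg.Agent.Helper21.FrattiniAut.mem_ker_frattiniQuotHom_iff _ (θ c)).mp hc
      obtain ⟨k, hk⟩ := Cfsg.Agent.Helper21.FrattiniAut.exists_pow_eq_one_of_mem_ker _ hQ (θ c) hc'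
      rw [← map_pow] at hk
      -- c ^ p ^ k centralizes P̄
      have hcent : QuotientGroup.mk' N₀ (c ^ p ^ k) ∈
          Subgroup.centralizer (Cfsg.pCore p (G ⧸ N₀) : Set (G ⧸ N₀)) := by
        rw [Subgroup.mem_centralizer_iff]
        intro z hz
        obtain ⟨x, rfl⟩ := QuotientGroup.mk'_surjective N₀ z
        have hx : x ∈ P₁ := (hP₁mem x).mpr hz
        have h1 := hkey (c ^ p ^ k) ⟨x, hx⟩
        rw [hk, MulAut.one_apply, mul_inv_cancel] at h1
        have h2 := (QuotientGroup.eq_one_iff _).mp h1.symm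
        rw [hK₀, Subgroup.mem_subgroupOf] at h2
        have h3 : (QuotientGroup.mk' N₀) (c ^ p ^ k * x * (c ^ p ^ k)⁻¹ * x⁻¹) = 1 := by
          rw [QuotientGroup.mk'_apply, QuotientGroup.eq_one_iff]
          exact h2
        rw [map_mul, map_mul, map_mul, map_inv, map_inv, mul_inv_eq_one, mul_inv_eq_iff_eq_mul] at h3
        exact h3.symm
      have hmemP := Cfsg.Agent.Helper23.centralizer_pCore_quotient_le_of_isPSolvable hG hcent
      obtain ⟨j, hj⟩ := (Cfsg.Agent.Helper14.pCore_isPGroup (G := G ⧸ N₀) p) ⟨_, hmemP⟩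
      refine ⟨k + j, ?_⟩
      apply Subtype.ext
      have h1 := congrArg Subtype.val hj
      simp only [Subgroup.coe_pow, Subgroup.coe_one] at h1 ⊢
      rw [map_pow, ← pow_mul, ← pow_add] at h1
      exact h1
    have hCmapn : (C.map (QuotientGroup.mk' N₀)).Normal :=
      Subgroup.Normal.map hCn _ (QuotientGroup.mk'_surjective N₀)
    have hle : C.map (QuotientGroup.mk' N₀) ≤ Cfsg.pCore p (G ⧸ N₀) :=
      Cfsg.Agent.Helper14.le_pCore p hCmapn hCp
    exact (hP₁mem g).mpr (hle ⟨g, hgC, rfl⟩)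
  · intro hg x hx
    rw [hFmem _ (hcomm_mem g ⟨x, hx⟩)]
    have h1 : ((⟨g * x * g⁻¹ * x⁻¹, hcomm_mem g ⟨x, hx⟩⟩ : P₁) : ↥P₁ ⧸ K₀) =
        ⁅((⟨g, hg⟩ : P₁) : ↥P₁ ⧸ K₀), ((⟨x, hx⟩ : P₁) : ↥P₁ ⧸ K₀)⁆ := by
      rw [commutatorElement_def, ← QuotientGroup.mk_inv, ← QuotientGroup.mk_inv, ← QuotientGroup.mk_mul,
        ← QuotientGroup.mk_mul, ← QuotientGroup.mk_mul]
      congr 1
    rw [h1]
    exact Cfsg.Agent.Helper1.IsPGroup.commutator_le_frattini hQ
      (Subgroup.commutator_mem_commutator (Subgroup.mem_top _) (Subgroup.mem_top _))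

end Cfsg.Agent.S4218
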