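import Mathlib
import Cfsg.Statements.S4222

set_option autoImplicit false
open Cfsg

namespace Cfsg.Agent.S4222

open scoped Pointwise in
/-- If a normal subgroup `N` of a finite group is complete (its centre is trivial and every automorphism of `N` is inner), then the group is the internal direct product of `N` and the centralizer of `N`: the centralizer is a complement to `N`. -/
theorem result {T : Type*} [Group T] [Finite T] (N : Subgroup T) [N.Normal] (hz : Subgroup.center ↥N = ⊥) (ha : Function.Surjective (MulAut.conj : ↥N →* MulAut ↥N)) : (Subgroup.centralizer (N : Set T)).IsComplement' N := by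
  apply Subgroup.isComplement'_of_disjoint_and_mul_eq_univ
  · rw [Subgroup.disjoint_def]
    intro c hc hcN
    have h1 : (⟨c, hcN⟩ : N) ∈ Subgroup.center N := by
      rw [Subgroup.mem_center_iff]
      rintro ⟨n, hn⟩
      apply Subtype.ext
      exact Subgroup.mem_centralizer_iff.mp hc n hn
    rw [hz, Subgroup.mem_bot] at h1
    exact congrArg Subtype.val h1
  · rw [Set.eq_univ_iff_forall]
    intro t
    obtain ⟨m, hm⟩ := ha (MulAut.conjNormal t)
    refine ⟨t * (m : T)⁻¹, ?_, (m : T), m.2, by group⟩
    rw [SetLike.mem_coe, Subgroup.mem_centralizer_iff]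
    have key : ∀ n : T, n ∈ N → (m : T) * n * (m : T)⁻¹ = t * n * t⁻¹ := by
      intro n hn
      have h1 : (MulAut.conj m) (⟨n, hn⟩ : N) = (MulAut.conjNormal t) ⟨n, hn⟩ := by rw [hm]
      have h2 := congrArg Subtype.val h1
      rw [MulAut.conjNormal_apply, MulAut.conj_apply] at h2
      simpa only [Subgroup.coe_mul, InvMemClass.coe_inv] using h2
    intro n hn
    have hn' : (m : T)⁻¹ * n * (m : T) ∈ N := by
      have := N.mul_mem (N.mul_mem (N.inv_mem m.2) hn) m.2
      exact this
    have h3 := key _ hn'
    have e1 : (m : T) * ((m : T)⁻¹ * n * (m : T)) * (m : T)⁻¹ = n := by group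
    rw [e1] at h3
    calc n * (t * (m : T)⁻¹) = (t * ((m : T)⁻¹ * n * (m : T)) * t⁻¹) * (t * (m : T)⁻¹) := by rw [← h3]
      _ = t * (m : T)⁻¹ * n := by group

end Cfsg.Agent.S4222
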