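import Mathlib
import Cfsg.Statements.S4230

set_option autoImplicit false
open Cfsg

namespace Cfsg.Agent.S4230

open Polynomial in
theorem dvd_iff_isRoot (p q f : ℕ) :
    ((p : ℤ) ∣ (cyclotomic f ℤ).eval (q : ℤ)) ↔ (cyclotomic f (ZMod p)).IsRoot (q : ZMod p) := by
  rw [← ZMod.intCast_zmod_eq_zero_iff_dvd, IsRoot.def, ← map_cyclotomic_int f (ZMod p)]
  have h := eval_intCast_map (Int.castRingHom (ZMod p)) (cyclotomic f ℤ) (q : ℤ)
  rw [Int.cast_natCast] at h
  rw [h]
  rfl

/-- Let p be an odd prime, q a natural number not divisible by p, and e the multiplicative order of q modulo p. For a natural number f, p divides the value at q of the f-th cyclotomic polynomial if and only if f = e·p^j for some j ≥ 0. -/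
theorem result (p q f : ℕ) (hp : p.Prime) (hp2 : p ≠ 2) (hpq : ¬ p ∣ q) :
    ((p : ℤ) ∣ (Polynomial.cyclotomic f ℤ).eval (q : ℤ)) ↔ ∃ j : ℕ, f = orderOf (q : ZMod p) * p ^ j := by
  have : Fact p.Prime := ⟨hp⟩
  rw [dvd_iff_isRoot]
  -- the unit
  have hcop : Nat.Coprime q p := ((Nat.Prime.coprime_iff_not_dvd hp).mpr hpq).symm
  set u : (ZMod p)ˣ := ZMod.unitOfCoprime q hcop with hu
  have hu' : (u : ZMod p) = (q : ZMod p) := ZMod.coe_unitOfCoprime q hcop
  have hord : orderOf (q : ZMod p) = orderOf u := by rw [← hu', orderOf_units]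
  have hdvd : orderOf (q : ZMod p) ∣ p - 1 := by
    rw [hord]; exact ZMod.orderOf_units_dvd_card_sub_one u
  have hepos : 0 < orderOf (q : ZMod p) := by rw [hord]; exact orderOf_pos u
  have hpe : ¬ p ∣ orderOf (q : ZMod p) := by
    intro h
    have h1 : p ∣ p - 1 := dvd_trans h hdvd
    have h2 : p ≤ p - 1 := Nat.le_of_dvd (Nat.sub_pos_of_lt hp.one_lt) h1
    have := hp.pos
    omega
  by_cases hf : f = 0
  · subst hf
    rw [Polynomial.cyclotomic_zero, Polynomial.IsRoot.def, Polynomial.eval_one]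
    constructor
    · intro h; exact absurd h one_ne_zero
    · rintro ⟨j, hj⟩
      exfalso
      have := Nat.mul_pos hepos (pow_pos hp.pos j)
      omega
  · obtain ⟨k, m, hm, hfm⟩ := Nat.exists_eq_pow_mul_and_not_dvd hf p hp.ne_one
    have hm0 : NeZero (m : ZMod p) := ⟨by
      intro h
      exact hm ((ZMod.natCast_eq_zero_iff m p).mp h)⟩
    constructor
    · intro h
      rw [hfm, Polynomial.isRoot_cyclotomic_prime_pow_mul_iff_of_charP] at h
      refine ⟨k, ?_⟩
      rw [hfm, ← h.eq_orderOf, mul_comm]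
    · rintro ⟨j, hj⟩
      have he0 : NeZero ((orderOf (q : ZMod p) : ℕ) : ZMod p) := ⟨by
        intro h
        exact hpe ((ZMod.natCast_eq_zero_iff _ p).mp h)⟩
      rw [hj, mul_comm, Polynomial.isRoot_cyclotomic_prime_pow_mul_iff_of_charP]
      exact IsPrimitiveRoot.orderOf _

end Cfsg.Agent.S4230
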