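import Cfsg.Statements.S4236
import Cfsg.Agent.Helper21.SylNum4

set_option autoImplicit false
open Cfsg

namespace Cfsg.Agent.S4236

/-- No finite group has exactly 35 Sylow 17-subgroups. -/
theorem result {G : Type*} [Group G] [Finite G] : Nat.card (Sylow 17 G) ≠ 35 := by
  have : Fact (Nat.Prime 17) := ⟨by norm_num⟩
  have : Fact (Nat.Prime 5) := ⟨by norm_num⟩
  refine Cfsg.Agent.Helper21.SylNum.card_sylow_ne_two_mul_add_one 17 5 (by norm_num)
    (by norm_num) ?_ G
  intro m hm hodd
  have hm16 : m ∣ 2 ^ 4 := by simpa using hm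
  obtain ⟨j, hj, rfl⟩ := (Nat.dvd_prime_pow Nat.prime_two).mp hm16
  have hj0 : j = 0 := by
    by_contra hne
    have : Even (2 ^ j) := (Nat.even_pow' hne).mpr even_two
    exact (Nat.not_even_iff_odd.mpr hodd) this
  subst hj0
  refine ⟨by norm_num, by norm_num, by norm_num⟩

end Cfsg.Agent.S4236
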