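import Cfsg.Statements.S4237
import Cfsg.Agent.Helper20.KulL

set_option autoImplicit false
open Cfsg

namespace Cfsg.Agent.S4237

/-- Let G be a finite group, p a prime and a a natural number such that p^(a+1) divides the order of G. Then the number of subgroups of G of order p^a is congruent to 1 or to 1 + p modulo p². -/
theorem result {G : Type*} [Group G] [Finite G] (p a : ℕ) (hp : p.Prime) (hdvd : p ^ (a + 1) ∣ Nat.card G) :
    Nat.card {H : Subgroup G // Nat.card H = p ^ a} ≡ 1 [MOD p ^ 2] ∨
      Nat.card {H : Subgroup G // Nat.card H = p ^ a} ≡ 1 + p [MOD p ^ 2] := by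
  haveI : Fact p.Prime := ⟨hp⟩
  by_cases h2 : p = 2
  · subst h2
    have hd : 2 ^ a ∣ Nat.card G := dvd_trans (pow_dvd_pow 2 (Nat.le_succ a)) hdvd
    have h1 := Cfsg.Agent.Helper20.card_subgroups_prime_pow_modEq_one (G := G) 2 a Nat.prime_two hd
    unfold Nat.ModEq at h1 ⊢
    norm_num at h1 ⊢
    omega
  · obtain ⟨P⟩ : Nonempty (Sylow p G) := inferInstance
    have hPc := P.card_eq_multiplicity
    have hle : a + 1 ≤ (Nat.card G).factorization p :=
      (hp.pow_dvd_iff_le_factorization Nat.card_pos.ne').mp hdvd
    obtain ⟨k, hk⟩ : ∃ k, (Nat.card G).factorization p = k + 1 :=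
      ⟨(Nat.card G).factorization p - 1, by omega⟩
    rw [hk] at hPc
    have hak : a ≤ k := by omega
    have hred := Cfsg.Agent.Helper20.card_subgroups_modEq_sylow P a k hak hPc
    by_cases hc : IsCyclic (P : Subgroup G)
    · left
      refine hred.trans ?_
      rw [Cfsg.Agent.Helper20.card_subgroups_cyclic p a
        (by rw [hPc]; exact pow_dvd_pow p (by omega))]
    · rcases Nat.eq_zero_or_pos a with ha | ha
      · left
        refine hred.trans ?_
        subst ha
        haveI : Nonempty {H : Subgroup (P : Subgroup G) // Nat.card H = p ^ 0} :=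
          ⟨⟨⊥, by rw [pow_zero]; exact Subgroup.card_bot⟩⟩
        haveI : Subsingleton {H : Subgroup (P : Subgroup G) // Nat.card H = p ^ 0} := by
          refine ⟨fun H₁ H₂ => Subtype.ext ?_⟩
          have h1 : Nat.card H₁.1 = 1 := H₁.2.trans (pow_zero p)
          have h2 : Nat.card H₂.1 = 1 := H₂.2.trans (pow_zero p)
          rw [Subgroup.card_eq_one] at h1 h2
          rw [h1, h2]
        rw [Nat.card_unique]
      · right
        refine hred.trans ?_
        exact Cfsg.Agent.Helper20.kulakoff h2 (k + 1) hPc hc a ha (by omega)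

end Cfsg.Agent.S4237
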