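import Cfsg.Statements.S4238
import Cfsg.Agent.Helper21.NPCSections

set_option linter.style.haveILetI false

set_option autoImplicit false
open Cfsg

namespace Cfsg.Agent.S4238

/-- Let G be a finite group and p a prime. Then G has a normal p-complement if and only if every section K = H/N of G (N a normal subgroup of a subgroup H) whose largest normal subgroup of order prime to p is trivial contains an element whose order equals the exponent of K. -/
theorem result {G : Type*} [Group G] [Finite G] (p : ℕ) [Fact p.Prime] :
    Cfsg.HasNormalPComplement p G ↔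
      ∀ (H : Subgroup G) (N : Subgroup H) [N.Normal], Cfsg.pPrimeCore p (H ⧸ N) = ⊥ →
        ∃ k : H ⧸ N, orderOf k = Monoid.exponent (H ⧸ N) := by
  have hp : p.Prime := Fact.out
  constructor
  · intro hG H N _ hO
    have hH : Cfsg.HasNormalPComplement p H :=
      Cfsg.Agent.Helper9.hasNormalPComplement_subgroup hG H
    have hHN : Cfsg.HasNormalPComplement p (H ⧸ N) :=
      Cfsg.Agent.Helper21.NPCSections.npc_of_surjective (QuotientGroup.mk' N)
        (QuotientGroup.mk'_surjective N) hH
    obtain ⟨P, K, hKn, hc⟩ := hHN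
    have hKc : (Nat.card K).Coprime p := by
      have h1 : (P : Subgroup (H ⧸ N)).index = Nat.card K := hc.index_eq_card
      rw [← h1]
      exact ((Nat.Prime.coprime_iff_not_dvd hp).mpr P.not_dvd_index).symm
    have hK : K = ⊥ := by
      rw [eq_bot_iff, ← hO]
      exact Cfsg.Agent.Helper7.le_pPrimeCore hKn hKc
    obtain ⟨n, hn⟩ := IsPGroup.iff_card.mp P.2
    have hcard : Nat.card (H ⧸ N) = p ^ n := by
      rw [← hc.card_mul_card, hK, Subgroup.card_bot, one_mul, hn]
    obtain ⟨k, hkmax⟩ := Finite.exists_max (fun g : H ⧸ N => orderOf g)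
    refine ⟨k, ?_⟩
    obtain ⟨e, -, he⟩ := (Nat.dvd_prime_pow hp).mp (hcard ▸ orderOf_dvd_natCard k)
    apply Nat.dvd_antisymm (Monoid.order_dvd_exponent k)
    apply Monoid.exponent_dvd_of_forall_pow_eq_one
    intro g
    obtain ⟨j, -, hj⟩ := (Nat.dvd_prime_pow hp).mp (hcard ▸ orderOf_dvd_natCard g)
    have hle : p ^ j ≤ p ^ e := by rw [← hj, ← he]; exact hkmax g
    have hje : j ≤ e := (Nat.pow_le_pow_iff_right hp.one_lt).mp hle
    rw [he]
    apply orderOf_dvd_iff_pow_eq_one.mp
    rw [hj]
    exact pow_dvd_pow p hje
  · intro h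
    by_contra hG
    -- a subgroup of minimal order without normal p-complement
    have hne : Nonempty {H : Subgroup G // ¬ Cfsg.HasNormalPComplement p H} := by
      refine ⟨⟨⊤, fun htop => hG ?_⟩⟩
      exact Cfsg.Agent.Helper21.NPCSections.npc_of_surjective
        (Subgroup.topEquiv : (⊤ : Subgroup G) ≃* G).toMonoidHom
        (Subgroup.topEquiv : (⊤ : Subgroup G) ≃* G).surjective htop
    obtain ⟨⟨H, hH⟩, hHmin⟩ :=
      Finite.exists_min (fun H : {H : Subgroup G // ¬ Cfsg.HasNormalPComplement p H} =>
        Nat.card (H : Subgroup G))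
    have hHmin' : ∀ L : Subgroup G, Nat.card L < Nat.card H → Cfsg.HasNormalPComplement p L := by
      intro L hL
      by_contra hcon
      have := hHmin ⟨L, hcon⟩
      simp only at this
      omega
    -- a normal subgroup of maximal order with quotient without normal p-complement
    have hne2 : Nonempty {N : Subgroup H // ∃ hN : N.Normal,
        ¬ Cfsg.HasNormalPComplement p (H ⧸ N)} := by
      refine ⟨⟨⊥, inferInstance, fun hbot => hH ?_⟩⟩
      exact Cfsg.Agent.Helper21.NPCSections.npc_of_surjective
        (QuotientGroup.quotientBot : H ⧸ (⊥ : Subgroup H) ≃* H).toMonoidHom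
        (QuotientGroup.quotientBot : H ⧸ (⊥ : Subgroup H) ≃* H).surjective hbot
    obtain ⟨⟨N, hNn, hN⟩, hNmax⟩ :=
      Finite.exists_max (fun N : {N : Subgroup H // ∃ hN : N.Normal,
        ¬ Cfsg.HasNormalPComplement p (H ⧸ N)} => Nat.card (N : Subgroup H))
    haveI := hNn
    have F2 : ∀ L : Subgroup (H ⧸ N), L ≠ ⊤ → Cfsg.HasNormalPComplement p L := by
      intro L hL
      have hL' : L.comap (QuotientGroup.mk' N) ≠ ⊤ := by
        intro htop
        apply hL
        rw [← Subgroup.map_comap_eq_self_of_surjective (QuotientGroup.mk'_surjective N) L, htop,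
          ← MonoidHom.range_eq_map, MonoidHom.range_eq_top]
        exact QuotientGroup.mk'_surjective N
      have hlt : Nat.card ((L.comap (QuotientGroup.mk' N)).map H.subtype) < Nat.card H := by
        rw [Subgroup.card_subtype]
        by_contra hge
        push Not at hge
        exact hL' (Subgroup.eq_top_of_le_card _ hge)
      have h1 := hHmin' _ hlt
      have h2 : Cfsg.HasNormalPComplement p (L.comap (QuotientGroup.mk' N)) :=
        Cfsg.Agent.Helper21.NPCSections.npc_of_surjective
          ((L.comap (QuotientGroup.mk' N)).equivMapOfInjective H.subtype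
            H.subtype_injective).symm.toMonoidHom
          ((L.comap (QuotientGroup.mk' N)).equivMapOfInjective H.subtype
            H.subtype_injective).symm.surjective h1
      exact Cfsg.Agent.Helper21.NPCSections.npc_of_surjective
        ((QuotientGroup.mk' N).subgroupComap L)
        (MonoidHom.subgroupComap_surjective_of_surjective _ _ (QuotientGroup.mk'_surjective N)) h2
    have F3 : ∀ (M : Subgroup (H ⧸ N)) [M.Normal], M ≠ ⊥ →
        Cfsg.HasNormalPComplement p ((H ⧸ N) ⧸ M) := by
      intro M hMn hM
      haveI hM'n : (M.comap (QuotientGroup.mk' N)).Normal := hMn.comap _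
      have h1 : Cfsg.HasNormalPComplement p (H ⧸ M.comap (QuotientGroup.mk' N)) := by
        by_contra hcon
        have := hNmax ⟨M.comap (QuotientGroup.mk' N), hM'n, hcon⟩
        simp only at this
        rw [Cfsg.Agent.Helper23.card_comap_mk'] at this
        have hM1 : 1 < Nat.card M := by
          rw [Subgroup.one_lt_card_iff_ne_bot]; exact hM
        have hN0 : 0 < Nat.card N := Nat.card_pos
        nlinarith
      refine Cfsg.Agent.Helper21.NPCSections.npc_of_surjective
        (QuotientGroup.map (M.comap (QuotientGroup.mk' N)) M (QuotientGroup.mk' N) le_rfl) ?_ h1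
      intro x
      obtain ⟨y, rfl⟩ := QuotientGroup.mk_surjective x
      obtain ⟨z, rfl⟩ := QuotientGroup.mk_surjective y
      exact ⟨QuotientGroup.mk z, rfl⟩
    have hcore := Cfsg.Agent.Helper21.NPCSections.pPrimeCore_eq_bot_of_min hN F3
    obtain ⟨k, hk⟩ := h H N hcore
    exact Cfsg.Agent.Helper21.NPCSections.no_exponent_elt hN F2 F3 k hk

end Cfsg.Agent.S4238
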