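import Mathlib
import Cfsg.Statements.S4244

set_option autoImplicit false
open Cfsg

namespace Cfsg.Agent.S4244

/-- if `K` normalizes `H` then `[H : H ∩ K] = [KH : K]` -/
theorem relIndex_eq_of_le_normalizer {G : Type*} [Group G] [Finite G] (H K : Subgroup G)
    (hK : K ≤ Subgroup.normalizer (H : Set G)) :
    (H ⊓ K).relIndex H = K.relIndex (K ⊔ H) := by
  have e1 : H.relIndex (K ⊔ H) = H.relIndex K := by
    haveI := Subgroup.normal_subgroupOf_of_le_normalizer hK
    haveI := Subgroup.normal_subgroupOf_sup_of_le_normalizer hK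
    exact (Nat.card_congr (QuotientGroup.quotientInfEquivProdNormalizerQuotient K H hK).toEquiv).symm
  have ea : H.relIndex (K ⊔ H) * (K ⊔ H).index = H.index :=
    Subgroup.relIndex_mul_index le_sup_right
  have eb : K.relIndex (K ⊔ H) * (K ⊔ H).index = K.index :=
    Subgroup.relIndex_mul_index le_sup_left
  have ec : (H ⊓ K).relIndex K * K.index = (H ⊓ K).index :=
    Subgroup.relIndex_mul_index inf_le_right
  have ed : (H ⊓ K).relIndex H * H.index = (H ⊓ K).index :=
    Subgroup.relIndex_mul_index inf_le_left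
  rw [Subgroup.inf_relIndex_right] at ec
  rw [← e1] at ec
  have hpos : H.index ≠ 0 := Subgroup.index_ne_zero_of_finite
  have h1 : (H ⊓ K).relIndex H * H.index = K.relIndex (K ⊔ H) * H.index := by
    rw [ed, ← ec, ← eb, ← ea]; ring
  exact Nat.eq_of_mul_eq_mul_right (Nat.pos_of_ne_zero hpos) h1

/-- Let H be a subnormal subgroup of a finite group G. Then for every subgroup K of G the index of H ∩ K in H divides the index of K in G. -/
theorem result {G : Type*} [Group G] [Finite G] (H : Subgroup G) (hH : H.IsSubnormal) (K : Subgroup G) :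
    (H ⊓ K).relIndex H ∣ K.index := by
  induction hH generalizing K with
  | top => rw [top_inf_eq, Subgroup.relIndex_top_right]
  | step H M hle hM hN ih =>
    have hnorm : M ≤ Subgroup.normalizer (H : Set G) :=
      (Subgroup.normal_subgroupOf_iff_le_normalizer hle).mp hN
    have h1 : (H ⊓ (M ⊓ K)).relIndex H = (M ⊓ K).relIndex ((M ⊓ K) ⊔ H) :=
      relIndex_eq_of_le_normalizer H (M ⊓ K) (le_trans inf_le_left hnorm)
    have h2 : H ⊓ (M ⊓ K) = H ⊓ K := by
      rw [← inf_assoc, inf_of_le_left hle]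
    rw [h2] at h1
    rw [h1]
    have h3 : (M ⊓ K).relIndex ((M ⊓ K) ⊔ H) * ((M ⊓ K) ⊔ H).relIndex M = (M ⊓ K).relIndex M :=
      Subgroup.relIndex_mul_relIndex _ _ _ le_sup_left (sup_le inf_le_left hle)
    exact dvd_trans (Dvd.intro _ h3) (ih K)

end Cfsg.Agent.S4244
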