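import Mathlib
import Cfsg.Statements.S4249
import Cfsg.Agent.Helper19.Hughes1
import Cfsg.Agent.S0065

set_option autoImplicit false
open Cfsg

namespace Cfsg.Agent.S4249

open Subgroup Cfsg.Agent.Lead.Fpf Cfsg.Agent.Helper19.Split Cfsg.Agent.Helper19.Hughes

/-- Let G be a finite group and p a prime such that G is not a p-group, and suppose the Hughes subgroup H_p(G), generated by all elements g with g^p ≠ 1, is a proper subgroup. Then H_p(G) is nilpotent and has index p in G. -/
theorem result {G : Type*} [Group G] [Finite G] (p : ℕ) (hp : p.Prime) (hG : ¬ IsPGroup p G)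
    (hH : Subgroup.closure {g : G | g ^ p ≠ 1} ≠ ⊤) :
    Group.IsNilpotent (Subgroup.closure {g : G | g ^ p ≠ 1}) ∧ (Subgroup.closure {g : G | g ^ p ≠ 1}).index = p := by
  haveI : Fact p.Prime := ⟨hp⟩
  set H := Subgroup.closure {g : G | g ^ p ≠ 1} with hHdef
  have hchar : H.Characteristic := by
    rw [Subgroup.characteristic_iff_map_eq]
    intro φ
    rw [hHdef, MonoidHom.map_closure]
    congr 1
    ext g
    constructor
    · rintro ⟨x, hx, rfl⟩
      show (φ x) ^ p ≠ 1
      intro h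
      apply hx
      apply φ.injective
      rw [map_pow, h, map_one]
    · intro hg
      refine ⟨φ.symm g, ?_, by simp⟩
      show (φ.symm g) ^ p ≠ 1
      intro h
      apply hg
      have := congrArg φ h
      simpa using this
  haveI hHn : H.Normal := Subgroup.normal_of_characteristic H
  have hout : ∀ g : G, g ∉ H → g ^ p = 1 := by
    intro g hg
    by_contra h
    exact hg (Subgroup.subset_closure h)
  obtain ⟨x, hx⟩ : ∃ x, x ∉ H := by
    by_contra hcon
    push Not at hcon
    exact hH (eq_top_iff.mpr fun g _ => hcon g)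
  have hmap : H.map (MulAut.conj x).toMonoidHom = H := map_of_characteristic _ H
  have hnil : Group.IsNilpotent H := by
    refine nilpotent_of_splitAut hp _ H (restrict (MulAut.conj x) H hmap) rfl
      ⟨fun h => ?_, fun h => ?_⟩
    · apply Subtype.ext
      rw [coe_nrm_restrict]
      have h1 := nrm_conj_mul_pow x (h : G) p
      have h2 : (h : G) * x ∉ H := by
        intro h3
        apply hx
        have := H.mul_mem (H.inv_mem h.2) h3
        simpa using this
      rw [hout x hx, hout _ h2, mul_one] at h1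
      rw [h1]
      rfl
    · apply Subtype.ext
      rw [coe_restrict_iterate, conj_iterate, hout x hx]
      simp
  refine ⟨hnil, ?_⟩
  by_contra hidx
  have hQp : IsPGroup p (G ⧸ H) := by
    intro y
    obtain ⟨g, rfl⟩ := QuotientGroup.mk_surjective y
    refine ⟨1, ?_⟩
    rw [pow_one, ← QuotientGroup.mk_pow]
    by_cases hg : g ∈ H
    · exact (QuotientGroup.eq_one_iff _).mpr (H.pow_mem hg p)
    · rw [hout g hg]; rfl
  obtain ⟨k, hk⟩ := IsPGroup.iff_card.mp hQp
  have hidx' : H.index = p ^ k := by rw [Subgroup.index_eq_card, hk]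
  have hk2 : 2 ≤ k := by
    rcases k with _ | _ | k
    · exfalso; rw [pow_zero] at hidx'; exact hH (Subgroup.index_eq_one.mp hidx')
    · exfalso; rw [zero_add, pow_one] at hidx'; exact hidx hidx'
    · omega
  have hppk : p < p ^ k := by
    calc p = p ^ 1 := (pow_one p).symm
      _ < p ^ k := Nat.pow_lt_pow_right hp.one_lt (by omega)
  haveI : Nontrivial (G ⧸ H) := by
    rw [← Finite.one_lt_card_iff_nontrivial, hk]
    exact lt_trans hp.one_lt hppk
  obtain ⟨bbar, hbZ, hb1⟩ : ∃ y ∈ Subgroup.center (G ⧸ H), y ≠ 1 := by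
    haveI := hQp.center_nontrivial
    obtain ⟨y, hy⟩ := exists_ne (1 : Subgroup.center (G ⧸ H))
    exact ⟨y, y.2, fun h => hy (Subtype.ext h)⟩
  have hbbarp : bbar ^ p = 1 := by
    obtain ⟨g, rfl⟩ := QuotientGroup.mk_surjective bbar
    rw [← QuotientGroup.mk_pow]
    by_cases hg : g ∈ H
    · exact (QuotientGroup.eq_one_iff _).mpr (H.pow_mem hg p)
    · rw [hout g hg]; rfl
  have hzp : Nat.card (Subgroup.zpowers bbar) ≤ p := by
    rw [Nat.card_zpowers]
    exact Nat.le_of_dvd hp.pos (orderOf_dvd_of_pow_eq_one hbbarp)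
  obtain ⟨abar, habar⟩ : ∃ y, y ∉ Subgroup.zpowers bbar := by
    by_contra hcon
    push Not at hcon
    have h1 : Subgroup.zpowers bbar = ⊤ := eq_top_iff.mpr fun y _ => hcon y
    have h3 : Nat.card (Subgroup.zpowers bbar) = p ^ k := by rw [h1, Subgroup.card_top, hk]
    omega
  obtain ⟨a, rfl⟩ := QuotientGroup.mk_surjective abar
  obtain ⟨b, rfl⟩ := QuotientGroup.mk_surjective bbar
  have hb : b ∉ H := fun h => hb1 ((QuotientGroup.eq_one_iff _).mpr h)
  have hab : ∀ j : ℕ, a * b ^ j ∉ H := by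
    intro j h
    apply habar
    have h1 : ((a * b ^ j : G) : G ⧸ H) = 1 := (QuotientGroup.eq_one_iff _).mpr h
    rw [QuotientGroup.mk_mul, QuotientGroup.mk_pow] at h1
    have h2 : (a : G ⧸ H) = ((b : G ⧸ H) ^ j)⁻¹ := eq_inv_of_mul_eq_one_left h1
    rw [h2]
    exact inv_mem (pow_mem (Subgroup.mem_zpowers _) j)
  have hc : a * b * a⁻¹ * b⁻¹ ∈ H := by
    rw [← QuotientGroup.eq_one_iff]
    simp only [QuotientGroup.mk_mul, QuotientGroup.mk_inv]
    have h1 := Subgroup.mem_center_iff.mp hbZ (a : G ⧸ H)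
    rw [h1]
    group
  have key := hughes_key p hp H hout a b hb hab hc
  obtain ⟨q, hq, hqdvd, hqp⟩ : ∃ q : ℕ, q.Prime ∧ q ∣ Nat.card G ∧ q ≠ p := by
    by_contra hcon
    push Not at hcon
    apply hG
    have hpos : Nat.card G ≠ 0 := Nat.card_pos.ne'
    have := Nat.eq_prime_pow_of_unique_prime_dvd hpos (fun {d} hd hdvd => hcon d hd hdvd)
    exact IsPGroup.of_card this
  haveI : Fact q.Prime := ⟨hq⟩
  have hqH : q ∣ Nat.card H := by
    have h1 := H.card_mul_index
    rw [hidx'] at h1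
    have h2 : q ∣ Nat.card H * p ^ k := h1 ▸ hqdvd
    rcases (Nat.Prime.dvd_mul hq).mp h2 with h | h
    · exact h
    · exfalso
      exact hqp ((Nat.prime_dvd_prime_iff_eq hq hp).mp (hq.dvd_of_dvd_pow h))
  obtain ⟨Q⟩ : Nonempty (Sylow q H) := inferInstance
  haveI hQn : (Q : Subgroup H).Normal :=
    Sylow.normal_of_normalizerCondition Group.normalizerCondition_of_isNilpotent _
  have hQne : (Q : Subgroup H) ≠ ⊥ := Q.ne_bot_of_dvd_card hqH
  have hz := Cfsg.Agent.S0065.inf_center_ne_bot (Q : Subgroup H) hQne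
  obtain ⟨z, hz1⟩ := (Subgroup.ne_bot_iff_exists_ne_one).mp hz
  obtain ⟨hzQ, hzZ⟩ := Subgroup.mem_inf.mp z.2
  have hzp' : (((z : H) : G)) ^ p = 1 := key _ (by
    rw [Subgroup.mem_inf]
    refine ⟨(z : H).2, ?_⟩
    rw [Subgroup.mem_centralizer_iff]
    intro h hh
    have := Subgroup.mem_center_iff.mp hzZ ⟨h, hh⟩
    exact congrArg Subtype.val this)
  have hzpH : (z : H) ^ p = 1 := Subtype.ext (by simpa using hzp')
  obtain ⟨n, hn⟩ := (Q.2 : IsPGroup q Q) ⟨(z : H), hzQ⟩
  have hzqn : (z : H) ^ (q ^ n) = 1 := by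
    have := congrArg Subtype.val hn
    simpa using this
  have h1 : orderOf (z : H) ∣ p := orderOf_dvd_of_pow_eq_one hzpH
  have h2 : orderOf (z : H) ∣ q ^ n := orderOf_dvd_of_pow_eq_one hzqn
  have hcop : Nat.Coprime p (q ^ n) :=
    Nat.Coprime.pow_right n ((Nat.coprime_primes hp hq).mpr (Ne.symm hqp))
  have h3 : orderOf (z : H) = 1 := Nat.eq_one_of_dvd_coprimes hcop h1 h2
  have h4 : (z : H) = 1 := orderOf_eq_one_iff.mp h3
  exact hz1 (Subtype.ext h4)

end Cfsg.Agent.S4249
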