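import Mathlib
import Cfsg.Statements.S4253

set_option autoImplicit false
open Cfsg

namespace Cfsg.Agent.S4253

open scoped Pointwise in
/-- Let H be a Frobenius complement in a finite group G (a nontrivial proper subgroup meeting each conjugate gHg⁻¹ with g outside H trivially). Then in the action of G on the left cosets of H by left multiplication, no non-identity element of G fixes two distinct cosets. -/
theorem result {G : Type*} [Group G] [Finite G] (H : Subgroup G) (hH : Cfsg.IsFrobeniusComplement H)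
    (g : G) (hg : g ≠ 1) (a b : G ⧸ H) (ha : g • a = a) (hb : g • b = b) : a = b := by
  obtain ⟨_, _, hfrob⟩ := hH
  induction a using QuotientGroup.induction_on with
  | H x =>
  induction b using QuotientGroup.induction_on with
  | H y =>
  rw [MulAction.Quotient.smul_mk, QuotientGroup.eq, smul_eq_mul] at ha hb
  rw [QuotientGroup.eq]
  by_contra hxy
  have h1 := hfrob _ hxy
  have hx : x⁻¹ * g * x ∈ H := by
    have h3 := H.inv_mem ha
    have e : ((g * x)⁻¹ * x)⁻¹ = x⁻¹ * g * x := by group
    rwa [e] at h3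
  have hy : y⁻¹ * g * y ∈ H := by
    have h3 := H.inv_mem hb
    have e : ((g * y)⁻¹ * y)⁻¹ = y⁻¹ * g * y := by group
    rwa [e] at h3
  have h2 : x⁻¹ * g * x ∈ H ⊓ (MulAut.conj (x⁻¹ * y) • H) := by
    rw [Subgroup.mem_inf]
    refine ⟨hx, ?_⟩
    rw [Subgroup.mem_pointwise_smul_iff_inv_smul_mem, MulAut.smul_def, ← map_inv, MulAut.conj_apply]
    have e : (x⁻¹ * y)⁻¹ * (x⁻¹ * g * x) * (x⁻¹ * y)⁻¹⁻¹ = y⁻¹ * g * y := by group
    rw [e]; exact hy
  rw [h1, Subgroup.mem_bot] at h2
  apply hg
  calc g = x * (x⁻¹ * g * x) * x⁻¹ := by group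
    _ = 1 := by rw [h2]; group

end Cfsg.Agent.S4253
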