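import Cfsg.Statements.S4255
import Mathlib
import Cfsg.Agent.Helper1.ClsGraph5

set_option autoImplicit false
open Cfsg

namespace Cfsg.Agent.S4255

/-- Let G be a finite group. Call a prime a vertex if it divides some conjugacy class size of G, and two distinct vertices adjacent if their product divides some class size. Suppose this graph is disconnected: the vertices split into two nonempty parts with no vertex of one part adjacent to a vertex of the other. Then G/Z(G) is a Frobenius group with abelian Frobenius complement and with a Frobenius kernel all of whose elements commute. -/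
theorem result {G : Type*} [Group G] [Finite G] (S : Set ℕ) (hS : ∃ p ∈ S, (p.Prime ∧ ∃ g : G, p ∣ (Subgroup.centralizer ({g} : Set G)).index)) (hS' : ∃ q ∉ S, (q.Prime ∧ ∃ g : G, q ∣ (Subgroup.centralizer ({g} : Set G)).index))
    (hdisc : ∀ p q : ℕ, (p.Prime ∧ ∃ g : G, p ∣ (Subgroup.centralizer ({g} : Set G)).index) → (q.Prime ∧ ∃ g : G, q ∣ (Subgroup.centralizer ({g} : Set G)).index) → p ∈ S → q ∉ S → ¬ (∃ g : G, p * q ∣ (Subgroup.centralizer ({g} : Set G)).index)) :
    ∃ H : Subgroup (G ⧸ Subgroup.center G), Cfsg.IsFrobeniusComplement H ∧ IsMulCommutative H ∧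
      ∀ x ∈ Cfsg.frobeniusKernel H, ∀ y ∈ Cfsg.frobeniusKernel H, x * y = y * x := by
  classical
  have hPQ : ∀ r : ℕ, r.Prime → (r ∈ S) ∨ (r ∉ S) := fun r _ => Classical.em _
  have htype : ∀ g : G, Helper1.ClsGraph.IsPi (fun r => r ∈ S) (Helper1.ClsGraph.idx g) ∨
      Helper1.ClsGraph.IsPi (fun r => r ∉ S) (Helper1.ClsGraph.idx g) := by
    intro g
    by_contra hcon
    push Not at hcon
    obtain ⟨h1, h2⟩ := hcon
    unfold Helper1.ClsGraph.IsPi at h1 h2
    push Not at h1 h2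
    obtain ⟨r, hr, hrd, hrS⟩ := h1
    obtain ⟨r', hr', hrd', hr'S⟩ := h2
    have hne : r' ≠ r := fun h => hrS (h ▸ hr'S)
    have hcop : Nat.Coprime r' r := (Nat.coprime_primes hr' hr).mpr hne
    exact hdisc r' r ⟨hr', g, hrd'⟩ ⟨hr, g, hrd⟩ hr'S hrS
      ⟨g, hcop.mul_dvd_of_dvd_of_dvd hrd' hrd⟩
  obtain ⟨y, hymax⟩ : ∃ y : G, ∀ g : G, Helper1.ClsGraph.idx g ≤ Helper1.ClsGraph.idx y :=
    Finite.exists_max (fun g => Helper1.ClsGraph.idx g)
  obtain ⟨p, hpS, hp, gp, hgp⟩ := hS
  obtain ⟨q, hqS, hq, gq, hgq⟩ := hS'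
  have hgp' : p ∣ Helper1.ClsGraph.idx gp := hgp
  have hgq' : q ∣ Helper1.ClsGraph.idx gq := hgq
  have hgpP : Helper1.ClsGraph.IsPi (fun r => r ∈ S) (Helper1.ClsGraph.idx gp) ∧
      Helper1.ClsGraph.idx gp ≠ 1 := by
    constructor
    · rcases htype gp with h | h
      · exact h
      · exact absurd hpS (h p hp hgp')
    · intro h
      rw [h] at hgp'
      exact hp.ne_one (Nat.dvd_one.mp hgp')
  have hgqQ : Helper1.ClsGraph.IsPi (fun r => r ∉ S) (Helper1.ClsGraph.idx gq) ∧
      Helper1.ClsGraph.idx gq ≠ 1 := by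
    constructor
    · rcases htype gq with h | h
      · exact absurd (h q hq hgq') hqS
      · exact h
    · intro h
      rw [h] at hgq'
      exact hq.ne_one (Nat.dvd_one.mp hgq')
  rcases htype y with hy | hy
  · exact Helper1.ClsGraph.Setup.main (P := fun r => r ∈ S) (Q := fun r => r ∉ S)
      ⟨hPQ, fun r _ h1 h2 => h2 h1, htype, ⟨y, hy, hymax⟩⟩ ⟨gq, hgqQ⟩
  · exact Helper1.ClsGraph.Setup.main (P := fun r => r ∉ S) (Q := fun r => r ∈ S)
      ⟨fun r hr => (hPQ r hr).symm, fun r _ h1 h2 => h1 h2, fun g => (htype g).symm,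
        ⟨y, hy, hymax⟩⟩ ⟨gp, hgpP⟩

end Cfsg.Agent.S4255
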