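import Mathlib
import Cfsg.Statements.S4260

set_option autoImplicit false
open Cfsg

namespace Cfsg.Agent.S4260

/-- Let H be a Hall subgroup of a finite group G (the order of H is coprime to its index) such that x^[G : H] lies in H for every x in G. Then H is normal in G. -/
theorem result {G : Type*} [Group G] [Finite G] (H : Subgroup G) (hHall : (Nat.card H).Coprime H.index)
    (hexp : ∀ x : G, x ^ H.index ∈ H) : H.Normal := by
  constructor
  intro h hh g
  set y := g * h * g⁻¹ with hy
  have h1 : y ^ (Nat.card H) = 1 := by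
    have : h ^ Nat.card H = 1 := by
      have := pow_card_eq_one' (G := H) (x := ⟨h, hh⟩)
      exact congrArg Subtype.val this
    rw [hy, conj_pow, this]; group
  have h2 : y ^ H.index ∈ H := hexp y
  have h3 : ((Nat.gcd (Nat.card H) H.index : ℕ) : ℤ) = (Nat.card H : ℤ) * Nat.gcdA (Nat.card H) H.index + (H.index : ℤ) * Nat.gcdB (Nat.card H) H.index := Nat.gcd_eq_gcd_ab _ _
  rw [Nat.Coprime] at hHall
  rw [hHall] at h3
  have h4 : y = y ^ ((1 : ℕ) : ℤ) := by simp
  rw [h4, h3, zpow_add, zpow_mul, zpow_mul, zpow_natCast, zpow_natCast, h1, one_zpow, one_mul]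
  exact H.zpow_mem h2 _

end Cfsg.Agent.S4260
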