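import Mathlib
import Cfsg.Statements.S4261
import Cfsg.Agent.S0048

set_option autoImplicit false
open Cfsg

namespace Cfsg.Agent.S4261

theorem mem_of_pow_eq_one {G : Type*} [Group G] (M : Subgroup G) (n m : ℕ) (hco : Nat.Coprime m n)
    (hexp : ∀ x : G, x ^ n ∈ M) (z : G) (hz : z ^ m = 1) : z ∈ M := by
  have h3 : ((Nat.gcd m n : ℕ) : ℤ) = (m : ℤ) * Nat.gcdA m n + (n : ℤ) * Nat.gcdB m n :=
    Nat.gcd_eq_gcd_ab _ _
  rw [Nat.Coprime] at hco
  rw [hco] at h3
  have h4 : z = z ^ ((1 : ℕ) : ℤ) := by simp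
  rw [h4, h3, zpow_add, zpow_mul, zpow_mul, zpow_natCast, zpow_natCast, hz, one_zpow, one_mul]
  exact M.zpow_mem (hexp z) _

/-- Let M be a maximal subgroup of a finite solvable group G such that x^[G : M] lies in M for every x in G. Then M is normal in G. -/
theorem result {G : Type*} [Group G] [Finite G] (hG : Group.IsSolvable G) (M : Subgroup G) (hM : IsCoatom M)
    (hexp : ∀ x : G, x ^ M.index ∈ M) : M.Normal := by
  haveI := hG
  obtain ⟨p, k, hp, hk, hpk⟩ := Cfsg.Agent.S0048.result M hM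
  have hp' : p.Prime := Nat.prime_iff.mpr hp
  haveI : Fact p.Prime := ⟨hp'⟩
  set N := M.normalCore with hN
  have hNM : N ≤ M := Subgroup.normalCore_le M
  -- the quotient is a p-group
  have hPG : IsPGroup p (G ⧸ N) := by
    intro g
    obtain ⟨x, rfl⟩ := QuotientGroup.mk_surjective g
    have hox : orderOf x ≠ 0 := (orderOf_pos x).ne'
    obtain ⟨a, m, hm, hxm⟩ := Nat.exists_eq_pow_mul_and_not_dvd hox p hp'.ne_one
    refine ⟨a, ?_⟩
    rw [← QuotientGroup.mk_pow, QuotientGroup.eq_one_iff]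
    have hco : Nat.Coprime m (M.index) := by
      rw [← hpk]
      exact Nat.Coprime.pow_right _ ((Nat.Prime.coprime_iff_not_dvd hp').mpr hm).symm
    have hy : (x ^ (p ^ a)) ^ m = 1 := by
      rw [← pow_mul, ← hxm, pow_orderOf_eq_one]
    show ∀ b : G, b * (x ^ p ^ a) * b⁻¹ ∈ M
    intro b
    apply mem_of_pow_eq_one M M.index m hco hexp
    rw [conj_pow, hy]; group
  haveI : Group.IsNilpotent (G ⧸ N) := hPG.isNilpotent
  have hnc := Group.normalizerCondition_of_isNilpotent (G := G ⧸ N)
  have hsurj : Function.Surjective (QuotientGroup.mk' N) := QuotientGroup.mk'_surjective N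
  have hcomap : (M.map (QuotientGroup.mk' N)).comap (QuotientGroup.mk' N) = M := by
    rw [Subgroup.comap_map_eq, QuotientGroup.ker_mk']
    exact sup_eq_left.mpr hNM
  have hlt : M.map (QuotientGroup.mk' N) < ⊤ := by
    rw [lt_top_iff_ne_top]
    intro htop
    have := congrArg (Subgroup.comap (QuotientGroup.mk' N)) htop
    rw [hcomap, Subgroup.comap_top] at this
    exact hM.1 this
  have h1 := hnc _ hlt
  have h2 : M < Subgroup.normalizer (M : Set G) := by
    have hlt2 := Subgroup.comap_lt_comap_of_surjective hsurj |>.mpr h1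
    rw [hcomap] at hlt2
    have : (Subgroup.normalizer ((M.map (QuotientGroup.mk' N) : Subgroup (G ⧸ N)) : Set (G ⧸ N))).comap (QuotientGroup.mk' N)
        = Subgroup.normalizer (M : Set G) := by
      rw [Subgroup.comap_normalizer_eq_of_surjective _ hsurj, hcomap]
    rw [this] at hlt2
    exact hlt2
  have h3 : Subgroup.normalizer (M : Set G) = ⊤ := hM.2 _ h2
  exact Subgroup.normalizer_eq_top_iff.mp h3

end Cfsg.Agent.S4261
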