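import Mathlib
import Cfsg.Statements.S4262
import Cfsg.Agent.Helper6.MaxCentBasic
import Cfsg.Agent.Helper6.MaxCentFrob
import Cfsg.Agent.Helper6.MaxCentCount

set_option autoImplicit false
open Cfsg

namespace Cfsg.Agent.S4262

open Cfsg.Agent.Helper6.MaxCent in
/-- Let G be a finite group in which the centralizer of every non-central element is a maximal subgroup of G. Then G is solvable. -/
theorem result {G : Type*} [Group G] [Finite G]
    (h : ∀ g : G, g ∉ Subgroup.center G → IsCoatom (Subgroup.centralizer ({g} : Set G))) :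
    Group.IsSolvable G := by
  have hyp : Hyp2 G := h
  by_cases hnorm : ∃ g : G, g ∉ Subgroup.center G ∧
      (Subgroup.centralizer ({g} : Set G)).Normal
  · obtain ⟨g, hg, hn⟩ := hnorm
    exact hyp.solvable_of_normal hg hn
  have hnn : ∀ g : G, g ∉ Subgroup.center G →
      ¬ (Subgroup.centralizer ({g} : Set G)).Normal := fun g hg hn => hnorm ⟨g, hg, hn⟩
  by_cases hp : ∃ p : ℕ, p.Prime ∧ IsPGroup p (G ⧸ Subgroup.center G)
  · obtain ⟨p, hp, hpg⟩ := hp
    have : Fact p.Prime := ⟨hp⟩
    have hnil : Group.IsNilpotent (G ⧸ Subgroup.center G) := hpg.isNilpotent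
    have : Group.IsNilpotent G := Group.of_quotient_center_nilpotent hnil
    infer_instance
  exfalso
  refine CaseB.false ⟨hyp, ?_, ?_⟩
  · intro x hx hab
    exact hyp.false_of_abelian hnn hx hab
  · intro p hpp hpg
    exact hp ⟨p, hpp, hpg⟩

end Cfsg.Agent.S4262
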