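import Mathlib
import Cfsg.Statements.S4263
import Cfsg.Agent.Helper7.Fitting
import Cfsg.Agent.Helper17.Basic
import Cfsg.Agent.S4314

set_option autoImplicit false
open Cfsg

namespace Cfsg.Agent.S4263

open Subgroup
open scoped Pointwise

variable {G : Type*} [Group G]

/-- In a finite nilpotent subgroup `F`, the `|F : K|`-th power of every element lies in `K`. -/
theorem pow_relIndex_mem_of_nilpotent [Finite G] {F : Subgroup G} (hF : Group.IsNilpotent F) :
    ∀ (n : ℕ) (K : Subgroup G), K ≤ F → K.relIndex F = n → ∀ x ∈ F, x ^ n ∈ K := by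
  intro n
  induction n using Nat.strong_induction_on with
  | _ n ih =>
  intro K hKF hn x hx
  by_cases hKeq : K = F
  · rw [hKeq]; exact F.pow_mem hx n
  have hlt : K < F := lt_of_le_of_ne hKF hKeq
  obtain ⟨h, hhF, hhN, hhK⟩ := Cfsg.Agent.S4314.exists_mem_normalizer_not_mem hF hlt
  set K₁ : Subgroup G := F ⊓ normalizer (K : Set G) with hK₁
  have hKK₁ : K ≤ K₁ := le_inf hKF le_normalizer
  have hK₁F : K₁ ≤ F := inf_le_left
  have hmul := relIndex_mul_relIndex K K₁ F hKK₁ hK₁F
  rw [hn] at hmul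
  have hn0 : n ≠ 0 := by
    rw [← hn]; exact Subgroup.index_ne_zero_of_finite
  have ha1 : K.relIndex K₁ ≠ 1 := by
    intro h1
    rw [relIndex_eq_one] at h1
    exact hhK (h1 ⟨hhF, hhN⟩)
  have hb0 : K₁.relIndex F ≠ 0 := Subgroup.index_ne_zero_of_finite
  have ha0 : K.relIndex K₁ ≠ 0 := Subgroup.index_ne_zero_of_finite
  have hblt : K₁.relIndex F < n := by
    rw [← hmul]
    have h2 : 2 ≤ K.relIndex K₁ := by omega
    calc K₁.relIndex F = 1 * K₁.relIndex F := (one_mul _).symm
      _ < K.relIndex K₁ * K₁.relIndex F :=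
        Nat.mul_lt_mul_of_pos_right (by omega) (Nat.pos_of_ne_zero hb0)
  have h1 := ih _ hblt K₁ hK₁F rfl x hx
  have hnorm : (K.subgroupOf K₁).Normal :=
    Subgroup.normal_subgroupOf_of_le_normalizer inf_le_right
  have h2 := Subgroup.pow_index_mem (K.subgroupOf K₁) ⟨x ^ K₁.relIndex F, h1⟩
  rw [mem_subgroupOf] at h2
  rw [← hmul, pow_mul']
  exact h2

/-- for a normal subgroup `F`, `|F : H ⊓ F|` divides `|G : H|` -/
theorem relIndex_dvd_index_of_normal_right [Finite G] (H F : Subgroup G) [F.Normal] :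
    H.relIndex F ∣ H.index := by
  have e1 := Cfsg.Agent.Helper17.relIndex_mul_card_inf H F
  have e2 := Cfsg.Agent.Helper17.relIndex_mul_card_inf H (H ⊔ F)
  rw [inf_of_le_left (le_sup_left : H ≤ H ⊔ F)] at e2
  have e3 := Cfsg.Agent.Helper17.card_sup_mul_card_inf_of_normal F H
  rw [sup_comm, inf_comm] at e3
  have hpos1 : 0 < Nat.card H := Nat.card_pos
  have hpos2 : 0 < Nat.card (H ⊓ F : Subgroup G) := Nat.card_pos
  have heq : H.relIndex (H ⊔ F) = H.relIndex F := by
    apply Nat.eq_of_mul_eq_mul_right (Nat.mul_pos hpos1 hpos2)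
    calc H.relIndex (H ⊔ F) * (Nat.card H * Nat.card (H ⊓ F : Subgroup G))
        = (H.relIndex (H ⊔ F) * Nat.card H) * Nat.card (H ⊓ F : Subgroup G) := by ring
      _ = Nat.card (H ⊔ F : Subgroup G) * Nat.card (H ⊓ F : Subgroup G) := by rw [e2]
      _ = Nat.card F * Nat.card H := e3
      _ = (H.relIndex F * Nat.card (H ⊓ F : Subgroup G)) * Nat.card H := by rw [e1]
      _ = H.relIndex F * (Nat.card H * Nat.card (H ⊓ F : Subgroup G)) := by ring
  rw [← heq]
  exact relIndex_dvd_index_of_le le_sup_left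

/-- Let G be a finite group. An element x lies in the Fitting subgroup F(G) if and only if, for every subgroup H of G, the power x^[G : H] lies in H. -/
theorem result {G : Type*} [Group G] [Finite G] (x : G) :
    x ∈ Cfsg.fittingSubgroup G ↔ ∀ H : Subgroup G, x ^ H.index ∈ H := by
  constructor
  · intro hx H
    set F := Cfsg.fittingSubgroup G with hF
    have hFn : Group.IsNilpotent F := Cfsg.Agent.Helper7.fittingSubgroup_isNilpotent
    have h1 := pow_relIndex_mem_of_nilpotent hFn _ (H ⊓ F) inf_le_right rfl x hx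
    rw [inf_relIndex_right] at h1
    obtain ⟨c, hc⟩ := relIndex_dvd_index_of_normal_right H F
    rw [hc, pow_mul]
    exact H.pow_mem h1.1 c
  · intro hyp
    by_contra hx
    obtain ⟨j, r, k, hr, hord, hnot⟩ :=
      Cfsg.Agent.S4314.exists_pow_primePow (Cfsg.fittingSubgroup G) _ x rfl hx
    have : Fact r.Prime := ⟨hr⟩
    apply hnot
    obtain ⟨P⟩ : Nonempty (Sylow r G) := inferInstance
    have hcore : x ^ j ∈ (P : Subgroup G).normalCore := by
      intro g
      set Q : Sylow r G := g⁻¹ • P with hQ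
      have h1 : (x ^ j) ^ (Q : Subgroup G).index ∈ (Q : Subgroup G) := by
        rw [← pow_mul, mul_comm, pow_mul]
        exact Subgroup.pow_mem _ (hyp _) j
      have h2 : (x ^ j) ^ (r ^ k) ∈ (Q : Subgroup G) := by
        rw [← hord, pow_orderOf_eq_one]; exact Subgroup.one_mem _
      have hco : Nat.Coprime (Q : Subgroup G).index (r ^ k) :=
        Nat.Coprime.pow_right k ((Nat.Prime.coprime_iff_not_dvd hr).mpr Q.not_dvd_index).symm
      have h3 : x ^ j ∈ (Q : Subgroup G) :=
        Cfsg.Agent.S4314.mem_of_pow_mem_of_coprime _ h1 h2 hco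
      rw [hQ, Sylow.coe_subgroup_smul, Subgroup.mem_pointwise_smul_iff_inv_smul_mem, ← map_inv,
        inv_inv] at h3
      exact h3
    have hle : (P : Subgroup G).normalCore ≤ Cfsg.pCore r G :=
      Cfsg.Agent.Helper14.le_pCore r inferInstance (P.isPGroup'.to_le (normalCore_le _))
    exact Cfsg.Agent.Helper7.pCore_le_fittingSubgroup r (hle hcore)

end Cfsg.Agent.S4263
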