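import Cfsg.Statements.S4274
import Mathlib
import Cfsg.Agent.Helper27.S4274RED
import Cfsg.Agent.Helper18.S4274N19
import Cfsg.Agent.Helper9.S4274ORD
import Cfsg.Agent.Helper18.S4274K7980
import Cfsg.Agent.Helper23.S4274K15960
import Cfsg.Agent.Helper18.S4274K58520
import Cfsg.Agent.Helper27.S4274K87780

set_option autoImplicit false
open Cfsg

namespace Cfsg.Agent.S4274

/-- No nonabelian simple group of order a proper divisor of 175560 divisible by 19 all of whose proper
subgroups have normal Sylow 19-subgroups. -/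
theorem no_simple {H : Type*} [Group H] [Finite H] [IsSimpleGroup H]
    (hnc : ¬ IsMulCommutative H) (hd : Nat.card H ∣ 175560) (h19 : 19 ∣ Nat.card H)
    (hlt : Nat.card H ≠ 175560)
    (hmin : ∀ L : Subgroup H, L ≠ ⊤ → ∀ Q : Sylow 19 L, (Q : Subgroup L).Normal) : False := by
  rcases Cfsg.Agent.S4274P.card_cases hnc hd h19 hlt (Cfsg.Agent.S4274P.card_sylow19 hnc hd h19)
    with ⟨hn, h | h | h⟩ | ⟨hn, h | h⟩
  · exact Cfsg.Agent.S4274P.no_simple_7980 hnc h hn
  · exact Cfsg.Agent.S4274P.no_simple_15960 hnc h hn hmin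
  · exact Cfsg.Agent.S4274P.K87780H27.no_simple_87780a' hnc h hn
  · exact Cfsg.Agent.S4274P.no_simple_58520 hnc h hn
  · exact Cfsg.Agent.S4274P.K87780H27.no_simple_87780b' hnc h hn

/-- A finite group of order 175560 = 2³·3·5·7·11·19 is either simple or has a normal Sylow 19-subgroup. -/
theorem result {G : Type*} [Group G] [Finite G] (hG : Nat.card G = 175560) : IsSimpleGroup G ∨ ∀ P : Sylow 19 G, (P : Subgroup G).Normal := by
  rcases Cfsg.Agent.S4274P.RED.main_induction
    (fun H _ _ _ hnc hd h19 hlt hmin => no_simple hnc hd h19 hlt hmin) 175560 G hG dvd_rfl with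
    ⟨_, h⟩ | h
  · exact Or.inl h
  · exact Or.inr h

end Cfsg.Agent.S4274
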