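import Mathlib
import Cfsg.Statements.S4275

set_option autoImplicit false
open Cfsg

namespace Cfsg.Agent.S4275

/-- Let G be a transitive group of permutations of a finite set Ω, let o ∈ Ω, and let α be an automorphism of G. Then α is induced by conjugation by a permutation of Ω normalizing G if and only if the image under α of the stabilizer of o fixes some point of Ω. -/
theorem result {Ω : Type*} [Fintype Ω] (G : Subgroup (Equiv.Perm Ω)) (htr : MulAction.IsPretransitive G Ω) (o : Ω) (α : G ≃* G) : (∃ σ : Equiv.Perm Ω, σ ∈ Subgroup.normalizer (G : Set (Equiv.Perm Ω)) ∧ ∀ g : G, ((α g : G) : Equiv.Perm Ω) = σ * (g : Equiv.Perm Ω) * σ⁻¹) ↔ ∃ ω : Ω, ∀ g ∈ (MulAction.stabilizer G o).map α.toMonoidHom, g • ω = ω := by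
  constructor
  · rintro ⟨σ, -, hσ⟩
    refine ⟨σ o, ?_⟩
    rintro g ⟨h, hh, rfl⟩
    have h1 := hσ h
    show ((α h : G) : Equiv.Perm Ω) (σ o) = σ o
    rw [h1]
    simp only [Equiv.Perm.coe_mul, Function.comp_apply]
    rw [Equiv.Perm.inv_def, Equiv.symm_apply_apply]
    congr 1
  · rintro ⟨ω, hω⟩
    have hex : ∀ x : Ω, ∃ g : G, g • o = x := fun x => MulAction.exists_smul_eq G o x
    choose c hc using hex
    let f : Ω → Ω := fun x => α (c x) • ω
    have hwd : ∀ (g : G), f (g • o) = α g • ω := by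
      intro g
      have h1 : g⁻¹ * c (g • o) ∈ MulAction.stabilizer G o := by
        rw [MulAction.mem_stabilizer_iff, mul_smul, hc, inv_smul_smul]
      have h2 := hω (α (g⁻¹ * c (g • o))) ⟨_, h1, rfl⟩
      rw [map_mul, mul_smul, map_inv, inv_smul_eq_iff] at h2
      exact h2
    have hequiv : ∀ (g : G) (x : Ω), f (g • x) = α g • f x := by
      intro g x
      obtain ⟨h, rfl⟩ := MulAction.exists_smul_eq G o x
      rw [← mul_smul, hwd, hwd, map_mul, mul_smul]
    have hsurj : Function.Surjective f := by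
      intro y
      obtain ⟨h, rfl⟩ := MulAction.exists_smul_eq G ω y
      refine ⟨α.symm h • o, ?_⟩
      rw [hwd, MulEquiv.apply_symm_apply]
    have hbij : Function.Bijective f := ⟨Finite.injective_iff_surjective.mpr hsurj, hsurj⟩
    let σ : Equiv.Perm Ω := Equiv.ofBijective f hbij
    have hσ : ∀ g : G, ((α g : G) : Equiv.Perm Ω) = σ * (g : Equiv.Perm Ω) * σ⁻¹ := by
      intro g
      ext x
      obtain ⟨y, rfl⟩ := hsurj x
      simp only [Equiv.Perm.coe_mul, Function.comp_apply]
      have h1 : σ⁻¹ (f y) = y := by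
        rw [Equiv.Perm.inv_def]; exact (Equiv.ofBijective f hbij).symm_apply_apply y
      rw [h1]
      exact (hequiv g y).symm
    refine ⟨σ, ?_, hσ⟩
    rw [Subgroup.mem_normalizer_iff]
    intro h
    constructor
    · intro hh
      have h1 := hσ ⟨h, hh⟩
      show σ * h * σ⁻¹ ∈ G
      rw [← h1]; exact (α ⟨h, hh⟩).2
    · intro hh
      obtain ⟨g', hg'⟩ := α.surjective ⟨_, hh⟩
      have h1 := hσ g'
      rw [hg'] at h1
      have h2 : h = g' := by simpa using h1
      show h ∈ G
      rw [h2]; exact g'.2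

end Cfsg.Agent.S4275
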