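import Cfsg.Statements.S4277
import Mathlib
import Cfsg.Agent.S0675
import Cfsg.Agent.S4276
import Cfsg.Agent.Helper27.S4277Lib

set_option autoImplicit false
open Cfsg

namespace Cfsg.Agent.S4277

/-- A case of the Schreier conjecture: if a finite simple group G has a subgroup of prime index, then the outer automorphism group of G is solvable. -/
theorem result {G : Type*} [Group G] [Finite G] [IsSimpleGroup G] (H : Subgroup G) (hH : H.index.Prime) : Group.IsSolvable (Cfsg.Out G) := by
  classical
  by_cases hc : ∀ a b : G, a * b = b * a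
  · -- `G` is cyclic of prime order, so `Aut G` is abelian
    letI : CommGroup G := { (inferInstance : Group G) with mul_comm := hc }
    have hcyc : IsCyclic G := IsSimpleGroup.isCyclic
    have hA : Group.IsSolvable (MulAut G) := by
      apply Group.isSolvable_of_comm
      intro a b
      apply (IsCyclic.mulAutMulEquiv G).injective
      rw [map_mul, map_mul, mul_comm]
    infer_instance
  · -- `G` is nonabelian simple: it acts faithfully and doubly transitively on `G ⧸ H`
    have hp : (H.index).Prime := hH
    have : Fintype (G ⧸ H) := Fintype.ofFinite _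
    have hΩ : Fintype.card (G ⧸ H) = H.index := by
      rw [← Nat.card_eq_fintype_card]; rfl
    let φ : G →* Equiv.Perm (G ⧸ H) := MulAction.toPermHom G (G ⧸ H)
    have hφ : Function.Injective φ := by
      rw [← MonoidHom.ker_eq_bot_iff, ← Subgroup.normalCore_eq_ker]
      rcases (H.normalCore_normal).eq_bot_or_eq_top with h | h
      · exact h
      · exfalso
        have hHt : H = ⊤ := top_le_iff.1 (h ▸ H.normalCore_le)
        rw [hHt, Subgroup.index_top] at hH
        exact Nat.not_prime_one hH
    let Γ : Subgroup (Equiv.Perm (G ⧸ H)) := φ.range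
    let e : G ≃* Γ := MonoidHom.ofInjective hφ
    have htr : MulAction.IsPretransitive Γ (G ⧸ H) := ⟨fun x y => by
      obtain ⟨g, hg⟩ := MulAction.exists_smul_eq G x y
      exact ⟨⟨φ g, g, rfl⟩, hg⟩⟩
    have hns : ¬ Group.IsSolvable Γ := by
      intro hs
      have : Group.IsSolvable G := Group.isSolvable_of_isSolvable_injective e.injective
      exact hc (IsSimpleGroup.comm_iff_isSolvable.2 this)
    have h2 : MulAction.IsMultiplyPretransitive Γ (G ⧸ H) 2 :=
      (Cfsg.Agent.S0675.result (hΩ ▸ hp) Γ).resolve_left hns
    obtain ⟨hd, hnd⟩ := Cfsg.Agent.Helper27.S4277Lib.card_dvd_and_not_sq_dvd hp hΩ Γ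
    have hperm : ∀ α : MulAut Γ, Odd (orderOf α) → ∃ σ : Equiv.Perm (G ⧸ H),
        σ ∈ Subgroup.normalizer (Γ : Set (Equiv.Perm (G ⧸ H))) ∧
          ∀ g : Γ, ((α g : Γ) : Equiv.Perm (G ⧸ H)) = σ * (g : Equiv.Perm (G ⧸ H)) * σ⁻¹ := by
      intro α hα
      let o : G ⧸ H := (QuotientGroup.mk 1 : G ⧸ H)
      let K : Subgroup Γ := (MulAction.stabilizer Γ o).map α.toMonoidHom
      have hKcard : Nat.card K * H.index = Nat.card Γ := by
        have h1 : Nat.card K = Nat.card (MulAction.stabilizer Γ o) :=
          Nat.card_congr ((MulAction.stabilizer Γ o).equivMapOfInjective α.toMonoidHom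
            α.injective).symm.toEquiv
        have h3 := MulAction.index_stabilizer Γ o
        rw [MulAction.orbit_eq_univ, Set.ncard_univ, Nat.card_eq_fintype_card, hΩ] at h3
        rw [h1, ← h3, mul_comm]
        exact Subgroup.index_mul_card _
      have hnK : ¬ H.index ∣ Nat.card K := by
        intro hdk
        apply hnd
        rw [← hKcard, sq]
        exact Nat.mul_dvd_mul_right hdk _
      have horb : Nat.card (MulAction.orbit K o) ∣ Nat.card K := by
        have : Fintype K := Fintype.ofFinite _
        have := MulAction.card_orbit_mul_card_stabilizer_eq_card_group K o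
        rw [← Nat.card_eq_fintype_card, ← Nat.card_eq_fintype_card, ← Nat.card_eq_fintype_card] at this
        exact Dvd.intro _ this
      have hk : (Nat.card (MulAction.orbit K o)).Coprime (Fintype.card (G ⧸ H)) := by
        rw [hΩ]
        apply Nat.Coprime.symm
        rw [Nat.Prime.coprime_iff_not_dvd hp]
        exact fun h => hnK (h.trans horb)
      exact (Cfsg.Agent.S4276.result Γ h2 o α hα o hk).1
    have hout : Group.IsSolvable (Cfsg.Out Γ) :=
      Cfsg.Agent.Helper27.S4277Lib.out_isSolvable_of_perm hp hΩ Γ hperm
    exact Cfsg.Agent.Helper27.S4277Lib.out_isSolvable_of_equiv e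

end Cfsg.Agent.S4277
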