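import Cfsg.Statements.S4278
import Cfsg.Agent.Helper6.G2Odd.Invol

set_option autoImplicit false
open Cfsg

namespace Cfsg.Agent.S4278

/-- In the Chevalley group of type G₂ over a finite field of odd order, any two involutions are conjugate. -/
theorem result {F : Type*} [Field F] [Fintype F] (hF : Odd (Fintype.card F)) (s t : ↥(Cfsg.Lie.chevG2.group F)) (hs : orderOf s = 2) (ht : orderOf t = 2) : IsConj s t := by
  classical
  have key : ∀ s : ↥(Cfsg.Lie.chevG2.group F), orderOf s = 2 →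
      ∃ g : ↥(Cfsg.Lie.chevG2.group F), (g * s * g⁻¹ : ↥(Cfsg.Lie.chevG2.group F)).1 =
        Cfsg.Agent.Helper6.G2Odd.z0 F := by
    intro s hs
    have h2 : s * s = 1 := by
      have := pow_orderOf_eq_one s
      rw [hs, pow_two] at this
      exact this
    have h1 : s ≠ 1 := by
      intro h
      rw [h, orderOf_one] at hs
      exact absurd hs (by norm_num)
    have h2' : s.1 * s.1 = 1 := by
      have := congrArg Subtype.val h2
      simpa using this
    have h1' : s.1 ≠ 1 := fun h => h1 (Subtype.ext h)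
    obtain ⟨g, hg, e⟩ := Cfsg.Agent.Helper6.G2Odd.invol_conj_z0 hF s.2 h2' h1'
    exact ⟨⟨g, hg⟩, by simpa using e⟩
  obtain ⟨g₁, e₁⟩ := key s hs
  obtain ⟨g₂, e₂⟩ := key t ht
  have e : g₁ * s * g₁⁻¹ = g₂ * t * g₂⁻¹ := Subtype.ext (e₁.trans e₂.symm)
  rw [isConj_iff]
  refine ⟨g₂⁻¹ * g₁, ?_⟩
  calc g₂⁻¹ * g₁ * s * (g₂⁻¹ * g₁)⁻¹ = g₂⁻¹ * (g₁ * s * g₁⁻¹) * g₂ := by group
    _ = t := by rw [e]; group

end Cfsg.Agent.S4278
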