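import Cfsg.Statements.S4282
import Cfsg.Agent.Helper5.HHTg

set_option autoImplicit false
open Cfsg

namespace Cfsg.Agent.S4282

/-- A critical case behind the Hall–Higman theorem. Let p ≠ q be primes and G a finite group generated by a normal q-subgroup Q and a cyclic p-subgroup generated by x, such that the centralizer of every non-identity element of that cyclic subgroup is its product with the centre of G. Let K be an algebraically closed field of characteristic p and ρ a faithful representation of G on a nonzero finite-dimensional K-space whose restriction to Q is irreducible. If s is the least exponent with (ρ(x) − 1)^s = 0, then |⟨x⟩| − 1 ≤ s ≤ |⟨x⟩|; and if s = |⟨x⟩| − 1 then |⟨x⟩| − 1 is a power of q and Q is non-abelian. -/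
theorem result {G : Type*} [Group G] [Finite G] (p q : ℕ) [Fact p.Prime] [Fact q.Prime] (hpq : p ≠ q) (Q : Subgroup G) [Q.Normal] (hQ : IsPGroup q Q) (x : G) (hx : IsPGroup p (Subgroup.zpowers x)) (hgen : Q ⊔ Subgroup.zpowers x = ⊤) (hC : ∀ y ∈ Subgroup.zpowers x, y ≠ 1 → Subgroup.centralizer ({y} : Set G) = Subgroup.zpowers x ⊔ Subgroup.center G) {K : Type*} [Field K] [IsAlgClosed K] [CharP K p] {V : Type*} [AddCommGroup V] [Module K V] [FiniteDimensional K V] [Nontrivial V] (ρ : Representation K G V) (hfaith : Function.Injective ρ) (hirr : ∀ W : Submodule K V, (∀ g ∈ Q, Submodule.map (ρ g) W ≤ W) → W = ⊥ ∨ W = ⊤) (s : ℕ) (hs : (ρ x - 1) ^ s = 0) (hmin : ∀ k < s, (ρ x - 1) ^ k ≠ 0) : Nat.card (Subgroup.zpowers x) - 1 ≤ s ∧ s ≤ Nat.card (Subgroup.zpowers x) ∧ (s = Nat.card (Subgroup.zpowers x) - 1 → (∃ b : ℕ, Nat.card (Subgroup.zpowers x) - 1 = q ^ b) ∧ ¬ IsMulCommutative Q) := by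
  classical
  have hp := (Fact.out : p.Prime)
  have hq := (Fact.out : q.Prime)
  rw [Nat.card_zpowers]
  obtain ⟨n, hn⟩ := IsPGroup.iff_card.mp hx
  rw [Nat.card_zpowers] at hn
  have hxN : x ^ (p ^ n) = 1 := by rw [← hn]; exact pow_orderOf_eq_one x
  have haN : ρ x ^ (p ^ n) = 1 := by rw [← map_pow, hxN, map_one]
  have hunip : (ρ x - 1) ^ (p ^ n) = 0 := by
    rw [Cfsg.Agent.Helper5.HHT.sub_one_pow_char_pow (K := K) p _ n, haN, sub_self]
  have hsN : s ≤ p ^ n := by
    by_contra hlt
    exact hmin (p ^ n) (by omega) hunip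
  have hs0 : s ≠ 0 := by
    rintro rfl
    rw [pow_zero] at hs
    exact one_ne_zero hs
  rw [hn]
  rcases Nat.eq_zero_or_pos n with rfl | hnpos
  · rw [pow_zero] at hsN ⊢
    refine ⟨by omega, hsN, ?_⟩
    intro h
    omega
  · -- the main case
    have hx1 : x ≠ 1 := by
      rintro rfl
      rw [orderOf_one] at hn
      have : 2 ≤ p ^ n := by
        calc 2 ≤ p := hp.two_le
          _ = p ^ 1 := (pow_one p).symm
          _ ≤ p ^ n := Nat.pow_le_pow_right hp.pos hnpos
      omega
    have ha1 : ρ x ≠ 1 := by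
      intro h
      apply hx1
      apply hfaith
      rw [h, map_one]
    set σ : Representation K Q V := ρ.comp Q.subtype with hσ
    have hirr' : ∀ U : Submodule K V, (∀ g, U.map (σ g) ≤ U) → U = ⊥ ∨ U = ⊤ :=
      fun U hU => hirr U fun g hg => hU ⟨g, hg⟩
    have : Fintype Q := Fintype.ofFinite Q
    have hQK : (Fintype.card Q : K) ≠ 0 := by
      obtain ⟨m, hm⟩ := IsPGroup.iff_card.mp hQ
      rw [← Nat.card_eq_fintype_card, hm, Nat.cast_pow]
      apply pow_ne_zero
      rw [Ne, CharP.cast_eq_zero_iff K p q]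
      intro hdvd
      exact hpq ((Nat.prime_dvd_prime_iff_eq hp hq).mp hdvd)
    have hαN : (MulAut.conjNormal x : MulAut Q) ^ (p ^ n) = 1 := by
      rw [← map_pow, hxN, map_one]
    have ha : ∀ g : Q, ρ x * σ g = σ ((MulAut.conjNormal x : MulAut Q) g) * ρ x := by
      intro g
      show ρ x * ρ g.1 = ρ ((MulAut.conjNormal x : MulAut Q) g).1 * ρ x
      rw [MulAut.conjNormal_apply, ← map_mul, ← map_mul]
      congr 1
      group
    have hsemi : ∀ i, 0 < i → i < p ^ n → ∀ g : Q,
        ((MulAut.conjNormal x : MulAut Q) ^ i) g = g → ∃ c : K, σ g = c • 1 := by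
      intro i hi0 hiN g hg
      have hcomm : x ^ i * g.1 = g.1 * x ^ i := by
        rw [← map_pow] at hg
        have := congrArg Subtype.val hg
        rw [MulAut.conjNormal_apply] at this
        calc x ^ i * g.1 = (x ^ i * g.1 * (x ^ i)⁻¹) * x ^ i := by group
          _ = g.1 * x ^ i := by rw [this]
      exact Cfsg.Agent.Helper5.HHT.semireg_scalar p q hpq Q hQ x n hn hC ρ hfaith hirr
        i hi0 hiN g.1 g.2 hcomm
    obtain ⟨hcore1, hcore2⟩ := Cfsg.Agent.Helper5.HHT.core p σ hirr' hQK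
      (MulAut.conjNormal x : MulAut Q) (ρ x) n hnpos hαN ha haN hsemi ha1 s hs hmin
    refine ⟨hcore1, hsN, ?_⟩
    intro hsN1
    have hdim := hcore2 hsN1
    obtain ⟨b, hb⟩ := Cfsg.Agent.Helper5.HHT.qpower_degree q (Module.finrank K V) Q V σ hQ hirr' le_rfl
    refine ⟨⟨b, by rw [← hdim, hb]⟩, ?_⟩
    intro hcommQ
    have hsc : ∀ g : Q, ∃ c : K, σ g = c • 1 := by
      intro g
      refine Cfsg.Agent.Helper5.HHT.schur σ hirr' (σ g) fun h => ?_
      rw [← map_mul, ← map_mul, mul_comm' g h]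
    have hone := Cfsg.Agent.Helper5.HHT.finrank_eq_one_of_forall_scalar σ hirr' hsc
    have hs1 : s = 1 := by omega
    rw [hs1, pow_one, sub_eq_zero] at hs
    exact ha1 hs

end Cfsg.Agent.S4282
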