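import Mathlib
import Cfsg.Statements.S4283
import Cfsg.Agent.Helper1.Frobenius

set_option autoImplicit false
open Cfsg

namespace Cfsg.Agent.S4283

open Cfsg.Agent.Helper1

theorem mk_mem_map_iff {G : Type*} [Group G] (L : Subgroup G) (hZ : Subgroup.center G ≤ L) (x : G) :
    (QuotientGroup.mk' (Subgroup.center G)) x ∈ L.map (QuotientGroup.mk' (Subgroup.center G)) ↔ x ∈ L := by
  constructor
  · rintro ⟨h, hh, hx⟩
    have h1 : h⁻¹ * x ∈ Subgroup.center G := by
      rw [← QuotientGroup.eq]; exact hx
    have h2 := L.mul_mem hh (hZ h1)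
    simpa using h2
  · intro hx; exact ⟨x, hx, rfl⟩

theorem index_centralizer_conj {G : Type*} [Group G] (g x : G) :
    (Subgroup.centralizer ({g * x * g⁻¹} : Set G)).index = (Subgroup.centralizer ({x} : Set G)).index := by
  have h : Subgroup.centralizer ({g * x * g⁻¹} : Set G) =
      (Subgroup.centralizer ({x} : Set G)).map ((MulAut.conj g : G ≃* G) : G →* G) := by
    ext y
    rw [Subgroup.mem_map, Subgroup.mem_centralizer_singleton_iff]
    constructor
    · intro hy
      refine ⟨g⁻¹ * y * g, ?_, ?_⟩
      · rw [Subgroup.mem_centralizer_singleton_iff]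
        calc g⁻¹ * y * g * x = g⁻¹ * (y * (g * x * g⁻¹)) * g := by group
          _ = g⁻¹ * ((g * x * g⁻¹) * y) * g := by rw [hy]
          _ = x * (g⁻¹ * y * g) := by group
      · simp only [MonoidHom.coe_coe, MulAut.conj_apply]; group
    · rintro ⟨z, hz, rfl⟩
      rw [Subgroup.mem_centralizer_singleton_iff] at hz
      simp only [MonoidHom.coe_coe, MulAut.conj_apply]
      calc g * z * g⁻¹ * (g * x * g⁻¹) = g * (z * x) * g⁻¹ := by group
        _ = g * (x * z) * g⁻¹ := by rw [hz]
        _ = g * x * g⁻¹ * (g * z * g⁻¹) := by group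
  rw [h, Subgroup.index_map_equiv]

/-- Let G be a finite group with centre Z and let K, H be abelian subgroups of G containing Z such that G/Z is a Frobenius group with complement H/Z and kernel K/Z. Then the conjugacy class sizes of G are exactly 1, [G : K] and [G : H], and these two indices are coprime. (This is the converse half of the characterization of finite groups whose conjugacy class sizes are exactly 1, m and n with m and n coprime.) -/
theorem result {G : Type*} [Group G] [Finite G] (K H : Subgroup G) (hZK : Subgroup.center G ≤ K) (hZH : Subgroup.center G ≤ H) (hK : IsMulCommutative K) (hH : IsMulCommutative H) (hFrob : Cfsg.IsFrobeniusComplement (H.map (QuotientGroup.mk' (Subgroup.center G)))) (hker : Cfsg.frobeniusKernel (H.map (QuotientGroup.mk' (Subgroup.center G))) = (K.map (QuotientGroup.mk' (Subgroup.center G)) : Set (G ⧸ Subgroup.center G))) : Set.range (fun x : G => (Subgroup.centralizer ({x} : Set G)).index) = ({1, K.index, H.index} : Set ℕ) ∧ K.index.Coprime H.index := by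
  set Z := Subgroup.center G with hZ
  set π := QuotientGroup.mk' Z with hπ
  have hπ1 : ∀ x : G, π x = 1 ↔ x ∈ Z := fun x => QuotientGroup.eq_one_iff x
  have hmemK : ∀ x, π x ∈ frobeniusKernel (H.map π) ↔ x ∈ K := by
    intro x; rw [hker]; exact mk_mem_map_iff K hZK x
  have hmemH : ∀ x, π x ∈ H.map π ↔ x ∈ H := mk_mem_map_iff H hZH
  have commK : ∀ a ∈ K, ∀ b ∈ K, a * b = b * a := by
    intro a ha b hb
    have h1 := hK.is_comm.comm ⟨a, ha⟩ ⟨b, hb⟩
    exact congrArg Subtype.val h1
  have commH : ∀ a ∈ H, ∀ b ∈ H, a * b = b * a := by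
    intro a ha b hb
    have h1 := hH.is_comm.comm ⟨a, ha⟩ ⟨b, hb⟩
    exact congrArg Subtype.val h1
  have L2 : ∀ x ∈ H, x ∉ Z → Subgroup.centralizer ({x} : Set G) = H := by
    intro x hx hxZ
    apply le_antisymm
    · intro y hy
      rw [Subgroup.mem_centralizer_singleton_iff] at hy
      by_contra hyH
      have hyH' : π y ∉ H.map π := fun h => hyH ((hmemH y).mp h)
      have hxH' : π x ∈ H.map π := (hmemH x).mpr hx
      have h1 : π x = 1 := by
        apply frob_inter' hFrob hyH' hxH'
        rw [← map_inv, ← map_mul, ← map_mul, hy, mul_inv_cancel_right]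
        exact hxH'
      exact hxZ ((hπ1 x).mp h1)
    · intro y hy
      rw [Subgroup.mem_centralizer_singleton_iff]
      exact commH y hy x hx
  have L1 : ∀ x ∈ K, x ∉ Z → Subgroup.centralizer ({x} : Set G) = K := by
    intro x hx hxZ
    apply le_antisymm
    · intro y hy
      rw [Subgroup.mem_centralizer_singleton_iff] at hy
      by_contra hyK
      have hyK' : π y ∉ frobeniusKernel (H.map π) := fun h => hyK ((hmemK y).mp h)
      rw [not_mem_frobeniusKernel_iff] at hyK'
      obtain ⟨hy1, gb, hgb⟩ := hyK'
      obtain ⟨g, rfl⟩ := QuotientGroup.mk'_surjective Z gb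
      have hx1 : π x ≠ 1 := fun h => hxZ ((hπ1 x).mp h)
      by_cases hc : π g * π x * (π g)⁻¹ ∈ H.map π
      · have h1 : π x ∉ frobeniusKernel (H.map π) :=
          (not_mem_frobeniusKernel_iff _ _).mpr ⟨hx1, π g, hc⟩
        exact h1 ((hmemK x).mpr hx)
      · have h1 : π g * π y * (π g)⁻¹ = 1 := by
          apply frob_inter' hFrob hc hgb
          have h2 : π g * π x * (π g)⁻¹ * (π g * π y * (π g)⁻¹) * (π g * π x * (π g)⁻¹)⁻¹
              = π g * π y * (π g)⁻¹ := by
            have hyx : π y * π x = π x * π y := by rw [← map_mul, ← map_mul, hy]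
            calc π g * π x * (π g)⁻¹ * (π g * π y * (π g)⁻¹) * (π g * π x * (π g)⁻¹)⁻¹
                = π g * (π x * π y) * (π x)⁻¹ * (π g)⁻¹ := by group
              _ = π g * (π y * π x) * (π x)⁻¹ * (π g)⁻¹ := by rw [hyx]
              _ = π g * π y * (π g)⁻¹ := by group
          rw [h2]; exact hgb
        apply hy1
        have h3 : π y = (π g)⁻¹ * (π g * π y * (π g)⁻¹) * π g := by group
        rw [h3, h1]; group
    · intro y hy
      rw [Subgroup.mem_centralizer_singleton_iff]
      exact commK y hy x hx
  have L0 : ∀ x ∈ Z, Subgroup.centralizer ({x} : Set G) = ⊤ := by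
    intro x hx
    rw [Subgroup.centralizer_eq_top_iff_subset]
    intro y hy
    rw [Set.mem_singleton_iff] at hy
    rw [hy]; exact hx
  -- existence of suitable elements
  have hexH : ∃ x ∈ H, x ∉ Z := by
    obtain ⟨⟨hb, hhb⟩, hne⟩ := (Subgroup.ne_bot_iff_exists_ne_one).mp hFrob.1
    obtain ⟨h, hh, rfl⟩ := hhb
    refine ⟨h, hh, fun hZ' => hne ?_⟩
    exact Subtype.ext ((hπ1 h).mpr hZ')
  have hidx : (H.map π).index = H.index :=
    Subgroup.index_map_eq H (QuotientGroup.mk'_surjective Z) (by rw [QuotientGroup.ker_mk']; exact hZH)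
  have hidxK : (K.map π).index = K.index :=
    Subgroup.index_map_eq K (QuotientGroup.mk'_surjective Z) (by rw [QuotientGroup.ker_mk']; exact hZK)
  have hcardker : Nat.card (frobeniusKernel (H.map π)) = H.index := by
    rw [frob_card_kernel hFrob, hidx]
  have hHidx_pos : H.index ≠ 0 := Subgroup.index_ne_zero_of_finite
  have hHidx1 : H.index ≠ 1 := by
    rw [← hidx]
    intro h
    exact hFrob.2.1 (Subgroup.index_eq_one.mp h)
  have hexK : ∃ x ∈ K, x ∉ Z := by
    by_contra hcon
    push Not at hcon
    have hsub : Subsingleton (frobeniusKernel (H.map π)) := by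
      constructor
      rintro ⟨a, ha⟩ ⟨b, hb⟩
      obtain ⟨a', rfl⟩ := QuotientGroup.mk'_surjective Z a
      obtain ⟨b', rfl⟩ := QuotientGroup.mk'_surjective Z b
      have ha1 := (hπ1 a').mpr (hcon a' ((hmemK a').mp ha))
      have hb1 := (hπ1 b').mpr (hcon b' ((hmemK b').mp hb))
      apply Subtype.ext
      show π a' = π b'
      rw [ha1, hb1]
    have h1 : Nat.card (frobeniusKernel (H.map π)) ≤ 1 := Finite.card_le_one_iff_subsingleton.mpr hsub
    rw [hcardker] at h1
    omega
  constructor
  · ext n
    simp only [Set.mem_range, Set.mem_insert_iff, Set.mem_singleton_iff]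
    constructor
    · rintro ⟨x, rfl⟩
      by_cases hxZ : x ∈ Z
      · left; rw [L0 x hxZ, Subgroup.index_top]
      · by_cases hxK : x ∈ K
        · right; left; rw [L1 x hxK hxZ]
        · right; right
          have hxK' : π x ∉ frobeniusKernel (H.map π) := fun h => hxK ((hmemK x).mp h)
          rw [not_mem_frobeniusKernel_iff] at hxK'
          obtain ⟨hx1, gb, hgb⟩ := hxK'
          obtain ⟨g, rfl⟩ := QuotientGroup.mk'_surjective Z gb
          have h1 : g * x * g⁻¹ ∈ H := by
            rw [← hmemH, map_mul, map_mul, map_inv]; exact hgb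
          have h2 : g * x * g⁻¹ ∉ Z := by
            intro h
            apply hxZ
            have h3 : x = g⁻¹ * (g * x * g⁻¹) * g := by group
            rw [h3]
            have hn : Z.Normal := by rw [hZ]; infer_instance
            have h4 := hn.conj_mem _ h g⁻¹
            simpa using h4
          rw [← index_centralizer_conj g x, L2 _ h1 h2]
    · rintro (h | h | h)
      · refine ⟨1, ?_⟩
        rw [h, L0 1 Z.one_mem, Subgroup.index_top]
      · obtain ⟨x, hx, hxZ⟩ := hexK
        exact ⟨x, by rw [h, L1 x hx hxZ]⟩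
      · obtain ⟨x, hx, hxZ⟩ := hexH
        exact ⟨x, by rw [h, L2 x hx hxZ]⟩
  · -- coprimality
    have hmod := frob_index_mod hFrob
    rw [hidx] at hmod
    have hcK : Nat.card (K.map π) = H.index := by
      rw [← hcardker, hker]; rfl
    have e1 : Nat.card (K.map π) * (K.map π).index = Nat.card (G ⧸ Z) := Subgroup.card_mul_index _
    have e2 : Nat.card (H.map π) * (H.map π).index = Nat.card (G ⧸ Z) := Subgroup.card_mul_index _
    rw [hcK, hidxK] at e1
    rw [hidx] at e2
    have e3 : K.index = Nat.card (H.map π) := by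
      have : H.index * K.index = H.index * Nat.card (H.map π) := by rw [e1, ← e2, mul_comm]
      exact Nat.eq_of_mul_eq_mul_left (Nat.pos_of_ne_zero hHidx_pos) this
    rw [e3]
    show Nat.gcd _ _ = 1
    rw [Nat.gcd_rec, hmod, ← Nat.gcd_rec]
    exact Nat.gcd_one_right _

end Cfsg.Agent.S4283
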