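import Cfsg.Statements.S4291
import Mathlib
import Cfsg.Agent.S0035
import Cfsg.Agent.Helper1.FrobeniusCompl
import Cfsg.Agent.Helper5.ZasCoreDefs
import Cfsg.Agent.Helper5.ZasLattice
import Cfsg.Agent.Helper5.ZasCoreNS
import Cfsg.Agent.Helper8.ZasCoreUniq
import Cfsg.Agent.Helper18.ZasCoreSolv

set_option autoImplicit false
open Cfsg

namespace Cfsg.Agent.S4291

/-- Let G be a finite group that occurs as a Frobenius complement. Then G has exactly one normal subgroup N such that every Sylow subgroup of N is cyclic and the quotient of G by N is trivial or isomorphic to one of the following five groups: the Klein four-group, the alternating group of degree 4, the symmetric group of degree 4, the alternating group of degree 5, the symmetric group of degree 5. (The quotient is described by a surjective homomorphism with kernel N; the Klein four-group is written as the dihedral group of order 4.) -/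
theorem result {G : Type*} [Group G] [Finite G]
    (hFC : (∃ (L : Type) (_ : Group L) (_ : Finite L) (H : Subgroup L), Cfsg.IsFrobeniusComplement H ∧ Nonempty (G ≃* H))) :
    ∃! N : Subgroup G, N.Normal ∧ (∀ (p : ℕ) [Fact p.Prime] (P : Sylow p N), IsCyclic P) ∧
      (N = ⊤ ∨
        (∃ f : G →* DihedralGroup 2, Function.Surjective f ∧ f.ker = N) ∨
        (∃ f : G →* alternatingGroup (Fin 4), Function.Surjective f ∧ f.ker = N) ∨
        (∃ f : G →* Equiv.Perm (Fin 4), Function.Surjective f ∧ f.ker = N) ∨
        (∃ f : G →* alternatingGroup (Fin 5), Function.Surjective f ∧ f.ker = N) ∨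
        (∃ f : G →* Equiv.Perm (Fin 5), Function.Surjective f ∧ f.ker = N)) := by
  classical
  obtain ⟨L, iL, iF, H, hH, ⟨e⟩⟩ := hFC
  obtain ⟨N₀, hN₀, hN₀n, -⟩ := Cfsg.Agent.S0035.result H hH
  let ι : G →* L := H.subtype.comp e.toMonoidHom
  have hι : Function.Injective ι := H.subtype_injective.comp e.injective
  have hιH : ∀ A : Subgroup G, A.map ι ≤ H := by
    rintro A _ ⟨a, -, rfl⟩
    exact (e a).2
  have hAC : ∀ A : Subgroup G, IsMulCommutative A → IsCyclic A := by
    intro A hA
    have h1 : IsMulCommutative (A.map ι) := Subgroup.map_isMulCommutative A ι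
    have h2 : IsCyclic (A.map ι) :=
      Cfsg.Agent.Helper1.frob_compl_subgroup_cyclic hH hN₀ (A.map ι) (hιH A) (Or.inl h1)
    have eq := Subgroup.equivMapOfInjective A ι hι
    exact isCyclic_of_surjective eq.symm eq.symm.surjective
  obtain ⟨p, hp, V, i1, i2, i3, i4, ⟨S₀⟩⟩ := Cfsg.Agent.Helper5.Zas.exists_setup_of_fc H hH
  have S : Cfsg.Agent.Helper5.Zas.Setup p G V := S₀.ofEquiv e
  have hex : ∃ N : Subgroup G, Cfsg.Agent.Helper5.Zas.IsCore N := by
    by_cases hsol : Group.IsSolvable G
    · exact Cfsg.Agent.Helper5.Zas.exists_isCore_of_solvable hAC hsol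
    · exact Cfsg.Agent.Helper5.Zas.exists_isCore_of_nonsolvable S hAC hsol
  obtain ⟨N, hN⟩ := hex
  exact ⟨N, hN, fun N' hN' => Cfsg.Agent.Helper5.Zas.isCore_unique hAC hN' hN⟩

end Cfsg.Agent.S4291
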