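import Cfsg.Statements.S4292
import Cfsg.Agent.Helper5.FpfM

set_option autoImplicit false
open Cfsg

namespace Cfsg.Agent.S4292

/-- Let A and B be nontrivial finite groups. Then the direct product A × B occurs as a Frobenius complement if and only if A and B both occur as Frobenius complements and the orders of A and B are coprime. -/
theorem result {A B : Type*} [Group A] [Finite A] [Nontrivial A] [Group B] [Finite B] [Nontrivial B] :
    (∃ (L : Type) (_ : Group L) (_ : Finite L) (H : Subgroup L), Cfsg.IsFrobeniusComplement H ∧ Nonempty ((A × B) ≃* H)) ↔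
    ((∃ (L : Type) (_ : Group L) (_ : Finite L) (H : Subgroup L), Cfsg.IsFrobeniusComplement H ∧ Nonempty (A ≃* H)) ∧
     (∃ (L : Type) (_ : Group L) (_ : Finite L) (H : Subgroup L), Cfsg.IsFrobeniusComplement H ∧ Nonempty (B ≃* H)) ∧
     (Nat.card A).Coprime (Nat.card B)) := by
  constructor
  · rintro ⟨L, iG, iF, H, hH, ⟨e⟩⟩
    set φ : A × B →* L := H.subtype.comp e.toMonoidHom with hφ
    have hφinj : Function.Injective φ := H.subtype_injective.comp e.injective
    have hφH : ∀ s, φ s ∈ H := fun s => (e s).2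
    refine ⟨?_, ?_, ?_⟩
    · exact Cfsg.Agent.Helper5.Fpf.fc_of_embedding H hH (φ.comp (MonoidHom.inl A B))
        (hφinj.comp (fun x y h => (Prod.mk.inj h).1)) (fun s => hφH _)
    · exact Cfsg.Agent.Helper5.Fpf.fc_of_embedding H hH (φ.comp (MonoidHom.inr A B))
        (hφinj.comp (fun x y h => (Prod.mk.inj h).2)) (fun s => hφH _)
    · exact Cfsg.Agent.Helper5.Fpf.coprime_of_prod_embedding H hH φ hφinj hφH
  · rintro ⟨hA, hB, hcop⟩
    exact Cfsg.Agent.Helper5.Fpf.fc_prod hA hB hcop

end Cfsg.Agent.S4292
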