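import Mathlib
import Cfsg.Statements.S4293
import Cfsg.Agent.Helper6.FrobSemidirect

set_option autoImplicit false
open Cfsg

namespace Cfsg.Agent.S4293

section setup

variable {D : Type*} [DivisionRing D] (H : Subgroup Dˣ)

/-- the additive span of `H` in `D` -/
def spanR : AddSubgroup D := AddSubgroup.closure (Set.range (fun h : H => ((h : Dˣ) : D)))

theorem coe_mem_spanR (h : H) : ((h : Dˣ) : D) ∈ spanR H := AddSubgroup.subset_closure ⟨h, rfl⟩

theorem mul_mem_spanR (h : H) {r : D} (hr : r ∈ spanR H) : ((h : Dˣ) : D) * r ∈ spanR H := by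
  unfold spanR at hr ⊢
  induction hr using AddSubgroup.closure_induction with
  | mem x hx =>
    obtain ⟨h', rfl⟩ := hx
    exact AddSubgroup.subset_closure ⟨h * h', by simp⟩
  | zero => rw [mul_zero]; exact zero_mem _
  | add x y _ _ hx hy => rw [mul_add]; exact add_mem hx hy
  | neg x _ hx => rw [mul_neg]; exact neg_mem hx

instance instAct : DistribMulAction H (spanR H) where
  smul h r := ⟨((h : Dˣ) : D) * r, mul_mem_spanR H h r.2⟩
  one_smul r := Subtype.ext (by
    show (((1 : H) : Dˣ) : D) * r.1 = r.1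
    simp)
  mul_smul h h' r := Subtype.ext (by
    show (((h * h' : H) : Dˣ) : D) * r.1 = ((h : Dˣ) : D) * (((h' : Dˣ) : D) * r.1)
    simp [mul_assoc])
  smul_zero h := Subtype.ext (by
    show ((h : Dˣ) : D) * 0 = 0
    simp)
  smul_add h r r' := Subtype.ext (by
    show ((h : Dˣ) : D) * (r.1 + r'.1) = ((h : Dˣ) : D) * r.1 + ((h : Dˣ) : D) * r'.1
    rw [mul_add])

theorem smul_coe (h : H) (r : spanR H) : ((h • r : spanR H) : D) = ((h : Dˣ) : D) * (r : D) := rfl

/-- the subgroup `ℓR` -/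
def mulSub (ℓ : ℕ) : AddSubgroup (spanR H) := (nsmulAddMonoidHom ℓ : spanR H →+ spanR H).range

theorem smul_mem_mulSub (ℓ : ℕ) (h : H) {x : spanR H} (hx : x ∈ mulSub H ℓ) :
    h • x ∈ mulSub H ℓ := by
  obtain ⟨r, rfl⟩ := hx
  refine ⟨h • r, ?_⟩
  show ℓ • (h • r) = h • (ℓ • r)
  rw [smul_comm]

theorem le_comap_mulSub (ℓ : ℕ) (h : H) :
    mulSub H ℓ ≤ AddSubgroup.comap (DistribSMul.toAddMonoidHom (spanR H) h) (mulSub H ℓ) :=
  fun _ hx => smul_mem_mulSub H ℓ h hx

/-- the action of one element on the quotient -/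
def rhoFun (ℓ : ℕ) (h : H) : (spanR H ⧸ mulSub H ℓ) →+ (spanR H ⧸ mulSub H ℓ) :=
  QuotientAddGroup.map _ _ (DistribSMul.toAddMonoidHom (spanR H) h) (le_comap_mulSub H ℓ h)

theorem rhoFun_mk (ℓ : ℕ) (h : H) (r : spanR H) :
    rhoFun H ℓ h (r : spanR H ⧸ mulSub H ℓ) = ((h • r : spanR H) : spanR H ⧸ mulSub H ℓ) := rfl

/-- the action on the quotient -/
def rho (ℓ : ℕ) : H →* AddMonoid.End (spanR H ⧸ mulSub H ℓ) where
  toFun h := rhoFun H ℓ h
  map_one' := by
    apply AddMonoidHom.ext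
    intro x
    induction x using QuotientAddGroup.induction_on with
    | H r =>
      rw [rhoFun_mk, one_smul]
      rfl
  map_mul' h h' := by
    apply AddMonoidHom.ext
    intro x
    induction x using QuotientAddGroup.induction_on with
    | H r =>
      show rhoFun H ℓ (h * h') (r : spanR H ⧸ mulSub H ℓ) =
        rhoFun H ℓ h (rhoFun H ℓ h' (r : spanR H ⧸ mulSub H ℓ))
      rw [rhoFun_mk, rhoFun_mk, rhoFun_mk, mul_smul]

@[reducible] def quotAct (ℓ : ℕ) : DistribMulAction H (spanR H ⧸ mulSub H ℓ) :=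
  DistribMulAction.compHom _ (rho H ℓ)

theorem quot_smul_mk (ℓ : ℕ) (h : H) (r : spanR H) :
    letI := quotAct H ℓ
    h • (r : spanR H ⧸ mulSub H ℓ) = ((h • r : spanR H) : spanR H ⧸ mulSub H ℓ) := rfl

end setup


section main

variable {D : Type*} [DivisionRing D] (H : Subgroup Dˣ)

theorem finite_quot [Finite H] (ℓ : ℕ) (hℓ : 0 < ℓ) : Finite (spanR H ⧸ mulSub H ℓ) := by
  haveI : AddGroup.FG (spanR H) := by
    rw [AddGroup.fg_iff_addSubgroup_fg, AddSubgroup.fg_iff]
    exact ⟨_, rfl, Set.finite_range _⟩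
  apply AddCommGroup.finite_of_fg_isAddTorsion
  intro v
  induction v using QuotientAddGroup.induction_on with
  | H r =>
    rw [isOfFinAddOrder_iff_nsmul_eq_zero]
    refine ⟨ℓ, hℓ, ?_⟩
    show ((ℓ • r : spanR H) : spanR H ⧸ mulSub H ℓ) = 0
    rw [QuotientAddGroup.eq_zero_iff]
    exact ⟨r, rfl⟩

/-- geometric sum of a nontrivial element of finite order vanishes -/
theorem geom_zero (x : D) (hx : x ≠ 1) (m : ℕ) (hm : x ^ m = 1) :
    ∑ i ∈ Finset.range m, x ^ i = 0 := by
  have h1 := mul_geom_sum x m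
  rw [hm, sub_self] at h1
  rcases mul_eq_zero.mp h1 with h2 | h2
  · exact absurd (sub_eq_zero.mp h2) hx
  · exact h2

theorem one_not_mem (ℓ : ℕ) (hℓ : ℓ.Prime) [Finite H]
    (hcase : ((ℓ : D) = 0) ∨ (CharZero D)) :
    (⟨1, by simpa using coe_mem_spanR H 1⟩ : spanR H) ∉ mulSub H ℓ := by
  rintro ⟨r₀, hr₀⟩
  have h1 : (ℓ : D) * (r₀ : D) = 1 := by
    have := congrArg (fun x : spanR H => (x : D)) hr₀
    simpa [nsmul_eq_mul] using this
  rcases hcase with h0 | h0
  · rw [h0, zero_mul] at h1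
    exact zero_ne_one h1
  · -- Nakayama
    let N' : Submodule ℤ D := Submodule.span ℤ (Set.range (fun h : H => ((h : Dˣ) : D)))
    have hR : ∀ x : D, x ∈ spanR H → x ∈ N' := by
      intro x hx
      have : (N').toAddSubgroup = spanR H := Submodule.span_int_eq_addSubgroupClosure _
      rw [← this] at hx
      exact hx
    have hfg : N'.FG := Submodule.fg_span (Set.finite_range _)
    have hle : N' ≤ (Ideal.span {(ℓ : ℤ)}) • N' := by
      apply Submodule.span_le.mpr
      rintro x ⟨h, rfl⟩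
      show ((h : Dˣ) : D) ∈ (Ideal.span {(ℓ : ℤ)}) • N'
      have e : ((h : Dˣ) : D) = (ℓ : ℤ) • (((h : Dˣ) : D) * (r₀ : D)) := by
        rw [zsmul_eq_mul, Int.cast_natCast, ← mul_assoc, (Nat.cast_commute ℓ _).eq, mul_assoc, h1,
          mul_one]
      rw [e]
      apply Submodule.smul_mem_smul (Ideal.mem_span_singleton_self _)
      exact hR _ (mul_mem_spanR H h r₀.2)
    obtain ⟨a, ha1, ha2⟩ :=
      Submodule.exists_sub_one_mem_and_smul_eq_zero_of_fg_of_le_smul _ N' hfg hle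
    have h2 := ha2 1 (hR 1 (by simpa using coe_mem_spanR H 1))
    rw [zsmul_eq_mul, mul_one] at h2
    have ha0 : a = 0 := by exact_mod_cast h2
    rw [ha0, Ideal.mem_span_singleton] at ha1
    have h3 : (ℓ : ℤ) ∣ 1 := by
      have : (0 : ℤ) - 1 = -1 := by norm_num
      rw [this] at ha1
      exact (dvd_neg.mp ha1)
    have h4 : ℓ ∣ 1 := by exact_mod_cast h3
    exact hℓ.one_lt.ne' (Nat.dvd_one.mp h4)

/-- A nontrivial finite subgroup of the multiplicative group of a division ring occurs as a Frobenius complement of some finite Frobenius group. -/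
theorem result {D : Type*} [DivisionRing D] (H : Subgroup Dˣ) [Finite H] (hH : H ≠ ⊥) :
    ∃ (L : Type) (_ : Group L) (_ : Finite L) (C : Subgroup L), Cfsg.IsFrobeniusComplement C ∧ Nonempty (H ≃* C) := by
  -- choose ℓ
  obtain ⟨ℓ, hℓ, hcase⟩ : ∃ ℓ : ℕ, ℓ.Prime ∧ (((ℓ : D) = 0) ∨ (CharZero D ∧ ¬ ℓ ∣ Nat.card H)) := by
    obtain ⟨c, hc⟩ := CharP.exists D
    rcases CharP.char_is_prime_or_zero D c with hp | h0
    · exact ⟨c, hp, Or.inl (CharP.cast_eq_zero D c)⟩
    · subst h0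
      haveI := CharP.charP_to_charZero D
      obtain ⟨ℓ, hℓ1, hℓ2⟩ := Nat.exists_infinite_primes (Nat.card H + 1)
      refine ⟨ℓ, hℓ2, Or.inr ⟨inferInstance, fun hd => ?_⟩⟩
      have := Nat.le_of_dvd Nat.card_pos hd
      omega
  let _ := quotAct H ℓ
  haveI : Finite (spanR H ⧸ mulSub H ℓ) := finite_quot H ℓ hℓ.pos
  haveI : Nontrivial H := by
    rw [← Subgroup.nontrivial_iff_ne_bot] at hH
    exact hH
  haveI : Nontrivial (spanR H ⧸ mulSub H ℓ) := by
    refine ⟨⟨((⟨1, by simpa using coe_mem_spanR H 1⟩ : spanR H) : spanR H ⧸ mulSub H ℓ), 0, ?_⟩⟩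
    rw [Ne, QuotientAddGroup.eq_zero_iff]
    exact one_not_mem H ℓ hℓ (hcase.imp id (fun h => h.1))
  apply Cfsg.Agent.Helper6.exists_frobenius_of_fpf'
    (S := H) (V := spanR H ⧸ mulSub H ℓ)
  intro s hs v hv
  have hs1 : ((s : Dˣ) : D) ≠ 1 := by
    intro h
    apply hs
    apply Subtype.ext
    apply Units.ext
    exact h
  induction v using QuotientAddGroup.induction_on with
  | H r =>
  rcases hcase with h0 | ⟨h0, hdvd⟩
  · -- characteristic ℓ
    have h1 : ((s • r : spanR H) : spanR H ⧸ mulSub H ℓ) = (r : spanR H ⧸ mulSub H ℓ) := hv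
    rw [QuotientAddGroup.eq_iff_sub_mem] at h1
    obtain ⟨t, ht⟩ := h1
    have h2 := congrArg (fun x : spanR H => (x : D)) ht
    simp only [nsmulAddMonoidHom_apply, AddSubgroup.coe_nsmul, nsmul_eq_mul, h0, zero_mul,
      AddSubgroup.coe_sub, smul_coe] at h2
    have h3 : (((s : Dˣ) : D) - 1) * (r : D) = 0 := by
      rw [sub_mul, one_mul]; exact h2.symm
    rcases mul_eq_zero.mp h3 with h4 | h4
    · exact absurd (sub_eq_zero.mp h4) hs1
    · have : r = 0 := Subtype.ext h4
      rw [this]; rfl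
  · -- characteristic zero
    set m := orderOf s with hm
    have hmdvd : m ∣ Nat.card H := orderOf_dvd_natCard s
    have hcop : Nat.Coprime m ℓ := by
      rw [Nat.coprime_comm]
      exact (Nat.Prime.coprime_iff_not_dvd hℓ).mpr (fun h => hdvd (h.trans hmdvd))
    set v : spanR H ⧸ mulSub H ℓ := (r : spanR H ⧸ mulSub H ℓ) with hvdef
    have hpow : ∀ i : ℕ, (s ^ i) • v = v := by
      intro i
      induction i with
      | zero => rw [pow_zero, one_smul]
      | succ i ih => rw [pow_succ, mul_smul, hv, ih]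
    have hsum : ∑ i ∈ Finset.range m, (s ^ i) • v = m • v := by
      rw [Finset.sum_congr rfl (fun i _ => hpow i), Finset.sum_const, Finset.card_range]
    have hsum0 : ∑ i ∈ Finset.range m, (s ^ i) • v = 0 := by
      have e1 : ∀ i : ℕ, (s ^ i) • v = (((s ^ i) • r : spanR H) : spanR H ⧸ mulSub H ℓ) := fun i => rfl
      rw [Finset.sum_congr rfl (fun i _ => e1 i)]
      have e2 : ∑ i ∈ Finset.range m, (((s ^ i) • r : spanR H) : spanR H ⧸ mulSub H ℓ) =
          ((∑ i ∈ Finset.range m, (s ^ i) • r : spanR H) : spanR H ⧸ mulSub H ℓ) := by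
        rw [← QuotientAddGroup.mk'_apply, map_sum]
        rfl
      rw [e2]
      have e3 : (∑ i ∈ Finset.range m, (s ^ i) • r : spanR H) = 0 := by
        apply Subtype.ext
        show (spanR H).subtype (∑ i ∈ Finset.range m, (s ^ i) • r) = 0
        rw [map_sum]
        show ∑ i ∈ Finset.range m, (((s ^ i) • r : spanR H) : D) = 0
        have e4 : ∀ i : ℕ, (((s ^ i) • r : spanR H) : D) = ((s : Dˣ) : D) ^ i * (r : D) := by
          intro i
          rw [smul_coe]
          simp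
        rw [Finset.sum_congr rfl (fun i _ => e4 i), ← Finset.sum_mul,
          geom_zero _ hs1 m (by
            have h := pow_orderOf_eq_one s
            have h' : (((s ^ m : H) : Dˣ) : D) = 1 := by rw [← hm] at h; rw [h]; rfl
            rw [Subgroup.coe_pow, Units.val_pow_eq_pow_val] at h'
            exact h'), zero_mul]
      rw [e3]; rfl
    have hmv : m • v = 0 := by rw [← hsum, hsum0]
    have hℓv : ℓ • v = 0 := by
      show ((ℓ • r : spanR H) : spanR H ⧸ mulSub H ℓ) = 0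
      rw [QuotientAddGroup.eq_zero_iff]
      exact ⟨r, rfl⟩
    -- Bezout
    have hb : ((Nat.gcd m ℓ : ℕ) : ℤ) = (m : ℤ) * Nat.gcdA m ℓ + (ℓ : ℤ) * Nat.gcdB m ℓ :=
      Nat.gcd_eq_gcd_ab _ _
    rw [hcop] at hb
    have h6 : ((m : ℤ) * Nat.gcdA m ℓ) • v = 0 := by
      rw [mul_zsmul', natCast_zsmul, hmv, zsmul_zero]
    have h7 : ((ℓ : ℤ) * Nat.gcdB m ℓ) • v = 0 := by
      rw [mul_zsmul', natCast_zsmul, hℓv, zsmul_zero]
    have h8 : v = ((1 : ℕ) : ℤ) • v := by simp
    show v = 0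
    rw [h8, hb, add_zsmul, h6, h7, add_zero]

end main

end Cfsg.Agent.S4293
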