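import Mathlib
import Cfsg.Statements.S4296
import Cfsg.Agent.Helper6.QuatSquare
import Cfsg.Agent.S0040
import Cfsg.Agent.Helper1.FrobeniusThm
import Cfsg.Agent.Helper1.FrobeniusCompl

set_option autoImplicit false
open Cfsg

namespace Cfsg.Agent.S4296

open Cfsg.Agent.Helper6.QuatSquare

/-- a Frobenius complement containing a quaternion configuration has a kernel of odd square
order -/
theorem kernel_odd_square {L : Type*} [Group L] [Finite L] (H : Subgroup L)
    (hF : Cfsg.IsFrobeniusComplement H) (i j : L) (hiH : i ∈ H)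
    (hij : i * i = j * j) (hz2 : (i * i) * (i * i) = 1) (hji : j * i * j⁻¹ = i⁻¹)
    (hz1 : i * i ≠ 1) :
    Odd (Nat.card (Cfsg.frobeniusKernel H)) ∧ IsSquare (Nat.card (Cfsg.frobeniusKernel H)) := by
  classical
  have : Fintype L := Fintype.ofFinite L
  obtain ⟨N, hNset, hNn, hNc⟩ := Cfsg.Agent.Helper1.frobenius_theorem hF
  have hfpf := Cfsg.Agent.Helper1.frob_fpf hF hNset
  have hcard : Nat.card N = Nat.card (Cfsg.frobeniusKernel H) := by
    rw [← hNset]; rfl
  rw [← hcard]
  have hfix : ∀ r ∈ N, (i * i) * r = r * (i * i) → r = 1 := by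
    intro r hr hc
    have h1 := hfpf (i * i) (H.mul_mem hiH hiH) hz1
    have h2 : r ∈ N ⊓ Subgroup.centralizer {i * i} := by
      refine Subgroup.mem_inf.mpr ⟨hr, ?_⟩
      rw [Subgroup.mem_centralizer_singleton_iff]
      exact hc.symm
    rw [h1, Subgroup.mem_bot] at h2
    exact h2
  exact card_isSquare_of_quaternion N i j hij hz2 hji hfix

/-- Let H be a Frobenius complement in a finite group, and suppose some Sylow subgroup of H is not cyclic. Then the number of elements of the Frobenius kernel (the identity together with the elements lying in no conjugate of H) is an odd perfect square. -/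
theorem result {L : Type*} [Group L] [Finite L] (H : Subgroup L) (hF : Cfsg.IsFrobeniusComplement H)
    (hZ : ∃ (p : ℕ) (_ : Fact p.Prime) (P : Sylow p H), ¬ IsCyclic P) :
    Odd (Nat.card (Cfsg.frobeniusKernel H)) ∧ IsSquare (Nat.card (Cfsg.frobeniusKernel H)) := by
  classical
  have : Fintype L := Fintype.ofFinite L
  obtain ⟨N, hNset, hNn, hNc⟩ := Cfsg.Agent.Helper1.frobenius_theorem hF
  have hfpf := Cfsg.Agent.Helper1.frob_fpf hF hNset
  have hN : N ≠ ⊥ := by
    intro hbot
    rw [hbot, Subgroup.isComplement'_bot_left] at hNc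
    exact hF.2.1 hNc
  obtain ⟨p, hp, P, hP⟩ := hZ
  rcases Cfsg.Agent.S0040.result N H hNc hN hfpf p P with hcyc | ⟨n, ⟨e⟩⟩
  · exact absurd hcyc hP
  · have hn0 : n ≠ 0 := by
      rintro rfl
      apply hP
      have := QuaternionGroup.quaternionGroup_one_isCyclic
      exact isCyclic_of_surjective e.symm.toMonoidHom e.symm.surjective
    obtain ⟨n', rfl⟩ := Nat.exists_eq_succ_of_ne_zero hn0
    obtain ⟨ia, ja, h1, h2, h3, h4⟩ :=
      quat_elems (2 ^ (n' + 1)) (2 ^ n') (by rw [pow_succ]; ring) (by positivity)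
    let f : QuaternionGroup (2 ^ (n' + 1)) →* L :=
      (H.subtype.comp (P : Subgroup H).subtype).comp e.symm.toMonoidHom
    have hfinj : Function.Injective f := by
      intro x y hxy
      apply e.symm.injective
      apply Subtype.ext
      apply Subtype.ext
      exact hxy
    refine kernel_odd_square H hF (f ia) (f ja) ?_ ?_ ?_ ?_ ?_
    · exact ((e.symm ia : P) : H).2
    · rw [← map_mul, ← map_mul, h1]
    · rw [← map_mul, ← map_mul, h2, map_one]
    · rw [← map_inv, ← map_mul, ← map_mul, h3, map_inv]
    · rw [← map_mul]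
      intro hcon
      rw [← map_one f] at hcon
      exact h4 (hfinj hcon)

end Cfsg.Agent.S4296
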