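import Mathlib
import Cfsg.Statements.S4295
import Cfsg.Agent.Helper6.QuatLift
import Cfsg.Agent.Helper6.FrobSemidirect
import Cfsg.Agent.Helper1.Frobenius
import Cfsg.Agent.S4296

set_option autoImplicit false
open Cfsg

namespace Cfsg.Agent.S4295

open Cfsg.Agent.Helper6 Cfsg.Agent.Helper6.QuatLift Cfsg.Agent.Helper6.QuatSquare

/-- product of two actions by automorphisms -/
def prodHom {Q W₁ W₂ : Type*} [Group Q] [Group W₁] [Group W₂] (φ₁ : Q →* MulAut W₁)
    (φ₂ : Q →* MulAut W₂) : Q →* MulAut (W₁ × W₂) where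
  toFun g := MulEquiv.prodCongr (φ₁ g) (φ₂ g)
  map_one' := by
    apply MulEquiv.ext
    intro w
    rw [map_one, map_one]
    rfl
  map_mul' g h := by
    apply MulEquiv.ext
    intro w
    rw [map_mul, map_mul]
    rfl

theorem prodHom_apply {Q W₁ W₂ : Type*} [Group Q] [Group W₁] [Group W₂] (φ₁ : Q →* MulAut W₁)
    (φ₂ : Q →* MulAut W₂) (g : Q) (w : W₁ × W₂) :
    prodHom φ₁ φ₂ g w = (φ₁ g w.1, φ₂ g w.2) := rfl

/-- `Q₈`-modules of every odd square order on which the central involution acts by inversion -/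
theorem exists_module : ∀ k : ℕ, Odd k →
    ∃ (W : Type) (_ : CommGroup W) (_ : Finite W) (φ : QuaternionGroup 2 →* MulAut W),
      (∀ w, φ (QuaternionGroup.a 2) w = w⁻¹) ∧ Nat.card W = k * k := by
  intro k
  induction k using Nat.strong_induction_on with
  | _ k ih =>
  intro hodd
  by_cases hk1 : k = 1
  · subst hk1
    exact ⟨Unit, inferInstance, inferInstance, 1, fun w => rfl, by simp⟩
  have hp : (k.minFac).Prime := Nat.minFac_prime hk1
  obtain ⟨k', hk'⟩ := Nat.minFac_dvd k
  set p := k.minFac with hpdef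
  have : Fact p.Prime := ⟨hp⟩
  have hoddk' : Odd k' := by
    rw [hk', Nat.odd_mul] at hodd
    exact hodd.2
  have hkpos : 0 < k := hodd.pos
  have hk'pos : 0 < k' := hoddk'.pos
  have hlt : k' < k := by
    rw [hk']
    calc k' = 1 * k' := (one_mul _).symm
      _ < p * k' := Nat.mul_lt_mul_of_pos_right hp.one_lt hk'pos
  obtain ⟨W', cg, fin, φ', hφ', hcard'⟩ := ih k' hlt hoddk'
  obtain ⟨a, b, hab⟩ := ZMod.sq_add_sq p (-1)
  have hab' : a * a + b * b = -1 := by rw [← pow_two, ← pow_two]; exact hab
  refine ⟨Multiplicative (ZMod p × ZMod p) × W', inferInstance, inferInstance,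
    prodHom (quatHom a b hab') φ', ?_, ?_⟩
  · intro w
    rw [prodHom_apply, quatHom_center, hφ']
    rfl
  · rw [Nat.card_prod, hcard']
    have : Nat.card (Multiplicative (ZMod p × ZMod p)) = p * p := by
      show Nat.card (ZMod p × ZMod p) = p * p
      rw [Nat.card_prod, Nat.card_zmod]
    rw [this, hk']
    ring

theorem quat_sq : ∀ s : QuaternionGroup 2, s ≠ 1 →
    s * s = QuaternionGroup.a 2 ∨ s = QuaternionGroup.a 2 := by decide

theorem eq_one_of_mul_self_of_odd {W : Type*} [Group W] [Finite W] (hodd : Odd (Nat.card W))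
    {w : W} (hw : w * w = 1) : w = 1 := by
  have h1 : orderOf w ∣ 2 := orderOf_dvd_of_pow_eq_one (by rw [pow_two]; exact hw)
  have h2 : orderOf w ∣ Nat.card W := orderOf_dvd_natCard w
  have h3 : orderOf w ∣ Nat.gcd 2 (Nat.card W) := Nat.dvd_gcd h1 h2
  have h4 : Nat.gcd 2 (Nat.card W) = 1 := Nat.coprime_two_left.mpr hodd
  rw [h4, Nat.dvd_one] at h3
  exact orderOf_eq_one_iff.mp h3

/-- the forward direction -/
theorem forward (m : ℕ) (L : Type) [Group L] [Finite L] (H : Subgroup L)
    (hF : Cfsg.IsFrobeniusComplement H) (e : H ≃* QuaternionGroup 2)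
    (hm : Nat.card (Cfsg.frobeniusKernel H) = m) : Odd m ∧ IsSquare m ∧ 1 < m := by
  obtain ⟨ia, ja, h1, h2, h3, h4⟩ := quat_elems 2 1 rfl (by norm_num)
  let f : QuaternionGroup 2 →* L := H.subtype.comp e.symm.toMonoidHom
  have hfinj : Function.Injective f := by
    intro x y hxy
    apply e.symm.injective
    apply Subtype.ext
    exact hxy
  have hos := Cfsg.Agent.S4296.kernel_odd_square H hF (f ia) (f ja) (e.symm ia).2
    (by rw [← map_mul, ← map_mul, h1])
    (by rw [← map_mul, ← map_mul, h2, map_one])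
    (by rw [← map_inv, ← map_mul, ← map_mul, h3, map_inv])
    (by
      rw [← map_mul]
      intro hcon
      rw [← map_one f] at hcon
      exact h4 (hfinj hcon))
  rw [hm] at hos
  refine ⟨hos.1, hos.2, ?_⟩
  rw [← hm, Cfsg.Agent.Helper1.frob_card_kernel hF]
  have h0 : H.index ≠ 0 := Subgroup.index_ne_zero_of_finite
  have h1' : H.index ≠ 1 := fun h => hF.2.1 (Subgroup.index_eq_one.mp h)
  omega

/-- the backward direction -/
theorem backward (m : ℕ) (hodd : Odd m) (hsq : IsSquare m) (h1 : 1 < m) :
    ∃ (L : Type) (_ : Group L) (_ : Finite L) (H : Subgroup L), Cfsg.IsFrobeniusComplement H ∧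
        Nonempty (H ≃* QuaternionGroup 2) ∧ Nat.card (Cfsg.frobeniusKernel H) = m := by
  obtain ⟨r, rfl⟩ := hsq
  have hr : Odd r := (Nat.odd_mul.mp hodd).1
  obtain ⟨W, cg, fin, φ, hφ, hcard⟩ := exists_module r hr
  have hWodd : Odd (Nat.card W) := by rw [hcard]; exact hodd
  have hnt : Nontrivial W := by
    rw [← Finite.one_lt_card_iff_nontrivial, hcard]; exact h1
  let _ : MulDistribMulAction (QuaternionGroup 2) W := MulDistribMulAction.compHom W φ
  have hsmul : ∀ (s : QuaternionGroup 2) (w : W), s • w = φ s w := fun s w => rfl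
  have hfpf : ∀ s : QuaternionGroup 2, s ≠ 1 → ∀ w : W, s • w = w → w = 1 := by
    intro s hs w hw
    have hz : (QuaternionGroup.a 2 : QuaternionGroup 2) • w = w := by
      rcases quat_sq s hs with h | h
      · rw [← h, mul_smul, hw, hw]
      · rw [← h]; exact hw
    rw [hsmul, hφ] at hz
    apply eq_one_of_mul_self_of_odd hWodd
    calc w * w = w⁻¹ * w := by rw [hz]
      _ = 1 := inv_mul_cancel w
  have hF := frob_semidirect hfpf
  have hfinL : Finite (W ⋊[MulDistribMulAction.toMulAut (QuaternionGroup 2) W] QuaternionGroup 2) :=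
    Finite.of_equiv _ SemidirectProduct.equivProd.symm
  refine ⟨W ⋊[MulDistribMulAction.toMulAut (QuaternionGroup 2) W] QuaternionGroup 2, inferInstance,
    hfinL, _, hF, ⟨(MonoidHom.ofInjective SemidirectProduct.inr_injective).symm⟩, ?_⟩
  rw [Cfsg.Agent.Helper1.frob_card_kernel hF]
  set H := (SemidirectProduct.inr :
    QuaternionGroup 2 →* W ⋊[MulDistribMulAction.toMulAut (QuaternionGroup 2) W]
      QuaternionGroup 2).range with hH
  have h2 := H.index_mul_card
  have h3 : Nat.card H = Nat.card (QuaternionGroup 2) :=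
    (Nat.card_congr (MonoidHom.ofInjective SemidirectProduct.inr_injective).toEquiv).symm
  have h4 : Nat.card (W ⋊[MulDistribMulAction.toMulAut (QuaternionGroup 2) W]
      QuaternionGroup 2) = Nat.card W * Nat.card (QuaternionGroup 2) := by
    rw [Nat.card_congr SemidirectProduct.equivProd, Nat.card_prod]
  rw [h3, h4] at h2
  have hpos : 0 < Nat.card (QuaternionGroup 2) := Nat.card_pos
  rw [← hcard]
  exact Nat.eq_of_mul_eq_mul_right hpos h2

/-- For a natural number m the following are equivalent: (a) some finite group has a Frobenius complement isomorphic to the quaternion group of order 8 whose Frobenius kernel (the identity together with the elements lying in no conjugate of the complement) has exactly m elements; (b) m is an odd perfect square greater than 1. -/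
theorem result (m : ℕ) :
    (∃ (L : Type) (_ : Group L) (_ : Finite L) (H : Subgroup L), Cfsg.IsFrobeniusComplement H ∧
        Nonempty (H ≃* QuaternionGroup 2) ∧ Nat.card (Cfsg.frobeniusKernel H) = m) ↔
    (Odd m ∧ IsSquare m ∧ 1 < m) := by
  constructor
  · rintro ⟨L, _, _, H, hF, ⟨e⟩, hm⟩
    exact forward m L H hF e hm
  · rintro ⟨hodd, hsq, h1⟩
    exact backward m hodd hsq h1

end Cfsg.Agent.S4295
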