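import Mathlib
import Cfsg.Statements.S4297
import Cfsg.Agent.Helper6.FrobSemidirect

set_option autoImplicit false
open Cfsg

namespace Cfsg.Agent.S4297

/-- a "character" of `ZMod (2n)` with value `-1` at `n`. -/
structure QChar (n : ℕ) (F : Type*) [Field F] where
  χ : ZMod (2 * n) → F
  map_zero : χ 0 = 1
  map_add : ∀ i j, χ (i + j) = χ i * χ j
  map_n : χ (n : ZMod (2 * n)) = -1

variable {F : Type*} [Field F] {n : ℕ}

theorem QChar.map_neg_mul (c : QChar n F) (i : ZMod (2 * n)) : c.χ (-i) * c.χ i = 1 := by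
  rw [← c.map_add, neg_add_cancel, c.map_zero]

theorem QChar.map_neg_n (c : QChar n F) : c.χ (-(n : ZMod (2 * n))) = -1 := by
  have h := c.map_neg_mul (n : ZMod (2 * n))
  rw [c.map_n] at h
  have : c.χ (-(n : ZMod (2 * n))) = -(c.χ (-(n : ZMod (2 * n))) * -1) := by ring
  rw [this, h]

/-- the action of the quaternion group on `F × F`. -/
def qsmul (c : QChar n F) : QuaternionGroup n → F × F → F × F
  | .a i, w => (c.χ i * w.1, c.χ (-i) * w.2)
  | .xa i, w => (-(c.χ (-i) * w.2), c.χ i * w.1)

@[reducible] def qAction (c : QChar n F) : DistribMulAction (QuaternionGroup n) (F × F) where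
  smul g w := qsmul c g w
  one_smul w := by
    show qsmul c (QuaternionGroup.a 0) w = w
    simp only [qsmul, neg_zero, c.map_zero, one_mul]
  mul_smul g h w := by
    show qsmul c (g * h) w = qsmul c g (qsmul c h w)
    rcases g with i | i <;> rcases h with j | j
    · simp only [QuaternionGroup.a_mul_a, qsmul]
      have e1 : -(i + j) = -i + -j := by ring
      rw [e1, c.map_add, c.map_add]
      ext <;> simp only [] <;> ring
    · simp only [QuaternionGroup.a_mul_xa, qsmul]
      have e1 : -(j - i) = i + -j := by ring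
      have e2 : j - i = -i + j := by ring
      rw [e1, e2, c.map_add, c.map_add]
      ext <;> simp only [] <;> ring
    · simp only [QuaternionGroup.xa_mul_a, qsmul]
      have e1 : -(i + j) = -i + -j := by ring
      rw [e1, c.map_add, c.map_add]
      ext <;> simp only [] <;> ring
    · simp only [QuaternionGroup.xa_mul_xa, qsmul]
      have e1 : -((n : ZMod (2 * n)) + j - i) = -(n : ZMod (2 * n)) + (i + -j) := by ring
      have e2 : (n : ZMod (2 * n)) + j - i = (n : ZMod (2 * n)) + (-i + j) := by ring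
      rw [e1, e2, c.map_add, c.map_add, c.map_add, c.map_add, c.map_n, c.map_neg_n]
      ext <;> simp only [] <;> ring
  smul_zero g := by
    show qsmul c g 0 = 0
    rcases g with i | i <;> simp [qsmul]
  smul_add g w w' := by
    show qsmul c g (w + w') = qsmul c g w + qsmul c g w'
    rcases g with i | i <;> simp only [qsmul, Prod.fst_add, Prod.snd_add] <;>
      ext <;> simp only [Prod.fst_add, Prod.snd_add] <;> ring

theorem qfpf (hn : n ≠ 0) (c : QChar n F) (hinj : ∀ i, c.χ i = 1 → i = 0) (g : QuaternionGroup n) (hg : g ≠ 1)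
    (w : F × F) (hw : qsmul c g w = w) : w = 0 := by
  rcases g with i | i
  · have hi : i ≠ 0 := by
      rintro rfl
      exact hg rfl
    have hi' : -i ≠ 0 := by simpa using hi
    simp only [qsmul] at hw
    have h1 : c.χ i * w.1 = w.1 := congrArg Prod.fst hw
    have h2 : c.χ (-i) * w.2 = w.2 := congrArg Prod.snd hw
    have h3 : (c.χ i - 1) * w.1 = 0 := by rw [sub_mul, one_mul, h1, sub_self]
    have h4 : (c.χ (-i) - 1) * w.2 = 0 := by rw [sub_mul, one_mul, h2, sub_self]
    have h5 : w.1 = 0 := by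
      rcases mul_eq_zero.mp h3 with h | h
      · exact absurd (hinj i (sub_eq_zero.mp h)) hi
      · exact h
    have h6 : w.2 = 0 := by
      rcases mul_eq_zero.mp h4 with h | h
      · exact absurd (hinj (-i) (sub_eq_zero.mp h)) hi'
      · exact h
    ext
    · exact h5
    · exact h6
  · simp only [qsmul] at hw
    have h1 : -(c.χ (-i) * w.2) = w.1 := congrArg Prod.fst hw
    have h2 : c.χ i * w.1 = w.2 := congrArg Prod.snd hw
    have h3 : w.1 = -w.1 := by
      calc w.1 = -(c.χ (-i) * (c.χ i * w.1)) := by rw [h2, h1]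
        _ = -((c.χ (-i) * c.χ i) * w.1) := by ring
        _ = -w.1 := by rw [c.map_neg_mul, one_mul]
    -- -1 ≠ 1 in F
    have hne : (-1 : F) ≠ 1 := by
      intro h
      have hn0 := hinj (n : ZMod (2 * n)) (by rw [c.map_n, h])
      rw [ZMod.natCast_eq_zero_iff] at hn0
      have := Nat.le_of_dvd (Nat.pos_of_ne_zero hn) hn0
      omega
    have h5 : w.1 = 0 := by
      have h4 : ((-1 : F) - 1) * w.1 = 0 := by
        have : ((-1 : F) - 1) * w.1 = -w.1 - w.1 := by ring
        rw [this, ← h3, sub_self]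
      rcases mul_eq_zero.mp h4 with h | h
      · exact absurd (sub_eq_zero.mp h) hne
      · exact h
    ext
    · exact h5
    · show w.2 = 0
      rw [← h2, h5, mul_zero]


/-- For every n ≥ 2 the dicyclic group of order 4n (generated by an element a of order 2n and an element x with x² = aⁿ and x a x⁻¹ = a⁻¹) occurs as a Frobenius complement of some finite Frobenius group. -/
theorem result (n : ℕ) (hn : 2 ≤ n) :
    ∃ (L : Type) (_ : Group L) (_ : Finite L) (H : Subgroup L), Cfsg.IsFrobeniusComplement H ∧ Nonempty (H ≃* QuaternionGroup n) := by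
  have hn0 : n ≠ 0 := by omega
  haveI : NeZero n := ⟨hn0⟩
  haveI : NeZero (2 * n) := ⟨by omega⟩
  obtain ⟨p, hp, -, hpn⟩ := Nat.exists_prime_gt_modEq_one 0 (show 2 * n ≠ 0 by omega)
  haveI : Fact p.Prime := ⟨hp⟩
  have hcard : Nat.card (ZMod p)ˣ = p - 1 := by
    rw [Nat.card_eq_fintype_card, ZMod.card_units_eq_totient, Nat.totient_prime hp]
  have hdvd : 2 * n ∣ p - 1 := (Nat.modEq_iff_dvd' hp.one_le).mp hpn.symm
  obtain ⟨g, hg⟩ := IsCyclic.exists_generator (α := (ZMod p)ˣ)
  have hog : orderOf g = p - 1 := by rw [orderOf_eq_card_of_forall_mem_zpowers hg, hcard]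
  obtain ⟨m, hm⟩ := hdvd
  have hp1 : 0 < p - 1 := by have := hp.two_le; omega
  have hm0 : m ≠ 0 := by
    rintro rfl
    rw [mul_zero] at hm; omega
  have hoζ' : orderOf (g ^ m) = 2 * n := by
    rw [orderOf_pow_of_dvd hm0 (by rw [hog, hm]; exact dvd_mul_left m (2 * n)), hog, hm]
    exact Nat.mul_div_cancel _ (Nat.pos_of_ne_zero hm0)
  set ζ : ZMod p := ((g ^ m : (ZMod p)ˣ) : ZMod p) with hζ
  have hoζ : orderOf ζ = 2 * n := by rw [hζ, orderOf_units, hoζ']
  have hζ2n : ζ ^ (2 * n) = 1 := by rw [← hoζ]; exact pow_orderOf_eq_one ζ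
  -- the character
  have hadd : ∀ i j : ZMod (2 * n), ζ ^ (i + j).val = ζ ^ i.val * ζ ^ j.val := by
    intro i j
    have hmod : ∀ k, ζ ^ (k % (2 * n)) = ζ ^ k := by
      intro k
      have h1 := pow_mod_orderOf ζ k
      rwa [hoζ] at h1
    rw [ZMod.val_add, ← pow_add, hmod]
  have hnval : ((n : ZMod (2 * n))).val = n := by
    rw [ZMod.val_natCast]
    exact Nat.mod_eq_of_lt (by omega)
  have hζn : ζ ^ n = -1 := by
    have h1 : ζ ^ n * ζ ^ n = 1 := by rw [← pow_add, ← two_mul, hζ2n]
    rcases mul_self_eq_one_iff.mp h1 with h | h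
    · exfalso
      have h2 := orderOf_dvd_of_pow_eq_one h
      rw [hoζ] at h2
      have := Nat.le_of_dvd (Nat.pos_of_ne_zero hn0) h2
      omega
    · exact h
  let c : QChar n (ZMod p) :=
    { χ := fun i => ζ ^ i.val
      map_zero := by simp
      map_add := hadd
      map_n := by
        show ζ ^ ((n : ZMod (2 * n))).val = -1
        rw [hnval, hζn] }
  have hinj : ∀ i, c.χ i = 1 → i = 0 := by
    intro i hi
    have h1 : ζ ^ i.val = 1 := hi
    have h2 := orderOf_dvd_of_pow_eq_one h1
    rw [hoζ] at h2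
    have h3 : i.val < 2 * n := ZMod.val_lt i
    have h4 : i.val = 0 := Nat.eq_zero_of_dvd_of_lt h2 h3
    exact (ZMod.val_eq_zero i).mp h4
  let _ := qAction c
  have hfpf : ∀ s : QuaternionGroup n, s ≠ 1 → ∀ v : ZMod p × ZMod p, s • v = v → v = 0 :=
    fun s hs v hv => qfpf hn0 c hinj s hs v hv
  obtain ⟨L, iG, iF, H, hH, ⟨e2⟩⟩ := Cfsg.Agent.Helper6.exists_frobenius_of_fpf hfpf
  exact ⟨L, iG, iF, H, hH, ⟨e2.symm⟩⟩

end Cfsg.Agent.S4297
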