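import Mathlib
import Cfsg.Statements.S4298
import Cfsg.Agent.Helper6.FrobSemidirect

set_option autoImplicit false
open Cfsg

namespace Cfsg.Agent.S4298

/-- lookup table of an embedding `SL(2,3) → SL(2,5)`; the index of `!![a,b;c,d]` is
`27a+9b+3c+d`. -/
def tab : ℕ → (ZMod 5 × ZMod 5 × ZMod 5 × ZMod 5)
  | 15 => (0, 1, 4, 0)
  | 16 => (4, 1, 2, 2)
  | 17 => (1, 3, 4, 3)
  | 21 => (0, 4, 1, 0)
  | 22 => (4, 2, 1, 2)
  | 23 => (1, 4, 3, 3)
  | 28 => (1, 0, 0, 1)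
  | 31 => (1, 1, 2, 3)
  | 34 => (3, 4, 3, 1)
  | 37 => (1, 2, 1, 3)
  | 41 => (2, 0, 0, 3)
  | 42 => (2, 3, 4, 4)
  | 46 => (3, 3, 4, 1)
  | 48 => (2, 4, 3, 4)
  | 53 => (0, 3, 3, 0)
  | 56 => (4, 0, 0, 4)
  | 59 => (2, 1, 2, 4)
  | 62 => (4, 4, 3, 2)
  | 65 => (2, 2, 1, 4)
  | 67 => (0, 2, 2, 0)
  | 69 => (3, 1, 2, 1)
  | 74 => (4, 3, 4, 2)
  | 75 => (3, 2, 1, 1)
  | 79 => (3, 0, 0, 2)
  | _ => (1, 0, 0, 1)

def gg (a b c d : ZMod 3) : ZMod 5 × ZMod 5 × ZMod 5 × ZMod 5 :=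
  tab (a.val * 27 + b.val * 9 + c.val * 3 + d.val)

def mul4 (x y : ZMod 5 × ZMod 5 × ZMod 5 × ZMod 5) : ZMod 5 × ZMod 5 × ZMod 5 × ZMod 5 :=
  (x.1 * y.1 + x.2.1 * y.2.2.1, x.1 * y.2.1 + x.2.1 * y.2.2.2,
    x.2.2.1 * y.1 + x.2.2.2 * y.2.2.1, x.2.2.1 * y.2.1 + x.2.2.2 * y.2.2.2)

set_option maxRecDepth 100000 in
theorem gg_mul : ∀ a b c d a' b' c' d' : ZMod 3, a * d - b * c = 1 → a' * d' - b' * c' = 1 →
    gg (a * a' + b * c') (a * b' + b * d') (c * a' + d * c') (c * b' + d * d') =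
      mul4 (gg a b c d) (gg a' b' c' d') := by
  decide +kernel

set_option maxRecDepth 100000 in
theorem gg_fpf : ∀ a b c d : ZMod 3, a * d - b * c = 1 → ¬ (a = 1 ∧ b = 0 ∧ c = 0 ∧ d = 1) →
    ∀ u v : ZMod 5, (gg a b c d).1 * u + (gg a b c d).2.1 * v = u →
      (gg a b c d).2.2.1 * u + (gg a b c d).2.2.2 * v = v → u = 0 ∧ v = 0 := by
  decide +kernel


abbrev SL23 := Matrix.SpecialLinearGroup (Fin 2) (ZMod 3)

/-- image of an element of `SL(2,3)` -/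
def img (A : SL23) : ZMod 5 × ZMod 5 × ZMod 5 × ZMod 5 :=
  gg (A.1 0 0) (A.1 0 1) (A.1 1 0) (A.1 1 1)

theorem det_eq (A : SL23) : A.1 0 0 * A.1 1 1 - A.1 0 1 * A.1 1 0 = 1 := by
  have h := A.2
  rw [Matrix.det_fin_two] at h
  exact h

theorem img_mul (A B : SL23) : img (A * B) = mul4 (img A) (img B) := by
  have h := gg_mul (A.1 0 0) (A.1 0 1) (A.1 1 0) (A.1 1 1) (B.1 0 0) (B.1 0 1) (B.1 1 0) (B.1 1 1)
    (det_eq A) (det_eq B)
  unfold img
  rw [← h]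
  have e : (A * B).1 = A.1 * B.1 := rfl
  rw [e]
  simp only [Matrix.mul_apply, Fin.sum_univ_two]

theorem img_one : img (1 : SL23) = (1, 0, 0, 1) := by
  unfold img
  have e : (1 : SL23).1 = (1 : Matrix (Fin 2) (Fin 2) (ZMod 3)) := rfl
  rw [e]
  simp only [Matrix.one_apply_eq, Matrix.one_apply_ne, ne_eq, Fin.isValue, zero_ne_one,
    not_false_eq_true, one_ne_zero]
  decide

def act (t : ZMod 5 × ZMod 5 × ZMod 5 × ZMod 5) (w : ZMod 5 × ZMod 5) : ZMod 5 × ZMod 5 :=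
  (t.1 * w.1 + t.2.1 * w.2, t.2.2.1 * w.1 + t.2.2.2 * w.2)

theorem act_mul4 (s t : ZMod 5 × ZMod 5 × ZMod 5 × ZMod 5) (w : ZMod 5 × ZMod 5) :
    act (mul4 s t) w = act s (act t w) := by
  unfold act mul4
  ext <;> simp only [] <;> ring

@[reducible] def slAction : DistribMulAction SL23 (ZMod 5 × ZMod 5) where
  smul A w := act (img A) w
  one_smul w := by
    show act (img 1) w = w
    rw [img_one]
    unfold act
    ext <;> simp
  mul_smul A B w := by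
    show act (img (A * B)) w = act (img A) (act (img B) w)
    rw [img_mul, act_mul4]
  smul_zero A := by
    show act (img A) 0 = 0
    unfold act
    ext <;> simp
  smul_add A w w' := by
    show act (img A) (w + w') = act (img A) w + act (img A) w'
    unfold act
    ext <;> simp only [Prod.fst_add, Prod.snd_add] <;> ring

theorem sl_fpf (A : SL23) (hA : A ≠ 1) (w : ZMod 5 × ZMod 5) (hw : act (img A) w = w) : w = 0 := by
  have h := gg_fpf (A.1 0 0) (A.1 0 1) (A.1 1 0) (A.1 1 1) (det_eq A) ?_ w.1 w.2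
    (congrArg Prod.fst hw) (congrArg Prod.snd hw)
  · ext
    · exact h.1
    · exact h.2
  · rintro ⟨h1, h2, h3, h4⟩
    apply hA
    ext i j
    fin_cases i <;> fin_cases j
    · exact h1
    · exact h2
    · exact h3
    · exact h4

/-- The group SL(2,3) of order 24 (the binary tetrahedral group) occurs as a Frobenius complement of some finite Frobenius group. -/
theorem result :
    ∃ (L : Type) (_ : Group L) (_ : Finite L) (H : Subgroup L), Cfsg.IsFrobeniusComplement H ∧ Nonempty (H ≃* Matrix.SpecialLinearGroup (Fin 2) (ZMod 3)) := by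
  let _ := slAction
  have : Fact (1 < 5) := ⟨by norm_num⟩
  have : Nontrivial SL23 := by
    refine ⟨⟨1, ⟨!![1, 1; 0, 1], by rw [Matrix.det_fin_two]; decide⟩, ?_⟩⟩
    intro h
    have h2 := congrArg (fun A : SL23 => A.1 0 1) h
    revert h2
    decide
  have hfpf : ∀ s : SL23, s ≠ 1 → ∀ v : ZMod 5 × ZMod 5, s • v = v → v = 0 :=
    fun s hs v hv => sl_fpf s hs v hv
  obtain ⟨L, iG, iF, H, hH, ⟨e2⟩⟩ := Cfsg.Agent.Helper6.exists_frobenius_of_fpf hfpf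
  exact ⟨L, iG, iF, H, hH, ⟨e2.symm⟩⟩

end Cfsg.Agent.S4298
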