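import Mathlib
import Cfsg.Statements.S4299
import Cfsg.Agent.Helper6.FrobSemidirect

set_option autoImplicit false
open Cfsg

namespace Cfsg.Agent.S4299

/-- Every nontrivial finite cyclic group occurs as a Frobenius complement of some finite Frobenius group. -/
theorem result {C : Type*} [Group C] [Finite C] [IsCyclic C] [Nontrivial C] :
    ∃ (L : Type) (_ : Group L) (_ : Finite L) (H : Subgroup L), Cfsg.IsFrobeniusComplement H ∧ Nonempty (C ≃* H) := by
  set n := Nat.card C with hn
  have hn1 : 1 < n := Finite.one_lt_card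
  obtain ⟨p, hp, -, hpn⟩ := Nat.exists_prime_gt_modEq_one 0 (show n ≠ 0 by omega)
  haveI : Fact p.Prime := ⟨hp⟩
  have hcard : Nat.card (ZMod p)ˣ = p - 1 := by
    rw [Nat.card_eq_fintype_card, ZMod.card_units_eq_totient, Nat.totient_prime hp]
  have hdvd : n ∣ p - 1 := (Nat.modEq_iff_dvd' hp.one_le).mp hpn.symm
  obtain ⟨g, hg⟩ := IsCyclic.exists_generator (α := (ZMod p)ˣ)
  have hog : orderOf g = p - 1 := by rw [orderOf_eq_card_of_forall_mem_zpowers hg, hcard]
  obtain ⟨m, hm⟩ := hdvd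
  have hp1 : 0 < p - 1 := by have := hp.two_le; omega
  have hm0 : m ≠ 0 := by
    rintro rfl
    rw [mul_zero] at hm; omega
  have hoζ : orderOf (g ^ m) = n := by
    rw [orderOf_pow_of_dvd hm0 (by rw [hog, hm]; exact dvd_mul_left m n), hog, hm]
    exact Nat.mul_div_cancel _ (Nat.pos_of_ne_zero hm0)
  let U := Subgroup.zpowers (g ^ m)
  have hUcard : Nat.card U = n := by rw [Nat.card_zpowers, hoζ]
  have e : C ≃* U := mulEquivOfCyclicCardEq (by rw [hUcard])
  haveI : Nontrivial U := Finite.one_lt_card_iff_nontrivial.mp (by rw [hUcard]; exact hn1)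
  have hfpf : ∀ s : U, s ≠ 1 → ∀ v : ZMod p, s • v = v → v = 0 := by
    intro s hs v hv
    have h1 : (((s : (ZMod p)ˣ) : ZMod p) - 1) * v = 0 := by
      rw [sub_mul, one_mul, sub_eq_zero]
      exact hv
    rcases mul_eq_zero.mp h1 with h2 | h2
    · exfalso
      apply hs
      apply Subtype.ext
      apply Units.ext
      rw [sub_eq_zero] at h2
      exact h2
    · exact h2
  obtain ⟨L, iG, iF, H, hH, ⟨e2⟩⟩ := Cfsg.Agent.Helper6.exists_frobenius_of_fpf hfpf
  exact ⟨L, iG, iF, H, hH, ⟨e.trans e2⟩⟩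

end Cfsg.Agent.S4299
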