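import Mathlib
import Cfsg.Statements.S4300

set_option autoImplicit false
open Cfsg

namespace Cfsg.Agent.S4300

/-- Let G act faithfully and primitively on a set X, and suppose the stabilizer of some point is a simple group. Then either G is simple, or G has a normal subgroup, neither trivial nor the whole group, that acts regularly on X (transitively with trivial point stabilizers). -/
theorem result {G : Type*} [Group G] {X : Type*} [MulAction G X] [FaithfulSMul G X]
    (hprim : MulAction.IsPreprimitive G X) (x : X) (hsimple : IsSimpleGroup (MulAction.stabilizer G x)) :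
    IsSimpleGroup G ∨ ∃ N : Subgroup G, N.Normal ∧ N ≠ ⊥ ∧ N ≠ ⊤ ∧
      MulAction.IsPretransitive N X ∧ ∀ y : X, MulAction.stabilizer N y = ⊥ := by
  by_cases h : ∃ N : Subgroup G, N.Normal ∧ N ≠ ⊥ ∧ N ≠ ⊤
  · right
    obtain ⟨N, hNn, hNbot, hNtop⟩ := h
    have hNX : MulAction.fixedPoints N X ≠ Set.univ := by
      intro hfix
      apply hNbot
      rw [Subgroup.eq_bot_iff_forall]
      intro n hn
      apply FaithfulSMul.eq_of_smul_eq_smul (α := X)
      intro a
      rw [one_smul]
      have : a ∈ MulAction.fixedPoints N X := by rw [hfix]; exact Set.mem_univ a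
      exact this ⟨n, hn⟩
    have htrans : MulAction.IsPretransitive N X :=
      MulAction.IsQuasiPreprimitive.isPretransitive_of_normal hNX
    have hx : ∀ n ∈ N, n • x = x → n = 1 := by
      have hnorm : (N.subgroupOf (MulAction.stabilizer G x)).Normal := inferInstance
      rcases hsimple.eq_bot_or_eq_top_of_normal _ hnorm with h1 | h1
      · intro n hn hnx
        have : (⟨n, hnx⟩ : MulAction.stabilizer G x) ∈ N.subgroupOf (MulAction.stabilizer G x) := by
          rw [Subgroup.mem_subgroupOf]; exact hn
        rw [h1, Subgroup.mem_bot] at this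
        exact congrArg Subtype.val this
      · exfalso
        apply hNtop
        rw [Subgroup.subgroupOf_eq_top] at h1
        rw [eq_top_iff]
        intro g _
        obtain ⟨⟨n, hn⟩, hn'⟩ := htrans.exists_smul_eq x (g • x)
        have hn'' : n • x = g • x := hn'
        have : n⁻¹ * g ∈ MulAction.stabilizer G x := by
          rw [MulAction.mem_stabilizer_iff, mul_smul, ← hn'', inv_smul_smul]
        have h2 : n⁻¹ * g ∈ N := h1 this
        have : g = n * (n⁻¹ * g) := by group
        rw [this]
        exact N.mul_mem hn h2
    refine ⟨N, hNn, hNbot, hNtop, htrans, ?_⟩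
    intro y
    rw [Subgroup.eq_bot_iff_forall]
    rintro ⟨n, hn⟩ hny
    have hny' : n • y = y := hny
    obtain ⟨g, hg⟩ := hprim.toIsPretransitive.exists_smul_eq x y
    have h3 : (g⁻¹ * n * g) • x = x := by
      rw [mul_smul, mul_smul, hg, hny', ← hg, inv_smul_smul]
    have h4 : g⁻¹ * n * g ∈ N := by
      have := hNn.conj_mem n hn g⁻¹
      rwa [inv_inv] at this
    have h5 := hx _ h4 h3
    apply Subtype.ext
    show n = 1
    calc n = g * (g⁻¹ * n * g) * g⁻¹ := by group
      _ = 1 := by rw [h5]; group
  · left
    have : Nontrivial G := by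
      have := hsimple.toNontrivial
      obtain ⟨a, b, hab⟩ := this
      exact ⟨⟨a.1, b.1, fun h => hab (Subtype.ext h)⟩⟩
    refine ⟨fun N hN => ?_⟩
    by_contra hcon
    rw [not_or] at hcon
    exact h ⟨N, hN, hcon.1, hcon.2⟩

end Cfsg.Agent.S4300
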