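import Mathlib
import Cfsg.Statements.S4301

set_option autoImplicit false
open Cfsg

namespace Cfsg.Agent.S4301

variable {X : Type*}

theorem card_ge {k : ℕ} (hkX : Nonempty (Fin k ↪ X)) : (k : ℕ∞) ≤ ENat.card X := by
  obtain ⟨e⟩ := hkX
  have h := ENat.card_le_card_of_injective e.injective
  simpa using h

/-- 2-transitivity from k-transitivity. -/
theorem two_trans (G : Subgroup (Equiv.Perm (Option X))) (k : ℕ) (hk : 2 ≤ k)
    (hkX : Nonempty (Fin k ↪ X))
    (htrans : ∀ a b : Fin k ↪ X, ∃ f ∈ G, ∀ i, f (some (a i)) = some (b i))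
    (z1 z2 w1 w2 : X) (hz : z1 ≠ z2) (hw : w1 ≠ w2) :
    ∃ f ∈ G, f (some z1) = some w1 ∧ f (some z2) = some w2 := by
  have hinj : ∀ u v : X, u ≠ v → Function.Injective ![u, v] := by
    intro u v huv i j hij
    fin_cases i <;> fin_cases j <;> simp_all
  let a : Fin 2 ↪ X := ⟨![z1, z2], hinj z1 z2 hz⟩
  let b : Fin 2 ↪ X := ⟨![w1, w2], hinj w1 w2 hw⟩
  obtain ⟨a', ha'⟩ := Fin.Embedding.restrictSurjective_of_le_ENatCard hk (card_ge hkX) a
  obtain ⟨b', hb'⟩ := Fin.Embedding.restrictSurjective_of_le_ENatCard hk (card_ge hkX) b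
  obtain ⟨f, hf, hfab⟩ := htrans a' b'
  refine ⟨f, hf, ?_, ?_⟩
  · have h1 := hfab (Fin.castLE hk 0)
    have h2 : a' (Fin.castLE hk 0) = z1 := by
      have := congrArg (fun e : Fin 2 ↪ X => e 0) ha'
      simpa [a] using this
    have h3 : b' (Fin.castLE hk 0) = w1 := by
      have := congrArg (fun e : Fin 2 ↪ X => e 0) hb'
      simpa [b] using this
    rw [h2, h3] at h1
    exact h1
  · have h1 := hfab (Fin.castLE hk 1)
    have h2 : a' (Fin.castLE hk 1) = z2 := by
      have := congrArg (fun e : Fin 2 ↪ X => e 1) ha'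
      simpa [a] using this
    have h3 : b' (Fin.castLE hk 1) = w2 := by
      have := congrArg (fun e : Fin 2 ↪ X => e 1) hb'
      simpa [b] using this
    rw [h2, h3] at h1
    exact h1


/-- One-point extension of a multiply transitive group. -/
theorem result {X : Type*} (G : Subgroup (Equiv.Perm (Option X))) (hfix : ∀ f ∈ G, f none = none)
    (k : ℕ) (hk : 2 ≤ k) (hkX : Nonempty (Fin k ↪ X))
    (htrans : ∀ a b : Fin k ↪ X, ∃ f ∈ G, ∀ i, f (some (a i)) = some (b i))
    (h g : Equiv.Perm (Option X)) (hg : g ∈ G) (x y : X)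
    (h1 : h none = some x) (h2 : h (some x) = none) (h3 : h (some y) = some y)
    (h4 : g (some x) = some y) (h5 : g (some y) = some x)
    (h6 : (g * h) ^ 3 ∈ G) (h7 : h ^ 2 ∈ G)
    (h8 : ∀ f ∈ G, f (some x) = some x → h * f * h ∈ G ∧ (h * f * h) (some x) = some x) :
    (∀ f ∈ Subgroup.closure ((G : Set (Equiv.Perm (Option X))) ∪ {h}), f none = none ↔ f ∈ G) ∧
      MulAction.IsMultiplyPretransitive (Subgroup.closure ((G : Set (Equiv.Perm (Option X))) ∪ {h})) (Option X) (k + 1) := by
  have hxy : x ≠ y := by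
    intro hxy
    rw [← hxy, h2] at h3
    exact absurd h3.symm (Option.some_ne_none _)
  have h2t := two_trans G k hk hkX htrans
  -- elements of G map `some` to `some`
  have hsome : ∀ f ∈ G, ∀ z : X, ∃ w : X, f (some z) = some w := by
    intro f hf z
    rcases hfz : f (some z) with _ | w
    · exfalso
      have := hfix f hf
      rw [← this] at hfz
      exact absurd (f.injective hfz) (Option.some_ne_none _)
    · exact ⟨w, rfl⟩
  -- Lemma A
  have lemA : ∀ f ∈ G, h * f * h ∈ G ∨ ∃ a ∈ G, ∃ b ∈ G, h * f * h = a * h * b := by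
    intro f hf
    by_cases hfx : f (some x) = some x
    · exact Or.inl (h8 f hf hfx).1
    · right
      obtain ⟨z, hz⟩ := hsome f hf x
      have hzx : x ≠ z := by
        intro hzx
        apply hfx
        rw [hz, ← hzx]
      obtain ⟨f1, hf1, hf1x, hf1y⟩ := h2t x y x z hxy hzx
      have hf2 : g⁻¹ * f1⁻¹ * f ∈ G := G.mul_mem (G.mul_mem (G.inv_mem hg) (G.inv_mem hf1)) hf
      have hf2x : (g⁻¹ * f1⁻¹ * f) (some x) = some x := by
        simp only [Equiv.Perm.coe_mul, Function.comp_apply, hz]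
        rw [Equiv.Perm.inv_eq_iff_eq.mpr hf1y.symm, Equiv.Perm.inv_eq_iff_eq.mpr h4.symm]
      have e1 := (h8 f1 hf1 hf1x).1
      have e2 := (h8 _ hf2 hf2x).1
      refine ⟨(h * f1 * h) * (h ^ 2)⁻¹ * g⁻¹ * (g * h) ^ 3 * (h ^ 2)⁻¹, ?_,
        g⁻¹ * (h ^ 2)⁻¹ * (h * (g⁻¹ * f1⁻¹ * f) * h), ?_, ?_⟩
      · exact G.mul_mem (G.mul_mem (G.mul_mem (G.mul_mem e1 (G.inv_mem h7)) (G.inv_mem hg)) h6)
          (G.inv_mem h7)
      · exact G.mul_mem (G.mul_mem (G.inv_mem hg) (G.inv_mem h7)) e2
      · rw [pow_three']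
        group
  -- the subgroup K
  let K : Subgroup (Equiv.Perm (Option X)) :=
    { carrier := {f | f ∈ G ∨ ∃ a ∈ G, ∃ b ∈ G, f = a * h * b}
      one_mem' := Or.inl G.one_mem
      mul_mem' := by
        rintro u v (hu | ⟨a, ha, b, hb, rfl⟩) (hv | ⟨c, hc, d, hd, rfl⟩)
        · exact Or.inl (G.mul_mem hu hv)
        · exact Or.inr ⟨u * c, G.mul_mem hu hc, d, hd, by group⟩
        · exact Or.inr ⟨a, ha, b * v, G.mul_mem hb hv, by group⟩
        · rcases lemA (b * c) (G.mul_mem hb hc) with hm | ⟨a', ha', b', hb', hm⟩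
          · left
            have : a * h * b * (c * h * d) = a * (h * (b * c) * h) * d := by group
            rw [this]
            exact G.mul_mem (G.mul_mem ha hm) hd
          · right
            refine ⟨a * a', G.mul_mem ha ha', b' * d, G.mul_mem hb' hd, ?_⟩
            have : a * h * b * (c * h * d) = a * (h * (b * c) * h) * d := by group
            rw [this, hm]
            group
      inv_mem' := by
        rintro u (hu | ⟨a, ha, b, hb, rfl⟩)
        · exact Or.inl (G.inv_mem hu)
        · right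
          refine ⟨b⁻¹ * (h ^ 2)⁻¹, G.mul_mem (G.inv_mem hb) (G.inv_mem h7), a⁻¹, G.inv_mem ha, ?_⟩
          group }
  have hKmem : ∀ f, f ∈ K ↔ f ∈ G ∨ ∃ a ∈ G, ∃ b ∈ G, f = a * h * b := fun f => Iff.rfl
  have hKeq : Subgroup.closure ((G : Set (Equiv.Perm (Option X))) ∪ {h}) = K := by
    apply le_antisymm
    · rw [Subgroup.closure_le]
      rintro f (hf | hf)
      · exact Or.inl hf
      · rw [Set.mem_singleton_iff] at hf
        rw [hf]
        exact Or.inr ⟨1, G.one_mem, 1, G.one_mem, by group⟩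
    · rintro f (hf | ⟨a, ha, b, hb, rfl⟩)
      · exact Subgroup.subset_closure (Or.inl hf)
      · exact Subgroup.mul_mem _ (Subgroup.mul_mem _ (Subgroup.subset_closure (Or.inl ha))
          (Subgroup.subset_closure (Or.inr rfl))) (Subgroup.subset_closure (Or.inl hb))
  have hGK : G ≤ K := fun f hf => Or.inl hf
  have hhK : h ∈ K := Or.inr ⟨1, G.one_mem, 1, G.one_mem, by group⟩
  rw [hKeq]
  constructor
  · rintro f (hf | ⟨a, ha, b, hb, rfl⟩)
    · exact ⟨fun _ => hf, fun _ => hfix f hf⟩
    · constructor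
      · intro hnone
        exfalso
        simp only [Equiv.Perm.coe_mul, Function.comp_apply] at hnone
        rw [hfix b hb, h1] at hnone
        obtain ⟨w, hw⟩ := hsome a ha x
        rw [hw] at hnone
        exact absurd hnone (Option.some_ne_none _)
      · intro hmem
        exact hfix _ hmem
  · -- transitivity
    have hT : ∀ ω : Option X, ∃ u ∈ K, u ω = none := by
      intro ω
      rcases ω with _ | z
      · exact ⟨1, K.one_mem, rfl⟩
      · by_cases hzx : z = x
        · exact ⟨h, hhK, by rw [hzx, h2]⟩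
        · obtain ⟨f, hf, hfz, -⟩ := h2t z x x z hzx (Ne.symm hzx)
          refine ⟨h * f, K.mul_mem hhK (hGK hf), ?_⟩
          simp only [Equiv.Perm.coe_mul, Function.comp_apply]
          rw [hfz, h2]
    rw [MulAction.isMultiplyPretransitive_iff]
    intro a b
    obtain ⟨u, hu, hua⟩ := hT (a (Fin.last k))
    obtain ⟨v, hv, hvb⟩ := hT (b (Fin.last k))
    have hU : ∀ (c : Fin (k + 1) ↪ Option X) (w : Equiv.Perm (Option X)), w (c (Fin.last k)) = none →
        ∃ c' : Fin k ↪ X, ∀ i : Fin k, w (c (Fin.castSucc i)) = some (c' i) := by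
      intro c w hw
      have hex : ∀ i : Fin k, ∃ z : X, w (c (Fin.castSucc i)) = some z := by
        intro i
        rcases hi : w (c (Fin.castSucc i)) with _ | z
        · exfalso
          rw [← hw] at hi
          have := c.injective (w.injective hi)
          exact (Fin.castSucc_lt_last i).ne this
        · exact ⟨z, rfl⟩
      choose c' hc' using hex
      refine ⟨⟨c', ?_⟩, hc'⟩
      intro i j hij
      have e1 : w (c (Fin.castSucc i)) = w (c (Fin.castSucc j)) := by rw [hc' i, hc' j, hij]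
      exact Fin.castSucc_injective _ (c.injective (w.injective e1))
    obtain ⟨a', ha'⟩ := hU a u hua
    obtain ⟨b', hb'⟩ := hU b v hvb
    obtain ⟨f, hf, hfab⟩ := htrans a' b'
    refine ⟨⟨v⁻¹ * f * u, K.mul_mem (K.mul_mem (K.inv_mem hv) (hGK hf)) hu⟩, ?_⟩
    apply Function.Embedding.ext
    intro j
    show (v⁻¹ * f * u) (a j) = b j
    simp only [Equiv.Perm.coe_mul, Function.comp_apply]
    rw [Equiv.Perm.inv_eq_iff_eq]
    refine Fin.lastCases ?_ (fun i => ?_) j
    · rw [hua, hvb, hfix f hf]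
    · rw [ha', hb', hfab]

end Cfsg.Agent.S4301
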