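import Cfsg.Statements.S4304
import Cfsg.Agent.Helper21.SylNum4

set_option autoImplicit false
open Cfsg

namespace Cfsg.Agent.S4304

/-- No finite group has exactly 15 Sylow 7-subgroups. -/
theorem result {G : Type*} [Group G] [Finite G] : Nat.card (Sylow 7 G) ≠ 15 := by
  have : Fact (Nat.Prime 7) := ⟨by norm_num⟩
  have : Fact (Nat.Prime 5) := ⟨by norm_num⟩
  refine Cfsg.Agent.Helper21.SylNum.card_sylow_ne_two_mul_add_one 7 5 (by norm_num)
    (by norm_num) ?_ G
  intro m hm hodd
  have hm6 : m ≤ 6 := Nat.le_of_dvd (by norm_num) hm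
  interval_cases m
  · exact absurd hodd (by decide)
  · refine ⟨by norm_num, by norm_num, by norm_num⟩
  · exact absurd hodd (by decide)
  · refine ⟨by norm_num, by norm_num, by norm_num⟩
  · exact absurd hm (by norm_num)
  · exact absurd hm (by norm_num)
  · exact absurd hodd (by decide)

end Cfsg.Agent.S4304
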