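import Mathlib
import Cfsg.Statements.S4325
import Cfsg.Agent.Helper6.SwapClosure

set_option autoImplicit false
open Cfsg

namespace Cfsg.Agent.S4325

open Cfsg.Agent.Helper6

/-- Let r be a prime and m a natural number with m + 1 < r, and let π be a set of primes containing every prime below r but not r itself. Then in the symmetric group of degree r any m transpositions generate a π-subgroup, while O_π of the symmetric group is trivial. (So no bound on the number of conjugates that works for all π exists in the π-radical analogue of the Baer–Suzuki Theorem.) -/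
theorem result (r m : ℕ) (hr : r.Prime)
    (hm : m + 1 < r) (π : Set ℕ) (hπ : ∀ q : ℕ, q.Prime → q < r → q ∈ π) (hrπ : r ∉ π)
    (t : Fin m → Equiv.Perm (Fin r)) (ht : ∀ i, (t i).IsSwap) :
    Cfsg.IsPiSubgroup π (Subgroup.closure (Set.range t)) ∧ Cfsg.piCore π (Equiv.Perm (Fin r)) = ⊥ := by
  haveI : Fact r.Prime := ⟨hr⟩
  constructor
  · intro p hp hdvd
    have h1 : Nat.card (Subgroup.closure (Set.range t)) ∣ Nat.card (Equiv.Perm (Fin r)) :=
      Subgroup.card_subgroup_dvd_card _
    have h2 : Nat.card (Equiv.Perm (Fin r)) = r.factorial := by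
      rw [Nat.card_eq_fintype_card, Fintype.card_perm, Fintype.card_fin]
    rw [h2] at h1
    have h3 : p ≤ r := (hp.dvd_factorial).mp (hdvd.trans h1)
    rcases lt_or_eq_of_le h3 with h4 | h4
    · exact hπ p hp h4
    · exfalso
      subst h4
      refine not_dvd_card_of_orbit_lt (Subgroup.closure (Set.range t)) p ?_ hdvd
      intro x
      have := orbit_card_le t ht x
      omega
  · unfold Cfsg.piCore
    rw [sSup_eq_bot]
    rintro N ⟨hNn, hNπ⟩
    by_contra hN
    haveI := hNn
    have h1 := card_dvd_card_of_normal N hN
    rw [Nat.card_eq_fintype_card, Fintype.card_fin] at h1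
    exact hrπ (hNπ r hr h1)

end Cfsg.Agent.S4325
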