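import Mathlib
import Cfsg.Statements.S4326

set_option autoImplicit false
open Cfsg
open scoped Pointwise

namespace Cfsg.Agent.S4326

theorem mem_conj_smul {G : Type*} [Group G] (M : Subgroup G) (g y : G) :
    y ∈ MulAut.conj g • M ↔ g⁻¹ * y * g ∈ M := by
  rw [Subgroup.mem_pointwise_smul_iff_inv_smul_mem]
  simp [MulAut.smul_def]

/-- Let G be a finite group, p a prime, x an automorphism of G of p-power order and M the subgroup of fixed points of x. Suppose that p divides the index of M and that either M is self-normalizing or M has trivial center. Then some conjugate of M is mapped onto itself by x but is not fixed elementwise by x. -/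
theorem result {G : Type*} [Group G] [Finite G]
    (p : ℕ) [Fact p.Prime] (x : MulAut G) (hx : ∃ k : ℕ, orderOf x = p ^ k) (M : Subgroup G)
    (hM : ∀ g : G, g ∈ M ↔ x g = g) (hp : p ∣ M.index)
    (hself : Subgroup.normalizer (M : Set G) = M ∨ Subgroup.center M = ⊥) :
    ∃ g : G, (∀ y ∈ MulAut.conj g • M, x y ∈ MulAut.conj g • M) ∧ ∃ y ∈ MulAut.conj g • M, x y ≠ y := by
  classical
  obtain ⟨k, hk⟩ := hx
  have hp' : p.Prime := Fact.out
  have hxpow : x ^ (p ^ k) = 1 := by rw [← hk]; exact pow_orderOf_eq_one x
  haveI : Fintype (G ⧸ M) := Fintype.ofFinite _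
  -- the induced map on cosets
  have hwd : ∀ a b : G, QuotientGroup.leftRel M a b → QuotientGroup.leftRel M (x a) (x b) := by
    intro a b hab
    rw [QuotientGroup.leftRel_apply] at hab ⊢
    rw [← map_inv, ← map_mul, (hM _).mp hab]
    exact hab
  let f : Function.End (G ⧸ M) := Quotient.map' (x : G → G) hwd
  have hf : ∀ g : G, f (g : G ⧸ M) = ((x g : G) : G ⧸ M) := fun g => rfl
  have hfpow : ∀ (n : ℕ) (g : G), (f ^ n) (g : G ⧸ M) = (((x ^ n) g : G) : G ⧸ M) := by
    intro n
    induction n with
    | zero => intro g; rfl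
    | succ n ih =>
      intro g
      rw [pow_succ, pow_succ]
      show (f ^ n) (f (g : G ⧸ M)) = _
      rw [hf, ih]
      rfl
  have hfp : f ^ p ^ k = 1 := by
    funext q
    induction q using QuotientGroup.induction_on with
    | H g => rw [hfpow, hxpow]; rfl
  have hmod := Equiv.Perm.card_fixedPoints_modEq (p := p) (n := k) hfp
  have hcard : Fintype.card (G ⧸ M) = M.index := by
    rw [← Nat.card_eq_fintype_card]; rfl
  rw [hcard] at hmod
  have hdvd : p ∣ Fintype.card (Function.fixedPoints f) :=
    (Nat.modEq_zero_iff_dvd.mp ((hmod.symm).trans (Nat.modEq_zero_iff_dvd.mpr hp)))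
  have hone : ((1 : G) : G ⧸ M) ∈ Function.fixedPoints f := by
    show f ((1 : G) : G ⧸ M) = _
    rw [hf, map_one]
  have hlt : 1 < Fintype.card (Function.fixedPoints f) := by
    have hpos : 0 < Fintype.card (Function.fixedPoints f) := Fintype.card_pos_iff.mpr ⟨⟨_, hone⟩⟩
    have := Nat.le_of_dvd hpos hdvd
    have := hp'.two_le
    omega
  obtain ⟨⟨q, hq⟩, hne⟩ := Fintype.exists_ne_of_one_lt_card hlt ⟨_, hone⟩
  induction q using QuotientGroup.induction_on with
  | H g =>
  have hgM : g ∉ M := by
    intro hgM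
    apply hne
    apply Subtype.ext
    show (g : G ⧸ M) = ((1 : G) : G ⧸ M)
    rw [QuotientGroup.eq]
    simpa using M.inv_mem hgM
  have hn : g⁻¹ * x g ∈ M := by
    have h1 : ((x g : G) : G ⧸ M) = (g : G ⧸ M) := hq
    rw [QuotientGroup.eq] at h1
    have := M.inv_mem h1
    simpa using this
  set n := g⁻¹ * x g with hndef
  have hxg : x g = g * n := by rw [hndef]; group
  have hxy : ∀ m : G, m ∈ M → x (g * m * g⁻¹) = g * (n * m * n⁻¹) * g⁻¹ := by
    intro m hm
    rw [map_mul, map_mul, map_inv, (hM m).mp hm, hxg]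
    group
  refine ⟨g, ?_, ?_⟩
  · intro y hy
    rw [mem_conj_smul] at hy ⊢
    have hy' : y = g * (g⁻¹ * y * g) * g⁻¹ := by group
    rw [hy', hxy _ hy]
    have : g⁻¹ * (g * (n * (g⁻¹ * y * g) * n⁻¹) * g⁻¹) * g = n * (g⁻¹ * y * g) * n⁻¹ := by group
    rw [this]
    exact M.mul_mem (M.mul_mem hn hy) (M.inv_mem hn)
  · by_contra hcon
    push Not at hcon
    -- every element of the conjugate is fixed
    have hfixed : ∀ m ∈ M, n * m * n⁻¹ = m := by
      intro m hm
      have hmem : g * m * g⁻¹ ∈ MulAut.conj g • M := by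
        rw [mem_conj_smul]
        have : g⁻¹ * (g * m * g⁻¹) * g = m := by group
        rw [this]; exact hm
      have h1 := hcon _ hmem
      rw [hxy m hm] at h1
      have h2 : n * m * n⁻¹ = g⁻¹ * (g * (n * m * n⁻¹) * g⁻¹) * g := by group
      rw [h2, h1]; group
    rcases hself with hs | hs
    · -- self-normalizing
      have hsub : ∀ m ∈ (M : Set G), g * m * g⁻¹ ∈ (M : Set G) := by
        intro m hm
        have hmem : g * m * g⁻¹ ∈ MulAut.conj g • M := by
          rw [mem_conj_smul]
          have : g⁻¹ * (g * m * g⁻¹) * g = m := by group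
          rw [this]; exact hm
        exact (hM _).mpr (hcon _ hmem)
      have hgN : g ∈ Subgroup.normalizer (M : Set G) := Subgroup.mem_normalizer_fintype hsub
      rw [hs] at hgN
      exact hgM hgN
    · -- trivial center
      have hcen : (⟨n, hn⟩ : M) ∈ Subgroup.center M := by
        rw [Subgroup.mem_center_iff]
        rintro ⟨m, hm⟩
        apply Subtype.ext
        show m * n = n * m
        have := hfixed m hm
        calc m * n = (n * m * n⁻¹) * n := by rw [this]
          _ = n * m := by group
      rw [hs, Subgroup.mem_bot] at hcen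
      have hn1 : n = 1 := congrArg Subtype.val hcen
      apply hgM
      rw [hM, hxg, hn1, mul_one]

end Cfsg.Agent.S4326
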