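import Mathlib
import Cfsg.Statements.S4331
import Cfsg.Agent.S4314
import Cfsg.Agent.Helper14.PCore
import Cfsg.Agent.Helper14.Subnormal

set_option autoImplicit false
open Cfsg

namespace Cfsg.Agent.S4331

/-- the semidihedral group of order 16: `(k, e) ↔ ζ^k φ^e` with `φ ζ φ = ζ^3` -/
structure SD where
  k : Fin 8
  e : Fin 2
  deriving DecidableEq, Fintype

namespace SD

def mul' (x y : SD) : SD := ⟨x.k + (if x.e = 0 then y.k else 3 * y.k), x.e + y.e⟩
def inv' (x : SD) : SD := ⟨if x.e = 0 then -x.k else -(3 * x.k), x.e⟩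

instance : Mul SD := ⟨mul'⟩
instance : One SD := ⟨⟨0, 0⟩⟩
instance : Inv SD := ⟨inv'⟩

theorem mul_assoc' : ∀ x y z : SD, x * y * z = x * (y * z) := by decide +kernel
theorem one_mul' : ∀ x : SD, 1 * x = x := by decide +kernel
theorem mul_one' : ∀ x : SD, x * 1 = x := by decide +kernel
theorem inv_mul' : ∀ x : SD, x⁻¹ * x = 1 := by decide +kernel

instance : Group SD where
  mul_assoc := mul_assoc'
  one_mul := one_mul'
  mul_one := mul_one'
  inv_mul_cancel := inv_mul'

end SD

abbrev V := Fin 3 × Fin 3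

def Zm (v : V) : V := (v.1 - v.2, v.1 + v.2)
def Phi (v : V) : V := (v.1, -v.2)

def act (x : SD) (v : V) : V := Zm^[x.k.val] (if x.e = 0 then v else Phi v)

theorem act_one : ∀ v : V, act 1 v = v := by decide +kernel
theorem act_mul : ∀ (x y : SD) (v : V), act (x * y) v = act x (act y v) := by decide +kernel
theorem act_add : ∀ (x : SD) (v w : V), act x (v + w) = act x v + act x w := by decide +kernel
theorem act_zero : ∀ x : SD, act x 0 = 0 := by decide +kernel

instance : MulDistribMulAction SD (Multiplicative V) where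
  smul x v := Multiplicative.ofAdd (act x v.toAdd)
  one_smul v := by
    change Multiplicative.ofAdd (act 1 v.toAdd) = v
    rw [act_one]; rfl
  mul_smul x y v := by
    change Multiplicative.ofAdd (act (x * y) v.toAdd) = Multiplicative.ofAdd (act x (act y v.toAdd))
    rw [act_mul]
  smul_mul x v w := by
    change Multiplicative.ofAdd (act x (v.toAdd + w.toAdd)) = _
    rw [act_add]; rfl
  smul_one x := by
    change Multiplicative.ofAdd (act x 0) = _
    rw [act_zero]; rfl

abbrev G := Multiplicative V ⋊[MulDistribMulAction.toMulAut SD (Multiplicative V)] SD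

instance : Fintype G := Fintype.ofEquiv _ SemidirectProduct.equivProd.symm

def a₀ : G := ⟨1, ⟨0, 1⟩⟩

theorem a₀_sq : a₀ ^ 2 = 1 := by decide +kernel
theorem a₀_ne : a₀ ≠ 1 := by decide +kernel

def good (g : G) : Bool := decide (g.left = 1) || decide (g * a₀ = a₀ * g)

set_option maxRecDepth 100000 in
theorem key : ∀ c : G, ∃ x : G, good (x * c * x⁻¹) = true := by decide +kernel


theorem card_SD : Nat.card SD = 2 ^ 4 := by
  rw [Nat.card_eq_fintype_card]
  decide +kernel

theorem isPGroup_SD : IsPGroup 2 SD := IsPGroup.of_card card_SD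

instance : Fact (Nat.Prime 2) := ⟨Nat.prime_two⟩

theorem solvable_G : Group.IsSolvable G := by
  have h1 : Group.IsNilpotent SD := isPGroup_SD.isNilpotent
  have h2 : Group.IsSolvable SD := inferInstance
  refine Group.isSolvable_of_ker_le_range
    (SemidirectProduct.inl : Multiplicative V →* G) (SemidirectProduct.rightHom : G →* SD) ?_
  rw [SemidirectProduct.range_inl_eq_ker_rightHom]

/-- the subgroup `A` generated by the field automorphism -/
def A : Subgroup G := Subgroup.zpowers a₀

theorem card_A : Nat.card A = 2 := by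
  unfold A
  rw [Nat.card_zpowers]
  exact orderOf_eq_prime a₀_sq a₀_ne

/-- the complement `SD ≤ G` -/
def R : Subgroup G := (SemidirectProduct.inr : SD →* G).range

theorem isPGroup_R : IsPGroup 2 R := by
  apply IsPGroup.of_card (n := 4)
  rw [← card_SD]
  exact (Nat.card_congr (MonoidHom.ofInjective SemidirectProduct.inr_injective).toEquiv).symm

theorem a₀_mem_R : a₀ ∈ R := ⟨⟨0, 1⟩, rfl⟩

theorem mem_R_of_left {g : G} (hg : g.left = 1) : g ∈ R := by
  refine ⟨g.right, ?_⟩
  apply SemidirectProduct.ext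
  · rw [SemidirectProduct.left_inr, hg]
  · rw [SemidirectProduct.right_inr]

theorem subnormal_of_good {g : G} (hg : good g = true) :
    (A.subgroupOf (A ⊔ Subgroup.zpowers g)).IsSubnormal := by
  unfold good at hg
  rw [Bool.or_eq_true, decide_eq_true_eq, decide_eq_true_eq] at hg
  rcases hg with hg | hg
  · -- `⟨A, g⟩` is a 2-group
    have hle : A ⊔ Subgroup.zpowers g ≤ R := by
      apply sup_le
      · unfold A
        rw [Subgroup.zpowers_le]
        exact a₀_mem_R
      · rw [Subgroup.zpowers_le]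
        exact mem_R_of_left hg
    have hp : IsPGroup 2 ↥(A ⊔ Subgroup.zpowers g) := isPGroup_R.to_le hle
    exact Cfsg.Agent.Helper14.isSubnormal_of_isPGroup hp _
  · -- `g` centralizes `A`
    apply Subgroup.Normal.isSubnormal
    apply Subgroup.normal_subgroupOf_of_le_normalizer
    refine le_trans ?_ (Cfsg.Agent.S4314.centralizer_le_normalizer_zpowers a₀)
    apply sup_le
    · unfold A
      rw [Subgroup.zpowers_le, Subgroup.mem_centralizer_singleton_iff]
    · rw [Subgroup.zpowers_le, Subgroup.mem_centralizer_singleton_iff]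
      exact hg

/-- a translation -/
def w₀ : G := ⟨Multiplicative.ofAdd (0, 1), 1⟩

theorem comm_cube : (a₀ * w₀ * a₀⁻¹ * w₀⁻¹) ^ 3 = 1 := by decide +kernel
theorem comm_ne : a₀ * w₀ * a₀⁻¹ * w₀⁻¹ ≠ 1 := by decide +kernel

theorem not_le_pCore : ¬ A ≤ Cfsg.pCore 2 G := by
  intro hle
  have ha : a₀ ∈ Cfsg.pCore 2 G := hle (Subgroup.mem_zpowers a₀)
  have hn : (Cfsg.pCore 2 G).Normal := Cfsg.Agent.Helper14.pCore_normal 2
  have hp : IsPGroup 2 ↥(Cfsg.pCore 2 G) := Cfsg.Agent.Helper14.pCore_isPGroup 2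
  have hc : a₀ * w₀ * a₀⁻¹ * w₀⁻¹ ∈ Cfsg.pCore 2 G := by
    have h1 : w₀ * a₀⁻¹ * w₀⁻¹ ∈ Cfsg.pCore 2 G :=
      hn.conj_mem _ (Subgroup.inv_mem _ ha) w₀
    have := Subgroup.mul_mem _ ha h1
    have e : a₀ * (w₀ * a₀⁻¹ * w₀⁻¹) = a₀ * w₀ * a₀⁻¹ * w₀⁻¹ := by group
    rwa [e] at this
  obtain ⟨k, hk⟩ := hp ⟨_, hc⟩
  have hk' : (a₀ * w₀ * a₀⁻¹ * w₀⁻¹) ^ 2 ^ k = 1 := congrArg Subtype.val hk
  have h3 : orderOf (a₀ * w₀ * a₀⁻¹ * w₀⁻¹) = 3 :=
    orderOf_eq_prime comm_cube comm_ne
  have hdvd : 3 ∣ 2 ^ k := h3 ▸ orderOf_dvd_of_pow_eq_one hk'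
  have := (Nat.Prime.dvd_of_dvd_pow Nat.prime_three hdvd)
  omega

/-- There is a finite solvable group G with a subgroup A of order 2 such that every conjugacy class of G contains an element g for which A is subnormal in the subgroup generated by A and g, and yet A is not contained in O_2(G). (So the corresponding criteria for odd primes fail at the prime 2, even for solvable groups.) -/
theorem result :
    ∃ (G : Type) (_ : Group G) (_ : Finite G) (A : Subgroup G), Group.IsSolvable G ∧ Nat.card A = 2 ∧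
      (∀ c : G, ∃ g : G, IsConj c g ∧ (A.subgroupOf (A ⊔ Subgroup.zpowers g)).IsSubnormal) ∧
      ¬ A ≤ Cfsg.pCore 2 G := by
  refine ⟨G, inferInstance, inferInstance, A, solvable_G, card_A, ?_, not_le_pCore⟩
  intro c
  obtain ⟨x, hx⟩ := key c
  exact ⟨x * c * x⁻¹, isConj_iff.mpr ⟨x, rfl⟩, subnormal_of_good hx⟩

end Cfsg.Agent.S4331
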