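import Mathlib
import Cfsg.Statements.S4332
import Cfsg.Agent.Helper6.SwapClosure

set_option autoImplicit false
open Cfsg
open scoped Pointwise

namespace Cfsg.Agent.S4332

open Equiv Cfsg.Agent.Helper6

variable {α : Type*} [DecidableEq α]

/-- the three-cycle `x → z → y → x`. -/
def thr (x y z : α) : Perm α := swap x y * swap x z

theorem thr_conj (c : Perm α) (x y z : α) : c * thr x y z * c⁻¹ = thr (c x) (c y) (c z) := by
  unfold thr
  rw [swap_apply_apply, swap_apply_apply]
  group

theorem thr_apply_of_ne (x y z w : α) (h1 : w ≠ x) (h2 : w ≠ y) (h3 : w ≠ z) : thr x y z w = w := by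
  unfold thr
  rw [Perm.mul_apply, swap_apply_of_ne_of_ne h1 h3, swap_apply_of_ne_of_ne h1 h2]

theorem thr_rotate (x y z : α) (hxy : x ≠ y) (hxz : x ≠ z) (hyz : y ≠ z) :
    thr y z x = thr x y z := by
  unfold thr
  ext w
  simp only [Perm.mul_apply, swap_apply_def]
  split_ifs <;> simp_all

theorem thr_commute_of_disjoint (x y z x' y' z' : α)
    (h : ∀ w, (w = x ∨ w = y ∨ w = z) → ¬ (w = x' ∨ w = y' ∨ w = z')) :
    Commute (thr x y z) (thr x' y' z') := by
  apply Perm.Disjoint.commute
  intro w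
  by_cases hw : w = x ∨ w = y ∨ w = z
  · right
    have := h w hw
    push Not at this
    exact thr_apply_of_ne _ _ _ _ this.1 this.2.1 this.2.2
  · left
    push Not at hw
    exact thr_apply_of_ne _ _ _ _ hw.1 hw.2.1 hw.2.2

/-- every permutation of 8 points commutes-conjugates some 3-cycle -/
theorem exists_good_three_cycle (c : Perm (Fin 8)) :
    ∃ σ' : Perm (Fin 8), σ'.IsThreeCycle ∧ Commute σ' (c * σ' * c⁻¹) := by
  classical
  set F : Finset (Fin 8) := Finset.univ.filter (fun x => c x = x) with hF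
  set M : Finset (Fin 8) := Finset.univ.filter (fun x => ¬ c x = x) with hM
  have hFM : F.card + M.card = 8 := by
    have := Finset.card_filter_add_card_filter_not (s := (Finset.univ : Finset (Fin 8)))
      (fun x => c x = x)
    simpa using this
  by_cases hF3 : 2 < F.card
  · -- three fixed points
    obtain ⟨x, y, z, hx, hy, hz, hxy, hxz, hyz⟩ := Finset.two_lt_card_iff.mp hF3
    rw [hF, Finset.mem_filter] at hx hy hz
    refine ⟨thr x y z, Perm.isThreeCycle_swap_mul_swap_same hxy hxz hyz, ?_⟩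
    rw [thr_conj, hx.2, hy.2, hz.2]
  · have hM6 : 6 ≤ M.card := by omega
    obtain ⟨x1, hx1⟩ : ∃ x1, x1 ∈ M := by
      apply Finset.card_pos.mp; omega
    set R : Finset (Fin 8) := M \ {x1, c x1, c⁻¹ x1} with hR
    have hR3 : 2 < R.card := by
      have h1 : ({x1, c x1, c⁻¹ x1} : Finset (Fin 8)).card ≤ 3 := Finset.card_le_three
      have h2 : M.card - ({x1, c x1, c⁻¹ x1} : Finset (Fin 8)).card ≤ R.card :=
        Finset.le_card_sdiff ({x1, c x1, c⁻¹ x1} : Finset (Fin 8)) M
      omega
    obtain ⟨u, v, w, hu, hv, hw, huv, huw, hvw⟩ := Finset.two_lt_card_iff.mp hR3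
    have hmemR : ∀ p, p ∈ R → c p ≠ p ∧ p ≠ x1 ∧ p ≠ c x1 ∧ c p ≠ x1 := by
      intro p hp
      rw [hR, Finset.mem_sdiff, hM, Finset.mem_filter] at hp
      simp only [Finset.mem_insert, Finset.mem_singleton, not_or] at hp
      refine ⟨hp.1.2, hp.2.1, hp.2.2.1, ?_⟩
      intro h
      apply hp.2.2.2
      rw [← h, Perm.inv_def, Equiv.symm_apply_apply]
    have hx1m : c x1 ≠ x1 := by
      rw [hM, Finset.mem_filter] at hx1; exact hx1.2
    -- independent pair case
    have indep : ∀ p q, p ∈ R → q ∈ R → p ≠ q → c p ≠ q → c q ≠ p →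
        ∃ σ' : Perm (Fin 8), σ'.IsThreeCycle ∧ Commute σ' (c * σ' * c⁻¹) := by
      intro p q hp hq hpq hcpq hcqp
      obtain ⟨hp1, hp2, hp3, hp4⟩ := hmemR p hp
      obtain ⟨hq1, hq2, hq3, hq4⟩ := hmemR q hq
      refine ⟨thr x1 p q, Perm.isThreeCycle_swap_mul_swap_same (Ne.symm hp2) (Ne.symm hq2) hpq, ?_⟩
      rw [thr_conj]
      apply thr_commute_of_disjoint
      rintro t (rfl | rfl | rfl) (h | h | h)
      · exact hx1m h.symm
      · exact hp4 h.symm
      · exact hq4 h.symm
      · exact hp3 h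
      · exact hp1 h.symm
      · exact hcqp h.symm
      · exact hq3 h
      · exact hcpq h.symm
      · exact hq1 h.symm
    by_cases h1 : c u ≠ v ∧ c v ≠ u
    · exact indep u v hu hv huv h1.1 h1.2
    by_cases h2 : c u ≠ w ∧ c w ≠ u
    · exact indep u w hu hw huw h2.1 h2.2
    by_cases h3 : c v ≠ w ∧ c w ≠ v
    · exact indep v w hv hw hvw h3.1 h3.2
    -- all pairs adjacent: a 3-cycle of c
    have h1' : c u = v ∨ c v = u := by
      by_contra h; push Not at h; exact h1 h
    have h2' : c u = w ∨ c w = u := by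
      by_contra h; push Not at h; exact h2 h
    have h3' : c v = w ∨ c w = v := by
      by_contra h; push Not at h; exact h3 h
    have hinj := c.injective
    rcases h1' with a1 | a1
    · -- c u = v
      have a2 : c w = u := by
        rcases h2' with a2 | a2
        · exact absurd (a1.symm.trans a2) hvw
        · exact a2
      have a3 : c v = w := by
        rcases h3' with a3 | a3
        · exact a3
        · exact absurd (a2.symm.trans a3) huv
      refine ⟨thr u v w, Perm.isThreeCycle_swap_mul_swap_same huv huw hvw, ?_⟩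
      rw [thr_conj, a1, a3, a2, thr_rotate u v w huv huw hvw]
    · -- c v = u
      have a2 : c u = w := by
        rcases h2' with a2 | a2
        · exact a2
        · exact absurd (hinj (a1.trans a2.symm)) hvw
      have a3 : c w = v := by
        rcases h3' with a3 | a3
        · exact absurd (a1.symm.trans a3) huw
        · exact a3
      refine ⟨thr u w v, Perm.isThreeCycle_swap_mul_swap_same huw huv (Ne.symm hvw), ?_⟩
      rw [thr_conj, a2, a3, a1, thr_rotate u w v huw huv (Ne.symm hvw)]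


/-- In the symmetric group of degree 8, let A be the subgroup generated by a 3-cycle. Then every conjugacy class contains an element g for which A is subnormal in the subgroup generated by A and its conjugate by g, although O_3 of the symmetric group of degree 8 is trivial. -/
theorem result
    (σ : Equiv.Perm (Fin 8)) (hσ : σ.IsThreeCycle) :
    (∀ c : Equiv.Perm (Fin 8), ∃ g : Equiv.Perm (Fin 8), IsConj c g ∧
      ((Subgroup.zpowers σ).subgroupOf (Subgroup.zpowers σ ⊔ MulAut.conj g • Subgroup.zpowers σ)).IsSubnormal) ∧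
    Cfsg.pCore 3 (Equiv.Perm (Fin 8)) = ⊥ := by
  constructor
  · intro c
    obtain ⟨σ', hσ', hcomm⟩ := exists_good_three_cycle c
    have hconj : IsConj σ' σ := by
      rw [Perm.isConj_iff_cycleType_eq, hσ'.cycleType, hσ.cycleType]
    obtain ⟨τ, hτ⟩ := isConj_iff.mp hconj
    refine ⟨τ * c * τ⁻¹, isConj_iff.mpr ⟨τ, rfl⟩, ?_⟩
    set g := τ * c * τ⁻¹ with hg
    -- σ commutes with its conjugate by g
    have hcomm2 : Commute σ (g * σ * g⁻¹) := by
      have e1 : g * σ * g⁻¹ = τ * (c * σ' * c⁻¹) * τ⁻¹ := by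
        rw [hg, ← hτ]; group
      rw [e1, ← hτ]
      show τ * σ' * τ⁻¹ * (τ * (c * σ' * c⁻¹) * τ⁻¹) = τ * (c * σ' * c⁻¹) * τ⁻¹ * (τ * σ' * τ⁻¹)
      have e2 : σ' * (c * σ' * c⁻¹) = (c * σ' * c⁻¹) * σ' := hcomm
      calc τ * σ' * τ⁻¹ * (τ * (c * σ' * c⁻¹) * τ⁻¹) = τ * (σ' * (c * σ' * c⁻¹)) * τ⁻¹ := by group
        _ = τ * ((c * σ' * c⁻¹) * σ') * τ⁻¹ := by rw [e2]
        _ = τ * (c * σ' * c⁻¹) * τ⁻¹ * (τ * σ' * τ⁻¹) := by group
    set A := Subgroup.zpowers σ with hA
    set J := A ⊔ MulAut.conj g • A with hJ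
    have hAg : MulAut.conj g • A = Subgroup.zpowers (g * σ * g⁻¹) := by
      rw [hA]
      show (Subgroup.zpowers σ).map (MulAut.conj g).toMonoidHom = _
      rw [MonoidHom.map_zpowers]
      rfl
    have hJle : J ≤ Subgroup.centralizer (A : Set (Perm (Fin 8))) := by
      rw [hJ, sup_le_iff]
      constructor
      · intro a ha
        rw [Subgroup.mem_centralizer_iff]
        intro b hb
        obtain ⟨m, rfl⟩ := Subgroup.mem_zpowers_iff.mp ha
        obtain ⟨n, rfl⟩ := Subgroup.mem_zpowers_iff.mp hb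
        exact ((Commute.refl σ).zpow_zpow n m).eq
      · rw [hAg, Subgroup.zpowers_le, Subgroup.mem_centralizer_iff]
        intro b hb
        obtain ⟨n, rfl⟩ := Subgroup.mem_zpowers_iff.mp hb
        exact (hcomm2.zpow_left n).eq
    apply Subgroup.Normal.isSubnormal
    constructor
    rintro ⟨n, hnJ⟩ hn ⟨j, hjJ⟩
    rw [Subgroup.mem_subgroupOf] at hn ⊢
    have hn' : n ∈ A := hn
    show j * n * j⁻¹ ∈ A
    have hjc := Subgroup.mem_centralizer_iff.mp (hJle hjJ) n hn'
    have : j * n * j⁻¹ = n := by rw [← hjc]; group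
    rw [this]; exact hn'
  · unfold Cfsg.pCore
    rw [sSup_eq_bot]
    rintro N ⟨hNn, hNp⟩
    by_contra hN
    haveI := hNn
    have h1 := card_dvd_card_of_normal N hN
    rw [Nat.card_eq_fintype_card, Fintype.card_fin] at h1
    obtain ⟨k, hk⟩ := IsPGroup.exists_card_eq hNp
    rw [hk] at h1
    have h2 : 2 ∣ 3 ^ k := dvd_trans (by norm_num) h1
    have h3 := Nat.Prime.dvd_of_dvd_pow Nat.prime_two h2
    omega

end Cfsg.Agent.S4332
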