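import Mathlib
import Cfsg.Statements.S4333
import Cfsg.Agent.Helper1.Wielandt

set_option autoImplicit false
open Pointwise
open Cfsg

namespace Cfsg.Agent.S4333

open Cfsg.Agent.Helper1

variable {G : Type*} [Group G]

theorem conj_smul_self_of_mem {H : Subgroup G} {x : G} (hx : x ∈ H) :
    MulAut.conj x • H = H := by
  rw [conj_smul_eq_self_iff]
  exact Subgroup.le_normalizer hx

/-- conjugating a maximal subgroup of `H` by an element of `H` gives a maximal subgroup of `H`. -/
theorem maxIn_conj [Finite G] {M H : Subgroup G} (hM : MaxIn M H) {x : G} (hx : x ∈ H) :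
    MaxIn (MulAut.conj x • M) H := by
  refine ⟨conj_smul_lt_of_mem hM.1 hx, ?_⟩
  intro K hMK hKH
  have hKx : MulAut.conj x⁻¹ • K ≤ H := by
    have h1 : MulAut.conj x⁻¹ • K ≤ MulAut.conj x⁻¹ • H :=
      Subgroup.pointwise_smul_le_pointwise_smul_iff.mpr hKH
    rwa [conj_smul_self_of_mem (H.inv_mem hx)] at h1
  have hlt : M < MulAut.conj x⁻¹ • K := by
    have h1 : MulAut.conj x⁻¹ • (MulAut.conj x • M) < MulAut.conj x⁻¹ • K := by
      rw [lt_iff_le_not_ge]
      constructor
      · exact Subgroup.pointwise_smul_le_pointwise_smul_iff.mpr hMK.le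
      · intro hh
        exact (not_le_of_gt hMK) (Subgroup.pointwise_smul_le_pointwise_smul_iff.mp hh)
    have e : MulAut.conj x⁻¹ • (MulAut.conj x • M) = M := by rw [map_inv, inv_smul_smul]
    rwa [e] at h1
  have := hM.2 _ hlt hKx
  have h2 : MulAut.conj x • (MulAut.conj x⁻¹ • K) = MulAut.conj x • H := by rw [this]
  rw [map_inv, smul_inv_smul] at h2
  rw [h2]
  exact conj_smul_self_of_mem hx

/-- Sharpened Wielandt criterion, relative form. -/
theorem wielandt_sharp_rel [Finite G] :
    ∀ (n : ℕ) (H A : Subgroup G), Nat.card H = n → A ≤ H →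
      (∀ a ∈ A, ∀ g ∈ H, SubnIn A (A ⊔ MulAut.conj (g⁻¹ * a * g) • A)) → SubnIn A H := by
  intro n
  induction n using Nat.strong_induction_on with
  | _ n ih =>
  intro H A hn hAH hyp
  by_contra hii
  have hi : ∀ K : Subgroup G, A ≤ K → K < H → SubnIn A K := by
    intro K hAK hKH
    have hlt := card_lt_of_lt' hKH
    exact ih _ (by omega) K A rfl hAK (fun a ha g hg => hyp a ha g (hKH.le hg))
  have hAlt : A < H := by
    refine lt_of_le_of_ne hAH ?_
    rintro rfl
    exact hii (SubnIn.refl _)
  obtain ⟨M, hM, hAM⟩ := exists_maxIn _ _ hAlt rfl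
  -- `M` is not normal in `H`
  have hMnn : ¬ H ≤ Subgroup.normalizer (M : Set G) := by
    intro hn
    exact hii ((hi M hAM hM.1).trans (SubnIn.of_normal hM.1.le hn))
  -- all `H`-conjugates of elements of `A` lie in `M`
  have hxM : ∀ a ∈ A, ∀ g ∈ H, g⁻¹ * a * g ∈ M := by
    intro a ha g hg
    set x := g⁻¹ * a * g with hx
    have hxH : x ∈ H := H.mul_mem (H.mul_mem (H.inv_mem hg) (hAH ha)) hg
    set J := A ⊔ MulAut.conj x • A with hJ
    have hgA : MulAut.conj x • A ≤ H := (conj_smul_lt_of_mem hAlt hxH).le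
    have hJH : J ≤ H := sup_le hAH hgA
    have hJlt : J < H := by
      refine lt_of_le_of_ne hJH ?_
      intro heq
      apply hii
      have := hyp a ha g hg
      rwa [← hx, ← hJ, heq] at this
    obtain ⟨M', hM', hJM'⟩ := exists_maxIn _ _ hJlt rfl
    have hMM' := zipper _ A hAH rfl hi hii M' M hM' hM (le_sup_left.trans hJM') hAM
    have hxAM : MulAut.conj x • A ≤ M := by
      rw [← hMM']
      exact le_sup_right.trans hJM'
    -- so `A ≤ x⁻¹ • M`, a maximal subgroup of `H`, hence `x⁻¹ • M = M`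
    have hA2 : A ≤ MulAut.conj x⁻¹ • M := by
      have h1 : MulAut.conj x⁻¹ • (MulAut.conj x • A) ≤ MulAut.conj x⁻¹ • M :=
        Subgroup.pointwise_smul_le_pointwise_smul_iff.mpr hxAM
      have e : MulAut.conj x⁻¹ • (MulAut.conj x • A) = A := by rw [map_inv, inv_smul_smul]
      rwa [e] at h1
    have hM2 : MaxIn (MulAut.conj x⁻¹ • M) H := maxIn_conj hM (H.inv_mem hxH)
    have heq := zipper _ A hAH rfl hi hii _ M hM2 hM hA2 hAM
    have hxN : x ∈ Subgroup.normalizer (M : Set G) := by
      rw [conj_smul_eq_self_iff] at heq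
      simpa using heq
    by_contra hxnM
    apply hMnn
    have hlt : M < M ⊔ Subgroup.zpowers x := by
      refine lt_of_le_of_ne le_sup_left ?_
      intro h
      apply hxnM
      rw [h]
      exact (le_sup_right : Subgroup.zpowers x ≤ M ⊔ Subgroup.zpowers x) (Subgroup.mem_zpowers x)
    have hle : M ⊔ Subgroup.zpowers x ≤ H := sup_le hM.1.le (by
      rw [Subgroup.zpowers_le]; exact hxH)
    have := hM.2 _ hlt hle
    rw [← this]
    exact sup_le Subgroup.le_normalizer (by rw [Subgroup.zpowers_le]; exact hxN)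
  have hconjM : ∀ g ∈ H, MulAut.conj g • A ≤ M := by
    intro g hg y hy
    rw [mem_conj_smul_iff] at hy
    have := hxM _ hy g⁻¹ (H.inv_mem hg)
    have e : g⁻¹⁻¹ * (g⁻¹ * y * g) * g⁻¹ = y := by group
    rwa [e] at this
  -- the normal closure of A in H
  set C : Subgroup G := ⨆ g : H, MulAut.conj (g : G) • A with hC
  have hCM : C ≤ M := iSup_le fun g => hconjM g g.2
  have hAC : A ≤ C := by
    have := le_iSup (fun g : H => MulAut.conj (g : G) • A) 1
    simpa using this
  have hCH : C < H := lt_of_le_of_lt hCM hM.1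
  have hCN : H ≤ Subgroup.normalizer (C : Set G) := by
    intro h hh
    rw [← conj_smul_eq_self_iff]
    apply Cfsg.Agent.Helper3.conj_smul_le_eq
    rw [hC, ← map_conj_eq_smul, Subgroup.map_iSup]
    apply iSup_le
    intro g
    have : (MulAut.conj (g : G) • A).map (MulAut.conj h).toMonoidHom = MulAut.conj (h * g) • A := by
      rw [map_conj_eq_smul, map_mul, mul_smul]
    rw [this]
    exact le_iSup (fun g : H => MulAut.conj (g : G) • A) ⟨h * g, H.mul_mem hh g.2⟩
  exact hii ((hi C hAC hCH).trans (SubnIn.of_normal hCH.le hCN))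

/-- Let A be a subgroup of a finite group G. If A is subnormal in the subgroup generated by A and its conjugate by g⁻¹ a g, for every a ∈ A and every g ∈ G, then A is subnormal in G. (A sharpening of Wielandt's subnormality criterion: only conjugates of A by conjugates of elements of A are needed.) -/
theorem result {G : Type*} [Group G] [Finite G]
    (A : Subgroup G)
    (h : ∀ a ∈ A, ∀ g : G, (A.subgroupOf (A ⊔ MulAut.conj (g⁻¹ * a * g) • A)).IsSubnormal) :
    A.IsSubnormal := by
  rw [← subnIn_top_iff]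
  exact wielandt_sharp_rel _ ⊤ A rfl le_top (fun a ha g _ => ⟨le_sup_left, h a ha g⟩)

end Cfsg.Agent.S4333
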