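import Mathlib
import Cfsg.Statements.S4334
import Cfsg.Agent.S0071
import Cfsg.Agent.S0132
import Cfsg.Agent.S4314
import Cfsg.Agent.Helper29.Schmidt
import Cfsg.Agent.Helper29.NilpHall
import Cfsg.Agent.Lead.Compl

set_option autoImplicit false
set_option linter.unusedSectionVars false
open Cfsg

namespace Cfsg.Agent.S4334

open Subgroup
open scoped Pointwise
open Cfsg.Agent.Helper29
open Cfsg.Agent.Lead (mem_conj_smul_iff card_conj_smul)
open Cfsg.Agent.S4314 (exists_pow_mul_eq_left exists_pow_mul_eq_right)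

section
variable {G : Type*} [Group G] [Finite G]

/-- the data of the theorem -/
structure Setup (σ τ π : Set ℕ) (H Hs Ht : Subgroup G) : Prop where
  hpi : π = σ ∪ τ
  disj : Disjoint σ τ
  hall : Cfsg.IsPiHall π H
  hs : Cfsg.IsPiSubgroup σ Hs
  ht : Cfsg.IsPiSubgroup τ Ht
  nil : Group.IsNilpotent Hs
  join : Hs ⊔ Ht = H
  comm : ∀ a ∈ Hs, ∀ b ∈ Ht, a * b = b * a

variable {σ τ π : Set ℕ} {H Hs Ht : Subgroup G}

theorem index_conj_smul (x : G) (H : Subgroup G) : (MulAut.conj x • H).index = H.index := by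
  have h1 := Subgroup.card_mul_index (MulAut.conj x • H)
  have h2 := Subgroup.card_mul_index H
  rw [card_conj_smul] at h1
  exact Nat.eq_of_mul_eq_mul_left Nat.card_pos (h1.trans h2.symm)

theorem Setup.conj (S : Setup σ τ π H Hs Ht) (x : G) :
    Setup σ τ π (MulAut.conj x • H) (MulAut.conj x • Hs) (MulAut.conj x • Ht) where
  hpi := S.hpi
  disj := S.disj
  hall := ⟨fun p hp hd => S.hall.1 p hp (by rwa [card_conj_smul] at hd),
    fun p hp hpi hd => S.hall.2 p hp hpi (by rwa [index_conj_smul] at hd)⟩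
  hs := fun p hp hd => S.hs p hp (by rwa [card_conj_smul] at hd)
  ht := fun p hp hd => S.ht p hp (by rwa [card_conj_smul] at hd)
  nil := nilpotent_conj_smul x S.nil
  join := by rw [← Subgroup.smul_sup, S.join]
  comm := by
    intro a ha b hb
    rw [mem_conj_smul_iff] at ha hb
    have := S.comm _ ha _ hb
    calc a * b = x * ((x⁻¹ * a * x) * (x⁻¹ * b * x)) * x⁻¹ := by group
      _ = x * ((x⁻¹ * b * x) * (x⁻¹ * a * x)) * x⁻¹ := by rw [this]
      _ = b * a := by group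

theorem Setup.hs_le (S : Setup σ τ π H Hs Ht) : Hs ≤ H := S.join ▸ le_sup_left
theorem Setup.ht_le (S : Setup σ τ π H Hs Ht) : Ht ≤ H := S.join ▸ le_sup_right

theorem Setup.not_mem_tau (S : Setup σ τ π H Hs Ht) {p : ℕ} (hp : p ∈ σ) : p ∉ τ :=
  fun h => (Set.disjoint_left.mp S.disj) hp h

theorem Setup.not_mem_sigma (S : Setup σ τ π H Hs Ht) {p : ℕ} (hp : p ∈ τ) : p ∉ σ :=
  fun h => (Set.disjoint_left.mp S.disj) h hp

theorem Setup.exists_mul (S : Setup σ τ π H Hs Ht) {h : G} (hh : h ∈ H) :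
    ∃ s ∈ Hs, ∃ t ∈ Ht, h = s * t := by
  rw [← S.join, Subgroup.sup_eq_closure] at hh
  induction hh using Subgroup.closure_induction with
  | mem x hx =>
    rcases hx with hx | hx
    · exact ⟨x, hx, 1, one_mem _, (mul_one x).symm⟩
    · exact ⟨1, one_mem _, x, hx, (one_mul x).symm⟩
  | one => exact ⟨1, one_mem _, 1, one_mem _, (mul_one 1).symm⟩
  | mul x y _ _ hx hy =>
    obtain ⟨s, hs, t, ht, rfl⟩ := hx
    obtain ⟨s', hs', t', ht', rfl⟩ := hy
    refine ⟨s * s', mul_mem hs hs', t * t', mul_mem ht ht', ?_⟩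
    have := S.comm s' hs' t ht
    calc s * t * (s' * t') = s * (t * s') * t' := by group
      _ = s * (s' * t) * t' := by rw [this]
      _ = s * s' * (t * t') := by group
  | inv x _ hx =>
    obtain ⟨s, hs, t, ht, rfl⟩ := hx
    refine ⟨s⁻¹, inv_mem hs, t⁻¹, inv_mem ht, ?_⟩
    have := S.comm s hs t ht
    rw [← mul_inv_rev, this]

theorem Setup.coprime_orderOf (S : Setup σ τ π H Hs Ht) {s t : G} (hs : s ∈ Hs) (ht : t ∈ Ht) :
    (orderOf s).Coprime (orderOf t) := by
  apply Nat.coprime_of_dvd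
  intro r hr h1 h2
  have h3 : r ∈ σ := S.hs r hr (h1.trans (Subgroup.orderOf_dvd_natCard _ hs))
  have h4 : r ∈ τ := S.ht r hr (h2.trans (Subgroup.orderOf_dvd_natCard _ ht))
  exact S.not_mem_tau h3 h4

theorem Setup.exists_mul_pow (S : Setup σ τ π H Hs Ht) {h : G} (hh : h ∈ H) :
    ∃ s ∈ Hs, ∃ t ∈ Ht, h = s * t ∧ (∃ i : ℕ, h ^ i = s) ∧ ∃ j : ℕ, h ^ j = t := by
  obtain ⟨s, hs, t, ht, rfl⟩ := S.exists_mul hh
  have hc : Commute s t := S.comm s hs t ht
  have hco := S.coprime_orderOf hs ht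
  exact ⟨s, hs, t, ht, rfl, exists_pow_mul_eq_left hc hco, exists_pow_mul_eq_right hc hco⟩

theorem Setup.mem_Hs (S : Setup σ τ π H Hs Ht) {h : G} (hh : h ∈ H)
    (hord : ∀ r : ℕ, r.Prime → r ∣ orderOf h → r ∉ τ) : h ∈ Hs := by
  obtain ⟨s, hs, t, ht, rfl, -, j, hj⟩ := S.exists_mul_pow hh
  have ht1 : t = 1 := by
    by_contra hne
    have hne1 : orderOf t ≠ 1 := fun e => hne (orderOf_eq_one_iff.mp e)
    obtain ⟨r, hr, hrd⟩ := Nat.exists_prime_and_dvd hne1
    have h1 : r ∣ orderOf (s * t) := by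
      rw [← hj] at hrd
      exact hrd.trans (orderOf_pow_dvd j)
    exact hord r hr h1 (S.ht r hr (hrd.trans (Subgroup.orderOf_dvd_natCard _ ht)))
  rw [ht1, mul_one]
  exact hs

theorem Setup.mem_Ht (S : Setup σ τ π H Hs Ht) {h : G} (hh : h ∈ H)
    (hord : ∀ r : ℕ, r.Prime → r ∣ orderOf h → r ∉ σ) : h ∈ Ht := by
  obtain ⟨s, hs, t, ht, rfl, ⟨i, hi⟩, -⟩ := S.exists_mul_pow hh
  have hs1 : s = 1 := by
    by_contra hne
    have hne1 : orderOf s ≠ 1 := fun e => hne (orderOf_eq_one_iff.mp e)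
    obtain ⟨r, hr, hrd⟩ := Nat.exists_prime_and_dvd hne1
    have h1 : r ∣ orderOf (s * t) := by
      rw [← hi] at hrd
      exact hrd.trans (orderOf_pow_dvd i)
    exact hord r hr h1 (S.hs r hr (hrd.trans (Subgroup.orderOf_dvd_natCard _ hs)))
  rw [hs1, one_mul]
  exact ht

/-- a `q`-element of `H` (`q ∈ σ`) commutes with every `q'`-element of `H` -/
theorem Setup.commute_sigma (S : Setup σ τ π H Hs Ht) {q : ℕ} (hqp : q.Prime) (hq : q ∈ σ)
    {r n : G} (hr : r ∈ H) (hn : n ∈ H) {k : ℕ} (hrq : orderOf r = q ^ k)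
    (hnq : (orderOf n).Coprime q) : r * n = n * r := by
  have hrs : r ∈ Hs := by
    apply S.mem_Hs hr
    intro p hp hpd
    rw [hrq] at hpd
    have := (Nat.prime_dvd_prime_iff_eq hp hqp).mp (hp.dvd_of_dvd_pow hpd)
    rw [this]
    exact S.not_mem_tau hq
  obtain ⟨s, hs, t, ht, rfl, ⟨i, hi⟩, -⟩ := S.exists_mul_pow hn
  have h1 : r * t = t * r := S.comm r hrs t ht
  have h2 : r * s = s * r := by
    have : Group.IsNilpotent Hs := S.nil
    have hco : (orderOf (⟨r, hrs⟩ : Hs)).Coprime (orderOf (⟨s, hs⟩ : Hs)) := by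
      rw [Subgroup.orderOf_mk, Subgroup.orderOf_mk, hrq]
      apply Nat.Coprime.pow_left
      have : orderOf s ∣ orderOf (s * t) := by
        conv_lhs => rw [← hi]
        exact orderOf_pow_dvd i
      exact (Nat.Coprime.coprime_dvd_left this hnq).symm
    have := commute_of_nilpotent_of_coprime_orderOf Hs _ _ hco
    exact congrArg Subtype.val this.eq
  calc r * (s * t) = (r * s) * t := by group
    _ = s * (r * t) := by rw [h2]; group
    _ = s * t * r := by rw [h1]; group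

/-- a `q`-element of `H` (`q ∈ τ`) commutes with every `σ`-element of `H` -/
theorem Setup.commute_tau (S : Setup σ τ π H Hs Ht) {q : ℕ} (hqp : q.Prime) (hq : q ∈ τ)
    {r n : G} (hr : r ∈ H) (hn : n ∈ H) {k : ℕ} (hrq : orderOf r = q ^ k)
    (hnσ : ∀ p : ℕ, p.Prime → p ∣ orderOf n → p ∈ σ) : r * n = n * r := by
  have hrt : r ∈ Ht := by
    apply S.mem_Ht hr
    intro p hp hpd
    rw [hrq] at hpd
    have := (Nat.prime_dvd_prime_iff_eq hp hqp).mp (hp.dvd_of_dvd_pow hpd)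
    rw [this]
    exact S.not_mem_sigma hq
  have hns : n ∈ Hs := S.mem_Hs hn (fun p hp hpd => S.not_mem_tau (hnσ p hp hpd))
  exact (S.comm n hns r hrt).symm

theorem Setup.hall_coprime (S : Setup σ τ π H Hs Ht) : (Nat.card H).Coprime H.index := by
  apply Nat.coprime_of_dvd
  intro r hr h1 h2
  exact S.hall.2 r hr (S.hall.1 r hr h1) h2

theorem Setup.mem_pi_left (S : Setup σ τ π H Hs Ht) {p : ℕ} (hp : p ∈ σ) : p ∈ π := by
  rw [S.hpi]; exact Or.inl hp

theorem Setup.mem_pi_right (S : Setup σ τ π H Hs Ht) {p : ℕ} (hp : p ∈ τ) : p ∈ π := by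
  rw [S.hpi]; exact Or.inr hp

/-- a prime of `π` dividing `|G|` divides `|H|` -/
theorem Setup.dvd_card (S : Setup σ τ π H Hs Ht) {q : ℕ} (hqp : q.Prime) (hq : q ∈ π)
    (hd : q ∣ Nat.card G) : q ∣ Nat.card H := by
  rw [← Subgroup.card_mul_index H] at hd
  rcases (Nat.Prime.dvd_mul hqp).mp hd with h | h
  · exact h
  · exact absurd h (S.hall.2 q hqp hq)

/-- `H` contains a Sylow `q`-subgroup of `G` for `q ∈ π` dividing `|G|` -/
theorem Setup.exists_sylow_le (S : Setup σ τ π H Hs Ht) {q : ℕ} [Fact q.Prime] (hq : q ∈ π)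
    (hd : q ∣ Nat.card G) : ∃ R : Sylow q G, (R : Subgroup G) ≤ H := by
  obtain ⟨R'⟩ : Nonempty (Sylow q H) := inferInstance
  obtain ⟨R, hR⟩ := exists_sylow_eq_map_of_hall S.hall_coprime (S.dvd_card Fact.out hq hd) R'
  refine ⟨R, ?_⟩
  rw [hR]
  rintro _ ⟨x, _, rfl⟩
  exact x.2

theorem orderOf_of_mem_pgroup {q : ℕ} [Fact q.Prime] {R : Subgroup G} (hR : IsPGroup q R)
    {x : G} (hx : x ∈ R) : ∃ k : ℕ, orderOf x = q ^ k := by
  obtain ⟨k, hk⟩ := hR ⟨x, hx⟩
  have h1 : x ^ q ^ k = 1 := congrArg Subtype.val hk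
  obtain ⟨j, -, hj⟩ := (Nat.dvd_prime_pow Fact.out).mp (orderOf_dvd_of_pow_eq_one h1)
  exact ⟨j, hj⟩

/-- `Ht` is a Hall `τ`-subgroup of `G` -/
theorem Setup.not_dvd_index_Ht (S : Setup σ τ π H Hs Ht) {r : ℕ} (hr : r.Prime) (hrτ : r ∈ τ) :
    ¬ r ∣ Ht.index := by
  have : Fact r.Prime := ⟨hr⟩
  by_cases hd : r ∣ Nat.card G
  · obtain ⟨R, hR⟩ := S.exists_sylow_le (S.mem_pi_right hrτ) hd
    have hRt : (R : Subgroup G) ≤ Ht := by
      intro x hx
      apply S.mem_Ht (hR hx)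
      intro p hp hpd
      obtain ⟨k, hk⟩ := orderOf_of_mem_pgroup R.isPGroup' hx
      rw [hk] at hpd
      have := (Nat.prime_dvd_prime_iff_eq hp hr).mp (hp.dvd_of_dvd_pow hpd)
      rw [this]
      exact S.not_mem_sigma hrτ
    intro h
    exact R.not_dvd_index (h.trans (Subgroup.index_dvd_of_le hRt))
  · intro h
    exact hd (h.trans (Subgroup.index_dvd_card Ht))

theorem Setup.maximal_Ht (S : Setup σ τ π H Hs Ht) : Maximal (Cfsg.IsPiSubgroup τ) Ht := by
  refine ⟨S.ht, fun L hL hle => ?_⟩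
  rw [← Subgroup.relIndex_eq_one]
  by_contra hne
  obtain ⟨r, hr, hrd⟩ := Nat.exists_prime_and_dvd hne
  have h1 : r ∈ τ := hL r hr (hrd.trans (Subgroup.relIndex_dvd_card Ht L))
  have h2 : r ∣ Ht.index := hrd.trans (Dvd.intro _ (Subgroup.relIndex_mul_index hle))
  exact S.not_dvd_index_Ht hr h1 h2

theorem Setup.tau_case (S : Setup σ τ π H Hs Ht) (hD : Cfsg.IsDPiGroup τ G) {K : Subgroup G}
    (hK : Cfsg.IsPiSubgroup τ K) : ∃ x : G, K ≤ MulAut.conj x • H := by
  obtain ⟨K', hKK', hK'⟩ := Finite.exists_le_maximal (p := Cfsg.IsPiSubgroup τ) hK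
  obtain ⟨g, hg⟩ := hD Ht K' S.maximal_Ht hK'
  refine ⟨g, hKK'.trans ?_⟩
  rw [hg]
  exact Subgroup.map_mono S.ht_le

/-- subgroups of conjugates of `H` have normal `p`-complements for `p ∈ σ` -/
theorem Setup.hasNormalPComplement (S : Setup σ τ π H Hs Ht) {p : ℕ} [Fact p.Prime] (hp : p ∈ σ)
    {K : Subgroup G} (L' : Subgroup K) {x : G}
    (hx : L'.map K.subtype ≤ MulAut.conj x • H) : Cfsg.HasNormalPComplement p L' := by
  obtain ⟨P⟩ : Nonempty (Sylow p L') := inferInstance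
  have S' := S.conj x
  have hmem : ∀ g : L', ((g : K) : G) ∈ MulAut.conj x • H := fun g => hx ⟨g, g.2, rfl⟩
  obtain ⟨N, hN, hc⟩ := (Cfsg.Agent.S0071.result P).mpr (by
    intro Q hQP g _ hcop
    rw [mem_centralizer_iff]
    intro z hz
    obtain ⟨k, hk⟩ := orderOf_of_mem_pgroup P.isPGroup' (hQP hz)
    have hk' : orderOf ((z : K) : G) = p ^ k := by
      rw [Subgroup.orderOf_coe, Subgroup.orderOf_coe]; exact hk
    have hcop' : (orderOf ((g : K) : G)).Coprime p := by
      rw [Subgroup.orderOf_coe, Subgroup.orderOf_coe]; exact hcop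
    have := S'.commute_sigma Fact.out hp (hmem z) (hmem g) hk' hcop'
    apply Subtype.ext
    apply Subtype.ext
    exact this)
  exact ⟨P, N, hN, hc⟩

theorem card_lt_of_lt' {L K : Subgroup G} (h : L < K) : Nat.card L < Nat.card K := by
  rcases eq_or_lt_of_le (Subgroup.card_le_of_le h.le) with he | hl
  · exact absurd (Subgroup.eq_of_le_of_card_ge h.le he.ge) h.ne
  · exact hl

/-- The structural step. -/
theorem Setup.exists_split (S : Setup σ τ π H Hs Ht) (K : Subgroup G)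
    (hKπ : Cfsg.IsPiSubgroup π K)
    (hprop : ∀ L : Subgroup G, L < K → ∃ x : G, L ≤ MulAut.conj x • H)
    {p : ℕ} (hp : p.Prime) (hpK : p ∣ Nat.card K) (hpτ : p ∉ τ) :
    ∃ (q : ℕ) (_ : Fact q.Prime) (N Q : Subgroup G), q ∣ Nat.card K ∧ N < K ∧
      K ≤ normalizer (N : Set G) ∧ Q ≤ K ∧ IsPGroup q Q ∧ K ≤ N ⊔ Q ∧
      ((q ∈ σ ∧ (Nat.card N).Coprime q) ∨ (q ∈ τ ∧ Cfsg.IsPiSubgroup σ N)) := by
  have hpF : Fact p.Prime := ⟨hp⟩
  have hpσ : p ∈ σ := by
    have := hKπ p hp hpK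
    rw [S.hpi] at this
    rcases this with h | h
    · exact h
    · exact absurd h hpτ
  have hmapK : ∀ L : Subgroup K, L.map K.subtype ≤ K := by
    rintro L _ ⟨x, _, rfl⟩
    exact x.2
  have hmap_ne : ∀ L : Subgroup K, L ≠ ⊤ → L.map K.subtype < K := by
    intro L hL
    refine lt_of_le_of_ne (hmapK L) ?_
    intro h
    apply hL
    apply Subgroup.map_injective K.subtype_injective
    rw [h, ← MonoidHom.range_eq_map, Subgroup.range_subtype]
  have hnorm : ∀ T : Subgroup K, T.Normal → K ≤ normalizer ((T.map K.subtype : Subgroup G) : Set G) := by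
    intro T hT
    apply le_normalizer_of_conj_mem
    rintro k hk _ ⟨t, ht, rfl⟩
    exact ⟨⟨k, hk⟩ * t * ⟨k, hk⟩⁻¹, hT.conj_mem t ht _, by simp⟩
  by_cases hnpc : Cfsg.HasNormalPComplement p K
  · obtain ⟨P', N', hN'n, hc⟩ := hnpc
    have hP'ne : (P' : Subgroup K) ≠ ⊥ := P'.ne_bot_of_dvd_card hpK
    have hN'top : N' ≠ ⊤ := by
      intro h
      have := hc.disjoint
      rw [h, top_disjoint] at this
      exact hP'ne this
    have hN'card : (Nat.card N').Coprime p := by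
      have h1 : (P' : Subgroup K).index = Nat.card N' := hc.index_eq_card
      rw [← h1, Nat.coprime_comm, Nat.Prime.coprime_iff_not_dvd hp]
      exact P'.not_dvd_index
    refine ⟨p, hpF, N'.map K.subtype, (P' : Subgroup K).map K.subtype, hpK, hmap_ne N' hN'top,
      hnorm N' hN'n, hmapK _, P'.isPGroup'.map _, ?_, Or.inl ⟨hpσ, ?_⟩⟩
    · rw [← Subgroup.map_sup, hc.sup_eq_top, ← MonoidHom.range_eq_map, Subgroup.range_subtype]
    · rw [Subgroup.card_subtype]
      exact hN'card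
  · have h2 : ∀ L' : Subgroup K, L' ≠ ⊤ → Cfsg.HasNormalPComplement p L' := by
      intro L' hL'
      obtain ⟨x, hx⟩ := hprop _ (hmap_ne L' hL')
      exact S.hasNormalPComplement hpσ L' hx
    obtain ⟨hnil, hnn, -⟩ := Cfsg.Agent.S0132.result hnpc h2
    have hmin : Cfsg.IsMinimalNonNilpotent K := ⟨hnn, hnil⟩
    obtain ⟨p', q', hp', hq', hpq, P', Q', -, hQ'n, hPQ'⟩ := schmidt_structure hmin
    have hp'F : Fact p'.Prime := ⟨hp'⟩
    have hq'F : Fact q'.Prime := ⟨hq'⟩
    have hQ'top : (Q' : Subgroup K) ≠ ⊤ := by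
      intro h
      apply hnn
      have : IsPGroup q' K := by
        have := Q'.isPGroup'
        rw [h] at this
        exact this.of_equiv Subgroup.topEquiv
      exact this.isNilpotent
    have hP'top : (P' : Subgroup K) ≠ ⊤ := by
      intro h
      apply hnn
      have : IsPGroup p' K := by
        have := P'.isPGroup'
        rw [h] at this
        exact this.of_equiv Subgroup.topEquiv
      exact this.isNilpotent
    have hP'ne : (P' : Subgroup K) ≠ ⊥ := by
      intro h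
      apply hQ'top
      rw [← hPQ', h, bot_sup_eq]
    have hQ'ne : (Q' : Subgroup K) ≠ ⊥ := by
      intro h
      apply hP'top
      rw [← hPQ', h, sup_bot_eq]
    have hdvd_of_ne : ∀ (r : ℕ) [Fact r.Prime] (R : Sylow r K), (R : Subgroup K) ≠ ⊥ →
        r ∣ Nat.card K := by
      intro r _ R hR
      by_contra hnd
      apply hR
      have h1 := R.card_eq_multiplicity
      rw [Nat.factorization_eq_zero_of_not_dvd hnd, pow_zero] at h1
      exact Subgroup.card_eq_one.mp h1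
    have hp'K : p' ∣ Nat.card K := hdvd_of_ne p' P' hP'ne
    have hq'K : q' ∣ Nat.card K := hdvd_of_ne q' Q' hQ'ne
    obtain ⟨n, hn⟩ := IsPGroup.iff_card.mp Q'.isPGroup'
    have hp'π : p' ∈ π := hKπ p' hp' hp'K
    have hq'π : q' ∈ π := hKπ q' hq' hq'K
    refine ⟨p', hp'F, (Q' : Subgroup K).map K.subtype, (P' : Subgroup K).map K.subtype, hp'K,
      hmap_ne _ hQ'top, hnorm _ hQ'n, hmapK _, P'.isPGroup'.map _, ?_, ?_⟩
    · rw [← Subgroup.map_sup, sup_comm, hPQ', ← MonoidHom.range_eq_map, Subgroup.range_subtype]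
    · rw [S.hpi] at hp'π hq'π
      rcases hp'π with hp'σ | hp'τ
      · left
        refine ⟨hp'σ, ?_⟩
        rw [Subgroup.card_subtype, hn]
        exact Nat.Coprime.pow_left n ((Nat.coprime_primes hq' hp').mpr hpq.symm)
      · right
        refine ⟨hp'τ, ?_⟩
        rcases hq'π with hq'σ | hq'τ
        · intro r hr hrd
          rw [Subgroup.card_subtype, hn] at hrd
          have := (Nat.prime_dvd_prime_iff_eq hr hq').mp (hr.dvd_of_dvd_pow hrd)
          rw [this]
          exact hq'σ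
        · -- then `K` is a `τ`-group, contradicting `p ∉ τ`
          exfalso
          have h1 : (Q' : Subgroup K).index ∣ Nat.card (P' : Subgroup K) := by
            have h3 : (Q' : Subgroup K).relIndex ((P' : Subgroup K) ⊔ Q') =
                (Q' : Subgroup K).relIndex P' := Subgroup.relIndex_sup_right _ _
            rw [hPQ', Subgroup.relIndex_top_right] at h3
            rw [h3]
            exact Subgroup.relIndex_dvd_card _ _
          obtain ⟨m, hm⟩ := IsPGroup.iff_card.mp P'.isPGroup'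
          have h4 : p ∣ Nat.card (Q' : Subgroup K) * (Q' : Subgroup K).index := by
            rw [Subgroup.card_mul_index]
            exact hpK
          rcases (Nat.Prime.dvd_mul hp).mp h4 with h5 | h5
          · rw [hn] at h5
            have := (Nat.prime_dvd_prime_iff_eq hp hq').mp (hp.dvd_of_dvd_pow h5)
            exact hpτ (this ▸ hq'τ)
          · have h6 := h5.trans h1
            rw [hm] at h6
            have := (Nat.prime_dvd_prime_iff_eq hp hp').mp (hp.dvd_of_dvd_pow h6)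
            exact hpτ (this ▸ hp'τ)

theorem Setup.main (S : Setup σ τ π H Hs Ht) (hD : Cfsg.IsDPiGroup τ G) (n : ℕ) :
    ∀ K : Subgroup G, Nat.card K = n → Cfsg.IsPiSubgroup π K →
      ∃ x : G, K ≤ MulAut.conj x • H := by
  induction n using Nat.strong_induction_on with
  | _ n ih =>
  intro K hn hK
  have hIH : ∀ L : Subgroup G, L < K → ∃ x : G, L ≤ MulAut.conj x • H := by
    intro L hL
    have hlt : Nat.card L < n := hn ▸ card_lt_of_lt' hL
    exact ih _ hlt L rfl
      (fun p hp hpL => hK p hp (hpL.trans (Subgroup.card_dvd_of_le hL.le)))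
  by_cases hKτ : Cfsg.IsPiSubgroup τ K
  · exact S.tau_case hD hKτ
  unfold Cfsg.IsPiSubgroup at hKτ
  push Not at hKτ
  obtain ⟨p, hp, hpK, hpτ⟩ := hKτ
  obtain ⟨q, hqF, N, Q, hqK, hNK, hKN, hQK, hQq, hKNQ, halt⟩ :=
    S.exists_split K hK hIH hp hpK hpτ
  obtain ⟨y, hy⟩ := hIH N hNK
  have S' := S.conj y
  set H' : Subgroup G := MulAut.conj y • H with hH'
  have hqπ : q ∈ π := hK q hqF.out hqK
  obtain ⟨R, hR⟩ := S'.exists_sylow_le hqπ (hqK.trans (Subgroup.card_subgroup_dvd_card K))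
  have hcomm : ∀ r ∈ (R : Subgroup G), ∀ n ∈ N, r * n = n * r := by
    intro r hr n hn
    obtain ⟨k, hk⟩ := orderOf_of_mem_pgroup R.isPGroup' hr
    rcases halt with ⟨hqσ, hco⟩ | ⟨hqτ, hNσ⟩
    · refine S'.commute_sigma hqF.out hqσ (hR hr) (hy hn) hk ?_
      exact Nat.Coprime.coprime_dvd_left (Subgroup.orderOf_dvd_natCard _ hn) hco
    · refine S'.commute_tau hqF.out hqτ (hR hr) (hy hn) hk ?_
      intro p' hp' hpd
      exact hNσ p' hp' (hpd.trans (Subgroup.orderOf_dvd_natCard _ hn))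
  have hRN : (R : Subgroup G) ≤ normalizer (N : Set G) := by
    apply le_normalizer_of_conj_mem
    intro k hk x hx
    rw [hcomm k hk x hx, mul_inv_cancel_right]
    exact hx
  obtain ⟨x, hxN, hxQ⟩ := exists_conj_le_sylow R hRN (hQK.trans hKN) hQq
  have hxT : MulAut.conj x • N ≤ N := by
    intro t ht
    rw [mem_conj_smul_iff] at ht
    have := (mem_normalizer_iff.mp hxN _).mp ht
    simpa [mul_assoc] using this
  have h2 : MulAut.conj x • (N ⊔ Q) ≤ H' := by
    rw [Subgroup.smul_sup]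
    exact sup_le (hxT.trans hy) (hxQ.trans hR)
  refine ⟨x⁻¹ * y, ?_⟩
  intro k hk
  have h1 : x * k * x⁻¹ ∈ H' := by
    apply h2
    rw [mem_conj_smul_iff]
    have : x⁻¹ * (x * k * x⁻¹) * x = k := by group
    rw [this]
    exact hKNQ hk
  rw [hH', mem_conj_smul_iff] at h1
  rw [mem_conj_smul_iff]
  have e : (x⁻¹ * y)⁻¹ * k * (x⁻¹ * y) = y⁻¹ * (x * k * x⁻¹) * y := by group
  rw [e]
  exact h1

end

/-- Let σ and τ be disjoint sets of primes with union π. Suppose a finite group G has a Hall π-subgroup H which is the direct product of a nilpotent σ-subgroup and a τ-subgroup (two elementwise-commuting subgroups generating H), and that the maximal τ-subgroups of G are pairwise conjugate. Then the maximal π-subgroups of G are pairwise conjugate. -/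
theorem result {G : Type*} [Group G] [Finite G]
    (σ τ π : Set ℕ) (hπ : π = σ ∪ τ) (hd : Disjoint σ τ) (H Hs Ht : Subgroup G) (hH : Cfsg.IsPiHall π H)
    (hs : Cfsg.IsPiSubgroup σ Hs) (ht : Cfsg.IsPiSubgroup τ Ht) (hsn : Group.IsNilpotent Hs)
    (hjoin : Hs ⊔ Ht = H) (hcomm : ∀ a ∈ Hs, ∀ b ∈ Ht, a * b = b * a) (hD : Cfsg.IsDPiGroup τ G) :
    Cfsg.IsDPiGroup π G := by
  have S : Setup σ τ π H Hs Ht := ⟨hπ, hd, hH, hs, ht, hsn, hjoin, hcomm⟩
  have key : ∀ M : Subgroup G, Maximal (Cfsg.IsPiSubgroup π) M → ∃ a : G, M = MulAut.conj a • H := by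
    intro M hM
    obtain ⟨a, ha⟩ := S.main hD _ M rfl hM.1
    refine ⟨a, le_antisymm ha (hM.2 ?_ ha)⟩
    exact (S.conj a).hall.1
  intro H₁ K₁ hH₁ hK₁
  obtain ⟨a, rfl⟩ := key H₁ hH₁
  obtain ⟨b, rfl⟩ := key K₁ hK₁
  refine ⟨b * a⁻¹, ?_⟩
  rw [← Cfsg.Agent.Lead.conj_smul_eq_map, ← mul_smul, ← map_mul, inv_mul_cancel_right]

end Cfsg.Agent.S4334
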