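import Mathlib
import Cfsg.Statements.S4337
import Cfsg.Agent.Helper6.SwapClosure
import Cfsg.Agent.Helper24.Burnside

set_option autoImplicit false
open Cfsg

namespace Cfsg.Agent.S4337

open Cfsg.Agent.Helper6

/-- a positive number all of whose prime divisors are 2 or 3 is of the form `2^a * 3^b`. -/
theorem two_three_smooth : ∀ n : ℕ, n ≠ 0 → (∀ p : ℕ, p.Prime → p ∣ n → p = 2 ∨ p = 3) →
    ∃ a b : ℕ, n = 2 ^ a * 3 ^ b := by
  intro n
  induction n using Nat.strong_induction_on with
  | _ n ih =>
    intro hn h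
    by_cases h1 : n = 1
    · exact ⟨0, 0, by rw [h1]; rfl⟩
    · obtain ⟨p, hp, hpn⟩ := Nat.exists_prime_and_dvd h1
      obtain ⟨k, hk⟩ := hpn
      have hk0 : k ≠ 0 := by
        rintro rfl
        rw [mul_zero] at hk; exact hn hk
      have hklt : k < n := by
        rw [hk]
        have := hp.two_le
        nlinarith [Nat.pos_of_ne_zero hk0]
      obtain ⟨a, b, hab⟩ := ih k hklt hk0 (fun q hq hqk => h q hq (hk ▸ Dvd.dvd.mul_left hqk p))
      rcases h p hp ⟨k, hk⟩ with rfl | rfl
      · exact ⟨a + 1, b, by rw [hk, hab]; ring⟩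
      · exact ⟨a, b + 1, by rw [hk, hab]; ring⟩

/-- In a finite symmetric group, any three transpositions generate a solvable subgroup. -/
theorem result (n : ℕ) (a b c : Equiv.Perm (Fin n))
    (ha : a.IsSwap) (hb : b.IsSwap) (hc : c.IsSwap) :
    Group.IsSolvable (Subgroup.closure ({a, b, c} : Set (Equiv.Perm (Fin n)))) := by
  let t : Fin 3 → Equiv.Perm (Fin n) := ![a, b, c]
  have ht : ∀ i, (t i).IsSwap := by
    intro i
    fin_cases i
    · exact ha
    · exact hb
    · exact hc
  have hrange : Set.range t = ({a, b, c} : Set (Equiv.Perm (Fin n))) := by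
    ext σ
    simp only [Set.mem_range, Set.mem_insert_iff, Set.mem_singleton_iff]
    constructor
    · rintro ⟨i, rfl⟩
      fin_cases i
      · left; rfl
      · right; left; rfl
      · right; right; rfl
    · rintro (rfl | rfl | rfl)
      · exact ⟨0, rfl⟩
      · exact ⟨1, rfl⟩
      · exact ⟨2, rfl⟩
  rw [← hrange]
  set H := Subgroup.closure (Set.range t) with hH
  have hsmooth : ∀ p : ℕ, p.Prime → p ∣ Nat.card H → p = 2 ∨ p = 3 := by
    intro p hp hdvd
    by_contra hcon
    push Not at hcon
    haveI : Fact p.Prime := ⟨hp⟩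
    have hp5 : 5 ≤ p := by
      have h2 := hp.two_le
      by_contra hlt
      push Not at hlt
      interval_cases p
      · exact hcon.1 rfl
      · exact hcon.2 rfl
      · exact absurd hp (by decide)
    refine not_dvd_card_of_orbit_lt H p ?_ hdvd
    intro x
    have h1 : Nat.card (MulAction.orbit H x) ≤ 3 + 1 := orbit_card_le t ht x
    omega
  obtain ⟨i, j, hij⟩ := two_three_smooth (Nat.card H) Nat.card_pos.ne' hsmooth
  exact Cfsg.Agent.Helper24.isSolvable_of_card_eq_prime_pow_mul 2 3 i j Nat.prime_two Nat.prime_three hij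

end Cfsg.Agent.S4337
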