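import Mathlib
import Cfsg.Statements.S4341
import Cfsg.Agent.Helper17.Basic
import Cfsg.Agent.Helper3.SylowSubnormal

set_option autoImplicit false
open Cfsg
open scoped Pointwise

namespace Cfsg.Agent.S4341

open Cfsg.Agent.Helper17

section lemmas

variable {G : Type*} [Group G] [Finite G] (p : ℕ) [Fact p.Prime]

/-- `n_p(Y) * |N_G(T) ∩ Y| = |Y|` when `T` is a Sylow `p`-subgroup of `Y`. -/
theorem card_sylow_sub (Y : Subgroup G) (R : Sylow p Y) (T : Subgroup G)
    (hT : (R : Subgroup Y) = T.subgroupOf Y) (hTY : T ≤ Y) :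
    Nat.card (Sylow p Y) * Nat.card (Subgroup.normalizer (T : Set G) ⊓ Y : Subgroup G) =
      Nat.card Y := by
  rw [R.card_eq_index_normalizer]
  have h1 : Subgroup.normalizer ((R : Subgroup Y) : Set Y) =
      (Subgroup.normalizer (T : Set G)).subgroupOf Y := by
    rw [hT, Subgroup.subgroupOf_normalizer_eq hTY]
  have h1' : Subgroup.normalizer (R : Set Y) =
      (Subgroup.normalizer (T : Set G)).subgroupOf Y := h1
  rw [h1', ← card_subgroupOf]
  exact Subgroup.index_mul_card _

/-- Sylow numbers are unchanged modulo a normal `p`-subgroup. -/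
theorem card_sylow_quotient_pgroup {M : Type*} [Group M] [Finite M] (Q : Subgroup M) [Q.Normal]
    (hQ : IsPGroup p Q) : Nat.card (Sylow p (M ⧸ Q)) = Nat.card (Sylow p M) := by
  have hsurj : Function.Surjective (QuotientGroup.mk' Q) := QuotientGroup.mk'_surjective _
  symm
  apply Nat.card_congr
  refine Equiv.ofBijective (Sylow.mapSurjective hsurj) ⟨?_, Sylow.mapSurjective_surjective hsurj p⟩
  have hle : ∀ R : Sylow p M, Q ≤ (R : Subgroup M) := by
    intro R
    have h1 : IsPGroup p ((R : Subgroup M) ⊔ Q : Subgroup M) := R.isPGroup'.to_sup_of_normal_right hQ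
    have h2 := R.is_maximal' h1 le_sup_left
    rw [← h2]
    exact le_sup_right
  intro R₁ R₂ h
  have h' : (R₁ : Subgroup M).map (QuotientGroup.mk' Q) = (R₂ : Subgroup M).map (QuotientGroup.mk' Q) :=
    congrArg (fun S : Sylow p (M ⧸ Q) => S.toSubgroup) h
  have h3 := congrArg (Subgroup.comap (QuotientGroup.mk' Q)) h'
  rw [Subgroup.comap_map_eq, Subgroup.comap_map_eq, QuotientGroup.ker_mk',
    sup_eq_left.mpr (hle R₁), sup_eq_left.mpr (hle R₂)] at h3
  exact Sylow.ext h3

end lemmas


/-- Let K be a normal subgroup of a finite group G, p a prime and P a Sylow p-subgroup of G; let N be the normalizer of P ∩ K inside the subgroup PK. Then the number of Sylow p-subgroups of G equals the product of the numbers of Sylow p-subgroups of G/K, of K, and of N/(P ∩ K). -/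
theorem result {G : Type*} [Group G] [Finite G]
    (p : ℕ) [Fact p.Prime] (K : Subgroup G) [K.Normal] (P : Sylow p G) (N : Subgroup G)
    (hN : N = ((P : Subgroup G) ⊔ K) ⊓ Subgroup.normalizer (((P : Subgroup G) ⊓ K : Subgroup G) : Set G))
    [hn : (((P : Subgroup G) ⊓ K).subgroupOf N).Normal] :
    Nat.card (Sylow p G) =
      Nat.card (Sylow p (G ⧸ K)) * Nat.card (Sylow p K) * Nat.card (Sylow p (N ⧸ ((P : Subgroup G) ⊓ K).subgroupOf N)) := by
  set Pg : Subgroup G := (P : Subgroup G) with hPg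
  set T : Subgroup G := Pg ⊓ K with hT
  set A : Subgroup G := Subgroup.normalizer ((Pg ⊔ K : Subgroup G) : Set G) with hA
  set B : Subgroup G := Subgroup.normalizer (T : Set G) with hB
  set C : Subgroup G := A ⊓ B with hC
  set NP : Subgroup G := Subgroup.normalizer (Pg : Set G) with hNP
  have hKn : ∀ g k : G, k ∈ K → g * k * g⁻¹ ∈ K := fun g k hk => ‹K.Normal›.conj_mem k hk g
  have hNPconj : ∀ g ∈ NP, ∀ a ∈ Pg, g * a * g⁻¹ ∈ Pg := fun g hg a ha =>
    (Subgroup.mem_normalizer_iff.mp hg a).mp ha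
  have hNPA : NP ≤ A := by
    intro g hg
    apply Subgroup.mem_normalizer_fintype
    intro x hx
    have hx' : x ∈ (Pg : Set G) * (K : Set G) := by
      rw [← Subgroup.mul_normal]; exact hx
    obtain ⟨a, ha, k, hk, rfl⟩ := hx'
    have e : g * (a * k) * g⁻¹ = (g * a * g⁻¹) * (g * k * g⁻¹) := by group
    show g * (a * k) * g⁻¹ ∈ Pg ⊔ K
    rw [e]
    exact Subgroup.mul_mem _ (Subgroup.mem_sup_left (hNPconj g hg a ha))
      (Subgroup.mem_sup_right (hKn g k hk))
  have hNPB : NP ≤ B := by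
    intro g hg
    apply Subgroup.mem_normalizer_fintype
    intro x hx
    exact ⟨hNPconj g hg x hx.1, hKn g x hx.2⟩
  have hKA : K ≤ A := le_sup_right.trans Subgroup.le_normalizer
  have hPNP : Pg ≤ NP := Subgroup.le_normalizer
  have hPB : Pg ≤ B := hPNP.trans hNPB
  have hNeq : N = (Pg ⊔ K) ⊓ B := hN
  have hPN : Pg ≤ N := by
    rw [hNeq]; exact le_inf le_sup_left hPB
  have hNC : N ≤ C := by
    rw [hNeq]
    exact le_inf (inf_le_left.trans Subgroup.le_normalizer) inf_le_right
  have hNPC : NP ≤ C := le_inf hNPA hNPB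
  have hTN : T ≤ N := inf_le_left.trans hPN
  have hCN : C ≤ Subgroup.normalizer (N : Set G) := by
    intro c hc
    apply Subgroup.mem_normalizer_fintype
    intro x hx
    have hx' : x ∈ (Pg ⊔ K) ⊓ B := by rw [← hNeq]; exact hx
    show c * x * c⁻¹ ∈ N
    rw [hNeq]
    refine ⟨(Subgroup.mem_normalizer_iff.mp hc.1 x).mp hx'.1, ?_⟩
    exact B.mul_mem (B.mul_mem hc.2 hx'.2) (B.inv_mem hc.2)
  -- the Sylow subgroup of K
  have hcardT : Nat.card (T.subgroupOf K) = p ^ (Nat.card K).factorization p := by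
    rw [Cfsg.Agent.Helper3.card_subgroupOf_eq_card_inf, inf_eq_left.mpr (inf_le_right : T ≤ K)]
    exact Cfsg.Agent.Helper3.card_sylow_inf_normal P K
  let RK : Sylow p K := Sylow.ofCard (T.subgroupOf K) hcardT
  have hRK : (RK : Subgroup K) = T.subgroupOf K := rfl
  -- (1)
  have e1 : Nat.card (Sylow p G) * Nat.card NP = Nat.card G := by
    rw [P.card_eq_index_normalizer]
    exact Subgroup.index_mul_card _
  -- (2)
  have e2 : Nat.card (Sylow p (G ⧸ K)) * Nat.card A = Nat.card G := by
    have hsurj : Function.Surjective (QuotientGroup.mk' K) := QuotientGroup.mk'_surjective K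
    rw [(P.mapSurjective hsurj).card_eq_index_normalizer]
    have h1 : (Subgroup.normalizer ((P.mapSurjective hsurj : Sylow p (G ⧸ K)) : Set (G ⧸ K))).comap
        (QuotientGroup.mk' K) = A := by
      have h2 : (Subgroup.normalizer ((Pg.map (QuotientGroup.mk' K) : Subgroup (G ⧸ K)) : Set (G ⧸ K))).comap
          (QuotientGroup.mk' K) = A := by
        rw [Subgroup.comap_normalizer_eq_of_surjective _ hsurj, Subgroup.comap_map_eq,
          QuotientGroup.ker_mk']
      exact h2
    rw [← Subgroup.index_comap_of_surjective _ hsurj, h1]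
    exact Subgroup.index_mul_card _
  -- (3)
  have e3 : Nat.card (Sylow p K) * Nat.card (B ⊓ K : Subgroup G) = Nat.card K :=
    card_sylow_sub p K RK T hRK inf_le_right
  -- (4)
  have e4 : Nat.card (Sylow p N) * Nat.card (NP ⊓ N : Subgroup G) = Nat.card N :=
    card_sylow_sub p N (P.subtype hPN) Pg (Sylow.coe_subtype _ _) hPN
  -- (5)
  have e5 : Nat.card (Sylow p (N ⧸ T.subgroupOf N)) = Nat.card (Sylow p N) :=
    card_sylow_quotient_pgroup p (T.subgroupOf N) ((P.isPGroup'.to_le inf_le_left).comap_subtype)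
  -- (ii) A = K ⊔ C
  have hAKC : K ⊔ C = A := by
    apply le_antisymm (sup_le hKA inf_le_left)
    intro a ha
    have hfr := Sylow.normalizer_sup_eq_top RK
    have hmap : (RK : Subgroup K).map K.subtype = T := by
      rw [hRK]; exact Subgroup.map_subgroupOf_eq_of_le inf_le_right
    rw [hmap] at hfr
    have ha' : a ∈ (B ⊔ K : Subgroup G) := by rw [hfr]; trivial
    have ha'' : a ∈ (B : Set G) * (K : Set G) := by
      rw [← Subgroup.mul_normal]; exact ha'
    obtain ⟨b, hb, k, hk, rfl⟩ := ha''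
    have hbA : b ∈ A := by
      have : b = (b * k) * k⁻¹ := by group
      rw [this]
      exact A.mul_mem ha (A.inv_mem (hKA hk))
    exact Subgroup.mul_mem _ (Subgroup.mem_sup_right ⟨hbA, hb⟩) (Subgroup.mem_sup_left hk)
  have f2 : Nat.card A * Nat.card (B ⊓ K : Subgroup G) = Nat.card K * Nat.card C := by
    have h1 := card_sup_mul_card_inf_of_normal K C
    rw [hAKC] at h1
    have h2 : K ⊓ C = B ⊓ K := by
      rw [hC]
      apply le_antisymm
      · exact le_inf (inf_le_right.trans inf_le_right) inf_le_left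
      · exact le_inf inf_le_right (le_inf (inf_le_right.trans hKA) inf_le_left)
    rw [h2] at h1
    exact h1
  -- (iii) C = N ⊔ NP
  have hfrat : ∀ c ∈ C, ∃ n ∈ N, n * c ∈ NP := by
    intro c hc
    have hcN : c ∈ Subgroup.normalizer (N : Set G) := hCN hc
    let Q : Subgroup G := Pg.map (MulAut.conj c).toMonoidHom
    have hQN : Q ≤ N := by
      rintro _ ⟨y, hy, rfl⟩
      exact (Subgroup.mem_normalizer_iff.mp hcN y).mp (hPN hy)
    have hQp : IsPGroup p (Q.subgroupOf N) := (P.isPGroup'.map _).comap_subtype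
    obtain ⟨R', hR'⟩ := hQp.exists_le_sylow
    obtain ⟨n, hn'⟩ := MulAction.exists_smul_eq N R' (P.subtype hPN)
    refine ⟨n, n.2, ?_⟩
    apply Subgroup.mem_normalizer_fintype
    intro y hy
    have hyQ : c * y * c⁻¹ ∈ Q := ⟨y, hy, rfl⟩
    have h1 : (⟨c * y * c⁻¹, hQN hyQ⟩ : N) ∈ (R' : Subgroup N) :=
      hR' (by rw [Subgroup.mem_subgroupOf]; exact hyQ)
    have h2 : n * ⟨c * y * c⁻¹, hQN hyQ⟩ * n⁻¹ ∈ ((n • R' : Sylow p N) : Subgroup N) := by
      rw [Sylow.coe_subgroup_smul, Subgroup.mem_pointwise_smul_iff_inv_smul_mem]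
      show (MulAut.conj n)⁻¹ (n * ⟨c * y * c⁻¹, hQN hyQ⟩ * n⁻¹) ∈ (R' : Subgroup N)
      rw [MulAut.conj_inv_apply]
      have e0 : n⁻¹ * (n * (⟨c * y * c⁻¹, hQN hyQ⟩ : N) * n⁻¹) * n = ⟨c * y * c⁻¹, hQN hyQ⟩ := by group
      rw [e0]
      exact h1
    rw [hn', Sylow.coe_subtype, Subgroup.mem_subgroupOf] at h2
    have e : (n : G) * c * y * ((n : G) * c)⁻¹ = (n : G) * (c * y * c⁻¹) * (n : G)⁻¹ := by group
    show (n : G) * c * y * ((n : G) * c)⁻¹ ∈ Pg
    rw [e]
    exact h2
  have hCeq : N ⊔ NP = C := by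
    apply le_antisymm (sup_le hNC hNPC)
    intro c hc
    obtain ⟨n, hn', hnc⟩ := hfrat c hc
    have : c = n⁻¹ * (n * c) := by group
    rw [this]
    exact Subgroup.mul_mem _ (Subgroup.mem_sup_left (N.inv_mem hn')) (Subgroup.mem_sup_right hnc)
  have f3 : Nat.card C * Nat.card (NP ⊓ N : Subgroup G) = Nat.card N * Nat.card NP := by
    have h1 := card_sup_mul_card_inf N NP (hNPC.trans hCN)
    rw [hCeq, inf_comm] at h1
    exact h1
  -- combine
  rw [e5]
  set x := Nat.card (Sylow p G)
  set x1 := Nat.card (Sylow p (G ⧸ K))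
  set x2 := Nat.card (Sylow p K)
  set x3 := Nat.card (Sylow p N)
  set m := Nat.card NP
  set a := Nat.card A
  set e := Nat.card (B ⊓ K : Subgroup G)
  set d := Nat.card (NP ⊓ N : Subgroup G)
  set g := Nat.card G
  set k := Nat.card K
  set n := Nat.card N
  set c := Nat.card C
  have hpos : 0 < m * a * e * d := by
    have h1 : 0 < m := Nat.card_pos
    have h2 : 0 < a := Nat.card_pos
    have h3 : 0 < e := Nat.card_pos
    have h4 : 0 < d := Nat.card_pos
    positivity
  have key : x * (m * a * e * d) = (x1 * x2 * x3) * (m * a * e * d) := by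
    calc x * (m * a * e * d) = (x * m) * (a * e) * d := by ring
      _ = g * (k * c) * d := by rw [e1, f2]
      _ = g * k * (c * d) := by ring
      _ = g * k * (n * m) := by rw [f3]
      _ = (x1 * a) * (x2 * e) * (x3 * d) * m := by rw [e2, e3, e4]; ring
      _ = (x1 * x2 * x3) * (m * a * e * d) := by ring
  exact Nat.eq_of_mul_eq_mul_right hpos key

end Cfsg.Agent.S4341
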