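import Mathlib
import Cfsg.Statements.S4342
import Cfsg.Agent.S4261

set_option autoImplicit false
open Cfsg

namespace Cfsg.Agent.S4342

/-- Sylow counting is unchanged modulo the center. -/
theorem card_sylow_quotient_center {H : Type*} [Group H] [Finite H] (p : ℕ) [Fact p.Prime] :
    Nat.card (Sylow p (H ⧸ Subgroup.center H)) = Nat.card (Sylow p H) := by
  have hsurj : Function.Surjective (QuotientGroup.mk' (Subgroup.center H)) :=
    QuotientGroup.mk'_surjective _
  symm
  apply Nat.card_congr
  refine Equiv.ofBijective (Sylow.mapSurjective hsurj) ⟨?_, Sylow.mapSurjective_surjective hsurj p⟩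
  -- injectivity
  have key : ∀ P Q : Sylow p H, (P : Subgroup H).map (QuotientGroup.mk' (Subgroup.center H)) =
      (Q : Subgroup H).map (QuotientGroup.mk' (Subgroup.center H)) → (Q : Subgroup H) ≤ P := by
    intro P Q hPQ q hq
    have h1 : QuotientGroup.mk' (Subgroup.center H) q ∈
        (P : Subgroup H).map (QuotientGroup.mk' (Subgroup.center H)) := by
      rw [hPQ]; exact ⟨q, hq, rfl⟩
    obtain ⟨a, ha, haq⟩ := h1
    have hz : a⁻¹ * q ∈ Subgroup.center H := by
      rw [← QuotientGroup.eq]; exact haq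
    set z := a⁻¹ * q with hzdef
    have hzc : ∀ y : H, y * z = z * y := fun y => (Subgroup.mem_center_iff.mp hz y)
    -- z is a p-element
    have hcomm : Commute a⁻¹ q := by
      show a⁻¹ * q = q * a⁻¹
      have h2 : q = a * z := by rw [hzdef]; group
      calc a⁻¹ * q = z := rfl
        _ = a * z * a⁻¹ := by rw [hzc a]; group
        _ = q * a⁻¹ := by rw [← h2]
    obtain ⟨i, hi⟩ := (IsPGroup.iff_orderOf.mp P.isPGroup') ⟨a, ha⟩
    obtain ⟨j, hj⟩ := (IsPGroup.iff_orderOf.mp Q.isPGroup') ⟨q, hq⟩
    have hai : a ^ (p ^ i) = 1 := by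
      have h3 := pow_orderOf_eq_one (⟨a, ha⟩ : (P : Subgroup H))
      rw [hi] at h3
      exact congrArg Subtype.val h3
    have hqj : q ^ (p ^ j) = 1 := by
      have h3 := pow_orderOf_eq_one (⟨q, hq⟩ : (Q : Subgroup H))
      rw [hj] at h3
      exact congrArg Subtype.val h3
    have hzpow : z ^ (p ^ (i + j)) = 1 := by
      rw [hzdef, hcomm.mul_pow, inv_pow, pow_add, pow_mul, hai, one_pow, inv_one, one_mul,
        mul_comm (p ^ i), pow_mul, hqj, one_pow]
    have hzP : IsPGroup p (Subgroup.zpowers z) := by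
      rintro ⟨y, hy⟩
      obtain ⟨m, rfl⟩ := Subgroup.mem_zpowers_iff.mp hy
      refine ⟨i + j, ?_⟩
      apply Subtype.ext
      show (z ^ m) ^ (p ^ (i + j)) = 1
      rw [← zpow_natCast, ← zpow_mul, mul_comm, zpow_mul, zpow_natCast, hzpow, one_zpow]
    have : (Subgroup.zpowers z).Normal := by
      constructor
      intro y hy g
      obtain ⟨m, rfl⟩ := Subgroup.mem_zpowers_iff.mp hy
      have : g * z ^ m * g⁻¹ = z ^ m := by
        have hc : Commute g z := hzc g
        have := hc.zpow_right m
        rw [this.eq]; group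
      rw [this]; exact hy
    have hsup : IsPGroup p ((P : Subgroup H) ⊔ Subgroup.zpowers z : Subgroup H) :=
      P.isPGroup'.to_sup_of_normal_right hzP
    have heq := P.is_maximal' hsup le_sup_left
    have hzmem : z ∈ (P : Subgroup H) := by
      rw [← heq]; exact Subgroup.mem_sup_right (Subgroup.mem_zpowers z)
    have h2 : q = a * z := by rw [hzdef]; group
    rw [h2]; exact (P : Subgroup H).mul_mem ha hzmem
  intro P Q hPQ
  have hPQ' : (P : Subgroup H).map (QuotientGroup.mk' (Subgroup.center H)) =
      (Q : Subgroup H).map (QuotientGroup.mk' (Subgroup.center H)) := by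
    have := congrArg (fun S : Sylow p (H ⧸ Subgroup.center H) => S.toSubgroup) hPQ
    exact this
  apply Sylow.ext
  exact le_antisymm (key Q P hPQ'.symm) (key P Q hPQ')

/-- Sylow subgroups of a normal subgroup of index prime to `p`. -/
theorem card_sylow_normal {G : Type*} [Group G] [Finite G] (p : ℕ) [Fact p.Prime] (H : Subgroup G)
    [H.Normal] (hp : ¬ p ∣ H.index) : Nat.card (Sylow p G) = Nat.card (Sylow p H) := by
  have hp' : p.Prime := Fact.out
  have hle : ∀ P : Sylow p G, (P : Subgroup G) ≤ H := by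
    intro P x hx
    obtain ⟨i, hi⟩ := (IsPGroup.iff_orderOf.mp P.isPGroup') ⟨x, hx⟩
    have hxi : x ^ (p ^ i) = 1 := by
      have h3 := pow_orderOf_eq_one (⟨x, hx⟩ : (P : Subgroup G))
      rw [hi] at h3
      exact congrArg Subtype.val h3
    apply Cfsg.Agent.S4261.mem_of_pow_eq_one H H.index (p ^ i) ?_ (fun y => H.pow_index_mem y) x hxi
    exact Nat.Coprime.pow_left _ ((Nat.Prime.coprime_iff_not_dvd hp').mpr hp)
  apply Nat.card_congr
  refine Equiv.ofBijective (fun P => P.subtype (hle P)) ⟨?_, ?_⟩
  · intro P Q hPQ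
    exact Sylow.subtype_injective hPQ
  · intro Q
    obtain ⟨P, hP⟩ := (Q.isPGroup'.map H.subtype).exists_le_sylow
    refine ⟨P, ?_⟩
    apply Sylow.ext
    apply Q.is_maximal' (P.subtype (hle P)).isPGroup'
    intro x hx
    rw [Sylow.coe_subtype, Subgroup.mem_subgroupOf]
    exact hP ⟨x, hx, rfl⟩

/-- Let H be a normal subgroup of a finite group G and p a prime not dividing the index of H. Then the number of Sylow p-subgroups of H/Z(H) equals the number of Sylow p-subgroups of G. -/
theorem result {G : Type*} [Group G] [Finite G]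
    (p : ℕ) [Fact p.Prime] (H : Subgroup G) [H.Normal] (hp : ¬ p ∣ H.index) :
    Nat.card (Sylow p (H ⧸ Subgroup.center H)) = Nat.card (Sylow p G) := by
  rw [card_sylow_quotient_center, card_sylow_normal p H hp]

end Cfsg.Agent.S4342
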