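import Mathlib
import Cfsg.Statements.S4343
import Cfsg.Agent.S0060

set_option autoImplicit false
open Cfsg
open scoped Pointwise

namespace Cfsg.Agent.S4343

open scoped commutatorElement

/-- Let S be a finite non-abelian simple group and p a prime dividing its order. If S has fewer than p² Sylow p-subgroups, then its Sylow p-subgroups have order p. -/
theorem result {S : Type*} [Group S] [Finite S]
    [IsSimpleGroup S] (hS : ¬ IsMulCommutative S) (p : ℕ) [Fact p.Prime] (hp : p ∣ Nat.card S)
    (hn : Nat.card (Sylow p S) < p ^ 2) (P : Sylow p S) : Nat.card P = p := by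
  have hp' : p.Prime := Fact.out
  -- no nontrivial normal p-subgroups
  have hno : ∀ N : Subgroup S, N.Normal → IsPGroup p N → N = ⊥ := by
    intro N hN hNp
    rcases hN.eq_bot_or_eq_top with h | h
    · exact h
    · exfalso
      have hSp : IsPGroup p S := by
        rw [h] at hNp
        exact hNp.of_equiv Subgroup.topEquiv
      haveI := hSp.center_nontrivial
      have hc : Subgroup.center S = ⊤ := by
        rcases (inferInstance : (Subgroup.center S).Normal).eq_bot_or_eq_top with h1 | h1
        · exact absurd h1 ((Subgroup.nontrivial_iff_ne_bot _).mp inferInstance)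
        · exact h1
      apply hS
      refine ⟨⟨fun a b => ?_⟩⟩
      have ha : a ∈ Subgroup.center S := by rw [hc]; trivial
      exact (Subgroup.mem_center_iff.mp ha b).symm
  have hOp : Cfsg.pCore p S = ⊥ := by
    unfold Cfsg.pCore
    rw [sSup_eq_bot]
    rintro N ⟨h1, h2⟩
    exact hno N h1 h2
  -- index bound
  have hidx : ∀ Q : Sylow p S, Nat.card P ≤ p * Nat.card ((P : Subgroup S) ⊓ (Q : Subgroup S) : Subgroup S) := by
    intro Q
    have h1 : Nat.card (MulAction.orbit (P : Subgroup S) Q) *
        Nat.card (MulAction.stabilizer (P : Subgroup S) Q) = Nat.card (P : Subgroup S) := by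
      have := Nat.card_congr (MulAction.orbitProdStabilizerEquivGroup (P : Subgroup S) Q)
      rw [Nat.card_prod] at this
      exact this
    obtain ⟨k, hk⟩ := P.isPGroup'.card_orbit Q
    have h2 : Nat.card (MulAction.orbit (P : Subgroup S) Q) ≤ Nat.card (Sylow p S) :=
      Nat.card_le_card_of_injective Subtype.val Subtype.val_injective
    have h3 : k ≤ 1 := by
      by_contra hk1
      push Not at hk1
      have : p ^ 2 ≤ p ^ k := Nat.pow_le_pow_right hp'.pos hk1
      omega
    have h4 : Nat.card (MulAction.orbit (P : Subgroup S) Q) ≤ p := by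
      rw [hk]
      calc p ^ k ≤ p ^ 1 := Nat.pow_le_pow_right hp'.pos h3
        _ = p := pow_one p
    have h5 : Nat.card (MulAction.stabilizer (P : Subgroup S) Q) ≤
        Nat.card ((P : Subgroup S) ⊓ (Q : Subgroup S) : Subgroup S) := by
      have hmem : ∀ x : MulAction.stabilizer (P : Subgroup S) Q,
          ((x : (P : Subgroup S)) : S) ∈ (P : Subgroup S) ⊓ (Q : Subgroup S) := by
        rintro ⟨⟨x, hxP⟩, hx⟩
        rw [← P.isPGroup'.inf_normalizer_sylow Q]
        refine ⟨hxP, ?_⟩
        rw [MulAction.mem_stabilizer_iff] at hx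
        have hx' : x • Q = Q := hx
        exact Sylow.smul_eq_iff_mem_normalizer.mp hx'
      apply Nat.card_le_card_of_injective (fun x => (⟨_, hmem x⟩ : ((P : Subgroup S) ⊓ (Q : Subgroup S) : Subgroup S)))
      intro x y hxy
      have := congrArg Subtype.val hxy
      exact Subtype.ext (Subtype.ext this)
    calc Nat.card P = Nat.card (MulAction.orbit (P : Subgroup S) Q) *
        Nat.card (MulAction.stabilizer (P : Subgroup S) Q) := h1.symm
      _ ≤ p * Nat.card ((P : Subgroup S) ⊓ (Q : Subgroup S) : Subgroup S) := Nat.mul_le_mul h4 h5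
  have hPne : (P : Subgroup S) ≠ ⊥ := P.ne_bot_of_dvd_card hp
  obtain ⟨n, hn'⟩ := IsPGroup.exists_card_eq P.isPGroup'
  have hn1 : 1 ≤ n := by
    by_contra h
    push Not at h
    have h0 : n = 0 := by omega
    rw [h0, pow_zero] at hn'
    exact hPne (Subgroup.card_eq_one.mp hn')
  -- commutators of P lie in every Sylow subgroup
  have hcomm_mem : ∀ x ∈ (P : Subgroup S), ∀ y ∈ (P : Subgroup S), ∀ Q : Sylow p S,
      ⁅x, y⁆ ∈ (Q : Subgroup S) := by
    intro x hx y hy Q
    set M : Subgroup (P : Subgroup S) :=
      ((P : Subgroup S) ⊓ (Q : Subgroup S)).subgroupOf (P : Subgroup S) with hM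
    have hMcard : Nat.card M = Nat.card ((P : Subgroup S) ⊓ (Q : Subgroup S) : Subgroup S) :=
      Nat.card_congr (Subgroup.subgroupOfEquivOfLe inf_le_left).toEquiv
    have hMidx : M.index ∣ Nat.card (P : Subgroup S) := Subgroup.index_dvd_card M
    have hmul : Nat.card M * M.index = Nat.card (P : Subgroup S) := Subgroup.card_mul_index M
    have hle : M.index ≤ p := by
      have h1 := hidx Q
      rw [← hMcard] at h1
      have h2 : Nat.card M * M.index ≤ Nat.card M * p := by
        rw [hmul, mul_comm]; exact h1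
      exact Nat.le_of_mul_le_mul_left h2 Nat.card_pos
    have hn'' : Nat.card (P : Subgroup S) = p ^ n := hn'
    rw [hn''] at hMidx
    obtain ⟨j, -, hj⟩ := (Nat.dvd_prime_pow hp').mp hMidx
    have hj1 : j ≤ 1 := by
      by_contra hj2
      push Not at hj2
      have : p ^ 2 ≤ p ^ j := Nat.pow_le_pow_right hp'.pos hj2
      have h3 : p < p ^ 2 := by
        have := hp'.one_lt
        nlinarith
      omega
    interval_cases j
    · -- index 1
      rw [pow_zero, Subgroup.index_eq_one] at hj
      have hPQ : (P : Subgroup S) ≤ (P : Subgroup S) ⊓ (Q : Subgroup S) := by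
        rw [hM, Subgroup.subgroupOf_eq_top] at hj
        exact hj
      have hxQ : x ∈ (Q : Subgroup S) := (hPQ hx).2
      have hyQ : y ∈ (Q : Subgroup S) := (hPQ hy).2
      rw [commutatorElement_def]
      exact (Q : Subgroup S).mul_mem ((Q : Subgroup S).mul_mem ((Q : Subgroup S).mul_mem hxQ hyQ)
        ((Q : Subgroup S).inv_mem hxQ)) ((Q : Subgroup S).inv_mem hyQ)
    · -- index p
      rw [pow_one] at hj
      have hmin : (Nat.card (P : Subgroup S)).minFac = p := by
        rw [hn'', Nat.pow_minFac (by omega), hp'.minFac_eq]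
      haveI : M.Normal := Subgroup.normal_of_index_eq_minFac_card (by rw [hj, hmin])
      have hqc : Nat.card ((P : Subgroup S) ⧸ M) = p := by
        rw [← Subgroup.index_eq_card, hj]
      haveI : IsCyclic ((P : Subgroup S) ⧸ M) := isCyclic_of_prime_card hqc
      letI : CommGroup ((P : Subgroup S) ⧸ M) := IsCyclic.commGroup
      have hker := Abelianization.commutator_subset_ker (QuotientGroup.mk' M)
      rw [QuotientGroup.ker_mk'] at hker
      have hmem : ⁅(⟨x, hx⟩ : (P : Subgroup S)), ⟨y, hy⟩⁆ ∈ commutator (P : Subgroup S) := by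
        rw [commutator_def]
        exact Subgroup.commutator_mem_commutator (Subgroup.mem_top _) (Subgroup.mem_top _)
      have h4 := hker hmem
      rw [hM, Subgroup.mem_subgroupOf] at h4
      exact h4.2
  -- the intersection of all Sylow subgroups is trivial
  let I : Subgroup S := ⨅ Q : Sylow p S, (Q : Subgroup S)
  have hIle : I ≤ (P : Subgroup S) := iInf_le _ P
  have hIn : I.Normal := by
    constructor
    intro a ha g
    rw [Subgroup.mem_iInf] at ha ⊢
    intro Q
    have h1 := ha (g⁻¹ • Q)
    rw [Sylow.coe_subgroup_smul, Subgroup.mem_pointwise_smul_iff_inv_smul_mem] at h1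
    simpa [MulAut.smul_def] using h1
  have hI : I = ⊥ := hno I hIn (P.isPGroup'.to_le hIle)
  have hPcomm : IsMulCommutative P := by
    refine ⟨⟨fun a b => ?_⟩⟩
    have h1 : ⁅(a : S), (b : S)⁆ ∈ I := by
      rw [Subgroup.mem_iInf]
      exact hcomm_mem a a.2 b b.2
    rw [hI, Subgroup.mem_bot, commutatorElement_eq_one_iff_mul_comm] at h1
    exact Subtype.ext h1
  obtain ⟨g, hg⟩ := Cfsg.Agent.S0060.result p P hPcomm hOp
  have h5 := hidx (g • P)
  rw [Sylow.coe_subgroup_smul, hg, Subgroup.card_bot, mul_one] at h5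
  have h6 : Nat.card (P : Subgroup S) = p ^ n := hn'
  have h7 : p ^ 1 ≤ p ^ n := Nat.pow_le_pow_right hp'.pos hn1
  rw [pow_one] at h7
  show Nat.card (P : Subgroup S) = p
  omega

end Cfsg.Agent.S4343
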