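import Mathlib
import Cfsg.Statements.S4344

set_option autoImplicit false
open Cfsg

namespace Cfsg.Agent.S4344

/-- Let S be a finite non-abelian simple group, M a maximal subgroup of S and C a cyclic normal subgroup of M. If a Sylow p-subgroup P of S (for a prime p dividing the order of S) is contained in C, then the number of Sylow p-subgroups of S equals the index of M. -/
theorem result {S : Type*} [Group S] [Finite S]
    [IsSimpleGroup S] (hS : ¬ IsMulCommutative S) (p : ℕ) [Fact p.Prime] (hp : p ∣ Nat.card S)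
    (M : Subgroup S) (hM : IsCoatom M) (C : Subgroup S) (hCM : C ≤ M) (hCn : (C.subgroupOf M).Normal)
    (hC : IsCyclic C) (P : Sylow p S) (hP : (P : Subgroup S) ≤ C) :
    Nat.card (Sylow p S) = M.index := by
  rw [Sylow.card_eq_index_normalizer P]
  have hcomm : ∀ a b : C, a * b = b * a := fun a b => mul_comm' a b
  -- (a) M normalizes P
  have ha : M ≤ Subgroup.normalizer (P : Set S) := by
    intro m hm
    rw [← Sylow.smul_eq_iff_mem_normalizer]
    have hQ : ((m • P : Sylow p S) : Subgroup S) ≤ C := by
      intro y hy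
      rw [Sylow.coe_subgroup_smul, Subgroup.mem_pointwise_smul_iff_inv_smul_mem] at hy
      have h1 : (MulAut.conj m)⁻¹ • y ∈ C := hP hy
      have h2 : (⟨(MulAut.conj m)⁻¹ • y, hCM h1⟩ : M) ∈ C.subgroupOf M := by
        rw [Subgroup.mem_subgroupOf]; exact h1
      have h3 := hCn.conj_mem _ h2 ⟨m, hm⟩
      rw [Subgroup.mem_subgroupOf] at h3
      simpa [MulAut.smul_def, mul_assoc] using h3
    have hnorm : ((P.subtype hP : Sylow p C) : Subgroup C).Normal := by
      constructor
      intro n hn g
      have : g * n * g⁻¹ = n := by rw [hcomm g n, mul_inv_cancel_right]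
      rw [this]; exact hn
    obtain ⟨c, hc⟩ := MulAction.exists_smul_eq C (P.subtype hP) ((m • P).subtype hQ)
    rw [Sylow.smul_eq_of_normal] at hc
    exact (Sylow.subtype_injective hc).symm
  -- (b) normalizer ≠ ⊤
  have hb : Subgroup.normalizer (P : Set S) ≠ ⊤ := by
    intro htop
    have hPn : (P : Subgroup S).Normal := Subgroup.normalizer_eq_top_iff.mp htop
    rcases IsSimpleGroup.eq_bot_or_eq_top_of_normal _ hPn with h | h
    · exact P.ne_bot_of_dvd_card hp h
    · apply hS
      have hCtop : C = ⊤ := top_unique (h ▸ hP)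
      refine ⟨⟨fun a b => ?_⟩⟩
      have ha' : a ∈ C := hCtop ▸ Subgroup.mem_top a
      have hb' : b ∈ C := hCtop ▸ Subgroup.mem_top b
      exact congrArg Subtype.val (hcomm ⟨a, ha'⟩ ⟨b, hb'⟩)
  -- (c)
  have hc : M = Subgroup.normalizer (P : Set S) := by
    rcases eq_or_lt_of_le ha with h | h
    · exact h
    · exact absurd (hM.2 _ h) hb
  rw [hc]

end Cfsg.Agent.S4344
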