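import Cfsg.Statements.S4347
import Mathlib

set_option autoImplicit false
open Cfsg

namespace Cfsg.Agent.S4347

theorem exists_sylow_of_orderOf {G : Type*} [Group G] [Finite G]
    (p : ℕ) [Fact p.Prime] (x : G) (hx : ∃ k : ℕ, orderOf x = p ^ k) :
    ∃ P : Sylow p G, x ∈ P := by
  have hz : IsPGroup p (Subgroup.zpowers x) := by
    obtain ⟨k, hk⟩ := hx
    rw [IsPGroup.iff_card]
    exact ⟨k, by rw [Nat.card_zpowers, hk]⟩
  obtain ⟨P, hP⟩ := hz.exists_le_sylow
  exact ⟨P, hP (Subgroup.mem_zpowers x)⟩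

/-- Let G be a finite group and p a prime. Say a Sylow p-subgroup Q is redundant when every element of p-power order lies in some Sylow p-subgroup other than Q. Then G has no redundant Sylow p-subgroup if and only if some element of p-power order lies in exactly one Sylow p-subgroup. -/
theorem result {G : Type*} [Group G] [Finite G]
    (p : ℕ) [Fact p.Prime] :
    (¬ ∃ Q : Sylow p G, ∀ x : G, (∃ k : ℕ, orderOf x = p ^ k) → ∃ P : Sylow p G, P ≠ Q ∧ x ∈ P) ↔
      ∃ x : G, (∃ k : ℕ, orderOf x = p ^ k) ∧ ∃! P : Sylow p G, x ∈ P := by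
  constructor
  · intro h
    obtain ⟨Q⟩ : Nonempty (Sylow p G) := inferInstance
    have hQ : ∃ x : G, (∃ k : ℕ, orderOf x = p ^ k) ∧ ∀ P : Sylow p G, P ≠ Q → x ∉ P := by
      by_contra hcon
      apply h
      refine ⟨Q, fun x hx => ?_⟩
      by_contra hcon2
      apply hcon
      refine ⟨x, hx, fun P hP hxP => hcon2 ⟨P, hP, hxP⟩⟩
    obtain ⟨x, hx, hxQ⟩ := hQ
    refine ⟨x, hx, ?_⟩
    obtain ⟨P, hP⟩ := exists_sylow_of_orderOf p x hx
    have hPQ : P = Q := by
      by_contra hne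
      exact hxQ P hne hP
    subst hPQ
    refine ⟨P, hP, ?_⟩
    intro P' hP'
    by_contra hne
    exact hxQ P' hne hP'
  · rintro ⟨x, hx, P0, hxP0, huniq⟩ ⟨Q, hQ⟩
    obtain ⟨g, rfl⟩ := MulAction.exists_smul_eq G P0 Q
    have hy : ∃ k : ℕ, orderOf (g * x * g⁻¹) = p ^ k := by
      obtain ⟨k, hk⟩ := hx
      refine ⟨k, ?_⟩
      rw [← hk, ← MulAut.conj_apply]
      exact (MulAut.conj g).orderOf_eq x
    obtain ⟨P, hPne, hyP⟩ := hQ _ hy
    have hxP : x ∈ g⁻¹ • P := by
      have h1 : x ∈ ((g⁻¹ • P : Sylow p G) : Subgroup G) := by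
        rw [Sylow.coe_subgroup_smul, Subgroup.mem_pointwise_smul_iff_inv_smul_mem]
        have h2 : g * x * g⁻¹ ∈ (P : Subgroup G) := hyP
        simpa [MulAut.smul_def] using h2
      exact h1
    have := huniq _ hxP
    apply hPne
    rw [← this]
    simp
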