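import Cfsg.Statements.S4348
import Mathlib

set_option autoImplicit false
open Pointwise
open Cfsg

namespace Cfsg.Agent.S4348

theorem pCore_le_sylow {G : Type*} [Group G] [Finite G] (p : ℕ) [Fact p.Prime] (P : Sylow p G) :
    Cfsg.pCore p G ≤ (P : Subgroup G) := by
  apply sSup_le
  rintro N ⟨hN, hpN⟩
  obtain ⟨Q, hQ⟩ := hpN.exists_le_sylow
  obtain ⟨g, rfl⟩ := MulAction.exists_smul_eq G Q P
  intro x hx
  rw [Sylow.coe_subgroup_smul, Subgroup.mem_pointwise_smul_iff_inv_smul_mem]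
  apply hQ
  have := hN.conj_mem x hx g⁻¹
  simpa [MulAut.smul_def] using this

/-- Let G be a finite group, p a prime and P a Sylow p-subgroup of G, and let O_p(G) be the largest normal p-subgroup of G. If P/O_p(G) is cyclic, then some element of p-power order of G lies in exactly one Sylow p-subgroup. -/
theorem result {G : Type*} [Group G] [Finite G]
    (p : ℕ) [Fact p.Prime] (P : Sylow p G)
    [hn : ((Cfsg.pCore p G).subgroupOf (P : Subgroup G)).Normal]
    (hc : IsCyclic ((P : Subgroup G) ⧸ (Cfsg.pCore p G).subgroupOf (P : Subgroup G))) :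
    ∃ x : G, (∃ k : ℕ, orderOf x = p ^ k) ∧ ∃! Q : Sylow p G, x ∈ Q := by
  obtain ⟨g, hg⟩ := hc.exists_generator
  obtain ⟨x0, rfl⟩ := QuotientGroup.mk_surjective g
  refine ⟨(x0 : G), ?_, P, x0.2, ?_⟩
  · obtain ⟨k, hk⟩ := (IsPGroup.iff_orderOf.1 P.2) x0
    exact ⟨k, by rw [← hk, Subgroup.orderOf_coe]⟩
  · intro Q hxQ
    have hPQ : (P : Subgroup G) ≤ (Q : Subgroup G) := by
      intro y hy
      obtain ⟨n, hn'⟩ := Subgroup.mem_zpowers_iff.1 (hg (QuotientGroup.mk ⟨y, hy⟩))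
      rw [← QuotientGroup.mk_zpow, QuotientGroup.eq] at hn'
      rw [Subgroup.mem_subgroupOf] at hn'
      have h1 : ((x0 ^ n)⁻¹ * ⟨y, hy⟩ : (P : Subgroup G)).1 ∈ (Q : Subgroup G) :=
        pCore_le_sylow p Q hn'
      have h2 : ((x0 : G) ^ n) ∈ (Q : Subgroup G) := Subgroup.zpow_mem _ hxQ n
      have h3 : y = ((x0 : G) ^ n) * ((x0 ^ n)⁻¹ * ⟨y, hy⟩ : (P : Subgroup G)).1 := by
        simp
      rw [h3]
      exact Subgroup.mul_mem _ h2 h1
    exact Sylow.ext (P.3 Q.2 hPQ)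

end Cfsg.Agent.S4348
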