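import Cfsg.Statements.S4355
-- import your own Cfsg.Agent.* helpers here
import Mathlib
import Cfsg.Agent.Helper16.CamHerzGroup

set_option autoImplicit false
open Cfsg

namespace Cfsg.Agent.S4355

/-- If every element of 2-power order of a finite group has a conjugacy class of odd size, then the Sylow 2-subgroups of the group are abelian. -/
theorem result {G : Type*} [Group G] [Finite G]
    (h : ∀ x : G, (∃ k : ℕ, orderOf x = 2 ^ k) → ¬ 2 ∣ (Subgroup.centralizer ({x} : Set G)).index) (P : Sylow 2 G) :
    IsMulCommutative P := by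
  have key := Cfsg.Agent.Helper16.CamHerzGroup.comm_of_central P (by
    intro x hx
    obtain ⟨a, ha⟩ := Cfsg.Agent.Helper20.orderOf_eq_pow_of_mem_pgroup (P : Subgroup G) P.isPGroup' x hx
    exact Cfsg.Agent.Helper20.exists_sylow_le_of_not_dvd_index _ (h x ⟨a, ha⟩))
  exact ⟨⟨fun a b => Subtype.ext (congrArg Subtype.val (key.is_comm.comm ⟨a.1, a.2⟩ ⟨b.1, b.2⟩))⟩⟩

end Cfsg.Agent.S4355
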