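import Cfsg.Statements.S4365
import Mathlib

set_option autoImplicit false
set_option linter.style.haveILetI false
open Cfsg

namespace Cfsg.Agent.S4365

section
variable {P : Type*} [Group P]

theorem mem_cz {g k : P} : k ∈ Subgroup.centralizer ({g} : Set P) ↔ k * g = g * k :=
  Subgroup.mem_centralizer_singleton_iff

variable [Finite P]

theorem cz_eq_of_le {m : ℕ}
    (hidx : ∀ g : P, g ∉ Subgroup.center P → (Subgroup.centralizer ({g} : Set P)).index = m)
    {g h : P} (hg : g ∉ Subgroup.center P) (hh : h ∉ Subgroup.center P)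
    (hle : Subgroup.centralizer ({g} : Set P) ≤ Subgroup.centralizer ({h} : Set P)) :
    Subgroup.centralizer ({g} : Set P) = Subgroup.centralizer ({h} : Set P) := by
  apply le_antisymm hle
  have h1 := Subgroup.relIndex_mul_index hle
  rw [hidx g hg, hidx h hh] at h1
  have hm : m ≠ 0 := by rw [← hidx g hg]; exact Subgroup.index_ne_zero_of_finite
  have h2 : (Subgroup.centralizer ({g} : Set P)).relIndex (Subgroup.centralizer ({h} : Set P)) = 1 :=
    Nat.eq_of_mul_eq_mul_right (Nat.pos_of_ne_zero hm) (by rw [h1, one_mul])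
  exact Subgroup.relIndex_eq_one.mp h2

theorem cz_pow_eq {m : ℕ}
    (hidx : ∀ g : P, g ∉ Subgroup.center P → (Subgroup.centralizer ({g} : Set P)).index = m)
    {g : P} {n : ℕ} (hgn : g ^ n ∉ Subgroup.center P) :
    Subgroup.centralizer ({g ^ n} : Set P) = Subgroup.centralizer ({g} : Set P) := by
  have hg : g ∉ Subgroup.center P := fun h => hgn (Subgroup.pow_mem _ h n)
  symm
  apply cz_eq_of_le hidx hg hgn
  intro k hk
  rw [mem_cz] at hk ⊢
  exact (Commute.pow_right (show Commute k g from hk) n).eq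

theorem cz_le_of_pow {m : ℕ}
    (hidx : ∀ g : P, g ∉ Subgroup.center P → (Subgroup.centralizer ({g} : Set P)).index = m)
    {g h : P} (hc : Commute g h) {n : ℕ} (hgn : g ^ n ∈ Subgroup.center P)
    (hhn : h ^ n ∉ Subgroup.center P) :
    Subgroup.centralizer ({h} : Set P) ≤ Subgroup.centralizer ({g} : Set P) := by
  have hpow : (g * h) ^ n = g ^ n * h ^ n := hc.mul_pow n
  have hghn : (g * h) ^ n ∉ Subgroup.center P := by
    intro hmem
    apply hhn
    have : h ^ n = (g ^ n)⁻¹ * (g * h) ^ n := by rw [hpow]; group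
    rw [this]; exact Subgroup.mul_mem _ (Subgroup.inv_mem _ hgn) hmem
  have e1 := cz_pow_eq hidx hghn
  have e2 := cz_pow_eq hidx hhn
  have e3 : Subgroup.centralizer ({(g * h) ^ n} : Set P) = Subgroup.centralizer ({h ^ n} : Set P) := by
    ext k
    rw [mem_cz, mem_cz, hpow]
    have hz := Subgroup.mem_center_iff.mp hgn
    constructor
    · intro hk
      have : g ^ n * (k * h ^ n) = g ^ n * (h ^ n * k) := by
        rw [← mul_assoc, ← hz k, mul_assoc, hk, mul_assoc]
      exact mul_left_cancel this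
    · intro hk
      rw [← mul_assoc, hz k, mul_assoc, hk, mul_assoc]
  intro k hk
  have hk1 : k ∈ Subgroup.centralizer ({g * h} : Set P) := by rw [← e1, e3, e2]; exact hk
  rw [mem_cz] at hk hk1 ⊢
  have : k * g * h = g * k * h := by rw [mul_assoc, hk1, mul_assoc, ← hk, mul_assoc]
  exact mul_right_cancel this

theorem cz_eq_of_orderOf_lt {m : ℕ}
    (hidx : ∀ g : P, g ∉ Subgroup.center P → (Subgroup.centralizer ({g} : Set P)).index = m)
    {g h : P} (hc : Commute g h) (hg : g ∉ Subgroup.center P) (hh : h ∉ Subgroup.center P)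
    (hlt : orderOf (QuotientGroup.mk g : P ⧸ Subgroup.center P) <
      orderOf (QuotientGroup.mk h : P ⧸ Subgroup.center P)) :
    Subgroup.centralizer ({g} : Set P) = Subgroup.centralizer ({h} : Set P) := by
  have hgn : g ^ orderOf (QuotientGroup.mk g : P ⧸ Subgroup.center P) ∈ Subgroup.center P := by
    rw [← QuotientGroup.eq_one_iff, QuotientGroup.mk_pow]; exact pow_orderOf_eq_one _
  have hhn : h ^ orderOf (QuotientGroup.mk g : P ⧸ Subgroup.center P) ∉ Subgroup.center P := by
    rw [← QuotientGroup.eq_one_iff, QuotientGroup.mk_pow]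
    exact pow_ne_one_of_lt_orderOf (orderOf_pos _).ne' hlt
  exact (cz_eq_of_le hidx hh hg (cz_le_of_pow hidx hc hgn hhn)).symm

theorem cz_eq_of_mem {p : ℕ} [Fact p.Prime] (hP : IsPGroup p P) {m : ℕ}
    (hidx : ∀ g : P, g ∉ Subgroup.center P → (Subgroup.centralizer ({g} : Set P)).index = m)
    {x c : P} (hxp : x ^ p ∉ Subgroup.center P) (hc : c ∈ Subgroup.centralizer ({x} : Set P))
    (hcZ : c ∉ Subgroup.center P) :
    Subgroup.centralizer ({c} : Set P) = Subgroup.centralizer ({x} : Set P) := by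
  have hx : x ∉ Subgroup.center P := fun h => hxp (Subgroup.pow_mem _ h p)
  have hcomm : Commute c x := mem_cz.mp hc
  have e0 := cz_pow_eq hidx hxp
  rcases lt_trichotomy (orderOf (QuotientGroup.mk c : P ⧸ Subgroup.center P))
      (orderOf (QuotientGroup.mk x : P ⧸ Subgroup.center P)) with h | h | h
  · exact cz_eq_of_orderOf_lt hidx hcomm hcZ hx h
  · rw [← e0]
    have hlt : orderOf (QuotientGroup.mk (x ^ p) : P ⧸ Subgroup.center P) <
        orderOf (QuotientGroup.mk c : P ⧸ Subgroup.center P) := by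
      rw [h, QuotientGroup.mk_pow]
      have hPq : IsPGroup p (P ⧸ Subgroup.center P) := hP.to_quotient _
      obtain ⟨k, hk⟩ := (IsPGroup.iff_orderOf.mp hPq) (QuotientGroup.mk x : P ⧸ Subgroup.center P)
      have hk0 : k ≠ 0 := by
        rintro rfl
        rw [pow_zero, orderOf_eq_one_iff, QuotientGroup.eq_one_iff] at hk
        exact hx hk
      have hpdvd : p ∣ orderOf (QuotientGroup.mk x : P ⧸ Subgroup.center P) := by
        rw [hk]; exact dvd_pow_self p hk0
      rw [orderOf_pow_of_dvd (Fact.out : p.Prime).ne_zero hpdvd]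
      exact Nat.div_lt_self (orderOf_pos _) (Fact.out : p.Prime).one_lt
    exact (cz_eq_of_orderOf_lt hidx (hcomm.pow_right p).symm hxp hcZ hlt).symm
  · exact (cz_eq_of_orderOf_lt hidx hcomm.symm hx hcZ h).symm

theorem conj_central_eq_one {p : ℕ} [Fact p.Prime] (hP : IsPGroup p P) {m : ℕ}
    (hidx : ∀ g : P, g ∉ Subgroup.center P → (Subgroup.centralizer ({g} : Set P)).index = m)
    {x w z : P} (hxp : x ^ p ∉ Subgroup.center P) (hz : z ∈ Subgroup.center P)
    (hw : w⁻¹ * x * w = x * z) : z = 1 := by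
  by_contra hz1
  have hp : p.Prime := Fact.out
  obtain ⟨k, hk⟩ := (IsPGroup.iff_orderOf.mp hP) z
  have hk0 : k ≠ 0 := by
    rintro rfl
    rw [pow_zero, orderOf_eq_one_iff] at hk
    exact hz1 hk
  have hjp : p ^ (k - 1) * p = p ^ k := by
    rw [← pow_succ]; congr 1; omega
  have hzj : z ^ (p ^ (k - 1)) ≠ 1 := by
    apply pow_ne_one_of_lt_orderOf (pow_pos hp.pos _).ne'
    rw [hk]; exact Nat.pow_lt_pow_right hp.one_lt (by omega)
  have hzjp : (z ^ (p ^ (k - 1))) ^ p = 1 := by
    rw [← pow_mul, hjp, ← hk]; exact pow_orderOf_eq_one z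
  have hconj : ∀ i : ℕ, (w ^ i)⁻¹ * x * w ^ i = x * z ^ i := by
    intro i
    induction i with
    | zero => simp
    | succ i ih =>
      have hzc := Subgroup.mem_center_iff.mp (Subgroup.pow_mem _ hz i)
      calc (w ^ (i + 1))⁻¹ * x * w ^ (i + 1) = w⁻¹ * ((w ^ i)⁻¹ * x * w ^ i) * w := by
            rw [pow_succ]; group
        _ = w⁻¹ * (x * z ^ i) * w := by rw [ih]
        _ = (w⁻¹ * x * w) * z ^ i := by
            rw [mul_assoc w⁻¹, mul_assoc x, ← hzc w]; group
        _ = x * z ^ (i + 1) := by rw [hw, pow_succ', mul_assoc]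
  have h1 := hconj (p ^ (k - 1))
  have hzcomm : Commute x (z ^ (p ^ (k - 1))) :=
    (Subgroup.mem_center_iff.mp (Subgroup.pow_mem _ hz _) x)
  have h2 : (w ^ (p ^ (k - 1)))⁻¹ * x ^ p * w ^ (p ^ (k - 1)) = x ^ p := by
    have h3 : (w ^ (p ^ (k - 1)))⁻¹ * x ^ p * w ^ (p ^ (k - 1)) =
        ((w ^ (p ^ (k - 1)))⁻¹ * x * w ^ (p ^ (k - 1))) ^ p := by
      have := conj_pow (a := (w ^ (p ^ (k - 1)))⁻¹) (b := x) (i := p)
      rw [inv_inv] at this
      exact this.symm
    rw [h3, h1, hzcomm.mul_pow, hzjp, mul_one]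
  have h3 : w ^ (p ^ (k - 1)) ∈ Subgroup.centralizer ({x} : Set P) := by
    rw [← cz_pow_eq hidx hxp, mem_cz]
    calc w ^ (p ^ (k - 1)) * x ^ p
        = w ^ (p ^ (k - 1)) * ((w ^ (p ^ (k - 1)))⁻¹ * x ^ p * w ^ (p ^ (k - 1))) := by rw [h2]
      _ = x ^ p * w ^ (p ^ (k - 1)) := by group
  rw [mem_cz] at h3
  apply hzj
  have : x * z ^ (p ^ (k - 1)) = x * 1 := by
    rw [← h1, mul_assoc, ← h3, ← mul_assoc, inv_mul_cancel, one_mul, mul_one]
  exact mul_left_cancel this

theorem key_inj {p : ℕ} [Fact p.Prime] (hP : IsPGroup p P) {m : ℕ}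
    (hidx : ∀ g : P, g ∉ Subgroup.center P → (Subgroup.centralizer ({g} : Set P)).index = m)
    {x u v : P} (hxp : x ^ p ∉ Subgroup.center P)
    (hz : (u * x * u⁻¹)⁻¹ * (v * x * v⁻¹) ∈ Subgroup.center P) :
    v⁻¹ * u ∈ Subgroup.centralizer ({x} : Set P) := by
  have hzc := Subgroup.mem_center_iff.mp hz
  have e : u⁻¹ * ((u * x * u⁻¹)⁻¹ * (v * x * v⁻¹)) * u = (u * x * u⁻¹)⁻¹ * (v * x * v⁻¹) := by
    rw [mul_assoc, ← hzc u, ← mul_assoc, inv_mul_cancel, one_mul]
  have hw : (v⁻¹ * u)⁻¹ * x * (v⁻¹ * u) = x * ((u * x * u⁻¹)⁻¹ * (v * x * v⁻¹)) := by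
    rw [← e]; group
  have h1 := conj_central_eq_one hP hidx hxp hz hw
  rw [h1, mul_one] at hw
  rw [mem_cz]
  calc v⁻¹ * u * x = (v⁻¹ * u) * ((v⁻¹ * u)⁻¹ * x * (v⁻¹ * u)) := by rw [hw]
    _ = x * (v⁻¹ * u) := by group

end

/-- Let P be a finite p-group whose conjugacy class sizes are exactly 1 and pᵃ for some a ≥ 1. Then every element of P has its p-th power in the center of P (P/Z(P) has exponent p). -/
theorem result {P : Type*} [Group P] [Finite P] (p : ℕ) [Fact p.Prime]
    (hP : IsPGroup p P) (a : ℕ) (ha : 1 ≤ a)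
    (hcs : {k : ℕ | ∃ x : P, (Subgroup.centralizer ({x} : Set P)).index = k} = {1, p ^ a}) (x : P) :
    x ^ p ∈ Subgroup.center P := by
  by_contra hxp
  have hp : p.Prime := Fact.out
  have hpa : 1 < p ^ a := Nat.one_lt_pow (by omega) hp.one_lt
  -- every noncentral element has centralizer of index p ^ a
  have hidx : ∀ g : P, g ∉ Subgroup.center P →
      (Subgroup.centralizer ({g} : Set P)).index = p ^ a := by
    intro g hg
    have hmem : (Subgroup.centralizer ({g} : Set P)).index ∈
        {k : ℕ | ∃ x : P, (Subgroup.centralizer ({x} : Set P)).index = k} := ⟨g, rfl⟩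
    rw [hcs] at hmem
    rcases hmem with h | h
    · exfalso
      apply hg
      rw [Subgroup.index_eq_one] at h
      rw [Subgroup.mem_center_iff]
      intro k
      have : k ∈ Subgroup.centralizer ({g} : Set P) := by rw [h]; trivial
      exact mem_cz.mp this
    · exact h
  have hx : x ∉ Subgroup.center P := fun h => hxp (Subgroup.pow_mem _ h p)
  have hZC : ∀ g : P, Subgroup.center P ≤ Subgroup.centralizer ({g} : Set P) := by
    intro g k hk
    rw [mem_cz]
    exact (Subgroup.mem_center_iff.mp hk g).symm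
  -- an element of the second center outside the center
  haveI : Nontrivial (P ⧸ Subgroup.center P) := by
    refine ⟨⟨(QuotientGroup.mk x : P ⧸ Subgroup.center P), 1, ?_⟩⟩
    rw [Ne, QuotientGroup.eq_one_iff]; exact hx
  have hPq : IsPGroup p (P ⧸ Subgroup.center P) := hP.to_quotient _
  haveI := hPq.center_nontrivial
  obtain ⟨⟨y, hyc⟩, hy1⟩ := exists_ne (1 : Subgroup.center (P ⧸ Subgroup.center P))
  obtain ⟨g, rfl⟩ := QuotientGroup.mk_surjective y
  have hgZ : g ∉ Subgroup.center P := by
    intro h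
    apply hy1
    ext
    exact (QuotientGroup.eq_one_iff g).mpr h
  have hg2 : ∀ u : P, u⁻¹ * g⁻¹ * u * g ∈ Subgroup.center P := by
    intro u
    rw [← QuotientGroup.eq_one_iff]
    have := Subgroup.mem_center_iff.mp hyc (QuotientGroup.mk u)
    simp only [QuotientGroup.mk_mul, QuotientGroup.mk_inv]
    rw [mul_assoc, mul_assoc, this, ← mul_assoc _ _ (QuotientGroup.mk u : P ⧸ Subgroup.center P)]
    simp
  -- g centralizes x
  have hgx : g ∈ Subgroup.centralizer ({x} : Set P) := by
    have hz : x⁻¹ * g⁻¹ * x * g ∈ Subgroup.center P := hg2 x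
    have hw : g⁻¹ * x * g = x * (x⁻¹ * g⁻¹ * x * g) := by group
    have h1 := conj_central_eq_one hP hidx hxp hz hw
    rw [mem_cz]
    have : g⁻¹ * x * g = x := by rw [hw, h1, mul_one]
    calc g * x = g * (g⁻¹ * x * g) := by rw [this]
      _ = x * g := by group
  have hCg : Subgroup.centralizer ({g} : Set P) = Subgroup.centralizer ({x} : Set P) :=
    cz_eq_of_mem hP hidx hxp hgx hgZ
  -- the centralizer of x is normal
  have hnorm : ∀ w u : P, w ∈ Subgroup.centralizer ({x} : Set P) →
      u * w * u⁻¹ ∈ Subgroup.centralizer ({x} : Set P) := by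
    intro w u hw
    rw [← hCg] at hw ⊢
    rw [mem_cz] at hw ⊢
    have hz := hg2 u
    have hzc := Subgroup.mem_center_iff.mp hz
    -- u⁻¹ g u = g z' where z' = (g⁻¹ u⁻¹ g u); we use z = u⁻¹ g⁻¹ u g central
    have e1 : u⁻¹ * g⁻¹ * u = (u⁻¹ * g⁻¹ * u * g) * g⁻¹ := by group
    have e2 : w * (u⁻¹ * g⁻¹ * u) = (u⁻¹ * g⁻¹ * u) * w := by
      have hw' : w * g⁻¹ = g⁻¹ * w := (show Commute w g from hw).inv_right.eq
      rw [e1, ← mul_assoc, hzc w, mul_assoc, hw']; group
    -- conjugate back
    have e3 : (u * w * u⁻¹) * g⁻¹ = g⁻¹ * (u * w * u⁻¹) := by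
      calc (u * w * u⁻¹) * g⁻¹ = u * (w * (u⁻¹ * g⁻¹ * u)) * u⁻¹ := by group
        _ = u * ((u⁻¹ * g⁻¹ * u) * w) * u⁻¹ := by rw [e2]
        _ = g⁻¹ * (u * w * u⁻¹) := by group
    calc u * w * u⁻¹ * g = g * (g⁻¹ * (u * w * u⁻¹)) * g := by group
      _ = g * ((u * w * u⁻¹) * g⁻¹) * g := by rw [e3]
      _ = g * (u * w * u⁻¹) := by group
  -- pick y outside the centralizer of x
  obtain ⟨y, hy⟩ : ∃ y : P, y ∉ Subgroup.centralizer ({x} : Set P) := by
    by_contra hall
    push Not at hall
    apply hx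
    rw [Subgroup.mem_center_iff]
    intro k
    exact mem_cz.mp (hall k)
  have hyZ : y ∉ Subgroup.center P := fun h => hy (hZC x h)
  have hinf : Subgroup.centralizer ({x} : Set P) ⊓ Subgroup.centralizer ({y} : Set P) =
      Subgroup.center P := by
    apply le_antisymm
    · intro c hc
      obtain ⟨hc1, hc2⟩ := Subgroup.mem_inf.mp hc
      by_contra hcZ
      have := cz_eq_of_mem hP hidx hxp hc1 hcZ
      apply hy
      rw [← this, mem_cz]
      exact (mem_cz.mp hc2).symm
    · exact le_inf (hZC x) (hZC y)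
  have hrel : (Subgroup.center P).relIndex (Subgroup.centralizer ({x} : Set P)) ≤ p ^ a := by
    have h1 := Subgroup.index_inf_le (H := Subgroup.centralizer ({x} : Set P))
      (K := Subgroup.centralizer ({y} : Set P))
    rw [hinf, hidx x hx, hidx y hyZ, ← Subgroup.relIndex_mul_index (hZC x), hidx x hx] at h1
    exact Nat.le_of_mul_le_mul_right h1 (by omega)
  -- injection from Option (P ⧸ C) into C ⧸ Z
  have hmemC : ∀ u : P, u * x * u⁻¹ ∈ Subgroup.centralizer ({x} : Set P) := by
    intro u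
    apply hnorm
    rw [mem_cz]
  let f : Option (P ⧸ Subgroup.centralizer ({x} : Set P)) →
      (↥(Subgroup.centralizer ({x} : Set P)) ⧸
        (Subgroup.center P).subgroupOf (Subgroup.centralizer ({x} : Set P))) :=
    fun o => match o with
      | none => 1
      | some q => QuotientGroup.mk ⟨q.out * x * q.out⁻¹, hmemC q.out⟩
  have hf : Function.Injective f := by
    intro o1 o2 h
    cases o1 with
    | none =>
      cases o2 with
      | none => rfl
      | some q =>
        exfalso
        have h' : (QuotientGroup.mk (⟨q.out * x * q.out⁻¹, hmemC q.out⟩ :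
            ↥(Subgroup.centralizer ({x} : Set P))) : _ ⧸
            (Subgroup.center P).subgroupOf (Subgroup.centralizer ({x} : Set P))) = 1 := h.symm
        rw [QuotientGroup.eq_one_iff, Subgroup.mem_subgroupOf] at h'
        apply hx
        have := (Subgroup.center P).normal_of_characteristic.conj_mem _ h' q.out⁻¹
        simpa [mul_assoc] using this
    | some q =>
      cases o2 with
      | none =>
        exfalso
        have h' : (QuotientGroup.mk (⟨q.out * x * q.out⁻¹, hmemC q.out⟩ :
            ↥(Subgroup.centralizer ({x} : Set P))) : _ ⧸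
            (Subgroup.center P).subgroupOf (Subgroup.centralizer ({x} : Set P))) = 1 := h
        rw [QuotientGroup.eq_one_iff, Subgroup.mem_subgroupOf] at h'
        apply hx
        have := (Subgroup.center P).normal_of_characteristic.conj_mem _ h' q.out⁻¹
        simpa [mul_assoc] using this
      | some q' =>
        have h' : (QuotientGroup.mk (⟨q.out * x * q.out⁻¹, hmemC q.out⟩ :
            ↥(Subgroup.centralizer ({x} : Set P))) : _ ⧸
            (Subgroup.center P).subgroupOf (Subgroup.centralizer ({x} : Set P))) =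
            QuotientGroup.mk (⟨q'.out * x * q'.out⁻¹, hmemC q'.out⟩ :
            ↥(Subgroup.centralizer ({x} : Set P))) := h
        rw [QuotientGroup.eq, Subgroup.mem_subgroupOf] at h'
        have hzz : (q.out * x * q.out⁻¹)⁻¹ * (q'.out * x * q'.out⁻¹) ∈ Subgroup.center P := by
          simpa using h'
        have hmem := key_inj hP hidx hxp hzz
        have : q' = q := by
          rw [← Quotient.out_eq' q, ← Quotient.out_eq' q']
          exact QuotientGroup.eq.mpr hmem
        rw [this]
  have hcard := Nat.card_le_card_of_injective f hf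
  rw [Finite.card_option, ← Subgroup.index_eq_card, ← Subgroup.index_eq_card, hidx x hx] at hcard
  have : (Subgroup.center P).relIndex (Subgroup.centralizer ({x} : Set P)) =
      ((Subgroup.center P).subgroupOf (Subgroup.centralizer ({x} : Set P))).index := rfl
  omega

end Cfsg.Agent.S4365
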