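import Cfsg.Statements.S4370
import Mathlib
import Cfsg.Agent.S0016
import Cfsg.Agent.Helper23.NilpotentElts
import Cfsg.Agent.Helper20.DirectFactor

set_option autoImplicit false
set_option linter.style.haveILetI false
set_option linter.unusedSectionVars false
open Cfsg

namespace Cfsg.Agent.S4370

/-- In a finite cyclic group, an element killed by `p` lies in the subgroup generated by any
element of order `p`. -/
theorem mem_zpowers_of_pow_eq_one {C : Type*} [Group C] [Finite C] [IsCyclic C] {a b : C} {p : ℕ}
    (hp : 0 < p) (ha : a ^ p = 1) (hb : orderOf b = p) : a ∈ Subgroup.zpowers b := by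
  classical
  haveI := Fintype.ofFinite C
  have h := IsCyclic.card_pow_eq_one_le (α := C) hp
  have hsub : (Finset.univ.filter (fun x : C => x ∈ Subgroup.zpowers b)) ⊆
      Finset.univ.filter (fun x : C => x ^ p = 1) := by
    intro x hx
    simp only [Finset.mem_filter, Finset.mem_univ, true_and] at hx ⊢
    obtain ⟨k, rfl⟩ := Subgroup.mem_zpowers_iff.mp hx
    rw [← zpow_natCast, ← zpow_mul, mul_comm, zpow_mul, zpow_natCast, ← hb, pow_orderOf_eq_one,
      one_zpow]
  have hcard : (Finset.univ.filter (fun x : C => x ∈ Subgroup.zpowers b)).card = p := by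
    rw [← hb, ← Nat.card_zpowers, Nat.card_eq_fintype_card, Fintype.card_subtype]
  have heq := Finset.eq_of_subset_of_card_le hsub (by rw [hcard]; exact h)
  have : a ∈ Finset.univ.filter (fun x : C => x ^ p = 1) := by simp [ha]
  rw [← heq] at this
  simpa using this

section quaternion
open QuaternionGroup

theorem two_mul_eq_zero {n : ℕ} [NeZero n] (j : ZMod (2 * n)) (h : 2 * j = 0) :
    j = 0 ∨ j = (n : ZMod (2 * n)) := by
  have h1 : ((2 * j.val : ℕ) : ZMod (2 * n)) = 0 := by
    push_cast
    rw [ZMod.natCast_zmod_val]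
    exact h
  rw [ZMod.natCast_eq_zero_iff] at h1
  have h2 : n ∣ j.val := Nat.dvd_of_mul_dvd_mul_left two_pos h1
  obtain ⟨c, hc⟩ := h2
  have hlt : j.val < 2 * n := ZMod.val_lt j
  have hn : 0 < n := Nat.pos_of_ne_zero (NeZero.ne n)
  have hc2 : c < 2 := by
    by_contra hge
    push Not at hge
    have : n * 2 ≤ n * c := Nat.mul_le_mul_left n hge
    omega
  interval_cases c
  · left
    rw [mul_zero] at hc
    exact (ZMod.val_eq_zero j).mp hc
  · right
    rw [mul_one] at hc
    have h3 : ((j.val : ℕ) : ZMod (2 * n)) = j := ZMod.natCast_zmod_val j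
    rw [hc] at h3
    exact h3.symm

theorem quaternion_centralizer_cyclic {n : ℕ} [NeZero n] (q : QuaternionGroup n)
    (hq : q ∉ Subgroup.center (QuaternionGroup n)) :
    IsCyclic (Subgroup.centralizer ({q} : Set (QuaternionGroup n))) := by
  rcases q with i | i
  · have h2i : 2 * i ≠ 0 := by
      intro h
      apply hq
      rw [Subgroup.mem_center_iff]
      rintro (j | j)
      · rw [a_mul_a, a_mul_a, add_comm]
      · rw [xa_mul_a, a_mul_xa]
        congr 1
        linear_combination h
    apply Subgroup.isCyclic_of_le (H' := Subgroup.zpowers (a 1))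
    rintro (j | j) hj
    · rw [Subgroup.mem_zpowers_iff]
      exact ⟨j.val, by rw [zpow_natCast, a_one_pow, ZMod.natCast_zmod_val]⟩
    · exfalso
      rw [Subgroup.mem_centralizer_singleton_iff, xa_mul_a, a_mul_xa] at hj
      apply h2i
      have := xa.inj hj
      linear_combination this
  · apply Subgroup.isCyclic_of_le (H' := Subgroup.zpowers (xa i))
    rintro (j | j) hj
    · rw [Subgroup.mem_centralizer_singleton_iff, a_mul_xa, xa_mul_a] at hj
      have h := xa.inj hj
      have h2 : 2 * j = 0 := by linear_combination -h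
      rcases two_mul_eq_zero j h2 with rfl | rfl
      · rw [a_zero]; exact one_mem _
      · rw [← xa_sq i]
        exact Subgroup.pow_mem _ (Subgroup.mem_zpowers _) 2
    · rw [Subgroup.mem_centralizer_singleton_iff, xa_mul_xa, xa_mul_xa] at hj
      have h := a.inj hj
      have h2 : 2 * (j - i) = 0 := by linear_combination -h
      rcases two_mul_eq_zero (j - i) h2 with h0 | hn
      · have : j = i := sub_eq_zero.mp h0
        subst this
        exact Subgroup.mem_zpowers _
      · have hji : j = i + (n : ZMod (2 * n)) := by rw [← hn]; ring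
        have : xa j = xa i ^ 3 := by
          rw [pow_succ, xa_sq, a_mul_xa, hji]
          congr 1
          have h4 : (2 : ZMod (2 * n)) * (n : ZMod (2 * n)) = 0 := by
            have : ((2 * n : ℕ) : ZMod (2 * n)) = 0 := ZMod.natCast_self _
            push_cast at this
            exact this
          linear_combination h4
        rw [this]
        exact Subgroup.pow_mem _ (Subgroup.mem_zpowers _) 3

end quaternion

section forward
variable {G : Type*} [Group G] [Finite G] [Group.IsNilpotent G]

/-- elements of prime order are central -/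
theorem mem_center_of_prime_order
    (hcyc : ∀ x : G, x ∉ Subgroup.center G → IsCyclic (Subgroup.centralizer ({x} : Set G)))
    {p : ℕ} (hp : p.Prime) {h : G} (hh : orderOf h = p) : h ∈ Subgroup.center G := by
  by_contra hn
  haveI := Fact.mk hp
  haveI := hcyc h hn
  have hdvd : p ∣ Nat.card G := hh ▸ orderOf_dvd_natCard h
  obtain ⟨z, hz, hzp⟩ := Cfsg.Agent.Helper23.exists_mem_center_orderOf_eq (K := G) hdvd
  have hzC : z ∈ Subgroup.centralizer ({h} : Set G) := by
    rw [Subgroup.mem_centralizer_singleton_iff]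
    exact (Subgroup.mem_center_iff.mp hz h).symm
  have hhC : h ∈ Subgroup.centralizer ({h} : Set G) := by
    rw [Subgroup.mem_centralizer_singleton_iff]
  have key := mem_zpowers_of_pow_eq_one (C := ↥(Subgroup.centralizer ({h} : Set G)))
    (a := ⟨h, hhC⟩) (b := ⟨z, hzC⟩) hp.pos
    (by
      apply Subtype.ext
      rw [Subgroup.coe_pow, Subgroup.coe_mk, Subgroup.coe_one, ← hh, pow_orderOf_eq_one])
    (by rw [Subgroup.orderOf_mk]; exact hzp)
  obtain ⟨k, hk⟩ := Subgroup.mem_zpowers_iff.mp key
  have hk' : z ^ k = h := by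
    have := congrArg Subtype.val hk
    simpa using this
  apply hn
  rw [← hk']
  exact Subgroup.zpow_mem _ hz k

theorem exists_gen_of_card_prime {p : ℕ} (hp : p.Prime) (L : Subgroup G) (hL : Nat.card L = p) :
    ∃ l ∈ L, orderOf l = p ∧ L = Subgroup.zpowers l := by
  haveI := Fact.mk hp
  have hnt : Nontrivial L := by
    rw [← Finite.one_lt_card_iff_nontrivial, hL]; exact hp.one_lt
  obtain ⟨⟨l, hlL⟩, hl1⟩ := exists_ne (1 : L)
  have hord : orderOf l = p := by
    have h1 : orderOf (⟨l, hlL⟩ : L) ∣ p := hL ▸ orderOf_dvd_natCard _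
    rw [Subgroup.orderOf_mk] at h1
    rcases (Nat.dvd_prime hp).mp h1 with h | h
    · exfalso
      apply hl1
      apply Subtype.ext
      exact orderOf_eq_one_iff.mp h
    · exact h
  refine ⟨l, hlL, hord, ?_⟩
  symm
  apply Subgroup.eq_of_le_of_card_ge (Subgroup.zpowers_le.mpr hlL)
  rw [Nat.card_zpowers, hord, hL]

theorem unique_subgroup_prime
    (hcyc : ∀ x : G, x ∉ Subgroup.center G → IsCyclic (Subgroup.centralizer ({x} : Set G)))
    (hna : ∃ x0 : G, x0 ∉ Subgroup.center G) {p : ℕ} (hp : p.Prime) (H K : Subgroup G)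
    (hH : Nat.card H = p) (hK : Nat.card K = p) : H = K := by
  obtain ⟨x0, hx0⟩ := hna
  haveI := hcyc x0 hx0
  have hZC : Subgroup.center G ≤ Subgroup.centralizer ({x0} : Set G) := by
    intro z hz
    rw [Subgroup.mem_centralizer_singleton_iff]
    exact (Subgroup.mem_center_iff.mp hz x0).symm
  haveI hZcyc : IsCyclic (Subgroup.center G) := Subgroup.isCyclic_of_le hZC
  obtain ⟨h, hhH, hho, hHz⟩ := exists_gen_of_card_prime hp H hH
  obtain ⟨k, hkK, hko, hKz⟩ := exists_gen_of_card_prime hp K hK
  have hhZ := mem_center_of_prime_order hcyc hp hho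
  have hkZ := mem_center_of_prime_order hcyc hp hko
  have key := mem_zpowers_of_pow_eq_one (C := ↥(Subgroup.center G))
    (a := ⟨h, hhZ⟩) (b := ⟨k, hkZ⟩) hp.pos
    (by
      apply Subtype.ext
      rw [Subgroup.coe_pow, Subgroup.coe_mk, Subgroup.coe_one, ← hho, pow_orderOf_eq_one])
    (by rw [Subgroup.orderOf_mk]; exact hko)
  obtain ⟨j, hj⟩ := Subgroup.mem_zpowers_iff.mp key
  have hj' : k ^ j = h := by
    have := congrArg Subtype.val hj
    simpa using this
  have hle : H ≤ K := by
    rw [hHz, hKz, Subgroup.zpowers_le, ← hj']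
    exact Subgroup.zpow_mem _ (Subgroup.mem_zpowers k) j
  exact Subgroup.eq_of_le_of_card_ge hle (by rw [hH, hK])

theorem sylow_structure
    (hcyc : ∀ x : G, x ∉ Subgroup.center G → IsCyclic (Subgroup.centralizer ({x} : Set G)))
    (hna : ∃ x0 : G, x0 ∉ Subgroup.center G) (p : ℕ) [Fact p.Prime] (P : Sylow p G) :
    IsCyclic P ∨ (p = 2 ∧ ∃ n : ℕ, Nonempty (P ≃* QuaternionGroup (2 ^ n))) := by
  apply Cfsg.Agent.S0016.result p P.isPGroup'
  intro H K hH hK
  have h1 : Nat.card (H.map (P : Subgroup G).subtype) = p := by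
    rw [Subgroup.card_map_of_injective (Subgroup.subtype_injective _), hH]
  have h2 : Nat.card (K.map (P : Subgroup G).subtype) = p := by
    rw [Subgroup.card_map_of_injective (Subgroup.subtype_injective _), hK]
  have := unique_subgroup_prime hcyc hna (Fact.out : p.Prime) _ _ h1 h2
  exact Subgroup.map_injective (Subgroup.subtype_injective _) this

theorem comm_of_sylow_comm
    (h : ∀ (p : ℕ) [Fact p.Prime] (P : Sylow p G), ∀ a b : P, a * b = b * a) :
    ∀ a b : G, a * b = b * a := by
  have e := Sylow.directProductOfNormal (G := G) (fun {p} _ P => inferInstance)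
  intro a b
  apply e.symm.injective
  rw [map_mul, map_mul]
  funext p P
  haveI := Fact.mk (Nat.prime_of_mem_primeFactors p.2)
  exact h p P _ _

theorem quaternion_one_comm : ∀ a b : QuaternionGroup 1, a * b = b * a := by decide

theorem forward (hna : ¬ IsMulCommutative G)
    (hcyc : ∀ x : G, x ∉ Subgroup.center G → IsCyclic (Subgroup.centralizer ({x} : Set G))) :
    ∃ (k m : ℕ), 1 ≤ k ∧ Odd m ∧
      Nonempty (G ≃* QuaternionGroup (2 ^ k) × Multiplicative (ZMod m)) := by
  have hx0 : ∃ x0 : G, x0 ∉ Subgroup.center G := by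
    by_contra hall
    push Not at hall
    apply hna
    exact ⟨⟨fun a b => (Subgroup.mem_center_iff.mp (hall b) a)⟩⟩
  haveI : Fact (Nat.Prime 2) := ⟨Nat.prime_two⟩
  obtain ⟨P, K, hPn, hKn, hinf, hsup⟩ :=
    (Cfsg.Agent.Helper20.sylow_direct_factor_iff (G := G) 2).mpr (by
      rintro x y ⟨a, ha⟩ ⟨q, b, hq, hq2, hb⟩
      refine (Cfsg.Agent.Helper23.commute_of_isNilpotent_of_coprime (p := 2) x y
        (IsPGroup.of_card (n := a) (by rw [Nat.card_zpowers, ha])) ?_).eq
      rw [hb]
      exact Nat.Coprime.pow_left b ((Nat.coprime_primes hq Nat.prime_two).mpr hq2))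
  -- P is not commutative
  have hPnc : ¬ ∀ a b : P, a * b = b * a := by
    intro hPc
    apply hna
    have hall := comm_of_sylow_comm (G := G) (by
      intro p _ P' a b
      by_cases hp2 : p = 2
      · subst hp2
        haveI := Sylow.unique_of_normal P hPn
        have : P' = P := Subsingleton.elim _ _
        subst this
        exact hPc a b
      · rcases sylow_structure hcyc hx0 p P' with h | ⟨h, -⟩
        · haveI := h
          exact mul_comm' a b
        · exact absurd h hp2)
    exact ⟨⟨hall⟩⟩
  -- hence P is generalized quaternion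
  obtain ⟨n, ⟨eP⟩⟩ : ∃ n : ℕ, Nonempty (P ≃* QuaternionGroup (2 ^ n)) := by
    rcases sylow_structure hcyc hx0 2 P with h | ⟨-, h⟩
    · exfalso
      apply hPnc
      haveI := h
      exact fun a b => mul_comm' a b
    · exact h
  have hn : 1 ≤ n := by
    by_contra h0
    have : n = 0 := by omega
    subst this
    apply hPnc
    intro a b
    apply eP.injective
    rw [map_mul, map_mul]
    exact quaternion_one_comm _ _
  -- K is cyclic
  have hcommPK : ∀ x ∈ (P : Subgroup G), ∀ y ∈ K, Commute x y :=
    fun x hx y hy => Subgroup.commute_of_normal_of_disjoint _ _ hPn hKn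
      (disjoint_iff.mpr hinf) x y hx hy
  have hKcyc : IsCyclic K := by
    obtain ⟨u, v, huv⟩ : ∃ u v : P, u * v ≠ v * u := by
      by_contra h
      push Not at h
      exact hPnc h
    have hu : (u : G) ∉ Subgroup.center G := by
      intro hc
      apply huv
      apply Subtype.ext
      exact (Subgroup.mem_center_iff.mp hc (v : G)).symm
    haveI := hcyc _ hu
    apply Subgroup.isCyclic_of_le (H' := Subgroup.centralizer ({(u : G)} : Set G))
    intro y hy
    rw [Subgroup.mem_centralizer_singleton_iff]
    exact (hcommPK (u : G) u.2 y hy).symm.eq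
  -- |K| is odd
  have hKodd : Odd (Nat.card K) := by
    rw [← Nat.not_even_iff_odd]
    intro he
    have h2 : 2 ∣ Nat.card K := even_iff_two_dvd.mp he
    obtain ⟨y, hy⟩ := exists_prime_orderOf_dvd_card' 2 h2
    have hy2 : orderOf (y : G) = 2 := by rw [Subgroup.orderOf_coe]; exact hy
    have hyP : (y : G) ∈ P := Cfsg.Agent.Helper23.mem_sylow_of_isNilpotent P (y : G)
      (IsPGroup.of_card (n := 1) (by rw [Nat.card_zpowers, hy2, pow_one]))
    have : (y : G) ∈ (P : Subgroup G) ⊓ K := ⟨hyP, y.2⟩
    rw [hinf, Subgroup.mem_bot] at this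
    rw [this, orderOf_one] at hy2
    omega
  -- the direct product decomposition
  let f : ↥(P : Subgroup G) × ↥K →* G :=
    MonoidHom.noncommCoprod (P : Subgroup G).subtype K.subtype
      (fun x y => hcommPK x x.2 y y.2)
  have hf_inj : Function.Injective f := by
    rw [injective_iff_map_eq_one]
    rintro ⟨x, y⟩ h
    have h' : (x : G) * (y : G) = 1 := by
      rw [← h]
      rfl
    have hx : (x : G) ∈ (P : Subgroup G) ⊓ K := by
      refine ⟨x.2, ?_⟩
      have : (x : G) = (y : G)⁻¹ := eq_inv_of_mul_eq_one_left h'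
      rw [this]; exact K.inv_mem y.2
    rw [hinf, Subgroup.mem_bot] at hx
    have hy : (y : G) = 1 := by rw [hx, one_mul] at h'; exact h'
    exact Prod.ext (Subtype.ext hx) (Subtype.ext hy)
  have hf_surj : Function.Surjective f := by
    intro g
    have hg : g ∈ ((P : Subgroup G) ⊔ K : Subgroup G) := by rw [hsup]; trivial
    haveI := hKn
    rw [← SetLike.mem_coe, Subgroup.mul_normal] at hg
    obtain ⟨x, hx, y, hy, rfl⟩ := Set.mem_mul.mp hg
    exact ⟨(⟨x, hx⟩, ⟨y, hy⟩), rfl⟩
  let e : ↥(P : Subgroup G) × ↥K ≃* G := MulEquiv.ofBijective f ⟨hf_inj, hf_surj⟩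
  refine ⟨n, Nat.card K, hn, hKodd, ⟨e.symm.trans (MulEquiv.prodCongr eP ?_)⟩⟩
  exact (zmodCyclicMulEquiv hKcyc).symm

end forward

section backward

theorem prod_centralizer_cyclic {k m : ℕ} (hm : Odd m)
    (q : QuaternionGroup (2 ^ k)) (c : Multiplicative (ZMod m))
    (hq : q ∉ Subgroup.center (QuaternionGroup (2 ^ k))) :
    IsCyclic (Subgroup.centralizer
      ({(q, c)} : Set (QuaternionGroup (2 ^ k) × Multiplicative (ZMod m)))) := by
  haveI : NeZero m := ⟨fun h => by rw [h] at hm; exact absurd hm (by decide)⟩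
  have heq : Subgroup.centralizer
      ({(q, c)} : Set (QuaternionGroup (2 ^ k) × Multiplicative (ZMod m))) =
      (Subgroup.centralizer ({q} : Set (QuaternionGroup (2 ^ k)))).prod ⊤ := by
    ext ⟨a, b⟩
    rw [Subgroup.mem_centralizer_singleton_iff, Subgroup.mem_prod,
      Subgroup.mem_centralizer_singleton_iff]
    simp only [Prod.mk_mul_mk, Prod.mk.injEq, Subgroup.mem_top, and_true]
    constructor
    · intro h; exact h.1
    · intro h; exact ⟨h, mul_comm _ _⟩
  rw [heq]
  haveI := quaternion_centralizer_cyclic q hq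
  have hcop : (Nat.card (Subgroup.centralizer ({q} : Set (QuaternionGroup (2 ^ k))))).Coprime
      (Nat.card (⊤ : Subgroup (Multiplicative (ZMod m)))) := by
    have h1 : Nat.card (Subgroup.centralizer ({q} : Set (QuaternionGroup (2 ^ k)))) ∣
        2 ^ (k + 2) := by
      have := Subgroup.card_subgroup_dvd_card
        (Subgroup.centralizer ({q} : Set (QuaternionGroup (2 ^ k))))
      rw [Nat.card_eq_fintype_card (α := QuaternionGroup (2 ^ k)), QuaternionGroup.card] at this
      have e : 4 * 2 ^ k = 2 ^ (k + 2) := by ring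
      rwa [e] at this
    have h2 : Nat.card (⊤ : Subgroup (Multiplicative (ZMod m))) = m := by
      rw [Subgroup.card_top, Nat.card_eq_fintype_card, Fintype.card_multiplicative, ZMod.card]
    rw [h2]
    exact Nat.Coprime.coprime_dvd_left h1
      (Nat.Coprime.pow_left _ (Nat.coprime_two_left.mpr hm))
  have hprod : IsCyclic (↥(Subgroup.centralizer ({q} : Set (QuaternionGroup (2 ^ k)))) ×
      ↥(⊤ : Subgroup (Multiplicative (ZMod m)))) :=
    Group.isCyclic_prod_iff.mpr ⟨inferInstance, inferInstance, hcop⟩
  exact (Subgroup.prodEquiv _ _).isCyclic.mpr hprod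

theorem backward {G : Type*} [Group G] {k m : ℕ} (hm : Odd m)
    (e : G ≃* QuaternionGroup (2 ^ k) × Multiplicative (ZMod m)) (x : G)
    (hx : x ∉ Subgroup.center G) : IsCyclic (Subgroup.centralizer ({x} : Set G)) := by
  have hq : (e x).1 ∉ Subgroup.center (QuaternionGroup (2 ^ k)) := by
    intro hq
    apply hx
    rw [Subgroup.mem_center_iff]
    intro g
    apply e.injective
    rw [map_mul, map_mul]
    apply Prod.ext
    · exact Subgroup.mem_center_iff.mp hq (e g).1
    · exact mul_comm (e g).2 (e x).2
  haveI := prod_centralizer_cyclic hm (e x).1 (e x).2 hq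
  let φ : ↥(Subgroup.centralizer ({x} : Set G)) →*
      ↥(Subgroup.centralizer ({((e x).1, (e x).2)} :
        Set (QuaternionGroup (2 ^ k) × Multiplicative (ZMod m)))) :=
    (e.toMonoidHom.comp (Subgroup.subtype _)).codRestrict _ (by
      intro g
      rw [Subgroup.mem_centralizer_singleton_iff]
      have hg := Subgroup.mem_centralizer_singleton_iff.mp g.2
      show e (g : G) * e x = e x * e (g : G)
      rw [← map_mul, ← map_mul, hg])
  apply isCyclic_of_injective φ
  intro g1 g2 h
  apply Subtype.ext
  apply e.injective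
  exact congrArg Subtype.val h

end backward

/-- Let G be a finite non-abelian nilpotent group. Then the centralizer of every non-central element of G is cyclic if and only if G is isomorphic to the direct product of a generalized quaternion group and a cyclic group of odd order. -/
theorem result {G : Type*} [Group G] [Finite G] (hG : Group.IsNilpotent G)
    (hna : ¬ IsMulCommutative G) :
    (∀ x : G, x ∉ Subgroup.center G → IsCyclic (Subgroup.centralizer ({x} : Set G))) ↔
      ∃ (k m : ℕ), 1 ≤ k ∧ Odd m ∧ Nonempty (G ≃* QuaternionGroup (2 ^ k) × Multiplicative (ZMod m)) := by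
  haveI := hG
  constructor
  · intro hcyc
    exact forward hna hcyc
  · rintro ⟨k, m, -, hm, ⟨e⟩⟩ x hx
    exact backward hm e x hx

end Cfsg.Agent.S4370
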