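import Cfsg.Statements.S4377
import Mathlib

set_option autoImplicit false
open Cfsg

namespace Cfsg.Agent.S4377

theorem card_pow_eq_one {G : Type*} [Group G] [Finite G] (n : ℕ) (hn : n ≠ 0) :
    Nat.card {g : G // g ^ n = 1} = ∑ d ∈ n.divisors, Nat.card {g : G // orderOf g = d} := by
  classical
  haveI := Fintype.ofFinite G
  simp only [Nat.card_eq_fintype_card, Fintype.card_subtype]
  rw [Finset.card_eq_sum_card_fiberwise (f := orderOf) (t := n.divisors)]
  · apply Finset.sum_congr rfl
    intro d hd
    congr 1
    ext g
    simp only [Finset.mem_filter, Finset.mem_univ, true_and]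
    constructor
    · rintro ⟨_, h⟩
      exact h
    · intro h
      refine ⟨?_, h⟩
      rw [← orderOf_dvd_iff_pow_eq_one, h]
      exact Nat.dvd_of_mem_divisors hd
  · intro g hg
    simp only [Finset.coe_filter, Finset.mem_univ, true_and, Set.mem_setOf_eq] at hg
    simp only [Finset.mem_coe, Nat.mem_divisors]
    exact ⟨orderOf_dvd_of_pow_eq_one hg, hn⟩

theorem card_orderOf_zero {G : Type*} [Group G] [Finite G] :
    Nat.card {g : G // orderOf g = 0} = 0 := by
  rw [Nat.card_eq_zero]
  left
  constructor
  rintro ⟨g, hg⟩
  exact (orderOf_pos g).ne' hg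

theorem card_pow_card {G : Type*} [Group G] [Finite G] (m : ℕ) :
    Nat.card {g : G // g ^ (Nat.card G * m) = 1} = Nat.card G := by
  have : ∀ g : G, g ^ (Nat.card G * m) = 1 := by
    intro g
    rw [pow_mul, pow_card_eq_one', one_pow]
  exact Nat.card_congr (Equiv.subtypeUnivEquiv this)

theorem card_pow_zero {G : Type*} [Group G] [Finite G] :
    Nat.card {g : G // g ^ 0 = 1} = Nat.card G := by
  have := card_pow_card (G := G) 0
  simpa using this

/-- Two finite groups have the same number of elements of each order if and only if, for every n, they have the same number of elements g with gⁿ = 1. -/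
theorem result {G H : Type*} [Group G] [Finite G] [Group H] [Finite H] :
    (∀ n : ℕ, Nat.card {g : G // orderOf g = n} = Nat.card {h : H // orderOf h = n}) ↔
      ∀ n : ℕ, Nat.card {g : G // g ^ n = 1} = Nat.card {h : H // h ^ n = 1} := by
  constructor
  · intro h
    have hpos : ∀ n : ℕ, n ≠ 0 → Nat.card {g : G // g ^ n = 1} = Nat.card {h : H // h ^ n = 1} := by
      intro n hn
      rw [card_pow_eq_one n hn, card_pow_eq_one n hn]
      exact Finset.sum_congr rfl (fun d _ => h d)
    intro n
    rcases Nat.eq_zero_or_pos n with rfl | hn
    · rw [card_pow_zero, card_pow_zero]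
      have h1 := hpos (Nat.card G * Nat.card H)
        (Nat.mul_ne_zero Nat.card_pos.ne' Nat.card_pos.ne')
      rw [card_pow_card] at h1
      rw [mul_comm, card_pow_card] at h1
      exact h1
    · exact hpos n hn.ne'
  · intro h n
    induction n using Nat.strong_induction_on with
    | _ n ih =>
      rcases Nat.eq_zero_or_pos n with rfl | hn
      · rw [card_orderOf_zero, card_orderOf_zero]
      · have h1 := h n
        rw [card_pow_eq_one n hn.ne', card_pow_eq_one n hn.ne'] at h1
        rw [← Nat.cons_self_properDivisors hn.ne', Finset.sum_cons, Finset.sum_cons] at h1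
        have h2 : ∑ d ∈ n.properDivisors, Nat.card {g : G // orderOf g = d}
            = ∑ d ∈ n.properDivisors, Nat.card {h : H // orderOf h = d} := by
          apply Finset.sum_congr rfl
          intro d hd
          exact ih d (Nat.mem_properDivisors.1 hd).2
        omega

end Cfsg.Agent.S4377
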