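import Cfsg.Statements.S4387
import Cfsg.Agent.Helper22.ConjCover
import Mathlib

set_option autoImplicit false
open Pointwise
open Cfsg

namespace Cfsg.Agent.S4387

theorem isCoatom_of_index_prime {G : Type*} [Group G] [Finite G] (H : Subgroup G)
    (hp : H.index.Prime) : IsCoatom H := by
  refine ⟨?_, ?_⟩
  · intro h
    rw [h, Subgroup.index_top] at hp
    exact Nat.not_prime_one hp
  · intro K hK
    have h1 : K.index ∣ H.index := Subgroup.index_dvd_of_le hK.le
    rcases (Nat.dvd_prime hp).1 h1 with h2 | h2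
    · exact Subgroup.index_eq_one.1 h2
    · exfalso
      have h3 : H.relIndex K = 1 := by
        have := Subgroup.relIndex_mul_index hK.le
        rw [h2] at this
        have hpos : 0 < H.index := hp.pos
        nlinarith [this]
      have h4 : K ≤ H := Subgroup.relIndex_eq_one.1 h3
      exact (lt_irrefl _ (lt_of_lt_of_le hK h4))

/-- Let G be a non-trivial finite group in which any two maximal subgroups are conjugate. Then G is cyclic of prime-power order. -/
theorem result {G : Type*} [Group G] [Finite G] [Nontrivial G]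
    (h : ∀ M N : Subgroup G, IsCoatom M → IsCoatom N → ∃ g : G, N = MulAut.conj g • M) :
    IsCyclic G ∧ IsPrimePow (Nat.card G) := by
  -- a coatom exists
  obtain ⟨M, hM⟩ : ∃ M : Subgroup G, IsCoatom M := by
    rcases eq_top_or_exists_le_coatom (⊥ : Subgroup G) with h0 | ⟨M, hM, _⟩
    · exact absurd h0 bot_ne_top
    · exact ⟨M, hM⟩
  -- an element outside all conjugates of M generates G
  obtain ⟨g, hg⟩ := Cfsg.Agent.Helper22.exists_not_mem_conj M hM.1
  have hgen : Subgroup.zpowers g = ⊤ := by
    rcases eq_top_or_exists_le_coatom (Subgroup.zpowers g) with h0 | ⟨N, hN, hle⟩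
    · exact h0
    · exfalso
      obtain ⟨x, rfl⟩ := h M N hM hN
      exact hg x (hle (Subgroup.mem_zpowers g))
  have hcyc : IsCyclic G := isCyclic_iff_exists_zpowers_eq_top.2 ⟨g, hgen⟩
  refine ⟨hcyc, ?_⟩
  -- all coatoms are equal to M
  have hcomm : ∀ a b : G, a * b = b * a := by
    intro a b
    have ha : a ∈ Subgroup.zpowers g := by rw [hgen]; trivial
    have hb : b ∈ Subgroup.zpowers g := by rw [hgen]; trivial
    obtain ⟨m, rfl⟩ := Subgroup.mem_zpowers_iff.1 ha
    obtain ⟨n, rfl⟩ := Subgroup.mem_zpowers_iff.1 hb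
    rw [← zpow_add, ← zpow_add, add_comm]
  have huniq : ∀ N : Subgroup G, IsCoatom N → N = M := by
    intro N hN
    obtain ⟨x, rfl⟩ := h M N hM hN
    ext y
    rw [Subgroup.mem_pointwise_smul_iff_inv_smul_mem]
    simp only [MulAut.smul_def, map_inv, MulAut.inv_apply, MulAut.conj_symm_apply]
    rw [hcomm x⁻¹ y, mul_assoc, inv_mul_cancel, mul_one]
  have hord : orderOf g = Nat.card G := by
    rw [← Nat.card_zpowers, hgen]
    exact Nat.card_congr Subgroup.topEquiv.toEquiv
  have hcardpos : 0 < Nat.card G := Nat.card_pos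
  -- the subgroup generated by g^p for prime p dividing the order
  have hsub : ∀ p : ℕ, p.Prime → p ∣ Nat.card G →
      Nat.card (Subgroup.zpowers (g ^ p)) = Nat.card G / p ∧ Subgroup.zpowers (g ^ p) = M := by
    intro p hp hpd
    have hc : Nat.card (Subgroup.zpowers (g ^ p)) = Nat.card G / p := by
      rw [Nat.card_zpowers, orderOf_pow' g hp.ne_zero, hord, Nat.gcd_eq_right hpd]
    refine ⟨hc, huniq _ (isCoatom_of_index_prime _ ?_)⟩
    have h1 := Subgroup.card_mul_index (Subgroup.zpowers (g ^ p))
    rw [hc] at h1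
    obtain ⟨k, hk⟩ := hpd
    have hkpos : 0 < k := by
      rcases Nat.eq_zero_or_pos k with rfl | hk0
      · simp at hk; omega
      · exact hk0
    rw [hk, Nat.mul_div_cancel_left _ hp.pos] at h1
    have : (Subgroup.zpowers (g ^ p)).index = p := by
      have h2 : k * (Subgroup.zpowers (g ^ p)).index = k * p := by rw [h1, mul_comm]
      exact Nat.eq_of_mul_eq_mul_left hkpos h2
    rw [this]
    exact hp
  rw [isPrimePow_iff_unique_prime_dvd]
  have hne1 : Nat.card G ≠ 1 := by
    intro h1
    have := (Nat.card_eq_one_iff_unique.1 h1).1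
    exact not_subsingleton G this
  obtain ⟨p, hp, hpd⟩ := Nat.exists_prime_and_dvd hne1
  refine ⟨p, ⟨hp, hpd⟩, ?_⟩
  rintro q ⟨hq, hqd⟩
  obtain ⟨hc1, he1⟩ := hsub p hp hpd
  obtain ⟨hc2, he2⟩ := hsub q hq hqd
  have h3 : Nat.card G / p = Nat.card G / q := by
    rw [← hc1, ← hc2, he1, he2]
  obtain ⟨a, ha⟩ := hpd
  obtain ⟨b, hb⟩ := hqd
  have h4 : Nat.card G / p = a := by rw [ha, Nat.mul_div_cancel_left _ hp.pos]
  have h5 : Nat.card G / q = b := by rw [hb, Nat.mul_div_cancel_left _ hq.pos]
  have hab : a = b := by rw [← h4, ← h5, h3]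
  have hapos : 0 < a := by
    rcases Nat.eq_zero_or_pos a with rfl | h0
    · simp at ha; omega
    · exact h0
  have : a * q = a * p := by
    calc a * q = q * b := by rw [hab, mul_comm]
      _ = Nat.card G := hb.symm
      _ = a * p := by rw [ha, mul_comm]
  exact Nat.eq_of_mul_eq_mul_left hapos this

end Cfsg.Agent.S4387
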