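import Cfsg.Statements.S4395
import Cfsg.Agent.Helper26.S4395Defs
import Cfsg.Agent.Helper19.S4395ZETA
import Cfsg.Agent.Helper21.S4395MNPIso
import Cfsg.Agent.Helper26.S4395NF
import Cfsg.Agent.Helper27.S4395BND
import Cfsg.Agent.Helper26.S4395EX
import Cfsg.Agent.Helper26.S4395FIB

set_option autoImplicit false
universe u
open Cfsg Cfsg.Agent.S4395P

namespace Cfsg.Agent.S4395

/-- Let p ≠ q be primes, r ≥ 1, a the multiplicative order of p modulo q, and a₀ = a when a is odd, a₀ = 3a/2 when a is even. Call a finite group minimal non-p-nilpotent when it has no normal p-complement but every proper subgroup has one. Then there is a minimal non-p-nilpotent group G₀ of order p^a₀ · q^r such that every minimal non-p-nilpotent group of order p^t · q^r (any t) is a quotient of G₀ by a central subgroup. -/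
theorem result (p q r : ℕ) [Fact p.Prime] [Fact q.Prime] (hpq : p ≠ q) (hr : 1 ≤ r) (a a₀ : ℕ)
    (ha : a = orderOf (p : ZMod q)) (ha₀ : a₀ = if a % 2 = 1 then a else 3 * a / 2) :
    ∃ (G₀ : Type u) (_ : Group G₀) (_ : Finite G₀),
      (¬ Cfsg.HasNormalPComplement p G₀ ∧ ∀ K : Subgroup G₀, K ≠ ⊤ → Cfsg.HasNormalPComplement p ↥K) ∧ Nat.card G₀ = p ^ a₀ * q ^ r ∧
      ∀ (X : Type u) [Group X] [Finite X], (¬ Cfsg.HasNormalPComplement p X ∧ ∀ K : Subgroup X, K ≠ ⊤ → Cfsg.HasNormalPComplement p ↥K) →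
        (∃ t : ℕ, Nat.card X = p ^ t * q ^ r) → ∃ φ : G₀ →* X, Function.Surjective φ ∧ φ.ker ≤ Subgroup.center G₀ := by
  classical
  have hp : p.Prime := Fact.out
  have hq : q.Prime := Fact.out
  obtain ⟨G₁, iG, iF, hG₁, hG₁c⟩ := EX p q r hpq hr a a₀ ha ha₀
  obtain ⟨ζ, hζ⟩ := ZETA p q hpq
  have hF : Nat.card (GaloisField p (orderOf (p : ZMod q))) = p ^ orderOf (p : ZMod q) := by
    apply GaloisField.card
    have hu : IsUnit (p : ZMod q) := by
      rw [ZMod.isUnit_iff_coprime]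
      exact (Nat.coprime_primes hp hq).mpr hpq
    exact (orderOf_pos_iff.mpr hu.isOfFinOrder).ne'
  let e : G₁ ≃* ULift.{u} G₁ := MulEquiv.ulift.symm
  have hG₀ : MNP p (ULift.{u} G₁) := MNPIso e hG₁
  have hG₀c : Nat.card (ULift.{u} G₁) = p ^ a₀ * q ^ r := by
    rw [← hG₁c]; exact Nat.card_congr Equiv.ulift
  refine ⟨ULift.{u} G₁, inferInstance, inferInstance, hG₀, hG₀c, ?_⟩
  intro X _ _ hX ⟨t, ht⟩
  obtain ⟨P₁, y₁, lam₁, h₁⟩ := NF p q r hpq hF ζ hζ hG₀ a₀ hG₀c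
  obtain ⟨P₂, y₂, lam₂, h₂⟩ := NF p q r hpq hF ζ hζ hX t ht
  obtain ⟨X₃, iX₃, iF₃, ψ₁, ψ₂, hX₃, ⟨t₃, ht₃⟩, hs₁, hk₁, hs₂, hk₂⟩ :=
    FIB p q r hpq ζ P₁ y₁ lam₁ h₁ P₂ y₂ lam₂ h₂
  obtain ⟨P₃, y₃, lam₃, h₃⟩ := NF p q r hpq hF ζ hζ hX₃ t₃ ht₃
  have hF' : Nat.card (GaloisField p (orderOf (p : ZMod q))) = p ^ a := by rw [hF, ha]
  have hb := BND p q r hpq a a₀ ha ha₀ hF' ζ hζ P₃ y₃ lam₃ h₃
  have hle : Nat.card X₃ ≤ Nat.card (ULift.{u} G₁) := by
    rw [hG₀c, h₃.card]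
    exact Nat.mul_le_mul_right _ hb
  have hbij : Function.Bijective ψ₁ := by
    rw [Nat.bijective_iff_surjective_and_card]
    exact ⟨hs₁, le_antisymm hle (Nat.card_le_card_of_surjective ψ₁ hs₁)⟩
  let ε : X₃ ≃* ULift.{u} G₁ := MulEquiv.ofBijective ψ₁ hbij
  refine ⟨ψ₂.comp ε.symm.toMonoidHom, ?_, ?_⟩
  · exact hs₂.comp ε.symm.surjective
  · intro g hg
    rw [MonoidHom.mem_ker, MonoidHom.comp_apply] at hg
    have h1 : ε.symm g ∈ ψ₂.ker := hg
    have h2 := hk₂ h1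
    rw [Subgroup.mem_center_iff] at h2 ⊢
    intro x
    have := h2 (ε.symm x)
    have h3 := congrArg ε this
    simpa using h3

end Cfsg.Agent.S4395
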