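import Cfsg.Statements.S4396
import Cfsg.Agent.Helper23.FreeE

set_option autoImplicit false
open Cfsg
open scoped Pointwise

namespace Cfsg.Agent.S4396

/-- Let the finite group A act faithfully and linearly on a finite-dimensional vector space V over a field k, and suppose A is a Frobenius group with nilpotent kernel F (every Frobenius kernel is nilpotent) and complement H such that F fixes no nonzero vector. Then V is free as a module for H: there is a subspace W with V the direct sum of the translates hW, h ∈ H. (No assumption on the characteristic of k.) -/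
theorem result {k V A : Type*} [Field k] [AddCommGroup V] [Module k V] [FiniteDimensional k V] [Group A] [Finite A] [DecidableEq A]
    (ρ : Representation k A V) (hρ : Function.Injective ρ)
    (Fk Hc : Subgroup A) [Fk.Normal] (hHc : Cfsg.IsFrobeniusComplement Hc) (hker : Cfsg.frobeniusKernel Hc = (Fk : Set A)) (hnil : Group.IsNilpotent ↥Fk)
    (hCF : ∀ v : V, (∀ f ∈ Fk, ρ f v = v) → v = 0) :
    ∃ W : Submodule k V, DirectSum.IsInternal (fun h : ↥Hc => W.map (ρ (h : A))) := by
  have hfpf : ∀ h ∈ Hc, ∀ f ∈ Fk, h * f = f * h → h = 1 ∨ f = 1 := by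
    intro h hh f hf hcomm
    by_cases hf1 : f = 1
    · right; exact hf1
    left
    have hfK : f ∈ Cfsg.frobeniusKernel Hc := by rw [hker]; exact hf
    rcases hfK with h1 | h1
    · exact absurd h1 hf1
    have hfH : f ∉ Hc := by
      have := h1 1
      rwa [map_one, one_smul] at this
    have hdisj := hHc.2.2 f hfH
    have hmem : h ∈ Hc ⊓ (MulAut.conj f • Hc) := by
      rw [Subgroup.mem_inf]
      refine ⟨hh, ?_⟩
      rw [Subgroup.mem_smul_pointwise_iff_exists]
      refine ⟨h, hh, ?_⟩
      rw [MulAut.smul_def, MulAut.conj_apply, ← hcomm, mul_inv_cancel_right]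
    rw [hdisj] at hmem
    exact Subgroup.mem_bot.mp hmem
  exact Cfsg.Agent.Helper23.Free.core_amb' ρ Fk Hc hfpf hnil hCF

end Cfsg.Agent.S4396
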