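import Mathlib
import Cfsg.Statements.S4400
import Cfsg.Agent.Helper3.SecRank

set_option autoImplicit false
set_option linter.style.haveILetI false

open Cfsg

namespace Cfsg.Agent.S4400

/-- Let S be a finite 2-group of sectional 2-rank at most 4, and let P and Q be normal non-abelian subgroups of S whose centres have order 2 and are different. Then P and Q commute elementwise and intersect trivially, and PQ contains its own centralizer in S. -/
theorem result {S : Type*} [Group S] [Finite S] (h2 : IsPGroup 2 S) (hr : Cfsg.SectionalPRankLE 2 4 S)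
    (P Q : Subgroup S) [P.Normal] [Q.Normal] (hP : ¬ IsMulCommutative ↥P) (hQ : ¬ IsMulCommutative ↥Q)
    (hZP : Nat.card ↥(Subgroup.center ↥P) = 2) (hZQ : Nat.card ↥(Subgroup.center ↥Q) = 2)
    (hne : (Subgroup.center ↥P).map P.subtype ≠ (Subgroup.center ↥Q).map Q.subtype) :
    ⁅P, Q⁆ = ⊥ ∧ P ⊓ Q = ⊥ ∧ Subgroup.centralizer ((P ⊔ Q : Subgroup S) : Set S) ≤ P ⊔ Q := by
  haveI : Fact (Nat.Prime 2) := ⟨Nat.prime_two⟩
  have hinf : P ⊓ Q = ⊥ := by
    by_contra hcon
    have hN : (P ⊓ Q).subgroupOf P ≠ ⊥ := by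
      rw [Ne, Subgroup.subgroupOf_eq_bot, disjoint_iff, inf_eq_left.mpr (inf_le_left : P ⊓ Q ≤ P)]
      exact hcon
    obtain ⟨b, hbN, hbZ, hb1⟩ := Cfsg.Agent.Helper23.exists_mem_inf_center_ne_one
      (h2.to_subgroup P) ((P ⊓ Q).subgroupOf P) hN
    rw [Subgroup.mem_subgroupOf] at hbN
    have hbQ : (b : S) ∈ Q := hbN.2
    have hbc : ∀ x ∈ P, x * (b : S) = (b : S) * x := by
      intro x hx
      have := (Subgroup.mem_center_iff.mp hbZ) ⟨x, hx⟩
      exact congrArg Subtype.val this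
    have hbS : (b : S) ∈ Subgroup.center S :=
      Cfsg.Agent.Helper3.SecRank.mem_center_of_card_center_two P hZP b.2 hbc
    have hb1' : (b : S) ≠ 1 := fun h => hb1 (Subtype.ext h)
    have h1 : (b : S) ∈ (Subgroup.center ↥P).map P.subtype := ⟨b, hbZ, rfl⟩
    have h2' : (b : S) ∈ (Subgroup.center ↥Q).map Q.subtype := by
      refine ⟨⟨b, hbQ⟩, ?_, rfl⟩
      refine Subgroup.mem_center_iff.mpr ?_
      intro x
      exact Subtype.ext (Subgroup.mem_center_iff.mp hbS x)
    apply hne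
    rw [Cfsg.Agent.Helper3.SecRank.eq_zpowers_of_card_two _ (by rw [Subgroup.card_subtype]; exact hZP) h1 hb1',
      Cfsg.Agent.Helper3.SecRank.eq_zpowers_of_card_two _ (by rw [Subgroup.card_subtype]; exact hZQ) h2' hb1']
  have hcomm : ⁅P, Q⁆ = ⊥ := by
    have := Subgroup.commutator_le_inf P Q
    rw [hinf] at this
    exact le_bot_iff.mp this
  refine ⟨hcomm, hinf, ?_⟩
  have hc' : ∀ a ∈ P, ∀ b ∈ Q, a * b = b * a := by
    intro a ha b hb
    have := Subgroup.commutator_eq_bot_iff_le_centralizer.mp hcomm ha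
    exact (Subgroup.mem_centralizer_iff.mp this b hb).symm
  exact Cfsg.Agent.Helper3.SecRank.centralizer_sup_le h2 hr P Q hP hQ hZP hZQ hinf hc'

end Cfsg.Agent.S4400
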