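import Mathlib
import Cfsg.Statements.S4401
import Cfsg.Agent.Helper3.SecRank4

set_option autoImplicit false
set_option linter.style.haveILetI false

open Cfsg

namespace Cfsg.Agent.S4401

/-- Let S be a finite 2-group of sectional 2-rank at most 4 and P a proper non-abelian subgroup whose centre has order 2. Let S₀ be the centralizer in S of Z(P) and suppose P is normal in S₀. Then either S₀ = S, or P has sectional 2-rank at most 2 and S₀ has index 2 in S. -/
theorem result {S : Type*} [Group S] [Finite S] (h2 : IsPGroup 2 S) (hr : Cfsg.SectionalPRankLE 2 4 S)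
    (P : Subgroup S) (hPlt : P ≠ ⊤) (hP : ¬ IsMulCommutative ↥P) (hZP : Nat.card ↥(Subgroup.center ↥P) = 2)
    (S₀ : Subgroup S) (hS₀ : S₀ = Subgroup.centralizer (((Subgroup.center ↥P).map P.subtype : Subgroup S) : Set S))
    (hPn : ∀ s ∈ S₀, ∀ x ∈ P, s * x * s⁻¹ ∈ P) :
    S₀ = ⊤ ∨ (Cfsg.SectionalPRankLE 2 2 ↥P ∧ S₀.index = 2) := by
  by_cases htop : S₀ = ⊤
  · exact Or.inl htop
  right
  -- the generator of the centre
  obtain ⟨z0, hz0, hz0u⟩ := (Nat.card_eq_two_iff' (1 : Subgroup.center ↥P)).mp hZP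
  set z : S := ((z0 : ↥P) : S) with hz
  have hzP : z ∈ P := (z0 : ↥P).2
  have hz1 : z ≠ 1 := by
    intro h
    apply hz0
    apply Subtype.ext
    apply Subtype.ext
    exact h
  have hzc : ∀ x ∈ P, x * z = z * x := by
    intro x hx
    have := Subgroup.mem_center_iff.mp z0.2 ⟨x, hx⟩
    exact congrArg Subtype.val this
  have hcen : ∀ y ∈ P, (∀ x ∈ P, x * y = y * x) → y = 1 ∨ y = z := by
    intro y hy hyc
    let y0 : Subgroup.center ↥P := ⟨⟨y, hy⟩, Subgroup.mem_center_iff.mpr
      (fun x => Subtype.ext (hyc x x.2))⟩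
    by_cases h1 : y0 = 1
    · left
      have := congrArg (fun t : Subgroup.center ↥P => ((t : ↥P) : S)) h1
      simpa [y0] using this
    · right
      have := hz0u y0 h1
      have := congrArg (fun t : Subgroup.center ↥P => ((t : ↥P) : S)) this
      simpa [y0] using this
  have hnonab : ∃ a ∈ P, ∃ b ∈ P, a * b ≠ b * a := by
    by_contra hcon
    push Not at hcon
    apply hP
    exact ⟨⟨fun a b => Subtype.ext (hcon a a.2 b b.2)⟩⟩
  have hCZ : Cfsg.Agent.Helper3.SecRank.CZ P z := ⟨hzP, hz1, hzc, hcen, hnonab⟩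
  have hmemS₀ : ∀ s, s ∈ S₀ ↔ s * z = z * s := by
    intro s
    rw [hS₀, Subgroup.mem_centralizer_iff]
    constructor
    · intro h
      exact (h z ⟨z0, z0.2, rfl⟩).symm
    · rintro h _ ⟨y, hy, rfl⟩
      have hyc : ∀ x ∈ P, x * (y : S) = (y : S) * x := by
        intro x hx
        have := Subgroup.mem_center_iff.mp hy ⟨x, hx⟩
        exact congrArg Subtype.val this
      rcases hcen y y.2 hyc with h1 | h1
      · change (y : S) * s = s * (y : S)
        rw [h1, one_mul, mul_one]
      · change (y : S) * s = s * (y : S)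
        rw [h1]; exact h.symm
  have hM : Cfsg.Agent.Helper3.SecRank.Mem S₀ P z := by
    refine ⟨hCZ, ?_, hPn, fun s hs => (hmemS₀ s).mp hs⟩
    intro x hx
    exact (hmemS₀ x).mpr (hzc x hx)
  exact Cfsg.Agent.Helper3.SecRank.main h2 hr hM hmemS₀ htop

end Cfsg.Agent.S4401
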