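import Cfsg.Statements.S4404
import Cfsg.Agent.Helper4.S4404ASM

set_option autoImplicit false
open Cfsg

namespace Cfsg.Agent.S4404

open Cfsg.Agent.S4404P in
/-- Let S be a finite solvable group and M a normal elementary abelian 2-subgroup of S. Suppose S contains an elementary abelian subgroup of order p³ for some odd prime p, and a cyclic 3-subgroup Q such that the cubes of the elements of Q centralize M and the commutator subgroup [Q, M] has order 4 (a four-group inside M). Then S contains an elementary abelian subgroup F of order r³, for some odd prime r, whose centralizer of [Q, M] in F — the subgroup C_F([Q, M]) — is not cyclic. -/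
theorem result {S : Type*} [Group S] [Finite S]
    [Group.IsSolvable S] (M : Subgroup S) [M.Normal] (hM : Cfsg.IsElementaryAbelian 2 M)
    (p : ℕ) (hp : p.Prime) (hp2 : p ≠ 2) (E : Subgroup S) (hE : Cfsg.IsElementaryAbelian p E) (hE3 : Nat.card ↥E = p ^ 3)
    (Q : Subgroup S) (hQc : IsCyclic ↥Q) (hQ3 : IsPGroup 3 ↥Q)
    (hQ1 : ∀ x ∈ Q, x ^ 3 ∈ Subgroup.centralizer (M : Set S)) (hQM : Nat.card ↥⁅Q, M⁆ = 4) :
    ∃ (r : ℕ) (F : Subgroup S), r.Prime ∧ r ≠ 2 ∧ Cfsg.IsElementaryAbelian r F ∧ Nat.card ↥F = r ^ 3 ∧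
      ¬ IsCyclic ↥(F ⊓ Subgroup.centralizer ((⁅Q, M⁆ : Subgroup S) : Set S)) := by
  obtain ⟨x, hQx, hx3, hQMx⟩ := exists_generator_three M Q hQc hQ3
  have hxQ : x ∈ Q := by rw [hQx]; exact Subgroup.mem_zpowers x
  have hW : Nat.card ↥(Wc M x) = 4 := by rw [← hQMx]; exact hQM
  have hQodd : Odd (Nat.card ↥Q) := by
    obtain ⟨k, hk⟩ := hQ3.exists_card_eq
    rw [hk]; exact (by decide : Odd 3).pow
  have hEodd : Odd (Nat.card ↥E) := by
    rw [hE3]; exact (hp.odd_of_ne_two hp2).pow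
  obtain ⟨H, hHodd, hQH, g, hEH⟩ := exists_odd_hall Q E hQodd hEodd
  obtain ⟨hE', hE'c⟩ := isElementaryAbelian_map_conj p E hE g
  have hsol : Group.IsSolvable ↥H := inferInstance
  obtain ⟨r, F, hr, hr2, hFH, hFe, hFc, hF⟩ :=
    core M hM H hsol hHodd x (hQH hxQ) hx3 (hQ1 x hxQ) hW p hp hp2 _ hEH hE' (hE'c.trans hE3)
  have : Fact r.Prime := ⟨hr⟩
  refine ⟨r, F, hr, hr2, hFe, hFc, ?_⟩
  rw [hQMx]
  exact not_isCyclic_of_sq_le r F _ hFe inf_le_left hF

end Cfsg.Agent.S4404
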