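import Mathlib
import Cfsg.Statements.S4405
import Cfsg.Agent.Helper3.InvAct
import Cfsg.Agent.Helper3.LargeES2
import Cfsg.Agent.Helper3.ProdCard
import Cfsg.Agent.Helper14.PCore
import Cfsg.Agent.Helper26.Thompson

set_option autoImplicit false
set_option linter.style.haveILetI false
set_option linter.unusedSectionVars false
open Cfsg
open scoped Pointwise

namespace Cfsg.Agent.S4405

open Cfsg.Agent.Helper3 Cfsg.Agent.Helper3.LargeES Cfsg.Agent.Helper3.InvAct Cfsg.Agent.Helper3.ES2

section aux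
variable {G : Type*} [Group G] [Finite G]

theorem amb_of (hex : Cfsg.IsExtraspecial 2 ↥(Cfsg.pCore 2 G)) :
    ∃ z : G, Amb (Cfsg.pCore 2 G) z := by
  obtain ⟨zq, hes, -⟩ := exists_es2_sub hex
  have hn : (Cfsg.pCore 2 G).Normal := Cfsg.Agent.Helper14.pCore_normal 2
  refine ⟨zq, sub_zz hes, sub_ne_one hes, zq.2, ?_, fun q hq r hr => sub_comm hes hq hr,
    fun q hq => sub_sq hes hq, fun g h hh => hn.conj_mem h hh g⟩
  intro g
  have h1 : g * zq * g⁻¹ ∈ Cfsg.pCore 2 G := hn.conj_mem _ zq.2 g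
  have h2 : ∀ r ∈ Cfsg.pCore 2 G, (g * zq * g⁻¹) * r = r * (g * zq * g⁻¹) := by
    intro r hr
    have hr' : g⁻¹ * r * g ∈ Cfsg.pCore 2 G := by
      have := hn.conj_mem r hr g⁻¹
      simpa using this
    have := sub_central hes hr'
    calc g * zq * g⁻¹ * r = g * (zq * (g⁻¹ * r * g)) * g⁻¹ := by group
      _ = g * ((g⁻¹ * r * g) * zq) * g⁻¹ := by rw [this]
      _ = r * (g * zq * g⁻¹) := by group
  rcases sub_center hes h1 h2 with h3 | h3
  · exfalso
    apply sub_ne_one hes
    calc (zq : G) = g⁻¹ * (g * zq * g⁻¹) * g := by group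
      _ = 1 := by rw [h3]; group
  · calc g * zq = (g * zq * g⁻¹) * g := by group
      _ = zq * g := by rw [h3]

theorem mem_zp {z : G} (hzz : z * z = 1) (x : G) :
    x ∈ Subgroup.zpowers z ↔ x = 1 ∨ x = z := by
  constructor
  · rintro ⟨k, rfl⟩
    beta_reduce
    rcases Int.even_or_odd' k with ⟨m, rfl | rfl⟩
    · left; rw [zpow_mul, zpow_two, hzz, one_zpow]
    · right; rw [zpow_add, zpow_one, zpow_mul, zpow_two, hzz, one_zpow, one_mul]
  · rintro (rfl | rfl)
    · exact Subgroup.one_mem _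
    · exact Subgroup.mem_zpowers _

theorem card_zp {z : G} (hzz : z * z = 1) (hz1 : z ≠ 1) : Nat.card ↥(Subgroup.zpowers z) = 2 := by
  rw [Nat.card_zpowers]
  exact orderOf_eq_prime (by rw [pow_two]; exact hzz) hz1

/-- an element of order `5` acts on `H = O₂(G)` with centralizer `⟨z⟩` -/
theorem fpf5 (hG : Nat.card G = 320) (hHF : Cfsg.pCore 2 G = Cfsg.fittingSubgroup G)
    (h32 : Nat.card ↥(Cfsg.pCore 2 G) = 32) {z : G} (a : Amb (Cfsg.pCore 2 G) z) {y : G}
    (hy : orderOf y = 5) : ∀ h ∈ Cfsg.pCore 2 G, y * h = h * y → h = 1 ∨ h = z := by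
  classical
  haveI : Fact (Nat.Prime 5) := ⟨by norm_num⟩
  obtain ⟨H, hH⟩ : ∃ H : Subgroup G, H = Cfsg.pCore 2 G := ⟨_, rfl⟩
  rw [← hH] at h32 a hHF ⊢
  obtain ⟨P, hP⟩ : ∃ P : Subgroup G, P = Subgroup.zpowers y := ⟨_, rfl⟩
  have hPcard : Nat.card ↥P = 5 := by rw [hP, Nat.card_zpowers, hy]
  have hP5 : IsPGroup 5 ↥P := IsPGroup.of_card (n := 1) (by rw [hPcard, pow_one])
  have hO : ∀ r ∈ P, ∀ h ∈ (H : Set G), r * h * r⁻¹ ∈ (H : Set G) := fun r _ h hh => a.norm r h hh
  obtain ⟨K, hK⟩ : ∃ K : Subgroup G, K = H ⊓ Subgroup.centralizer {y} := ⟨_, rfl⟩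
  have hmemK : ∀ h, h ∈ K ↔ h ∈ H ∧ h * y = y * h := by
    intro h
    rw [hK, Subgroup.mem_inf, Subgroup.mem_centralizer_singleton_iff]
  have hmod : Nat.card ↥(H : Set G) ≡ Nat.card ↥K [MOD 5] := by
    letI := conjActOn P (H : Set G) hO
    have h1 := hP5.card_modEq_card_fixedPoints (↥(H : Set G))
    have h2 : Nat.card ↥(MulAction.fixedPoints ↥P ↥(H : Set G)) = Nat.card ↥K := by
      apply Nat.card_congr
      refine ⟨fun u => ⟨(u : ↥(H : Set G)), ?_⟩, fun k => ⟨⟨k, ((hmemK k).mp k.2).1⟩, ?_⟩, ?_, ?_⟩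
      · rw [hmemK]
        refine ⟨(u : ↥(H : Set G)).2, ?_⟩
        have hyP : y ∈ P := by rw [hP]; exact Subgroup.mem_zpowers y
        have := congrArg Subtype.val (u.2 ⟨y, hyP⟩)
        have h3 : y * ((u : ↥(H : Set G)) : G) * y⁻¹ = ((u : ↥(H : Set G)) : G) := this
        calc ((u : ↥(H : Set G)) : G) * y = (y * ((u : ↥(H : Set G)) : G) * y⁻¹) * y := by rw [h3]
          _ = y * ((u : ↥(H : Set G)) : G) := by group
      · intro r
        apply Subtype.ext
        show (r : G) * (k : G) * (r : G)⁻¹ = (k : G)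
        have hle : P ≤ Subgroup.centralizer {(k : G)} := by
          rw [hP, Subgroup.zpowers_le, Subgroup.mem_centralizer_singleton_iff]
          exact ((hmemK k).mp k.2).2.symm
        have := Subgroup.mem_centralizer_singleton_iff.mp (hle r.2)
        rw [this]; group
      · intro u; rfl
      · intro k; rfl
    rw [h2] at h1
    exact h1
  have hHc : Nat.card ↥(H : Set G) = 32 := h32
  rw [hHc] at hmod
  have hKH : K ≤ H := by rw [hK]; exact inf_le_left
  have hKdvd : Nat.card ↥K ∣ 32 := by rw [← h32]; exact Subgroup.card_dvd_of_le hKH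
  have hK2 : Nat.card ↥K = 2 ∨ Nat.card ↥K = 32 := by
    obtain ⟨m, hm, hKm⟩ := (Nat.dvd_prime_pow Nat.prime_two).mp
      (show Nat.card ↥K ∣ 2 ^ 5 from hKdvd)
    rw [hKm] at hmod ⊢
    interval_cases m <;> simp_all [Nat.ModEq]
  rcases hK2 with hK2 | hK2
  · -- |K| = 2
    intro h hh hyh
    have hzK : z ∈ K := (hmemK z).mpr ⟨a.zH, (a.zc y).symm⟩
    have hle : Subgroup.zpowers z ≤ K := Subgroup.zpowers_le.mpr hzK
    have heq : Subgroup.zpowers z = K :=
      Subgroup.eq_of_le_of_card_ge hle (by rw [hK2, card_zp a.zz a.z1])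
    have hhK : h ∈ K := (hmemK h).mpr ⟨hh, hyh.symm⟩
    rw [← heq] at hhK
    exact (mem_zp a.zz h).mp hhK
  · -- |K| = 32: impossible
    exfalso
    have hKeq : K = H := Subgroup.eq_of_le_of_card_ge hKH (by rw [hK2, h32])
    have hHy : ∀ h ∈ H, h * y = y * h := by
      intro h hh
      rw [← hKeq] at hh
      exact ((hmemK h).mp hh).2
    obtain ⟨Q, hQ⟩ := hP5.exists_le_sylow
    have hQcard : Nat.card ↥(Q : Subgroup G) = 5 := by
      obtain ⟨k, hk⟩ := IsPGroup.iff_card.mp Q.isPGroup'
      have hdvd : 5 ^ k ∣ 320 := by rw [← hk, ← hG]; exact Subgroup.card_subgroup_dvd_card _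
      have hk1 : k ≤ 1 := by
        by_contra hcon
        push Not at hcon
        have : 5 ^ 2 ∣ 320 := (pow_dvd_pow 5 hcon).trans hdvd
        norm_num at this
      have hk0 : 1 ≤ k := by
        by_contra hcon
        push Not at hcon
        have hk0 : k = 0 := by omega
        rw [hk0, pow_zero] at hk
        have := Subgroup.card_le_of_le hQ
        rw [hk, hPcard] at this
        omega
      have : k = 1 := by omega
      rw [hk, this, pow_one]
    have hQP : P = (Q : Subgroup G) := Subgroup.eq_of_le_of_card_ge hQ (by rw [hQcard, hPcard])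
    -- the normalizer of `P` has index `1`
    have hHN : H ≤ Subgroup.normalizer ((Q : Subgroup G) : Set G) := by
      intro h hh
      rw [← hQP]
      apply mem_normalizer_of_conj_mem'
      intro p hp
      have hle : P ≤ Subgroup.centralizer {h} := by
        rw [hP, Subgroup.zpowers_le, Subgroup.mem_centralizer_singleton_iff]
        exact (hHy h hh).symm
      have := Subgroup.mem_centralizer_singleton_iff.mp (hle hp)
      have e : h * p * h⁻¹ = p := by rw [← this]; group
      rw [e]; exact hp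
    have hPN : (Q : Subgroup G) ≤ Subgroup.normalizer ((Q : Subgroup G) : Set G) :=
      Subgroup.le_normalizer
    have h32N : 32 ∣ Nat.card ↥(Subgroup.normalizer ((Q : Subgroup G) : Set G)) := by
      rw [← h32]; exact Subgroup.card_dvd_of_le hHN
    have h5N : 5 ∣ Nat.card ↥(Subgroup.normalizer ((Q : Subgroup G) : Set G)) := by
      have := Subgroup.card_dvd_of_le hPN
      rwa [hQcard] at this
    have h160 : 160 ∣ Nat.card ↥(Subgroup.normalizer ((Q : Subgroup G) : Set G)) := by
      have : Nat.Coprime 32 5 := by norm_num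
      exact this.mul_dvd_of_dvd_of_dvd h32N h5N
    have hidx : (Subgroup.normalizer ((Q : Subgroup G) : Set G)).index = 1 := by
      have h1 := Subgroup.card_mul_index (Subgroup.normalizer ((Q : Subgroup G) : Set G))
      rw [hG] at h1
      have h2 : (Subgroup.normalizer ((Q : Subgroup G) : Set G)).index ≡ 1 [MOD 5] := by
        have := card_sylow_modEq_one 5 G
        rw [Sylow.card_eq_index_normalizer Q] at this
        exact this
      obtain ⟨c, hc⟩ := h160
      rw [hc] at h1
      have h3 : c * (Subgroup.normalizer ((Q : Subgroup G) : Set G)).index = 2 := by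
        have : 160 * (c * (Subgroup.normalizer ((Q : Subgroup G) : Set G)).index) = 160 * 2 := by
          rw [← mul_assoc]; exact h1
        exact Nat.eq_of_mul_eq_mul_left (by norm_num) this
      have h4 : (Subgroup.normalizer ((Q : Subgroup G) : Set G)).index ∣ 2 := ⟨c, by rw [← h3, mul_comm]⟩
      have h5 : (Subgroup.normalizer ((Q : Subgroup G) : Set G)).index = 1 ∨
          (Subgroup.normalizer ((Q : Subgroup G) : Set G)).index = 2 :=
        (Nat.dvd_prime Nat.prime_two).mp h4
      rcases h5 with h5 | h5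
      · exact h5
      · rw [h5] at h2
        exact absurd h2 (by decide)
    have hNtop : Subgroup.normalizer ((Q : Subgroup G) : Set G) = ⊤ :=
      Subgroup.index_eq_one.mp hidx
    have hPn : P.Normal := by
      rw [hQP]
      exact Subgroup.normalizer_eq_top_iff.mp hNtop
    have hPnil : Group.IsNilpotent ↥P := by
      rw [hP]
      letI : CommGroup ↥(Subgroup.zpowers y) := IsCyclic.commGroup
      infer_instance
    have hPH : P ≤ H := by
      rw [hHF]
      exact le_sSup ⟨hPn, hPnil⟩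
    have hyH : y ∈ H := hPH (by rw [hP]; exact Subgroup.mem_zpowers y)
    have h5dvd : 5 ∣ 32 := by
      rw [← hy, ← h32]
      have := orderOf_dvd_natCard (⟨y, hyH⟩ : ↥H)
      rwa [Subgroup.orderOf_mk] at this
    norm_num at h5dvd

end aux

/-- Let G be a finite group of order 320 = 64·5 whose largest normal 2-subgroup H = O₂(G) equals the Fitting subgroup F(G) and is extraspecial of order 32 containing no elementary abelian subgroup of order 8 (so H is the central product of a quaternion group and a dihedral group of order 8). If T is an involution of G outside H whose centralizer in H contains an elementary abelian subgroup of order 4, then C_H(T) itself is elementary abelian of order 4. -/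
theorem result {G : Type*} [Group G] [Finite G]
    (hG : Nat.card G = 320) (hHF : Cfsg.pCore 2 G = Cfsg.fittingSubgroup G)
    (hex : Cfsg.IsExtraspecial 2 ↥(Cfsg.pCore 2 G)) (h32 : Nat.card ↥(Cfsg.pCore 2 G) = 32)
    (hminus : ∀ A : Subgroup G, A ≤ Cfsg.pCore 2 G → Cfsg.IsElementaryAbelian 2 A → Nat.card ↥A ≤ 4)
    (T : G) (hT : orderOf T = 2) (hTH : T ∉ Cfsg.pCore 2 G)
    (V : Subgroup G) (hV : V ≤ Cfsg.pCore 2 G ⊓ Subgroup.centralizer ({T} : Set G)) (hV4 : Nat.card ↥V = 4) (hVe : Cfsg.IsElementaryAbelian 2 V) :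
    Nat.card ↥(Cfsg.pCore 2 G ⊓ Subgroup.centralizer ({T} : Set G)) = 4 ∧
      Cfsg.IsElementaryAbelian 2 (Cfsg.pCore 2 G ⊓ Subgroup.centralizer ({T} : Set G)) := by
  classical
  haveI : Fact (Nat.Prime 5) := ⟨by norm_num⟩
  haveI : Fact (Nat.Prime 2) := ⟨Nat.prime_two⟩
  obtain ⟨z, a⟩ := amb_of hex
  have hfp := fun {y : G} (hy : orderOf y = 5) => fpf5 hG hHF h32 a hy
  obtain ⟨H, hH⟩ : ∃ H : Subgroup G, H = Cfsg.pCore 2 G := ⟨_, rfl⟩
  rw [← hH] at h32 a hminus hTH hV hfp ⊢
  have hHn : H.Normal := by rw [hH]; exact Cfsg.Agent.Helper14.pCore_normal 2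
  have hH2 : IsPGroup 2 ↥H := by rw [hH]; exact Cfsg.Agent.Helper14.pCore_isPGroup 2
  have hTT : T * T = 1 := by
    have := pow_orderOf_eq_one T
    rwa [hT, pow_two] at this
  have hTinv : T⁻¹ = T := inv_eq_of_mul_eq_one_left hTT
  have hVH : V ≤ H := hV.trans inf_le_left
  -- `z ∈ V`
  have hzV : z ∈ V := by
    by_contra hzV
    have hE : Cfsg.IsElementaryAbelian 2 (V ⊔ Subgroup.zpowers z) := by
      apply Cfsg.Agent.Helper26.isElementaryAbelian_sup hVe
        (Cfsg.Agent.Helper26.isElementaryAbelian_zpowers_of_orderOf_eq (by rw [pow_two]; exact a.zz))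
      rintro v _ b ⟨k, rfl⟩
      have hc : Commute v z := a.zc v
      exact (hc.zpow_right k).eq
    have hle : V ⊔ Subgroup.zpowers z ≤ H := sup_le hVH (Subgroup.zpowers_le.mpr a.zH)
    have h4 := hminus _ hle hE
    have heq : V = V ⊔ Subgroup.zpowers z :=
      Subgroup.eq_of_le_of_card_ge le_sup_left (by rw [hV4]; exact h4)
    apply hzV
    rw [heq]
    exact (le_sup_right : Subgroup.zpowers z ≤ V ⊔ Subgroup.zpowers z) (Subgroup.mem_zpowers z)
  obtain ⟨x, hx⟩ := exists_prime_orderOf_dvd_card' (G := G) 5 (by rw [hG]; norm_num)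
  obtain ⟨T', hT'⟩ : ∃ T' : G, T' = x * T * x⁻¹ := ⟨_, rfl⟩
  obtain ⟨y, hy⟩ : ∃ y : G, y = T * T' := ⟨_, rfl⟩
  have hT'T' : T' * T' = 1 := by
    rw [hT']
    calc x * T * x⁻¹ * (x * T * x⁻¹) = x * (T * T) * x⁻¹ := by group
      _ = 1 := by rw [hTT]; group
  have hT'inv : T'⁻¹ = T' := inv_eq_of_mul_eq_one_left hT'T'
  by_cases hy64 : y ^ 64 = 1
  · -- `⟨T, T'⟩` is a 2-group: impossible
    exfalso
    obtain ⟨Y, hY⟩ : ∃ Y : Subgroup G, Y = Subgroup.zpowers y := ⟨_, rfl⟩
    have hY2 : IsPGroup 2 ↥Y := by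
      have hdvd : orderOf y ∣ 2 ^ 6 := orderOf_dvd_of_pow_eq_one (by norm_num; exact hy64)
      obtain ⟨k, -, hk⟩ := (Nat.dvd_prime_pow Nat.prime_two).mp hdvd
      exact IsPGroup.of_card (n := k) (by rw [hY, Nat.card_zpowers, hk])
    have hTy : T * y * T⁻¹ = y⁻¹ := by
      rw [hy, mul_inv_rev, hTinv, hT'inv]
      calc T * (T * T') * T = (T * T) * T' * T := by group
        _ = T' * T := by rw [hTT, one_mul]
    have hTN : T ∈ Subgroup.normalizer (Y : Set G) := by
      apply mem_normalizer_of_conj_mem'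
      rw [hY]
      rintro _ ⟨k, rfl⟩
      beta_reduce
      have : T * y ^ k * T⁻¹ = (T * y * T⁻¹) ^ k := (conj_zpow).symm
      rw [this, hTy]
      exact Subgroup.zpow_mem _ (Subgroup.inv_mem _ (Subgroup.mem_zpowers y)) k
    have hT2 : IsPGroup 2 ↥(Subgroup.zpowers T) :=
      IsPGroup.of_card (n := 1) (by rw [Nat.card_zpowers, hT, pow_one])
    have hD2 : IsPGroup 2 ↥(Subgroup.zpowers T ⊔ Y) :=
      IsPGroup.to_sup_of_normal_right' hT2 hY2 (Subgroup.zpowers_le.mpr hTN)
    have hS2 : IsPGroup 2 ↥(H ⊔ (Subgroup.zpowers T ⊔ Y)) := IsPGroup.to_sup_of_normal_left hH2 hD2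
    have hS12 : IsPGroup 2 ↥(H ⊔ Subgroup.zpowers T) := IsPGroup.to_sup_of_normal_left hH2 hT2
    obtain ⟨S1, hS1⟩ : ∃ S1 : Subgroup G, S1 = H ⊔ Subgroup.zpowers T := ⟨_, rfl⟩
    obtain ⟨S, hS⟩ : ∃ S : Subgroup G, S = H ⊔ (Subgroup.zpowers T ⊔ Y) := ⟨_, rfl⟩
    rw [← hS] at hS2
    rw [← hS1] at hS12
    have hS1S : S1 ≤ S := by
      rw [hS1, hS]
      exact sup_le_sup_left le_sup_left H
    have hHS1 : H ≤ S1 := by rw [hS1]; exact le_sup_left
    have hTS1 : T ∈ S1 := by
      rw [hS1]
      exact (le_sup_right : Subgroup.zpowers T ≤ H ⊔ Subgroup.zpowers T) (Subgroup.mem_zpowers T)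
    -- cardinalities
    have hcard2 : ∀ K : Subgroup G, IsPGroup 2 ↥K → Nat.card ↥K ∣ 64 := by
      intro K hK
      obtain ⟨k, hk⟩ := IsPGroup.iff_card.mp hK
      have h1 : 2 ^ k ∣ 64 * 5 := by
        rw [← hk]
        have := Subgroup.card_subgroup_dvd_card K
        rwa [hG] at this
      have hc : Nat.Coprime (2 ^ k) 5 := Nat.Coprime.pow_left k (by norm_num)
      rw [hk]
      exact hc.dvd_of_dvd_mul_right h1
    have hS64 : Nat.card ↥S ≤ 64 := Nat.le_of_dvd (by norm_num) (hcard2 S hS2)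
    have hS1ge : 64 ≤ Nat.card ↥S1 := by
      have h1 : 32 ∣ Nat.card ↥S1 := by rw [← h32]; exact Subgroup.card_dvd_of_le hHS1
      have h2 : Nat.card ↥S1 ≠ 32 := by
        intro h
        have : H = S1 := Subgroup.eq_of_le_of_card_ge hHS1 (by rw [h, h32])
        apply hTH
        rw [this]; exact hTS1
      obtain ⟨c, hc⟩ := h1
      have hpos : 0 < Nat.card ↥S1 := Nat.card_pos
      have : 2 ≤ c := by
        by_contra hcon
        push Not at hcon
        interval_cases c
        · omega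
        · omega
      omega
    have hS1eq : S1 = S := Subgroup.eq_of_le_of_card_ge hS1S (hS64.trans hS1ge)
    have hS1card : Nat.card ↥S1 = 64 := by
      have : Nat.card ↥S1 ≤ 64 := by rw [hS1eq]; exact hS64
      omega
    have hT'S1 : T' ∈ S1 := by
      rw [hS1eq, hS]
      have h1 : T ∈ Subgroup.zpowers T ⊔ Y :=
        (le_sup_left : Subgroup.zpowers T ≤ Subgroup.zpowers T ⊔ Y) (Subgroup.mem_zpowers T)
      have h2 : y ∈ Subgroup.zpowers T ⊔ Y := by
        apply (le_sup_right : Y ≤ Subgroup.zpowers T ⊔ Y)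
        rw [hY]; exact Subgroup.mem_zpowers y
      have h3 : T' = T⁻¹ * y := by rw [hy]; group
      rw [h3]
      exact (le_sup_right : Subgroup.zpowers T ⊔ Y ≤ H ⊔ (Subgroup.zpowers T ⊔ Y))
        (Subgroup.mul_mem _ (Subgroup.inv_mem _ h1) h2)
    have hxN : x ∈ Subgroup.normalizer (S1 : Set G) := by
      apply mem_normalizer_of_conj_mem'
      have hle : S1.map (MulAut.conj x).toMonoidHom ≤ S1 := by
        rw [hS1, Subgroup.map_sup, MonoidHom.map_zpowers]
        apply sup_le
        · rintro _ ⟨h, hh, rfl⟩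
          exact (le_sup_left : H ≤ H ⊔ Subgroup.zpowers T) (a.norm x h hh)
        · rw [Subgroup.zpowers_le]
          show x * T * x⁻¹ ∈ H ⊔ Subgroup.zpowers T
          rw [← hT', ← hS1]
          exact hT'S1
      intro s hs
      exact hle ⟨s, hs, rfl⟩
    have hNtop : Subgroup.normalizer (S1 : Set G) = ⊤ := by
      apply Subgroup.eq_top_of_card_eq
      have h64 : 64 ∣ Nat.card ↥(Subgroup.normalizer (S1 : Set G)) := by
        rw [← hS1card]; exact Subgroup.card_dvd_of_le Subgroup.le_normalizer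
      have h5 : 5 ∣ Nat.card ↥(Subgroup.normalizer (S1 : Set G)) := by
        rw [← hx]
        have := orderOf_dvd_natCard (⟨x, hxN⟩ : ↥(Subgroup.normalizer (S1 : Set G)))
        rwa [Subgroup.orderOf_mk] at this
      have h320 : 320 ∣ Nat.card ↥(Subgroup.normalizer (S1 : Set G)) := by
        have : Nat.Coprime 64 5 := by norm_num
        exact this.mul_dvd_of_dvd_of_dvd h64 h5
      have hle : Nat.card ↥(Subgroup.normalizer (S1 : Set G)) ≤ 320 := by
        rw [← hG]; exact Subgroup.card_le_card_group _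
      have hpos : 0 < Nat.card ↥(Subgroup.normalizer (S1 : Set G)) := Nat.card_pos
      rw [hG]
      exact Nat.le_antisymm hle (Nat.le_of_dvd hpos h320)
    have hS1n : S1.Normal := Subgroup.normalizer_eq_top_iff.mp hNtop
    have hS1H : S1 ≤ H := by
      rw [hH]
      exact Cfsg.Agent.Helper14.le_pCore 2 hS1n hS12
    exact hTH (hS1H hTS1)
  · -- an element of order `5` centralizing `W ∩ W'`
    obtain ⟨y', hy'⟩ : ∃ y' : G, y' = y ^ 64 := ⟨_, rfl⟩
    have hy'5 : orderOf y' = 5 := by
      apply orderOf_eq_prime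
      · rw [hy', ← pow_mul]
        have := pow_card_eq_one' (G := G) (x := y)
        rw [hG] at this
        exact this
      · rw [hy']; exact hy64
    have hfp' := hfp hy'5
    obtain ⟨W, hW⟩ : ∃ W : Subgroup G, W = a.W T := ⟨_, rfl⟩
    obtain ⟨W', hW'⟩ : ∃ W' : Subgroup G, W' = a.W T' := ⟨_, rfl⟩
    have hWH : W ≤ H := by rw [hW]; exact a.W_le T
    have hW'H : W' ≤ H := by rw [hW']; exact a.W_le T'
    have hU : ∀ u ∈ W ⊓ W', u = 1 ∨ u = z := by
      intro u hu
      have hu' : u ∈ a.W (T * T') := by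
        apply a.W_inf_le T T'
        rw [← hW, ← hW']; exact hu
      rw [← hy] at hu'
      have hc := a.sq_comm_W hu'
      have hc2 : Commute ((y * y) ^ 32) u := hc.pow_left 32
      have e : (y * y) ^ 32 = y' := by rw [hy', ← pow_two, ← pow_mul]
      rw [e] at hc2
      exact hfp' u (hWH hu.1) hc2.eq
    have hUcard : Nat.card ↥(W ⊓ W') ≤ 2 := by
      have hle : W ⊓ W' ≤ Subgroup.zpowers z := fun u hu => (mem_zp a.zz u).mpr (hU u hu)
      have := Subgroup.card_le_of_le hle
      rwa [card_zp a.zz a.z1] at this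
    have hW'card : Nat.card ↥W' = Nat.card ↥W := by
      rw [hW', hW, hT']; exact a.card_W_conj x T
    have hWle : Nat.card ↥W ≤ 8 := by
      have h1 := card_mul_set_mul_card_inf W W'
      have h2 : Nat.card ↥((W : Set G) * (W' : Set G) : Set G) ≤ 32 := by
        rw [← h32]
        have hsub : ((W : Set G) * (W' : Set G) : Set G) ⊆ (H : Set G) := by
          rintro _ ⟨w, hw, w', hw', rfl⟩
          exact H.mul_mem (hWH hw) (hW'H hw')
        exact Nat.card_mono (Set.toFinite _) hsub
      rw [hW'card] at h1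
      have h3 : Nat.card ↥W * Nat.card ↥W ≤ 32 * 2 := by
        rw [← h1]; exact Nat.mul_le_mul h2 hUcard
      nlinarith
    obtain ⟨C, hC⟩ : ∃ C : Subgroup G, C = H ⊓ Subgroup.centralizer ({T} : Set G) := ⟨_, rfl⟩
    rw [← hC] at hV ⊢
    have hCW : C ≤ W := by rw [hC, hW]; exact a.cent_le_W T
    have hCH : C ≤ H := by rw [hC]; exact inf_le_left
    have hCT : ∀ c ∈ C, T * c * T⁻¹ = c := by
      intro c hc
      rw [hC] at hc
      have := Subgroup.mem_centralizer_singleton_iff.mp hc.2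
      rw [← this]; group
    have h4C : 4 ∣ Nat.card ↥C := by rw [← hV4]; exact Subgroup.card_dvd_of_le hV
    have hCle : Nat.card ↥C ≤ 8 := (Subgroup.card_le_of_le hCW).trans hWle
    have hC48 : Nat.card ↥C = 4 ∨ Nat.card ↥C = 8 := by
      obtain ⟨c, hc⟩ := h4C
      have hpos : 0 < Nat.card ↥C := Nat.card_pos
      have : c = 1 ∨ c = 2 := by omega
      rcases this with rfl | rfl <;> omega
    rcases hC48 with hC4 | hC8
    · have hVC : V = C := Subgroup.eq_of_le_of_card_ge hV (by rw [hC4, hV4])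
      rw [← hVC]
      exact ⟨hV4, hVe⟩
    · -- `|C| = 8`: impossible
      exfalso
      have hCeqW : C = W := Subgroup.eq_of_le_of_card_ge hCW (by rw [hC8]; exact hWle)
      -- the elements `c(h)`
      have hcC : ∀ h ∈ H, h⁻¹ * (T * h * T⁻¹) ∈ C := by
        intro h hh
        rw [hCeqW, hW]
        exact a.c_mem_W hTT hh
      have hcsq : ∀ h ∈ H, (h⁻¹ * (T * h * T⁻¹)) ^ 2 = 1 := by
        intro h hh
        have h1 := hCT _ (hcC h hh)
        have e1 : T * (h⁻¹ * (T * h * T⁻¹)) * T⁻¹ = (h⁻¹ * (T * h * T⁻¹))⁻¹ := by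
          calc T * (h⁻¹ * (T * h * T⁻¹)) * T⁻¹
              = (T * h * T⁻¹)⁻¹ * ((T * T) * h * (T * T)⁻¹) := by group
            _ = (T * h * T⁻¹)⁻¹ * h := by rw [hTT]; group
            _ = (h⁻¹ * (T * h * T⁻¹))⁻¹ := by group
        rw [e1] at h1
        rw [pow_two]
        calc h⁻¹ * (T * h * T⁻¹) * (h⁻¹ * (T * h * T⁻¹))
            = (h⁻¹ * (T * h * T⁻¹))⁻¹ * (h⁻¹ * (T * h * T⁻¹)) := by rw [h1]
          _ = 1 := by group
      have hccomm : ∀ h ∈ H, ∀ w ∈ C, (h⁻¹ * (T * h * T⁻¹)) * w = w * (h⁻¹ * (T * h * T⁻¹)) := by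
        intro h hh w hw
        rw [hCeqW, hW] at hw
        exact (a.c_comm_W hh hw).eq
      -- all `c(h)` lie in `V`
      obtain ⟨X, hX⟩ : ∃ X : Set G, X = (V : Set G) ∪ {c | ∃ h ∈ H, c = h⁻¹ * (T * h * T⁻¹)} :=
        ⟨_, rfl⟩
      have hVe' := Cfsg.Agent.Helper26.isElementaryAbelian_iff.mp hVe
      have hXC : X ⊆ (C : Set G) := by
        rw [hX]
        rintro c (hc | ⟨h, hh, rfl⟩)
        · exact hV hc
        · exact hcC h hh
      have hE : Cfsg.IsElementaryAbelian 2 (Subgroup.closure X) := by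
        apply Cfsg.Agent.Helper26.isElementaryAbelian_closure
        · intro p hp q hq
          rw [hX] at hp hq
          rcases hp with hp | ⟨h, hh, rfl⟩
          · rcases hq with hq | ⟨k, hk, rfl⟩
            · exact hVe'.1 p hp q hq
            · exact (hccomm k hk p (hV hp)).symm
          · exact hccomm h hh q (hXC (by rw [hX]; exact hq))
        · intro p hp
          rw [hX] at hp
          rcases hp with hp | ⟨h, hh, rfl⟩
          · exact hVe'.2 p hp
          · exact hcsq h hh
      have hEH : Subgroup.closure X ≤ H := by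
        rw [Subgroup.closure_le]
        exact fun c hc => hCH (hXC hc)
      have hVE : V ≤ Subgroup.closure X := by
        intro v hv
        apply Subgroup.subset_closure
        rw [hX]; exact Or.inl hv
      have hEV : V = Subgroup.closure X :=
        Subgroup.eq_of_le_of_card_ge hVE (by rw [hV4]; exact hminus _ hEH hE)
      have hcV : ∀ h ∈ H, h⁻¹ * (T * h * T⁻¹) ∈ V := by
        intro h hh
        rw [hEV]
        apply Subgroup.subset_closure
        rw [hX]
        exact Or.inr ⟨h, hh, rfl⟩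
      -- for `h ∉ C`, `c(h) ∉ ⟨z⟩`
      have hcnz : ∀ h ∈ H, h ∉ C → h⁻¹ * (T * h * T⁻¹) ≠ 1 ∧ h⁻¹ * (T * h * T⁻¹) ≠ z := by
        intro h hh hhC
        constructor
        · intro h1
          apply hhC
          have e : T * h * T⁻¹ = h := by
            calc T * h * T⁻¹ = h * (h⁻¹ * (T * h * T⁻¹)) := by group
              _ = h := by rw [h1, mul_one]
          rw [hC]
          refine ⟨hh, Subgroup.mem_centralizer_singleton_iff.mpr ?_⟩
          calc h * T = (T * h * T⁻¹) * T := by rw [e]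
            _ = T * h := by group
        · intro h1
          apply hhC
          have e : T * h * T⁻¹ = h * z := by
            calc T * h * T⁻¹ = h * (h⁻¹ * (T * h * T⁻¹)) := by group
              _ = h * z := by rw [h1]
          rw [hCeqW, hW]
          exact ⟨hh, Or.inr e⟩
      -- `⟨z⟩` has index two in `V`
      obtain ⟨Z', hZ'⟩ : ∃ Z' : Subgroup ↥V, Z' = (Subgroup.zpowers z).subgroupOf V := ⟨_, rfl⟩
      have hZV : Subgroup.zpowers z ≤ V := Subgroup.zpowers_le.mpr hzV
      have hZ'idx : Z'.index = 2 := by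
        have h1 := Subgroup.card_mul_index Z'
        have h2 : Nat.card ↥Z' = 2 := by
          rw [hZ', Nat.card_congr (Subgroup.subgroupOfEquivOfLe hZV).toEquiv, card_zp a.zz a.z1]
        rw [h2, hV4] at h1
        omega
      have hmemZ' : ∀ v : ↥V, v ∈ Z' ↔ (v : G) = 1 ∨ (v : G) = z := by
        intro v
        rw [hZ', Subgroup.mem_subgroupOf, mem_zp a.zz]
      -- products of two elements outside `C` lie in `C`
      have hprod : ∀ h1 ∈ H, ∀ h2 ∈ H, h1 ∉ C → h2 ∉ C → h1 * h2 ∈ C := by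
        intro h1 hh1 h2 hh2 hn1 hn2
        by_contra hn12
        have hc1 := hcnz h1 hh1 hn1
        have hc2 := hcnz h2 hh2 hn2
        have hc12 := hcnz (h1 * h2) (H.mul_mem hh1 hh2) hn12
        have hv1 : (⟨_, hcV h1 hh1⟩ : ↥V) ∉ Z' := by
          rw [hmemZ']; push Not; exact hc1
        have hv2 : (⟨_, hcV h2 hh2⟩ : ↥V) ∉ Z' := by
          rw [hmemZ']; push Not; exact hc2
        have hv12 : (⟨_, hcV h1 hh1⟩ : ↥V) * (⟨_, hcV h2 hh2⟩ : ↥V) ∈ Z' := by
          rw [Subgroup.mul_mem_iff_of_index_two hZ'idx]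
          exact ⟨fun h => absurd h hv1, fun h => absurd h hv2⟩
        rw [hmemZ', Subgroup.coe_mul] at hv12
        rcases a.c_mul (t := T) hh1 hh2 with e | e
        · rcases hv12 with h3 | h3
          · exact hc12.1 (e.trans h3)
          · exact hc12.2 (e.trans h3)
        · rcases hv12 with h3 | h3
          · apply hc12.2
            rw [e, h3, one_mul]
          · apply hc12.1
            rw [e, h3, a.zz]
      -- `C` has index `4` in `H`, but also index `2`
      obtain ⟨C', hC'⟩ : ∃ C' : Subgroup ↥H, C' = C.subgroupOf H := ⟨_, rfl⟩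
      have hC'card : Nat.card ↥C' = 8 := by
        rw [hC', Nat.card_congr (Subgroup.subgroupOfEquivOfLe hCH).toEquiv, hC8]
      have hmemC' : ∀ h : ↥H, h ∈ C' ↔ (h : G) ∈ C := by
        intro h
        rw [hC', Subgroup.mem_subgroupOf]
      have hne : ∃ h1 : ↥H, h1 ∉ C' := by
        by_contra hcon
        push Not at hcon
        have : C' = ⊤ := by
          rw [eq_top_iff]; intro h _; exact hcon h
        rw [this, Subgroup.card_top, h32] at hC'card
        omega
      obtain ⟨h1, hh1⟩ := hne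
      have hidx : C'.index = 2 := by
        rw [Subgroup.index_eq_two_iff]
        refine ⟨h1, fun b => ?_⟩
        by_cases hb : b ∈ C'
        · refine Or.inr ⟨hb, ?_⟩
          intro hb1
          apply hh1
          have : h1 = b⁻¹ * (b * h1) := by group
          rw [this]
          exact C'.mul_mem (C'.inv_mem hb) hb1
        · refine Or.inl ⟨?_, hb⟩
          rw [hmemC', Subgroup.coe_mul]
          exact hprod b b.2 h1 h1.2 (by rwa [← hmemC']) (by rwa [← hmemC'])
      have := Subgroup.card_mul_index C'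
      rw [hidx, hC'card, h32] at this
      omega

end Cfsg.Agent.S4405
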