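import Cfsg.Statements.S4406
import Mathlib
import Cfsg.Agent.Helper3.Conj
-- import your own Cfsg.Agent.* helpers here

set_option autoImplicit false
set_option linter.style.haveILetI false
open Cfsg

namespace Cfsg.Agent.S4406

abbrev A4 := ↥(alternatingGroup (Fin 4))

set_option maxRecDepth 100000 in
theorem F0 : ∀ x : A4, x ^ 2 = 1 ∨ x ^ 3 = 1 := by decide

set_option maxRecDepth 100000 in
theorem F2 : ∀ a v : A4, a ^ 3 = 1 → a ≠ 1 → v ^ 2 = 1 → v ≠ 1 →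
    (a * v * a⁻¹ ≠ v ∧ a * v * a⁻¹ ≠ 1 ∧ (a * v * a⁻¹) ^ 2 = 1 ∧
      a * (a * v * a⁻¹) * a⁻¹ = v * (a * v * a⁻¹) ∧ a⁻¹ * v * a = v * (a * v * a⁻¹)) := by decide

set_option maxRecDepth 100000 in
theorem F3 : ∀ v : A4, v ^ 2 = 1 → v ≠ 1 → ∀ w : A4, w ^ 2 = 1 → w ≠ 1 → w ≠ v →
    ∀ t : A4, t ^ 2 = 1 → (t = 1 ∨ t = v ∨ t = w ∨ t = v * w) := by decide

set_option maxRecDepth 100000 in
theorem F6 : Fintype.card {t : A4 // t ^ 2 = 1} = 4 := by decide

set_option maxRecDepth 100000 in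
theorem F7 : Fintype.card A4 = 12 := by decide

theorem sq_of_two_pow (x : A4) (k : ℕ) (h : x ^ (2 ^ k) = 1) : x ^ 2 = 1 := by
  rcases F0 x with h2 | h3
  · exact h2
  · have h1 : orderOf x ∣ 2 ^ k := orderOf_dvd_of_pow_eq_one h
    have h2 : orderOf x ∣ 3 := orderOf_dvd_of_pow_eq_one h3
    have hcop : Nat.Coprime (2 ^ k) 3 := Nat.Coprime.pow_left k (by norm_num)
    have h4 : orderOf x = 1 := Nat.eq_one_of_dvd_coprimes hcop h1 h2
    rw [orderOf_eq_one_iff.mp h4, one_pow]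

theorem cube_of_three_pow (x : A4) (k : ℕ) (h : x ^ (3 ^ k) = 1) : x ^ 3 = 1 := by
  rcases F0 x with h2 | h3
  · have h1 : orderOf x ∣ 3 ^ k := orderOf_dvd_of_pow_eq_one h
    have h2' : orderOf x ∣ 2 := orderOf_dvd_of_pow_eq_one h2
    have hcop : Nat.Coprime (3 ^ k) 2 := Nat.Coprime.pow_left k (by norm_num)
    have h4 : orderOf x = 1 := Nat.eq_one_of_dvd_coprimes hcop h1 h2'
    rw [orderOf_eq_one_iff.mp h4, one_pow]
  · exact h3

theorem card_sylow_three (Q : Sylow 3 (A4 × A4)) : Nat.card (Q : Subgroup (A4 × A4)) = 9 := by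
  haveI : Fact (Nat.Prime 3) := ⟨Nat.prime_three⟩
  have hG : Nat.card (A4 × A4) = 144 := by
    rw [Nat.card_prod, Nat.card_eq_fintype_card, F7]
  obtain ⟨k, hk⟩ := IsPGroup.iff_card.mp Q.2
  have hmul := Subgroup.card_mul_index (Q : Subgroup (A4 × A4))
  rw [hG, hk] at hmul
  have hnd : ¬ 3 ∣ (Q : Subgroup (A4 × A4)).index := Q.not_dvd_index
  have hcop : Nat.Coprime 9 (Q : Subgroup (A4 × A4)).index := by
    have : Nat.Coprime 3 (Q : Subgroup (A4 × A4)).index :=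
      (Nat.Prime.coprime_iff_not_dvd Nat.prime_three).mpr hnd
    exact Nat.Coprime.pow_left 2 this
  have h9 : 9 ∣ 3 ^ k := by
    apply hcop.dvd_of_dvd_mul_right
    rw [hmul]; norm_num
  have hk2 : 2 ≤ k := by
    have : 3 ^ 2 ∣ 3 ^ k := h9
    exact (Nat.pow_dvd_pow_iff_le_right (by norm_num)).mp this
  have hk3 : k ≤ 2 := by
    by_contra hlt
    push Not at hlt
    have h27 : 3 ^ 3 ∣ 3 ^ k := Nat.pow_dvd_pow 3 hlt
    have : 3 ^ 3 ∣ 144 := by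
      rw [← hmul]; exact Dvd.dvd.mul_right h27 _
    norm_num at this
  have : k = 2 := le_antisymm hk3 hk2
  rw [hk, this]; norm_num

/-- the kernel on a Sylow 3-subgroup of a homomorphism to `A4` is nontrivial -/
theorem ker_nontrivial (Q : Sylow 3 (A4 × A4)) (f : A4 × A4 →* A4) :
    ∃ q ∈ (Q : Subgroup (A4 × A4)), q ≠ 1 ∧ f q = 1 := by
  haveI : Fact (Nat.Prime 3) := ⟨Nat.prime_three⟩
  let f' : ↥(Q : Subgroup (A4 × A4)) →* A4 := f.comp (Q : Subgroup (A4 × A4)).subtype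
  have h1 : Nat.card f'.ker * Nat.card f'.range = 9 := by
    rw [← Subgroup.index_ker, Subgroup.card_mul_index, card_sylow_three]
  have hp : IsPGroup 3 f'.range := Q.2.of_surjective f'.rangeRestrict f'.rangeRestrict_surjective
  obtain ⟨j, hj⟩ := IsPGroup.iff_card.mp hp
  have hdvd : Nat.card f'.range ∣ 12 := by
    have := Subgroup.card_subgroup_dvd_card f'.range
    rwa [Nat.card_eq_fintype_card (α := A4), F7] at this
  have hj1 : j ≤ 1 := by
    by_contra hlt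
    push Not at hlt
    have h9 : 3 ^ 2 ∣ 3 ^ j := Nat.pow_dvd_pow 3 hlt
    rw [hj] at hdvd
    have : 3 ^ 2 ∣ 12 := h9.trans hdvd
    norm_num at this
  have hr3 : Nat.card f'.range ≤ 3 := by
    rw [hj]
    calc 3 ^ j ≤ 3 ^ 1 := Nat.pow_le_pow_right (by norm_num) hj1
      _ = 3 := by norm_num
  have hker : 1 < Nat.card f'.ker := by
    by_contra hle
    push Not at hle
    have hpos : 0 < Nat.card f'.ker := Nat.card_pos
    have : Nat.card f'.ker = 1 := by omega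
    rw [this, one_mul] at h1
    omega
  have hne : f'.ker ≠ ⊥ := (Subgroup.one_lt_card_iff_ne_bot _).mp hker
  obtain ⟨⟨q, hq⟩, hq1⟩ := Subgroup.ne_bot_iff_exists_ne_one.mp hne
  refine ⟨(q : A4 × A4), q.2, ?_, hq⟩
  intro h
  apply hq1
  apply Subtype.ext
  exact Subtype.ext h


/-- In the direct product P = A₄ × A₄, let X be the Sylow 2-subgroup, X₁ and X₂ its intersections with the two direct factors, Q a Sylow 3-subgroup and Q₁, Q₂ its intersections with the two factors. Then every subgroup B of X of order 4 either meets X₁ or X₂ nontrivially, or is normalized by one of the two subgroups of Q of order 3 other than Q₁ and Q₂. -/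
theorem result
    (X : Sylow 2 (↥(alternatingGroup (Fin 4)) × ↥(alternatingGroup (Fin 4))))
    (Q : Sylow 3 (↥(alternatingGroup (Fin 4)) × ↥(alternatingGroup (Fin 4))))
    (B : Subgroup (↥(alternatingGroup (Fin 4)) × ↥(alternatingGroup (Fin 4)))) (hBX : B ≤ (X : Subgroup _)) (hB4 : Nat.card ↥B = 4) :
    B ⊓ ((X : Subgroup _) ⊓ Subgroup.prod ⊤ ⊥) ≠ ⊥ ∨ B ⊓ ((X : Subgroup _) ⊓ Subgroup.prod ⊥ ⊤) ≠ ⊥ ∨
      ∃ R : Subgroup (↥(alternatingGroup (Fin 4)) × ↥(alternatingGroup (Fin 4))), R ≤ (Q : Subgroup _) ∧ Nat.card ↥R = 3 ∧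
        R ≠ (Q : Subgroup _) ⊓ Subgroup.prod ⊤ ⊥ ∧ R ≠ (Q : Subgroup _) ⊓ Subgroup.prod ⊥ ⊤ ∧ R ≤ Subgroup.normalizer (B : Set _) := by
  classical
  by_cases hc1 : B ⊓ ((X : Subgroup (A4 × A4)) ⊓ Subgroup.prod ⊤ ⊥) ≠ ⊥
  · left; exact hc1
  by_cases hc2 : B ⊓ ((X : Subgroup (A4 × A4)) ⊓ Subgroup.prod ⊥ ⊤) ≠ ⊥
  · right; left; exact hc2
  right; right
  rw [not_not] at hc1 hc2
  -- elements of B
  have hB2 : ∀ g ∈ B, g.2 = 1 → g = 1 := by
    intro g hg h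
    have hm : g ∈ B ⊓ ((X : Subgroup (A4 × A4)) ⊓ Subgroup.prod ⊤ ⊥) :=
      ⟨hg, hBX hg, Subgroup.mem_prod.mpr ⟨Subgroup.mem_top _, Subgroup.mem_bot.mpr h⟩⟩
    rw [hc1] at hm
    exact Subgroup.mem_bot.mp hm
  have hB1 : ∀ g ∈ B, g.1 = 1 → g = 1 := by
    intro g hg h
    have hm : g ∈ B ⊓ ((X : Subgroup (A4 × A4)) ⊓ Subgroup.prod ⊥ ⊤) :=
      ⟨hg, hBX hg, Subgroup.mem_prod.mpr ⟨Subgroup.mem_bot.mpr h, Subgroup.mem_top _⟩⟩
    rw [hc2] at hm
    exact Subgroup.mem_bot.mp hm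
  have hsq : ∀ g ∈ B, g.1 ^ 2 = 1 ∧ g.2 ^ 2 = 1 := by
    intro g hg
    obtain ⟨k, hk⟩ := X.2 ⟨g, hBX hg⟩
    have hk' : g ^ (2 ^ k) = 1 := by
      have := congrArg Subtype.val hk
      simpa using this
    have h1 : g.1 ^ (2 ^ k) = 1 := by rw [← Prod.pow_fst, hk']; rfl
    have h2 : g.2 ^ (2 ^ k) = 1 := by rw [← Prod.pow_snd, hk']; rfl
    exact ⟨sq_of_two_pow _ k h1, sq_of_two_pow _ k h2⟩
  have hcube : ∀ g ∈ (Q : Subgroup (A4 × A4)), g.1 ^ 3 = 1 ∧ g.2 ^ 3 = 1 := by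
    intro g hg
    obtain ⟨k, hk⟩ := Q.2 ⟨g, hg⟩
    have hk' : g ^ (3 ^ k) = 1 := by
      have := congrArg Subtype.val hk
      simpa using this
    have h1 : g.1 ^ (3 ^ k) = 1 := by rw [← Prod.pow_fst, hk']; rfl
    have h2 : g.2 ^ (3 ^ k) = 1 := by rw [← Prod.pow_snd, hk']; rfl
    exact ⟨cube_of_three_pow _ k h1, cube_of_three_pow _ k h2⟩
  -- injectivity of the first projection on B
  have hinj : ∀ g ∈ B, ∀ h ∈ B, g.1 = h.1 → g = h := by
    intro g hg h hh heq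
    have h1 : (g⁻¹ * h).1 = 1 := by
      rw [Prod.fst_mul, Prod.fst_inv, heq, inv_mul_cancel]
    have := hB1 _ (B.mul_mem (B.inv_mem hg) hh) h1
    exact inv_mul_eq_one.mp this
  -- elements a, b
  obtain ⟨qa, hqaQ, hqa1, hqa⟩ := ker_nontrivial Q (MonoidHom.snd A4 A4)
  obtain ⟨qb, hqbQ, hqb1, hqb⟩ := ker_nontrivial Q (MonoidHom.fst A4 A4)
  have hqa' : qa.2 = 1 := hqa
  have hqb' : qb.1 = 1 := hqb
  set a : A4 := qa.1 with ha
  set b : A4 := qb.2 with hb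
  have ha1 : a ≠ 1 := fun h => hqa1 (Prod.ext h hqa')
  have hb1 : b ≠ 1 := fun h => hqb1 (Prod.ext hqb' h)
  have ha3 : a ^ 3 = 1 := (hcube qa hqaQ).1
  have hb3 : b ^ 3 = 1 := (hcube qb hqbQ).2
  have hqa_eq : qa = (a, 1) := Prod.ext rfl hqa'
  have hqb_eq : qb = (1, b) := Prod.ext hqb' rfl
  -- a nontrivial element g of B
  have hBne : B ≠ ⊥ := by
    intro h
    rw [h, Subgroup.card_bot] at hB4
    omega
  obtain ⟨⟨g, hgB⟩, hg1⟩ := Subgroup.ne_bot_iff_exists_ne_one.mp hBne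
  have hg1' : g ≠ 1 := fun h => hg1 (Subtype.ext h)
  set v1 : A4 := g.1 with hv1
  set w1 : A4 := g.2 with hw1
  have hv1ne : v1 ≠ 1 := fun h => hg1' (hB1 g hgB h)
  have hw1ne : w1 ≠ 1 := fun h => hg1' (hB2 g hgB h)
  have hv1sq : v1 ^ 2 = 1 := (hsq g hgB).1
  have hw1sq : w1 ^ 2 = 1 := (hsq g hgB).2
  obtain ⟨hav1, hav1', hav1sq, hav1a, -⟩ := F2 a v1 ha3 ha1 hv1sq hv1ne
  set v2 : A4 := a * v1 * a⁻¹ with hv2
  -- surjectivity of the first projection onto the involutions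
  have hsurj : ∃ h ∈ B, h.1 = v2 := by
    let φ : ↥B → {t : A4 // t ^ 2 = 1} := fun x => ⟨(x : A4 × A4).1, (hsq x x.2).1⟩
    have hφinj : Function.Injective φ := by
      intro x y hxy
      have : (x : A4 × A4).1 = (y : A4 × A4).1 := congrArg Subtype.val hxy
      exact Subtype.ext (hinj x x.2 y y.2 this)
    have hcard : Nat.card {t : A4 // t ^ 2 = 1} ≤ Nat.card ↥B := by
      rw [hB4, Nat.card_eq_fintype_card, F6]
    have hbij := hφinj.bijective_of_nat_card_le hcard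
    obtain ⟨x, hx⟩ := hbij.2 ⟨v2, hav1sq⟩
    exact ⟨x, x.2, congrArg Subtype.val hx⟩
  obtain ⟨h, hhB, hh1⟩ := hsurj
  set w2 : A4 := h.2 with hw2
  have hh_ne : h ≠ 1 := by
    intro h0
    rw [h0] at hh1
    exact hav1' hh1.symm
  have hw2ne : w2 ≠ 1 := fun h0 => hh_ne (hB2 h hhB h0)
  have hw2sq : w2 ^ 2 = 1 := (hsq h hhB).2
  have hw21 : w2 ≠ w1 := by
    intro h0
    have h2 : (g⁻¹ * h).2 = 1 := by
      rw [Prod.snd_mul, Prod.snd_inv]
      show w1⁻¹ * w2 = 1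
      rw [h0, inv_mul_cancel]
    have h3 := hB2 _ (B.mul_mem (B.inv_mem hgB) hhB) h2
    have h4 : g = h := inv_mul_eq_one.mp h3
    have h5 : v1 = v2 := by rw [← hh1, ← h4]
    exact hav1 h5.symm
  -- choose b' ∈ {b, b⁻¹}
  obtain ⟨hbw, hbw', hbwsq, -, hbinv⟩ := F2 b w1 hb3 hb1 hw1sq hw1ne
  have hb'ex : ∃ b' : A4, b' ^ 3 = 1 ∧ b' ≠ 1 ∧ ((1 : A4), b') ∈ (Q : Subgroup (A4 × A4)) ∧
      b' * w1 * b'⁻¹ = w2 := by
    rcases F3 w1 hw1sq hw1ne (b * w1 * b⁻¹) hbwsq hbw' hbw w2 hw2sq with h0 | h0 | h0 | h0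
    · exact absurd h0 hw2ne
    · exact absurd h0 hw21
    · exact ⟨b, hb3, hb1, hqb_eq ▸ hqbQ, h0.symm⟩
    · refine ⟨b⁻¹, ?_, ?_, ?_, ?_⟩
      · rw [inv_pow, hb3, inv_one]
      · exact fun h5 => hb1 (inv_eq_one.mp h5)
      · have : ((1 : A4), b⁻¹) = qb⁻¹ := by rw [hqb_eq]; rfl
        rw [this]; exact Subgroup.inv_mem _ hqbQ
      · rw [inv_inv, hbinv, h0]
  obtain ⟨b', hb'3, hb'1, hb'Q, hb'w⟩ := hb'ex
  obtain ⟨-, -, -, hb'a, -⟩ := F2 b' w1 hb'3 hb'1 hw1sq hw1ne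
  rw [hb'w] at hb'a
  -- the element c
  set c : A4 × A4 := (a, b') with hc
  have hcQ : c ∈ (Q : Subgroup (A4 × A4)) := by
    have : c = (a, 1) * (1, b') := by
      rw [hc, Prod.mk_mul_mk, mul_one, one_mul]
    rw [this]
    exact Subgroup.mul_mem _ (hqa_eq ▸ hqaQ) hb'Q
  have hcg : c * g * c⁻¹ = h := by
    apply Prod.ext
    · show a * v1 * a⁻¹ = h.1
      rw [hh1]
    · show b' * w1 * b'⁻¹ = h.2
      rw [hb'w]
  have hch : c * h * c⁻¹ = g * h := by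
    apply Prod.ext
    · show a * h.1 * a⁻¹ = v1 * h.1
      rw [hh1]; exact hav1a
    · show b' * w2 * b'⁻¹ = w1 * w2
      exact hb'a
  -- every element of B is 1, g, h or g * h
  have hBelts : ∀ x ∈ B, x = 1 ∨ x = g ∨ x = h ∨ x = g * h := by
    intro x hx
    rcases F3 v1 hv1sq hv1ne v2 hav1sq hav1' hav1 x.1 (hsq x hx).1 with h0 | h0 | h0 | h0
    · left; exact hB1 x hx h0
    · right; left; exact hinj x hx g hgB h0
    · right; right; left; exact hinj x hx h hhB (h0.trans hh1.symm)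
    · right; right; right
      apply hinj x hx (g * h) (B.mul_mem hgB hhB)
      rw [h0, Prod.fst_mul, hh1]
  have hconj : ∀ x ∈ B, c * x * c⁻¹ ∈ B := by
    intro x hx
    rcases hBelts x hx with rfl | rfl | rfl | rfl
    · simp
    · rw [hcg]; exact hhB
    · rw [hch]; exact B.mul_mem hgB hhB
    · have : c * (g * h) * c⁻¹ = (c * g * c⁻¹) * (c * h * c⁻¹) := by group
      rw [this, hcg, hch]
      exact B.mul_mem hhB (B.mul_mem hgB hhB)
  have hcN : c ∈ Subgroup.normalizer (B : Set (A4 × A4)) := by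
    rw [← Cfsg.Agent.Helper3.conj_smul_eq_iff_mem_normalizer]
    apply Cfsg.Agent.Helper3.conj_smul_le_eq
    intro y hy
    rw [Cfsg.Agent.Helper3.mem_conj_smul_iff] at hy
    have := hconj _ hy
    have e : c * (c⁻¹ * y * c) * c⁻¹ = y := by group
    rwa [e] at this
  have hc3 : c ^ 3 = 1 := by
    apply Prod.ext
    · show a ^ 3 = 1
      exact ha3
    · show b' ^ 3 = 1
      exact hb'3
  have hc1' : c ≠ 1 := by
    intro h0
    exact ha1 (congrArg Prod.fst h0)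
  have hcord : orderOf c = 3 := orderOf_eq_prime hc3 hc1'
  refine ⟨Subgroup.zpowers c, Subgroup.zpowers_le.mpr hcQ, ?_, ?_, ?_, Subgroup.zpowers_le.mpr hcN⟩
  · rw [Nat.card_zpowers, hcord]
  · intro h0
    have : c ∈ (Q : Subgroup (A4 × A4)) ⊓ Subgroup.prod ⊤ ⊥ := by
      rw [← h0]; exact Subgroup.mem_zpowers c
    have h5 := (Subgroup.mem_prod.mp this.2).2
    exact hb'1 (Subgroup.mem_bot.mp h5)
  · intro h0
    have : c ∈ (Q : Subgroup (A4 × A4)) ⊓ Subgroup.prod ⊥ ⊤ := by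
      rw [← h0]; exact Subgroup.mem_zpowers c
    have h5 := (Subgroup.mem_prod.mp this.2).1
    exact ha1 (Subgroup.mem_bot.mp h5)

end Cfsg.Agent.S4406
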