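import Cfsg.Statements.S4407
import Cfsg.Agent.Helper19.D8ModE

set_option autoImplicit false
open Cfsg

namespace Cfsg.Agent.S4407

open Cfsg.Agent.Helper19.D8Mod DihedralGroup

/-- Let S be a finite group with a normal elementary abelian subgroup A of order 9 that is self-centralizing (C_S(A) = A), and a dihedral subgroup X of order 8 with S = AX. Let M be a finite-dimensional module for S over the field with two elements that is faithful and irreducible. Then M has 16 elements, and X contains exactly one subgroup B of order 4 and exponent 2 whose fixed points on M form a subspace with exactly 2 elements (equivalently, M is free of rank one over the group algebra of B). -/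
theorem result {S : Type*} [Group S] [Finite S]
    (A : Subgroup S) [A.Normal] (hA : Cfsg.IsElementaryAbelian 3 A) (hA9 : Nat.card ↥A = 9)
    (hAC : Subgroup.centralizer (A : Set S) = A) (X : Subgroup S) (hX : Nonempty (↥X ≃* DihedralGroup 4)) (hAX : A ⊔ X = ⊤)
    {M : Type*} [AddCommGroup M] [Module (ZMod 2) M] [Finite M] (ρ : Representation (ZMod 2) S M)
    (hfaith : Function.Injective ρ)
    (hirr : ∀ N : Submodule (ZMod 2) M, (∀ s : S, ∀ m ∈ N, ρ s m ∈ N) → N = ⊥ ∨ N = ⊤) (hM : Nontrivial M) :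
    Nat.card M = 16 ∧
      ∃! B : Subgroup S, B ≤ X ∧ Nat.card ↥B = 4 ∧ (∀ b ∈ B, b ^ 2 = 1) ∧
        Nat.card {m : M // ∀ b ∈ B, ρ b m = m} = 2 := by
  obtain ⟨φ⟩ := hX
  have hcomm : ∀ x ∈ A, ∀ y ∈ A, x * y = y * x := by
    intro x hx y hy
    have := hA.1
    have h := mul_comm' (⟨x, hx⟩ : A) ⟨y, hy⟩
    exact congrArg Subtype.val h
  have hX8 : Nat.card ↥X = 8 := by
    rw [Nat.card_congr φ.toEquiv, DihedralGroup.nat_card]
  have hfaithX : ∀ x ∈ X, (∀ y ∈ A, x * y = y * x) → x = 1 := by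
    intro x hx hxy
    have hxA : x ∈ A := by
      rw [← hAC, Subgroup.mem_centralizer_iff]
      intro y hy
      exact (hxy y hy).symm
    have h3 : x ^ 3 = 1 := hA.2 x hxA
    have h8 : x ^ 8 = 1 := by
      have : (⟨x, hx⟩ : X) ^ Nat.card ↥X = 1 := pow_card_eq_one'
      rw [hX8] at this
      exact congrArg Subtype.val this
    have h9 : x ^ 9 = 1 := by
      have : x ^ 9 = (x ^ 3) ^ 3 := by rw [← pow_mul]
      rw [this, h3, one_pow]
    have : x ^ 9 = x ^ 8 * x := pow_succ x 8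
    rw [h9, h8, one_mul] at this
    exact this.symm
  have hG : GS A X :=
    { nA := inferInstance, comm := hcomm, exp3 := hA.2, card9 := hA9, faith := hfaithX }
  obtain ⟨f, hf_def⟩ : ∃ f : DihedralGroup 4 →* S, f = X.subtype.comp φ.symm.toMonoidHom :=
    ⟨_, rfl⟩
  have hf : Function.Injective f := by
    rw [hf_def]
    exact (Subgroup.subtype_injective X).comp φ.symm.injective
  have hfX : f.range = X := by
    rw [hf_def, MonoidHom.range_comp]
    have : φ.symm.toMonoidHom.range = ⊤ :=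
      MonoidHom.range_eq_top.2 φ.symm.surjective
    rw [this, ← MonoidHom.range_eq_map, Subgroup.range_subtype]
  obtain ⟨i, a, b, ha1, ha3, hb3, hab, hra, hrb, hsa, hsb, hgen⟩ := hG.extract f hf hfX hAX
  have hr4 : f (r 1) * f (r 1) * f (r 1) * f (r 1) = 1 := by
    rw [← map_mul, ← map_mul, ← map_mul, d4_rel_r4, map_one]
  have hs2 : f (sr i) * f (sr i) = 1 := by
    rw [← map_mul, d4_rel_ss, map_one]
  have hsr : f (sr i) * f (r 1) = f (r 1) * f (r 1) * f (r 1) * f (sr i) := by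
    rw [← map_mul, ← map_mul, ← map_mul, ← map_mul, d4_rel_sr]
  have hMC := mk_MC ρ hirr ha3 hb3 hab hr4 hs2 hsr hra hrb hsa hsb hgen
  have hα : ∃ m, ρ a m ≠ m := by
    by_contra hcon
    push Not at hcon
    apply ha1
    apply hfaith
    rw [map_one]
    ext m
    rw [hcon m, Module.End.one_apply]
  obtain ⟨hcard, hcase⟩ := hMC.main hα
  refine ⟨hcard, ?_⟩
  have hRR : ρ (f (r 1)) * ρ (f (r 1)) = ρ (f (r 2)) := by
    rw [← map_mul, ← map_mul, d4_rr]
  have hRs : ρ (f (r 1)) * ρ (f (sr i)) = ρ (f (sr (i - 1))) := by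
    rw [← map_mul, ← map_mul, d4_rs]
  rw [hRR, hRs, ← card_fix_K ρ f i, ← card_fix_K ρ f (i - 1)] at hcase
  -- counts for `K 0`, `K 1`
  have hcase01 :
      (Nat.card {m : M // ∀ b ∈ (K 0).map f, ρ b m = m} = 4 ∧
        Nat.card {m : M // ∀ b ∈ (K 1).map f, ρ b m = m} = 2) ∨
      (Nat.card {m : M // ∀ b ∈ (K 0).map f, ρ b m = m} = 2 ∧
        Nat.card {m : M // ∀ b ∈ (K 1).map f, ρ b m = m} = 4) := by
    rcases K_pair i with ⟨e1, e2⟩ | ⟨e1, e2⟩
    · rw [e1, e2] at hcase; exact hcase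
    · rw [e1, e2] at hcase
      rcases hcase with ⟨h1, h2⟩ | ⟨h1, h2⟩
      · exact Or.inr ⟨h2, h1⟩
      · exact Or.inl ⟨h2, h1⟩
  have hK1 : ∀ j, (K j).map f ≤ X := by
    intro j; rw [← hfX]; exact Subgroup.map_le_range f (K j)
  have hK2 : ∀ j, Nat.card ↥((K j).map f) = 4 := by
    intro j; rw [Subgroup.card_map_of_injective hf, card_K]
  have hK3 : ∀ j, ∀ b ∈ (K j).map f, b ^ 2 = 1 := by
    intro j b hb
    obtain ⟨d, hd, rfl⟩ := Subgroup.mem_map.1 hb
    rw [pow_two, ← map_mul, Kmem_sq j d hd, map_one]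
  have hcls : ∀ B : Subgroup S, B ≤ X → Nat.card ↥B = 4 → (∀ b ∈ B, b ^ 2 = 1) →
      B = (K 0).map f ∨ B = (K 1).map f := by
    intro B hB h4 hexp
    exact classify_in f hf B (hfX ▸ hB) h4 hexp
  rcases hcase01 with ⟨h0, h1⟩ | ⟨h0, h1⟩
  · refine ⟨(K 1).map f, ⟨hK1 1, hK2 1, hK3 1, h1⟩, ?_⟩
    rintro B ⟨hB1, hB2, hB3, hB4⟩
    rcases hcls B hB1 hB2 hB3 with rfl | rfl
    · rw [h0] at hB4; norm_num at hB4
    · rfl
  · refine ⟨(K 0).map f, ⟨hK1 0, hK2 0, hK3 0, h0⟩, ?_⟩
    rintro B ⟨hB1, hB2, hB3, hB4⟩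
    rcases hcls B hB1 hB2 hB3 with rfl | rfl
    · rfl
    · rw [h1] at hB4; norm_num at hB4

end Cfsg.Agent.S4407
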