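import Cfsg.Statements.S4408
import Mathlib
import Cfsg.Agent.Helper1.ElemTwo2
import Cfsg.Agent.S0044
import Cfsg.Agent.Helper7.Fitting

set_option autoImplicit false
open Cfsg

namespace Cfsg.Agent.S4408

/-- Let S be a finite solvable group whose Fitting subgroup F(S) has odd order, and let I be an elementary abelian 2-subgroup of S of order 2ⁿ with n ≥ 1. Then F(S) contains subgroups A₁, …, Aₙ of prime order, each normalized by I, pairwise commuting and generating a subgroup A of order |A₁|⋯|Aₙ| (their internal direct product), such that no non-identity element of I centralizes A. -/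
theorem result {S : Type*} [Group S] [Finite S]
    [Group.IsSolvable S] (hF : Odd (Nat.card ↥(Cfsg.fittingSubgroup S)))
    (I : Subgroup S) (hI : Cfsg.IsElementaryAbelian 2 I) (n : ℕ) (hn : 1 ≤ n) (hIn : Nat.card ↥I = 2 ^ n) :
    ∃ f : Fin n → Subgroup S, (∀ i, (Nat.card ↥(f i)).Prime) ∧ (∀ i, f i ≤ Cfsg.fittingSubgroup S) ∧
      (∀ i, I ≤ Subgroup.normalizer ((f i) : Set S)) ∧ (∀ i j, i ≠ j → ∀ a ∈ f i, ∀ b ∈ f j, a * b = b * a) ∧
      Nat.card ↥(⨆ i, f i) = ∏ i, Nat.card ↥(f i) ∧ I ⊓ Subgroup.centralizer ((⨆ i, f i : Subgroup S) : Set S) = ⊥ := by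
  classical
  obtain ⟨hIcomm, hIexp⟩ := hI
  have hIc : ∀ a ∈ I, ∀ b ∈ I, a * b = b * a := fun a ha b hb =>
    congrArg Subtype.val (mul_comm' (⟨a, ha⟩ : I) ⟨b, hb⟩)
  have hI2 : ∀ a ∈ I, a * a = 1 := fun a ha => by rw [← pow_two]; exact hIexp a ha
  have hFnil : Group.IsNilpotent (Cfsg.fittingSubgroup S) :=
    Cfsg.Agent.Helper7.fittingSubgroup_isNilpotent
  have hFnorm : (Cfsg.fittingSubgroup S).Normal := Cfsg.Agent.Helper7.fittingSubgroup_normal S
  have hIF : I ≤ Subgroup.normalizer ((Cfsg.fittingSubgroup S : Subgroup S) : Set S) := by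
    rw [Subgroup.normalizer_eq_top]; exact le_top
  have hfaith : ∀ s ∈ I, Cfsg.fittingSubgroup S ≤ Subgroup.centralizer {s} → s = 1 := by
    intro s hs h
    have hsC : s ∈ Subgroup.centralizer ((Cfsg.fittingSubgroup S : Subgroup S) : Set S) := by
      rw [Subgroup.mem_centralizer_iff]
      intro y hy
      exact Subgroup.mem_centralizer_singleton_iff.mp (h hy)
    have hsF : s ∈ Cfsg.fittingSubgroup S := Cfsg.Agent.S0044.result hsC
    exact Cfsg.Agent.Helper1.ElemTwo.eq_one_of_sq_of_odd _ hF s hsF (hI2 s hs)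
  obtain ⟨x, hxp, hxF, hxI, hxc, hxcard, hxf⟩ :=
    Cfsg.Agent.Helper1.ElemTwo.main_ind I hIc hI2 n (Cfsg.fittingSubgroup S) I hFnil hF hIF le_rfl
      hIn hfaith
  refine ⟨fun i => Subgroup.zpowers (x i), ?_, ?_, ?_, ?_, ?_, ?_⟩
  · intro i
    rw [Nat.card_zpowers]; exact hxp i
  · intro i
    exact Subgroup.zpowers_le.mpr (hxF i)
  · intro i s hs
    exact Cfsg.Agent.Helper1.ElemTwo.mem_normalizer_zpowers (hxI i s hs)
  · intro i j _ a ha b hb
    obtain ⟨m, rfl⟩ := Subgroup.mem_zpowers_iff.mp ha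
    obtain ⟨l, rfl⟩ := Subgroup.mem_zpowers_iff.mp hb
    exact Commute.zpow_zpow (show Commute (x i) (x j) from hxc i j) m l
  · simp only [Nat.card_zpowers]
    exact hxcard
  · rw [eq_bot_iff]
    rintro s ⟨hs, hsc⟩
    rw [Subgroup.mem_bot]
    apply hxf s hs
    intro i
    have hxi : x i ∈ ((⨆ i, Subgroup.zpowers (x i) : Subgroup S) : Set S) :=
      (le_iSup (fun i => Subgroup.zpowers (x i)) i) (Subgroup.mem_zpowers (x i))
    exact (Subgroup.mem_centralizer_iff.mp hsc (x i) hxi).symm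

end Cfsg.Agent.S4408
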