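-- Statement S4409 (Thompson, N-groups): proof assembled from the piece board `s4409pieces` (driver helper11).
import Cfsg.Statements.S4409
import Cfsg.Agent.Helper11.S4409ASM2

set_option autoImplicit false
open Cfsg

namespace Cfsg.Agent.S4409

open Cfsg.Agent.S4409P

/-- Let S be a finite solvable group with O_{2'}(S) = 1 that contains a non-cyclic abelian subgroup of order 8, while no proper subgroup of S of 2-power index contains one. Then a Sylow 2-subgroup X of S is normal in S, and one of the following holds: X is abelian; X is extraspecial of order at least 32; X has a generalized quaternion subgroup X₀ of index 2 with X = X₀·C_X(X₀); or X is special with centre of order 4. -/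
theorem result {S : Type*} [Group S] [Finite S]
    [Group.IsSolvable S] (hO : Cfsg.pPrimeCore 2 S = ⊥)
    (h8 : ∃ A : Subgroup S, IsMulCommutative ↥A ∧ ¬ IsCyclic ↥A ∧ Nat.card ↥A = 8)
    (hmin : ∀ R : Subgroup S, R ≠ ⊤ → (∃ k : ℕ, R.index = 2 ^ k) →
      ¬ ∃ A : Subgroup S, A ≤ R ∧ IsMulCommutative ↥A ∧ ¬ IsCyclic ↥A ∧ Nat.card ↥A = 8)
    (X : Sylow 2 S) :
    (X : Subgroup S).Normal ∧
      (IsMulCommutative ↥X ∨
        (Cfsg.IsExtraspecial 2 ↥X ∧ 32 ≤ Nat.card ↥X) ∨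
        (∃ (X₀ : Subgroup S) (k : ℕ), X₀ ≤ (X : Subgroup S) ∧ X₀.relIndex (X : Subgroup S) = 2 ∧
          Nonempty (↥X₀ ≃* QuaternionGroup (2 ^ (k + 1))) ∧ X₀ ⊔ ((X : Subgroup S) ⊓ Subgroup.centralizer (X₀ : Set S)) = (X : Subgroup S)) ∨
        (Cfsg.IsSpecial 2 ↥X ∧ Nat.card ↥(Subgroup.center ↥X) = 4)) := by
  obtain ⟨hn, h⟩ := main hO h8 hmin X
  refine ⟨hn, ?_⟩
  rcases h with h | ⟨hs, h2, h32⟩ | ⟨X₀, h1, h2, h3, h4⟩ | ⟨hs, h4⟩
  · exact Or.inl ((isAb_iff (X : Subgroup S)).mp h)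
  · refine Or.inr (Or.inl ⟨⟨special_of_int (X : Subgroup S) X.isPGroup' hs, ?_⟩, h32⟩)
    exact (card_center (X : Subgroup S)).trans h2
  · exact Or.inr (Or.inr (Or.inl ⟨X₀, 0, h1, h2, h3, h4⟩))
  · refine Or.inr (Or.inr (Or.inr ⟨special_of_int (X : Subgroup S) X.isPGroup' hs, ?_⟩))
    exact (card_center (X : Subgroup S)).trans h4

end Cfsg.Agent.S4409
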