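import Cfsg.Statements.S4411
import Cfsg.Agent.Helper3.S4411Defs
import Cfsg.Agent.Helper9.S4411AQ
import Cfsg.Agent.Helper3.S4411ORD

set_option autoImplicit false
open Cfsg

namespace Cfsg.Agent.S4411

/-- Let p and q be distinct primes with {p, q} ≠ {2, 3}, and let G be a finite group such that for every p-subgroup H of G the automizer N_G(H)/C_G(H) is p-solvable. If q divides the order of N_G(H)/C_G(H) for some p-subgroup H, then a Sylow p-subgroup of G has a normal subgroup K (normal in the Sylow subgroup) such that q divides the order of N_G(K)/C_G(K). -/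
theorem result {G : Type*} [Group G] [Finite G]
    (p q : ℕ) [Fact p.Prime] [Fact q.Prime] (hpq : p ≠ q) (h23 : ¬ ((p = 2 ∧ q = 3) ∨ (p = 3 ∧ q = 2)))
    (hsol : ∀ H : Subgroup G, IsPGroup p ↥H →
      Cfsg.IsPSolvable p (↥(Subgroup.normalizer (H : Set G)) ⧸ (Subgroup.centralizer (H : Set G)).subgroupOf (Subgroup.normalizer (H : Set G))))
    (H : Subgroup G) (hH : IsPGroup p ↥H)
    (hq : q ∣ ((Subgroup.centralizer (H : Set G)).subgroupOf (Subgroup.normalizer (H : Set G))).index)
    (Gp : Sylow p G) :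
    ∃ K : Subgroup G, K ≤ (Gp : Subgroup G) ∧ (Gp : Subgroup G) ≤ Subgroup.normalizer (K : Set G) ∧
      q ∣ ((Subgroup.centralizer (K : Set G)).subgroupOf (Subgroup.normalizer (K : Set G))).index := by
  have hA : Cfsg.Agent.S4411P.Acts q H := (Cfsg.Agent.S4411P.AQ_iff q H).1 hq
  obtain ⟨K, S, hKp, hKA, hSK⟩ := Cfsg.Agent.S4411P.ORD p q hpq h23 hsol H hH hA
  obtain ⟨g, hg⟩ := MulAction.exists_smul_eq G S Gp
  -- `K' = g K g⁻¹`
  set K' : Subgroup G := K.map (MulAut.conj g).toMonoidHom with hK'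
  have hK'A : Cfsg.Agent.S4411P.Acts q K' := Cfsg.Agent.S4411P.AQ_conj q K g hKA
  have hGp : (Gp : Subgroup G) = (S : Subgroup G).map (MulAut.conj g).toMonoidHom := by
    rw [← hg]; rfl
  have hnorm : (Gp : Subgroup G) ≤ Subgroup.normalizer (K' : Set G) := by
    rw [hGp, hK', ← Subgroup.map_equiv_normalizer_eq K (MulAut.conj g)]
    exact Subgroup.map_mono hSK
  have hK'p : IsPGroup p K' := hKp.map _
  have hle : K' ≤ (Gp : Subgroup G) := by
    have hsup : IsPGroup p ((Gp : Subgroup G) ⊔ K' : Subgroup G) :=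
      IsPGroup.to_sup_of_normal_right' Gp.isPGroup' hK'p hnorm
    have := Gp.is_maximal' hsup le_sup_left
    rw [← this]
    exact le_sup_right
  exact ⟨K', hle, hnorm, (Cfsg.Agent.S4411P.AQ_iff q K').2 hK'A⟩

end Cfsg.Agent.S4411
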