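import Mathlib
import Cfsg.Statements.S4412
import Cfsg.Agent.Helper3.BroadCore
import Cfsg.Agent.Helper1.WreathQuot

set_option autoImplicit false
set_option linter.style.haveILetI false

open Cfsg

namespace Cfsg.Agent.S4412

/-- Let p be an odd prime, P a finite p-group and I an elementary abelian subgroup of order 8 of Aut(P). Call T ∈ I, T ≠ 1, broad when its fixed-point subgroup C_P(T) is not cyclic. Suppose I has a proper subgroup I₀ containing no broad element such that the product of any two broad elements lies in I₀. Then P is abelian of rank exactly 3 (generated by three elements but not by two), there are exactly three broad elements and they generate I, and I₀ is exactly the set of products of two broad elements. -/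
theorem result
    {P : Type*} [Group P] [Finite P] (p : ℕ) (hp : p.Prime) (hp2 : p ≠ 2) (hP : IsPGroup p P)
    (I : Subgroup (MulAut P)) (hI : Cfsg.IsElementaryAbelian 2 I) (hI8 : Nat.card ↥I = 8)
    (I₀ : Subgroup (MulAut P)) (hI₀ : I₀ < I)
    (hdisj : ∀ T ∈ I₀, T ≠ 1 → ∃ g : P, ∀ x : P, (T x = x ↔ x ∈ Subgroup.zpowers g))
    (hprod : ∀ T ∈ I, ∀ T' ∈ I, T ≠ 1 → T' ≠ 1 → (¬ ∃ g : P, ∀ x : P, (T x = x ↔ x ∈ Subgroup.zpowers g)) →
      (¬ ∃ g : P, ∀ x : P, (T' x = x ↔ x ∈ Subgroup.zpowers g)) → T * T' ∈ I₀) :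
    IsMulCommutative P ∧ (∃ a b c : P, Subgroup.closure {a, b, c} = ⊤) ∧ (¬ ∃ a b : P, Subgroup.closure {a, b} = ⊤) ∧
      Nat.card {T : MulAut P // T ∈ I ∧ T ≠ 1 ∧ ¬ ∃ g : P, ∀ x : P, (T x = x ↔ x ∈ Subgroup.zpowers g)} = 3 ∧
      Subgroup.closure {T : MulAut P | T ∈ I ∧ T ≠ 1 ∧ ¬ ∃ g : P, ∀ x : P, (T x = x ↔ x ∈ Subgroup.zpowers g)} = I ∧
      (I₀ : Set (MulAut P)) = {S : MulAut P | ∃ T T' : MulAut P, T ∈ I ∧ T' ∈ I ∧ T ≠ 1 ∧ T' ≠ 1 ∧
        (¬ ∃ g : P, ∀ x : P, (T x = x ↔ x ∈ Subgroup.zpowers g)) ∧ (¬ ∃ g : P, ∀ x : P, (T' x = x ↔ x ∈ Subgroup.zpowers g)) ∧ S = T * T'} := by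
  classical
  haveI : Fact p.Prime := ⟨hp⟩
  haveI : Finite (MulAut P) := Finite.of_injective (fun f : MulAut P => (f : P → P))
    (fun f g h => MulEquiv.ext (congrFun h))
  obtain ⟨hIcomm, hIexp⟩ := hI
  have hIc : ∀ S ∈ I, ∀ T ∈ I, S * T = T * S := fun S hS T hT =>
    congrArg Subtype.val (mul_comm' (⟨S, hS⟩ : I) ⟨T, hT⟩)
  have hI2 : ∀ T ∈ I, T * T = 1 := fun T hT => by rw [← pow_two]; exact hIexp T hT
  -- choose `t`
  obtain ⟨t, htI, htI₀, hprop⟩ : ∃ t ∈ I, t ∉ I₀ ∧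
      ∀ T ∈ I, T ≠ 1 → ¬ Cfsg.Agent.Helper3.Broad.NB T → t * T ∈ I₀ := by
    by_cases hB : ∃ t ∈ I, t ≠ 1 ∧ ¬ Cfsg.Agent.Helper3.Broad.NB t
    · obtain ⟨t, htI, ht1, htB⟩ := hB
      refine ⟨t, htI, fun h => htB (hdisj t h ht1), fun T hT hT1 hTB => ?_⟩
      exact hprod t htI T hT ht1 hT1 htB hTB
    · push Not at hB
      obtain ⟨t, htI, htI₀⟩ := SetLike.exists_of_lt hI₀
      exact ⟨t, htI, htI₀, fun T hT hT1 hTB => absurd (hB T hT hT1) hTB⟩
  -- a hyperplane of `I` containing `I₀` and avoiding `t`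
  letI : CommGroup ↥I := { (inferInstance : Group ↥I) with
    mul_comm := fun x y => Subtype.ext (hIc x x.2 y y.2) }
  set N : Subgroup ↥I := I₀.subgroupOf I with hN
  have hexp : ∀ q : ↥I ⧸ N, q ^ 2 = 1 := by
    intro q
    induction q using QuotientGroup.induction_on with
    | H x =>
      rw [← QuotientGroup.mk_pow]
      have : x ^ 2 = 1 := Subtype.ext (hIexp x x.2)
      rw [this]; rfl
  have hz : (QuotientGroup.mk (⟨t, htI⟩ : ↥I) : ↥I ⧸ N) ≠ 1 := by
    intro h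
    rw [QuotientGroup.eq_one_iff, hN, Subgroup.mem_subgroupOf] at h
    exact htI₀ h
  obtain ⟨Hq, hzHq, hHq2⟩ :=
    Cfsg.Agent.Helper1.WreathQuot.exists_index_p_not_mem (p := 2) hexp _ hz
  set H' : Subgroup ↥I := Hq.comap (QuotientGroup.mk' N) with hH'
  have hH'idx : H'.index = 2 := by
    rw [hH', Subgroup.index_comap_of_surjective Hq (QuotientGroup.mk'_surjective N), hHq2]
  have hH'card : Nat.card H' = 4 := by
    have := Subgroup.card_mul_index H'
    rw [hH'idx, hI8] at this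
    omega
  set J : Subgroup (MulAut P) := H'.map I.subtype with hJ
  have hJI : J ≤ I := Subgroup.map_subtype_le H'
  have hJ4 : Nat.card J = 4 := by
    rw [hJ, Subgroup.card_map_of_injective I.subtype_injective, hH'card]
  have hJNB : ∀ T ∈ J, T ≠ 1 → Cfsg.Agent.Helper3.Broad.NB T := by
    intro T hT hT1
    by_contra hTB
    obtain ⟨T', hT'H, rfl⟩ := hT
    have h1 : t * (T' : MulAut P) ∈ I₀ := hprop _ T'.2 hT1 hTB
    have h2 : (⟨t, htI⟩ : ↥I) * T' ∈ N := by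
      rw [hN, Subgroup.mem_subgroupOf]; exact h1
    have h3 : (⟨t, htI⟩ : ↥I) * T' ∈ H' := by
      rw [hH', Subgroup.mem_comap, QuotientGroup.mk'_apply,
        (QuotientGroup.eq_one_iff _).mpr h2]
      exact one_mem _
    have h4 : (⟨t, htI⟩ : ↥I) ∈ H' := by
      have := H'.mul_mem h3 (H'.inv_mem hT'H)
      rwa [mul_inv_cancel_right] at this
    apply hzHq
    rw [hH', Subgroup.mem_comap, QuotientGroup.mk'_apply] at h4
    exact h4
  obtain ⟨e1, e2, e3, he1I, he2I, he3I, he1, he2, he3, h12, h13, h23, hb1, hb2, hb3, hn23, hn13,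
    hn12, hnz, hall, hcomm, hgen3, hgen2⟩ :=
    Cfsg.Agent.Helper3.Broad.core hp2 hP I hIc hI2 hI8 J hJI hJ4 hJNB
  have hBiff : ∀ T : MulAut P, (T ∈ I ∧ T ≠ 1 ∧
      ¬ ∃ g : P, ∀ x : P, (T x = x ↔ x ∈ Subgroup.zpowers g)) ↔ (T = e1 ∨ T = e2 ∨ T = e3) := by
    intro T
    constructor
    · rintro ⟨hT, hT1, hTB⟩
      rcases hall T hT with h | h | h | h | h | h | h | h
      · exact absurd h hT1
      · exact Or.inl h
      · exact Or.inr (Or.inl h)
      · exact Or.inr (Or.inr h)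
      · rw [h] at hTB; exact absurd hn23 hTB
      · rw [h] at hTB; exact absurd hn13 hTB
      · rw [h] at hTB; exact absurd hn12 hTB
      · rw [h] at hTB; exact absurd hnz hTB
    · rintro (h | h | h)
      · rw [h]; exact ⟨he1I, he1, hb1⟩
      · rw [h]; exact ⟨he2I, he2, hb2⟩
      · rw [h]; exact ⟨he3I, he3, hb3⟩
  have hsq1 := hI2 e1 he1I
  have hsq2 := hI2 e2 he2I
  have hsq3 := hI2 e3 he3I
  refine ⟨⟨⟨hcomm⟩⟩, hgen3, hgen2, ?_, ?_, ?_⟩
  · have hset : {T : MulAut P | T ∈ I ∧ T ≠ 1 ∧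
        ¬ ∃ g : P, ∀ x : P, (T x = x ↔ x ∈ Subgroup.zpowers g)} =
        (({e1, e2, e3} : Finset (MulAut P)) : Set (MulAut P)) := by
      ext T
      rw [Set.mem_ofPred_eq, hBiff]
      simp
    show Nat.card ↥{T : MulAut P | T ∈ I ∧ T ≠ 1 ∧
        ¬ ∃ g : P, ∀ x : P, (T x = x ↔ x ∈ Subgroup.zpowers g)} = 3
    rw [hset, Nat.card_coe_set_eq, Set.ncard_coe_finset]
    exact Finset.card_eq_three.mpr ⟨e1, e2, e3, h12, h13, h23, rfl⟩
  · apply le_antisymm
    · rw [Subgroup.closure_le]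
      intro T hT
      exact hT.1
    · have hm1 : e1 ∈ Subgroup.closure {T : MulAut P | T ∈ I ∧ T ≠ 1 ∧
          ¬ ∃ g : P, ∀ x : P, (T x = x ↔ x ∈ Subgroup.zpowers g)} :=
        Subgroup.subset_closure ((hBiff e1).mpr (Or.inl rfl))
      have hm2 : e2 ∈ Subgroup.closure {T : MulAut P | T ∈ I ∧ T ≠ 1 ∧
          ¬ ∃ g : P, ∀ x : P, (T x = x ↔ x ∈ Subgroup.zpowers g)} :=
        Subgroup.subset_closure ((hBiff e2).mpr (Or.inr (Or.inl rfl)))
      have hm3 : e3 ∈ Subgroup.closure {T : MulAut P | T ∈ I ∧ T ≠ 1 ∧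
          ¬ ∃ g : P, ∀ x : P, (T x = x ↔ x ∈ Subgroup.zpowers g)} :=
        Subgroup.subset_closure ((hBiff e3).mpr (Or.inr (Or.inr rfl)))
      intro T hT
      rcases hall T hT with h | h | h | h | h | h | h | h <;> rw [h]
      · exact one_mem _
      · exact hm1
      · exact hm2
      · exact hm3
      · exact mul_mem hm2 hm3
      · exact mul_mem hm1 hm3
      · exact mul_mem hm1 hm2
      · exact mul_mem (mul_mem hm1 hm2) hm3
  · ext S
    constructor
    · intro hS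
      have hS' : S ∈ I₀ := hS
      rcases hall S (hI₀.le hS') with h | h | h | h | h | h | h | h
      · exact ⟨e1, e1, he1I, he1I, he1, he1, hb1, hb1, by rw [h, hsq1]⟩
      · rw [h] at hS'; exact absurd (hdisj e1 hS' he1) hb1
      · rw [h] at hS'; exact absurd (hdisj e2 hS' he2) hb2
      · rw [h] at hS'; exact absurd (hdisj e3 hS' he3) hb3
      · exact ⟨e2, e3, he2I, he3I, he2, he3, hb2, hb3, h⟩
      · exact ⟨e1, e3, he1I, he3I, he1, he3, hb1, hb3, h⟩
      · exact ⟨e1, e2, he1I, he2I, he1, he2, hb1, hb2, h⟩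
      · exfalso
        rw [h] at hS'
        have h12' : e1 * e2 ∈ I₀ := hprod e1 he1I e2 he2I he1 he2 hb1 hb2
        have h3' : e3 ∈ I₀ := by
          have := I₀.mul_mem (I₀.inv_mem h12') hS'
          rwa [inv_mul_cancel_left] at this
        exact hb3 (hdisj e3 h3' he3)
    · rintro ⟨T, T', hT, hT', hT1, hT'1, hTB, hT'B, rfl⟩
      exact hprod T hT T' hT' hT1 hT'1 hTB hT'B

end Cfsg.Agent.S4412
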