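import Cfsg.Statements.S5432
import Mathlib
import Cfsg.Agent.Helper2.ExtraStd
import Cfsg.Agent.S4416

set_option autoImplicit false
open Cfsg

namespace Cfsg.Agent.S5432

open Cfsg.Agent.Helper2.ExM Cfsg.Agent.Helper3

/-- Let E be an extraspecial 2-group of order 2^(2n+1), n ≥ 1. If E contains an elementary abelian subgroup of order 2^(n+1) (plus type), then its outer automorphism group is isomorphic to the full isometry group of the hyperbolic quadratic form in dimension 2n over the field with two elements; otherwise (minus type) it is isomorphic to the full isometry group of the elliptic quadratic form in dimension 2n over that field. -/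
theorem result {E : Type*} [Group E] [Finite E] (hE : Cfsg.IsExtraspecial 2 E) (n : ℕ) (hn : 1 ≤ n) (hcard : Nat.card E = 2 ^ (2 * n + 1)) : ((∃ A : Subgroup E, Cfsg.IsElementaryAbelian 2 A ∧ Nat.card ↥A = 2 ^ (n + 1)) → Nonempty (Cfsg.Out E ≃* Cfsg.isometryGroup (ZMod 2) (Cfsg.quadFormPlus n (ZMod 2)))) ∧ ((¬ ∃ A : Subgroup E, Cfsg.IsElementaryAbelian 2 A ∧ Nat.card ↥A = 2 ^ (n + 1)) → Nonempty (Cfsg.Out E ≃* Cfsg.isometryGroup (ZMod 2) (Cfsg.quadFormMinus (n - 1) (ZMod 2) 1 1))) := by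
  obtain ⟨z, hz⟩ := Cfsg.Agent.S4416.exists_es2 E hE
  have hgauss := ES2.gauss hz
  rw [hcard] at hgauss
  -- the two possible values of jj
  have hjj : (ES2.jj E : ℤ) = 2 ^ (2 * n) + 2 ^ n ∨ (ES2.jj E : ℤ) = 2 ^ (2 * n) - 2 ^ n := by
    have e1 : (2 : ℤ) * ((2 ^ (2 * n + 1) : ℕ) : ℤ) = (2 ^ (n + 1)) ^ 2 := by
      push_cast; ring
    rw [e1] at hgauss
    rcases sq_eq_sq_iff_eq_or_eq_neg.mp hgauss with h | h
    · left
      push_cast at h
      have e2 : (2 : ℤ) ^ (2 * n + 1) = 2 * 2 ^ (2 * n) := by ring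
      have e3 : (2 : ℤ) ^ (n + 1) = 2 * 2 ^ n := by ring
      linarith
    · right
      push_cast at h
      have e2 : (2 : ℤ) ^ (2 * n + 1) = 2 * 2 ^ (2 * n) := by ring
      have e3 : (2 : ℤ) ^ (n + 1) = 2 * 2 ^ n := by ring
      linarith
  constructor
  · rintro ⟨A, hA, hAcard⟩
    have hEA : ES2.EA A := by
      constructor
      · intro a ha b hb
        exact congrArg Subtype.val (hA.1.is_comm.comm ⟨a, ha⟩ ⟨b, hb⟩)
      · intro a ha
        have := hA.2 a ha
        rwa [pow_two] at this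
    have h1 := ES2.jj_of_large_ea hz A hEA (by rw [hAcard, hcard]; ring)
    rw [hAcard, hcard] at h1
    have hjjE : ES2.jj E = 2 ^ (2 * n) + 2 ^ n := by
      have h2 : (ES2.jj E : ℤ) = ((2 ^ (2 * n) + 2 ^ n : ℕ) : ℤ) := by
        push_cast
        push_cast at h1
        have e2 : (2 : ℤ) ^ (2 * n + 1) = 2 * 2 ^ (2 * n) := by ring
        have e3 : (2 : ℤ) ^ (n + 1) = 2 * 2 ^ n := by ring
        linarith
      exact_mod_cast h2
    obtain ⟨e⟩ := ES2.nonempty_mulEquiv hz (es2_plus n hn) (by rw [hcard, card_plus])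
      (by rw [hjjE, jj_plus n hn])
    obtain ⟨e1⟩ := out_congr e
    obtain ⟨e2⟩ := out_equiv (es2_plus n hn) (Cfsg.quadFormPlus n (ZMod 2))
      (quadPlus_eq n) (nondeg_βp n)
    exact ⟨e1.trans e2⟩
  · intro hno
    have hne : ES2.jj E ≠ 2 ^ (2 * n) + 2 ^ n := by
      intro hj
      obtain ⟨B, -, hB, hBcard⟩ := (ES2.exists_ea_aux n E z hz hcard).2 hj
      apply hno
      refine ⟨B, ⟨⟨⟨fun a b => Subtype.ext (hB.1 a a.2 b b.2)⟩⟩, ?_⟩, hBcard⟩
      intro a ha
      rw [pow_two]; exact hB.2 a ha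
    have hjjE : ES2.jj E + 2 ^ n = 2 ^ (2 * n) := by
      rcases hjj with h | h
      · exfalso
        apply hne
        exact_mod_cast h
      · have h2 : ((ES2.jj E + 2 ^ n : ℕ) : ℤ) = ((2 ^ (2 * n) : ℕ) : ℤ) := by
          push_cast; linarith
        exact_mod_cast h2
    obtain ⟨m, rfl⟩ : ∃ m, n = m + 1 := ⟨n - 1, by omega⟩
    have hjm := jj_minus m
    obtain ⟨e⟩ := ES2.nonempty_mulEquiv hz (es2_minus m) (by rw [hcard, card_minus])
      (by omega)
    obtain ⟨e1⟩ := out_congr e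
    obtain ⟨e2⟩ := out_equiv (es2_minus m) (Cfsg.quadFormMinus m (ZMod 2) 1 1)
      (quadMinus_eq m) (nondeg_βm m)
    exact ⟨e1.trans e2⟩

end Cfsg.Agent.S5432
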