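import Cfsg.Statements.S4414
import Cfsg.Agent.Helper13.S4414CA0
import Cfsg.Agent.Helper22.S4414SMALL
import Cfsg.Agent.Helper4.S4414DESC
import Cfsg.Agent.Helper4.S4414EIG
import Cfsg.Agent.Helper4.S4414NOQ
import Cfsg.Agent.Helper6.S4414Defs
import Cfsg.Agent.Helper6.S4414EQV
import Cfsg.Agent.Helper6.S4414ML

set_option autoImplicit false
open Cfsg
open Module TensorProduct Cfsg.Agent.Helper5.FrobMod Cfsg.Agent.S4414P

namespace Cfsg.Agent.S4414

/-- Let S be a finite solvable group whose order is divisible only by the primes 2, p, q (p, q distinct odd primes), with a Sylow system S₂, S_p, S_q (pairwise permutable Sylow subgroups) such that: S_p is a minimal normal subgroup of S of order p or p²; S_q has order q and [S_p, S_q] = S_p; and O₂(S) = 1. Let E be an irreducible module for S over the field with two elements on which S_p acts faithfully, and E₀ the subspace of fixed points of S₂. Then either E₀ has at least 8 elements,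 or E₀ has exactly 4 elements and S_q does not leave E₀ invariant. -/
theorem result {S : Type*} [Group S] [Finite S]
    [Group.IsSolvable S] (p q : ℕ) (hp : p.Prime) (hq : q.Prime) (hp2 : p ≠ 2) (hq2 : q ≠ 2) (hpq : p ≠ q)
    (hπ : ∀ r : ℕ, r.Prime → r ∣ Nat.card S → r = 2 ∨ r = p ∨ r = q)
    (S₂ : Sylow 2 S) (Sp : Sylow p S) (Sq : Sylow q S)
    (h2q : Nat.card ↥((S₂ : Subgroup S) ⊔ (Sq : Subgroup S)) = Nat.card ↥S₂ * Nat.card ↥Sq)
    (h2p : Nat.card ↥((S₂ : Subgroup S) ⊔ (Sp : Subgroup S)) = Nat.card ↥S₂ * Nat.card ↥Sp)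
    (hpq' : Nat.card ↥((Sp : Subgroup S) ⊔ (Sq : Subgroup S)) = Nat.card ↥Sp * Nat.card ↥Sq)
    (hSpN : (Sp : Subgroup S).Normal) (hSpmin : ∀ N : Subgroup S, N.Normal → N ≤ (Sp : Subgroup S) → N = ⊥ ∨ N = (Sp : Subgroup S))
    (hSpcard : Nat.card ↥Sp = p ∨ Nat.card ↥Sp = p ^ 2)
    (hSq : Nat.card ↥Sq = q) (hcomm : ⁅(Sp : Subgroup S), (Sq : Subgroup S)⁆ = (Sp : Subgroup S))
    (hO2 : Cfsg.pCore 2 S = ⊥)
    {E : Type*} [AddCommGroup E] [Module (ZMod 2) E] [Finite E] (ρ : Representation (ZMod 2) S E) (hE : Nontrivial E)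
    (hirr : ∀ N : Submodule (ZMod 2) E, (∀ s : S, ∀ m ∈ N, ρ s m ∈ N) → N = ⊥ ∨ N = ⊤)
    (hfaith : ∀ x ∈ (Sp : Subgroup S), ρ x = 1 → x = 1) :
    8 ≤ Nat.card {v : E // ∀ s ∈ (S₂ : Subgroup S), ρ s v = v} ∨
      (Nat.card {v : E // ∀ s ∈ (S₂ : Subgroup S), ρ s v = v} = 4 ∧
        ∃ x ∈ (Sq : Subgroup S), ∃ v : E, (∀ s ∈ (S₂ : Subgroup S), ρ s v = v) ∧ ¬ ∀ s ∈ (S₂ : Subgroup S), ρ s (ρ x v) = ρ x v) := by
  classical
  haveI : Fact p.Prime := ⟨hp⟩
  haveI : Fact q.Prime := ⟨hq⟩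
  haveI : (Sp : Subgroup S).Normal := hSpN
  -- the field
  let K := AlgebraicClosure (ZMod 2)
  haveI : CharP K 2 := charP_of_injective_algebraMap (algebraMap (ZMod 2) K).injective 2
  haveI : FiniteDimensional (ZMod 2) E := Module.Finite.of_finite
  -- facts on `A = Sp`
  have hSpcard : Nat.card ↥(Sp : Subgroup S) = p ∨ Nat.card ↥(Sp : Subgroup S) = p ^ 2 := hSpcard
  have hSq : Nat.card ↥(Sq : Subgroup S) = q := hSq
  have h2q : Nat.card ↥((S₂ : Subgroup S) ⊔ (Sq : Subgroup S))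
      = Nat.card ↥(S₂ : Subgroup S) * Nat.card ↥(Sq : Subgroup S) := h2q
  have hAcard : 1 < Nat.card ↥(Sp : Subgroup S) := by
    rcases hSpcard with h | h
    · rw [h]; exact hp.one_lt
    · rw [h]; exact Nat.one_lt_pow (by norm_num) hp.one_lt
  have hA1 : (Sp : Subgroup S) ≠ ⊥ := by
    intro h
    rw [h, Subgroup.card_bot] at hAcard
    exact lt_irrefl _ hAcard
  have hAcomm : ∀ a ∈ (Sp : Subgroup S), ∀ b ∈ (Sp : Subgroup S), a * b = b * a := by
    have hc : ∀ a b : ↥(Sp : Subgroup S), a * b = b * a := by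
      rcases hSpcard with h | h
      · haveI := isCyclic_of_prime_card h
        intro a b
        exact IsCyclic.commGroup.mul_comm a b
      · intro a b
        exact IsPGroup.commutative_of_card_eq_prime_sq (p := p) h a b
    intro a ha b hb
    have := hc ⟨a, ha⟩ ⟨b, hb⟩
    exact congrArg Subtype.val this
  have hpK : (p : K) ≠ 0 := by
    intro h
    have h2 : 2 ∣ p := (CharP.cast_eq_zero_iff K 2 p).mp h
    rcases (Nat.dvd_prime hp).mp h2 with h3 | h3
    · exact absurd h3 (by norm_num)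
    · exact hp2 h3.symm
  have hAK : (Nat.card ↥(Sp : Subgroup S) : K) ≠ 0 := by
    rcases hSpcard with h | h
    · rw [h]; exact hpK
    · rw [h, Nat.cast_pow]; exact pow_ne_zero 2 hpK
  -- the representation over `K`
  have hA0 : fixOf ρ (Sp : Subgroup S) = ⊥ := CA0 ρ (Sp : Subgroup S) hA1 hirr hfaith
  have hA0' : fixOf (baseChangeRep ρ K) (Sp : Subgroup S) = ⊥ := by
    have h1 := DESC ρ K (Sp : Subgroup S)
    rw [hA0, finrank_bot] at h1
    exact Submodule.finrank_eq_zero.mp h1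
  haveI : Nontrivial (K ⊗[ZMod 2] E) := by
    apply Module.nontrivial_of_finrank_pos (R := K)
    rw [Module.finrank_baseChange]
    exact Module.finrank_pos
  letI : MulAction S (↥(Sp : Subgroup S) → K) := wtAct (Sp : Subgroup S)
  obtain ⟨hind, htop⟩ := EIG (baseChangeRep ρ K) (Sp : Subgroup S) hAcomm hAK
  have hG : Graded (baseChangeRep ρ K) (eigS (baseChangeRep ρ K) (Sp : Subgroup S)) :=
    ⟨hind, htop, fun g χ => EQV (baseChangeRep ρ K) (Sp : Subgroup S) g χ⟩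
  have hML := ML (baseChangeRep ρ K) hG (S₂ : Subgroup S) ((S₂ : Subgroup S) ⊔ (Sq : Subgroup S)) le_sup_left
    S₂.isPGroup' hq hq2 (by rw [h2q, hSq])
    (fun χ hχ g _ hgχ hgo => NOQ (baseChangeRep ρ K) (Sp : Subgroup S) hA0' Sq hSq hcomm χ hχ g hgo hgχ)
  rw [DESC ρ K, DESC ρ K] at hML
  -- cardinalities
  have hcardE0 : Nat.card {v : E // ∀ s ∈ (S₂ : Subgroup S), ρ s v = v}
      = 2 ^ finrank (ZMod 2) (fixOf ρ (S₂ : Subgroup S)) := by
    have h1 := Module.natCard_eq_pow_finrank (K := ZMod 2) (V := ↥(fixOf ρ (S₂ : Subgroup S)))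
    rw [Nat.card_zmod] at h1
    exact h1
  rcases Nat.lt_or_ge (finrank (ZMod 2) (fixOf ρ (S₂ : Subgroup S))) 3 with h | h
  · right
    have h2 : finrank (ZMod 2) (fixOf ρ (S₂ : Subgroup S)) = 2 := by omega
    refine ⟨by rw [hcardE0, h2]; norm_num, ?_⟩
    exact SMALL ρ (S₂ : Subgroup S) (Sq : Subgroup S) hq hq2 hSq h2 (hML.2 (by omega))
  · left
    rw [hcardE0]
    calc 8 = 2 ^ 3 := by norm_num
      _ ≤ 2 ^ finrank (ZMod 2) (fixOf ρ (S₂ : Subgroup S)) := Nat.pow_le_pow_right (by norm_num) h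

end Cfsg.Agent.S4414
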