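import Cfsg.Statements.S4417
-- import your own Cfsg.Agent.* helpers here
import Cfsg.Agent.Helper11.GLDerG

set_option autoImplicit false
open Cfsg

namespace Cfsg.Agent.S4417

/-- Let F be a field with q elements, p a prime not dividing q, and e the multiplicative order of q modulo p; assume e ≤ n. Then every p-subgroup of GL_n(F) has derived length at most ⌊log₂(n/e)⌋ + 1: that term of its derived series is trivial (n/e is the integer quotient). -/
theorem result {F : Type*} [Field F] [Fintype F] (q : ℕ) (hF : Fintype.card F = q) (p : ℕ) [Fact p.Prime] (hpq : ¬ p ∣ q) (n e : ℕ) (he : e = orderOf (q : ZMod p)) (hen : e ≤ n) (P : Subgroup (GL (Fin n) F)) (hP : IsPGroup p P) : derivedSeries ↥P (Nat.log 2 (n / e) + 1) = ⊥ := by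
  subst hF
  subst he
  rw [Cfsg.Agent.Helper14.SylSn.derivedSeries_eq_bot_iff]
  by_cases hp : p = 2
  · subst hp
    have hodd : Odd (Fintype.card F) := by
      rw [← Nat.not_even_iff_odd, even_iff_two_dvd]; exact hpq
    have h1 : ((Fintype.card F : ℕ) : ZMod 2) = 1 := ZMod.natCast_eq_one_iff_odd.mpr hodd
    rw [h1, orderOf_one] at hen ⊢
    rw [Nat.div_one]
    exact Cfsg.Agent.Helper11.GLDer.main_two hodd n hen P hP
  · obtain ⟨P', hP'⟩ := hP.exists_le_sylow
    have h1 := (Cfsg.Agent.Helper11.GLDer.main p hp hpq n hen P').1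
    have hp2 : 2 ≤ p := (Fact.out : p.Prime).two_le
    have hlog : Nat.log p (n / orderOf ((Fintype.card F : ℕ) : ZMod p)) ≤
        Nat.log 2 (n / orderOf ((Fintype.card F : ℕ) : ZMod p)) :=
      Nat.log_anti_left (by norm_num) hp2
    exact Cfsg.Agent.Helper14.SylSn.dS_bot_of_le hP'
      (Cfsg.Agent.Helper11.GLDer.dS_eq_bot_of_le _ (by omega) h1)

end Cfsg.Agent.S4417
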