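import Cfsg.Statements.S4419
import Cfsg.Agent.Helper21.MetaNPC

set_option autoImplicit false
set_option linter.style.haveILetI false
open Cfsg

namespace Cfsg.Agent.S4419

/-- Let p be a prime and G a finite group whose Sylow p-subgroups are metacyclic (a cyclic normal subgroup with cyclic quotient). Then G has a normal p-complement if and only if the order of G/O_{p′,p}(G) is coprime to p² − 1. -/
theorem result {G : Type*} [Group G] [Finite G] (p : ℕ) [Fact p.Prime] (S : Sylow p G) (hS : Cfsg.IsMetacyclic ↥(S : Subgroup G)) : Cfsg.HasNormalPComplement p G ↔ Nat.Coprime (Nat.card (G ⧸ Cfsg.pPrimePCore p G)) (p ^ 2 - 1) := by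
  have hp : p.Prime := Fact.out
  set N := Cfsg.pPrimeCore p G with hNdef
  haveI hNn : N.Normal := Subgroup.sSup_normal _ (fun _ h => h.1)
  have hNcop : (Nat.card N).Coprime p := Cfsg.Agent.Helper19.pPrimeCore_coprime p
  constructor
  · rintro ⟨P, K, hKn, hKc⟩
    have hcard : Nat.card K * Nat.card (P : Subgroup G) = Nat.card G := hKc.card_mul_card
    have hKidx : Nat.card K = (P : Subgroup G).index := by
      have h1 := (P : Subgroup G).card_mul_index
      have hpos : 0 < Nat.card (P : Subgroup G) := Nat.card_pos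
      rw [← hcard, mul_comm (Nat.card K)] at h1
      exact (Nat.eq_of_mul_eq_mul_left hpos h1).symm
    have hKcop : (Nat.card K).Coprime p := by
      rw [hKidx, Nat.coprime_comm, Nat.Prime.coprime_iff_not_dvd hp]
      exact P.not_dvd_index
    have hKN : K ≤ N := le_sSup ⟨hKn, hKcop⟩
    have hpg : IsPGroup p (G ⧸ N) := by
      obtain ⟨n, hn⟩ := IsPGroup.iff_card.mp P.isPGroup'
      have h1 : N.index ∣ K.index := Subgroup.index_dvd_of_le hKN
      have h2 : K.index = p ^ n := by
        have h3 := K.card_mul_index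
        rw [← hcard, hn] at h3
        exact Nat.eq_of_mul_eq_mul_left Nat.card_pos h3
      rw [h2] at h1
      obtain ⟨j, -, hj⟩ := (Nat.dvd_prime_pow hp).mp h1
      apply IsPGroup.of_card (n := j)
      rw [← Subgroup.index_eq_card]
      exact hj
    have htop : Cfsg.pPrimePCore p G = ⊤ := by
      unfold Cfsg.pPrimePCore
      have h1 : Cfsg.pCore p (G ⧸ Cfsg.pPrimeCore p G) = ⊤ := by
        apply top_le_iff.mp
        apply Cfsg.Agent.Helper14.le_pCore p inferInstance
        exact hpg.to_subgroup ⊤
      rw [h1, Subgroup.comap_top]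
    have h1 : Nat.card (G ⧸ Cfsg.pPrimePCore p G) = 1 := by
      haveI : (Cfsg.pPrimePCore p G).Normal := by rw [htop]; infer_instance
      rw [← Subgroup.index_eq_card, htop, Subgroup.index_top]
    rw [h1]
    exact Nat.coprime_one_left _
  · intro hcop
    set K := Cfsg.pPrimePCore p G with hKdef
    haveI hKn : K.Normal := by
      rw [hKdef]; unfold Cfsg.pPrimePCore; infer_instance
    -- p'-elements of K lie in N
    have hKN : ∀ (r : ℕ) [Fact r.Prime], r ≠ p → ∀ (h : G) (a : ℕ), h ^ r ^ a = 1 → h ∈ K → h ∈ N := by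
      intro r hr hrp h a hh hhK
      have h1 : (QuotientGroup.mk' N h) ∈ Cfsg.pCore p (G ⧸ N) := hhK
      obtain ⟨k, hk⟩ := (Cfsg.Agent.Helper14.pCore_isPGroup (G := G ⧸ N) p) ⟨_, h1⟩
      have hk' : (QuotientGroup.mk' N h) ^ p ^ k = 1 := congrArg Subtype.val hk
      have hh' : (QuotientGroup.mk' N h) ^ r ^ a = 1 := by rw [← map_pow, hh, map_one]
      have h3 : orderOf (QuotientGroup.mk' N h) ∣ Nat.gcd (p ^ k) (r ^ a) :=
        Nat.dvd_gcd (orderOf_dvd_of_pow_eq_one hk') (orderOf_dvd_of_pow_eq_one hh')
      have h4 : Nat.Coprime (p ^ k) (r ^ a) :=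
        Nat.Coprime.pow _ _ ((Nat.coprime_primes hp hr.out).mpr (Ne.symm hrp))
      rw [h4] at h3
      have h5 := orderOf_eq_one_iff.mp (Nat.dvd_one.mp h3)
      exact (QuotientGroup.eq_one_iff h).mp h5
    -- prime power case
    have hA : ∀ Q : Subgroup G, Q ≤ (S : Subgroup G) → ∀ (r : ℕ) [Fact r.Prime], r ≠ p →
        ∀ (h : G) (a : ℕ), h ∈ Subgroup.normalizer (Q : Set G) → h ^ r ^ a = 1 →
        h ∈ Subgroup.centralizer (Q : Set G) := by
      intro Q hQS r hr hrp h a hhN hh
      have hQp : IsPGroup p Q := S.isPGroup'.to_le hQS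
      by_cases hdvd : r ∣ p ^ 2 - 1
      · -- h ∈ K
        have hrc : (Nat.card (G ⧸ K)).Coprime (r ^ a) :=
          Nat.Coprime.pow_right _ (Nat.Coprime.coprime_dvd_right hdvd hcop)
        have hhK : h ∈ K := by
          have h1 : (QuotientGroup.mk' K h) ^ r ^ a = 1 := by rw [← map_pow, hh, map_one]
          have h2 : orderOf (QuotientGroup.mk' K h) ∣ Nat.gcd (Nat.card (G ⧸ K)) (r ^ a) :=
            Nat.dvd_gcd (orderOf_dvd_natCard _) (orderOf_dvd_of_pow_eq_one h1)
          rw [hrc] at h2
          have h3 := orderOf_eq_one_iff.mp (Nat.dvd_one.mp h2)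
          exact (QuotientGroup.eq_one_iff h).mp h3
        have hhN' : h ∈ N := hKN r hrp h a hh hhK
        have hQN : Q ⊓ N = ⊥ := by
          apply disjoint_iff.mp
          apply Subgroup.disjoint_of_coprime_natCard
          obtain ⟨n, hn⟩ := IsPGroup.iff_card.mp hQp
          rw [hn]
          exact Nat.Coprime.pow_left _ hNcop.symm
        rw [Subgroup.mem_centralizer_iff]
        intro q hq
        have hc : h * q * h⁻¹ * q⁻¹ ∈ Q ⊓ N := by
          refine Subgroup.mem_inf.mpr ⟨?_, ?_⟩
          · exact Q.mul_mem ((Subgroup.mem_normalizer_iff.mp hhN q).mp hq) (Q.inv_mem hq)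
          · have : h * q * h⁻¹ * q⁻¹ = h * (q * h⁻¹ * q⁻¹) := by group
            rw [this]
            exact N.mul_mem hhN' (hNn.conj_mem _ (N.inv_mem hhN') q)
        rw [hQN, Subgroup.mem_bot] at hc
        have : h * q = q * h := by
          have h1 : h * q * h⁻¹ * q⁻¹ * (q * h) = q * h := by rw [hc, one_mul]
          rw [← h1]; group
        exact this.symm
      · -- use the automorphism
        let NQ := Subgroup.normalizer (Q : Set G)
        let Q' : Subgroup NQ := Q.subgroupOf NQ
        haveI : Q'.Normal := Subgroup.normal_in_normalizer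
        have hQ'p : IsPGroup p Q' := hQp.comap_subtype
        have hQ'm : Cfsg.IsMetacyclic Q' := by
          let f : Q' →* (S : Subgroup G) :=
            ((NQ.subtype).comp Q'.subtype).codRestrict (S : Subgroup G)
              (fun x => hQS (Subgroup.mem_subgroupOf.mp x.2))
          have hf : Function.Injective f := by
            intro x y hxy
            have h1 : ((x : NQ) : G) = ((y : NQ) : G) := congrArg (fun z : (S : Subgroup G) => (z : G)) hxy
            exact Subtype.ext (Subtype.ext h1)
          exact Cfsg.Agent.Helper21.MetaNPC.isMetacyclic_of_injective f hf hS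
        let h' : NQ := ⟨h, hhN⟩
        have hφ : (MulAut.conjNormal h' : MulAut Q') ^ r ^ a = 1 := by
          rw [← map_pow]
          have : h' ^ r ^ a = 1 := Subtype.ext (by simpa using hh)
          rw [this, map_one]
        have hone := Cfsg.Agent.Helper21.MetaNPC.aut_eq_one hrp hQ'p hQ'm hdvd _ a hφ
        rw [Subgroup.mem_centralizer_iff]
        intro q hq
        let q' : Q' := ⟨⟨q, Subgroup.le_normalizer hq⟩, Subgroup.mem_subgroupOf.mpr hq⟩
        have h1 : (MulAut.conjNormal h' : MulAut Q') q' = q' := by rw [hone]; rfl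
        have h2 : (((MulAut.conjNormal h' : MulAut Q') q' : Q') : NQ) = h' * q' * h'⁻¹ :=
          MulAut.conjNormal_apply h' q'
        rw [h1] at h2
        have h3 : q = h * q * h⁻¹ := congrArg Subtype.val h2
        have : q * h = h * q := by
          calc q * h = (h * q * h⁻¹) * h := by rw [← h3]
            _ = h * q := by group
        exact this
    -- general case by strong induction on the order
    have hB : ∀ Q : Subgroup G, Q ≤ (S : Subgroup G) → ∀ n : ℕ, ∀ g : G,
        g ∈ Subgroup.normalizer (Q : Set G) → orderOf g = n → n.Coprime p →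
        g ∈ Subgroup.centralizer (Q : Set G) := by
      intro Q hQS n
      induction n using Nat.strong_induction_on with
      | _ n ih =>
        intro g hgN hgn hnp
        by_cases hn1 : n = 1
        · rw [hn1, orderOf_eq_one_iff] at hgn
          rw [hgn]; exact Subgroup.one_mem _
        have hn0 : n ≠ 0 := by
          rw [← hgn]; exact (orderOf_pos g).ne'
        let r := n.minFac
        have hrprime : r.Prime := Nat.minFac_prime hn1
        haveI : Fact r.Prime := ⟨hrprime⟩
        have hrn : r ∣ n := Nat.minFac_dvd n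
        have hrp : r ≠ p := by
          intro h
          have : p ∣ Nat.gcd n p := Nat.dvd_gcd (h ▸ hrn) dvd_rfl
          rw [hnp] at this
          exact hp.one_lt.ne' (Nat.dvd_one.mp this)
        obtain ⟨a, s, hs, hnas⟩ := Nat.exists_eq_pow_mul_and_not_dvd hn0 r hrprime.ne_one
        by_cases hs1 : s = 1
        · rw [hs1, mul_one] at hnas
          apply hA Q hQS r hrp g a hgN
          rw [← hnas, ← hgn]; exact pow_orderOf_eq_one g
        · have ha0 : a ≠ 0 := by
            intro h
            rw [h, pow_zero, one_mul] at hnas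
            exact hs (hnas ▸ hrn)
          have hs0 : s ≠ 0 := by
            intro h; rw [h, mul_zero] at hnas; exact hn0 hnas
          have hcop : Nat.Coprime (r ^ a) s :=
            Nat.Coprime.pow_left _ ((Nat.Prime.coprime_iff_not_dvd hrprime).mpr hs)
          have ho1 : orderOf (g ^ r ^ a) = s := by
            rw [orderOf_pow_of_dvd (pow_ne_zero _ hrprime.ne_zero) (by rw [hgn, hnas]; exact dvd_mul_right _ _),
              hgn, hnas, Nat.mul_div_cancel_left _ (pow_pos hrprime.pos _)]
          have ho2 : orderOf (g ^ s) = r ^ a := by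
            rw [orderOf_pow_of_dvd hs0 (by rw [hgn, hnas]; exact dvd_mul_left _ _),
              hgn, hnas, Nat.mul_div_cancel _ (Nat.pos_of_ne_zero hs0)]
          have hlt1 : s < n := by
            rw [hnas]
            have : 1 < r ^ a := Nat.one_lt_pow ha0 hrprime.one_lt
            nlinarith [Nat.pos_of_ne_zero hs0]
          have hlt2 : r ^ a < n := by
            rw [hnas]
            have : 1 < s := by omega
            nlinarith [pow_pos hrprime.pos a]
          have hc1 : s.Coprime p := Nat.Coprime.coprime_dvd_left (hnas ▸ dvd_mul_left _ _) hnp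
          have hc2 : (r ^ a).Coprime p := Nat.Coprime.coprime_dvd_left (hnas ▸ dvd_mul_right _ _) hnp
          have hm1 := ih s hlt1 (g ^ r ^ a) (Subgroup.pow_mem _ hgN _) ho1 hc1
          have hm2 := ih (r ^ a) hlt2 (g ^ s) (Subgroup.pow_mem _ hgN _) ho2 hc2
          exact Cfsg.Agent.Helper21.FrattiniResidual.mem_of_pow_mem_of_coprime _ g hcop hm1 hm2
    refine ⟨S, (Cfsg.Agent.S0071.result S).mpr ?_⟩
    intro Q hQS g hg hgp
    exact hB Q hQS _ g hg rfl hgp

end Cfsg.Agent.S4419
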