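import Cfsg.Statements.S4420
import Mathlib

set_option autoImplicit false
open Cfsg

namespace Cfsg.Agent.S4420

theorem inv_eq_self_of_sq {H : Type*} [Group H] (x : H) (hx : x ^ 2 = 1) : x⁻¹ = x := by
  rw [pow_two] at hx
  exact inv_eq_of_mul_eq_one_left hx

/-- Case of an elementary abelian 2-group. -/
theorem case_elem {H : Type*} [Group H] [Finite H] (A : Subgroup H) (hA : A ≠ ⊤)
    (hE : ∀ x : H, x ^ 2 = 1) :
    ∃ B : Subgroup H, B.Normal ∧ IsMulCommutative ↥B ∧ B.index = 2 ∧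
      (∀ x : H, x ∉ B → x ^ 2 = 1 ∧ ∀ b ∈ B, x * b * x⁻¹ = b⁻¹) ∧
      (¬ (IsMulCommutative H ∧ ∀ x : H, x ^ 2 = 1) →
        ∀ B' : Subgroup H, B'.Normal → IsMulCommutative ↥B' → B'.index = 2 →
          (∀ x : H, x ∉ B' → x ^ 2 = 1 ∧ ∀ b ∈ B', x * b * x⁻¹ = b⁻¹) → B' = B) := by
  have hinv : ∀ x : H, x⁻¹ = x := fun x => inv_eq_self_of_sq x (hE x)
  have hcomm : ∀ a b : H, a * b = b * a := by
    intro a b
    calc a * b = (a * b)⁻¹ := (hinv _).symm
      _ = b⁻¹ * a⁻¹ := mul_inv_rev a b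
      _ = b * a := by rw [hinv, hinv]
  have hp : IsPGroup 2 H := fun g => ⟨1, by simpa using hE g⟩
  obtain ⟨n, hn⟩ := IsPGroup.iff_card.1 hp
  have hn0 : n ≠ 0 := by
    rintro rfl
    rw [pow_zero] at hn
    haveI := (Nat.card_eq_one_iff_unique.1 hn).1
    apply hA
    rw [eq_top_iff]
    intro x _
    rw [Subsingleton.elim x 1]
    exact A.one_mem
  obtain ⟨m, rfl⟩ : ∃ m, n = m + 1 := Nat.exists_eq_succ_of_ne_zero hn0
  haveI : Fact (Nat.Prime 2) := ⟨Nat.prime_two⟩
  obtain ⟨K, hK⟩ := Sylow.exists_subgroup_card_pow_prime 2 (G := H) (n := m)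
    (by rw [hn]; exact pow_dvd_pow 2 (Nat.le_succ m))
  have hidx : K.index = 2 := by
    have h1 := Subgroup.card_mul_index K
    rw [hK, hn, pow_succ] at h1
    exact Nat.eq_of_mul_eq_mul_left (by positivity) h1
  refine ⟨K, ⟨fun k hk g => ?_⟩, IsMulCommutative.of_comm (fun a b => Subtype.ext (hcomm a b)),
    hidx, fun x _ => ⟨hE x, fun b _ => ?_⟩, fun hne => ?_⟩
  · rw [hcomm g k, mul_assoc, mul_inv_cancel, mul_one]
    exact hk
  · rw [hcomm x b, mul_assoc, mul_inv_cancel, mul_one, hinv]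
  · exact absurd ⟨IsMulCommutative.of_comm hcomm, hE⟩ hne

/-- Structure of groups in which every element outside some proper subgroup has square 1. -/
theorem result {H : Type*} [Group H] [Finite H] (A : Subgroup H) (hA : A ≠ ⊤) (hD : ∀ x : H, x ∉ A → x ^ 2 = 1) :
    ∃ B : Subgroup H, B.Normal ∧ IsMulCommutative ↥B ∧ B.index = 2 ∧
      (∀ x : H, x ∉ B → x ^ 2 = 1 ∧ ∀ b ∈ B, x * b * x⁻¹ = b⁻¹) ∧
      (¬ (IsMulCommutative H ∧ ∀ x : H, x ^ 2 = 1) →
        ∀ B' : Subgroup H, B'.Normal → IsMulCommutative ↥B' → B'.index = 2 →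
          (∀ x : H, x ∉ B' → x ^ 2 = 1 ∧ ∀ b ∈ B', x * b * x⁻¹ = b⁻¹) → B' = B) := by
  by_cases hE : ∀ x : H, x ^ 2 = 1
  · exact case_elem A hA hE
  · obtain ⟨h, hh⟩ : ∃ h : H, h ^ 2 ≠ 1 := by
      by_contra hcon
      exact hE (fun x => by_contra (fun hx => hcon ⟨x, hx⟩))
    have hhA : h ∈ A := by
      by_contra hcon
      exact hh (hD h hcon)
    obtain ⟨t, ht⟩ : ∃ t : H, t ∉ A := by
      by_contra hcon
      apply hA
      rw [eq_top_iff]
      intro x _
      by_contra hx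
      exact hcon ⟨x, hx⟩
    -- elements outside A invert A
    have hinvA : ∀ s : H, s ∉ A → ∀ a ∈ A, s * a * s⁻¹ = a⁻¹ := by
      intro s hs a ha
      have hsa : s * a ∉ A := fun hc => hs (by simpa using A.mul_mem hc (A.inv_mem ha))
      have h1 := hD _ hsa
      rw [pow_two] at h1
      rw [inv_eq_self_of_sq s (hD s hs)]
      have h2 : s * a * s * a = 1 := by simpa [mul_assoc] using h1
      exact eq_inv_of_mul_eq_one_left h2
    have hh_ne : h⁻¹ ≠ h := by
      intro hc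
      apply hh
      rw [pow_two]
      nth_rewrite 1 [← hc]
      exact inv_mul_cancel h
    have hcoset : ∀ s : H, s ∉ A → s * t ∈ A := by
      intro s hs
      by_contra hst
      have h1 := hinvA (s * t) hst h hhA
      have h2 : s * t * h * (s * t)⁻¹ = s * (t * h * t⁻¹) * s⁻¹ := by group
      rw [h2, hinvA t ht h hhA, hinvA s hs h⁻¹ (A.inv_mem hhA), inv_inv] at h1
      exact hh_ne h1.symm
    have hidx : A.index = 2 := by
      rw [Subgroup.index_eq_two_iff]
      refine ⟨t, fun b => ?_⟩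
      by_cases hb : b ∈ A
      · right
        refine ⟨hb, fun hc => ht ?_⟩
        simpa using A.mul_mem (A.inv_mem hb) hc
      · left
        exact ⟨hcoset b hb, hb⟩
    have hcommA : ∀ a ∈ A, ∀ b ∈ A, a * b = b * a := by
      intro a ha b hb
      have h1 := hinvA t ht (a * b) (A.mul_mem ha hb)
      have h2 : t * (a * b) * t⁻¹ = (t * a * t⁻¹) * (t * b * t⁻¹) := by group
      rw [h2, hinvA t ht a ha, hinvA t ht b hb, mul_inv_rev] at h1
      have h3 := congrArg Inv.inv h1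
      simpa using h3.symm
    haveI hnorm : A.Normal := Subgroup.normal_of_index_eq_two hidx
    have hAc : IsMulCommutative ↥A :=
      IsMulCommutative.of_comm (fun a b => Subtype.ext (hcommA a a.2 b b.2))
    refine ⟨A, hnorm, hAc, hidx, fun x hx => ⟨hD x hx, hinvA x hx⟩, ?_⟩
    intro _ B' _ hB'c _ hB'
    have hcommB' : ∀ a ∈ B', ∀ b ∈ B', a * b = b * a := by
      intro a ha b hb
      have := (isMulCommutative_iff.1 hB'c) ⟨a, ha⟩ ⟨b, hb⟩
      exact congrArg Subtype.val this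
    have hhB' : h ∈ B' := by
      by_contra hcon
      exact hh (hB' h hcon).1
    ext y
    constructor
    · intro hy
      by_contra hyA
      have h1 := hinvA y hyA h hhA
      rw [hcommB' y hy h hhB', mul_assoc, mul_inv_cancel, mul_one] at h1
      exact hh_ne h1.symm
    · intro hy
      by_contra hyB
      have h1 := (hB' y hyB).2 h hhB'
      rw [hcommA y hy h hhA, mul_assoc, mul_inv_cancel, mul_one] at h1
      exact hh_ne h1.symm

end Cfsg.Agent.S4420
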