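import Cfsg.Statements.S4421
import Mathlib

set_option autoImplicit false
open Cfsg

namespace Cfsg.Agent.S4421

variable {G : Type*} [Group G]

theorem cmap_mul (K : Subgroup G) (a b : G) :
    (K.map (MulAut.conj a).toMonoidHom).map (MulAut.conj b).toMonoidHom
      = K.map (MulAut.conj (b * a)).toMonoidHom := by
  rw [Subgroup.map_map]
  congr 1
  ext x
  simp [mul_assoc]

theorem cmap_one (K : Subgroup G) : K.map (MulAut.conj (1 : G)).toMonoidHom = K := by
  ext x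
  simp

theorem mem_norm_iff (K : Subgroup G) (g : G) :
    g ∈ Subgroup.normalizer (K : Set G) ↔ K.map (MulAut.conj g).toMonoidHom = K :=
  Subgroup.mem_normalizer_iff_map_conj_eq

theorem cmap_of_mem (K : Subgroup G) (s : G) (hs : s ∈ K) :
    K.map (MulAut.conj s).toMonoidHom = K :=
  (mem_norm_iff K s).1 (Subgroup.le_normalizer hs)

theorem result {G : Type*} [Group G] [Finite G] (A S H : Subgroup G)
    (hAS : A ≤ S) (hSH : S ≤ H)
    (h1 : ∀ g : G, A.map (MulAut.conj g).toMonoidHom ≤ S → ∃ s ∈ S, A.map (MulAut.conj g).toMonoidHom = A.map (MulAut.conj s).toMonoidHom)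
    (h2 : ∀ g : G, S.map (MulAut.conj g).toMonoidHom ≤ H → ∃ y ∈ H, S.map (MulAut.conj g).toMonoidHom = S.map (MulAut.conj y).toMonoidHom)
    (h3 : ∀ x ∈ Subgroup.normalizer (A : Set G), S.map (MulAut.conj x).toMonoidHom ≤ H) :
    ∀ x ∈ Subgroup.normalizer (A : Set G), ∃ y ∈ H ⊓ Subgroup.normalizer (A : Set G),
      ∃ z ∈ Subgroup.normalizer (S : Set G) ⊓ Subgroup.normalizer (A : Set G), x = y * z := by
  intro x hx
  have hxA : A.map (MulAut.conj x).toMonoidHom = A := (mem_norm_iff A x).1 hx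
  obtain ⟨y, hyH, hy⟩ := h2 x (h3 x hx)
  -- y⁻¹ x normalizes S
  have hyx : S.map (MulAut.conj (y⁻¹ * x)).toMonoidHom = S := by
    rw [← cmap_mul, hy, cmap_mul, inv_mul_cancel, cmap_one]
  -- y⁻¹ A y ≤ S
  have hAy : A.map (MulAut.conj y⁻¹).toMonoidHom ≤ S := by
    have h4 : A.map (MulAut.conj x).toMonoidHom ≤ S.map (MulAut.conj x).toMonoidHom :=
      Subgroup.map_mono hAS
    rw [hxA, hy] at h4
    have h5 := Subgroup.map_mono (f := (MulAut.conj y⁻¹).toMonoidHom) h4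
    rw [cmap_mul, inv_mul_cancel, cmap_one] at h5
    exact h5
  obtain ⟨s, hsS, hs⟩ := h1 y⁻¹ hAy
  have hysA : A.map (MulAut.conj (y * s)).toMonoidHom = A := by
    rw [← cmap_mul, ← hs, cmap_mul, mul_inv_cancel, cmap_one]
  have hysN : y * s ∈ Subgroup.normalizer (A : Set G) := (mem_norm_iff A _).2 hysA
  have hzS : (y * s)⁻¹ * x ∈ Subgroup.normalizer (S : Set G) := by
    rw [mem_norm_iff]
    have : (y * s)⁻¹ * x = s⁻¹ * (y⁻¹ * x) := by group
    rw [this, ← cmap_mul, hyx]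
    exact cmap_of_mem S _ (S.inv_mem hsS)
  have hzA : (y * s)⁻¹ * x ∈ Subgroup.normalizer (A : Set G) :=
    Subgroup.mul_mem _ (Subgroup.inv_mem _ hysN) hx
  exact ⟨y * s, ⟨H.mul_mem hyH (hSH hsS), hysN⟩, (y * s)⁻¹ * x, ⟨hzS, hzA⟩, by group⟩

end Cfsg.Agent.S4421
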