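import Cfsg.Statements.S4423
import Mathlib
import Cfsg.Agent.Helper17.Zsigmondy4

set_option autoImplicit false
open Cfsg

namespace Cfsg.Agent.S4423

/-- the thirteen exceptional pairs -/
def L13 : List (ℕ × ℕ) :=
  [(2, 6), (2, 4), (2, 10), (2, 12), (2, 18), (3, 4), (3, 6), (5, 6), (2, 3), (2, 8), (2, 20),
    (4, 3), (4, 6)]

/-- explicit primitive divisors for the pairs of `TList` outside `L13` -/
def W : List (ℕ × ℕ × ℕ) :=
  [(2, 5, 31), (2, 14, 43), (2, 15, 151), (3, 3, 13), (3, 10, 61), (3, 12, 73), (4, 4, 17),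
    (6, 6, 31)]

set_option maxRecDepth 100000 in
theorem W_spec : ∀ x ∈ W, x.2.2 ∣ x.1 ^ x.2.1 - 1 ∧
    (∀ i : ℕ, 1 ≤ i → i < x.2.1 → Nat.Coprime x.2.2 (x.1 ^ i - 1)) ∧ 3 * x.2.1 + 1 ≤ x.2.2 := by
  decide +kernel

set_option maxRecDepth 100000 in
theorem W_cover : ∀ x ∈ Cfsg.Agent.Helper17.Zsig.TList, x ∈ L13 ∨ ∃ y ∈ W, y.1 = x.1 ∧ y.2.1 = x.2 := by
  decide +kernel

/-- certificates for the thirteen exceptional pairs: `(q, e, l, P0)` with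
`q^e - 1 ∣ ∏ (q^i - 1)^k * P0`, the product over `(i, k) ∈ l`. -/
def Cert : List (ℕ × ℕ × List (ℕ × ℕ) × ℕ) :=
  [(2, 6, [(2, 2), (3, 1)], 1), (2, 4, [(2, 1)], 5), (2, 10, [(2, 1), (5, 1)], 11),
   (2, 12, [(2, 2), (4, 1), (3, 1)], 13), (2, 18, [(2, 3), (3, 1), (9, 1)], 19),
   (3, 4, [(1, 4)], 5), (3, 6, [(1, 3), (3, 1)], 7), (5, 6, [(1, 3), (2, 2), (3, 1)], 7),
   (2, 3, [], 7), (2, 8, [(2, 1), (4, 1)], 17), (2, 20, [(2, 1), (4, 2), (10, 1), (5, 1)], 41),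
   (4, 3, [(1, 2)], 7), (4, 6, [(1, 2), (2, 1), (3, 1)], 13)]

set_option maxRecDepth 100000 in
theorem Cert_spec : ∀ c ∈ Cert, (∀ x ∈ c.2.2.1, 1 ≤ x.1 ∧ x.1 < c.2.1) ∧
    c.1 ^ c.2.1 - 1 ∣ (c.2.2.1.map (fun x => (c.1 ^ x.1 - 1) ^ x.2)).prod * c.2.2.2 ∧
    0 < c.2.2.2 ∧ c.2.2.2 ≤ 2 * c.2.1 + 1 := by
  decide +kernel

set_option maxRecDepth 100000 in
theorem Cert_cover : ∀ x ∈ L13, ∃ c ∈ Cert, c.1 = x.1 ∧ c.2.1 = x.2 := by
  decide +kernel

theorem le_of_cert {q e m P0 : ℕ} (l : List (ℕ × ℕ)) (hP0 : 0 < P0)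
    (hl : ∀ x ∈ l, 1 ≤ x.1 ∧ x.1 < e)
    (hdvd : q ^ e - 1 ∣ (l.map (fun x => (q ^ x.1 - 1) ^ x.2)).prod * P0)
    (hm : m ∣ q ^ e - 1) (hcop : ∀ i : ℕ, 1 ≤ i → i < e → Nat.Coprime m (q ^ i - 1)) :
    m ≤ P0 := by
  have h1 : Nat.Coprime m (l.map (fun x => (q ^ x.1 - 1) ^ x.2)).prod := by
    rw [Nat.coprime_list_prod_right_iff]
    intro n hn
    rw [List.mem_map] at hn
    obtain ⟨x, hx, rfl⟩ := hn
    exact Nat.Coprime.pow_right _ (hcop x.1 (hl x hx).1 (hl x hx).2)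
  exact Nat.le_of_dvd hP0 (h1.dvd_of_dvd_mul_left (hm.trans hdvd))

/-- Size of the primitive part of `q^e - 1`. For a prime power `q` and `e ≥ 3`, call a divisor of `q^e - 1` primitive when it is coprime to `q^i - 1` for every `1 ≤ i < e`; the primitive part is the largest primitive divisor. Apart from thirteen exceptional pairs, the primitive part is at least `3e + 1`: there is a primitive divisor `m ≥ 3e + 1` unless `(q, e)` is `(2, 6)` (where every primitive divisor is 1), one of `(2,4), (2,10), (2,12), (2,18), (3,4), (3,6), (5,6)` (where the primitive part is exactly `e + 1`), or one of `(2,3), (2,8), (2,20), (4,3), (4,6)` (where it is exactly `2e + 1`). The statement asserts the existence of a primitive divisor `m ≥ 3e + 1` outside the thirteen pairs, and that every primitive divisor is at most `2e + 1` for the thirteen pairs. -/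
theorem result (q e : ℕ) (hq : IsPrimePow q) (he : 3 ≤ e) :
    ((q, e) ∉ [(2, 6), (2, 4), (2, 10), (2, 12), (2, 18), (3, 4), (3, 6), (5, 6), (2, 3), (2, 8), (2, 20), (4, 3), (4, 6)] →
      ∃ m : ℕ, m ∣ q ^ e - 1 ∧ (∀ i : ℕ, 1 ≤ i → i < e → Nat.Coprime m (q ^ i - 1)) ∧ 3 * e + 1 ≤ m) ∧
    ((q, e) ∈ [(2, 6), (2, 4), (2, 10), (2, 12), (2, 18), (3, 4), (3, 6), (5, 6), (2, 3), (2, 8), (2, 20), (4, 3), (4, 6)] →
      ∀ m : ℕ, m ∣ q ^ e - 1 → (∀ i : ℕ, 1 ≤ i → i < e → Nat.Coprime m (q ^ i - 1)) → m ≤ 2 * e + 1) := by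
  have hq2 : 2 ≤ q := hq.two_le
  constructor
  · intro hnot
    by_cases hT : (q, e) ∈ Cfsg.Agent.Helper17.Zsig.TList
    · rcases W_cover (q, e) hT with h | ⟨y, hy, h1, h2⟩
      · exact absurd h hnot
      · obtain ⟨h3, h4, h5⟩ := W_spec y hy
        simp only at h1 h2
        rw [h1] at h3 h4
        rw [h2] at h3 h4 h5
        exact ⟨y.2.2, h3, h4, h5⟩
    · obtain ⟨P, h1, h2, h3, -⟩ := Cfsg.Agent.Helper17.Zsig.prim_part_large hq2 he hT
      exact ⟨P, h1, h2, h3⟩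
  · intro hin m hm hcop
    obtain ⟨c, hc, h1, h2⟩ := Cert_cover (q, e) hin
    obtain ⟨h3, h4, h5, h6⟩ := Cert_spec c hc
    simp only at h1 h2
    rw [h2] at h3 h6
    rw [h1, h2] at h4
    exact le_trans (le_of_cert c.2.2.1 h5 h3 h4 hm hcop) h6

end Cfsg.Agent.S4423
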