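import Cfsg.Statements.S4424
import Cfsg.Agent.Helper8.PRegular
import Cfsg.Agent.Helper8.BlockReg
import Cfsg.Agent.Helper24.Generalized

set_option autoImplicit false
open Cfsg

namespace Cfsg.Agent.S4424

/-- Let χ be an irreducible character of the finite group G lying in the p-block B (relative to a maximal ideal M of the algebraic integers containing p), and let p^a be the p-part of the order of G. Then the class function that equals p^a · χ on the p-regular elements and vanishes on the p-singular elements is an integer combination of the irreducible characters in B: there are integers a_ψ, zero for ψ outside B, with that function equal to Σ a_ψ ψ. -/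
theorem result {G : Type*} [Group G] [Finite G] (p : ℕ) [Fact p.Prime] (M : Ideal Cfsg.AlgInt) (hM : Cfsg.IsPModular p M) (B : Set (Cfsg.IrrCharacter G)) (hB : Cfsg.IsPBlock M B) (χ : Cfsg.IrrCharacter G) (hχ : χ ∈ B) : ∃ a : Cfsg.IrrCharacter G → ℤ, (∀ ψ, ψ ∉ B → a ψ = 0) ∧ (fun x : G => if p ∣ orderOf x then (0 : ℂ) else ((p ^ (Nat.card G).factorization p : ℕ) : ℂ) * (χ : G → ℂ) x) = fun x => ∑ᶠ ψ : Cfsg.IrrCharacter G, (a ψ : ℂ) * (ψ : G → ℂ) x := by
  classical
  haveI : Fintype G := Fintype.ofFinite G
  haveI : Fintype (IrrCharacter G) := Fintype.ofFinite _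
  set f : G → ℂ := fun x : G => if p ∣ orderOf x then (0 : ℂ) else
    ((p ^ (Nat.card G).factorization p : ℕ) : ℂ) * (χ : G → ℂ) x with hf
  have hgen : IsGeneralizedCharacter G f :=
    Cfsg.Agent.Helper8.PRegular.isGeneralizedCharacter_pRegular p
      (Cfsg.Agent.Helper24.IsIrrCharacter.isCharacter χ.2)
  obtain ⟨n, hn⟩ := Cfsg.Agent.Helper24.IsGeneralizedCharacter.exists_int_coeff hgen
  have hcoef : ∀ ψ : IrrCharacter G, classInner f (ψ : G → ℂ) = n ψ := by
    intro ψ
    rw [hn]
    exact Cfsg.Agent.Helper24.classInner_sum_irr _ ψ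
  refine ⟨n, ?_, ?_⟩
  · intro ψ hψ
    have h0 := Cfsg.Agent.Helper8.BlockReg.classInner_pRegular_eq_zero hM hB χ ψ hχ hψ
      ((p ^ (Nat.card G).factorization p : ℕ) : ℂ)
    have h1 := hcoef ψ
    rw [hf] at h1
    rw [h0] at h1
    exact_mod_cast h1.symm
  · rw [hn]
    funext x
    rw [finsum_eq_sum_of_fintype, Finset.sum_apply]
    refine Finset.sum_congr rfl ?_
    intro ψ _
    simp [Pi.smul_apply, smul_eq_mul]

end Cfsg.Agent.S4424
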