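import Cfsg.Statements.S4426
import Cfsg.Agent.Helper8.HeightZeroInner

set_option autoImplicit false
open Cfsg

namespace Cfsg.Agent.S4426

/-- Let χ be an irreducible character in the p-block B of the finite group G (relative to a maximal ideal M of the algebraic integers containing p), let p^a be the p-part of the order of G, and let χ̃ be the class function equal to p^a · χ on p-regular elements and zero elsewhere. For ξ ∈ B the inner product [χ̃, ξ] is an integer. The following are equivalent: (a) χ has height zero in B; (b) for some ξ ∈ B the integer [χ̃, ξ] is nonzero and the exact power of p dividing it equals the exact power of p dividing ξ(1); (c) the same holds for every ξ ∈ B. -/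
theorem result {G : Type*} [Group G] [Fintype G] (p : ℕ) [Fact p.Prime] (M : Ideal Cfsg.AlgInt) (hM : Cfsg.IsPModular p M) (B : Set (Cfsg.IrrCharacter G)) (hB : Cfsg.IsPBlock M B) (χ : Cfsg.IrrCharacter G) (hχ : χ ∈ B) : (Cfsg.blockHeight p B (χ : G → ℂ) = 0 ↔ ∃ ξ ∈ B, ∃ n : ℤ, Cfsg.classInner (fun x : G => if p ∣ orderOf x then (0 : ℂ) else ((p ^ (Nat.card G).factorization p : ℕ) : ℂ) * (χ : G → ℂ) x) (ξ : G → ℂ) = (n : ℂ) ∧ n ≠ 0 ∧ padicValInt p n = (Cfsg.charDegree (ξ : G → ℂ)).factorization p) ∧ (Cfsg.blockHeight p B (χ : G → ℂ) = 0 ↔ ∀ ξ ∈ B, ∃ n : ℤ, Cfsg.classInner (fun x : G => if p ∣ orderOf x then (0 : ℂ) else ((p ^ (Nat.card G).factorization p : ℕ) : ℂ) * (χ : G → ℂ) x) (ξ : G → ℂ) = (n : ℂ) ∧ n ≠ 0 ∧ padicValInt p n = (Cfsg.charDegree (ξ : G → ℂ)).factorization p) := by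
  classical
  have hp : p.Prime := Fact.out
  -- height zero means minimal p-part of the degree
  have hht : Cfsg.blockHeight p B (χ : G → ℂ) = 0 ↔
      ∀ ψ ∈ B, (Cfsg.Agent.Helper24.irrDeg χ).factorization p ≤
        (Cfsg.Agent.Helper24.irrDeg ψ).factorization p := by
    rw [Cfsg.blockHeight, Nat.sub_eq_zero_iff_le, Cfsg.Agent.Helper5.CC.charDegree_eq_irrDeg]
    have hne : ((fun ψ : IrrCharacter G => (charDegree (ψ : G → ℂ)).factorization p) '' B).Nonempty :=
      ⟨_, χ, hχ, rfl⟩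
    constructor
    · intro h ψ hψ
      refine le_trans h ?_
      have : (Cfsg.Agent.Helper24.irrDeg ψ).factorization p ∈
          ((fun ψ : IrrCharacter G => (charDegree (ψ : G → ℂ)).factorization p) '' B) :=
        ⟨ψ, hψ, by simp only; rw [Cfsg.Agent.Helper5.CC.charDegree_eq_irrDeg]⟩
      exact Nat.sInf_le this
    · intro h
      apply le_csInf hne
      rintro b ⟨ψ, hψ, rfl⟩
      simp only
      rw [Cfsg.Agent.Helper5.CC.charDegree_eq_irrDeg]
      exact h ψ hψ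
  -- the valuation condition is `Good`
  have hgood : ∀ ξ : IrrCharacter G, (∃ n : ℤ, Cfsg.classInner (fun x : G => if p ∣ orderOf x then (0 : ℂ) else ((p ^ (Nat.card G).factorization p : ℕ) : ℂ) * (χ : G → ℂ) x) (ξ : G → ℂ) = (n : ℂ) ∧ n ≠ 0 ∧ padicValInt p n = (Cfsg.charDegree (ξ : G → ℂ)).factorization p) ↔
      Cfsg.Agent.Helper8.HZI.Good p χ ξ := by
    intro ξ
    rw [Cfsg.Agent.Helper5.CC.charDegree_eq_irrDeg]
    constructor
    · rintro ⟨n, hn, hn0, hv⟩
      have h1 := Cfsg.Agent.Helper8.HZI.N_spec p χ ξ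
      have h2 : (n : ℂ) = (Cfsg.Agent.Helper8.HZI.N p χ ξ : ℂ) := by
        rw [← hn, ← h1]; rfl
      have h3 : n = Cfsg.Agent.Helper8.HZI.N p χ ξ := by exact_mod_cast h2
      rw [h3] at hn0 hv
      exact ⟨hn0, hv⟩
    · rintro ⟨h0, hv⟩
      exact ⟨Cfsg.Agent.Helper8.HZI.N p χ ξ, Cfsg.Agent.Helper8.HZI.N_spec p χ ξ, h0, hv⟩
  simp only [hgood]
  rw [hht]
  refine ⟨⟨?_, ?_⟩, ⟨?_, ?_⟩⟩
  · intro hmin
    exact ⟨χ, hχ, Cfsg.Agent.Helper8.HZI.good_of_minimal hM hB hχ hmin χ hχ⟩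
  · rintro ⟨ξ, hξ, hg⟩
    exact Cfsg.Agent.Helper8.HZI.minimal_of_good hM hB hξ hg
  · intro hmin
    exact Cfsg.Agent.Helper8.HZI.good_of_minimal hM hB hχ hmin
  · intro hall
    exact Cfsg.Agent.Helper8.HZI.minimal_of_good hM hB hχ (hall χ hχ)

end Cfsg.Agent.S4426
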