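import Cfsg.Statements.S4428
import Cfsg.Agent.Helper8.Subsection

set_option autoImplicit false
open Cfsg

namespace Cfsg.Agent.S4428

/-- Let χ be an irreducible character of height zero in the p-block B of the finite group G (relative to a maximal ideal M of the algebraic integers containing p). Let x be a p-element of G with centralizer C, and let b be a block of C that induces B. Form the class function ϑ(c) = χ(x c) on C and its b-part (the sum over ψ ∈ b of the inner product of ϑ with ψ, times ψ). Then the b-part of ϑ does not vanish identically on the p-regular elements of C. (Compare the second main Theorem, which gives vanishing when b does not induce B.) -/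
theorem result {G : Type*} [Group G] [Finite G] (p : ℕ) [Fact p.Prime] (M : Ideal Cfsg.AlgInt) (hM : Cfsg.IsPModular p M) (B : Set (Cfsg.IrrCharacter G)) (hB : Cfsg.IsPBlock M B) (χ : Cfsg.IrrCharacter G) (hχ : χ ∈ B) (h0 : Cfsg.blockHeight p B (χ : G → ℂ) = 0) (x : G) (hx : ∃ k : ℕ, orderOf x = p ^ k) (b : Set (Cfsg.IrrCharacter (Subgroup.centralizer ({x} : Set G)))) (hb : Cfsg.IsInducedBlock M (Subgroup.centralizer ({x} : Set G)) b B) : ∃ y : Subgroup.centralizer ({x} : Set G), ¬ p ∣ orderOf y ∧ Cfsg.blockPart b (fun c : Subgroup.centralizer ({x} : Set G) => (χ : G → ℂ) (x * (c : G))) y ≠ 0 := by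
  classical
  haveI : Fintype G := Fintype.ofFinite _
  haveI : Fintype (Subgroup.centralizer ({x} : Set G)) := Fintype.ofFinite _
  haveI : Fintype (IrrCharacter G) := Fintype.ofFinite _
  haveI : Fintype (IrrCharacter (Subgroup.centralizer ({x} : Set G))) := Fintype.ofFinite _
  obtain ⟨k, hk⟩ := hx
  have hxk : x ^ (p ^ k) = 1 := by rw [← hk]; exact pow_orderOf_eq_one x
  have hcomm : ∀ t : Subgroup.centralizer ({x} : Set G), x * (t : G) = (t : G) * x := by
    intro t
    exact Subgroup.mem_centralizer_iff.mp t.2 x rfl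
  have hmin : ∀ ξ ∈ B, (Cfsg.Agent.Helper24.irrDeg χ).factorization p ≤
      (Cfsg.Agent.Helper24.irrDeg ξ).factorization p := by
    intro ξ hξ
    rw [Cfsg.Agent.Helper8.IndHt.blockHeight_eq, Nat.sub_eq_zero_iff_le] at h0
    exact le_trans h0 (Cfsg.Agent.Helper8.IndHt.minVal_le p hξ)
  refine Cfsg.Agent.Helper8.Subsec.exists_pRegular_blockPart_ne_zero hM _ hb χ hχ hmin _ ?_ ?_
  · intro g h
    simp only [Subgroup.coe_mul, InvMemClass.coe_inv]
    have e : x * ((h : G) * (g : G) * (h : G)⁻¹) = (h : G) * (x * (g : G)) * (h : G)⁻¹ := by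
      rw [← mul_assoc, ← mul_assoc, hcomm h, mul_assoc (h : G) x]
    rw [e]
    exact Cfsg.Agent.Helper24.isClassFunction_irr χ _ _
  · intro t
    exact Cfsg.Agent.Helper5.Loc.char_mul_sub_char_memLocalIdeal hM
      (Cfsg.Agent.Helper24.IsIrrCharacter.isCharacter χ.2) x (t : G) (hcomm t) k hxk

end Cfsg.Agent.S4428
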