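import Cfsg.Statements.S4429
import Cfsg.Agent.Helper15.O7920j

set_option autoImplicit false
open Cfsg

namespace Cfsg.Agent.S4429

/-- Let G be a simple group of order 7920. Then G has exactly ten irreducible complex characters, and their degrees, listed with multiplicity, are 1, 10, 10, 10, 11, 16, 16, 44, 45, 55: for every natural number n, the number of irreducible characters of degree n is 1 if n ∈ {1, 11, 44, 45, 55}, 3 if n = 10, 2 if n = 16, and 0 otherwise. -/
theorem result {G : Type*} [Group G] [Finite G] [IsSimpleGroup G] (hG : Nat.card G = 7920) : Nat.card (Cfsg.IrrCharacter G) = 10 ∧ ∀ n : ℕ, Nat.card {χ : Cfsg.IrrCharacter G // Cfsg.charDegree (χ : G → ℂ) = n} = (if n = 1 ∨ n = 11 ∨ n = 44 ∨ n = 45 ∨ n = 55 then 1 else if n = 10 then 3 else if n = 16 then 2 else 0) := by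
  classical
  have : Fintype (IrrCharacter G) := Fintype.ofFinite _
  obtain ⟨P⟩ : Nonempty (Sylow 11 G) := inferInstance
  obtain ⟨he, -, -⟩ := Cfsg.Agent.Helper15.O7920.sylow11_data hG P
  obtain ⟨D⟩ := Cfsg.Agent.Helper15.BrP.exists_bdata (Cfsg.Agent.Helper15.O7920.perfect hG) 11
    (by norm_num) P (Cfsg.Agent.Helper15.O7920.card_sylow11 hG P) 5 he (by norm_num)
  obtain ⟨heps, hshape⟩ := Cfsg.Agent.Helper15.O7920.shape11 hG P D
  rcases hshape with ⟨h12, h45, h10, hY⟩ | ⟨h12, h45, h10, hY⟩
  · exact (Cfsg.Agent.Helper15.O7920.P1_false hG P D heps h12 h45 h10 hY).elim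
  · have hcnt := Cfsg.Agent.Helper15.O7920.P2_final hG P D heps h12 h45 h10 hY
    have hsub : ∀ n : ℕ, Nat.card {χ : IrrCharacter G // charDegree (χ : G → ℂ) = n} =
        (Finset.univ.filter (fun χ : IrrCharacter G => Cfsg.Agent.Helper24.irrDeg χ = n)).card := by
      intro n
      rw [Nat.card_eq_fintype_card, Fintype.card_subtype]
      congr 1
      ext χ
      simp only [Finset.mem_filter, Finset.mem_univ, true_and]
      rw [Cfsg.Agent.Helper24.charDegree_irr]
    refine ⟨?_, fun n => by rw [hsub, hcnt]⟩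
    rw [Nat.card_eq_fintype_card, ← Finset.card_univ]
    have hmaps : ∀ χ ∈ (Finset.univ : Finset (IrrCharacter G)),
        Cfsg.Agent.Helper24.irrDeg χ ∈ ({1, 10, 11, 16, 44, 45, 55} : Finset ℕ) := by
      intro χ _
      by_contra hne
      simp only [Finset.mem_insert, Finset.mem_singleton, not_or] at hne
      have h0 := hcnt (Cfsg.Agent.Helper24.irrDeg χ)
      rw [if_neg (by tauto), if_neg (by tauto), if_neg (by tauto), Finset.card_eq_zero] at h0
      have : χ ∈ Finset.univ.filter (fun ψ : IrrCharacter G =>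
          Cfsg.Agent.Helper24.irrDeg ψ = Cfsg.Agent.Helper24.irrDeg χ) :=
        Finset.mem_filter.mpr ⟨Finset.mem_univ _, rfl⟩
      rw [h0] at this
      exact absurd this (Finset.notMem_empty _)
    rw [Finset.card_eq_sum_card_fiberwise hmaps]
    rw [Finset.sum_insert (by decide), Finset.sum_insert (by decide), Finset.sum_insert (by decide),
      Finset.sum_insert (by decide), Finset.sum_insert (by decide), Finset.sum_insert (by decide),
      Finset.sum_singleton, hcnt, hcnt, hcnt, hcnt, hcnt, hcnt, hcnt]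
    norm_num

end Cfsg.Agent.S4429
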