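import Cfsg.Statements.S4437
import Cfsg.Agent.Helper5.StabIndex
import Cfsg.Agent.Helper5.ExtFirstMain
import Cfsg.Agent.S0920
import Cfsg.Agent.S0912

set_option autoImplicit false
open Cfsg

namespace Cfsg.Agent.S4437

/-- Let P be a p-subgroup of the finite group G, H = P·C_G(P), and b a block of H (relative to a maximal ideal M of the algebraic integers containing p) having P as a defect group; let B be the block of G induced by b. Let T be the stabilizer of b in N_G(P): the elements g of N_G(P) such that the g-conjugate of every member of b is again a member of b. Then B has defect group P if and only if p does not divide the index of H in T. -/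
theorem result {G : Type*} [Group G] [Fintype G] (p : ℕ) [Fact p.Prime] (M : Ideal Cfsg.AlgInt) (hM : Cfsg.IsPModular p M) (P : Subgroup G) (hP : IsPGroup p P) (H : Subgroup G) [Fintype H] (hH : H = P ⊔ Subgroup.centralizer (P : Set G)) (b : Set (Cfsg.IrrCharacter H)) (hb : Cfsg.IsPBlock M b) (hbP : Cfsg.IsDefectGroup p M b (P.subgroupOf H)) (B : Set (Cfsg.IrrCharacter G)) (hind : Cfsg.IsInducedBlock M H b B) (T : Subgroup G) (hT : ∀ g : G, g ∈ T ↔ (g ∈ Subgroup.normalizer (P : Set G) ∧ ∀ θ ∈ b, ∀ θ' : Cfsg.IrrCharacter H, (∀ h h' : H, (h' : G) = g * h * g⁻¹ → (θ' : H → ℂ) h' = (θ : H → ℂ) h) → θ' ∈ b)) : Cfsg.IsDefectGroup p M B P ↔ ¬ p ∣ H.relIndex T := by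
  classical
  subst hH
  have hMp := Cfsg.Agent.Helper5.Loc.isPrime_of_isPModular hM
  have hp : p.Prime := Fact.out
  have : Finite G := Finite.of_fintype G
  have : Fintype (IrrCharacter G) := Fintype.ofFinite _
  have : Fintype (Subgroup.normalizer (P : Set G)) := Fintype.ofFinite _
  have : Fintype (IrrCharacter (Subgroup.normalizer (P : Set G))) := Fintype.ofFinite _
  have : Fintype (IrrCharacter ↥(P ⊔ Subgroup.centralizer (P : Set G))) := Fintype.ofFinite _
  have : Fintype ↥((P.subgroupOf (Subgroup.normalizer (P : Set G))) ⊔ Subgroup.centralizer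
      ((P.subgroupOf (Subgroup.normalizer (P : Set G)) :
        Subgroup (Subgroup.normalizer (P : Set G))) : Set (Subgroup.normalizer (P : Set G)))) :=
    Fintype.ofFinite _
  have : Fintype ↥(T.subgroupOf (Subgroup.normalizer (P : Set G))) := Fintype.ofFinite _
  have hPN : P ≤ Subgroup.normalizer (P : Set G) := Subgroup.le_normalizer
  have hQn : (P.subgroupOf (Subgroup.normalizer (P : Set G))).Normal :=
    (Subgroup.normal_subgroupOf_iff_le_normalizer hPN).mpr le_rfl
  have hQ : IsPGroup p (P.subgroupOf (Subgroup.normalizer (P : Set G))) := hP.comap_subtype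
  have hLn : ((P.subgroupOf (Subgroup.normalizer (P : Set G))) ⊔ Subgroup.centralizer
      ((P.subgroupOf (Subgroup.normalizer (P : Set G)) :
        Subgroup (Subgroup.normalizer (P : Set G))) : Set (Subgroup.normalizer (P : Set G)))).Normal :=
    inferInstance
  have hTN : T ≤ Subgroup.normalizer (P : Set G) := fun g hg => ((hT g).mp hg).1
  set φ := Cfsg.Agent.Helper5.EFM.supEquiv P with hφ
  have hβ : IsPBlock M (Cfsg.Agent.Helper23.BT.pullBlock φ b) :=
    Cfsg.Agent.Helper23.BT.isPBlock_pullBlock _ hb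
  obtain ⟨θ₁, hθ₁⟩ := Cfsg.Agent.Helper5.CC.IsPBlock.nonempty hMp hb
  obtain ⟨χ, hχ, hindN⟩ := Cfsg.Agent.Helper5.EFM.exists_cover_of_induced hM B P hP b hind θ₁ hθ₁
  have hBN : IsPBlock M (blockOf M (χ : Subgroup.normalizer (P : Set G) → ℂ)) := hindN.1
  have h971 := (Cfsg.Agent.S0971.result p M hM (P.subgroupOf (Subgroup.normalizer (P : Set G))) hQ
    (Cfsg.Agent.Helper23.BT.pullBlock φ b) hβ).2
  have hcovN : ∃ χ' ∈ blockOf M (χ : Subgroup.normalizer (P : Set G) → ℂ),
      ∃ θ ∈ Cfsg.Agent.Helper23.BT.pullBlock φ b,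
      classInner (fun n : ↥((P.subgroupOf (Subgroup.normalizer (P : Set G))) ⊔
        Subgroup.centralizer ((P.subgroupOf (Subgroup.normalizer (P : Set G)) :
        Subgroup (Subgroup.normalizer (P : Set G))) : Set (Subgroup.normalizer (P : Set G)))) =>
          (χ' : Subgroup.normalizer (P : Set G) → ℂ) n) θ.1 ≠ 0 :=
    ⟨χ, Cfsg.Agent.Helper5.CC.mem_blockOf_self hMp χ, Cfsg.Agent.Helper23.BT.pullIrr φ θ₁,
      (Cfsg.Agent.Helper23.BT.pullIrr_mem_pullBlock_iff _ b θ₁).mpr hθ₁, hχ⟩
  have hmaxN : ∀ B'' : Set (IrrCharacter (Subgroup.normalizer (P : Set G))), IsPBlock M B'' →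
      (∃ χ' ∈ B'', ∃ θ ∈ Cfsg.Agent.Helper23.BT.pullBlock φ b,
      classInner (fun n : ↥((P.subgroupOf (Subgroup.normalizer (P : Set G))) ⊔
        Subgroup.centralizer ((P.subgroupOf (Subgroup.normalizer (P : Set G)) :
        Subgroup (Subgroup.normalizer (P : Set G))) : Set (Subgroup.normalizer (P : Set G)))) =>
          (χ' : Subgroup.normalizer (P : Set G) → ℂ) n) θ.1 ≠ 0) →
      blockDefect p B'' ≤ blockDefect p (blockOf M (χ : Subgroup.normalizer (P : Set G) → ℂ)) := by
    intro B'' hB'' hc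
    rw [Cfsg.Agent.Helper23.IC.induced_unique hMp _ (h971 B'' hB'' hc) (h971 _ hBN hcovN)]
  -- the stabilizer in the normalizer
  have hT₀ : ∀ g : Subgroup.normalizer (P : Set G),
      g ∈ T.subgroupOf (Subgroup.normalizer (P : Set G)) ↔
      ∀ θ ∈ Cfsg.Agent.Helper23.BT.pullBlock φ b, ∀ θ' : IrrCharacter
        ↥((P.subgroupOf (Subgroup.normalizer (P : Set G))) ⊔
        Subgroup.centralizer ((P.subgroupOf (Subgroup.normalizer (P : Set G)) :
        Subgroup (Subgroup.normalizer (P : Set G))) : Set (Subgroup.normalizer (P : Set G)))),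
      (∀ n, θ'.1 n = θ.1 ⟨g * n * g⁻¹, hLn.conj_mem n n.2 g⟩) →
      θ' ∈ Cfsg.Agent.Helper23.BT.pullBlock φ b := by
    intro g
    rw [Subgroup.mem_subgroupOf, ← inv_mem_iff, hT]
    constructor
    · rintro ⟨-, h⟩ θ hθ θ' hrel
      rw [Cfsg.Agent.Helper23.BT.mem_pullBlock_iff] at hθ ⊢
      refine h _ hθ _ ?_
      intro x x' hx
      rw [Cfsg.Agent.Helper23.BT.pullIrr_apply, Cfsg.Agent.Helper23.BT.pullIrr_apply, hrel]
      refine congrArg θ.1 ?_
      apply φ.injective
      rw [MulEquiv.apply_symm_apply]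
      apply Subtype.ext
      rw [hφ, Cfsg.Agent.Helper5.EFM.coe_supEquiv]
      show (g : G) * ((((Cfsg.Agent.Helper5.EFM.supEquiv P).symm x' : _) :
        Subgroup.normalizer (P : Set G)) : G) *
        ((g⁻¹ : Subgroup.normalizer (P : Set G)) : G) = (x : G)
      rw [← Cfsg.Agent.Helper5.EFM.coe_supEquiv, MulEquiv.apply_symm_apply, Subgroup.coe_inv, hx]
      group
    · intro h
      refine ⟨inv_mem g.2, ?_⟩
      intro θ hθ θ' hrel
      have := h (Cfsg.Agent.Helper23.BT.pullIrr φ θ)
        ((Cfsg.Agent.Helper23.BT.pullIrr_mem_pullBlock_iff φ b θ).mpr hθ)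
        (Cfsg.Agent.Helper23.BT.pullIrr φ θ') ?_
      · exact (Cfsg.Agent.Helper23.BT.pullIrr_mem_pullBlock_iff φ b θ').mp this
      intro n
      rw [Cfsg.Agent.Helper23.BT.pullIrr_apply, Cfsg.Agent.Helper23.BT.pullIrr_apply]
      refine hrel _ _ ?_
      rw [hφ, Cfsg.Agent.Helper5.EFM.coe_supEquiv, Cfsg.Agent.Helper5.EFM.coe_supEquiv]
      show ((n : Subgroup.normalizer (P : Set G)) : G) = (g : G)⁻¹ * ((g : G) *
        ((n : Subgroup.normalizer (P : Set G)) : G) *
        ((g⁻¹ : Subgroup.normalizer (P : Set G)) : G)) * (g : G)⁻¹⁻¹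
      rw [Subgroup.coe_inv]
      group
  have hA := Cfsg.Agent.Helper5.SI.defect_eq_add_stab p M hM _ (Cfsg.Agent.Helper23.BT.pullBlock φ b)
    hβ (T.subgroupOf (Subgroup.normalizer (P : Set G))) hT₀ _ hBN hcovN hmaxN
  rw [Cfsg.Agent.Helper5.SI.blockDefect_pullBlock] at hA
  -- the relative index
  have hLeq : ((P.subgroupOf (Subgroup.normalizer (P : Set G))) ⊔ Subgroup.centralizer
      ((P.subgroupOf (Subgroup.normalizer (P : Set G)) :
        Subgroup (Subgroup.normalizer (P : Set G))) : Set (Subgroup.normalizer (P : Set G)))) =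
      (P ⊔ Subgroup.centralizer (P : Set G)).subgroupOf (Subgroup.normalizer (P : Set G)) := by
    rw [← Cfsg.Agent.Helper5.EFM.map_sup_centralizer_subgroupOf P (Subgroup.normalizer (P : Set G))
      hPN (Subgroup.centralizer_le_normalizer _)]
    exact (Subgroup.comap_map_eq_self_of_injective (Subgroup.subtype_injective _) _).symm
  rw [hLeq, Subgroup.relIndex_subgroupOf hTN] at hA
  -- cardinalities
  have hc0 : Nat.card (P.subgroupOf (P ⊔ Subgroup.centralizer (P : Set G))) = Nat.card P := by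
    rw [← Subgroup.card_map_of_injective (Subgroup.subtype_injective
      (P ⊔ Subgroup.centralizer (P : Set G))),
      Cfsg.Agent.Helper14.map_subtype_subgroupOf le_sup_left]
  have hc1 : Nat.card (P.subgroupOf (Subgroup.normalizer (P : Set G))) = Nat.card P := by
    rw [← Subgroup.card_map_of_injective (Subgroup.subtype_injective
      (Subgroup.normalizer (P : Set G))),
      Cfsg.Agent.Helper14.map_subtype_subgroupOf hPN]
  have hcb := Cfsg.Agent.Helper5.CC.card_defectGroup hM hb hbP
  rw [hc0] at hcb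
  have hrel0 : (P ⊔ Subgroup.centralizer (P : Set G)).relIndex T ≠ 0 :=
    Subgroup.index_ne_zero_of_finite
  constructor
  · intro hBP
    have hD := Cfsg.Agent.Helper5.EFM.isDefectGroup_of_induced' hM B P
      (Subgroup.normalizer (P : Set G)) hBP hP hPN le_rfl _ hindN
    have hcD := Cfsg.Agent.Helper5.CC.card_defectGroup hM hBN hD
    rw [hc1, hcb] at hcD
    have := Nat.pow_right_injective hp.two_le hcD
    have h0 : ((P ⊔ Subgroup.centralizer (P : Set G)).relIndex T).factorization p = 0 := by omega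
    rcases (Nat.factorization_eq_zero_iff _ _).mp h0 with h | h | h
    · exact absurd hp h
    · exact h
    · exact absurd h hrel0
  · intro hnd
    have h0 : ((P ⊔ Subgroup.centralizer (P : Set G)).relIndex T).factorization p = 0 :=
      Nat.factorization_eq_zero_of_not_dvd hnd
    rw [h0, add_zero] at hA
    obtain ⟨y, hy⟩ := Cfsg.Agent.S0906.result p M hM _ hBN
    obtain ⟨S⟩ : Nonempty (Sylow p (Subgroup.centralizer
      ({y} : Set (Subgroup.normalizer (P : Set G))))) := inferInstance
    have hD : IsDefectGroup p M (blockOf M (χ : Subgroup.normalizer (P : Set G) → ℂ))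
        ((S : Subgroup _).map (Subgroup.centralizer
          ({y} : Set (Subgroup.normalizer (P : Set G)))).subtype) := ⟨y, hy, S, rfl⟩
    have hcore : P.subgroupOf (Subgroup.normalizer (P : Set G)) ≤
        pCore p (Subgroup.normalizer (P : Set G)) :=
      le_sSup (show P.subgroupOf (Subgroup.normalizer (P : Set G)) ∈
        {K : Subgroup (Subgroup.normalizer (P : Set G)) | K.Normal ∧ IsPGroup p K} from ⟨hQn, hQ⟩)
    have hle := hcore.trans (Cfsg.Agent.S0912.result p M hM _ hBN _ hD)
    have hcD := Cfsg.Agent.Helper5.CC.card_defectGroup hM hBN hD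
    rw [hA, ← hcb, ← hc1] at hcD
    have hEq := Subgroup.eq_of_le_of_card_ge hle (le_of_eq hcD)
    rw [← hEq] at hD
    obtain ⟨B₂, hB₂, hD₂, hind₂⟩ := (Cfsg.Agent.S0920.result p M hM P hP).1 _ hBN hD
    rw [Cfsg.Agent.Helper23.IC.induced_unique hMp _ hindN hind₂]
    exact hD₂

end Cfsg.Agent.S4437
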