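import Mathlib
import Cfsg.Statements.S4492
import Cfsg.Agent.Helper5.FongCoverC
import Cfsg.Agent.Helper23.HallHigman

set_option autoImplicit false
open Cfsg

namespace Cfsg.Agent.S4492

/-- Let G be a finite p-solvable group, N = O_{p'}(G) its largest normal subgroup of order prime to p, and θ an irreducible character of N invariant under conjugation by G; fix a maximal ideal M of the algebraic integers containing p. Then the irreducible characters of G lying over θ (those whose restriction to N contains θ) form a single p-block of G, and the defect groups of that block are exactly the Sylow p-subgroups of G. -/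
theorem result {G : Type*} [Group G] [Fintype G] (p : ℕ) [Fact p.Prime] (M : Ideal Cfsg.AlgInt) (hM : Cfsg.IsPModular p M) (hsolv : Cfsg.IsPSolvable p G) (N : Subgroup G) [hN : N.Normal] [Fintype N] (hNdef : N = Cfsg.pPrimeCore p G) (θ : Cfsg.IrrCharacter N) (hinv : ∀ (g : G) (n : N), (θ : N → ℂ) ⟨g * n * g⁻¹, hN.conj_mem n n.2 g⟩ = (θ : N → ℂ) n) : ∃ B : Set (Cfsg.IrrCharacter G), Cfsg.IsPBlock M B ∧ (∀ χ : Cfsg.IrrCharacter G, χ ∈ B ↔ Cfsg.classInner (fun n : N => (χ : G → ℂ) n) (θ : N → ℂ) ≠ 0) ∧ (∀ P : Sylow p G, Cfsg.IsDefectGroup p M B (P : Subgroup G)) ∧ ∀ D : Subgroup G, Cfsg.IsDefectGroup p M B D → ∃ P : Sylow p G, D = (P : Subgroup G) := by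
  classical
  have hp : Fact p.Prime := inferInstance
  subst hNdef
  have hpN : ¬ p ∣ Nat.card (Cfsg.pPrimeCore p G) := by
    have := Cfsg.Agent.Helper23.pPrimeCore_card_coprime p G
    rw [Nat.coprime_comm, Nat.Prime.coprime_iff_not_dvd hp.out] at this
    exact this
  set Q : Subgroup (G ⧸ Cfsg.pPrimeCore p G) := Cfsg.pCore p (G ⧸ Cfsg.pPrimeCore p G) with hQ
  have hQn : Q.Normal := Cfsg.pCore_normal p _
  obtain ⟨s, hs⟩ := Cfsg.Agent.Helper23.pCore_card p (G ⧸ Cfsg.pPrimeCore p G)
  set L : Subgroup G := Q.comap (QuotientGroup.mk' (Cfsg.pPrimeCore p G)) with hL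
  haveI hLn : L.Normal := Subgroup.Normal.comap hQn _
  have hNL : Cfsg.pPrimeCore p G ≤ L := Cfsg.Agent.Helper23.le_comap_mk' _ Q
  have hLs : Nat.card L = Nat.card (Cfsg.pPrimeCore p G) * p ^ s := by
    rw [hL, Cfsg.Agent.Helper23.card_comap_mk', ← hs]
  have hHHq := Cfsg.Agent.Helper23.centralizer_pCore_quotient_le_of_isPSolvable hsolv
  have hQp : IsPGroup p Q := Cfsg.Agent.Helper14.pCore_isPGroup p
  have hHH : ∀ x : G, ¬ p ∣ orderOf x → x ∉ Cfsg.pPrimeCore p G →
      ∃ m ∈ L, x * m * x⁻¹ * m⁻¹ ∉ Cfsg.pPrimeCore p G := by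
    intro x hx hxN
    by_contra hcon
    push Not at hcon
    -- `mk x` centralizes `Q`
    have hcen : QuotientGroup.mk' (Cfsg.pPrimeCore p G) x ∈
        Subgroup.centralizer (Q : Set (G ⧸ Cfsg.pPrimeCore p G)) := by
      rw [Subgroup.mem_centralizer_iff]
      intro u hu
      obtain ⟨m, rfl⟩ := QuotientGroup.mk'_surjective (Cfsg.pPrimeCore p G) u
      have hm : m ∈ L := hu
      have h1 := hcon m hm
      have h2 : QuotientGroup.mk' (Cfsg.pPrimeCore p G) (x * m * x⁻¹ * m⁻¹) = 1 := by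
        rw [QuotientGroup.mk'_apply, QuotientGroup.eq_one_iff]
        exact h1
      rw [map_mul, map_mul, map_mul, map_inv, map_inv] at h2
      have h3 := congrArg (fun t => t * (QuotientGroup.mk' (Cfsg.pPrimeCore p G) m) *
        (QuotientGroup.mk' (Cfsg.pPrimeCore p G) x)) h2
      simp only [one_mul, inv_mul_cancel_right] at h3
      exact h3.symm
    have hmem : QuotientGroup.mk' (Cfsg.pPrimeCore p G) x ∈ Q := hHHq hcen
    -- a `p`-element of `p'`-order is trivial
    obtain ⟨k, hk⟩ := hQp ⟨_, hmem⟩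
    have hk' : (QuotientGroup.mk' (Cfsg.pPrimeCore p G) x) ^ p ^ k = 1 := by
      have := congrArg Subtype.val hk
      simpa using this
    have hord : orderOf (QuotientGroup.mk' (Cfsg.pPrimeCore p G) x) ∣ orderOf x :=
      orderOf_dvd_of_pow_eq_one (by rw [← map_pow, pow_orderOf_eq_one, map_one])
    have hord2 : orderOf (QuotientGroup.mk' (Cfsg.pPrimeCore p G) x) ∣ p ^ k :=
      orderOf_dvd_of_pow_eq_one hk'
    have hcop : Nat.Coprime (orderOf x) (p ^ k) :=
      Nat.Coprime.pow_right k ((Nat.Prime.coprime_iff_not_dvd hp.out).mpr hx).symm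
    have h1 : orderOf (QuotientGroup.mk' (Cfsg.pPrimeCore p G) x) = 1 :=
      Nat.eq_one_of_dvd_coprimes hcop hord hord2
    rw [orderOf_eq_one_iff, QuotientGroup.mk'_apply, QuotientGroup.eq_one_iff] at h1
    exact hxN h1
  exact Cfsg.Agent.Helper5.FongCover.fong_cover (Cfsg.pPrimeCore p G) hM hpN L hNL s hLs hHH θ hinv

end Cfsg.Agent.S4492
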