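import Cfsg.Statements.S4439
import Cfsg.Agent.Helper5.FongCoverF
import Cfsg.Agent.Helper5.Reynolds
import Cfsg.Agent.Helper5.StabIndex
import Cfsg.Agent.Helper21.PSolv
import Cfsg.Agent.Helper23.InducedCalc
import Cfsg.Agent.S4492
import Cfsg.Agent.S4435
import Cfsg.Agent.S4436
import Cfsg.Agent.S0931

set_option autoImplicit false
open Cfsg

namespace Cfsg.Agent.S4439

open Cfsg.Agent.Helper5.CC Cfsg.Agent.Helper5.Loc Cfsg.Agent.Helper5.FongCover Cfsg.Agent.Helper14
  Cfsg.Agent.Helper24

universe u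

theorem height_le_aux (p : ℕ) [hp : Fact p.Prime] (M : Ideal Cfsg.AlgInt)
    (hM : Cfsg.IsPModular p M) :
    ∀ n : ℕ, ∀ (G : Type u) [Group G] [Fintype G], Nat.card G = n → Cfsg.IsPSolvable p G →
      ∀ B : Set (Cfsg.IrrCharacter G), Cfsg.IsPBlock M B → ∀ P : Subgroup G,
      Cfsg.IsDefectGroup p M B P → ∀ χ : Cfsg.IrrCharacter G, χ ∈ B →
      Cfsg.blockHeight p B (χ : G → ℂ) ≤ ((Subgroup.center P).index).factorization p := by
  intro n
  induction n using Nat.strong_induction_on with
  | _ n ih =>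
  intro G _ _ hn hsolv B hB P hP χ hχ
  classical
  have hMp := isPrime_of_isPModular hM
  haveI : Fintype (IrrCharacter G) := Fintype.ofFinite _
  haveI : Fintype (pPrimeCore p G) := Fintype.ofFinite _
  have hpN : ¬ p ∣ Nat.card (pPrimeCore p G) := by
    have := Cfsg.Agent.Helper23.pPrimeCore_card_coprime p G
    rw [Nat.coprime_comm, Nat.Prime.coprime_iff_not_dvd hp.out] at this
    exact this
  obtain ⟨θ, hθ⟩ := exists_constituent_restrict (pPrimeCore p G) χ
  obtain ⟨b, hbdef⟩ : ∃ b : Set (IrrCharacter (pPrimeCore p G)),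
    b = blockOf M (θ : pPrimeCore p G → ℂ) := ⟨_, rfl⟩
  have hbB : IsPBlock M b := by rw [hbdef]; exact isPBlock_blockOf θ
  have hθb : θ ∈ b := by rw [hbdef]; exact mem_blockOf_self hMp θ
  obtain ⟨T, hTdef⟩ : ∃ T : Subgroup G, T = Cfsg.Agent.Helper5.Rey.stab (pPrimeCore p G) b :=
    ⟨_, rfl⟩
  have hT : Cfsg.Agent.Helper5.FR.IsStab (inferInstance : (pPrimeCore p G).Normal) b T := by
    rw [hTdef]; exact Cfsg.Agent.Helper5.Rey.isStab_stab (pPrimeCore p G) b hMp hbB
  have hNT : pPrimeCore p G ≤ T := Cfsg.Agent.Helper5.SI.le_of_isStab _ b T hT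
  haveI : Fintype T := Fintype.ofFinite _
  by_cases hTtop : T = ⊤
  · -- the invariant case
    have hinv : ∀ (g : G) (n : pPrimeCore p G),
        (θ : pPrimeCore p G → ℂ)
          ⟨g * n * g⁻¹, (inferInstance : (pPrimeCore p G).Normal).conj_mem n n.2 g⟩ =
          (θ : pPrimeCore p G → ℂ) n := by
      intro g n
      have hg : g ∈ T := by rw [hTtop]; exact Subgroup.mem_top g
      have h1 : conjIrr (pPrimeCore p G) g θ ∈ b := Cfsg.Agent.Helper5.FR.IsStab.stab hT g hg θ hθb
      rw [hbdef] at h1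
      have h2 : θ = conjIrr (pPrimeCore p G) g θ :=
        eq_of_sameBlock_of_not_dvd hM hpN θ _ (mem_blockOf_iff.mp h1)
      have h3 := congrFun (congrArg Subtype.val h2) n
      exact h3.symm
    obtain ⟨B₁, hB₁, hmem, -, hDsyl⟩ :=
      Cfsg.Agent.S4492.result p M hM hsolv (pPrimeCore p G) rfl θ hinv
    have hBB : B = B₁ := by
      rw [IsPBlock_eq_blockOf hMp hB hχ, IsPBlock_eq_blockOf hMp hB₁ ((hmem χ).mpr hθ)]
    obtain ⟨P₁, hP₁⟩ := hDsyl P (hBB ▸ hP)
    have hdb := degree_bound hsolv θ hinv χ hθ P₁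
    have h1 : blockHeight p B (χ : G → ℂ) ≤ (irrDeg χ).factorization p := by
      rw [blockHeight, charDegree_eq_irrDeg]
      exact Nat.sub_le _ _
    have h3 : Nat.card (Subgroup.center P) * (Subgroup.center P).index = Nat.card P :=
      Subgroup.card_mul_index _
    have h4 : Nat.card P = p ^ (Nat.card G).factorization p := by
      rw [hP₁]; exact P₁.card_eq_multiplicity
    have h5 : (Nat.card (Subgroup.center P)).factorization p +
        ((Subgroup.center P).index).factorization p = (Nat.card G).factorization p := by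
      have := congrArg (fun m => m.factorization p) h3
      beta_reduce at this
      rw [Nat.factorization_mul Nat.card_pos.ne' Subgroup.index_ne_zero_of_finite,
        Finsupp.add_apply, h4, Nat.Prime.factorization_pow hp.out, Finsupp.single_eq_same] at this
      exact this
    have h6 : (Nat.card (Subgroup.center (P₁ : Subgroup G))).factorization p =
        (Nat.card (Subgroup.center P)).factorization p := by rw [hP₁]
    omega
  · -- the Fong–Reynolds reduction
    have hTlt : Nat.card T < n := by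
      rw [← hn]
      exact lt_of_le_of_ne (Subgroup.card_le_card_group T)
        (fun h => hTtop ((Subgroup.card_eq_iff_eq_top T).mp h))
    obtain ⟨h435i, -, h435iii⟩ :=
      Cfsg.Agent.S4435.result p M hM (pPrimeCore p G) b hbB T hT hNT
    obtain ⟨B', hB', hcov', hind⟩ := h435iii B hB ⟨χ, hχ, θ, hθb, hθ⟩
    obtain ⟨B₂, hind₂, -, hirr, hmemB₂⟩ := h435i B' hB' hcov'
    have hBe : B = B₂ := Cfsg.Agent.Helper23.IC.induced_unique hMp T hind hind₂
    obtain ⟨ψ, hψ, hχψ⟩ := (hmemB₂ χ).mp (hBe ▸ hχ)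
    obtain ⟨hdef, hht⟩ :=
      Cfsg.Agent.S4436.result p M hM (pPrimeCore p G) b hbB T hT hNT B' hB' hcov' B hind
    obtain ⟨χ', hχ', hχ'ψ, hheq⟩ := hht ψ hψ
    have hheight : blockHeight p B (χ : G → ℂ) = blockHeight p B' (ψ : T → ℂ) := by
      rw [hχψ, ← hχ'ψ]; exact hheq
    obtain ⟨D, hD⟩ := Cfsg.Agent.S0931.exists_defectGroup p M hM B' hB'
    have hDG := hdef D hD
    obtain ⟨g, hg⟩ := defectGroup_conj hM B hB _ P hDG hP
    have ihT := ih (Nat.card T) hTlt T rfl
      (Cfsg.Agent.Helper21.PSolv.isPSolvable_subgroup hp.out hsolv T) B' hB' D hD ψ hψ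
    have e1 : D ≃* D.map T.subtype := D.equivMapOfInjective _ T.subtype_injective
    have e2 : D.map T.subtype ≃* (D.map T.subtype).map (cj g) :=
      (D.map T.subtype).equivMapOfInjective _ (cj_injective g)
    have e3 : (D.map T.subtype).map (cj g) ≃* P := MulEquiv.subgroupCongr hg.symm
    rw [hheight, ← index_center_eq_of_mulEquiv ((e1.trans e2).trans e3)]
    exact ihT

/-- Let G be a finite p-solvable group and B a p-block of G with defect group P (relative to a maximal ideal M of the algebraic integers containing p). Then the height of every irreducible character in B is at most the exponent of p in the index of the centre of P in P. -/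
theorem result {G : Type*} [Group G] [Finite G] (p : ℕ) [Fact p.Prime] (M : Ideal Cfsg.AlgInt) (hM : Cfsg.IsPModular p M) (hsolv : Cfsg.IsPSolvable p G) (B : Set (Cfsg.IrrCharacter G)) (hB : Cfsg.IsPBlock M B) (P : Subgroup G) (hP : Cfsg.IsDefectGroup p M B P) (χ : Cfsg.IrrCharacter G) (hχ : χ ∈ B) : Cfsg.blockHeight p B (χ : G → ℂ) ≤ ((Subgroup.center P).index).factorization p := by
  haveI : Fintype G := Fintype.ofFinite G
  exact height_le_aux p M hM _ G rfl hsolv B hB P hP χ hχ

end Cfsg.Agent.S4439
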