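import Cfsg.Statements.S4443
import Cfsg.Agent.Helper5.Robinson3

set_option autoImplicit false
open Cfsg

namespace Cfsg.Agent.S4443

/-- Let D be a normal p-subgroup of the finite group G, of order p^d, let p^a be the p-part of the order of G, and fix a Sylow p-subgroup S and a maximal ideal M of the algebraic integers containing p. Index by a finite type ι (via an injective map K) exactly the conjugacy classes of p-regular elements x of G for which D is a Sylow p-subgroup of C_G(x). For classes K_i, K_j let ω(i, j) be the number of pairs (y, z) ∈ K_i × K_j with z y⁻¹ ∈ S; this number is divisible by p^(a−d). Then the number of p-blocks of G having D as a defect group equals the rank over ℤ/pℤ of the matrix with (i, j) entry ω(i, j)/p^(a−d) reduced modulo p. -/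
theorem result {G : Type*} [Group G] [Finite G] (p : ℕ) [Fact p.Prime] (M : Ideal Cfsg.AlgInt) (hM : Cfsg.IsPModular p M) (D : Subgroup G) [D.Normal] (hD : IsPGroup p D) (S : Sylow p G) {ι : Type*} [Fintype ι] [DecidableEq ι] (K : ι → ConjClasses G) (hKinj : Function.Injective K) (hK : ∀ C : ConjClasses G, (∃ i, K i = C) ↔ ∃ x ∈ C.carrier, ¬ p ∣ orderOf x ∧ ∃ Q : Sylow p (Subgroup.centralizer ({x} : Set G)), (Q : Subgroup (Subgroup.centralizer ({x} : Set G))).map (Subgroup.centralizer ({x} : Set G)).subtype = D) : Nat.card {B : Set (Cfsg.IrrCharacter G) // Cfsg.IsPBlock M B ∧ Cfsg.IsDefectGroup p M B D} = (Matrix.of fun i j : ι => ((Nat.card {yz : G × G // yz.1 ∈ (K i).carrier ∧ yz.2 ∈ (K j).carrier ∧ yz.2 * yz.1⁻¹ ∈ (S : Subgroup G)} / p ^ ((Nat.card G).factorization p - (Nat.card D).factorization p) : ℕ) : ZMod p)).rank := by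
  classical
  have : Fintype G := Fintype.ofFinite G
  have : Fintype (IrrCharacter G) := Fintype.ofFinite _
  have hmk : ∀ i, ConjClasses.mk (Cfsg.Agent.Helper5.CC.rep (K i)) = K i := fun i =>
    Cfsg.Agent.Helper5.CC.mk_rep (K i)
  have hxinj : Function.Injective fun i => ConjClasses.mk (Cfsg.Agent.Helper5.CC.rep (K i)) := by
    intro i j hij
    simp only [hmk] at hij
    exact hKinj hij
  have hx : ∀ C : ConjClasses G, (∃ i, ConjClasses.mk (Cfsg.Agent.Helper5.CC.rep (K i)) = C) ↔
      ∃ g : G, ConjClasses.mk g = C ∧ ¬ p ∣ orderOf g ∧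
        Cfsg.Agent.Helper14.IsSylowIn p D (Subgroup.centralizer ({g} : Set G)) := by
    intro C
    simp_rw [hmk]
    rw [hK C]
    constructor
    · rintro ⟨g, hg, hreg, hQ⟩
      exact ⟨g, ConjClasses.mem_carrier_iff_mk_eq.mp hg, hreg,
        Cfsg.Agent.Helper14.isSylowIn_iff.mpr hQ⟩
    · rintro ⟨g, hg, hreg, hQ⟩
      exact ⟨g, ConjClasses.mem_carrier_iff_mk_eq.mpr hg, hreg,
        Cfsg.Agent.Helper14.isSylowIn_iff.mp hQ⟩
  have hmain := Cfsg.Agent.Helper5.Rob.main hM D hD S
    (fun i => Cfsg.Agent.Helper5.CC.rep (K i)) hxinj hx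
  rw [hmain]
  congr 1
  ext i j
  simp only [Matrix.of_apply]
  congr 2
  apply Nat.card_congr
  apply Equiv.subtypeEquivRight
  intro yz
  have key : ∀ (i : ι) (t : G), IsConj (Cfsg.Agent.Helper5.CC.rep (K i)) t ↔ t ∈ (K i).carrier := by
    intro i t
    rw [ConjClasses.mem_carrier_iff_mk_eq]
    constructor
    · intro h
      rw [← hmk i]
      exact ConjClasses.mk_eq_mk_iff_isConj.mpr h.symm
    · intro h
      have h2 : ConjClasses.mk t = ConjClasses.mk (Cfsg.Agent.Helper5.CC.rep (K i)) :=
        h.trans (hmk i).symm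
      exact (ConjClasses.mk_eq_mk_iff_isConj.mp h2).symm
  rw [key i, key j]

end Cfsg.Agent.S4443
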