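import Cfsg.Statements.S4446
import Cfsg.Agent.Helper24.GlaubCyc

set_option autoImplicit false
open Cfsg Cfsg.Agent.Helper24

namespace Cfsg.Agent.S4446

/-- Let the finite group Γ be generated by a normal subgroup G and a cyclic subgroup S of coprime orders, C = G ⊓ C(S), and let χ be an S-invariant irreducible character of G with canonical extension χ̂ to Γ (the extension whose determinantal order is coprime to the order of S). Then there are exactly one irreducible character β of C and one sign ε such that χ̂(c s) = ε β(c) for every c ∈ C and every generator s of S; this β is a constituent of the restriction of χ to C; distinct S-invariant χ give distinct β; and every irreducible character of C arises in this way. -/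
theorem result {Γ : Type*} [Group Γ] [Fintype Γ] (G S : Subgroup Γ) [Fintype G] (hnorm : ∀ s ∈ S, ∀ g ∈ G, s * g * s⁻¹ ∈ G) (hcop : (Nat.card G).Coprime (Nat.card S)) (htop : G ⊔ S = ⊤) (hcyc : IsCyclic S) (C : Subgroup Γ) [Fintype C] (hC : C = G ⊓ Subgroup.centralizer (S : Set Γ)) (hCG : C ≤ G) : (∀ (χ : Cfsg.IrrCharacter G) (χh : Cfsg.IrrCharacter Γ), (∀ s ∈ S, ∀ g g' : G, (g' : Γ) = s * g * s⁻¹ → (χ : G → ℂ) g' = (χ : G → ℂ) g) → (∀ g : G, (χh : Γ → ℂ) g = (χ : G → ℂ) g) → (Cfsg.detOrder (χh : Γ → ℂ)).Coprime (Nat.card S) → (∃! βε : Cfsg.IrrCharacter C × ℤ, (βε.2 = 1 ∨ βε.2 = -1) ∧ ∀ c : C, ∀ s : Γ, Subgroup.zpowers s = S → (χh : Γ → ℂ) ((c : Γ) * s) = (βε.2 : ℂ) * (βε.1 : C → ℂ) c) ∧ ∀ β : Cfsg.IrrCharacter C, ∀ ε : ℤ, (ε = 1 ∨ ε = -1) → (∀ c : C, ∀ s : Γ, Subgroup.zpowers s = S → (χh : Γ → ℂ) ((c : Γ) * s) = (ε : ℂ) * (β : C → ℂ) c) → Cfsg.classInner (fun c : C => (χ : G → ℂ) ⟨c, hCG c.2⟩) (β : C → ℂ) ≠ 0) ∧ (∀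 (χ χ' : Cfsg.IrrCharacter G) (χh χh' : Cfsg.IrrCharacter Γ), (∀ s ∈ S, ∀ g g' : G, (g' : Γ) = s * g * s⁻¹ → (χ : G → ℂ) g' = (χ : G → ℂ) g) → (∀ s ∈ S, ∀ g g' : G, (g' : Γ) = s * g * s⁻¹ → (χ' : G → ℂ) g' = (χ' : G → ℂ) g) → (∀ g : G, (χh : Γ → ℂ) g = (χ : G → ℂ) g) → (∀ g : G, (χh' : Γ → ℂ) g = (χ' : G → ℂ) g) → (Cfsg.detOrder (χh : Γ → ℂ)).Coprime (Nat.card S) → (Cfsg.detOrder (χh' : Γ → ℂ)).Coprime (Nat.card S) → ∀ β : Cfsg.IrrCharacter C, ∀ ε ε' : ℤ, (ε = 1 ∨ ε = -1) → (ε' = 1 ∨ ε' = -1) → (∀ c : C, ∀ s : Γ, Subgroup.zpowers s = S → (χh : Γ → ℂ) ((c : Γ) * s) = (ε : ℂ) * (β : C → ℂ) c) → (∀ c : C, ∀ s : Γ, Subgroup.zpowers s = S → (χh' : Γ → ℂ) ((c : Γ) * s) = (ε' : ℂ) * (β : C → ℂ) c) → χ = χ') ∧ (∀ β : Cfsg.IrrCharacter C, ∃ (χ : Cfsg.IrrCharacter G) (χh : Cfsg.IrrCharacter Γ) (ε : ℤ), (∀ s ∈ S, ∀ g g' : G, (g' : Γ) = s * g * s⁻¹ → (χ : G → ℂ) g' = (χ : G → ℂ) g) ∧ (∀ g : G, (χh : Γ → ℂ) g = (χ : G → ℂ) g) ∧ (Cfsg.detOrder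 (χh : Γ → ℂ)).Coprime (Nat.card S) ∧ (ε = 1 ∨ ε = -1) ∧ ∀ c : C, ∀ s : Γ, Subgroup.zpowers s = S → (χh : Γ → ℂ) ((c : Γ) * s) = (ε : ℂ) * (β : C → ℂ) c) := by
  classical
  haveI : Finite Γ := Finite.of_fintype Γ
  haveI hGn : G.Normal := normal_of_sup_eq_top hnorm htop
  haveI := hcyc
  obtain ⟨⟨s₀, hs₀S⟩, hgen⟩ := IsCyclic.exists_generator (α := S)
  have hz : Subgroup.zpowers s₀ = S := by
    apply le_antisymm
    · rw [Subgroup.zpowers_le]; exact hs₀S
    · intro x hx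
      have := hgen ⟨x, hx⟩
      rw [Subgroup.mem_zpowers_iff] at this ⊢
      obtain ⟨k, hk⟩ := this
      refine ⟨k, ?_⟩
      have := congrArg Subtype.val hk
      simpa using this
  have hord : orderOf s₀ = Nat.card S := by rw [← hz, Nat.card_zpowers]
  have hcop' : (Nat.card G).Coprime (orderOf s₀) := by rw [hord]; exact hcop
  have htop' : G ⊔ Subgroup.zpowers s₀ = ⊤ := by rw [hz]; exact htop
  have hCfix : C = fixC G s₀ := by rw [hC]; exact inf_centralizer_eq_fixC G hz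
  subst hCfix
  -- generic facts
  have hcanon : ∀ (χ : Cfsg.IrrCharacter G) (χh : Cfsg.IrrCharacter Γ),
      (∀ g : G, (χh : Γ → ℂ) g = (χ : G → ℂ) g) →
      (Cfsg.detOrder (χh : Γ → ℂ)).Coprime (Nat.card S) → IsCanon G s₀ (χh : Γ → ℂ) := by
    intro χ χh hext hdet
    refine ⟨hcop', htop', χh.2, ?_, by rw [hord]; exact hdet⟩
    have : (fun g : G => (χh : Γ → ℂ) g) = (χ : G → ℂ) := funext hext
    rw [this]; exact χ.2
  have hgenval : ∀ (ψ : Γ → ℂ), IsCanon G s₀ ψ → ∀ (c : fixC G s₀) (s : Γ),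
      Subgroup.zpowers s = S → ψ ((c : Γ) * s) = ψ ((c : Γ) * s₀) := by
    intro ψ hψ c s hs
    obtain ⟨j, hj, rfl⟩ := exists_pow_of_zpowers_eq (hs.trans hz.symm)
    exact hψ.pow_eq j hj c
  refine ⟨?_, ?_, ?_⟩
  · intro χ χh hinv hext hdet
    have hcan := hcanon χ χh hext hdet
    obtain ⟨β, ε, hε, hval⟩ := hcan.exists_sign_irr
    refine ⟨⟨(β, ε), ⟨hε, fun c s hs => ?_⟩, ?_⟩, ?_⟩
    · rw [hgenval _ hcan c s hs]; exact hval c
    · rintro ⟨β', ε'⟩ ⟨hε', hval'⟩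
      simp only at hε' hval'
      have heq : ∀ c : fixC G s₀, (ε' : ℂ) * (β' : fixC G s₀ → ℂ) c =
          (ε : ℂ) * (β : fixC G s₀ → ℂ) c := by
        intro c
        rw [← hval' c s₀ hz, hval c]
      have h1 := heq 1
      rw [irrDeg_spec β, irrDeg_spec β'] at h1
      have hp := irrDeg_pos β
      have hp' := irrDeg_pos β'
      have hεε : ε' = ε := by
        rcases hε with rfl | rfl <;> rcases hε' with rfl | rfl
        · rfl
        · exfalso
          have : (-(irrDeg β' : ℤ)) = (irrDeg β : ℤ) := by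
            have h2 : ((-(irrDeg β' : ℤ) : ℤ) : ℂ) = ((irrDeg β : ℤ) : ℂ) := by
              push_cast
              simpa using h1
            exact_mod_cast h2
          omega
        · exfalso
          have : ((irrDeg β' : ℤ)) = -(irrDeg β : ℤ) := by
            have h2 : (((irrDeg β' : ℤ) : ℤ) : ℂ) = ((-(irrDeg β : ℤ) : ℤ) : ℂ) := by
              push_cast
              simpa using h1
            exact_mod_cast h2
          omega
        · rfl
      subst hεε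
      have hε0 : (ε' : ℂ) ≠ 0 := by
        rcases hε with rfl | rfl <;> simp
      have hββ : β' = β := by
        apply Subtype.ext
        funext c
        exact mul_left_cancel₀ hε0 (heq c)
      rw [hββ]
    · intro β' ε' hε' hval'
      obtain ⟨N, a, hN, ha, h0, -⟩ := hcan.classInner_tw_int β'
      have htw : tw G s₀ (χh : Γ → ℂ) = (ε' : ℂ) • (β' : fixC G s₀ → ℂ) := by
        funext c
        exact hval' c s₀ hz
      rw [htw, classInner_smul_left, classInner_of_isIrrCharacter β'.2 β'.2, if_pos rfl,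
        mul_one] at ha
      have ha0 : a ≠ 0 := by
        have : a = ε' := by exact_mod_cast ha.symm
        rw [this]
        rcases hε' with rfl | rfl <;> simp
      have hN0 : N ≠ 0 := fun h => ha0 (h0 h)
      have hfun : (fun c : fixC G s₀ => (χ : G → ℂ) ⟨c, hCG c.2⟩) =
          fun c : fixC G s₀ => (χh : Γ → ℂ) c := by
        funext c
        exact (hext ⟨c, hCG c.2⟩).symm
      rw [hfun, hN]
      exact_mod_cast hN0
  · intro χ χ' χh χh' hinv hinv' hext hext' hdet hdet' β ε ε' hε hε' hval hval'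
    have h1 : GlaubRel G s₀ (χ : G → ℂ) (β : fixC G s₀ → ℂ) :=
      ⟨χh, ε, hcanon χ χh hext hdet, hext, hε, fun c => hval c s₀ hz⟩
    have h2 : GlaubRel G s₀ (χ' : G → ℂ) (β : fixC G s₀ → ℂ) :=
      ⟨χh', ε', hcanon χ' χh' hext' hdet', hext', hε', fun c => hval' c s₀ hz⟩
    exact GlaubRel.inj h1 h2
  · intro β
    obtain ⟨χ, hinvχ, ψ, ε, hcan, hres, hε, hval⟩ := GlaubRel.surj hcop' htop' β
    refine ⟨χ, ⟨ψ, hcan.irr⟩, ε, ?_, hres, ?_, hε, ?_⟩
    · intro s hs g g' hgg'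
      rw [← hres g', ← hres g, hgg']
      exact IsCharacter.isClassFunction (IsIrrCharacter.isCharacter hcan.irr) _ _
    · have := hcan.det
      rw [hord] at this
      exact this
    · intro c s hs
      show ψ ((c : Γ) * s) = _
      rw [hgenval ψ hcan c s hs]
      exact hval c


end Cfsg.Agent.S4446
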