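import Cfsg.Statements.S4450
import Cfsg.Agent.Helper24.TripleReduce

set_option autoImplicit false
open Cfsg Cfsg.Agent.Helper24

namespace Cfsg.Agent.S4450

/-- Let N ≤ G be normal subgroups of the finite group Γ with the index of G in Γ coprime to the index of N in G, and Γ/G or G/N solvable. Then for every irreducible character ϑ of N invariant under conjugation by Γ, the induced character ϑ^G has an irreducible constituent invariant under conjugation by Γ. -/
theorem result {Γ : Type*} [Group Γ] [Fintype Γ] (G N : Subgroup Γ) [hG : G.Normal] [hN : N.Normal] [Fintype G] [Fintype N] (hNG : N ≤ G) (hcop : (G.index).Coprime (N.relIndex G)) (hsolv : Group.IsSolvable (Γ ⧸ G) ∨ Group.IsSolvable (G ⧸ N.subgroupOf G)) (θ : Cfsg.IrrCharacter N) (hinv : ∀ (x : Γ) (n : N), (θ : N → ℂ) ⟨x * n * x⁻¹, hN.conj_mem n n.2 x⟩ = (θ : N → ℂ) n) : ∃ χ : Cfsg.IrrCharacter G, Cfsg.classInner (fun n : N => (χ : G → ℂ) ⟨n, hNG n.2⟩) (θ : N → ℂ) ≠ 0 ∧ ∀ (x : Γ) (g : G),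 (χ : G → ℂ) ⟨x * g * x⁻¹, hG.conj_mem g g.2 x⟩ = (χ : G → ℂ) g := by
  classical
  obtain ⟨d, Y, hY, hYθ⟩ := θ.2
  haveI := hY
  obtain ⟨k, hkdef⟩ : ∃ k : ℕ, k = Nat.card N := ⟨_, rfl⟩
  have hk : ∀ n : N, n ^ k = 1 := fun n => by rw [hkdef]; exact pow_card_eq_one'
  have hkpos : 0 < k := by rw [hkdef]; exact Nat.card_pos
  haveI : Finite (liftGroup N (MonoidHom.toHomUnits Y) k) := finite_liftGroup N Y k hkpos
  have hinv' : ∀ (g : Γ) (n : N),
      Y.character ⟨g * n * g⁻¹, hN.conj_mem (n : Γ) n.2 g⟩ = Y.character n := by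
    rw [hYθ]
    exact hinv
  have hp := liftProj_surjective N Y k hinv'
  haveI hNn : (liftIncl N Y k hk).range.Normal := liftIncl_range_normal N Y k hk
  have hsolv' : (∃ j, derivedSeries Γ j ≤ G) ∨ (∃ j, dser G j ≤ N) := by
    rcases hsolv with h | h
    · left
      obtain ⟨j, hj⟩ := (Group.isSolvable_def (Γ ⧸ G)).mp h
      refine ⟨j, ?_⟩
      rw [← map_derivedSeries_eq (QuotientGroup.mk'_surjective G) j] at hj
      have := (Subgroup.map_eq_bot_iff _).mp hj
      rwa [QuotientGroup.ker_mk'] at this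
    · right
      exact exists_dser_le h
  obtain ⟨χ, ⟨c, hc, hχN⟩, hχinv⟩ := exists_invariant_over_of_lift
    (liftProj N (MonoidHom.toHomUnits Y) k) hp (ker_liftProj_le_center N Y k) G N hNG hcop hsolv'
    (liftIncl N Y k hk) (fun n => rfl) (liftRep N Y k).character ⟨d, liftRep N Y k, rfl⟩ θ
    (fun n => by rw [← hYθ]; rfl)
  refine ⟨χ, ?_, fun x g => hχinv x g _ rfl⟩
  have h1 : (fun n : N => (χ : G → ℂ) ⟨n, hNG n.2⟩) = c • (θ : N → ℂ) := by
    funext n
    rw [hχN n]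
    rfl
  rw [h1, classInner_smul_left, classInner_irr_self, mul_one]
  exact hc

end Cfsg.Agent.S4450
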