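import Cfsg.Statements.S4451
import Cfsg.Agent.Helper8.FpfRestrict
import Cfsg.Agent.Helper24.Linear
import Cfsg.Agent.Helper24.Codegree

set_option autoImplicit false
open Cfsg Cfsg.Agent.Helper24

namespace Cfsg.Agent.S4451

/-- Let the finite group Γ be generated by a normal subgroup G and a cyclic subgroup S of coprime orders such that every non-identity element of S has the same centraliser C = G ⊓ C(S) in G. Let χ be an S-invariant irreducible character of G, χ̂ its canonical extension to Γ (determinantal order coprime to the order of S), and β the irreducible character of C with χ̂(c s) = ε₀ β(c) for c ∈ C and generators s of S (ε₀ = ±1). Then there are a sign ε = ±1, which may differ from ε₀, and a linear character μ of S with μ² = 1, such that: (a) χ̂(c x) = ε β(c) μ(x) for all c ∈ C and all x ∈ S other than 1; (b) the restriction of χ to C equals |S|·ϑ + ε β for some character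 ϑ of C or ϑ = 0; (c) |S| divides χ(1) − ε β(1). -/
theorem result {Γ : Type*} [Group Γ] [Fintype Γ] (G S : Subgroup Γ) [Fintype G] (hnorm : ∀ s ∈ S, ∀ g ∈ G, s * g * s⁻¹ ∈ G) (hcop : (Nat.card G).Coprime (Nat.card S)) (htop : G ⊔ S = ⊤) (hcyc : IsCyclic S) (C : Subgroup Γ) [Fintype C] (hC : C = G ⊓ Subgroup.centralizer (S : Set Γ)) (hCG : C ≤ G) (hfpf : ∀ x ∈ S, x ≠ 1 → G ⊓ Subgroup.centralizer ({x} : Set Γ) = C) (χ : Cfsg.IrrCharacter G) (hinv : (∀ s ∈ S, ∀ g g' : G, (g' : Γ) = s * g * s⁻¹ → (χ : G → ℂ) g' = (χ : G → ℂ) g)) (χh : Cfsg.IrrCharacter Γ) (hext : (∀ g : G, (χh : Γ → ℂ) g = (χ : G → ℂ) g)) (hdet : (Cfsg.detOrder (χh : Γ → ℂ)).Coprime (Nat.card S)) (β : Cfsg.IrrCharacter C) (ε₀ : ℤ) (hε₀ : ε₀ = 1 ∨ ε₀ = -1) (hβ : ∀ c : C, ∀ s : Γ, Subgroup.zpowers s = S → (χh : Γ → ℂ) ((c : Γ) * s) = (ε₀ : ℂ) * (β : C → ℂ) c) : ∃ ε : ℤ, (ε = 1 ∨ ε = -1) ∧ (∃ μ : S → ℂ, Cfsg.IsCharacter S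 μ ∧ μ 1 = 1 ∧ (∀ x : S, μ x * μ x = 1) ∧ ∀ c : C, ∀ x : S, x ≠ 1 → (χh : Γ → ℂ) ((c : Γ) * x) = (ε : ℂ) * (β : C → ℂ) c * μ x) ∧ (∃ ϑ : C → ℂ, Cfsg.IsCharacter C ϑ ∧ (fun c : C => (χ : G → ℂ) ⟨c, hCG c.2⟩) = fun c => (Nat.card S : ℂ) * ϑ c + (ε : ℂ) * (β : C → ℂ) c) ∧ (Nat.card S : ℤ) ∣ (Cfsg.charDegree (χ : G → ℂ) : ℤ) - ε * (Cfsg.charDegree (β : C → ℂ) : ℤ) := by
  classical
  haveI : Finite Γ := Finite.of_fintype Γ
  haveI hGn : G.Normal := normal_of_sup_eq_top hnorm htop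
  haveI := hcyc
  obtain ⟨⟨s₀, hs₀S⟩, hgen⟩ := IsCyclic.exists_generator (α := S)
  have hz : Subgroup.zpowers s₀ = S := by
    apply le_antisymm
    · rw [Subgroup.zpowers_le]; exact hs₀S
    · intro x hx
      have := hgen ⟨x, hx⟩
      rw [Subgroup.mem_zpowers_iff] at this ⊢
      obtain ⟨k, hk⟩ := this
      refine ⟨k, ?_⟩
      have := congrArg Subtype.val hk
      simpa using this
  have hord : orderOf s₀ = Nat.card S := by rw [← hz, Nat.card_zpowers]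
  have hcop' : (Nat.card G).Coprime (orderOf s₀) := by rw [hord]; exact hcop
  have hCfix : C = fixC G s₀ := by rw [hC]; exact inf_centralizer_eq_fixC G hz
  subst hCfix
  have hβ' : ∀ c : fixC G s₀, (χh : Γ → ℂ) ((c : Γ) * s₀) = (ε₀ : ℂ) * (β : fixC G s₀ → ℂ) c :=
    fun c => hβ c s₀ hz
  have hχ1 : (χ : G → ℂ) 1 = (irrDeg χ : ℂ) := irrDeg_spec χ
  have hβ1 : (β : fixC G s₀ → ℂ) 1 = (irrDeg β : ℂ) := irrDeg_spec β
  by_cases hn : 2 ≤ orderOf s₀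
  · -- the main case
    have hfpf' : ∀ j, 0 < j → j < orderOf s₀ → fixC G (s₀ ^ j) = fixC G s₀ := by
      intro j hj0 hjn
      exact hfpf (s₀ ^ j) (S.pow_mem hs₀S j) (pow_ne_one_of_lt_orderOf hj0.ne' hjn)
    have hψG : IsIrrCharacter G (fun g : G => (χh : Γ → ℂ) g) := by
      have : (fun g : G => (χh : Γ → ℂ) g) = (χ : G → ℂ) := funext hext
      rw [this]; exact χ.2
    obtain ⟨ε, δ, ϑ, hε, hδ, hδn, hval, hϑ, hres⟩ :=
      Cfsg.Agent.Helper8.Fpf.fpf_restrict G s₀ hcop' hn hfpf' (χh : Γ → ℂ) χh.2 hψG β ε₀ hε₀ hβ'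
    have hδδ : δ * δ = 1 := by
      rcases hδ with h | h <;> rw [h] <;> norm_num
    obtain ⟨δu, hδu⟩ : ∃ δu : ℂˣ, (δu : ℂ) = δ := ⟨⟨δ, δ, hδδ, hδδ⟩, rfl⟩
    have hordg : orderOf (⟨s₀, hs₀S⟩ : S) = orderOf s₀ := by
      rw [← Subgroup.orderOf_coe]
    have hdvd : orderOf δu ∣ orderOf (⟨s₀, hs₀S⟩ : S) := by
      apply orderOf_dvd_of_pow_eq_one
      apply Units.ext
      rw [Units.val_pow_eq_pow_val, hδu, hordg, hδn]
      rfl
    obtain ⟨φ, hφ⟩ : ∃ φ : S →* ℂˣ, φ ⟨s₀, hs₀S⟩ = δu :=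
      ⟨monoidHomOfForallMemZpowers hgen hdvd, monoidHomOfForallMemZpowers_apply_gen hgen hdvd⟩
    have hφpow : ∀ j : ℕ, ((φ ((⟨s₀, hs₀S⟩ : S) ^ j) : ℂˣ) : ℂ) = δ ^ j := by
      intro j
      rw [map_pow, hφ, Units.val_pow_eq_pow_val, hδu]
    have hexj : ∀ x : S, ∃ j : ℕ, j < orderOf s₀ ∧ (⟨s₀, hs₀S⟩ : S) ^ j = x := by
      intro x
      have h1 := hgen x
      rw [← mem_powers_iff_mem_zpowers, Submonoid.mem_powers_iff] at h1
      obtain ⟨j, hj⟩ := h1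
      refine ⟨j % orderOf s₀, Nat.mod_lt _ (orderOf_pos s₀), ?_⟩
      rw [← hordg, pow_mod_orderOf, hj]
    refine ⟨ε, hε, ⟨fun x => ((Units.coeHom ℂ).comp φ) x,
      isCharacter_of_monoidHom ((Units.coeHom ℂ).comp φ), map_one _, ?_, ?_⟩, ⟨ϑ, hϑ, ?_⟩, ?_⟩
    · intro x
      obtain ⟨j, -, rfl⟩ := hexj x
      show ((φ ((⟨s₀, hs₀S⟩ : S) ^ j) : ℂˣ) : ℂ) * ((φ ((⟨s₀, hs₀S⟩ : S) ^ j) : ℂˣ) : ℂ) = 1
      rw [hφpow, ← mul_pow, hδδ, one_pow]
    · intro c x hx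
      obtain ⟨j, hjn, rfl⟩ := hexj x
      have hj0 : 0 < j := by
        rcases Nat.eq_zero_or_pos j with h | h
        · exfalso; apply hx; rw [h, pow_zero]
        · exact h
      show (χh : Γ → ℂ) ((c : Γ) * (((⟨s₀, hs₀S⟩ : S) ^ j : S) : Γ)) =
        (ε : ℂ) * (β : fixC G s₀ → ℂ) c * ((φ ((⟨s₀, hs₀S⟩ : S) ^ j) : ℂˣ) : ℂ)
      rw [hφpow, Subgroup.coe_pow]
      exact hval c j hj0 hjn
    · funext c
      rw [← hord, ← hres c]
      exact (hext ⟨c, hCG c.2⟩).symm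
    · obtain ⟨d, ρ, hρ⟩ := hϑ
      have hϑ1 : ϑ 1 = (d : ℂ) := by
        rw [← hρ, Representation.char_one]
        simp
      have h1 := hres 1
      have h2 : (χh : Γ → ℂ) ((1 : fixC G s₀) : Γ) = (χ : G → ℂ) 1 := hext 1
      rw [h2, hχ1, hβ1, hϑ1] at h1
      rw [charDegree_irr, charDegree_irr, ← hord]
      refine ⟨(d : ℤ), ?_⟩
      have h3 : (((irrDeg χ : ℤ) - ε * (irrDeg β : ℤ) : ℤ) : ℂ) =
          (((orderOf s₀ : ℤ) * (d : ℤ) : ℤ) : ℂ) := by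
        push_cast
        rw [h1]; ring
      exact_mod_cast h3
  · -- trivial `S`
    have h1 : orderOf s₀ = 1 := by
      have := orderOf_pos s₀
      omega
    have hs1 : s₀ = 1 := orderOf_eq_one_iff.mp h1
    have hS1 : ∀ x : S, x = 1 := by
      intro x
      have hx : (x : Γ) ∈ Subgroup.zpowers s₀ := by rw [hz]; exact x.2
      rw [hs1, Subgroup.zpowers_one_eq_bot, Subgroup.mem_bot] at hx
      exact Subtype.ext hx
    have hcard : Nat.card S = 1 := by rw [← hord, h1]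
    have hres : ∀ c : fixC G s₀, (χ : G → ℂ) ⟨c, hCG c.2⟩ = (ε₀ : ℂ) * (β : fixC G s₀ → ℂ) c := by
      intro c
      rw [← hext ⟨c, hCG c.2⟩]
      have h3 : (c : Γ) * s₀ = (c : Γ) :=
        (congrArg (fun t => (c : Γ) * t) hs1).trans (mul_one _)
      have := hβ' c
      rw [h3] at this
      exact this
    refine ⟨ε₀, hε₀, ⟨fun _ => 1, isCharacter_const_one, rfl, fun _ => by norm_num, ?_⟩,
      ⟨0, isCharacter_zero, ?_⟩, ?_⟩
    · intro c x hx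
      exact absurd (hS1 x) hx
    · funext c
      rw [hres c]
      simp
    · rw [hcard]
      exact one_dvd _

end Cfsg.Agent.S4451
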