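import Cfsg.Statements.S4459
import Cfsg.Agent.Helper29.CdpD
-- import your own Cfsg.Agent.* helpers here

set_option autoImplicit false
open Cfsg
open scoped commutatorElement

namespace Cfsg.Agent.S4459

/-- Let G be a non-abelian finite group and p a prime. Then the irreducible character degrees of G are exactly 1 and p if and only if either G has an abelian normal subgroup of index p or the centre of G has index p³. -/
theorem result {G : Type*} [Group G] [Finite G] (hG : ∃ a b : G, a * b ≠ b * a) (p : ℕ) (hp : p.Prime) : ((∀ χ : Cfsg.IrrCharacter G, Cfsg.charDegree (χ : G → ℂ) = 1 ∨ Cfsg.charDegree (χ : G → ℂ) = p) ∧ ∃ χ : Cfsg.IrrCharacter G, Cfsg.charDegree (χ : G → ℂ) = p) ↔ ((∃ A : Subgroup G, A.Normal ∧ (∀ a ∈ A, ∀ b ∈ A, a * b = b * a) ∧ A.index = p) ∨ (Subgroup.center G).index = p ^ 3) := by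
  classical
  haveI : Fintype G := Fintype.ofFinite G
  have hGna : ¬ commutator G ≤ (⊥ : Subgroup G) := by
    intro hle
    obtain ⟨a, b, hab⟩ := hG
    apply hab
    have h1 : ⁅a, b⁆ ∈ commutator G :=
      Subgroup.commutator_mem_commutator (Subgroup.mem_top _) (Subgroup.mem_top _)
    have h2 := hle h1
    rw [Subgroup.mem_bot, commutatorElement_eq_one_iff_commute] at h2
    exact h2.eq
  constructor
  · rintro ⟨hcd, -⟩
    exact Cfsg.Agent.Helper29.Cdp.forward p hp hG hcd
  · intro hcase
    have hdeg : ∀ χ : Cfsg.IrrCharacter G, Cfsg.Agent.Helper24.irrDeg χ = 1 ∨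
        Cfsg.Agent.Helper24.irrDeg χ = p := by
      intro χ
      rcases hcase with ⟨A, hAn, hAab, hAidx⟩ | hcen
      · obtain ⟨d, hd, hdvd⟩ := Cfsg.Agent.Helper24.ito_character A hAab (χ : G → ℂ) χ.2
        rw [Cfsg.Agent.Helper24.irrDeg_spec] at hd
        have hd' : Cfsg.Agent.Helper24.irrDeg χ = d := by exact_mod_cast hd
        rw [hAidx] at hdvd
        rw [hd']
        exact (Nat.dvd_prime hp).mp hdvd
      · have hab : ∀ a ∈ Subgroup.center G, ∀ b ∈ Subgroup.center G, a * b = b * a :=
          fun a _ b hb => Subgroup.mem_center_iff.mp hb a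
        obtain ⟨d, hd, hdvd⟩ :=
          Cfsg.Agent.Helper24.ito_character (Subgroup.center G) hab (χ : G → ℂ) χ.2
        rw [Cfsg.Agent.Helper24.irrDeg_spec] at hd
        have hd' : Cfsg.Agent.Helper24.irrDeg χ = d := by exact_mod_cast hd
        rw [hcen] at hdvd
        obtain ⟨k, hk, hdk⟩ := (Nat.dvd_prime_pow hp).mp hdvd
        have hle := Cfsg.Agent.Helper12.irrDeg_sq_mul_card_center_le χ
        rw [← Subgroup.card_mul_index (Subgroup.center G), hcen, hd', hdk, mul_comm] at hle
        have hle2 : (p ^ k) ^ 2 ≤ p ^ 3 := Nat.le_of_mul_le_mul_left hle Nat.card_pos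
        rw [← pow_mul] at hle2
        have hk2 : k * 2 ≤ 3 := (Nat.pow_le_pow_iff_right hp.one_lt).mp hle2
        rw [hd', hdk]
        have hk1 : k = 0 ∨ k = 1 := by omega
        rcases hk1 with rfl | rfl
        · left; rw [pow_zero]
        · right; rw [pow_one]
    refine ⟨?_, ?_⟩
    · intro χ
      rw [Cfsg.Agent.Helper24.charDegree_irr]
      exact hdeg χ
    · obtain ⟨χ, hχ⟩ := Cfsg.Agent.Helper29.TwoDeg.exists_nonlinear hGna
      refine ⟨χ, ?_⟩
      rw [Cfsg.Agent.Helper24.charDegree_irr]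
      rcases hdeg χ with h1 | h1
      · exact absurd h1 hχ
      · exact h1

end Cfsg.Agent.S4459
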