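import Cfsg.Statements.S4473
import Cfsg.Agent.Helper24.Deg2Main

set_option autoImplicit false
open Cfsg Cfsg.Agent.Helper24

namespace Cfsg.Agent.S4473

/-- Let the finite group G have a faithful irreducible character χ of degree 2 that is primitive: χ is not induced from a character of any proper subgroup. Then the centre of G has index 12, 24 or 60. -/
theorem result {G : Type*} [Group G] [Fintype G] (χ : Cfsg.IrrCharacter G) (hfaith : ∀ g : G, (χ : G → ℂ) g = (χ : G → ℂ) 1 → g = 1) (h2 : Cfsg.charDegree (χ : G → ℂ) = 2) (hprim : ∀ H : Subgroup G, H ≠ ⊤ → ∀ θ : H → ℂ, Cfsg.IsCharacter H θ → (χ : G → ℂ) ≠ Cfsg.indFun H θ) : (Subgroup.center G).index = 12 ∨ (Subgroup.center G).index = 24 ∨ (Subgroup.center G).index = 60 := by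
  obtain ⟨n, ρ, hρ, hchar⟩ := χ.2
  haveI := hρ
  have h1 : (χ : G → ℂ) 1 = (n : ℂ) := by
    rw [← hchar]
    unfold Representation.character
    rw [map_one, Module.End.one_eq_id, LinearMap.trace_id, Module.finrank_fin_fun]
  have hn : n = 2 := by
    unfold Cfsg.charDegree at h2
    rw [h1] at h2
    simpa using h2
  subst hn
  have hfr : Module.finrank ℂ (Fin 2 → ℂ) = 2 := Module.finrank_fin_fun ℂ
  have hinj : Function.Injective ρ := by
    intro g h hgh
    have hone : ρ (g * h⁻¹) = 1 := by
      rw [map_mul, hgh, ← map_mul, mul_inv_cancel, map_one]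
    have : (χ : G → ℂ) (g * h⁻¹) = (χ : G → ℂ) 1 := by
      rw [← hchar]
      unfold Representation.character
      rw [hone, ← map_one ρ]
    exact mul_inv_eq_one.mp (hfaith _ this)
  exact Deg2.center_index_of_primitive hfr ρ hinj χ hchar hprim

end Cfsg.Agent.S4473
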