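import Cfsg.Statements.S4477
import Mathlib
import Cfsg.Agent.Helper20.AftD

set_option autoImplicit false
open Cfsg

namespace Cfsg.Agent.S4477

/-- Let G be a finite 2-group whose number of involutions is congruent to 1 modulo 4. Then G is cyclic or its commutator subgroup has index 4. -/
theorem result {G : Type*} [Group G] [Finite G] (hG : IsPGroup 2 G) (ht : Nat.card {x : G // orderOf x = 2} % 4 = 1) : IsCyclic G ∨ (commutator G).index = 4 := by
  classical
  by_cases hc : IsCyclic G
  · exact Or.inl hc
  right
  haveI : Fintype G := Fintype.ofFinite G
  haveI : Fact (Nat.Prime 2) := ⟨Nat.prime_two⟩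
  have hcount : Nat.card {s : G // s * s = 1} = Nat.card {x : G // orderOf x = 2} + 1 := by
    rw [Nat.card_eq_fintype_card, Nat.card_eq_fintype_card, Fintype.card_subtype,
      Fintype.card_subtype]
    have : Finset.univ.filter (fun s : G => s * s = 1) =
        insert 1 (Finset.univ.filter (fun x : G => orderOf x = 2)) := by
      ext s
      simp only [Finset.mem_filter, Finset.mem_univ, true_and, Finset.mem_insert]
      rw [orderOf_eq_prime_iff, sq]
      constructor
      · intro h
        by_cases h1 : s = 1
        · left; exact h1
        · right; exact ⟨h, h1⟩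
      · rintro (rfl | ⟨h, _⟩)
        · simp
        · exact h
    rw [this, Finset.card_insert_of_notMem]
    simp
  apply Cfsg.Agent.Helper20.commutator_index_eq_four hG hc
  rw [hcount]
  omega

end Cfsg.Agent.S4477
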