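import Cfsg.Statements.S4482
import Cfsg.Agent.Helper8.DihOrdN

set_option autoImplicit false
open Cfsg

namespace Cfsg.Agent.S4482

/-- An order formula for groups with dihedral Sylow 2-subgroups and one class of involutions. Let G be a finite group whose Sylow 2-subgroup P = ⟨σ, τ⟩ is dihedral of order 2^n ≥ 8 (σ of order 2^(n−1), τ an involution inverting σ), let J be the central involution σ^(2^(n−2)), and suppose J, τ and στ are conjugate in G. Fix M over 2 and let χ₁ be an irreducible character in the principal 2-block taking one constant value δ₁ = ±1 at every non-identity power of σ, with χ₁ ≠ 1. Then, with x₁ = χ₁(1) and c(·) denoting orders of centralizers, x₁ ≠ δ₁ and #G · (x₁ − δ₁)² = 2·x₁(x₁ + δ₁)·c(J)³·(1/c(J, τ) + 1/c(J, στ))², where c(J, y) is the order of the joint centralizer of J and y. -/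
theorem result {G : Type*} [Group G] [Finite G] (M : Ideal Cfsg.AlgInt) (hM : Cfsg.IsPModular 2 M) (n : ℕ) (hn : 3 ≤ n) (P : Sylow 2 G) (σ τ : G) (hσ : σ ∈ (P : Subgroup G)) (hτ : τ ∈ (P : Subgroup G)) (hσo : orderOf σ = 2 ^ (n - 1)) (hτo : orderOf τ = 2) (hrel : τ * σ * τ⁻¹ = σ⁻¹) (hgen : Subgroup.closure ({σ, τ} : Set G) = (P : Subgroup G)) (hconj : IsConj (σ ^ (2 ^ (n - 2))) τ ∧ IsConj (σ ^ (2 ^ (n - 2))) (σ * τ)) (χ₁ : Cfsg.IrrCharacter G) (hχ₁ : χ₁ ∈ Cfsg.principalBlock M G) (h1 : (χ₁ : G → ℂ) ≠ (fun _ => 1)) (δ₁ : ℤ) (hδ₁ : δ₁ = 1 ∨ δ₁ = -1) (hval : ∀ l : ℕ, 0 < l → l < 2 ^ (n - 1) → (χ₁ : G → ℂ) (σ ^ l) = δ₁) : (Cfsg.charDegree (χ₁ : G → ℂ) : ℤ) ≠ δ₁ ∧ (Nat.card G : ℚ) * ((Cfsg.charDegree (χ₁ : G → ℂ) : ℚ) - δ₁) ^ 2 = 2 * (Cfsg.charDegree (χ₁ : G → ℂ) : ℚ) * ((Cfsg.charDegree (χ₁ : G → ℂ) : ℚ) + δ₁) * (Nat.card (Subgroup.centralizer ({σ ^ (2 ^ (n - 2))} :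 Set G)) : ℚ) ^ 3 * (1 / (Nat.card (Subgroup.centralizer ({σ ^ (2 ^ (n - 2)), τ} : Set G)) : ℚ) + 1 / (Nat.card (Subgroup.centralizer ({σ ^ (2 ^ (n - 2)), σ * τ} : Set G)) : ℚ)) ^ 2 := by
  classical
  haveI : Fintype G := Fintype.ofFinite G
  haveI : Fintype (Cfsg.IrrCharacter G) := Fintype.ofFinite _
  have hk : 2 ≤ n - 1 := by omega
  have hτ2 : τ * τ = 1 := by
    have := pow_orderOf_eq_one τ
    rwa [hτo, pow_two] at this
  have hhalf : 2 ^ (n - 1) / 2 = 2 ^ (n - 2) := by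
    obtain ⟨c, hc⟩ : ∃ c, n = c + 2 := ⟨n - 2, by omega⟩
    rw [hc, show c + 2 - 1 = c + 1 by omega, show c + 2 - 2 = c by omega, pow_succ]
    simp
  have hq4 : 4 ≤ 2 ^ (n - 1) := by
    calc 4 = 2 ^ 2 := by norm_num
      _ ≤ 2 ^ (n - 1) := Nat.pow_le_pow_right (by norm_num) hk
  obtain ⟨hequiv, helems⟩ := Cfsg.Agent.Helper8.DihOrd.exists_equiv_of_gens (P : Subgroup G)
    (2 ^ (n - 1)) (by omega) σ τ hσ hτ hσo hτo hrel hgen
  have S : Cfsg.Agent.Helper8.DihOrd.DSetup P σ τ (n - 1) :=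
    ⟨hk, hσ, hτ, hσo, hτ2, hrel, helems, hequiv, by rw [hhalf]; exact hconj⟩
  have h1' : χ₁ ≠ Cfsg.Agent.Helper24.trivIrr G := fun h => h1 (by rw [h]; rfl)
  obtain ⟨hne, hid⟩ := Cfsg.Agent.Helper8.DihOrd.main_identity S hM χ₁ hχ₁ h1' δ₁ hδ₁ hval
  rw [hhalf] at hid
  rw [Cfsg.Agent.Helper24.charDegree_irr χ₁]
  have hxpos : 0 < Cfsg.Agent.Helper24.irrDeg χ₁ := Cfsg.Agent.Helper24.irrDeg_pos χ₁
  have hczpos : 0 < Nat.card (Subgroup.centralizer ({σ ^ (2 ^ (n - 2))} : Set G)) := Nat.card_pos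
  have hc1pos : 0 < Nat.card (Subgroup.centralizer ({σ ^ (2 ^ (n - 2)), τ} : Set G)) :=
    Nat.card_pos
  have hc2pos : 0 < Nat.card (Subgroup.centralizer ({σ ^ (2 ^ (n - 2)), σ * τ} : Set G)) :=
    Nat.card_pos
  generalize Nat.card (Subgroup.centralizer ({σ ^ (2 ^ (n - 2))} : Set G)) = cz at *
  generalize Nat.card (Subgroup.centralizer ({σ ^ (2 ^ (n - 2)), τ} : Set G)) = c1 at *
  generalize Nat.card (Subgroup.centralizer ({σ ^ (2 ^ (n - 2)), σ * τ} : Set G)) = c2 at *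
  generalize Cfsg.Agent.Helper24.irrDeg χ₁ = x at *
  generalize Nat.card G = g at *
  have hidQ : (g : ℚ) * ((x : ℚ) - δ₁) ^ 2 = 2 * (x : ℚ) * ((x : ℚ) + δ₁) * (cz : ℚ) ^ 3 *
      (1 / (c1 : ℚ) + 1 / (c2 : ℚ)) ^ 2 := by
    apply Rat.cast_injective (α := ℂ)
    push_cast
    exact hid
  refine ⟨?_, hidQ⟩
  intro hcon
  have hcon' : (x : ℚ) = (δ₁ : ℚ) := by exact_mod_cast hcon
  rw [← hcon', sub_self] at hidQ
  have hx' : (0 : ℚ) < x := by exact_mod_cast hxpos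
  have hcz' : (0 : ℚ) < cz := by exact_mod_cast hczpos
  have hc1' : (0 : ℚ) < c1 := by exact_mod_cast hc1pos
  have hc2' : (0 : ℚ) < c2 := by exact_mod_cast hc2pos
  have hpos : (0 : ℚ) < 2 * (x : ℚ) * ((x : ℚ) + x) * (cz : ℚ) ^ 3 *
      (1 / (c1 : ℚ) + 1 / (c2 : ℚ)) ^ 2 := by positivity
  rw [← hidQ] at hpos
  norm_num at hpos

end Cfsg.Agent.S4482
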