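import Cfsg.Statements.S4487
import Cfsg.Agent.Helper14.PCore
import Cfsg.Agent.Helper5.ClaimN
import Cfsg.Agent.Helper5.BlockSupport

set_option autoImplicit false
open Cfsg

namespace Cfsg.Agent.S4487

/-- Let G be a finite group and p a prime such that G has no non-trivial normal subgroup of order prime to p and C_G(O_p(G)) ≤ O_p(G). Then G has a single p-block: any two irreducible characters lie in the same block relative to every maximal ideal M of the algebraic integers containing p. -/
theorem result {G : Type*} [Group G] [Finite G] (p : ℕ) [Fact p.Prime] (M : Ideal Cfsg.AlgInt) (hM : Cfsg.IsPModular p M) (hcore : Cfsg.pPrimeCore p G = ⊥) (hconstr : Subgroup.centralizer ((Cfsg.pCore p G) : Set G) ≤ Cfsg.pCore p G) (χ ψ : Cfsg.IrrCharacter G) : Cfsg.SameBlock M (χ : G → ℂ) (ψ : G → ℂ) := by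
  classical
  haveI : Fintype G := Fintype.ofFinite G
  haveI : Fintype (IrrCharacter G) := Fintype.ofFinite _
  have hp : p.Prime := Fact.out
  have hMp := Cfsg.Agent.Helper5.Loc.isPrime_of_isPModular hM
  have hQ : IsPGroup p ↥(Cfsg.pCore p G) := Cfsg.Agent.Helper14.pCore_isPGroup p
  haveI hQn : (Cfsg.pCore p G).Normal := Cfsg.Agent.Helper14.pCore_normal p
  apply Cfsg.Agent.Helper5.CC.sameBlock_of_regular hM
  intro g hg
  by_cases hgC : g ∈ Subgroup.centralizer ((Cfsg.pCore p G) : Set G)
  · -- then g lies in the p-group O_p(G) and is p-regular, so g = 1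
    have hgQ : g ∈ Cfsg.pCore p G := hconstr hgC
    obtain ⟨k, hk⟩ := (IsPGroup.iff_orderOf.mp hQ) ⟨g, hgQ⟩
    have hk' : orderOf g = p ^ k := by
      rw [← hk, ← Subgroup.orderOf_coe]
    have hk0 : k = 0 := by
      by_contra h0
      apply hg
      rw [hk']
      exact dvd_pow_self p h0
    have hg1 : g = 1 := by
      rw [hk0, pow_zero, orderOf_eq_one_iff] at hk'
      exact hk'
    rw [hg1]
    have e : ∀ θ : IrrCharacter G, centralChar (θ : G → ℂ) 1 = 1 := by
      intro θ
      rw [centralChar, Subgroup.centralizer_eq_top_iff_subset.mpr (by simp), Subgroup.index_top]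
      have h1 : (θ : G → ℂ) 1 ≠ 0 := Cfsg.Agent.Helper24.irr_one_ne_zero θ
      field_simp
      simp
    rw [e χ, e ψ, sub_self]
    exact Cfsg.Agent.Helper5.Loc.memLocalIdeal_zero hMp
  · exact Cfsg.Agent.Helper5.Loc.li_sub hMp
      (Cfsg.Agent.Helper5.CC.centralChar_memLocalIdeal_of_not_mem_centralizer hM _ hQ χ g hgC)
      (Cfsg.Agent.Helper5.CC.centralChar_memLocalIdeal_of_not_mem_centralizer hM _ hQ ψ g hgC)

end Cfsg.Agent.S4487
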