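import Cfsg.Statements.S4490
import Cfsg.Agent.Helper5.BlockDegSq
import Cfsg.Agent.Helper24.RealChar

set_option autoImplicit false
open Cfsg

namespace Cfsg.Agent.S4490

open Cfsg.Agent.Helper24 Cfsg.Agent.Helper5 Cfsg.Agent.Helper5.Loc Cfsg.Agent.Helper5.CC
open Cfsg.Agent.Helper5.BDS

/-- Pairing the elements of a group with their inverses. -/
theorem sum_eq_two_mul_add_fixed {G : Type*} [Group G] [Fintype G] [DecidableEq G] (f : G → ℂ)
    (hf : ∀ g, f g⁻¹ = f g) :
    ∃ s : Finset G, ∑ g, f g = 2 * ∑ g ∈ s, f g + ∑ g, if g⁻¹ = g then f g else 0 := by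
  classical
  set e := Fintype.equivFin G with he
  refine ⟨Finset.univ.filter (fun g => e g < e g⁻¹), ?_⟩
  have h1 : ∀ g : G, f g = (if e g < e g⁻¹ then f g else 0) + (if e g⁻¹ < e g then f g else 0) +
      (if g⁻¹ = g then f g else 0) := by
    intro g
    rcases lt_trichotomy (e g) (e g⁻¹) with h | h | h
    · have hne : g⁻¹ ≠ g := fun h' => by rw [h'] at h; exact lt_irrefl _ h
      rw [if_pos h, if_neg (lt_asymm h), if_neg hne]; ring
    · have : g⁻¹ = g := (e.injective h).symm
      rw [if_pos this, this, if_neg (lt_irrefl _)]; ring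
    · have hne : g⁻¹ ≠ g := fun h' => by rw [h'] at h; exact lt_irrefl _ h
      rw [if_neg (lt_asymm h), if_pos h, if_neg hne]; ring
  have h2 : ∑ g : G, (if e g⁻¹ < e g then f g else 0) =
      ∑ g : G, (if e g < e g⁻¹ then f g else 0) := by
    rw [← Equiv.sum_comp (Equiv.inv G)]
    refine Finset.sum_congr rfl fun g _ => ?_
    simp only [Equiv.inv_apply, inv_inv, hf]
  rw [Finset.sum_congr rfl (fun g _ => h1 g), Finset.sum_add_distrib, Finset.sum_add_distrib, h2,
    Finset.sum_filter]
  ring

/-- Every 2-block B of G whose defect groups are the Sylow 2-subgroups of G and which is not the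
principal block is different from its complex-conjugate block. -/
theorem result {G : Type*} [Group G] [Finite G] (M : Ideal Cfsg.AlgInt) (hM : Cfsg.IsPModular 2 M) (B : Set (Cfsg.IrrCharacter G)) (hB : Cfsg.IsPBlock M B) (P : Sylow 2 G) (hfull : Cfsg.IsDefectGroup 2 M B (P : Subgroup G)) (hnp : B ≠ Cfsg.principalBlock M G) : {ψ : Cfsg.IrrCharacter G | ∃ χ ∈ B, (ψ : G → ℂ) = fun g => (starRingEnd ℂ) ((χ : G → ℂ) g)} ≠ B := by
  classical
  have : Fintype G := Fintype.ofFinite G
  have : Fintype (IrrCharacter G) := Fintype.ofFinite _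
  have hMp := isPrime_of_isPModular hM
  have hp2 : Fact (Nat.Prime 2) := ⟨Nat.prime_two⟩
  intro hEq
  have hGne : (Nat.card G : ℂ) ≠ 0 := by
    have : 0 < Nat.card G := Nat.card_pos
    exact_mod_cast this.ne'
  -- `B` is stable under complex conjugation
  have hstar : ∀ χ : IrrCharacter G, irrStar χ ∈ B ↔ χ ∈ B := by
    have h1 : ∀ χ : IrrCharacter G, χ ∈ B → irrStar χ ∈ B := by
      intro χ hχ
      rw [← hEq]
      exact ⟨χ, hχ, rfl⟩
    intro χ
    constructor
    · intro h
      have := h1 _ h
      rwa [irrStar_irrStar] at this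
    · exact h1 χ
  -- Step A: the idempotent is invariant under inversion
  have hA : ∀ g : G, blockCoeff B g⁻¹ = blockCoeff B g := by
    intro g
    rw [blockCoeff_eq, blockCoeff_eq]
    congr 1
    have hinv : Function.Involutive (irrStar : IrrCharacter G → IrrCharacter G) := irrStar_irrStar
    rw [← Equiv.sum_comp hinv.toPerm]
    refine Finset.sum_congr rfl fun χ _ => ?_
    show (if irrStar χ ∈ B then (1 : ℂ) else 0) * ((irrStar χ : G → ℂ) 1 *
      (starRingEnd ℂ) ((irrStar χ : G → ℂ) g⁻¹)) = _
    rw [if_congr (hstar χ) rfl rfl, irrStar_apply, irrStar_apply, ← Cfsg.Agent.Helper5.irr_inv χ 1, inv_one,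
      ← Cfsg.Agent.Helper5.irr_inv χ g⁻¹, inv_inv]
  -- Step B: the coefficients sum to zero
  have htriv : trivIrr G ∉ B := by
    intro h
    apply hnp
    have e := IsPBlock_eq_blockOf hMp hB h
    unfold principalBlock
    exact e
  have hBsum : ∑ g : G, blockCoeff B g = 0 := by
    simp_rw [blockCoeff_eq]
    rw [← Finset.mul_sum, Finset.sum_comm]
    rw [Finset.sum_eq_zero, mul_zero]
    intro χ _
    by_cases hχ : χ ∈ B
    · have hne : trivIrr G ≠ χ := fun h => htriv (h ▸ hχ)
      have h1 := classInner_irr_ne hne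
      simp only [classInner, trivIrr_apply, one_mul] at h1
      have h2 : ∑ g : G, (starRingEnd ℂ) ((χ : G → ℂ) g) = 0 := by
        rcases mul_eq_zero.mp h1 with h | h
        · exact absurd h (inv_ne_zero hGne)
        · exact h
      rw [← Finset.mul_sum, ← Finset.mul_sum, h2, mul_zero, mul_zero]
    · apply Finset.sum_eq_zero
      intro g _
      rw [if_neg hχ, zero_mul]
  -- Step C: pairing
  obtain ⟨s, hs⟩ := sum_eq_two_mul_add_fixed (blockCoeff B) hA
  have hC : ∑ g : G, (if g⁻¹ = g then blockCoeff B g else 0) = blockCoeff B 1 := by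
    rw [Finset.sum_eq_single 1]
    · rw [if_pos inv_one]
    · intro g _ hg
      by_cases h : g⁻¹ = g
      · rw [if_pos h]
        have hg2 : g ^ 2 = 1 := by
          rw [pow_two]
          nth_rewrite 1 [← h]
          exact inv_mul_cancel g
        have hord : orderOf g = 2 := orderOf_eq_prime hg2 hg
        exact blockCoeff_eq_zero_of_singular hM hB g (by rw [hord])
      · rw [if_neg h]
    · intro h; exact absurd (Finset.mem_univ _) h
  rw [hBsum, hC] at hs
  -- Step D: the coefficient at `1` lies in the local ideal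
  have hD : MemLocalIdeal M (blockCoeff B 1) := by
    have e1 : blockCoeff B 1 = ((2 : ℕ) : ℂ) * (- ∑ g ∈ s, blockCoeff B g) := by
      push_cast
      linear_combination -hs
    rw [e1]
    apply li_mul_right hMp
    · rw [memLocalIdeal_natCast_iff hM]
    · apply lr_neg
      apply lr_sum hMp
      intro g _
      exact osima hMp B hB g
  -- Step E: full defect
  obtain ⟨ρ, hρR, hρI, hda, hone⟩ := blockCoeff_one_eq hM hB
  have hcard := card_defectGroup hM hB hfull
  have hcard2 : Nat.card (P : Subgroup G) = 2 ^ (Nat.card G).factorization 2 :=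
    P.card_eq_multiplicity
  have hd : blockDefect 2 B = (Nat.card G).factorization 2 :=
    Nat.pow_right_injective (le_refl 2) (hcard.symm.trans hcard2)
  rw [hd, Nat.sub_self, pow_zero, Nat.cast_one, one_mul] at hone
  rw [hone] at hD
  exact hρI hD

end Cfsg.Agent.S4490
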