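import Cfsg.Statements.S4713
import Mathlib
import Cfsg.Agent.Helper23.PPrimeDeg

set_option autoImplicit false
open Cfsg

namespace Cfsg.Agent.S4713

/-- Let p be a prime and G a finite p-solvable group. Then G has a normal abelian Sylow p-subgroup if and only if the degree of every irreducible character of G is prime to p. -/
theorem result {G : Type*} [Group G] [Finite G] (p : ℕ) [Fact p.Prime] (hsolv : Cfsg.IsPSolvable p G) (P : Sylow p G) : ((P : Subgroup G).Normal ∧ IsMulCommutative P) ↔ ∀ χ : Cfsg.IrrCharacter G, ¬ p ∣ Cfsg.charDegree (χ : G → ℂ) := by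
  classical
  have : Fintype G := Fintype.ofFinite G
  constructor
  · rintro ⟨hPn, hPc⟩ χ hdvd
    have hab : ∀ a ∈ (P : Subgroup G), ∀ b ∈ (P : Subgroup G), a * b = b * a := by
      intro a ha b hb
      have := hPc.is_comm.comm (⟨a, ha⟩ : (P : Subgroup G)) ⟨b, hb⟩
      exact congrArg Subtype.val this
    obtain ⟨d, hd, hdI⟩ := Cfsg.Agent.Helper24.ito_character (P : Subgroup G) hab (χ : G → ℂ) χ.2
    have h1 : Cfsg.charDegree (χ : G → ℂ) = d := by
      unfold Cfsg.charDegree
      rw [hd]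
      simp
    rw [h1] at hdvd
    exact P.not_dvd_index (hdvd.trans hdI)
  · intro h
    have hdeg : Cfsg.Agent.Helper23.PPrimeDeg p G := by
      intro χ
      rw [← Cfsg.Agent.Helper23.charDegree_eq_irrDeg]
      exact h χ
    obtain ⟨hPn, hPc⟩ := Cfsg.Agent.Helper23.normal_abelian_sylow_aux p _ G rfl hsolv hdeg P
    refine ⟨hPn, ⟨⟨?_⟩⟩⟩
    rintro ⟨a, ha⟩ ⟨b, hb⟩
    exact Subtype.ext (hPc a ha b hb)

end Cfsg.Agent.S4713
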