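import Cfsg.Statements.S4493
import Mathlib
import Cfsg.Agent.S4713
import Cfsg.Agent.Helper10.SolvPSolv
-- import your own Cfsg.Agent.* helpers here

set_option autoImplicit false
open Cfsg

namespace Cfsg.Agent.S4493

/-- Let G be a finite solvable group and p a prime. Then G has a normal abelian Sylow p-subgroup if and only if no irreducible character degree of G is divisible by p. -/
theorem result {G : Type*} [Group G] [Finite G] (hsolv : Group.IsSolvable G) (p : ℕ) (hp : p.Prime) : (∃ P : Subgroup G, P.Normal ∧ (∀ x ∈ P, ∀ y ∈ P, x * y = y * x) ∧ IsPGroup p P ∧ ¬ p ∣ P.index) ↔ ∀ χ : Cfsg.IrrCharacter G, ¬ p ∣ Cfsg.charDegree (χ : G → ℂ) := by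
  classical
  haveI : Fact p.Prime := ⟨hp⟩
  have hps : Cfsg.IsPSolvable p G := Cfsg.Agent.Helper10.isPSolvable_of_isSolvable p hsolv
  constructor
  · rintro ⟨P, hPn, hPc, hPp, hPi⟩
    -- P is a Sylow p-subgroup
    obtain ⟨Q, hQ⟩ := IsPGroup.exists_le_sylow hPp
    have hPQ : P = (Q : Subgroup G) := by
      refine le_antisymm hQ ?_
      -- index of P coprime to p, so relIndex P Q = 1
      have h1 : P.relIndex (Q : Subgroup G) ∣ P.index := Subgroup.relIndex_dvd_index_of_normal P _
      have h2 : ∃ k, P.relIndex (Q : Subgroup G) = p ^ k := by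
        have hQp : IsPGroup p (Q : Subgroup G) := Q.isPGroup'
        have hdvd : P.relIndex (Q : Subgroup G) ∣ Nat.card (Q : Subgroup G) := by
          unfold Subgroup.relIndex
          exact Subgroup.index_dvd_card _
        obtain ⟨n, hn⟩ := IsPGroup.iff_card.1 hQp
        rw [hn] at hdvd
        obtain ⟨k, _, hk⟩ := (Nat.dvd_prime_pow hp).1 hdvd
        exact ⟨k, hk⟩
      obtain ⟨k, hk⟩ := h2
      have hk0 : k = 0 := by
        by_contra hk0
        apply hPi
        refine dvd_trans ?_ h1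
        rw [hk]
        exact dvd_pow_self p hk0
      rw [hk0, pow_zero] at hk
      exact Subgroup.relIndex_eq_one.1 hk
    refine (Cfsg.Agent.S4713.result p hps Q).1 ⟨?_, ⟨⟨?_⟩⟩⟩
    · rw [← hPQ]; exact hPn
    · rintro ⟨a, ha⟩ ⟨b, hb⟩
      apply Subtype.ext
      exact hPc a (hPQ ▸ ha) b (hPQ ▸ hb)
  · intro h
    obtain ⟨Q⟩ : Nonempty (Sylow p G) := inferInstance
    obtain ⟨hn, hc⟩ := (Cfsg.Agent.S4713.result p hps Q).2 h
    refine ⟨(Q : Subgroup G), hn, ?_, Q.isPGroup', Q.not_dvd_index⟩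
    intro x hx y hy
    have := hc.is_comm.comm (⟨x, hx⟩ : (Q : Subgroup G)) ⟨y, hy⟩
    exact congrArg Subtype.val this

end Cfsg.Agent.S4493
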