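import Cfsg.Statements.S4508
import Cfsg.Agent.Helper5.TIDegD
import Cfsg.Agent.Helper5.DetRoots
import Cfsg.Agent.Helper5.SelfCentTwo
import Cfsg.Agent.Helper24.DetChar
import Cfsg.Agent.Helper24.Codegree

set_option autoImplicit false
open Cfsg

namespace Cfsg.Agent.S4508

open Cfsg.Agent.Helper24 Cfsg.Agent.Helper8 Cfsg.Agent.Helper5 in
/-- the case of an odd prime and an odd number of classes -/
theorem odd_case {G : Type*} [Group G] [Fintype G] (p : ℕ) [hp : Fact p.Prime] (hp2 : p ≠ 2)
    (x : G) (hx : orderOf x = p)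
    (hC : Subgroup.centralizer ({x} : Set G) = Subgroup.zpowers x) (t : ℕ)
    (hte : t * (Subgroup.zpowers x).relIndex
      (Subgroup.normalizer ((Subgroup.zpowers x : Subgroup G) : Set G)) = p - 1)
    (htodd : Odd t)
    (χ : Cfsg.IrrCharacter G) (hχ : Cfsg.charDegree (χ : G → ℂ) + 1 = p) :
    Even (commutator G).index := by
  classical
  set K := Subgroup.zpowers x with hK
  set N := Subgroup.normalizer ((Subgroup.zpowers x : Subgroup G) : Set G) with hN
  haveI : Fintype N := Fintype.ofFinite _
  haveI : Fintype (IrrCharacter N) := Fintype.ofFinite _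
  have hTI := SCT.ti (p := p) hx
  have hCent := SCT.cent (p := p) hx hC
  have hab : ∀ a ∈ K, ∀ b ∈ K, a * b = b * a := SCT.comm
  have hyp : TIFN.Hyp K N := TIFN.hyp_normalizer K hTI hCent
  haveI := hyp.normal
  have hcardKN : Nat.card (K.subgroupOf N) = p := by
    rw [Nat.card_congr (Subgroup.subgroupOfEquivOfLe hyp.le).toEquiv, hK, Nat.card_zpowers, hx]
  have hpodd : Odd p := hp.out.odd_of_ne_two hp2
  have hp3 : 3 ≤ p := by
    have := hp.out.two_le
    rcases hpodd with ⟨k, hk⟩
    omega
  have hd : irrDeg χ + 1 = Nat.card (K.subgroupOf N) := by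
    rw [hcardKN, ← charDegree_irr]; exact hχ
  have hdich := TID.main_dichotomy hyp hab (hcardKN ▸ hp3) (hcardKN ▸ hpodd) χ hd
  have hF := TIFN.frob hyp
  have hab' : ∀ a b : K.subgroupOf N, a * b = b * a := by
    intro a b
    apply Subtype.ext
    apply Subtype.ext
    exact hab _ a.2 _ b.2
  have hre := TID.numRel_mul_index (K.subgroupOf N) hF hab'
  have hte' : t * (K.subgroupOf N).index = p - 1 := hte
  have hrt : TID.numRel (K.subgroupOf N) = t := by
    rw [hcardKN] at hre
    have hepos : 0 < (K.subgroupOf N).index :=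
      Nat.pos_of_ne_zero Subgroup.index_ne_zero_of_finite
    have : TID.numRel (K.subgroupOf N) * (K.subgroupOf N).index
        = t * (K.subgroupOf N).index := by omega
    exact Nat.eq_of_mul_eq_mul_right hepos this
  have hvan : ∀ n : N, (n : G) ∉ K → (χ : G → ℂ) n = 0 := by
    rcases hdich with hev | hv
    · rw [hrt] at hev
      exact absurd hev (Nat.not_even_iff_odd.mpr htodd)
    · exact hv
  obtain ⟨y, n, m, hn0, hnev, hmodd, hpm, hyn, hyi⟩ :=
    SCT.exists_two_elt (K.subgroupOf N) hcardKN hp2 hF t htodd hte'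
  obtain ⟨d, ρ, hρirr, hρχ⟩ := χ.2
  have hdim : Module.finrank ℂ (Fin d → ℂ) = m * n := by
    have h1 : ρ.character 1 = (Module.finrank ℂ (Fin d → ℂ) : ℂ) := Representation.char_one ρ
    rw [hρχ, irrDeg_spec] at h1
    have h2 : irrDeg χ = Module.finrank ℂ (Fin d → ℂ) := by exact_mod_cast h1
    rw [← h2, ← hpm]
    rw [hcardKN] at hd
    omega
  have hpow : ∀ i : ℕ, (ρ ((y : N) : G)) ^ i = ρ (((y ^ i : N) : N) : G) := by
    intro i
    rw [← map_pow, Subgroup.coe_pow]
  have hfn : (ρ ((y : N) : G)) ^ n = 1 := by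
    rw [hpow, hyn, Subgroup.coe_one, map_one]
  have htr : ∀ i, 0 < i → i < n →
      LinearMap.trace ℂ (Fin d → ℂ) ((ρ ((y : N) : G)) ^ i) = 0 := by
    intro i hi0 hin
    rw [hpow]
    have h1 : ρ.character (((y ^ i : N) : N) : G) = 0 := by
      rw [hρχ]
      exact hvan (y ^ i) (fun hh => hyi i hi0 hin (Subgroup.mem_subgroupOf.mpr hh))
    exact h1
  have hdet := DetRoots.det_of_trace_zero (ρ ((y : N) : G)) n m hn0 hnev hfn htr hdim
  rw [hmodd.neg_one_pow] at hdet
  -- the determinantal character
  set lam := detUnits ρ with hlam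
  have hlamy : lam ((y : N) : G) = -1 := by
    apply Units.ext
    rw [detUnits_apply, hdet]
    simp
  have h1 : commutator G ≤ lam.ker := Abelianization.commutator_subset_ker lam
  have h2 : lam.ker.index ∣ (commutator G).index := Subgroup.index_dvd_of_le h1
  rw [Subgroup.index_ker] at h2
  have h3 : orderOf (⟨lam ((y : N) : G), ⟨_, rfl⟩⟩ : lam.range) ∣ Nat.card lam.range :=
    orderOf_dvd_natCard _
  have h4 : orderOf (⟨lam ((y : N) : G), ⟨_, rfl⟩⟩ : lam.range) = 2 := by
    rw [← Subgroup.orderOf_coe]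
    simp only
    rw [hlamy]
    haveI : Fact (2 : ℕ).Prime := ⟨Nat.prime_two⟩
    refine orderOf_eq_prime (by simp) ?_
    intro h
    have := congrArg (fun u : ℂˣ => (u : ℂ)) h
    norm_num at this
  rw [h4] at h3
  exact even_iff_two_dvd.mpr (h3.trans h2)

/-- Let the finite group G contain an element x of prime order p with C_G(x) = ⟨x⟩, and let t be the number of conjugacy classes of elements of order p. If G has an irreducible character of degree p − 1, then t is even or the commutator subgroup has even index. -/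
theorem result {G : Type*} [Group G] [Finite G] (p : ℕ) (hp : p.Prime) (x : G) (hx : orderOf x = p) (hC : Subgroup.centralizer ({x} : Set G) = Subgroup.zpowers x) (t : ℕ) (ht : Nat.card {C : ConjClasses G // ∃ g ∈ C.carrier, orderOf g = p} = t) (χ : Cfsg.IrrCharacter G) (hχ : Cfsg.charDegree (χ : G → ℂ) + 1 = p) : Even t ∨ Even (commutator G).index := by
  classical
  haveI : Fact p.Prime := ⟨hp⟩
  haveI : Fintype G := Fintype.ofFinite G
  have hte := Cfsg.Agent.Helper8.card_classes_mul_relIndex hx hC
  rw [ht] at hte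
  by_cases hp2 : p = 2
  · right
    have h1 : t * (Subgroup.zpowers x).relIndex
        (Subgroup.normalizer ((Subgroup.zpowers x : Subgroup G) : Set G)) = 1 := by
      rw [hte, hp2]
    have h2 : (Subgroup.zpowers x).relIndex
        (Subgroup.normalizer ((Subgroup.zpowers x : Subgroup G) : Set G)) = 1 :=
      Nat.eq_one_of_mul_eq_one_left h1
    rw [Cfsg.Agent.Helper8.index_commutator_eq_of_relIndex_eq_one hx hC h2, hp2]
    exact even_two
  · by_cases htev : Even t
    · left; exact htev
    · right
      exact odd_case p hp2 x hx hC t hte (Nat.not_even_iff_odd.mp htev) χ hχ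

end Cfsg.Agent.S4508
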