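import Cfsg.Statements.S4517
import Cfsg.Agent.Helper8.RealBlock2b

set_option autoImplicit false
open Cfsg

namespace Cfsg.Agent.S4517

/-- Let G be a finite group, M a maximal ideal of the algebraic integers containing 2, and k a natural number coprime to the order of G with g ^ k = g⁻¹ for every element g of odd order (so that g ↦ g ^ k induces a field automorphism of the character values inverting the roots of unity of odd order). If B is a 2-block of full defect (its defect equals the exponent of 2 in the order of G) that is stable under χ ↦ χ ∘ (· ^ k), then B is the principal 2-block. -/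
theorem result {G : Type*} [Group G] [Finite G] (M : Ideal Cfsg.AlgInt) (hM : Cfsg.IsPModular 2 M) (k : ℕ) (hk : Nat.Coprime k (Nat.card G)) (hk₂ : ∀ g : G, Odd (orderOf g) → g ^ k = g⁻¹) (B : Set (Cfsg.IrrCharacter G)) (hB : Cfsg.IsPBlock M B) (hdef : Cfsg.blockDefect 2 B = (Nat.card G).factorization 2) (hstab : ∀ χ ∈ B, ∃ ψ ∈ B, ∀ g : G, (ψ : G → ℂ) g = (χ : G → ℂ) (g ^ k)) : B = Cfsg.principalBlock M G := by
  classical
  haveI : Fintype G := Fintype.ofFinite G
  haveI : Fintype (IrrCharacter G) := Fintype.ofFinite _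
  haveI : Fact (Nat.Prime 2) := ⟨Nat.prime_two⟩
  have hMp := Cfsg.Agent.Helper5.Loc.isPrime_of_isPModular hM
  apply Cfsg.Agent.Helper8.RealBlock2.eq_principalBlock_of_real hM hB _ hdef
  intro χ hχ
  obtain ⟨ψ, hψB, hψ⟩ := hstab χ hχ
  -- ψ and the conjugate of χ have the same central character on 2-regular elements
  have hsame : SameBlock M (ψ : G → ℂ)
      ((Cfsg.Agent.Helper24.irrStar χ : IrrCharacter G) : G → ℂ) := by
    apply Cfsg.Agent.Helper5.CC.sameBlock_of_regular hM
    intro g hg
    have hodd : Odd (orderOf g) := Nat.odd_iff.mpr (Nat.two_dvd_ne_zero.mp hg)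
    have h1 : (ψ : G → ℂ) g = ((Cfsg.Agent.Helper24.irrStar χ : IrrCharacter G) : G → ℂ) g := by
      rw [hψ g, hk₂ g hodd, Cfsg.Agent.Helper24.irr_inv, Cfsg.Agent.Helper24.irrStar_apply]
    have h2 : (ψ : G → ℂ) 1 = ((Cfsg.Agent.Helper24.irrStar χ : IrrCharacter G) : G → ℂ) 1 := by
      rw [hψ 1, one_pow, Cfsg.Agent.Helper24.irrStar_apply, Cfsg.Agent.Helper24.irrDeg_spec,
        Complex.conj_natCast]
    rw [centralChar, centralChar, h1, h2, sub_self]
    exact Cfsg.Agent.Helper5.Loc.memLocalIdeal_zero hMp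
  rw [Cfsg.Agent.Helper5.CC.IsPBlock_eq_blockOf hMp hB hψB]
  exact hsame

end Cfsg.Agent.S4517
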