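import Cfsg.Statements.S4539
import Mathlib
import Cfsg.Agent.Helper8.KB8
import Cfsg.Agent.Helper5.DefectOrder

set_option autoImplicit false
open Cfsg

namespace Cfsg.Agent.S4539

/-- Let B be a p-block of the finite group G (relative to a maximal ideal M of the algebraic integers containing p) of defect d with defect group D. Let z be an element of D commuting with every element of D, and let b be a block of the centralizer C of z with defect group D that induces B (a major subsection (z, b)). If b has p-regular rank at most two, then B contains at most p ^ d irreducible characters. -/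
theorem result {G : Type*} [Group G] [Finite G] (p : ℕ) [Fact p.Prime] (M : Ideal Cfsg.AlgInt) (hM : Cfsg.IsPModular p M) (B : Set (Cfsg.IrrCharacter G)) (hB : Cfsg.IsPBlock M B) (D : Subgroup G) (hD : Cfsg.IsDefectGroup p M B D) (z : G) (hzD : z ∈ D) (hzc : ∀ d ∈ D, d * z = z * d) (b : Set (Cfsg.IrrCharacter ↥(Subgroup.centralizer ({z} : Set G)))) (hb : Cfsg.IsInducedBlock M (Subgroup.centralizer ({z} : Set G)) b B) (hbD : Cfsg.IsDefectGroup p M b (D.subgroupOf (Subgroup.centralizer ({z} : Set G)))) (hl : Cfsg.blockRank p b ≤ 2) : Nat.card B ≤ p ^ Cfsg.blockDefect p B := by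
  classical
  haveI : Fintype G := Fintype.ofFinite _
  haveI : Fintype (Subgroup.centralizer ({z} : Set G)) := Fintype.ofFinite _
  haveI : Fintype (IrrCharacter G) := Fintype.ofFinite _
  haveI : Fintype (IrrCharacter (Subgroup.centralizer ({z} : Set G))) := Fintype.ofFinite _
  have hzC : z ∈ Subgroup.centralizer ({z} : Set G) := by
    rw [Subgroup.mem_centralizer_iff]
    intro h hh
    rw [Set.mem_singleton_iff] at hh
    rw [hh]
  have hcomm : ∀ c : Subgroup.centralizer ({z} : Set G), z * (c : G) = (c : G) * z := by
    intro c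
    exact Subgroup.mem_centralizer_iff.mp c.2 z rfl
  have hDC : D ≤ Subgroup.centralizer ({z} : Set G) := by
    intro g hg
    rw [Subgroup.mem_centralizer_iff]
    intro h hh
    rw [Set.mem_singleton_iff] at hh
    rw [hh]
    exact (hzc g hg).symm
  -- the defects agree
  have hcardD : Nat.card D = p ^ blockDefect p B :=
    Cfsg.Agent.Helper5.CC.card_defectGroup hM hB hD
  have hcardD' : Nat.card (D.subgroupOf (Subgroup.centralizer ({z} : Set G))) = p ^ blockDefect p b :=
    Cfsg.Agent.Helper5.CC.card_defectGroup hM hb.1 hbD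
  have hcardeq : Nat.card (D.subgroupOf (Subgroup.centralizer ({z} : Set G))) = Nat.card D :=
    Nat.card_congr (Subgroup.subgroupOfEquivOfLe hDC).toEquiv
  have hdef : blockDefect p b = blockDefect p B := by
    have h1 : p ^ blockDefect p b = p ^ blockDefect p B := by
      rw [← hcardD', ← hcardD, hcardeq]
    exact Nat.pow_right_injective (Fact.out : p.Prime).two_le h1
  -- z is a p-element
  have hz : ∃ k : ℕ, orderOf z = p ^ k := by
    have h1 : orderOf (⟨z, hzD⟩ : D) ∣ Nat.card D := orderOf_dvd_natCard _
    rw [hcardD, Subgroup.orderOf_mk] at h1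
    obtain ⟨k, _, hk⟩ := (Nat.dvd_prime_pow (Fact.out : p.Prime)).mp h1
    exact ⟨k, hk⟩
  set S : Finset (IrrCharacter G) := Finset.univ.filter (· ∈ B) with hS
  have hSB : ∀ χ ∈ S, χ ∈ B := fun χ hχ => (Finset.mem_filter.mp hχ).2
  have key := Cfsg.Agent.Helper8.KB.card_le_pow_defect hM z hz (Subgroup.centralizer ({z} : Set G)) hzC hcomm le_rfl hb hdef hl S hSB
  have hcard : Nat.card B = S.card := by
    rw [Nat.card_eq_fintype_card, hS, Fintype.card_subtype]
  rw [hcard, ← hdef]
  exact key

end Cfsg.Agent.S4539
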