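import Cfsg.Statements.S4540
import Cfsg.Agent.Helper8.KC6
import Cfsg.Agent.Helper8.KC7
import Cfsg.Agent.Helper5.DefectOrder

set_option autoImplicit false
open Cfsg

namespace Cfsg.Agent.S4540

/-- Let B be a 2-block of the finite group G (relative to a maximal ideal M of the algebraic integers containing 2) of defect d with defect group D. Let z be an element of D commuting with every element of D, and let b be a block of the centralizer C of z with defect group D that induces B (a major subsection (z, b)). If b has 2-regular rank at most three, then 3·k(B) ≤ 3·k₀(B) + 2·Σ 2 ^ h(χ), where k(B) is the number of members of B, k₀(B) the number of members of height zero, and the sum runs over the members χ of B of positive height h(χ); this bound is at most 3·2 ^ d, so in particular B contains at most 2 ^ d irreducible characters. -/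
theorem result {G : Type*} [Group G] [Finite G] (M : Ideal Cfsg.AlgInt) (hM : Cfsg.IsPModular 2 M) (B : Set (Cfsg.IrrCharacter G)) (hB : Cfsg.IsPBlock M B) (D : Subgroup G) (hD : Cfsg.IsDefectGroup 2 M B D) (z : G) (hzD : z ∈ D) (hzc : ∀ d ∈ D, d * z = z * d) (b : Set (Cfsg.IrrCharacter ↥(Subgroup.centralizer ({z} : Set G)))) (hb : Cfsg.IsInducedBlock M (Subgroup.centralizer ({z} : Set G)) b B) (hbD : Cfsg.IsDefectGroup 2 M b (D.subgroupOf (Subgroup.centralizer ({z} : Set G)))) (hl : Cfsg.blockRank 2 b ≤ 3) : 3 * Nat.card B ≤ 3 * Nat.card {χ : Cfsg.IrrCharacter G // χ ∈ B ∧ Cfsg.blockHeight 2 B (χ : G → ℂ) = 0} + 2 * (∑ᶠ χ ∈ {χ : Cfsg.IrrCharacter G | χ ∈ B ∧ 1 ≤ Cfsg.blockHeight 2 B (χ : G → ℂ)}, 2 ^ Cfsg.blockHeight 2 B (χ : G → ℂ)) ∧ 3 * Nat.card {χ : Cfsg.IrrCharacter G // χ ∈ B ∧ Cfsg.blockHeight 2 B (χ : G → ℂ) = 0} + 2 * (∑ᶠ χ ∈ {χ : Cfsg.IrrCharacter G | χ ∈ B ∧ 1 ≤ Cfsg.blockHeight 2 B (χ : G → ℂ)}, 2 ^ Cfsg.blockHeight 2 B (χ : G →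 ℂ)) ≤ 3 * 2 ^ Cfsg.blockDefect 2 B := by
  classical
  haveI : Fact (Nat.Prime 2) := ⟨Nat.prime_two⟩
  haveI : Fintype G := Fintype.ofFinite _
  haveI : Fintype (Subgroup.centralizer ({z} : Set G)) := Fintype.ofFinite _
  haveI : Fintype (IrrCharacter G) := Fintype.ofFinite _
  haveI : Fintype (IrrCharacter (Subgroup.centralizer ({z} : Set G))) := Fintype.ofFinite _
  have hzC : z ∈ Subgroup.centralizer ({z} : Set G) := by
    rw [Subgroup.mem_centralizer_iff]
    intro h hh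
    rw [Set.mem_singleton_iff] at hh
    rw [hh]
  have hcomm : ∀ c : Subgroup.centralizer ({z} : Set G), z * (c : G) = (c : G) * z := by
    intro c
    exact Subgroup.mem_centralizer_iff.mp c.2 z rfl
  have hDC : D ≤ Subgroup.centralizer ({z} : Set G) := by
    intro g hg
    rw [Subgroup.mem_centralizer_iff]
    intro h hh
    rw [Set.mem_singleton_iff] at hh
    rw [hh]
    exact (hzc g hg).symm
  have hcardD : Nat.card D = 2 ^ blockDefect 2 B :=
    Cfsg.Agent.Helper5.CC.card_defectGroup hM hB hD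
  have hcardD' : Nat.card (D.subgroupOf (Subgroup.centralizer ({z} : Set G))) = 2 ^ blockDefect 2 b :=
    Cfsg.Agent.Helper5.CC.card_defectGroup hM hb.1 hbD
  have hcardeq : Nat.card (D.subgroupOf (Subgroup.centralizer ({z} : Set G))) = Nat.card D :=
    Nat.card_congr (Subgroup.subgroupOfEquivOfLe hDC).toEquiv
  have hdef : blockDefect 2 b = blockDefect 2 B := by
    have h1 : 2 ^ blockDefect 2 b = 2 ^ blockDefect 2 B := by
      rw [← hcardD', ← hcardD, hcardeq]
    exact Nat.pow_right_injective (le_refl 2) h1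
  have hz : ∃ k : ℕ, orderOf z = 2 ^ k := by
    have h1 : orderOf (⟨z, hzD⟩ : D) ∣ Nat.card D := orderOf_dvd_natCard _
    rw [hcardD, Subgroup.orderOf_mk] at h1
    obtain ⟨k, _, hk⟩ := (Nat.dvd_prime_pow Nat.prime_two).mp h1
    exact ⟨k, hk⟩
  obtain ⟨Nf, hN0, hN1, hNodd, hNdiv, hNsum, hNA⟩ :=
    Cfsg.Agent.Helper8.KC.exists_avg hM z hz (Subgroup.centralizer ({z} : Set G)) hzC hcomm
      le_rfl hb hdef
  set S : Finset (IrrCharacter G) := Finset.univ.filter (· ∈ B) with hS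
  have hSB : ∀ χ ∈ S, χ ∈ B := fun χ hχ => (Finset.mem_filter.mp hχ).2
  set ht : IrrCharacter G → ℕ := fun χ => blockHeight 2 B (χ : G → ℂ) with hht
  set S₀ := S.filter (fun χ => ht χ = 0) with hS₀
  set S₁ := S.filter (fun χ => 1 ≤ ht χ) with hS₁
  have hcard : Nat.card B = S.card := by
    rw [Nat.card_eq_fintype_card, hS, Fintype.card_subtype]
  have hcard0 : Nat.card {χ : Cfsg.IrrCharacter G // χ ∈ B ∧ Cfsg.blockHeight 2 B (χ : G → ℂ) = 0} = S₀.card := by
    rw [Nat.card_eq_fintype_card, Fintype.card_subtype]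
    congr 1
    ext χ
    simp only [hS₀, hS, Finset.mem_filter, Finset.mem_univ, true_and, hht]
  have hset : {χ : Cfsg.IrrCharacter G | χ ∈ B ∧ 1 ≤ Cfsg.blockHeight 2 B (χ : G → ℂ)} = (S₁ : Set (IrrCharacter G)) := by
    ext χ
    simp only [hS₁, hS, Finset.coe_filter, Finset.mem_filter, Finset.mem_univ, true_and,
      Set.mem_setOf_eq, hht]
  have hfin : (∑ᶠ χ ∈ {χ : Cfsg.IrrCharacter G | χ ∈ B ∧ 1 ≤ Cfsg.blockHeight 2 B (χ : G → ℂ)}, 2 ^ Cfsg.blockHeight 2 B (χ : G → ℂ)) = ∑ χ ∈ S₁, 2 ^ ht χ := by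
    rw [hset, finsum_mem_coe_finset]
  rw [hcard, hcard0, hfin]
  constructor
  · -- the elementary inequality
    have h1 : S.card = S₀.card + S₁.card := by
      rw [hS₀, hS₁, ← Finset.card_filter_add_card_filter_not (s := S) (fun χ => ht χ = 0)]
      congr 2
      ext χ
      simp only [Finset.mem_filter]
      constructor
      · rintro ⟨h1, h2⟩; exact ⟨h1, by omega⟩
      · rintro ⟨h1, h2⟩; exact ⟨h1, by omega⟩
    have h2 : 3 * S₁.card ≤ 2 * ∑ χ ∈ S₁, 2 ^ ht χ := by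
      rw [Finset.mul_sum]
      calc 3 * S₁.card = ∑ χ ∈ S₁, 3 := by simp [mul_comm]
        _ ≤ ∑ χ ∈ S₁, 2 * 2 ^ ht χ := by
          refine Finset.sum_le_sum fun χ hχ => ?_
          rw [hS₁, Finset.mem_filter] at hχ
          have : 2 ^ 1 ≤ 2 ^ ht χ := Nat.pow_le_pow_right (by norm_num) hχ.2
          omega
    omega
  · have hsumS : ∑ χ ∈ S, Nf χ ≤ ((2 : ℤ) ^ blockDefect 2 B) * (blockRank 2 b : ℤ) := by
      rw [← hdef, ← hNsum]
      exact Finset.sum_le_sum_of_subset_of_nonneg (Finset.subset_univ S) (fun χ _ _ => hN0 χ)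
    have key := Cfsg.Agent.Helper8.KC.final_arith S ht Nf ((2 : ℤ) ^ blockDefect 2 B)
      (blockRank 2 b) (by positivity) hl (fun χ hχ => hN1 χ (hSB χ hχ))
      (fun χ hχ h0 => hNodd χ (hSB χ hχ) h0) (fun χ hχ h1 => hNdiv χ (hSB χ hχ) h1) hsumS
      (fun χ₀ hχ₀ h0 => by
        have := hNA χ₀ (hSB χ₀ hχ₀) h0 S hSB
        rw [hdef] at this
        exact this)
    have key' : ((3 * S₀.card + 2 * ∑ χ ∈ S₁, 2 ^ ht χ : ℕ) : ℤ) ≤ ((3 * 2 ^ blockDefect 2 B : ℕ) : ℤ) := by
      push_cast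
      exact key
    exact_mod_cast key'

end Cfsg.Agent.S4540
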