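import Cfsg.Statements.S4541
import Mathlib
import Cfsg.Agent.Helper23.ContribH

set_option autoImplicit false
open Cfsg

namespace Cfsg.Agent.S4541

/-- Let B be a 2-block of the finite group G (relative to a maximal ideal M of the algebraic integers containing 2), u a 2-element, and b a block of the centralizer of u inducing B (a subsection (u, b)), of defect q and 2-regular rank l; write s for the integer square root of l and k₀(B) for the number of members of B of height zero. If s is odd then k₀(B) ≤ s·2 ^ q, and otherwise (s + 1)·k₀(B) ≤ l·2 ^ q; in particular k₀(B) ≤ 2 ^ q when l ≤ 3. -/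
theorem result {G : Type*} [Group G] [Finite G] (M : Ideal Cfsg.AlgInt) (hM : Cfsg.IsPModular 2 M) (B : Set (Cfsg.IrrCharacter G)) (hB : Cfsg.IsPBlock M B) (u : G) (hu : ∃ j : ℕ, orderOf u = 2 ^ j) (b : Set (Cfsg.IrrCharacter ↥(Subgroup.centralizer ({u} : Set G)))) (hb : Cfsg.IsInducedBlock M (Subgroup.centralizer ({u} : Set G)) b B) : (Odd (Nat.sqrt (Cfsg.blockRank 2 b)) → Nat.card {χ : Cfsg.IrrCharacter G // χ ∈ B ∧ Cfsg.blockHeight 2 B (χ : G → ℂ) = 0} ≤ Nat.sqrt (Cfsg.blockRank 2 b) * 2 ^ Cfsg.blockDefect 2 b) ∧ (¬ Odd (Nat.sqrt (Cfsg.blockRank 2 b)) → (Nat.sqrt (Cfsg.blockRank 2 b) + 1) * Nat.card {χ : Cfsg.IrrCharacter G // χ ∈ B ∧ Cfsg.blockHeight 2 B (χ : G → ℂ) = 0} ≤ Cfsg.blockRank 2 b * 2 ^ Cfsg.blockDefect 2 b) ∧ (Cfsg.blockRank 2 b ≤ 3 → Nat.card {χ : Cfsg.IrrCharacter G // χ ∈ B ∧ Cfsg.blockHeight 2 B (χ : G → ℂ) = 0} ≤ 2 ^ Cfsg.blockDefect 2 b) := by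
  classical
  haveI : Fintype G := Fintype.ofFinite _
  haveI : Fintype (Subgroup.centralizer ({u} : Set G)) := Fintype.ofFinite _
  haveI : Fintype (IrrCharacter G) := Fintype.ofFinite _
  haveI : Fintype (IrrCharacter (Subgroup.centralizer ({u} : Set G))) := Fintype.ofFinite _
  haveI : Fact (Nat.Prime 2) := ⟨Nat.prime_two⟩
  have huC : u ∈ Subgroup.centralizer ({u} : Set G) := by
    rw [Subgroup.mem_centralizer_iff]
    intro h hh
    rw [Set.mem_singleton_iff] at hh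
    rw [hh]
  have hcomm : ∀ c : Subgroup.centralizer ({u} : Set G), u * (c : G) = (c : G) * u := by
    intro c
    exact Subgroup.mem_centralizer_iff.mp c.2 u rfl
  set S : Finset (IrrCharacter G) :=
    Finset.univ.filter (fun χ => χ ∈ B ∧ Cfsg.blockHeight 2 B (χ : G → ℂ) = 0) with hS
  have hSB : ∀ χ ∈ S, χ ∈ B := fun χ hχ => (Finset.mem_filter.mp hχ).2.1
  have hmin : ∀ χ ∈ S, ∀ ξ ∈ B, (Cfsg.Agent.Helper24.irrDeg χ).factorization 2 ≤
      (Cfsg.Agent.Helper24.irrDeg ξ).factorization 2 := by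
    intro χ hχ ξ hξ
    have h0 := (Finset.mem_filter.mp hχ).2.2
    rw [Cfsg.Agent.Helper8.IndHt.blockHeight_eq, Nat.sub_eq_zero_iff_le] at h0
    exact le_trans h0 (Cfsg.Agent.Helper8.IndHt.minVal_le 2 hξ)
  obtain ⟨Nf, hodd, hlow, hup⟩ := Cfsg.Agent.Helper23.CM.exists_odd_avg hM u hu
    (Subgroup.centralizer ({u} : Set G)) huC hcomm le_rfl hb S hSB hmin
  have hcard : Nat.card {χ : Cfsg.IrrCharacter G // χ ∈ B ∧ Cfsg.blockHeight 2 B (χ : G → ℂ) = 0}
      = S.card := by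
    rw [Nat.card_eq_fintype_card, hS, Fintype.card_subtype]
  rw [hcard]
  exact Cfsg.Agent.Helper23.CM.two_block_arith S Nf _ _ hodd hlow hup

end Cfsg.Agent.S4541
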