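import Cfsg.Statements.S4553
import Cfsg.Agent.Helper23.GaloisCyclic
import Cfsg.Agent.Helper23.PrincipalCover
import Cfsg.Agent.Helper18.IsolatedTransfer
import Cfsg.Agent.Helper24.Codegree

set_option autoImplicit false
open Cfsg

namespace Cfsg.Agent.S4553

open Cfsg.Agent.Helper24 Cfsg.Agent.Helper5 Cfsg.Agent.Helper5.Loc Cfsg.Agent.Helper5.CC
open Cfsg.Agent.Helper23.NS Cfsg.Agent.Helper23.GC Cfsg.Agent.Helper23.PCov


/-- Let G be a finite group, p a prime, P a Sylow p-subgroup, N the p-residual of G (the subgroup generated by the elements of order prime to p, the smallest normal subgroup with G/N a p-group), and M a maximal ideal of the algebraic integers containing p; suppose G/N is cyclic and nontrivial. Let k be a natural number with g ^ k = g ^ (1 + p) for every p-element g and g ^ k = g for every element g of order prime to p (so that χ (g ^ k) is the image of χ g under the field automorphism that raises p-power roots of unity to the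 power 1 + p and fixes the roots of unity of order prime to p). Then the number of members χ of the principal block of G of degree prime to p with χ (g ^ k) = χ g for all g equals p times the number of members θ of the principal block of N of degree prime to p that are invariant under conjugation by P and satisfy θ (n ^ k) = θ n for all n. -/
theorem result {G : Type*} [Group G] [Finite G] (p : ℕ) [Fact p.Prime] (M : Ideal Cfsg.AlgInt) (hM : Cfsg.IsPModular p M) (P : Sylow p G) (N : Subgroup G) [hN : N.Normal] (hNres : N = Cfsg.pResidual p G) (hcyc : IsCyclic (G ⧸ N)) (hnt : N ≠ ⊤) (k : ℕ) (hk₁ : ∀ g : G, (∃ j : ℕ, orderOf g = p ^ j) → g ^ k = g ^ (1 + p)) (hk₂ : ∀ g : G, Nat.Coprime (orderOf g) p → g ^ k = g) : Nat.card {χ : Cfsg.IrrCharacter G // χ ∈ Cfsg.principalBlock M G ∧ ¬ p ∣ Cfsg.charDegree (χ : G → ℂ) ∧ ∀ g : G, (χ : G → ℂ) (g ^ k) = (χ : G → ℂ) g} = p * Nat.card {θ : Cfsg.IrrCharacter ↥N // θ ∈ Cfsg.principalBlock M ↥N ∧ ¬ p ∣ Cfsg.charDegree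 (θ : ↥N → ℂ) ∧ (∀ x ∈ (P : Subgroup G), ∀ n : ↥N, (θ : ↥N → ℂ) ⟨x * n * x⁻¹, hN.conj_mem n n.2 x⟩ = (θ : ↥N → ℂ) n) ∧ ∀ n : ↥N, (θ : ↥N → ℂ) (n ^ k) = (θ : ↥N → ℂ) n} := by
  classical
  have hp : Fact p.Prime := inferInstance
  have hMp := isPrime_of_isPModular hM
  have : Fintype G := Fintype.ofFinite G
  subst hNres
  set N : Subgroup G := Cfsg.pResidual p G with hNdef
  have : Fintype N := Fintype.ofFinite N
  obtain ⟨a, ha⟩ := (IsPGroup.iff_card).mp (Cfsg.Agent.Helper18.isPGroup_quotient_pResidual (G := G) p)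
  have hKa : N.index = p ^ a := by rw [Subgroup.index_eq_card]; exact ha
  have ha0 : a ≠ 0 := by
    rintro rfl
    rw [pow_zero] at hKa
    exact hnt (Subgroup.index_eq_one.mp hKa)
  have hLP := not_dvd_orderOf_linear_pResidual (G := G) p hp.out
  -- `G = N P`
  have hsup : N ⊔ (P : Subgroup G) = ⊤ := by
    rw [← Subgroup.index_eq_one]
    have h1 : (N ⊔ (P : Subgroup G)).index ∣ N.index := Subgroup.index_dvd_of_le le_sup_left
    have h2 : (N ⊔ (P : Subgroup G)).index ∣ (P : Subgroup G).index :=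
      Subgroup.index_dvd_of_le le_sup_right
    rw [hKa] at h1
    obtain ⟨j, -, hj⟩ := (Nat.dvd_prime_pow hp.out).mp h1
    rcases Nat.eq_zero_or_pos j with h0 | hpos
    · rw [hj, h0, pow_zero]
    · exfalso
      apply P.not_dvd_index
      refine dvd_trans ?_ h2
      rw [hj]
      exact dvd_pow_self p hpos.ne'
  have hdecomp : ∀ g : G, ∃ n ∈ N, ∃ u ∈ (P : Subgroup G), g = n * u := by
    intro g
    have hg : g ∈ N ⊔ (P : Subgroup G) := by rw [hsup]; exact Subgroup.mem_top g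
    obtain ⟨n, hn, u, hu, h⟩ := Subgroup.mem_sup_of_normal_left.mp hg
    exact ⟨n, hn, u, hu, h.symm⟩
  -- coprimality of `k`
  have hkfix : ∀ g : G, (orderOf g).Prime → g ^ k = g := by
    intro g hg
    by_cases hgp : orderOf g = p
    · rw [hk₁ g ⟨1, by rw [hgp, pow_one]⟩, pow_add, pow_one, ← hgp, pow_orderOf_eq_one, mul_one]
    · apply hk₂
      exact (Nat.coprime_primes hg hp.out).mpr hgp
  have hk : k.Coprime (Nat.card G) := by
    apply Nat.Coprime.symm
    apply Nat.Coprime.symm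
    apply Nat.coprime_of_dvd
    intro r hr hrk hrG
    obtain ⟨g, hg⟩ := exists_prime_orderOf_dvd_card' r hrG (hp := ⟨hr⟩)
    have h1 := hkfix g (by rw [hg]; exact hr)
    have h2 : g ^ k = 1 := by
      apply orderOf_dvd_iff_pow_eq_one.mp
      rw [hg]; exact hrk
    rw [h2] at h1
    rw [← h1, orderOf_one] at hg
    exact hr.one_lt.ne' hg.symm
  -- the power map on the quotient
  have hkq : ∀ x : G ⧸ N, x ^ k = x ^ (1 + p) := by
    intro x
    obtain ⟨g, rfl⟩ := QuotientGroup.mk_surjective x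
    obtain ⟨n, hn, u, hu, rfl⟩ := hdecomp g
    have h1 : ((n * u : G) : G ⧸ N) = ((u : G) : G ⧸ N) := by
      rw [QuotientGroup.mk_mul, (QuotientGroup.eq_one_iff n).mpr hn, one_mul]
    rw [h1, ← QuotientGroup.mk_pow, ← QuotientGroup.mk_pow]
    have hup : ∃ j : ℕ, orderOf u = p ^ j := by
      obtain ⟨j, hj⟩ := (IsPGroup.iff_orderOf.mp P.2) ⟨u, hu⟩
      exact ⟨j, by rw [← hj]; exact (Subgroup.orderOf_mk u hu).symm⟩
    rw [hk₁ u hup]
  have hcyc' : IsCyclic (G ⧸ N) := hcyc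
  -- principal blocks
  obtain ⟨hdown, hup⟩ := principal_cover hM N ⟨a, hKa⟩
  -- the restriction map
  have hresirr : ∀ χ : IrrCharacter G, ¬ p ∣ charDegree (χ : G → ℂ) →
      IsIrrCharacter N (fun n : N => (χ : G → ℂ) n) := by
    intro χ h
    apply restrict_irr_of_not_dvd N p hp.out a hKa hLP χ
    rw [← charDegree_irr]
    exact h
  have hdegres : ∀ (χ : IrrCharacter G) (θ : IrrCharacter N),
      (∀ n : N, (χ : G → ℂ) n = (θ : N → ℂ) n) →
      charDegree (θ : N → ℂ) = charDegree (χ : G → ℂ) := by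
    intro χ θ h
    rw [charDegree, charDegree, ← h 1, Subgroup.coe_one]
  let r : {χ : Cfsg.IrrCharacter G // χ ∈ Cfsg.principalBlock M G ∧
        ¬ p ∣ Cfsg.charDegree (χ : G → ℂ) ∧ ∀ g : G, (χ : G → ℂ) (g ^ k) = (χ : G → ℂ) g} →
      {θ : Cfsg.IrrCharacter ↥N // θ ∈ Cfsg.principalBlock M ↥N ∧
        ¬ p ∣ Cfsg.charDegree (θ : ↥N → ℂ) ∧
        (∀ x ∈ (P : Subgroup G), ∀ n : ↥N,
          (θ : ↥N → ℂ) ⟨x * n * x⁻¹, hN.conj_mem n n.2 x⟩ = (θ : ↥N → ℂ) n) ∧
        ∀ n : ↥N, (θ : ↥N → ℂ) (n ^ k) = (θ : ↥N → ℂ) n} := fun χ =>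
    ⟨⟨fun n : N => (χ.1 : G → ℂ) n, hresirr χ.1 χ.2.2.1⟩, by
      refine ⟨?_, ?_, ?_, ?_⟩
      · apply hdown χ.1 χ.2.1
        have := classInner_irr_self (⟨fun n : N => (χ.1 : G → ℂ) n, hresirr χ.1 χ.2.2.1⟩ :
          IrrCharacter N)
        rw [this]
        exact one_ne_zero
      · rw [hdegres χ.1 _ (fun n => rfl)]
        exact χ.2.2.1
      · intro x hx n
        exact isClassFunction_irr χ.1 (n : G) x
      · intro n
        show (χ.1 : G → ℂ) ((n ^ k : N) : G) = (χ.1 : G → ℂ) n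
        rw [Subgroup.coe_pow]
        exact χ.2.2.2 n⟩
  have hfiber : ∀ θ' : {θ : Cfsg.IrrCharacter ↥N // θ ∈ Cfsg.principalBlock M ↥N ∧
        ¬ p ∣ Cfsg.charDegree (θ : ↥N → ℂ) ∧
        (∀ x ∈ (P : Subgroup G), ∀ n : ↥N,
          (θ : ↥N → ℂ) ⟨x * n * x⁻¹, hN.conj_mem n n.2 x⟩ = (θ : ↥N → ℂ) n) ∧
        ∀ n : ↥N, (θ : ↥N → ℂ) (n ^ k) = (θ : ↥N → ℂ) n},
      Nat.card {x // r x = θ'} = p := by
    rintro ⟨θ, hθB, hθp, hθP, hθk⟩
    -- `θ` is `G`-invariant
    have hinv : ∀ (g : G) (n : N),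
        (θ : N → ℂ) ⟨g * n * g⁻¹, hN.conj_mem (n : G) n.2 g⟩ = (θ : N → ℂ) n := by
      intro g n
      obtain ⟨m, hm, u, hu, rfl⟩ := hdecomp g
      have h1 := hθP u hu n
      have h2 := isClassFunction_irr θ ⟨u * n * u⁻¹, hN.conj_mem (n : G) n.2 u⟩ ⟨m, hm⟩
      rw [← h1, ← h2]
      refine congrArg _ ?_
      apply Subtype.ext
      show m * u * (n : G) * (m * u)⁻¹ = m * (u * (n : G) * u⁻¹) * m⁻¹
      group
    have hpθ : ¬ p ∣ irrDeg θ := by rw [← charDegree_irr]; exact hθp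
    refine Eq.trans ?_ (card_fixed_extensions N p a hKa ha0 hLP k hk hkq θ hinv hpθ hθk)
    apply Nat.card_congr
    refine Equiv.ofBijective (fun x => ⟨x.1.1, ?_, x.1.2.2.2⟩) ⟨?_, ?_⟩
    · intro n
      have h1 := congrArg (fun t => ((t.1 : IrrCharacter N) : N → ℂ) n) x.2
      exact h1
    · intro x y h
      apply Subtype.ext
      apply Subtype.ext
      exact congrArg (fun t => t.1) h
    · rintro ⟨χ, hχN, hχk⟩
      have hχB : χ ∈ principalBlock M G := by
        apply hup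
        intro ψ hψ
        have h1 : (fun n : N => (χ : G → ℂ) n) = (θ : N → ℂ) := funext hχN
        rw [h1] at hψ
        have h2 : ψ = θ := by
          by_contra hne
          apply hψ
          exact classInner_irr_ne (fun h => hne h.symm)
        rw [h2]
        exact hθB
      have hχp : ¬ p ∣ charDegree (χ : G → ℂ) := by
        rw [← hdegres χ θ hχN]
        exact hθp
      refine ⟨⟨⟨χ, hχB, hχp, hχk⟩, ?_⟩, rfl⟩
      apply Subtype.ext
      apply Subtype.ext
      funext n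
      exact hχN n
  have : Fintype {θ : Cfsg.IrrCharacter ↥N // θ ∈ Cfsg.principalBlock M ↥N ∧
        ¬ p ∣ Cfsg.charDegree (θ : ↥N → ℂ) ∧
        (∀ x ∈ (P : Subgroup G), ∀ n : ↥N,
          (θ : ↥N → ℂ) ⟨x * n * x⁻¹, hN.conj_mem n n.2 x⟩ = (θ : ↥N → ℂ) n) ∧
        ∀ n : ↥N, (θ : ↥N → ℂ) (n ^ k) = (θ : ↥N → ℂ) n} := Fintype.ofFinite _
  rw [← Nat.card_congr (Equiv.sigmaFiberEquiv r), Nat.card_sigma,
    Finset.sum_congr rfl (fun θ' _ => hfiber θ'), Finset.sum_const, Finset.card_univ,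
    smul_eq_mul, Nat.card_eq_fintype_card, mul_comm]

end Cfsg.Agent.S4553
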