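import Cfsg.Statements.S4558
import Mathlib
import Cfsg.Agent.Helper24.CharBasic

set_option autoImplicit false
open Cfsg

namespace Cfsg.Agent.S4558

open Polynomial in
/-- A nonnegative integer combination of `q`-th roots of unity (`q = p^(j+1)`) that vanishes has
total weight divisible by `p`. -/
theorem prime_dvd_sum_of_sum_roots_eq_zero (p j : ℕ) [Fact p.Prime] (S : Finset ℂ) (d : ℂ → ℕ)
    (hS : ∀ μ ∈ S, μ ^ (p ^ (j + 1)) = 1) (h0 : ∑ μ ∈ S, μ * (d μ : ℂ) = 0) :
    p ∣ ∑ μ ∈ S, d μ := by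
  classical
  set q := p ^ (j + 1) with hq
  have hq0 : q ≠ 0 := pow_ne_zero _ (Fact.out : p.Prime).ne_zero
  have : NeZero q := ⟨hq0⟩
  set ζ : ℂ := Complex.exp (2 * Real.pi * Complex.I / q) with hζ
  have hprim : IsPrimitiveRoot ζ q := Complex.isPrimitiveRoot_exp q hq0
  have hk : ∀ μ ∈ S, ∃ i : ℕ, ζ ^ i = μ := by
    intro μ hμ
    obtain ⟨i, -, hi⟩ := hprim.eq_pow_of_pow_eq_one (hS μ hμ)
    exact ⟨i, hi⟩
  choose! k hk using hk
  set f : ℤ[X] := ∑ μ ∈ S, C (d μ : ℤ) * X ^ (k μ) with hf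
  have haeval : aeval ζ f = 0 := by
    rw [hf, map_sum, ← h0]
    refine Finset.sum_congr rfl ?_
    intro μ hμ
    simp only [map_mul, aeval_C, map_pow, aeval_X, hk μ hμ]
    rw [mul_comm]
    simp
  have hmin : cyclotomic q ℤ = minpoly ℤ ζ :=
    cyclotomic_eq_minpoly hprim (Nat.pos_of_ne_zero hq0)
  have hint : IsIntegral ℤ ζ := hprim.isIntegral (Nat.pos_of_ne_zero hq0)
  have hdvd : cyclotomic q ℤ ∣ f := by
    rw [hmin]
    exact minpoly.isIntegrallyClosed_dvd hint haeval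
  obtain ⟨h, hh⟩ := hdvd
  have heval : eval 1 f = (p : ℤ) * eval 1 h := by
    rw [hh, eval_mul, hq, eval_one_cyclotomic_prime_pow]
  have heval2 : eval 1 f = ((∑ μ ∈ S, d μ : ℕ) : ℤ) := by
    rw [hf, eval_finsetSum]
    push_cast
    refine Finset.sum_congr rfl ?_
    intro μ _
    simp
  have : (p : ℤ) ∣ ((∑ μ ∈ S, d μ : ℕ) : ℤ) := by
    rw [← heval2, heval]; exact dvd_mul_right _ _
  exact Int.natCast_dvd_natCast.mp this


/-- Let χ be a character of the finite group G and g an element of p-power order for the prime p. If χ g = 0, then p divides the degree of χ. -/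
theorem result {G : Type*} [Group G] [Finite G] (p : ℕ) [Fact p.Prime] (χ : G → ℂ) (hχ : Cfsg.IsCharacter G χ) (g : G) (hg : ∃ j : ℕ, orderOf g = p ^ j) (h0 : χ g = 0) : p ∣ Cfsg.charDegree χ := by
  classical
  obtain ⟨n, ρ, rfl⟩ := hχ
  have hdeg : Cfsg.charDegree ρ.character = n := by
    unfold Cfsg.charDegree
    rw [Representation.char_one]
    simp
  rw [hdeg]
  obtain ⟨j, hj⟩ := hg
  rcases j with _ | j
  · -- g = 1
    rw [pow_zero, orderOf_eq_one_iff] at hj
    rw [hj, Representation.char_one] at h0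
    have : (n : ℂ) = 0 := by simpa using h0
    have : n = 0 := by exact_mod_cast this
    rw [this]; exact dvd_zero p
  · have hsum := Cfsg.Agent.Helper24.char_eq_sum_eigen ρ g
    rw [h0] at hsum
    have hroots : ∀ μ ∈ Cfsg.Agent.Helper24.eigenFinset (ρ g), μ ^ (p ^ (j + 1)) = 1 := by
      intro μ hμ
      rw [← hj]
      exact Cfsg.Agent.Helper24.rho_eigenvalue_pow ρ g (Cfsg.Agent.Helper24.mem_eigenFinset.mp hμ)
    have key := prime_dvd_sum_of_sum_roots_eq_zero p j (Cfsg.Agent.Helper24.eigenFinset (ρ g))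
      (fun μ => Module.finrank ℂ (Module.End.eigenspace (ρ g) μ)) hroots hsum.symm
    have hfin := Cfsg.Agent.Helper24.finrank_eq_sum_eigen ρ g
    have hn : (n : ℂ) = ((∑ μ ∈ Cfsg.Agent.Helper24.eigenFinset (ρ g),
        Module.finrank ℂ (Module.End.eigenspace (ρ g) μ) : ℕ) : ℂ) := by
      rw [Module.finrank_fin_fun] at hfin
      rw [hfin]; push_cast; rfl
    have hn' : n = ∑ μ ∈ Cfsg.Agent.Helper24.eigenFinset (ρ g),
        Module.finrank ℂ (Module.End.eigenspace (ρ g) μ) := by exact_mod_cast hn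
    rw [hn']; exact key

end Cfsg.Agent.S4558
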