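import Cfsg.Statements.S4560
import Cfsg.Agent.Helper23.AVIrr
import Cfsg.Agent.Helper14.AVW2
import Cfsg.Agent.Helper14.AVW3

set_option autoImplicit false
open Cfsg

namespace Cfsg.Agent.S4560

open Cfsg.Agent.Helper23.AV MulAction

theorem av_trans4_perm (n : ℕ) (hn : 7 ≤ n) : Trans4 (Equiv.Perm (Fin n)) (Fin n) :=
  trans4_of_isMultiplyPretransitive (Equiv.Perm.isMultiplyPretransitive (Fin n) 4)
    (by rw [Nat.card_eq_fintype_card, Fintype.card_fin]; omega)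

theorem av_trans4_alt (n : ℕ) (hn : 7 ≤ n) : Trans4 (alternatingGroup (Fin n)) (Fin n) := by
  refine trans4_of_isMultiplyPretransitive ?_
    (by rw [Nat.card_eq_fintype_card, Fintype.card_fin]; omega)
  have h := alternatingGroup.isMultiplyPretransitive (Fin n)
  have hc : Nat.card (Fin n) = n := by rw [Nat.card_eq_fintype_card, Fintype.card_fin]
  exact MulAction.isMultiplyPretransitive_of_le (n := Nat.card (Fin n) - 2)
    (by rw [hc]; omega) (by omega)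

theorem av_fx_coe (n : ℕ) (x : alternatingGroup (Fin n)) :
    fx (alternatingGroup (Fin n)) (Fin n) x = fx (Equiv.Perm (Fin n)) (Fin n) (x : Equiv.Perm (Fin n)) :=
  rfl

theorem av_fx_sq_coe (n : ℕ) (x : alternatingGroup (Fin n)) :
    fx (alternatingGroup (Fin n)) (Fin n) (x ^ 2) =
      fx (Equiv.Perm (Fin n)) (Fin n) ((x : Equiv.Perm (Fin n)) ^ 2) :=
  rfl

theorem av_fx_eq (n f : ℕ) (σ : Equiv.Perm (Fin n)) (h : Nat.card (fixedBy (Fin n) σ) = f) :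
    fx (Equiv.Perm (Fin n)) (Fin n) σ = f := by
  unfold fx; rw [h]

/-- Template: a witness for `chi1`. -/
theorem av_result_chi1 (n : ℕ) (hn : 7 ≤ n) (σ : Equiv.Perm (Fin n))
    (hσ : σ ∈ alternatingGroup (Fin n)) (h1 : Nat.card (fixedBy (Fin n) σ) = 1) :
    ∃ χ : Cfsg.IrrCharacter (alternatingGroup (Fin n)),
      (χ : alternatingGroup (Fin n) → ℂ) ⟨σ, hσ⟩ = 0 ∧
      ∃ ψ : Cfsg.IrrCharacter (Equiv.Perm (Fin n)), ∀ x : alternatingGroup (Fin n),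
        (ψ : Equiv.Perm (Fin n) → ℂ) x = (χ : alternatingGroup (Fin n) → ℂ) x := by
  refine ⟨⟨chi1 (alternatingGroup (Fin n)) (Fin n), isIrrCharacter_chi1 (av_trans4_alt n hn)⟩, ?_,
    ⟨chi1 (Equiv.Perm (Fin n)) (Fin n), isIrrCharacter_chi1 (av_trans4_perm n hn)⟩, fun x => rfl⟩
  show chi1 (alternatingGroup (Fin n)) (Fin n) ⟨σ, hσ⟩ = 0
  unfold chi1
  rw [av_fx_coe, av_fx_eq n 1 σ h1]
  simp

/-- Template: a witness for `psi2`. -/
theorem av_result_psi2 (n : ℕ) (hn : 7 ≤ n) (σ : Equiv.Perm (Fin n))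
    (hσ : σ ∈ alternatingGroup (Fin n)) (h1 : Nat.card (fixedBy (Fin n) σ) = 0)
    (h2 : Nat.card (fixedBy (Fin n) (σ ^ 2)) = 0) :
    ∃ χ : Cfsg.IrrCharacter (alternatingGroup (Fin n)),
      (χ : alternatingGroup (Fin n) → ℂ) ⟨σ, hσ⟩ = 0 ∧
      ∃ ψ : Cfsg.IrrCharacter (Equiv.Perm (Fin n)), ∀ x : alternatingGroup (Fin n),
        (ψ : Equiv.Perm (Fin n) → ℂ) x = (χ : alternatingGroup (Fin n) → ℂ) x := by
  refine ⟨⟨psi2 (alternatingGroup (Fin n)) (Fin n), isIrrCharacter_psi2 (av_trans4_alt n hn)⟩, ?_,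
    ⟨psi2 (Equiv.Perm (Fin n)) (Fin n), isIrrCharacter_psi2 (av_trans4_perm n hn)⟩, fun x => rfl⟩
  show psi2 (alternatingGroup (Fin n)) (Fin n) ⟨σ, hσ⟩ = 0
  unfold psi2
  rw [av_fx_coe, av_fx_sq_coe, av_fx_eq n 0 σ h1, av_fx_eq n 0 _ h2]
  simp

/-- Template: a witness for `psi3`. -/
theorem av_result_psi3 (n : ℕ) (hn : 7 ≤ n) (σ : Equiv.Perm (Fin n))
    (hσ : σ ∈ alternatingGroup (Fin n)) (h1 : Nat.card (fixedBy (Fin n) σ) = 2)
    (h2 : Nat.card (fixedBy (Fin n) (σ ^ 2)) = 2) :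
    ∃ χ : Cfsg.IrrCharacter (alternatingGroup (Fin n)),
      (χ : alternatingGroup (Fin n) → ℂ) ⟨σ, hσ⟩ = 0 ∧
      ∃ ψ : Cfsg.IrrCharacter (Equiv.Perm (Fin n)), ∀ x : alternatingGroup (Fin n),
        (ψ : Equiv.Perm (Fin n) → ℂ) x = (χ : alternatingGroup (Fin n) → ℂ) x := by
  refine ⟨⟨psi3 (alternatingGroup (Fin n)) (Fin n), isIrrCharacter_psi3 (av_trans4_alt n hn)⟩, ?_,
    ⟨psi3 (Equiv.Perm (Fin n)) (Fin n), isIrrCharacter_psi3 (av_trans4_perm n hn)⟩, fun x => rfl⟩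
  show psi3 (alternatingGroup (Fin n)) (Fin n) ⟨σ, hσ⟩ = 0
  unfold psi3
  rw [av_fx_coe, av_fx_sq_coe, av_fx_eq n 2 σ h1, av_fx_eq n 2 _ h2]
  norm_num

/-- For n ≥ 7 the alternating group on n letters has an irreducible character that vanishes at some 2-element and is the restriction of an irreducible character of the symmetric group, and an irreducible character that vanishes at some element of order 3 and is the restriction of an irreducible character of the symmetric group. -/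
theorem result (n : ℕ) (hn : 7 ≤ n) : (∃ χ : Cfsg.IrrCharacter (alternatingGroup (Fin n)), (∃ x : alternatingGroup (Fin n), (∃ j : ℕ, orderOf x = 2 ^ j) ∧ (χ : alternatingGroup (Fin n) → ℂ) x = 0) ∧ ∃ ψ : Cfsg.IrrCharacter (Equiv.Perm (Fin n)), ∀ x : alternatingGroup (Fin n), (ψ : Equiv.Perm (Fin n) → ℂ) x = (χ : alternatingGroup (Fin n) → ℂ) x) ∧ (∃ χ : Cfsg.IrrCharacter (alternatingGroup (Fin n)), (∃ y : alternatingGroup (Fin n), orderOf y = 3 ∧ (χ : alternatingGroup (Fin n) → ℂ) y = 0) ∧ ∃ ψ : Cfsg.IrrCharacter (Equiv.Perm (Fin n)), ∀ x : alternatingGroup (Fin n), (ψ : Equiv.Perm (Fin n) → ℂ) x = (χ : alternatingGroup (Fin n) → ℂ) x) := by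
  constructor
  · -- the 2-part
    have key : ∀ (σ : Equiv.Perm (Fin n)) (hσ : σ ∈ alternatingGroup (Fin n)),
        (∃ j : ℕ, orderOf σ = 2 ^ j) →
        (∃ χ : Cfsg.IrrCharacter (alternatingGroup (Fin n)),
          (χ : alternatingGroup (Fin n) → ℂ) ⟨σ, hσ⟩ = 0 ∧
          ∃ ψ : Cfsg.IrrCharacter (Equiv.Perm (Fin n)), ∀ x : alternatingGroup (Fin n),
            (ψ : Equiv.Perm (Fin n) → ℂ) x = (χ : alternatingGroup (Fin n) → ℂ) x) →
        ∃ χ : Cfsg.IrrCharacter (alternatingGroup (Fin n)), (∃ x : alternatingGroup (Fin n), (∃ j : ℕ, orderOf x = 2 ^ j) ∧ (χ : alternatingGroup (Fin n) → ℂ) x = 0) ∧ ∃ ψ : Cfsg.IrrCharacter (Equiv.Perm (Fin n)), ∀ x : alternatingGroup (Fin n), (ψ : Equiv.Perm (Fin n) → ℂ) x = (χ : alternatingGroup (Fin n) → ℂ) x := by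
      rintro σ hσ ⟨j, hj⟩ ⟨χ, hχ, hψ⟩
      refine ⟨χ, ⟨⟨σ, hσ⟩, ⟨j, ?_⟩, hχ⟩, hψ⟩
      rw [← hj]
      exact Subgroup.orderOf_mk σ hσ
    rcases Nat.even_or_odd' n with ⟨k, hk | hk⟩
    · rcases Nat.even_or_odd' k with ⟨l, hl | hl⟩
      · -- n = 4 l, fx = 0, psi2
        obtain ⟨σ, hσ, hord, h1, h2⟩ := exists_two_elt n 0 l 2 (by norm_num) (by omega) (by omega)
        exact key σ hσ hord (av_result_psi2 n hn σ hσ h1 (h2 le_rfl))
      · -- n = 4 l + 2, fx = 2, psi3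
        obtain ⟨σ, hσ, hord, h1, h2⟩ := exists_two_elt n 2 l 2 (by norm_num) (by omega) (by omega)
        exact key σ hσ hord (av_result_psi3 n hn σ hσ h1 (h2 le_rfl))
    · -- n = 2 k + 1, fx = 1, chi1
      obtain ⟨σ, hσ, hord, h1, -⟩ := exists_two_elt n 1 k 1 le_rfl (by omega) (by omega)
      exact key σ hσ hord (av_result_chi1 n hn σ hσ h1)
  · -- the 3-part
    have key : ∀ (σ : Equiv.Perm (Fin n)) (hσ : σ ∈ alternatingGroup (Fin n)),
        orderOf σ = 3 →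
        (∃ χ : Cfsg.IrrCharacter (alternatingGroup (Fin n)),
          (χ : alternatingGroup (Fin n) → ℂ) ⟨σ, hσ⟩ = 0 ∧
          ∃ ψ : Cfsg.IrrCharacter (Equiv.Perm (Fin n)), ∀ x : alternatingGroup (Fin n),
            (ψ : Equiv.Perm (Fin n) → ℂ) x = (χ : alternatingGroup (Fin n) → ℂ) x) →
        ∃ χ : Cfsg.IrrCharacter (alternatingGroup (Fin n)), (∃ y : alternatingGroup (Fin n), orderOf y = 3 ∧ (χ : alternatingGroup (Fin n) → ℂ) y = 0) ∧ ∃ ψ : Cfsg.IrrCharacter (Equiv.Perm (Fin n)), ∀ x : alternatingGroup (Fin n), (ψ : Equiv.Perm (Fin n) → ℂ) x = (χ : alternatingGroup (Fin n) → ℂ) x := by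
      rintro σ hσ hj ⟨χ, hχ, hψ⟩
      refine ⟨χ, ⟨⟨σ, hσ⟩, ?_, hχ⟩, hψ⟩
      rw [← hj]
      exact Subgroup.orderOf_mk σ hσ
    have h3 : n % 3 = 0 ∨ n % 3 = 1 ∨ n % 3 = 2 := by omega
    rcases h3 with h3 | h3 | h3
    · obtain ⟨σ, hσ, hord, h1, h2⟩ := exists_three_elt n 0 (n / 3) (by omega) (by omega)
      exact key σ hσ hord (av_result_psi2 n hn σ hσ h1 h2)
    · obtain ⟨σ, hσ, hord, h1, h2⟩ := exists_three_elt n 1 (n / 3) (by omega) (by omega)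
      exact key σ hσ hord (av_result_chi1 n hn σ hσ h1)
    · obtain ⟨σ, hσ, hord, h1, h2⟩ := exists_three_elt n 2 (n / 3) (by omega) (by omega)
      exact key σ hσ hord (av_result_psi3 n hn σ hσ h1 h2)

end Cfsg.Agent.S4560
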