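import Cfsg.Statements.S4565
import Mathlib
import Cfsg.Agent.Helper20.FullyRamCyc

set_option autoImplicit false
open Cfsg

namespace Cfsg.Agent.S4565

/-- Let χ be an irreducible character of the finite group H that is fully ramified over the normal subgroup Z: the restriction of χ to Z is e times an irreducible character of Z with e ^ 2 equal to the index of Z. If Z ≠ H, then H/Z has no cyclic subgroup that is its own centralizer. -/
theorem result {H : Type*} [Group H] [Finite H] (Z : Subgroup H) [Z.Normal] (χ : Cfsg.IrrCharacter H) (hfr : ∃ (θ : Cfsg.IrrCharacter ↥Z) (e : ℕ), e ^ 2 = Z.index ∧ ∀ z : ↥Z, (χ : H → ℂ) z = (e : ℂ) * (θ : ↥Z → ℂ) z) (hZ : Z ≠ ⊤) (C : Subgroup (H ⧸ Z)) (hC : IsCyclic C) : Subgroup.centralizer (C : Set (H ⧸ Z)) ≠ C := by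
  classical
  intro hcent
  haveI : Fintype H := Fintype.ofFinite H
  obtain ⟨θ, e, he, hres⟩ := hfr
  obtain ⟨⟨c, hcC⟩, hgen⟩ := hC.exists_generator
  obtain ⟨g, rfl⟩ := QuotientGroup.mk_surjective c
  have hpowC : ∀ x ∈ C, ∃ k : ℤ, x = (QuotientGroup.mk g : H ⧸ Z) ^ k := by
    intro x hx
    obtain ⟨k, hk⟩ := Subgroup.mem_zpowers_iff.mp (hgen ⟨x, hx⟩)
    refine ⟨k, ?_⟩
    have := congrArg Subtype.val hk
    simpa using this.symm
  by_cases hgZ : g ∈ Z
  · have hc1 : (QuotientGroup.mk g : H ⧸ Z) = 1 := (QuotientGroup.eq_one_iff g).mpr hgZ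
    have hCbot : C = ⊥ := by
      rw [eq_bot_iff]
      intro x hx
      obtain ⟨k, hk⟩ := hpowC x hx
      rw [hk, hc1, one_zpow]
      exact Subgroup.mem_bot.mpr rfl
    have htop : ∀ x : H ⧸ Z, x ∈ C := by
      intro x
      rw [← hcent, Subgroup.mem_centralizer_iff]
      intro y hy
      rw [hCbot] at hy
      have hy1 : y = 1 := by simpa using hy
      rw [hy1]; simp
    apply hZ
    rw [eq_top_iff]
    intro x _
    have := htop (QuotientGroup.mk x)
    rw [hCbot] at this
    exact (QuotientGroup.eq_one_iff x).mp (Subgroup.mem_bot.mp this)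
  · set D : Subgroup H := C.comap (QuotientGroup.mk' Z) with hD
    have hZD : Z ≤ D := by
      intro z hz
      rw [hD, Subgroup.mem_comap]
      have : (QuotientGroup.mk' Z z) = 1 := (QuotientGroup.eq_one_iff z).mpr hz
      rw [this]; exact C.one_mem
    have hgD : g ∈ D := hcC
    have hcyc : IsCyclic (↥D ⧸ Z.subgroupOf D) := by
      refine ⟨⟨QuotientGroup.mk ⟨g, hgD⟩, fun q => ?_⟩⟩
      obtain ⟨d, rfl⟩ := QuotientGroup.mk_surjective q
      obtain ⟨k, hk⟩ := hpowC (QuotientGroup.mk (d : H)) d.2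
      refine ⟨k, ?_⟩
      show ((QuotientGroup.mk ⟨g, hgD⟩ : ↥D ⧸ Z.subgroupOf D)) ^ k = QuotientGroup.mk d
      rw [← QuotientGroup.mk_zpow, QuotientGroup.eq, Subgroup.mem_subgroupOf]
      have h1 : (QuotientGroup.mk ((g ^ k)⁻¹ * (d : H)) : H ⧸ Z) = 1 := by
        rw [QuotientGroup.mk_mul, QuotientGroup.mk_inv, QuotientGroup.mk_zpow, hk]
        group
      have h2 := (QuotientGroup.eq_one_iff _).mp h1
      convert h2 using 1
      simp
    apply Cfsg.Agent.Helper20.false_of_self_centralizing Z χ θ e he hres D hZD hcyc g hgD hgZ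
    intro z hz t ht
    rw [hD, Subgroup.mem_comap]
    rw [← hcent, Subgroup.mem_centralizer_iff]
    have hzg : (QuotientGroup.mk (z * g) : H ⧸ Z) = QuotientGroup.mk g := by
      rw [QuotientGroup.mk_mul, (QuotientGroup.eq_one_iff z).mpr hz, one_mul]
    have hcomm : (QuotientGroup.mk g : H ⧸ Z) * QuotientGroup.mk t =
        QuotientGroup.mk t * QuotientGroup.mk g := by
      have h1 : (QuotientGroup.mk (t * (z * g) * t⁻¹ * (z * g)⁻¹) : H ⧸ Z) = 1 :=
        (QuotientGroup.eq_one_iff _).mpr ht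
      simp only [QuotientGroup.mk_mul, QuotientGroup.mk_inv] at h1 hzg
      rw [hzg] at h1
      have h2 : (QuotientGroup.mk t : H ⧸ Z) * QuotientGroup.mk g =
          (QuotientGroup.mk t * QuotientGroup.mk g * (QuotientGroup.mk t)⁻¹ *
            (QuotientGroup.mk g)⁻¹) * (QuotientGroup.mk g * QuotientGroup.mk t) := by group
      rw [h2, h1, one_mul]
    intro y hy
    obtain ⟨k, hk⟩ := hpowC y hy
    rw [hk]
    show (QuotientGroup.mk g : H ⧸ Z) ^ k * QuotientGroup.mk t = QuotientGroup.mk t * (QuotientGroup.mk g) ^ k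
    exact (Commute.zpow_left (show Commute (QuotientGroup.mk g : H ⧸ Z) (QuotientGroup.mk t) from hcomm) k).eq

end Cfsg.Agent.S4565
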