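import Cfsg.Statements.S4566
import Mathlib
import Cfsg.Agent.Helper23.Schur

set_option autoImplicit false
open Cfsg

namespace Cfsg.Agent.S4566

/-- Let N be a central subgroup of the finite group G, ψ a faithful irreducible (hence degree-one) character of N, and χ an irreducible character of G whose restriction to N contains ψ. If g ∈ G and some x ∈ G has commutator x⁻¹ g⁻¹ x g in N but different from 1, then χ g = 0. -/
theorem result {G : Type*} [Group G] [Fintype G] (N : Subgroup G) [Fintype N] (hN : N ≤ Subgroup.center G) (ψ : Cfsg.IrrCharacter ↥N) (hfaith : ∀ n : ↥N, (ψ : ↥N → ℂ) n = (ψ : ↥N → ℂ) 1 → n = 1) (χ : Cfsg.IrrCharacter G) (hover : Cfsg.classInner (fun n : ↥N => (χ : G → ℂ) n) (ψ : ↥N → ℂ) ≠ 0) (g x : G) (hcomm : x⁻¹ * g⁻¹ * x * g ∈ N) (hne : x⁻¹ * g⁻¹ * x * g ≠ 1) : (χ : G → ℂ) g = 0 := by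
  classical
  obtain ⟨χf, m, ρ, hρirr, hρ⟩ := χ
  obtain ⟨ψf, k, σ, hσirr, hσ⟩ := ψ
  simp only at hfaith hover ⊢
  subst hρ hσ
  have := hρirr
  have := hσirr
  -- restriction of ρ to N
  let τ : Representation ℂ N (Fin m → ℂ) := ρ.comp N.subtype
  have hτchar : τ.character = fun n : N => ρ.character (n : G) := by
    ext n; rfl
  rw [← hτchar] at hover
  obtain ⟨f, hf⟩ := Cfsg.Agent.Helper23.exists_intertwining_ne_zero_of_inner_ne_zero σ τ hover
  have hfinj : Function.Injective f :=
    (Representation.IsIrreducible.injective_or_eq_zero f).resolve_right hf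
  -- z = x⁻¹ g⁻¹ x g
  set z : G := x⁻¹ * g⁻¹ * x * g with hz
  have hzc : z ∈ Subgroup.center G := hN hcomm
  obtain ⟨c, hc⟩ := Cfsg.Agent.Helper23.exists_scalar_of_mem_center ρ z hzc
  -- σ z = c • id
  have hσz : σ ⟨z, hcomm⟩ = c • (LinearMap.id : (Fin k → ℂ) →ₗ[ℂ] (Fin k → ℂ)) := by
    apply LinearMap.ext
    intro w
    apply hfinj
    have h1 := Representation.IntertwiningMap.isIntertwining σ τ f (⟨z, hcomm⟩ : N) w
    have h2 : τ (⟨z, hcomm⟩ : N) = ρ z := rfl
    rw [h1, h2, hc]
    simp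
  -- faithful gives c ≠ 1
  have hc1 : c ≠ 1 := by
    intro h1
    have hψz : σ.character ⟨z, hcomm⟩ = σ.character 1 := by
      unfold Representation.character
      rw [hσz, h1, one_smul, map_one]; rfl
    have := hfaith ⟨z, hcomm⟩ hψz
    exact hne (congrArg Subtype.val this)
  -- χ(g) = χ(x g x⁻¹) = χ(g z)
  have hconj : x * g * x⁻¹ = g * z := by
    have hzcomm : ∀ y : G, y * z = z * y := fun y => (Subgroup.mem_center_iff.mp hzc y)
    calc x * g * x⁻¹ = g * x * (x⁻¹ * g⁻¹ * x * g) * x⁻¹ := by group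
      _ = g * x * z * x⁻¹ := by rw [hz]
      _ = g * (x * z) * x⁻¹ := by group
      _ = g * (z * x) * x⁻¹ := by rw [hzcomm x]
      _ = g * z := by group
  have h1 : ρ.character (x * g * x⁻¹) = ρ.character g := Representation.char_conj ρ g x
  have h2 : ρ.character (g * z) = c * ρ.character g := by
    unfold Representation.character
    rw [map_mul, hc]
    rw [show ρ g * c • (LinearMap.id : (Fin m → ℂ) →ₗ[ℂ] (Fin m → ℂ)) = c • ρ g by
      ext v; simp]
    rw [map_smul, smul_eq_mul]
  rw [hconj, h2] at h1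
  have h3 : (c - 1) * ρ.character g = 0 := by rw [sub_mul, h1, one_mul, sub_self]
  rcases mul_eq_zero.mp h3 with h | h
  · exact absurd (sub_eq_zero.mp h) hc1
  · exact h

end Cfsg.Agent.S4566
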