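import Cfsg.Statements.S4567
import Mathlib
import Cfsg.Agent.Helper23.ClassCountOld
import Cfsg.Agent.Helper23.CentralChar
import Cfsg.Agent.Helper23.PSeries
import Cfsg.Agent.Helper23.CharOrtho
import Cfsg.Agent.Helper23.ClassProduct
import Cfsg.Agent.Helper24.ColumnOrth
import Cfsg.Agent.Helper24.Abelian
import Cfsg.Agent.Helper24.Linear

set_option autoImplicit false
open Cfsg

namespace Cfsg.Agent.S4567

open Subgroup

section GroupSide

variable {G : Type*} [Group G] (N : Subgroup G)

/-- the "special" elements of the statement -/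
def Good (g : G) : Prop := ∀ x : G, x⁻¹ * g⁻¹ * x * g ∈ N → x * g = g * x

variable {N}

theorem good_mul (hN : N ≤ Subgroup.center G) {g z : G} (hz : z ∈ N) (hg : Good N g) :
    Good N (g * z) := by
  intro x hx
  have hzc : ∀ y : G, y * z = z * y := fun y => Subgroup.mem_center_iff.mp (hN hz) y
  have e : x⁻¹ * (g * z)⁻¹ * x * (g * z) = x⁻¹ * g⁻¹ * x * g := by
    calc x⁻¹ * (g * z)⁻¹ * x * (g * z) = x⁻¹ * z⁻¹ * g⁻¹ * x * g * z := by group
      _ = x⁻¹ * z⁻¹ * (g⁻¹ * x * g * z) := by group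
      _ = x⁻¹ * z⁻¹ * (z * (g⁻¹ * x * g)) := by rw [hzc]
      _ = x⁻¹ * g⁻¹ * x * g := by group
  rw [e] at hx
  have h1 := hg x hx
  calc x * (g * z) = (x * g) * z := by group
    _ = (g * x) * z := by rw [h1]
    _ = g * (x * z) := by group
    _ = g * (z * x) := by rw [hzc]
    _ = g * z * x := by group

theorem good_conj [N.Normal] {g : G} (y : G) (hg : Good N g) : Good N (y * g * y⁻¹) := by
  intro x hx
  have h1 : (y⁻¹ * x * y)⁻¹ * g⁻¹ * (y⁻¹ * x * y) * g ∈ N := by
    have h2 := (inferInstance : N.Normal).conj_mem _ hx y⁻¹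
    have e : y⁻¹ * (x⁻¹ * (y * g * y⁻¹)⁻¹ * x * (y * g * y⁻¹)) * y⁻¹⁻¹ =
        (y⁻¹ * x * y)⁻¹ * g⁻¹ * (y⁻¹ * x * y) * g := by group
    rw [e] at h2
    exact h2
  have h3 := hg _ h1
  calc x * (y * g * y⁻¹) = y * ((y⁻¹ * x * y) * g) * y⁻¹ := by group
    _ = y * (g * (y⁻¹ * x * y)) * y⁻¹ := by rw [h3]
    _ = y * g * y⁻¹ * x := by group

variable [N.Normal]

theorem card_centralizer_good {g : G} (hg : Good N g) :
    Nat.card (Subgroup.centralizer ({g} : Set G)) =
      Nat.card N * Nat.card (Subgroup.centralizer ({(g : G ⧸ N)} : Set (G ⧸ N))) := by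
  rw [← Cfsg.Agent.Helper23.card_comap_mk']
  congr 2
  ext x
  rw [Subgroup.mem_comap, Subgroup.mem_centralizer_iff, Subgroup.mem_centralizer_iff]
  constructor
  · intro h q hq
    rw [Set.mem_singleton_iff] at hq
    subst hq
    have h1 := h g rfl
    show (g : G ⧸ N) * (x : G ⧸ N) = (x : G ⧸ N) * (g : G ⧸ N)
    rw [← QuotientGroup.mk_mul, ← QuotientGroup.mk_mul, h1]
  · intro h y hy
    rw [Set.mem_singleton_iff] at hy
    subst hy
    have h1 : (y : G ⧸ N) * (x : G ⧸ N) = (x : G ⧸ N) * (y : G ⧸ N) := h _ rfl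
    rw [← QuotientGroup.mk_mul, ← QuotientGroup.mk_mul, QuotientGroup.eq] at h1
    have e : (y * x)⁻¹ * (x * y) = x⁻¹ * y⁻¹ * x * y := by group
    rw [e] at h1
    exact (hg x h1).symm

variable [Fintype G]

theorem sum_quotient [Fintype (G ⧸ N)] (F : G ⧸ N → ℕ) :
    ∑ g : G, F (g : G ⧸ N) = Nat.card N * ∑ q : G ⧸ N, F q := by
  classical
  rw [← Finset.sum_fiberwise (s := Finset.univ) (g := (QuotientGroup.mk : G → G ⧸ N)), Finset.mul_sum]
  refine Finset.sum_congr rfl ?_
  intro q _
  have h1 : ∀ g ∈ Finset.univ.filter (fun g : G => (g : G ⧸ N) = q), F (g : G ⧸ N) = F q := by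
    intro g hg
    rw [Finset.mem_filter] at hg
    rw [hg.2]
  rw [Finset.sum_congr rfl h1, Finset.sum_const, smul_eq_mul]
  congr 1
  have h2 := QuotientGroup.card_preimage_mk N ({q} : Set (G ⧸ N))
  have hq1 : Nat.card (({q} : Set (G ⧸ N)) : Type _) = 1 := by simp
  rw [hq1, mul_one] at h2
  rw [← h2, ← Fintype.card_subtype, ← Nat.card_eq_fintype_card]
  rfl

theorem groupSide (hN : N ≤ Subgroup.center G) [DecidablePred (Good N)] :
    ∑ g : G, (if Good N g then Nat.card (Subgroup.centralizer ({g} : Set G)) else 0) =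
      Nat.card N * Nat.card G * Nat.card {C : ConjClasses (G ⧸ N) //
        ∃ g : G, ConjClasses.mk (g : G ⧸ N) = C ∧ Good N g} := by
  classical
  have : Fintype (G ⧸ N) := Fintype.ofFinite _
  have h1 : ∀ g : G, (∃ g' : G, ConjClasses.mk (g' : G ⧸ N) = ConjClasses.mk (g : G ⧸ N) ∧
      Good N g') ↔ Good N g := by
    intro g
    constructor
    · rintro ⟨g', hC, hg'⟩
      rw [ConjClasses.mk_eq_mk_iff_isConj, isConj_iff] at hC
      obtain ⟨c, hc⟩ := hC
      obtain ⟨c, rfl⟩ := QuotientGroup.mk_surjective c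
      rw [← QuotientGroup.mk_inv, ← QuotientGroup.mk_mul, ← QuotientGroup.mk_mul,
        QuotientGroup.eq] at hc
      have e : g = (c * g' * c⁻¹) * ((c * g' * c⁻¹)⁻¹ * g) := by group
      rw [e]
      exact good_mul hN hc (good_conj c hg')
    · intro hg
      exact ⟨g, rfl, hg⟩
  have h2 : ∀ g : G, (if Good N g then Nat.card (Subgroup.centralizer ({g} : Set G)) else 0) =
      (fun q : G ⧸ N => if (∃ g' : G, ConjClasses.mk (g' : G ⧸ N) = ConjClasses.mk q ∧ Good N g')
        then Nat.card N * Nat.card (Subgroup.centralizer ({q} : Set (G ⧸ N))) else 0)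
        (g : G ⧸ N) := by
    intro g
    by_cases hg : Good N g
    · rw [if_pos hg]
      show _ = if _ then _ else _
      rw [if_pos ((h1 g).mpr hg), card_centralizer_good hg]
    · rw [if_neg hg]
      show _ = if _ then _ else _
      rw [if_neg (fun h => hg ((h1 g).mp h))]
  rw [Finset.sum_congr rfl (fun g _ => h2 g), sum_quotient (N := N)
    (fun q : G ⧸ N => if (∃ g' : G, ConjClasses.mk (g' : G ⧸ N) = ConjClasses.mk q ∧ Good N g')
        then Nat.card N * Nat.card (Subgroup.centralizer ({q} : Set (G ⧸ N))) else 0)]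
  have h3 : ∀ q : G ⧸ N,
      (if (∃ g' : G, ConjClasses.mk (g' : G ⧸ N) = ConjClasses.mk q ∧ Good N g')
        then Nat.card N * Nat.card (Subgroup.centralizer ({q} : Set (G ⧸ N))) else 0) =
      Nat.card N * (if (∃ g' : G, ConjClasses.mk (g' : G ⧸ N) = ConjClasses.mk q ∧ Good N g')
        then Nat.card (Subgroup.centralizer ({q} : Set (G ⧸ N))) else 0) := by
    intro q
    split_ifs <;> simp
  rw [Finset.sum_congr rfl (fun q _ => h3 q), ← Finset.mul_sum,
    Cfsg.Agent.Helper23.sum_card_centralizer_of_classPred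
      (fun C : ConjClasses (G ⧸ N) => ∃ g' : G, ConjClasses.mk (g' : G ⧸ N) = C ∧ Good N g')]
  have h4 : Nat.card G = Nat.card (G ⧸ N) * Nat.card N :=
    Subgroup.card_eq_card_quotient_mul_card_subgroup N
  rw [h4]
  ring

end GroupSide

section CharSide

open Cfsg

variable {G : Type*} [Group G] {N : Subgroup G}

/-- the subgroup `{z ∈ N | g z ∼ g}` of the central subgroup `N` -/
def twist (hN : N ≤ Subgroup.center G) (g : G) : Subgroup N where
  carrier := {z | ∃ c : G, c * g * c⁻¹ = g * z}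
  one_mem' := ⟨1, by simp⟩
  mul_mem' := by
    rintro z w ⟨c, hc⟩ ⟨d, hd⟩
    refine ⟨c * d, ?_⟩
    have hw : ∀ y : G, y * (w : G) = w * y := fun y => Subgroup.mem_center_iff.mp (hN w.2) y
    calc c * d * g * (c * d)⁻¹ = c * (d * g * d⁻¹) * c⁻¹ := by group
      _ = c * (g * w) * c⁻¹ := by rw [hd]
      _ = c * g * (w * c⁻¹) := by group
      _ = c * g * (c⁻¹ * w) := by rw [hw c⁻¹]
      _ = (c * g * c⁻¹) * w := by group
      _ = g * z * w := by rw [hc]
      _ = g * ((z * w : N) : G) := by rw [Subgroup.coe_mul, mul_assoc]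
  inv_mem' := by
    rintro z ⟨c, hc⟩
    refine ⟨c⁻¹, ?_⟩
    have hz : ∀ y : G, y * (z : G) = z * y := fun y => Subgroup.mem_center_iff.mp (hN z.2) y
    calc c⁻¹ * g * c⁻¹⁻¹ = c⁻¹ * g * (c * z) * (z : G)⁻¹ := by group
      _ = c⁻¹ * g * (z * c) * (z : G)⁻¹ := by rw [hz c]
      _ = c⁻¹ * (g * z) * c * (z : G)⁻¹ := by group
      _ = c⁻¹ * (c * g * c⁻¹) * c * (z : G)⁻¹ := by rw [hc]
      _ = g * ((z⁻¹ : N) : G) := by rw [Subgroup.coe_inv]; group

theorem mem_twist_iff (hN : N ≤ Subgroup.center G) (g : G) (z : N) :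
    z ∈ twist hN g ↔ IsConj (g * z) g := by
  rw [isConj_iff]
  constructor
  · rintro ⟨c, hc⟩
    refine ⟨c⁻¹, ?_⟩
    rw [← hc]; group
  · rintro ⟨c, hc⟩
    refine ⟨c⁻¹, ?_⟩
    calc c⁻¹ * g * c⁻¹⁻¹ = c⁻¹ * (c * (g * z) * c⁻¹) * c := by rw [hc]; group
      _ = g * z := by group

theorem good_iff_twist (hN : N ≤ Subgroup.center G) (g : G) :
    Good N g ↔ twist hN g = ⊥ := by
  constructor
  · intro hg
    rw [eq_bot_iff]
    rintro z ⟨c, hc⟩
    have h1 : c⁻¹⁻¹ * g⁻¹ * c⁻¹ * g ∈ N := by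
      have e : c⁻¹⁻¹ * g⁻¹ * c⁻¹ * g = ((z : G))⁻¹ := by
        calc c⁻¹⁻¹ * g⁻¹ * c⁻¹ * g = (c * g * c⁻¹)⁻¹ * g := by group
          _ = (g * z)⁻¹ * g := by rw [hc]
          _ = (z : G)⁻¹ := by group
      rw [e]; exact N.inv_mem z.2
    have h2 := hg c⁻¹ h1
    have h3 : c * g * c⁻¹ = g := by
      calc c * g * c⁻¹ = c * (g * c⁻¹) := by group
        _ = c * (c⁻¹ * g) := by rw [h2]
        _ = g := by group
    rw [h3] at hc
    rw [Subgroup.mem_bot]
    apply Subtype.ext
    have : (z : G) = g⁻¹ * (g * z) := by group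
    rw [this, ← hc]; simp
  · intro hT x hx
    have hz : ∀ y : G, y * (x⁻¹ * g⁻¹ * x * g) = (x⁻¹ * g⁻¹ * x * g) * y :=
      fun y => Subgroup.mem_center_iff.mp (hN hx) y
    have hmem : (⟨x⁻¹ * g⁻¹ * x * g, hx⟩ : N) ∈ twist hN g := by
      refine ⟨x, ?_⟩
      show x * g * x⁻¹ = g * (x⁻¹ * g⁻¹ * x * g)
      calc x * g * x⁻¹ = g * x * (x⁻¹ * g⁻¹ * x * g) * x⁻¹ := by group
        _ = g * (x * (x⁻¹ * g⁻¹ * x * g)) * x⁻¹ := by group
        _ = g * ((x⁻¹ * g⁻¹ * x * g) * x) * x⁻¹ := by rw [hz x]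
        _ = g * (x⁻¹ * g⁻¹ * x * g) := by group
    rw [hT, Subgroup.mem_bot] at hmem
    have h1 : x⁻¹ * g⁻¹ * x * g = 1 := congrArg Subtype.val hmem
    calc x * g = g * x * (x⁻¹ * g⁻¹ * x * g) := by group
      _ = g * x := by rw [h1, mul_one]

end CharSide

section CharSide2

open Cfsg ComplexConjugate

variable {G : Type*} [Group G] {N : Subgroup G}

/-- the central character of `χ` restricted to `N` -/
noncomputable def eta (hN : N ≤ Subgroup.center G) (χ : IrrCharacter G) : N →* ℂ :=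
  (Classical.choose (Cfsg.Agent.Helper23.exists_central_character χ)).comp (Subgroup.inclusion hN)

theorem eta_spec (hN : N ≤ Subgroup.center G) (χ : IrrCharacter G) (z : N) (g : G) :
    (χ : G → ℂ) (g * z) = eta hN χ z * (χ : G → ℂ) g :=
  Classical.choose_spec (Cfsg.Agent.Helper23.exists_central_character χ) (Subgroup.inclusion hN z) g

variable [Fintype N]

theorem classInner_eta (hN : N ≤ Subgroup.center G) (χ : IrrCharacter G) (ψ : IrrCharacter N) :
    classInner (fun z : N => eta hN χ z) (ψ : N → ℂ) =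
      if (fun z : N => eta hN χ z) = (ψ : N → ℂ) then 1 else 0 :=
  Cfsg.Agent.Helper23.classInner_irrCharacter _ _
    (Cfsg.Agent.Helper24.isIrrCharacter_of_monoidHom (eta hN χ)) ψ.2

theorem classInner_restrict (hN : N ≤ Subgroup.center G) (χ : IrrCharacter G) (ψ : IrrCharacter N) :
    classInner (fun n : N => (χ : G → ℂ) n) (ψ : N → ℂ) =
      (χ : G → ℂ) 1 * classInner (fun z : N => eta hN χ z) (ψ : N → ℂ) := by
  unfold classInner
  have h1 : ∀ z : N, (χ : G → ℂ) (z : G) = eta hN χ z * (χ : G → ℂ) 1 := by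
    intro z
    have := eta_spec hN χ z 1
    rwa [one_mul] at this
  simp_rw [h1]
  rw [Finset.mul_sum, Finset.mul_sum, Finset.mul_sum]
  refine Finset.sum_congr rfl ?_
  intro z _
  ring

theorem exists_hom_psi (hN : N ≤ Subgroup.center G) (ψ : IrrCharacter N) :
    ∃ φ : N →* ℂ, ∀ z, (ψ : N → ℂ) z = φ z := by
  have hcomm : ∀ a b : N, a * b = b * a := by
    intro a b
    apply Subtype.ext
    simp only [Subgroup.coe_mul]
    exact (Subgroup.mem_center_iff.mp (hN b.2) a)
  have h1 := (Cfsg.Agent.Helper24.comm_iff_forall_irr_one (G := N)).mp hcomm ψ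
  exact Cfsg.Agent.Helper23.exists_monoidHom_of_irr_one_eq_one ψ h1

theorem stepB (hN : N ≤ Subgroup.center G) (φ : N →* ℂ) (hfaith : ∀ z : N, φ z = 1 → z = 1) (g : G)
    [Decidable (Good N g)] [DecidablePred (· ∈ twist hN g)] :
    ∑ z : N, (if z ∈ twist hN g then conj (φ z) else 0) = if Good N g then 1 else 0 := by
  by_cases hg : Good N g
  · rw [if_pos hg]
    have hT := (good_iff_twist hN g).mp hg
    rw [Finset.sum_eq_single (1 : N)]
    · rw [if_pos (one_mem _), map_one, map_one]
    · intro z _ hz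
      rw [if_neg]
      rw [hT, Subgroup.mem_bot]
      exact hz
    · intro h; exact absurd (Finset.mem_univ _) h
  · rw [if_neg hg]
    have hT : twist hN g ≠ ⊥ := fun h => hg ((good_iff_twist hN g).mpr h)
    obtain ⟨⟨z₀, hz₀T⟩, hz₀1⟩ := Subgroup.ne_bot_iff_exists_ne_one.mp hT
    have hz₀1' : z₀ ≠ 1 := fun h => hz₀1 (Subtype.ext h)
    have hS : ∑ z : N, (if z ∈ twist hN g then conj (φ z) else 0) =
        conj (φ z₀) * ∑ z : N, (if z ∈ twist hN g then conj (φ z) else 0) := by
      rw [Finset.mul_sum]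
      rw [← Fintype.sum_equiv (Equiv.mulLeft z₀)
        (fun z => if z₀ * z ∈ twist hN g then conj (φ (z₀ * z)) else 0)
        (fun z => if z ∈ twist hN g then conj (φ z) else 0) (fun z => rfl)]
      refine Finset.sum_congr rfl ?_
      intro z _
      by_cases hz : z ∈ twist hN g
      · rw [if_pos hz, if_pos ((twist hN g).mul_mem hz₀T hz), map_mul, map_mul]
      · rw [if_neg hz, if_neg, mul_zero]
        intro h
        exact hz (((twist hN g).mul_mem_cancel_left hz₀T).mp h)
    have hne : conj (φ z₀) ≠ 1 := by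
      intro h
      apply hz₀1'
      apply hfaith
      have := congrArg conj h
      rwa [Complex.conj_conj, map_one] at this
    have h2 : (1 - conj (φ z₀)) * ∑ z : N, (if z ∈ twist hN g then conj (φ z) else 0) = 0 := by
      rw [sub_mul, one_mul, ← hS, sub_self]
    rcases mul_eq_zero.mp h2 with h3 | h3
    · exfalso; apply hne; rw [sub_eq_zero] at h3; exact h3.symm
    · exact h3

end CharSide2

section CharSide3

open Cfsg ComplexConjugate

variable {G : Type*} [Group G] [Fintype G] {N : Subgroup G} [Fintype N]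

theorem centralizer_mul_central (hN : N ≤ Subgroup.center G) (g : G) (z : N) :
    Subgroup.centralizer ({g * (z : G)} : Set G) = Subgroup.centralizer ({g} : Set G) := by
  have hz : ∀ y : G, y * (z : G) = z * y := fun y => Subgroup.mem_center_iff.mp (hN z.2) y
  ext x
  rw [Subgroup.mem_centralizer_iff, Subgroup.mem_centralizer_iff]
  constructor
  · intro h y hy
    rw [Set.mem_singleton_iff] at hy
    subst hy
    have h1 := h (y * z) rfl
    -- y * z * x = x * (y * z)
    have h2 : y * x * z = x * y * z := by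
      calc y * x * z = y * (x * z) := by group
        _ = y * (z * x) := by rw [hz x]
        _ = y * z * x := by group
        _ = x * (y * z) := h1
        _ = x * y * z := by group
    exact mul_right_cancel h2
  · intro h y hy
    rw [Set.mem_singleton_iff] at hy
    subst hy
    have h1 := h g rfl
    calc g * z * x = g * (z * x) := by group
      _ = g * (x * z) := by rw [hz x]
      _ = (g * x) * z := by group
      _ = (x * g) * z := by rw [h1]
      _ = x * (g * z) := by group

theorem charSide (hN : N ≤ Subgroup.center G) (ψ : IrrCharacter N)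
    (hfaith : ∀ n : N, (ψ : N → ℂ) n = (ψ : N → ℂ) 1 → n = 1) [Fintype (IrrCharacter G)]
    [DecidablePred (Good N)] :
    (Nat.card N : ℂ) * (Nat.card G : ℂ) *
      (Nat.card {χ : IrrCharacter G //
        classInner (fun n : N => (χ : G → ℂ) n) (ψ : N → ℂ) ≠ 0} : ℂ) =
      ∑ g : G, if Good N g then (Nat.card (Subgroup.centralizer ({g} : Set G)) : ℂ) else 0 := by
  classical
  obtain ⟨φ, hφ⟩ := exists_hom_psi hN ψ
  have hφfaith : ∀ z : N, φ z = 1 → z = 1 := by
    intro z hz
    apply hfaith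
    rw [hφ, hφ, hz, map_one]
  have hNne : (Nat.card N : ℂ) ≠ 0 := by
    have : 0 < Nat.card N := Nat.card_pos
    exact_mod_cast this.ne'
  have hGne : (Nat.card G : ℂ) ≠ 0 := by
    have : 0 < Nat.card G := Nat.card_pos
    exact_mod_cast this.ne'
  have hδ01 : ∀ χ : IrrCharacter G, classInner (fun z : N => eta hN χ z) (ψ : N → ℂ) =
      if classInner (fun n : N => (χ : G → ℂ) n) (ψ : N → ℂ) ≠ 0 then 1 else 0 := by
    intro χ
    have h1 := classInner_eta hN χ ψ
    have h2 := classInner_restrict hN χ ψ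
    have h3 : (χ : G → ℂ) 1 ≠ 0 := Cfsg.Agent.Helper23.irr_one_ne_zero χ
    by_cases h : (fun z : N => eta hN χ z) = (ψ : N → ℂ)
    · rw [if_pos h] at h1
      rw [h1, mul_one] at h2
      rw [if_pos (by rw [h2]; exact h3)]
      exact h1
    · rw [if_neg h] at h1
      rw [h1, mul_zero] at h2
      rw [if_neg (by rw [h2]; simp)]
      exact h1
  have hg : ∀ g : G, (Nat.card N : ℂ) * ∑ χ : IrrCharacter G,
      classInner (fun z : N => eta hN χ z) (ψ : N → ℂ) *
        ((χ : G → ℂ) g * conj ((χ : G → ℂ) g)) =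
      if Good N g then (Nat.card (Subgroup.centralizer ({g} : Set G)) : ℂ) else 0 := by
    intro g
    have hX1 : ∑ z : N, conj ((ψ : N → ℂ) z) *
        ∑ χ : IrrCharacter G, (χ : G → ℂ) (g * z) * conj ((χ : G → ℂ) g) =
        (Nat.card N : ℂ) * ∑ χ : IrrCharacter G,
          classInner (fun z : N => eta hN χ z) (ψ : N → ℂ) *
            ((χ : G → ℂ) g * conj ((χ : G → ℂ) g)) := by
      simp_rw [eta_spec hN, Finset.mul_sum]
      rw [Finset.sum_comm]
      refine Finset.sum_congr rfl ?_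
      intro χ _
      have h1 : (Nat.card N : ℂ) * classInner (fun z : N => eta hN χ z) (ψ : N → ℂ) =
          ∑ z : N, eta hN χ z * conj ((ψ : N → ℂ) z) := by
        unfold classInner
        rw [← mul_assoc, mul_inv_cancel₀ hNne, one_mul]
      rw [← mul_assoc, h1, Finset.sum_mul]
      refine Finset.sum_congr rfl ?_
      intro z _
      ring
    have hX2 : ∑ z : N, conj ((ψ : N → ℂ) z) *
        ∑ χ : IrrCharacter G, (χ : G → ℂ) (g * z) * conj ((χ : G → ℂ) g) =
        if Good N g then (Nat.card (Subgroup.centralizer ({g} : Set G)) : ℂ) else 0 := by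
      have h1 : ∀ z : N, ∑ χ : IrrCharacter G, (χ : G → ℂ) (g * z) * conj ((χ : G → ℂ) g) =
          if z ∈ twist hN g then (Nat.card (Subgroup.centralizer ({g} : Set G)) : ℂ) else 0 := by
        intro z
        rw [Cfsg.Agent.Helper24.sum_irr_mul_conj (g * z) g]
        by_cases hz : z ∈ twist hN g
        · rw [if_pos hz, if_pos ((mem_twist_iff hN g z).mp hz), centralizer_mul_central hN]
        · rw [if_neg hz, if_neg (fun h => hz ((mem_twist_iff hN g z).mpr h))]
      simp_rw [h1, hφ]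
      have h2 : ∀ z : N, conj (φ z) *
          (if z ∈ twist hN g then (Nat.card (Subgroup.centralizer ({g} : Set G)) : ℂ) else 0) =
          (Nat.card (Subgroup.centralizer ({g} : Set G)) : ℂ) *
            (if z ∈ twist hN g then conj (φ z) else 0) := by
        intro z
        split_ifs <;> ring
      simp_rw [h2]
      rw [← Finset.mul_sum, stepB hN φ hφfaith g]
      split_ifs <;> simp
    rw [← hX1, hX2]
  have hsum : ∀ χ : IrrCharacter G,
      ∑ g : G, (χ : G → ℂ) g * conj ((χ : G → ℂ) g) = (Nat.card G : ℂ) := by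
    intro χ
    have h1 := Cfsg.Agent.Helper23.classInner_irrCharacter (χ : G → ℂ) (χ : G → ℂ) χ.2 χ.2
    rw [if_pos rfl] at h1
    unfold classInner at h1
    have h2 := congrArg (fun t => (Nat.card G : ℂ) * t) h1
    beta_reduce at h2
    rw [← mul_assoc, mul_inv_cancel₀ hGne, one_mul, mul_one] at h2
    exact h2
  rw [← Finset.sum_congr rfl (fun g _ => hg g), ← Finset.mul_sum, Finset.sum_comm]
  simp_rw [← Finset.mul_sum, hsum, hδ01]
  rw [mul_assoc]
  congr 1
  rw [← Finset.sum_mul, mul_comm]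
  congr 1
  rw [Finset.sum_ite, Finset.sum_const_zero, add_zero, Finset.sum_const, nsmul_eq_mul, mul_one,
    Nat.card_eq_fintype_card, Fintype.card_subtype]

end CharSide3


/-- Let N be a central subgroup of the finite group G and ψ a faithful irreducible (hence degree-one) character of N. Call a coset g N special when every x ∈ G whose commutator x⁻¹ g⁻¹ x g lies in N actually commutes with g (this depends only on the coset). Then the number of irreducible characters of G whose restriction to N contains ψ equals the number of conjugacy classes of G/N consisting of special cosets. -/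
theorem result {G : Type*} [Group G] [Fintype G] (N : Subgroup G) [N.Normal] [Fintype N] (hN : N ≤ Subgroup.center G) (ψ : Cfsg.IrrCharacter ↥N) (hfaith : ∀ n : ↥N, (ψ : ↥N → ℂ) n = (ψ : ↥N → ℂ) 1 → n = 1) : Nat.card {χ : Cfsg.IrrCharacter G // Cfsg.classInner (fun n : ↥N => (χ : G → ℂ) n) (ψ : ↥N → ℂ) ≠ 0} = Nat.card {C : ConjClasses (G ⧸ N) // ∃ g : G, ConjClasses.mk (g : G ⧸ N) = C ∧ ∀ x : G, x⁻¹ * g⁻¹ * x * g ∈ N → x * g = g * x} := by
  classical
  have : Fintype (IrrCharacter G) :=
    @Fintype.ofFinite _ (Cfsg.Agent.Helper23.finite_irrCharacter G)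
  have h1 := charSide hN ψ hfaith
  have h2 := groupSide (N := N) hN
  have h3 : (∑ g : G, if Good N g then (Nat.card (Subgroup.centralizer ({g} : Set G)) : ℂ) else 0) =
      ((∑ g : G, if Good N g then Nat.card (Subgroup.centralizer ({g} : Set G)) else 0 : ℕ) : ℂ) := by
    push_cast
    refine Finset.sum_congr rfl ?_
    intro g _
    split_ifs <;> simp
  rw [h3, h2] at h1
  push_cast at h1
  have hne : (Nat.card N : ℂ) * (Nat.card G : ℂ) ≠ 0 := by
    have h4 : 0 < Nat.card N := Nat.card_pos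
    have h5 : 0 < Nat.card G := Nat.card_pos
    have : (Nat.card N : ℂ) ≠ 0 := by exact_mod_cast h4.ne'
    have : (Nat.card G : ℂ) ≠ 0 := by exact_mod_cast h5.ne'
    exact mul_ne_zero ‹_› ‹_›
  have h6 := mul_left_cancel₀ hne h1
  have h7 : Nat.card {χ : IrrCharacter G //
      classInner (fun n : ↥N => (χ : G → ℂ) n) (ψ : ↥N → ℂ) ≠ 0} =
      Nat.card {C : ConjClasses (G ⧸ N) // ∃ g : G, ConjClasses.mk (g : G ⧸ N) = C ∧ Good N g} := by
    exact_mod_cast h6
  exact h7

end Cfsg.Agent.S4567
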