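import Cfsg.Statements.S4575
import Cfsg.Agent.Helper8.KC6
import Cfsg.Agent.Helper8.KC8
import Cfsg.Agent.Helper5.DefectOrder

set_option autoImplicit false
open Cfsg

namespace Cfsg.Agent.S4575

/-- Let B be a 2-block of the finite group G (relative to a maximal ideal M of the algebraic integers containing 2) of defect d with defect group D. Let z be an element of D commuting with every element of D, and let b be a block of the centralizer of z with defect group D that induces B (a major subsection (z, b)). If the number of irreducible characters in B exceeds the 2-regular rank of b by at most three, then B contains at most 2 ^ d irreducible characters. -/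
theorem result {G : Type*} [Group G] [Finite G] (M : Ideal Cfsg.AlgInt) (hM : Cfsg.IsPModular 2 M) (B : Set (Cfsg.IrrCharacter G)) (hB : Cfsg.IsPBlock M B) (D : Subgroup G) (hD : Cfsg.IsDefectGroup 2 M B D) (z : G) (hzD : z ∈ D) (hzc : ∀ d ∈ D, d * z = z * d) (b : Set (Cfsg.IrrCharacter ↥(Subgroup.centralizer ({z} : Set G)))) (hb : Cfsg.IsInducedBlock M (Subgroup.centralizer ({z} : Set G)) b B) (hbD : Cfsg.IsDefectGroup 2 M b (D.subgroupOf (Subgroup.centralizer ({z} : Set G)))) (h : Nat.card B ≤ Cfsg.blockRank 2 b + 3) : Nat.card B ≤ 2 ^ Cfsg.blockDefect 2 B := by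
  classical
  haveI : Fact (Nat.Prime 2) := ⟨Nat.prime_two⟩
  haveI : Fintype G := Fintype.ofFinite _
  haveI : Fintype (Subgroup.centralizer ({z} : Set G)) := Fintype.ofFinite _
  haveI : Fintype (IrrCharacter G) := Fintype.ofFinite _
  haveI : Fintype (IrrCharacter (Subgroup.centralizer ({z} : Set G))) := Fintype.ofFinite _
  have hMp := Cfsg.Agent.Helper5.Loc.isPrime_of_isPModular hM
  have hzC : z ∈ Subgroup.centralizer ({z} : Set G) := by
    rw [Subgroup.mem_centralizer_iff]
    intro h hh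
    rw [Set.mem_singleton_iff] at hh
    rw [hh]
  have hcomm : ∀ c : Subgroup.centralizer ({z} : Set G), z * (c : G) = (c : G) * z := by
    intro c
    exact Subgroup.mem_centralizer_iff.mp c.2 z rfl
  have hDC : D ≤ Subgroup.centralizer ({z} : Set G) := by
    intro g hg
    rw [Subgroup.mem_centralizer_iff]
    intro h hh
    rw [Set.mem_singleton_iff] at hh
    rw [hh]
    exact (hzc g hg).symm
  have hcardD : Nat.card D = 2 ^ blockDefect 2 B :=
    Cfsg.Agent.Helper5.CC.card_defectGroup hM hB hD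
  have hcardD' : Nat.card (D.subgroupOf (Subgroup.centralizer ({z} : Set G))) = 2 ^ blockDefect 2 b :=
    Cfsg.Agent.Helper5.CC.card_defectGroup hM hb.1 hbD
  have hcardeq : Nat.card (D.subgroupOf (Subgroup.centralizer ({z} : Set G))) = Nat.card D :=
    Nat.card_congr (Subgroup.subgroupOfEquivOfLe hDC).toEquiv
  have hdef : blockDefect 2 b = blockDefect 2 B := by
    have h1 : 2 ^ blockDefect 2 b = 2 ^ blockDefect 2 B := by
      rw [← hcardD', ← hcardD, hcardeq]
    exact Nat.pow_right_injective (le_refl 2) h1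
  have hz : ∃ k : ℕ, orderOf z = 2 ^ k := by
    have h1 : orderOf (⟨z, hzD⟩ : D) ∣ Nat.card D := orderOf_dvd_natCard _
    rw [hcardD, Subgroup.orderOf_mk] at h1
    obtain ⟨k, _, hk⟩ := (Nat.dvd_prime_pow Nat.prime_two).mp h1
    exact ⟨k, hk⟩
  obtain ⟨Nf, hN0, hN1, hNodd, hNdiv, hNsum, hNA, hNA', hNle, hNlt, hNz⟩ :=
    Cfsg.Agent.Helper8.KC.exists_avg_ext hM z hz (Subgroup.centralizer ({z} : Set G)) hzC hcomm
      le_rfl hb hdef
  set S : Finset (IrrCharacter G) := Finset.univ.filter (· ∈ B) with hS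
  have hSB : ∀ χ ∈ S, χ ∈ B := fun χ hχ => (Finset.mem_filter.mp hχ).2
  have hBS : ∀ χ, χ ∈ B → χ ∈ S := fun χ hχ => Finset.mem_filter.mpr ⟨Finset.mem_univ _, hχ⟩
  set ht : IrrCharacter G → ℕ := fun χ => blockHeight 2 B (χ : G → ℂ) with hht
  have hcard : Nat.card B = S.card := by
    rw [Nat.card_eq_fintype_card, hS, Fintype.card_subtype]
  rw [hcard] at h ⊢
  have hsumS : ∑ χ ∈ S, Nf χ = 2 ^ blockDefect 2 B * (blockRank 2 b : ℤ) := by
    rw [← hdef, ← hNsum]
    apply Finset.sum_subset (Finset.subset_univ S)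
    intro χ _ hχ
    apply hNz χ
    intro hχB
    exact hχ (hBS χ hχB)
  obtain ⟨χ₁, hχ₁, hχ₁v⟩ := Cfsg.Agent.Helper8.IndHt.exists_minVal 2
    (Cfsg.Agent.Helper5.CC.IsPBlock.nonempty hMp hB)
  have hχ₁0 : ht χ₁ = 0 := by
    simp only [hht]
    rw [Cfsg.Agent.Helper8.IndHt.blockHeight_eq, hχ₁v, Nat.sub_self]
  have key := Cfsg.Agent.Helper8.KC.dual_arith S ht Nf (blockDefect 2 B) (blockRank 2 b) h
    (fun χ hχ => hN1 χ (hSB χ hχ)) (fun χ hχ h0 => hNodd χ (hSB χ hχ) h0)
    (fun χ hχ h1 => hNdiv χ (hSB χ hχ) h1) hsumS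
    (fun χ₀ hχ₀ h0 T hT hχ₀T => by
      have := hNA' χ₀ (hSB χ₀ hχ₀) T (fun ψ hψ => hSB ψ (hT hψ)) hχ₀T h0
      rw [hdef] at this
      exact this)
    (fun χ hχ => by
      have := hNle χ (hSB χ hχ)
      rw [hdef] at this
      exact this)
    (fun χ hχ h1 => by
      have := hNlt χ (hSB χ hχ) h1
      rw [hdef] at this
      exact this)
    ⟨χ₁, hBS χ₁ hχ₁, hχ₁0⟩
  exact_mod_cast key

end Cfsg.Agent.S4575
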