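import Cfsg.Statements.S4584
import Mathlib
import Cfsg.Agent.Helper1.CentralizerAbelian
import Cfsg.Agent.S3807

set_option autoImplicit false
set_option linter.style.haveILetI false
open Cfsg

namespace Cfsg.Agent.S4584

/-- Let p be a prime and P a group of order p^4. Then the derived subgroup P' has order p if and only if the centre Z(P) has index p^2 in P. -/
theorem result {P : Type*} [Group P] [Finite P] (p : ℕ) [Fact p.Prime] (hP : Nat.card P = p ^ 4) :
    Nat.card (commutator P) = p ↔ (Subgroup.center P).index = p ^ 2 := by
  classical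
  have hp : p.Prime := Fact.out
  have hPp : IsPGroup p P := IsPGroup.of_card hP
  haveI : Nontrivial P := by
    rw [← Finite.one_lt_card_iff_nontrivial, hP]
    exact Nat.one_lt_pow (by norm_num) hp.one_lt
  -- the centre has order at least `p`
  have hZp : p ≤ Nat.card (Subgroup.center P) := by
    obtain ⟨i, hi⟩ := IsPGroup.iff_card.mp (hPp.to_subgroup (Subgroup.center P))
    have hne : Subgroup.center P ≠ ⊥ := (hPp.bot_lt_center).ne'
    rw [hi]
    rcases Nat.eq_zero_or_pos i with h0 | h0
    · exfalso
      apply hne
      rw [h0, pow_zero] at hi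
      exact Subgroup.card_eq_one.mp hi
    · calc p = p ^ 1 := (pow_one p).symm
        _ ≤ p ^ i := Nat.pow_le_pow_right hp.pos h0
  -- key: a non-central element with centralizer of index `p`
  have key : ¬ IsMulCommutative P → ∀ a : P, a ∉ Subgroup.center P →
      (Subgroup.centralizer ({a} : Set P)).index = p →
      (Subgroup.center P).index = p * Nat.card (commutator P) := by
    intro hna a ha hCi
    have hCcard : Nat.card (Subgroup.centralizer ({a} : Set P)) = p ^ 3 := by
      have := (Subgroup.centralizer ({a} : Set P)).card_mul_index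
      rw [hCi, hP] at this
      have h4 : p ^ 4 = p ^ 3 * p := by ring
      rw [h4] at this
      exact Nat.eq_of_mul_eq_mul_right hp.pos this
    have hle : Nat.card (Subgroup.centralizer ({a} : Set P))
        ≤ p ^ 2 * Nat.card (Subgroup.center P) := by
      rw [hCcard]
      calc p ^ 3 = p ^ 2 * p := by ring
        _ ≤ p ^ 2 * Nat.card (Subgroup.center P) := Nat.mul_le_mul_left _ hZp
    have hCc := Cfsg.Agent.Helper1.AbIdxP.centralizer_comm_of_card_le hPp a ha hle
    exact (Cfsg.Agent.S3807.result p hPp hna _ hCc hCi).1
  have hcentop : ∀ a : P, a ∉ Subgroup.center P → Subgroup.centralizer ({a} : Set P) ≠ ⊤ := by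
    intro a ha h
    apply ha
    rw [Subgroup.centralizer_eq_top_iff_subset] at h
    exact h (Set.mem_singleton a)
  have hidxpow : ∀ H : Subgroup P, ∃ l, l ≤ 4 ∧ H.index = p ^ l := by
    intro H
    have : H.index ∣ p ^ 4 := hP ▸ H.index_dvd_card
    exact (Nat.dvd_prime_pow hp).mp this
  constructor
  · intro hcomm
    have hna : ¬ IsMulCommutative P := by
      intro hc
      have hcen : Subgroup.center P = ⊤ :=
        eq_top_iff.mpr fun x _ => Subgroup.mem_center_iff.mpr fun g => hc.is_comm.comm g x
      rw [← commutator_eq_bot_iff_center_eq_top] at hcen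
      rw [hcen, Subgroup.card_bot] at hcomm
      exact hp.one_lt.ne hcomm
    have hZtop : Subgroup.center P ≠ ⊤ := fun h =>
      hna ⟨⟨Cfsg.Agent.Helper1.AbIdxP.comm_of_center_eq_top h⟩⟩
    obtain ⟨a, ha⟩ : ∃ a, a ∉ Subgroup.center P := by
      by_contra h
      push Not at h
      exact hZtop (eq_top_iff.mpr fun x _ => h x)
    have hbound : (Subgroup.centralizer ({a} : Set P)).index ≤ p := by
      rw [Subgroup.index_eq_card, ← hcomm]
      have h1 : Nat.card (P ⧸ Subgroup.centralizer ({a} : Set P)) ≤ Nat.card (commutatorSet P) :=
        Finite.card_le_of_embedding (Subgroup.quotientCentralizerEmbedding a)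
      have hsub : commutatorSet P ⊆ (commutator P : Set P) := by
        rw [commutator_eq_closure]
        exact Subgroup.subset_closure
      have h2 : Nat.card (commutatorSet P) ≤ Nat.card (commutator P) :=
        Nat.card_le_card_of_injective (Set.inclusion hsub) (Set.inclusion_injective hsub)
      exact h1.trans h2
    obtain ⟨l, -, hl⟩ := hidxpow (Subgroup.centralizer ({a} : Set P))
    have hCi : (Subgroup.centralizer ({a} : Set P)).index = p := by
      rcases l with _ | _ | l
      · exfalso
        rw [pow_zero] at hl
        exact hcentop a ha (Subgroup.index_eq_one.mp hl)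
      · rw [hl]; simp
      · exfalso
        rw [hl] at hbound
        have : p ^ 1 < p ^ (l + 1 + 1) := Nat.pow_lt_pow_right hp.one_lt (by omega)
        rw [pow_one] at this
        omega
    rw [key hna a ha hCi, hcomm, pow_two]
  · intro hidx
    have hZtop : Subgroup.center P ≠ ⊤ := by
      intro h
      rw [h, Subgroup.index_top] at hidx
      have := Nat.one_lt_pow (n := 2) (by norm_num) hp.one_lt
      omega
    have hna : ¬ IsMulCommutative P := by
      intro hc
      apply hZtop
      exact eq_top_iff.mpr fun x _ => Subgroup.mem_center_iff.mpr fun g => hc.is_comm.comm g x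
    obtain ⟨a, ha⟩ : ∃ a, a ∉ Subgroup.center P := by
      by_contra h
      push Not at h
      exact hZtop (eq_top_iff.mpr fun x _ => h x)
    have hZC : Subgroup.center P ≤ Subgroup.centralizer ({a} : Set P) :=
      Subgroup.center_le_centralizer _
    have haC : a ∈ Subgroup.centralizer ({a} : Set P) := by
      rw [Subgroup.mem_centralizer_singleton_iff]
    obtain ⟨l, -, hl⟩ := hidxpow (Subgroup.centralizer ({a} : Set P))
    have hrel := Subgroup.relIndex_mul_index hZC
    have hCi : (Subgroup.centralizer ({a} : Set P)).index = p := by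
      rcases l with _ | _ | l
      · exfalso
        rw [pow_zero] at hl
        exact hcentop a ha (Subgroup.index_eq_one.mp hl)
      · rw [hl]; simp
      · exfalso
        rw [hl, hidx] at hrel
        have hl0 : l = 0 := by
          have h1 : p ^ (l + 1 + 1) ∣ p ^ 2 := Dvd.intro_left _ hrel
          have := (Nat.pow_dvd_pow_iff_le_right hp.one_lt).mp h1
          omega
        subst hl0
        have h2 : (Subgroup.center P).relIndex (Subgroup.centralizer ({a} : Set P)) = 1 := by
          have hpos : 0 < p ^ 2 := Nat.pos_of_ne_zero (pow_ne_zero _ hp.ne_zero)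
          have : (Subgroup.center P).relIndex (Subgroup.centralizer ({a} : Set P)) * p ^ 2
              = 1 * p ^ 2 := by rw [one_mul]; exact hrel
          exact Nat.eq_of_mul_eq_mul_right hpos this
        exact ha (Subgroup.relIndex_eq_one.mp h2 haC)
    have h3 := key hna a ha hCi
    rw [hidx, pow_two] at h3
    exact (Nat.eq_of_mul_eq_mul_left hp.pos h3).symm

end Cfsg.Agent.S4584
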