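import Cfsg.Statements.S4585
import Mathlib
import Cfsg.Agent.Helper1.LowerCentralP
import Cfsg.Agent.S3807

set_option autoImplicit false
set_option linter.style.haveILetI false
open Cfsg

namespace Cfsg.Agent.S4585

/-- Let p be a prime and P a group of order p^4. Then P' has index p^2 in P if and only if P has maximal nilpotency class, that is, nilpotency class exactly 3. -/
theorem result {P : Type*} [Group P] [Finite P] (p : ℕ) [Fact p.Prime] (hP : Nat.card P = p ^ 4) :
    (commutator P).index = p ^ 2 ↔ Group.nilpotencyClass P = 3 := by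
  classical
  have hp : p.Prime := Fact.out
  have hPp : IsPGroup p P := IsPGroup.of_card hP
  haveI hnil : Group.IsNilpotent P := hPp.isNilpotent
  have hL1 : Subgroup.lowerCentralSeries (⊤ : Subgroup P) 1 = commutator P :=
    Subgroup.top_lowerCentralSeries_one
  have hclass : Group.nilpotencyClass P = 3 ↔
      Subgroup.lowerCentralSeries (⊤ : Subgroup P) 3 = ⊥ ∧
      Subgroup.lowerCentralSeries (⊤ : Subgroup P) 2 ≠ ⊥ := by
    rw [Ne, Subgroup.lowerCentralSeries_eq_bot_iff_nilpotencyClass_le,
      Subgroup.lowerCentralSeries_eq_bot_iff_nilpotencyClass_le]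
    omega
  have hcardidx := (commutator P).card_mul_index
  rw [hP] at hcardidx
  rw [hclass]
  constructor
  · intro hidx
    have hcardc : Nat.card (commutator P) = p ^ 2 := by
      rw [hidx] at hcardidx
      have h4 : p ^ 4 = p ^ 2 * p ^ 2 := by ring
      rw [h4] at hcardidx
      exact Nat.eq_of_mul_eq_mul_right (Nat.pos_of_ne_zero (pow_ne_zero _ hp.ne_zero)) hcardidx
    have hcne : commutator P ≠ ⊥ := by
      intro h
      rw [h, Subgroup.card_bot] at hcardc
      have := Nat.one_lt_pow (n := 2) (by norm_num) hp.one_lt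
      omega
    have h2ne : Subgroup.lowerCentralSeries (⊤ : Subgroup P) 2 ≠ ⊥ := by
      intro h2
      rw [Subgroup.lowerCentralSeries_succ, hL1, Subgroup.commutator_eq_bot_iff_le_centralizer,
        Subgroup.coe_top, Subgroup.centralizer_univ] at h2
      -- an abelian subgroup of index `p`
      have hQ : Nat.card (P ⧸ commutator P) = p ^ 2 := by rw [← Subgroup.index_eq_card, hidx]
      obtain ⟨C, hC⟩ := Sylow.exists_subgroup_card_pow_prime p (n := 1)
        (G := P ⧸ commutator P) (by rw [hQ]; exact pow_dvd_pow p (by norm_num))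
      rw [pow_one] at hC
      haveI : IsCyclic C := isCyclic_of_prime_card hC
      have hAc := Cfsg.Agent.Helper1.LCS.comap_comm_of_cyclic (commutator P) h2 C
      have hCi : C.index = p := by
        have := C.card_mul_index
        rw [hC, hQ, pow_two] at this
        exact Nat.eq_of_mul_eq_mul_left hp.pos this
      have hAi : (C.comap (QuotientGroup.mk' (commutator P))).index = p := by
        rw [Subgroup.index_comap_of_surjective _ (QuotientGroup.mk'_surjective _)]
        exact hCi
      have hna : ¬ IsMulCommutative P := by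
        intro hc
        apply hcne
        rw [commutator_eq_bot_iff_center_eq_top]
        exact eq_top_iff.mpr fun x _ => Subgroup.mem_center_iff.mpr fun g => hc.is_comm.comm g x
      have h3 := (Cfsg.Agent.S3807.result p hPp hna _ hAc hAi).1
      rw [hcardc] at h3
      have h4 := (Subgroup.center P).card_mul_index
      rw [h3, hP] at h4
      have h5 : Nat.card (Subgroup.center P) = p := by
        have h6 : p ^ 4 = p * (p * p ^ 2) := by ring
        rw [h6] at h4
        exact Nat.eq_of_mul_eq_mul_right (Nat.pos_of_ne_zero (mul_ne_zero hp.ne_zero (pow_ne_zero _ hp.ne_zero))) h4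
      have h7 := Subgroup.card_le_of_le h2
      rw [hcardc, h5] at h7
      have := hp.one_lt
      nlinarith
    refine ⟨?_, h2ne⟩
    have hlt2 := Cfsg.Agent.Helper1.LCS.lcs_succ_lt (G := P) 1 (by rw [hL1]; exact hcne)
    have hlt3 := Cfsg.Agent.Helper1.LCS.lcs_succ_lt (G := P) 2 h2ne
    have hc2 := Cfsg.Agent.Helper1.LCS.mul_card_le_of_lt hPp hlt2
    have hc3 := Cfsg.Agent.Helper1.LCS.mul_card_le_of_lt hPp hlt3
    rw [hL1, hcardc] at hc2
    have hppos := hp.pos
    have h8 : Nat.card (Subgroup.lowerCentralSeries (⊤ : Subgroup P) (1 + 1)) ≤ p := by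
      have : p * Nat.card (Subgroup.lowerCentralSeries (⊤ : Subgroup P) (1 + 1)) ≤ p * p := by
        rw [← pow_two]; exact hc2
      exact Nat.le_of_mul_le_mul_left this hppos
    have h9 : Nat.card (Subgroup.lowerCentralSeries (⊤ : Subgroup P) (2 + 1)) ≤ 1 := by
      have : p * Nat.card (Subgroup.lowerCentralSeries (⊤ : Subgroup P) (2 + 1)) ≤ p * 1 := by
        rw [mul_one]; exact hc3.trans h8
      exact Nat.le_of_mul_le_mul_left this hppos
    have h10 : Nat.card (Subgroup.lowerCentralSeries (⊤ : Subgroup P) (2 + 1)) = 1 :=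
      le_antisymm h9 Nat.card_pos
    exact Subgroup.card_eq_one.mp h10
  · rintro ⟨-, h2ne⟩
    have h1ne : Subgroup.lowerCentralSeries (⊤ : Subgroup P) 1 ≠ ⊥ := by
      intro h1
      apply h2ne
      rw [eq_bot_iff, ← h1]
      exact Subgroup.lowerCentralSeries_antitone _ (Nat.le_succ 1)
    have hlt2 := Cfsg.Agent.Helper1.LCS.lcs_succ_lt (G := P) 1 h1ne
    have hlt1 : (⊥ : Subgroup P) < Subgroup.lowerCentralSeries (⊤ : Subgroup P) (1 + 1) :=
      bot_lt_iff_ne_bot.mpr h2ne
    have hc1 := Cfsg.Agent.Helper1.LCS.mul_card_le_of_lt hPp hlt1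
    have hc2 := Cfsg.Agent.Helper1.LCS.mul_card_le_of_lt hPp hlt2
    rw [Subgroup.card_bot, mul_one] at hc1
    rw [hL1] at hc2
    have hcge : p ^ 2 ≤ Nat.card (commutator P) := by
      rw [pow_two]
      exact (Nat.mul_le_mul_left p hc1).trans hc2
    obtain ⟨l, -, hl⟩ := (Nat.dvd_prime_pow hp).mp (Dvd.intro_left _ hcardidx)
    have hl2 : l ≤ 2 := by
      by_contra hl3
      push Not at hl3
      have h3 : p ^ 3 ≤ p ^ l := Nat.pow_le_pow_right hp.pos hl3
      have : p ^ 2 * p ^ 3 ≤ p ^ 4 := by
        rw [← hcardidx, hl]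
        exact Nat.mul_le_mul hcge h3
      have h5 : p ^ 2 * p ^ 3 = p ^ 4 * p := by ring
      rw [h5] at this
      have h6 : 0 < p ^ 4 := Nat.pos_of_ne_zero (pow_ne_zero _ hp.ne_zero)
      have := hp.one_lt
      nlinarith
    rcases l with _ | _ | _ | l
    · exfalso
      have hdvd : (commutator P).index ∣ p := by rw [hl, pow_zero]; exact one_dvd p
      have := Cfsg.Agent.Helper1.LCS.commutator_eq_bot_of_index_dvd_prime hp hdvd
      exact h1ne (hL1 ▸ this)
    · exfalso
      have hdvd : (commutator P).index ∣ p := by rw [hl]; simp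
      have := Cfsg.Agent.Helper1.LCS.commutator_eq_bot_of_index_dvd_prime hp hdvd
      exact h1ne (hL1 ▸ this)
    · exact hl
    · omega

end Cfsg.Agent.S4585
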