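import Cfsg.Statements.S4586
import Mathlib
import Cfsg.Agent.Helper1.AbelianIndexP2

set_option autoImplicit false
set_option linter.style.haveILetI false
open Cfsg
open scoped commutatorElement

namespace Cfsg.Agent.S4586

/-- Let p be a prime, P a finite p-group and N a normal subgroup of P of index p. For x ∈ P write c(x) for the number of elements n of N whose commutator x n x⁻¹ n⁻¹ lies in the derived subgroup N' (so c(x)/#N' is the order of the centralizer of x acting on N/N'). Then [P : P'] = p² if and only if c(x) = p·#N' for every x ∈ P outside N, and also if and only if c(x) = p·#N' for some x ∈ P outside N. -/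
theorem result {P : Type*} [Group P] [Finite P] (p : ℕ) [Fact p.Prime] (hP : IsPGroup p P) (N : Subgroup P) [N.Normal] (hN : N.index = p) :
    ((commutator P).index = p ^ 2 ↔ ∀ x : P, x ∉ N →
        Nat.card {n : N // x * n * x⁻¹ * (n : P)⁻¹ ∈ (commutator N).map N.subtype} = p * Nat.card (commutator N)) ∧
    ((commutator P).index = p ^ 2 ↔ ∃ x : P, x ∉ N ∧
        Nat.card {n : N // x * n * x⁻¹ * (n : P)⁻¹ ∈ (commutator N).map N.subtype} = p * Nat.card (commutator N)) := by
  classical
  have hp : p.Prime := Fact.out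
  set M : Subgroup P := (commutator N).map N.subtype with hM
  haveI hMn : M.Normal := by rw [hM]; infer_instance
  have hMN : M ≤ N := Subgroup.map_subtype_le _
  have hMcard : Nat.card M = Nat.card (commutator N) := Subgroup.card_subtype _ _
  have hMP : M ≤ commutator P := by
    rw [hM, commutator_def, Subgroup.map_commutator, commutator_def]
    exact Subgroup.commutator_mono le_top le_top
  have hπs : Function.Surjective (QuotientGroup.mk' M) := QuotientGroup.mk'_surjective M
  have hker : (QuotientGroup.mk' M).ker = M := QuotientGroup.ker_mk' M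
  set A : Subgroup (P ⧸ M) := N.map (QuotientGroup.mk' M) with hA
  haveI : A.Normal := Subgroup.Normal.map inferInstance _ hπs
  have hAi : A.index = p :=
    (Subgroup.index_map_eq N hπs (by rw [hker]; exact hMN)).trans hN
  have hAc : IsMulCommutative A := by
    refine ⟨⟨fun a b => ?_⟩⟩
    obtain ⟨a, n₁, hn₁, rfl⟩ := a
    obtain ⟨b, n₂, hn₂, rfl⟩ := b
    apply Subtype.ext
    show (QuotientGroup.mk' M) n₁ * (QuotientGroup.mk' M) n₂
      = (QuotientGroup.mk' M) n₂ * (QuotientGroup.mk' M) n₁
    rw [← commutatorElement_eq_one_iff_mul_comm, ← map_commutatorElement,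
      QuotientGroup.mk'_apply, QuotientGroup.eq_one_iff, hM]
    refine ⟨⁅(⟨n₁, hn₁⟩ : N), ⟨n₂, hn₂⟩⁆, ?_, rfl⟩
    rw [commutator_def]
    exact Subgroup.commutator_mem_commutator (Subgroup.mem_top _) (Subgroup.mem_top _)
  have hidx : (commutator (P ⧸ M)).index = (commutator P).index := by
    have : commutator (P ⧸ M) = (commutator P).map (QuotientGroup.mk' M) := by
      rw [commutator_def, commutator_def, Subgroup.map_commutator, ← MonoidHom.range_eq_map,
        MonoidHom.range_eq_top.mpr hπs]
    rw [this, Subgroup.index_map_eq _ hπs (by rw [hker]; exact hMP)]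
  -- per-element equivalence
  have key : ∀ x : P, x ∉ N → ((commutator P).index = p ^ 2 ↔
      Nat.card {n : N // x * n * x⁻¹ * (n : P)⁻¹ ∈ M} = p * Nat.card (commutator N)) := by
    intro x hx
    have hπx : (QuotientGroup.mk' M) x ∉ A := by
      rintro ⟨n, hn, hnx⟩
      apply hx
      have h1 : n⁻¹ * x ∈ M := by
        rw [← QuotientGroup.eq]
        exact hnx
      have : x = n * (n⁻¹ * x) := by group
      rw [this]
      exact N.mul_mem hn (hMN h1)
    have h1 := Cfsg.Agent.Helper1.AbIdxP.index_commutator_eq hAc hp hAi _ hπx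
    rw [hidx] at h1
    set K : Subgroup P :=
      N ⊓ (Subgroup.centralizer {(QuotientGroup.mk' M) x}).comap (QuotientGroup.mk' M) with hK
    have hKmap : K.map (QuotientGroup.mk' M)
        = A ⊓ Subgroup.centralizer {(QuotientGroup.mk' M) x} := by
      ext y
      constructor
      · rintro ⟨n, ⟨hn1, hn2⟩, rfl⟩
        exact ⟨⟨n, hn1, rfl⟩, hn2⟩
      · rintro ⟨⟨n, hn, rfl⟩, hy⟩
        exact ⟨n, ⟨hn, hy⟩, rfl⟩
    have hMK : M ≤ K := by
      refine le_inf hMN ?_
      intro m hm
      rw [Subgroup.mem_comap]
      have : (QuotientGroup.mk' M) m = 1 := by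
        rw [QuotientGroup.mk'_apply, QuotientGroup.eq_one_iff]; exact hm
      rw [this]
      exact Subgroup.one_mem _
    have hKcard : Nat.card K = Nat.card M *
        Nat.card (A ⊓ Subgroup.centralizer {(QuotientGroup.mk' M) x} : Subgroup (P ⧸ M)) := by
      rw [← hKmap]
      have e1 : M.relIndex K = Nat.card (K.map (QuotientGroup.mk' M)) := by
        have := Subgroup.relIndex_comap (⊥ : Subgroup (P ⧸ M)) (QuotientGroup.mk' M) K
        rw [Subgroup.relIndex_bot_left, MonoidHom.comap_bot, hker] at this
        exact this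
      have e2 := Subgroup.relIndex_mul_relIndex ⊥ M K bot_le hMK
      rw [Subgroup.relIndex_bot_left, Subgroup.relIndex_bot_left, e1] at e2
      exact e2.symm
    have hmem : ∀ n : P, x * n * x⁻¹ * n⁻¹ ∈ M ↔
        n ∈ (Subgroup.centralizer {(QuotientGroup.mk' M) x}).comap (QuotientGroup.mk' M) := by
      intro n
      rw [Subgroup.mem_comap, Subgroup.mem_centralizer_singleton_iff, eq_comm,
        ← commutatorElement_eq_one_iff_mul_comm, ← map_commutatorElement,
        QuotientGroup.mk'_apply, QuotientGroup.eq_one_iff, commutatorElement_def]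
    have hc : Nat.card {n : N // x * n * x⁻¹ * (n : P)⁻¹ ∈ M} = Nat.card K := by
      apply Nat.card_congr
      exact
        { toFun := fun n => ⟨n.1.1, ⟨n.1.2, (hmem _).mp n.2⟩⟩
          invFun := fun k => ⟨⟨k.1, k.2.1⟩, (hmem _).mpr k.2.2⟩
          left_inv := fun n => rfl
          right_inv := fun k => rfl }
    rw [hc, hKcard, hMcard, h1]
    set t := Nat.card (A ⊓ Subgroup.centralizer {(QuotientGroup.mk' M) x} : Subgroup (P ⧸ M))
    have hcpos : 0 < Nat.card (commutator N) := Nat.card_pos
    constructor
    · intro h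
      have : t = p := by
        rw [pow_two] at h
        exact Nat.eq_of_mul_eq_mul_left hp.pos h
      rw [this, mul_comm]
    · intro h
      have : t = p := by
        rw [mul_comm p] at h
        exact Nat.eq_of_mul_eq_mul_left hcpos h
      rw [this, pow_two]
  have hNtop : N ≠ ⊤ := by
    intro h
    rw [h, Subgroup.index_top] at hN
    exact hp.one_lt.ne hN
  obtain ⟨x₀, hx₀⟩ : ∃ x, x ∉ N := by
    by_contra h
    push Not at h
    exact hNtop (eq_top_iff.mpr fun x _ => h x)
  refine ⟨⟨fun h x hx => (key x hx).mp h, fun h => (key x₀ hx₀).mpr (h x₀ hx₀)⟩,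
    ⟨fun h => ⟨x₀, hx₀, (key x₀ hx₀).mp h⟩, fun ⟨x, hx, h⟩ => (key x hx).mpr h⟩⟩

end Cfsg.Agent.S4586
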