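import Cfsg.Statements.S4591
import Cfsg.Agent.Helper29.PPrimeKerB
import Cfsg.Agent.Helper24.Gagola
import Cfsg.Agent.Helper24.Codegree
-- import your own Cfsg.Agent.* helpers here

set_option autoImplicit false
open Cfsg

namespace Cfsg.Agent.S4591

/-- Let G be a finite group, p a prime and P a Sylow p-subgroup, and let N be the largest normal subgroup of G in which P has trivial centralizer (N is normal with C_N(P) = 1 and contains every normal subgroup with that property). Then the intersection of the kernels of the irreducible characters of G of degree prime to p is the normal core in G of the subgroup N·P' (P' the derived subgroup of P). In particular, when G has no nontrivial normal subgroup of order prime to p, that intersection is the normal core of P'. -/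
theorem result {G : Type*} [Group G] [Finite G] (p : ℕ) [Fact p.Prime] (P : Sylow p G) (N : Subgroup G) [N.Normal]
    (hN : N ⊓ Subgroup.centralizer ((P : Subgroup G) : Set G) = ⊥)
    (hmax : ∀ L : Subgroup G, L.Normal → L ⊓ Subgroup.centralizer ((P : Subgroup G) : Set G) = ⊥ → L ≤ N) :
    {g : G | ∀ χ : Cfsg.IrrCharacter G, ¬ p ∣ Cfsg.charDegree (χ : G → ℂ) → (χ : G → ℂ) g = (χ : G → ℂ) 1} =
      ((N ⊔ ⁅(P : Subgroup G), (P : Subgroup G)⁆).normalCore : Set G) := by
  classical
  haveI : Fintype G := Fintype.ofFinite G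
  have hdeg : ∀ χ : Cfsg.IrrCharacter G, Cfsg.charDegree (χ : G → ℂ) = Cfsg.Agent.Helper24.irrDeg χ :=
    Cfsg.Agent.Helper24.charDegree_irr
  ext g
  simp only [Set.mem_setOf_eq, SetLike.mem_coe]
  constructor
  · intro hg
    obtain ⟨K₀, hK₀⟩ : ∃ K₀ : Subgroup G, K₀ = ⨅ χ : {χ : Cfsg.IrrCharacter G //
        ¬ p ∣ Cfsg.Agent.Helper24.irrDeg χ}, Cfsg.Agent.Helper24.irrKer χ.1 := ⟨_, rfl⟩
    haveI hK₀n : K₀.Normal := by
      rw [hK₀]
      exact Subgroup.normal_iInf_normal (fun χ => Cfsg.Agent.Helper24.irrKer_normal χ.1)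
    have hK₀mem : ∀ x, x ∈ K₀ ↔ ∀ χ : Cfsg.IrrCharacter G,
        ¬ p ∣ Cfsg.Agent.Helper24.irrDeg χ → (χ : G → ℂ) x = (χ : G → ℂ) 1 := by
      intro x
      rw [hK₀]
      simp only [Subgroup.mem_iInf, Cfsg.Agent.Helper24.mem_irrKer, Subtype.forall]
    have hA : K₀ ⊓ (P : Subgroup G) ≤ ⁅(P : Subgroup G), (P : Subgroup G)⁆ := by
      intro x hx
      exact Cfsg.Agent.Helper29.PPK.mem_commutator_of_mem_kernels (P : Subgroup G)
        P.not_dvd_index x (Subgroup.mem_inf.mp hx).2 ((hK₀mem x).mp (Subgroup.mem_inf.mp hx).1)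
    obtain ⟨M, hMn, hMK, hMcop, hKM⟩ :=
      Cfsg.Agent.Helper29.PPK.exists_normal_pcomplement_image P K₀ hA
    haveI := hMn
    have hMC : M ⊓ Subgroup.centralizer ((P : Subgroup G) : Set G) = ⊥ :=
      Cfsg.Agent.Helper29.PPK.inf_centralizer_eq_bot_of_le_kernels (P : Subgroup G) P.2
        P.not_dvd_index M hMcop (fun χ hχ m hm => (hK₀mem m).mp (hMK hm) χ hχ)
    have hMN : M ≤ N := hmax M hMn hMC
    have hK₀le : K₀ ≤ N ⊔ ⁅(P : Subgroup G), (P : Subgroup G)⁆ := hKM.trans (sup_le_sup hMN hA)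
    have hcore : K₀ ≤ (N ⊔ ⁅(P : Subgroup G), (P : Subgroup G)⁆).normalCore :=
      Subgroup.normal_le_normalCore.mpr hK₀le
    apply hcore
    rw [hK₀mem]
    intro χ hχ
    exact hg χ (by rw [hdeg]; exact hχ)
  · intro hg χ hχ
    rw [hdeg] at hχ
    exact Cfsg.Agent.Helper29.PPK.apply_eq_of_mem_core (P : Subgroup G) P.2 N hN χ hχ g hg

end Cfsg.Agent.S4591
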