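import Mathlib
import Cfsg.Statements.S4601
import Cfsg.Agent.Lead.PSolvHall
import Cfsg.Agent.Lead.CoprimeSylow
import Cfsg.Agent.Lead.CoprimeSylow2
import Cfsg.Agent.Lead.SylowNumber3
import Cfsg.Agent.Lead.PiClosed3
import Cfsg.Agent.Helper19.Cores
import Cfsg.Agent.Helper20.PiPart
import Cfsg.Agent.S4160

set_option autoImplicit false
set_option linter.unusedSectionVars false
set_option linter.unusedVariables false

open Cfsg

namespace Cfsg.Agent.S4601

open Subgroup
open scoped Pointwise

universe u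

section Lemmas

variable {G : Type*} [Group G] [Finite G]

theorem relIndex_mul_card'' {H K : Subgroup G} (h : H ≤ K) :
    H.relIndex K * Nat.card H = Nat.card K := by
  have := relIndex_mul_relIndex ⊥ H K bot_le h
  rw [relIndex_bot_left, relIndex_bot_left] at this
  rw [mul_comm]; exact this

/-- Frattini-type lemma: if a Sylow `p`-subgroup `P` normalizes `K ≥ Q` (`Q` a Sylow `q`-subgroup)
and `N_K(Q)` contains a Sylow `p`-subgroup of `K`, then some Sylow `p`-subgroup normalizes `Q`. -/
theorem exists_sylow_le_normalizer (p q : ℕ) [Fact p.Prime] [Fact q.Prime]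
    (P : Sylow p G) (Q : Sylow q G) (K : Subgroup G) (hQK : (Q : Subgroup G) ≤ K)
    (hPK : (P : Subgroup G) ≤ normalizer (K : Set G))
    (hKp : (Nat.card (K ⊓ normalizer ((Q : Subgroup G) : Set G) : Subgroup G)).factorization p
        = (Nat.card K).factorization p) :
    ∃ P' : Sylow p G, (P' : Subgroup G) ≤ normalizer ((Q : Subgroup G) : Set G) := by
  set M : Subgroup G := normalizer ((Q : Subgroup G) : Set G) ⊓ normalizer (K : Set G) with hM
  have hMK : M ≤ normalizer (K : Set G) := inf_le_right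
  have hPle : (P : Subgroup G) ≤ M ⊔ K := by
    intro x hx
    have hxK := hPK hx
    obtain ⟨l, hl, hlx⟩ := Cfsg.Agent.Lead.exists_mem_mul_mem_normalizer_of_sylow K q
      (Q.subtype hQK) x hxK
    have hmap : ((Q.subtype hQK : Sylow q K) : Subgroup K).map K.subtype = (Q : Subgroup G) := by
      rw [Sylow.coe_subtype, subgroupOf_map_subtype, inf_of_le_left hQK]
    rw [hmap] at hlx
    have hx' : x = l * (l⁻¹ * x) := by group
    rw [hx']
    have hl' : l⁻¹ ∈ normalizer (K : Set G) := (normalizer (K : Set G)).inv_mem (le_normalizer hl)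
    have hmem : l⁻¹ * x ∈ M := by
      rw [hM]
      exact Subgroup.mem_inf.mpr ⟨hlx, (normalizer (K : Set G)).mul_mem hl' hxK⟩
    exact (M ⊔ K).mul_mem (mem_sup_right hl) (mem_sup_left hmem)
  -- cardinalities
  have h1 : M.relIndex (M ⊔ K) = M.relIndex K :=
    Cfsg.Agent.Lead.relIndex_sup_of_le_normalizer M K hMK
  have h2 : M ⊓ K = K ⊓ normalizer ((Q : Subgroup G) : Set G) := by
    rw [hM]
    apply le_antisymm
    · intro x hx
      exact Subgroup.mem_inf.mpr ⟨(Subgroup.mem_inf.mp hx).2, (Subgroup.mem_inf.mp (Subgroup.mem_inf.mp hx).1).1⟩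
    · intro x hx
      have hx' := Subgroup.mem_inf.mp hx
      exact Subgroup.mem_inf.mpr ⟨Subgroup.mem_inf.mpr ⟨hx'.2, le_normalizer hx'.1⟩, hx'.1⟩
  have h3 : Nat.card M * M.relIndex (M ⊔ K) = Nat.card (M ⊔ K : Subgroup G) := by
    have := relIndex_mul_card'' (le_sup_left : M ≤ M ⊔ K)
    rw [mul_comm]; exact this
  have h4 : M.relIndex K * Nat.card (M ⊓ K : Subgroup G) = Nat.card K := by
    rw [← inf_relIndex_right]
    exact relIndex_mul_card'' (inf_le_right : M ⊓ K ≤ K)
  have hcardpos : ∀ H : Subgroup G, Nat.card H ≠ 0 := fun H => Nat.card_pos.ne'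
  have hrelpos : M.relIndex K ≠ 0 := by
    intro h0; rw [h0, zero_mul] at h4; exact hcardpos K h4.symm
  -- v_p (M ⊔ K) = v_p M
  have h5 : (Nat.card (M ⊔ K : Subgroup G)).factorization p = (Nat.card M).factorization p := by
    have e1 : (Nat.card (M ⊔ K : Subgroup G)).factorization p =
        (Nat.card M).factorization p + (M.relIndex K).factorization p := by
      rw [← h3, h1, Nat.factorization_mul (hcardpos M) hrelpos]; rfl
    have e2 : (Nat.card K).factorization p =
        (M.relIndex K).factorization p + (Nat.card (M ⊓ K : Subgroup G)).factorization p := by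
      rw [← h4, Nat.factorization_mul hrelpos (hcardpos _)]; rfl
    rw [h2, hKp] at e2
    omega
  have h6 : (Nat.card G).factorization p ≤ (Nat.card (M ⊔ K : Subgroup G)).factorization p := by
    have hd : Nat.card (P : Subgroup G) ∣ Nat.card (M ⊔ K : Subgroup G) := card_dvd_of_le hPle
    rw [P.card_eq_multiplicity] at hd
    exact (Nat.Prime.pow_dvd_iff_le_factorization (Fact.out) (hcardpos _)).mp hd
  have h7 : ¬ p ∣ M.index := by
    intro hd
    have hidx : M.index ≠ 0 := Subgroup.index_ne_zero_of_finite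
    have e : Nat.card G = Nat.card M * M.index := (Subgroup.card_mul_index M).symm
    have e' : (Nat.card G).factorization p =
        (Nat.card M).factorization p + M.index.factorization p := by
      rw [e, Nat.factorization_mul (hcardpos M) hidx]; rfl
    have hpos : 1 ≤ M.index.factorization p :=
      (Nat.Prime.dvd_iff_one_le_factorization (Fact.out) hidx).mp hd
    omega
  obtain ⟨P', hP'⟩ := Cfsg.Agent.S4160.exists_sylow_le_of_not_dvd_index M h7
  exact ⟨P', hP'.trans inf_le_left⟩

/-- the hypothesis passes to quotients -/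
theorem hyp_quotient (p q : ℕ) [Fact p.Prime] [hq : Fact q.Prime] (N : Subgroup G) [N.Normal]
    (h : ∀ y : G, (∃ k : ℕ, orderOf y = q ^ k) → ¬ p ∣ (centralizer ({y} : Set G)).index) :
    ∀ y : G ⧸ N, (∃ k : ℕ, orderOf y = q ^ k) →
      ¬ p ∣ (centralizer ({y} : Set (G ⧸ N))).index := by
  rintro y' ⟨k, hk⟩ hd
  obtain ⟨y, rfl, hy⟩ := Cfsg.Agent.Helper20.exists_pi_lift {q} N y' (by
    intro r hr hdiv
    rw [hk] at hdiv
    exact (Nat.prime_dvd_prime_iff_eq hr hq.out).mp (hr.dvd_of_dvd_pow hdiv))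
  have hyq : ∃ j : ℕ, orderOf y = q ^ j :=
    ⟨_, Nat.eq_prime_pow_of_unique_prime_dvd (orderOf_pos y).ne'
      (fun {d} hd hdvd => hy d hd hdvd)⟩
  apply h y hyq
  have hle : (centralizer ({y} : Set G)).map (QuotientGroup.mk' N) ≤
      centralizer ({(y : G ⧸ N)} : Set (G ⧸ N)) := by
    rintro _ ⟨c, hc0, rfl⟩
    have hc : c ∈ centralizer ({y} : Set G) := hc0
    rw [mem_centralizer_singleton_iff] at hc ⊢
    change (QuotientGroup.mk' N c) * (QuotientGroup.mk' N y) =
      (QuotientGroup.mk' N y) * (QuotientGroup.mk' N c)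
    rw [← map_mul, ← map_mul, hc]
  exact hd.trans ((index_dvd_of_le hle).trans
    (index_map_dvd _ (QuotientGroup.mk'_surjective N)))

/-- coprime case: a Sylow `q`-subgroup `Q` centralizes a Sylow `p`-subgroup of a normal
`q'`-subgroup `N`, if every `q`-element centralizes a Sylow `p`-subgroup of `G`. -/
theorem exists_centralized_sylow (p q : ℕ) [hp : Fact p.Prime] [hq : Fact q.Prime]
    (h : ∀ y : G, (∃ k : ℕ, orderOf y = q ^ k) → ¬ p ∣ (centralizer ({y} : Set G)).index)
    (N : Subgroup G) [hNn : N.Normal] (hN : ¬ q ∣ Nat.card N) (Q : Sylow q G) :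
    ∃ R : Subgroup G, R ≤ N ∧ R ≤ centralizer ((Q : Subgroup G) : Set G) ∧
      Nat.card R = p ^ (Nat.card N).factorization p := by
  have hNtop : normalizer (N : Set G) = ⊤ := normalizer_eq_top_iff.mpr hNn
  have hQN : (Q : Subgroup G) ≤ normalizer (N : Set G) := by rw [hNtop]; exact le_top
  have hcop : (Nat.card (Q : Subgroup G)).Coprime (Nat.card N) := by
    rw [Q.card_eq_multiplicity]
    exact Nat.Coprime.pow_left _ ((Nat.Prime.coprime_iff_not_dvd hq.out).mpr hN)
  have hQsolv : Group.IsSolvable (Q : Subgroup G) := by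
    have : Group.IsNilpotent (Q : Subgroup G) := Q.isPGroup'.isNilpotent
    infer_instance
  obtain ⟨R0, hR0⟩ := Cfsg.Agent.Lead.coprime_exists_invariant_sylow (Q : Subgroup G) N hQN hcop
    (Or.inl hQsolv) p
  refine ⟨(R0 : Subgroup N).map N.subtype, map_subtype_le _, ?_, ?_⟩
  · -- each x ∈ Q centralizes R
    have key : ∀ x ∈ (Q : Subgroup G), (R0 : Subgroup N).map N.subtype ≤
        centralizer ({x} : Set G) := by
      intro x hx
      obtain ⟨k, hk⟩ := (IsPGroup.iff_orderOf.mp Q.isPGroup') ⟨x, hx⟩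
      have hk' : orderOf x = q ^ k := by
        rw [← hk]; exact (Subgroup.orderOf_coe (⟨x, hx⟩ : (Q : Subgroup G)))
      obtain ⟨S, hS⟩ := Cfsg.Agent.S4160.exists_sylow_le_of_not_dvd_index _ (h x ⟨k, hk'⟩)
      have hpg : IsPGroup p (((S : Subgroup G).subgroupOf N : Subgroup N)) :=
        S.isPGroup'.comap_subtype
      have hSN : (S : Subgroup G) ≤ normalizer (N : Set G) := by rw [hNtop]; exact le_top
      have hidx : ¬ p ∣ ((S : Subgroup G).subgroupOf N).index := by
        intro hd
        have e1 : (S : Subgroup G).relIndex ((S : Subgroup G) ⊔ N) = (S : Subgroup G).relIndex N :=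
          Cfsg.Agent.Lead.relIndex_sup_of_le_normalizer (S : Subgroup G) N hSN
        have e2 : (S : Subgroup G).relIndex N ∣ (S : Subgroup G).index := by
          rw [← e1]; exact relIndex_dvd_index_of_le le_sup_left
        exact S.not_dvd_index (hd.trans e2)
      set Rx0 : Sylow p N := hpg.toSylow hidx with hRx0
      have hRx0coe : (Rx0 : Subgroup N) = (S : Subgroup G).subgroupOf N := rfl
      have hRxmap : (Rx0 : Subgroup N).map N.subtype = (S : Subgroup G) ⊓ N := by
        rw [hRx0coe, subgroupOf_map_subtype]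
      set A : Subgroup G := zpowers x with hA
      have hAQ : A ≤ (Q : Subgroup G) := (zpowers_le).mpr hx
      have hA1 : A ≤ normalizer (((R0 : Subgroup N).map N.subtype : Subgroup G) : Set G) :=
        hAQ.trans hR0
      have hxc : x ∈ centralizer ((((S : Subgroup G) ⊓ N : Subgroup G)) : Set G) := by
        rw [mem_centralizer_iff]
        intro g hg
        have := hS (Subgroup.mem_inf.mp hg).1
        rw [mem_centralizer_singleton_iff] at this
        exact this
      have hA2 : A ≤ normalizer (((Rx0 : Subgroup N).map N.subtype : Subgroup G) : Set G) := by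
        rw [hRxmap]
        exact ((zpowers_le).mpr hxc).trans (centralizer_le_normalizer _)
      have hAN : A ≤ normalizer (N : Set G) := by rw [hNtop]; exact le_top
      have hcopA : (Nat.card A).Coprime (Nat.card N) := by
        rw [hA, Nat.card_zpowers, hk']
        exact Nat.Coprime.pow_left _ ((Nat.Prime.coprime_iff_not_dvd hq.out).mpr hN)
      have hAsolv : Group.IsSolvable A := by
        have hc : ∀ a b : A, a * b = b * a := fun a b =>
          (IsCyclic.isMulCommutative (α := A)).is_comm.comm a b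
        exact Group.isSolvable_of_comm hc
      obtain ⟨c, hcC, hc⟩ := Cfsg.Agent.Lead.coprime_invariant_sylow_conj A N hAN hcopA
        (Or.inl hAsolv) p Rx0 R0 hA2 hA1
      have hcx : (c : G) * x = x * (c : G) := by
        have := (mem_centralizer_iff.mp hcC) x (mem_zpowers x)
        exact this.symm
      rintro _ ⟨r0, hr0, rfl⟩
      rw [mem_centralizer_singleton_iff]
      have hr0' : r0 ∈ ((MulAut.conj c • Rx0 : Sylow p N) : Subgroup N) := by
        rw [hc]; exact hr0
      rw [Sylow.pointwise_smul_def, Subgroup.mem_pointwise_smul_iff_inv_smul_mem] at hr0'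
      have hy0 : ((MulAut.conj c)⁻¹ • r0 : N) ∈ (S : Subgroup G).subgroupOf N := hr0'
      rw [mem_subgroupOf] at hy0
      have hy0' : ((c : G)⁻¹ * (r0 : G) * (c : G)) ∈ (S : Subgroup G) := by
        simpa [MulAut.smul_def, MulAut.conj_inv_apply] using hy0
      have hyx := hS hy0'
      rw [mem_centralizer_singleton_iff] at hyx
      -- r0 = c * (c⁻¹ r0 c) * c⁻¹ commutes with x
      have hcx' : (c : G)⁻¹ * x = x * (c : G)⁻¹ := by
        have : x = (c : G) * x * (c : G)⁻¹ := by rw [hcx]; group
        calc (c : G)⁻¹ * x = (c : G)⁻¹ * ((c : G) * x * (c : G)⁻¹) := by rw [← this]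
          _ = x * (c : G)⁻¹ := by group
      change (r0 : G) * x = x * (r0 : G)
      have e : (r0 : G) = (c : G) * ((c : G)⁻¹ * (r0 : G) * (c : G)) * (c : G)⁻¹ := by group
      rw [e]
      calc (c : G) * ((c : G)⁻¹ * (r0 : G) * (c : G)) * (c : G)⁻¹ * x
          = (c : G) * ((c : G)⁻¹ * (r0 : G) * (c : G)) * (x * (c : G)⁻¹) := by
            rw [mul_assoc, hcx']
        _ = (c : G) * (((c : G)⁻¹ * (r0 : G) * (c : G)) * x) * (c : G)⁻¹ := by group
        _ = (c : G) * (x * ((c : G)⁻¹ * (r0 : G) * (c : G))) * (c : G)⁻¹ := by rw [hyx]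
        _ = ((c : G) * x) * ((c : G)⁻¹ * (r0 : G) * (c : G)) * (c : G)⁻¹ := by group
        _ = (x * (c : G)) * ((c : G)⁻¹ * (r0 : G) * (c : G)) * (c : G)⁻¹ := by rw [hcx]
        _ = x * ((c : G) * ((c : G)⁻¹ * (r0 : G) * (c : G)) * (c : G)⁻¹) := by group
    intro r hr
    rw [mem_centralizer_iff]
    intro x hx
    have := key x hx hr
    rw [mem_centralizer_singleton_iff] at this
    exact this.symm
  · rw [card_map_of_injective N.subtype_injective]
    exact R0.card_eq_multiplicity

/-- one step: lifting from the quotient by a normal `N` -/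
theorem step (p q : ℕ) [hp : Fact p.Prime] [hq : Fact q.Prime] (hpq : p ≠ q)
    (h : ∀ y : G, (∃ k : ℕ, orderOf y = q ^ k) → ¬ p ∣ (centralizer ({y} : Set G)).index)
    (N : Subgroup G) [hNn : N.Normal]
    (hN : (∃ m : ℕ, Nat.card N = q ^ m) ∨ ¬ p ∣ Nat.card N ∨ ¬ q ∣ Nat.card N)
    (P' : Sylow p (G ⧸ N)) (Q' : Sylow q (G ⧸ N))
    (hPQ : (P' : Subgroup (G ⧸ N)) ≤ normalizer ((Q' : Subgroup (G ⧸ N)) : Set (G ⧸ N))) :
    ∃ (P : Sylow p G) (Q : Sylow q G),
      (P : Subgroup G) ≤ normalizer ((Q : Subgroup G) : Set G) := by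
  obtain ⟨P, hP⟩ := Sylow.mapSurjective_surjective (QuotientGroup.mk'_surjective N) p P'
  obtain ⟨Q, hQ⟩ := Sylow.mapSurjective_surjective (QuotientGroup.mk'_surjective N) q Q'
  have hP' : (P' : Subgroup (G ⧸ N)) = (P : Subgroup G).map (QuotientGroup.mk' N) := by
    rw [← hP]; rfl
  have hQ' : (Q' : Subgroup (G ⧸ N)) = (Q : Subgroup G).map (QuotientGroup.mk' N) := by
    rw [← hQ]; rfl
  set K : Subgroup G := (Q : Subgroup G) ⊔ N with hK
  have hcomap : (Q' : Subgroup (G ⧸ N)).comap (QuotientGroup.mk' N) = K := by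
    rw [hQ', comap_map_eq, QuotientGroup.ker_mk']
  have hPK : (P : Subgroup G) ≤ normalizer (K : Set G) := by
    intro x hx
    have h1 : QuotientGroup.mk' N x ∈ (P' : Subgroup (G ⧸ N)) := by
      rw [hP']; exact mem_map_of_mem _ hx
    have h2 : x ∈ (normalizer ((Q' : Subgroup (G ⧸ N)) : Set (G ⧸ N))).comap
        (QuotientGroup.mk' N) := hPQ h1
    have h3 := le_normalizer_comap (QuotientGroup.mk' N) h2
    rw [hcomap] at h3
    exact h3
  have hQK : (Q : Subgroup G) ≤ K := le_sup_left
  have hNK : N ≤ K := le_sup_right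
  have hcardpos : ∀ H : Subgroup G, Nat.card H ≠ 0 := fun H => Nat.card_pos.ne'
  have hKdvd : Nat.card K ∣ Nat.card (Q : Subgroup G) * Nat.card N :=
    Cfsg.Agent.Helper19.card_sup_dvd_mul (Q : Subgroup G) N
  have hQcard : Nat.card (Q : Subgroup G) = q ^ (Nat.card G).factorization q :=
    Q.card_eq_multiplicity
  rcases hN with ⟨m, hm⟩ | hNp | hNq
  · -- N is a q-group, K = Q
    have hNQ : N ≤ (Q : Subgroup G) :=
      Cfsg.Agent.Lead.le_sylow_of_normal_isPGroup Q N (IsPGroup.of_card hm)
    have hKQ : K = (Q : Subgroup G) := sup_eq_left.mpr hNQ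
    rw [hKQ] at hPK
    exact ⟨P, Q, hPK⟩
  · -- p ∤ |N|
    have hKp : ¬ p ∣ Nat.card K := by
      intro hd
      have := hd.trans hKdvd
      rcases (Nat.Prime.dvd_mul hp.out).mp this with h1 | h1
      · rw [hQcard] at h1
        exact hpq ((Nat.prime_dvd_prime_iff_eq hp.out hq.out).mp (hp.out.dvd_of_dvd_pow h1))
      · exact hNp h1
    have hKp2 : ¬ p ∣ Nat.card (K ⊓ normalizer ((Q : Subgroup G) : Set G) : Subgroup G) :=
      fun hd => hKp (hd.trans (card_dvd_of_le inf_le_left))
    obtain ⟨P₁, hP₁⟩ := exists_sylow_le_normalizer p q P Q K hQK hPK (by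
      rw [Nat.factorization_eq_zero_of_not_dvd hKp, Nat.factorization_eq_zero_of_not_dvd hKp2])
    exact ⟨P₁, Q, hP₁⟩
  · -- q ∤ |N|
    obtain ⟨R, hRN, hRC, hRcard⟩ := exists_centralized_sylow p q h N hNq Q
    have hRle : R ≤ K ⊓ normalizer ((Q : Subgroup G) : Set G) :=
      le_inf (hRN.trans hNK) (hRC.trans (centralizer_le_normalizer _))
    have hvK : (Nat.card K).factorization p = (Nat.card N).factorization p := by
      apply le_antisymm
      · have h1 := (Nat.factorization_le_iff_dvd (hcardpos K)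
          (Nat.mul_ne_zero (hcardpos _) (hcardpos N))).mpr hKdvd p
        rw [Nat.factorization_mul (hcardpos _) (hcardpos N), hQcard, Nat.factorization_pow] at h1
        have h0 : q.factorization p = 0 := by
          rw [Nat.Prime.factorization hq.out]
          exact Finsupp.single_eq_of_ne hpq
        simp only [Finsupp.coe_add, Pi.add_apply, Finsupp.coe_smul, Pi.smul_apply, h0,
          smul_eq_mul, mul_zero, zero_add] at h1
        exact h1
      · exact (Nat.factorization_le_iff_dvd (hcardpos N) (hcardpos K)).mpr (card_dvd_of_le hNK) p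
    have hv2 : (Nat.card N).factorization p ≤
        (Nat.card (K ⊓ normalizer ((Q : Subgroup G) : Set G) : Subgroup G)).factorization p := by
      have hd : p ^ (Nat.card N).factorization p ∣
          Nat.card (K ⊓ normalizer ((Q : Subgroup G) : Set G) : Subgroup G) := by
        rw [← hRcard]; exact card_dvd_of_le hRle
      exact (Nat.Prime.pow_dvd_iff_le_factorization hp.out (hcardpos _)).mp hd
    have hv3 : (Nat.card (K ⊓ normalizer ((Q : Subgroup G) : Set G) : Subgroup G)).factorization p
        ≤ (Nat.card K).factorization p :=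
      (Nat.factorization_le_iff_dvd (hcardpos _) (hcardpos K)).mpr (card_dvd_of_le inf_le_left) p
    obtain ⟨P₁, hP₁⟩ := exists_sylow_le_normalizer p q P Q K hQK hPK (by omega)
    exact ⟨P₁, Q, hP₁⟩

end Lemmas

theorem main (p q : ℕ) [hp : Fact p.Prime] [hq : Fact q.Prime] (hpq : p ≠ q) :
    ∀ n : ℕ, ∀ (G : Type u) [Group G] [Finite G], Nat.card G = n →
      (Cfsg.IsPSolvable p G ∨ Cfsg.IsPSolvable q G) →
      (∀ y : G, (∃ k : ℕ, orderOf y = q ^ k) → ¬ p ∣ (centralizer ({y} : Set G)).index) →
      ∃ (P : Sylow p G) (Q : Sylow q G),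
        (P : Subgroup G) ≤ normalizer ((Q : Subgroup G) : Set G) := by
  intro n
  induction n using Nat.strong_induction_on with
  | _ n ih =>
    intro G _ _ hn hsolv h
    rcases subsingleton_or_nontrivial G with hss | hnt
    · obtain ⟨P⟩ : Nonempty (Sylow p G) := inferInstance
      obtain ⟨Q⟩ : Nonempty (Sylow q G) := inferInstance
      refine ⟨P, Q, fun x _ => ?_⟩
      rw [Subsingleton.elim x 1]; exact one_mem _
    · obtain ⟨N, hNn, hNne, hNtype⟩ : ∃ N : Subgroup G, N.Normal ∧ N ≠ ⊥ ∧
          ((∃ m : ℕ, Nat.card N = q ^ m) ∨ ¬ p ∣ Nat.card N ∨ ¬ q ∣ Nat.card N) := by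
        rcases hsolv with hs | hs
        · obtain ⟨N, h1, h2, h3⟩ := Cfsg.Agent.Lead.exists_normal_of_isPSolvable hs
          refine ⟨N, h1, h2, ?_⟩
          rcases h3 with ⟨m, hm⟩ | hc
          · right; right
            rw [hm]
            intro hd
            exact hpq ((Nat.prime_dvd_prime_iff_eq hq.out hp.out).mp
              (hq.out.dvd_of_dvd_pow hd)).symm
          · right; left
            exact (Nat.Prime.coprime_iff_not_dvd hp.out).mp hc.symm
        · obtain ⟨N, h1, h2, h3⟩ := Cfsg.Agent.Lead.exists_normal_of_isPSolvable hs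
          refine ⟨N, h1, h2, ?_⟩
          rcases h3 with ⟨m, hm⟩ | hc
          · left; exact ⟨m, hm⟩
          · right; right
            exact (Nat.Prime.coprime_iff_not_dvd hq.out).mp hc.symm
      have hlt : Nat.card (G ⧸ N) < n := by
        have e := Subgroup.card_eq_card_quotient_mul_card_subgroup N
        have h2 : 1 < Nat.card N := (Subgroup.one_lt_card_iff_ne_bot N).mpr hNne
        have hpos : 0 < Nat.card (G ⧸ N) := Nat.card_pos
        rw [← hn, e]
        nlinarith
      have hsolv' : Cfsg.IsPSolvable p (G ⧸ N) ∨ Cfsg.IsPSolvable q (G ⧸ N) := by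
        rcases hsolv with hs | hs
        · exact Or.inl (Cfsg.Agent.Lead.isPSolvable_quotient hs N)
        · exact Or.inr (Cfsg.Agent.Lead.isPSolvable_quotient hs N)
      obtain ⟨P', Q', hPQ⟩ := ih (Nat.card (G ⧸ N)) hlt (G ⧸ N) rfl hsolv'
        (hyp_quotient p q N h)
      exact step p q hpq h N hNtype P' Q' hPQ

theorem result {G : Type*} [Group G] [Finite G] (p q : ℕ) [Fact p.Prime] [Fact q.Prime] (hsolv : Cfsg.IsPSolvable p G ∨ Cfsg.IsPSolvable q G)
    (h : ∀ y : G, (∃ k : ℕ, orderOf y = q ^ k) → ¬ p ∣ (Subgroup.centralizer ({y} : Set G)).index) :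
    ∃ (P : Sylow p G) (Q : Sylow q G), (P : Subgroup G) ≤ Subgroup.normalizer ((Q : Subgroup G) : Set G) := by
  by_cases hpq : p = q
  · subst hpq
    obtain ⟨P⟩ : Nonempty (Sylow p G) := inferInstance
    exact ⟨P, P, le_normalizer⟩
  · exact main p q hpq _ G rfl hsolv h

end Cfsg.Agent.S4601
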