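import Cfsg.Statements.S4602
import Mathlib
import Cfsg.Agent.Helper23.HallHigman
import Cfsg.Agent.Helper23.PLengthOne
import Cfsg.Agent.Lead.CoprimeSylow

set_option autoImplicit false
open Cfsg

namespace Cfsg.Agent.S4602

/-- Let G be a finite p-solvable group and q a prime different from p. Some Sylow p-subgroup of G normalizes some Sylow q-subgroup of G if and only if q does not divide the order of G/O_{p'}(G), the quotient by the largest normal subgroup of order prime to p. -/
theorem result {G : Type*} [Group G] [Finite G] (p q : ℕ) [Fact p.Prime] [Fact q.Prime] (hpq : p ≠ q) (hsolv : Cfsg.IsPSolvable p G) :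
    (∃ (P : Sylow p G) (Q : Sylow q G), (P : Subgroup G) ≤ Subgroup.normalizer ((Q : Subgroup G) : Set G)) ↔ ¬ q ∣ (Cfsg.pPrimeCore p G).index := by
  have hp : Fact p.Prime := inferInstance
  have hq : Fact q.Prime := inferInstance
  set K := Cfsg.pPrimeCore p G with hK
  have hKcop : (Nat.card K).Coprime p := Cfsg.Agent.Helper23.pPrimeCore_card_coprime p G
  constructor
  · rintro ⟨P, Q, hPQ⟩
    set π := QuotientGroup.mk' K with hπ
    set R := Cfsg.pCore p (G ⧸ K) with hR
    have hRp : IsPGroup p R := Cfsg.Agent.Helper23.pCore_isPGroup p (G ⧸ K)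
    have hRn : R.Normal := inferInstance
    have hHH : Subgroup.centralizer (R : Set (G ⧸ K)) ≤ R :=
      Cfsg.Agent.Helper23.centralizer_pCore_quotient_le_of_isPSolvable hsolv
    have hsurj : Function.Surjective π := QuotientGroup.mk'_surjective K
    -- the image of P is a Sylow p-subgroup of the quotient
    have hPbp : IsPGroup p ((P : Subgroup G).map π) := P.isPGroup'.map π
    have hPbidx : ¬ p ∣ ((P : Subgroup G).map π).index := by
      intro h
      exact P.not_dvd_index (h.trans (Subgroup.index_map_dvd _ hsurj))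
    have hRP : R ≤ (P : Subgroup G).map π := hRp.le_sylow_of_normal (hPbp.toSylow hPbidx)
    have hPbN : (P : Subgroup G).map π ≤
        Subgroup.normalizer (((Q : Subgroup G).map π : Subgroup (G ⧸ K)) : Set (G ⧸ K)) :=
      (Subgroup.map_mono hPQ).trans (Subgroup.le_normalizer_map π)
    have hQbq : IsPGroup q ((Q : Subgroup G).map π) := Q.isPGroup'.map π
    have hdisj : (Q : Subgroup G).map π ⊓ R = ⊥ :=
      (IsPGroup.disjoint_of_ne q p (Ne.symm hpq) _ _ hQbq hRp).eq_bot
    -- the image of Q centralizes R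
    have hcent : (Q : Subgroup G).map π ≤ Subgroup.centralizer (R : Set (G ⧸ K)) := by
      intro y hy
      rw [Subgroup.mem_centralizer_iff]
      intro r hr
      have h1 : r * y * r⁻¹ * y⁻¹ ∈ (Q : Subgroup G).map π :=
        ((Q : Subgroup G).map π).mul_mem
          ((Subgroup.mem_normalizer_iff.mp (hPbN (hRP hr)) y).mp hy)
          (((Q : Subgroup G).map π).inv_mem hy)
      have h2 : r * y * r⁻¹ * y⁻¹ ∈ R := by
        have : r * (y * r⁻¹ * y⁻¹) ∈ R := R.mul_mem hr (hRn.conj_mem _ (R.inv_mem hr) y)
        have e1 : r * y * r⁻¹ * y⁻¹ = r * (y * r⁻¹ * y⁻¹) := by group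
        rw [e1]; exact this
      have h3 : r * y * r⁻¹ * y⁻¹ ∈ (Q : Subgroup G).map π ⊓ R := ⟨h1, h2⟩
      rw [hdisj, Subgroup.mem_bot] at h3
      have e2 : r * y = (r * y * r⁻¹ * y⁻¹) * (y * r) := by group
      rw [e2, h3, one_mul]
    have hQbot : (Q : Subgroup G).map π = ⊥ := by
      rw [eq_bot_iff, ← hdisj]
      exact le_inf le_rfl (hcent.trans hHH)
    have hQK : (Q : Subgroup G) ≤ K := by
      intro x hx
      have h1 : π x ∈ (Q : Subgroup G).map π := Subgroup.mem_map_of_mem π hx
      rw [hQbot, Subgroup.mem_bot, hπ, QuotientGroup.mk'_apply, QuotientGroup.eq_one_iff] at h1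
      exact h1
    intro h
    exact Q.not_dvd_index (h.trans (Subgroup.index_dvd_of_le hQK))
  · intro hidx
    obtain ⟨P⟩ : Nonempty (Sylow p G) := inferInstance
    have hKn : K.Normal := inferInstance
    have hPK : (P : Subgroup G) ≤ Subgroup.normalizer (K : Set G) := by
      rw [Subgroup.normalizer_eq_top]; exact le_top
    have hcop : (Nat.card (P : Subgroup G)).Coprime (Nat.card K) := by
      obtain ⟨a, ha⟩ := IsPGroup.iff_card.mp P.isPGroup'
      rw [ha]
      exact (Nat.Coprime.pow_right a hKcop).symm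
    have hPsolv : Group.IsSolvable (P : Subgroup G) := by
      have : Group.IsNilpotent (P : Subgroup G) := P.isPGroup'.isNilpotent
      infer_instance
    obtain ⟨Q₀, hQ₀⟩ := Cfsg.Agent.Lead.coprime_exists_invariant_sylow (P : Subgroup G) K hPK hcop
      (Or.inl hPsolv) q
    have hQ₁q : IsPGroup q ((Q₀ : Subgroup K).map K.subtype) := Q₀.isPGroup'.map _
    have hQ₁idx : ¬ q ∣ ((Q₀ : Subgroup K).map K.subtype).index := by
      rw [Subgroup.index_map_subtype]
      intro h
      rcases (Nat.Prime.dvd_mul hq.out).mp h with h | h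
      · exact Q₀.not_dvd_index h
      · exact hidx h
    exact ⟨P, hQ₁q.toSylow hQ₁idx, hQ₀⟩

end Cfsg.Agent.S4602
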