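import Cfsg.Statements.S4611
import Mathlib
import Cfsg.Agent.Helper23.PrincipalBlock
import Cfsg.Agent.Helper5.CharKer
import Cfsg.Agent.Helper10.SolvPSolv
import Cfsg.Agent.Helper24.ColumnOrth

set_option autoImplicit false
open Cfsg

namespace Cfsg.Agent.S4611

/-- Let G be a finite solvable group and π a nonempty set of primes, each dividing the order of G; fix for each p in π a maximal ideal M p of the algebraic integers containing p. Then the only irreducible character lying in the principal p-block for every p in π is the principal character if and only if G is generated by the subgroups O_{p'}(G), p in π (the largest normal subgroups of order prime to p). -/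
theorem result {G : Type*} [Group G] [Finite G] [Group.IsSolvable G] (π : Set ℕ) (hπ : ∀ p ∈ π, p.Prime ∧ p ∣ Nat.card G) (hne : π.Nonempty) (M : ℕ → Ideal Cfsg.AlgInt) (hM : ∀ p ∈ π, Cfsg.IsPModular p (M p)) :
    (∀ χ : Cfsg.IrrCharacter G, (∀ p ∈ π, χ ∈ Cfsg.principalBlock (M p) G) → (χ : G → ℂ) = fun _ => 1) ↔
      ⨆ p ∈ π, Cfsg.pPrimeCore p G = ⊤ := by
  classical
  have : Fintype G := Fintype.ofFinite G
  set K : Subgroup G := ⨆ p ∈ π, Cfsg.pPrimeCore p G with hK
  have hcoreN : ∀ p : ℕ, (Cfsg.pPrimeCore p G).Normal :=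
    fun p => Subgroup.sSup_normal _ (fun _ h => h.1)
  have hKn : K.Normal := by
    rw [hK]
    have h1 : (⨆ p ∈ π, Cfsg.pPrimeCore p G) =
        sSup {N : Subgroup G | ∃ p ∈ π, N = Cfsg.pPrimeCore p G} := by
      apply le_antisymm
      · apply iSup₂_le
        intro p hp
        exact le_sSup ⟨p, hp, rfl⟩
      · apply sSup_le
        rintro N ⟨p, hp, rfl⟩
        exact le_iSup₂ (f := fun p _ => Cfsg.pPrimeCore p G) p hp
    rw [h1]
    apply Subgroup.sSup_normal
    rintro N ⟨p, hp, rfl⟩
    exact hcoreN p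
  constructor
  · intro h
    by_contra hne
    -- a nontrivial irreducible character of `G ⧸ K`
    have hnt : Nontrivial (G ⧸ K) := by
      rw [← not_subsingleton_iff_nontrivial]
      intro hsub
      apply hne
      rw [eq_top_iff]
      intro g _
      have : (QuotientGroup.mk' K g) = 1 := Subsingleton.elim _ _
      exact (QuotientGroup.eq_one_iff g).mp this
    obtain ⟨x, hx⟩ := exists_ne (1 : G ⧸ K)
    have hex : ∃ ψ : Cfsg.IrrCharacter (G ⧸ K), ψ ≠ Cfsg.Agent.Helper24.trivIrr (G ⧸ K) := by
      by_contra hall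
      push Not at hall
      have hsub : Subsingleton (Cfsg.IrrCharacter (G ⧸ K)) :=
        ⟨fun a b => (hall a).trans (hall b).symm⟩
      have hfin : Finite (Cfsg.IrrCharacter (G ⧸ K)) := Finite.of_subsingleton
      have h1 : Nat.card (Cfsg.IrrCharacter (G ⧸ K)) ≤ 1 := Finite.card_le_one_iff_subsingleton.mpr hsub
      rw [Cfsg.Agent.Helper24.card_irr_eq_card_conjClasses] at h1
      have h2 : Subsingleton (ConjClasses (G ⧸ K)) := Finite.card_le_one_iff_subsingleton.mp h1
      have h3 : ConjClasses.mk x = ConjClasses.mk (1 : G ⧸ K) := Subsingleton.elim _ _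
      rw [ConjClasses.mk_eq_mk_iff_isConj, isConj_comm, isConj_one_right] at h3
      exact hx h3
    obtain ⟨ψ, hψ⟩ := hex
    have hirr : Cfsg.IsIrrCharacter G (fun g => (ψ : G ⧸ K → ℂ) (QuotientGroup.mk' K g)) :=
      Cfsg.Agent.Helper8.isIrrCharacter_comp_surjective (QuotientGroup.mk' K)
        (QuotientGroup.mk'_surjective K) ψ.2
    have hχ := h ⟨_, hirr⟩ (by
      intro p hp
      have : Fact p.Prime := ⟨(hπ p hp).1⟩
      have hs : Cfsg.IsPSolvable p G :=
        Cfsg.Agent.Helper10.isPSolvable_of_isSolvable p inferInstance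
      apply Cfsg.Agent.Helper23.PB.mem_principalBlock_of_pPrimeCore_le (hM p hp) hs
      intro n hn
      show (ψ : G ⧸ K → ℂ) (QuotientGroup.mk' K n) = (ψ : G ⧸ K → ℂ) (QuotientGroup.mk' K 1)
      have hnK : n ∈ K := (le_iSup₂ (f := fun p _ => Cfsg.pPrimeCore p G) p hp) hn
      have h0 : (QuotientGroup.mk' K n : G ⧸ K) = 1 := (QuotientGroup.eq_one_iff n).mpr hnK
      rw [h0, map_one])
    apply hψ
    apply Subtype.ext
    funext y
    obtain ⟨g, rfl⟩ := QuotientGroup.mk'_surjective K y
    have := congrFun hχ g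
    simpa using this
  · intro htop χ hχ
    have hker : Cfsg.Agent.Helper5.charKer χ = ⊤ := by
      rw [eq_top_iff, ← htop]
      apply iSup₂_le
      intro p hp n hn
      have : Fact p.Prime := ⟨(hπ p hp).1⟩
      rw [Cfsg.Agent.Helper5.mem_charKer]
      exact Cfsg.Agent.Helper23.PB.eq_one_of_mem_principalBlock (hM p hp) χ (hχ p hp) n hn
    have hconst : ∀ g : G, (χ : G → ℂ) g = (χ : G → ℂ) 1 := by
      intro g
      rw [← Cfsg.Agent.Helper5.mem_charKer, hker]
      trivial
    have hself := Cfsg.Agent.Helper24.classInner_irr_self χ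
    unfold Cfsg.classInner at hself
    have hd := Cfsg.Agent.Helper24.irrDeg_spec χ
    have hsum : ∑ g : G, (χ : G → ℂ) g * (starRingEnd ℂ) ((χ : G → ℂ) g) =
        (Nat.card G : ℂ) * ((Cfsg.Agent.Helper24.irrDeg χ : ℂ) * (Cfsg.Agent.Helper24.irrDeg χ : ℂ)) := by
      rw [Finset.sum_congr rfl (fun g _ => by rw [hconst g, hd, Complex.conj_natCast])]
      rw [Finset.sum_const, Finset.card_univ, nsmul_eq_mul, Nat.card_eq_fintype_card]
    rw [hsum] at hself
    have hcard : (Nat.card G : ℂ) ≠ 0 := by
      have : 0 < Nat.card G := Nat.card_pos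
      exact_mod_cast this.ne'
    rw [← mul_assoc, inv_mul_cancel₀ hcard, one_mul] at hself
    have h1 : Cfsg.Agent.Helper24.irrDeg χ * Cfsg.Agent.Helper24.irrDeg χ = 1 := by
      exact_mod_cast hself
    have h2 : Cfsg.Agent.Helper24.irrDeg χ = 1 := by
      have := Nat.eq_one_of_mul_eq_one_right h1
      exact this
    funext g
    rw [hconst g, hd, h2]
    simp

end Cfsg.Agent.S4611
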