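import Cfsg.Statements.S4619
import Mathlib

set_option autoImplicit false
open scoped Pointwise
open Cfsg

namespace Cfsg.Agent.S4619

/-- Let P be a Sylow p-subgroup of the finite group G that is a trivial-intersection set: P meets each conjugate g P g⁻¹ with g outside N_G(P) trivially. Then for every nontrivial subgroup Q of P the normalizer of Q lies in the normalizer of P, and any g ∈ G conjugating Q into P lies in N_G(P). -/
theorem result {G : Type*} [Group G] [Finite G] (p : ℕ) [Fact p.Prime] (P : Sylow p G) (hTI : (∀ g : G, g ∉ Subgroup.normalizer ((P : Subgroup G) : Set G) → (P : Subgroup G) ⊓ (MulAut.conj g • (P : Subgroup G)) = ⊥)) (Q : Subgroup G) (hQ : Q ≤ (P : Subgroup G)) (hQ1 : Q ≠ ⊥) :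
    Subgroup.normalizer (Q : Set G) ≤ Subgroup.normalizer ((P : Subgroup G) : Set G) ∧
      ∀ g : G, MulAut.conj g • Q ≤ (P : Subgroup G) → g ∈ Subgroup.normalizer ((P : Subgroup G) : Set G) := by
  have key : ∀ g : G, (∃ x : G, x ≠ 1 ∧ x ∈ (P : Subgroup G) ∧ x ∈ (MulAut.conj g • (P : Subgroup G))) →
      g ∈ Subgroup.normalizer ((P : Subgroup G) : Set G) := by
    intro g ⟨x, hx1, hxP, hxg⟩
    by_contra hg
    have := hTI g hg
    have hx : x ∈ (P : Subgroup G) ⊓ (MulAut.conj g • (P : Subgroup G)) := ⟨hxP, hxg⟩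
    rw [this] at hx
    exact hx1 (Subgroup.mem_bot.mp hx)
  obtain ⟨q, hqQ, hq1⟩ : ∃ q ∈ Q, q ≠ 1 := by
    by_contra hcon
    push Not at hcon
    exact hQ1 ((Subgroup.eq_bot_iff_forall Q).mpr hcon)
  constructor
  · intro g hg
    apply key g
    rw [Subgroup.mem_normalizer_iff] at hg
    refine ⟨g * q * g⁻¹, ?_, hQ ((hg q).mp hqQ), ?_⟩
    · intro h
      apply hq1
      have : q = g⁻¹ * (g * q * g⁻¹) * g := by group
      rw [this, h]; group
    · rw [Subgroup.mem_pointwise_smul_iff_inv_smul_mem]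
      simp only [MulAut.smul_def, MulAut.conj_inv_apply]
      have : g⁻¹ * (g * q * g⁻¹) * g = q := by group
      rw [this]; exact hQ hqQ
  · intro g hg
    apply key g
    refine ⟨g * q * g⁻¹, ?_, hg ?_, ?_⟩
    · intro h
      apply hq1
      have : q = g⁻¹ * (g * q * g⁻¹) * g := by group
      rw [this, h]; group
    · rw [Subgroup.mem_pointwise_smul_iff_inv_smul_mem]
      simp only [MulAut.smul_def, MulAut.conj_inv_apply]
      have : g⁻¹ * (g * q * g⁻¹) * g = q := by group
      rw [this]; exact hqQ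
    · rw [Subgroup.mem_pointwise_smul_iff_inv_smul_mem]
      simp only [MulAut.smul_def, MulAut.conj_inv_apply]
      have : g⁻¹ * (g * q * g⁻¹) * g = q := by group
      rw [this]; exact hQ hqQ

end Cfsg.Agent.S4619
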