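import Cfsg.Statements.S4620
import Mathlib
import Cfsg.Agent.Helper23.TISylow

set_option autoImplicit false
open scoped Pointwise
open Cfsg

namespace Cfsg.Agent.S4620

open Pointwise


/-- Let H be a finite group with no nontrivial normal p-subgroup and no nontrivial normal subgroup of order prime to p, whose Sylow p-subgroup P is nontrivial and a trivial-intersection set (P meets its conjugates by elements outside N_H(P) trivially). Then H has a unique minimal normal subgroup N; N is non-abelian simple with trivial centralizer in H (so H embeds in Aut(N)), and a Sylow p-subgroup of N is again a nontrivial trivial-intersection set in N. -/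
theorem result {H : Type*} [Group H] [Finite H] (p : ℕ) [Fact p.Prime] (hOp : Cfsg.pCore p H = ⊥) (hOp' : Cfsg.pPrimeCore p H = ⊥) (P : Sylow p H) (hP1 : (P : Subgroup H) ≠ ⊥)
    (hTI : ∀ g : H, g ∉ Subgroup.normalizer ((P : Subgroup H) : Set H) → (P : Subgroup H) ⊓ (MulAut.conj g • (P : Subgroup H)) = ⊥) :
    ∃ N : Subgroup H, N.Normal ∧ N ≠ ⊥ ∧ (∀ K : Subgroup H, K.Normal → K ≠ ⊥ → N ≤ K) ∧
      IsSimpleGroup N ∧ ¬ IsMulCommutative N ∧ Subgroup.centralizer (N : Set H) = ⊥ ∧
      ∀ Q : Sylow p N, (Q : Subgroup N) ≠ ⊥ ∧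
        ∀ n : N, n ∉ Subgroup.normalizer ((Q : Subgroup N) : Set N) → (Q : Subgroup N) ⊓ (MulAut.conj n • (Q : Subgroup N)) = ⊥ := by
  have hdata : Cfsg.Agent.Helper23.TIData p H := by
    refine ⟨?_, ?_, P, hP1, hTI⟩
    · intro K hKn hKp
      have hle : K ≤ Cfsg.pCore p H := le_sSup ⟨hKn, hKp⟩
      rw [hOp] at hle
      exact le_bot_iff.mp hle
    · intro K hKn hKp
      have hle : K ≤ Cfsg.pPrimeCore p H := le_sSup ⟨hKn, hKp⟩
      rw [hOp'] at hle
      exact le_bot_iff.mp hle
  obtain ⟨N, h1, h2, h3, h4, h5, h6, h7⟩ := hdata.structure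
  exact ⟨N, h1, h2, h3, h4, h5, h6, fun Q => ⟨(h7 Q).1, (h7 Q).2⟩⟩

end Cfsg.Agent.S4620
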