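import Cfsg.Statements.S4626
import Mathlib
import Cfsg.Agent.Helper5.LocalRing
import Cfsg.Agent.Helper24.Ito
import Cfsg.Agent.Helper24.CharBasic

set_option autoImplicit false
open Cfsg

namespace Cfsg.Agent.S4626

open Pointwise


/-- Let G be a finite group, p a prime, M a maximal ideal of the algebraic integers containing p, P a Sylow p-subgroup of G and N a normal subgroup of index prime to p containing the centralizer C_G(P). Then every irreducible character of G whose kernel contains N lies in the principal p-block of G. -/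
theorem result {G : Type*} [Group G] [Finite G] (p : ℕ) [Fact p.Prime] (M : Ideal Cfsg.AlgInt) (hM : Cfsg.IsPModular p M) (P : Sylow p G) (N : Subgroup G) [N.Normal] (hidx : ¬ p ∣ N.index)
    (hC : Subgroup.centralizer ((P : Subgroup G) : Set G) ≤ N) (χ : Cfsg.IrrCharacter G) (hker : ∀ n ∈ N, (χ : G → ℂ) n = (χ : G → ℂ) 1) :
    χ ∈ Cfsg.principalBlock M G := by
  classical
  have hMp : M.IsPrime := Cfsg.Agent.Helper5.Loc.isPrime_of_isPModular hM
  have hp : p.Prime := Fact.out
  show Cfsg.SameBlock M (fun _ : G => (1 : ℂ)) (χ : G → ℂ)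
  intro g
  obtain ⟨n, ρ, hρ, hχ⟩ := χ.2
  have hχ1 : (χ : G → ℂ) 1 = (Module.finrank ℂ (Fin n → ℂ) : ℂ) := by
    rw [← hχ, Representation.char_one]
  set d := Module.finrank ℂ (Fin n → ℂ) with hd
  -- the degree divides the index of `N`
  have hdN : d ∣ N.index := by
    apply Cfsg.Agent.Helper24.finrank_dvd_index_of_scalar ρ N
    intro b hb
    refine ⟨1, ?_⟩
    rw [one_smul]
    rw [← Cfsg.Agent.Helper24.char_eq_finrank_iff, hχ, hker b hb, hχ1]
  have hpd : ¬ p ∣ d := fun h => hidx (h.trans hdN)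
  have hdpos : d ≠ 0 := by
    intro h0
    apply hpd
    rw [h0]; exact dvd_zero p
  have hχ1ne : (χ : G → ℂ) 1 ≠ 0 := by
    rw [hχ1]; exact_mod_cast hdpos
  set idx := (Subgroup.centralizer ({g} : Set G)).index with hidxdef
  unfold Cfsg.centralChar
  by_cases hpi : p ∣ idx
  · -- `p` divides the class size
    have hdM : ((d : ℕ) : Cfsg.AlgInt) ∉ M := by
      intro hmem
      have hcop : Nat.Coprime d p := (Nat.Coprime.symm ((Nat.Prime.coprime_iff_not_dvd hp).mpr hpd))
      have h1 : (1 : Cfsg.AlgInt) ∈ M := by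
        have hb := Nat.gcd_eq_gcd_ab d p
        rw [hcop] at hb
        have h2 : ((1 : ℤ) : Cfsg.AlgInt) = ((d : ℤ) : Cfsg.AlgInt) * ((Nat.gcdA d p : ℤ) : Cfsg.AlgInt)
            + ((p : ℤ) : Cfsg.AlgInt) * ((Nat.gcdB d p : ℤ) : Cfsg.AlgInt) := by
          have := congrArg (fun z : ℤ => (z : Cfsg.AlgInt)) hb
          push_cast at this ⊢
          exact this
        rw [Int.cast_one] at h2
        rw [h2]
        apply M.add_mem
        · apply M.mul_mem_right
          simpa using hmem
        · apply M.mul_mem_right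
          simpa using hM.2.2
      exact Cfsg.Agent.Helper5.Loc.one_not_mem hMp h1
    have hidxM : Cfsg.MemLocalIdeal M (idx : ℂ) := by
      obtain ⟨k, hk⟩ := hpi
      have h1 : ((idx : ℕ) : Cfsg.AlgInt) ∈ M := by
        rw [hk]
        push_cast
        exact M.mul_mem_right _ hM.2.2
      have := Cfsg.Agent.Helper5.Loc.memLocalIdeal_of_mem hMp h1
      simpa using this
    have hint1 : IsIntegral ℤ ((χ : G → ℂ) 1) := by
      rw [← hχ]; exact Cfsg.Agent.Helper24.char_isIntegral ρ 1
    have hintg : IsIntegral ℤ ((χ : G → ℂ) g) := by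
      rw [← hχ]; exact Cfsg.Agent.Helper24.char_isIntegral ρ g
    have hinv : Cfsg.MemLocalRing M (((χ : G → ℂ) 1)⁻¹) := by
      have := Cfsg.Agent.Helper5.Loc.memLocalRing_inv_of_not_mem hdM
      rw [hχ1]
      simpa using this
    have hr : Cfsg.MemLocalRing M (((χ : G → ℂ) 1 - (χ : G → ℂ) g) * ((χ : G → ℂ) 1)⁻¹) :=
      Cfsg.Agent.Helper5.Loc.lr_mul hMp
        (Cfsg.Agent.Helper5.Loc.lr_sub hMp
          (Cfsg.Agent.Helper5.Loc.memLocalRing_of_isIntegral hMp hint1)
          (Cfsg.Agent.Helper5.Loc.memLocalRing_of_isIntegral hMp hintg)) hinv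
    have := Cfsg.Agent.Helper5.Loc.li_mul_right hMp hidxM hr
    have heq : (idx : ℂ) * 1 / 1 - (idx : ℂ) * (χ : G → ℂ) g / (χ : G → ℂ) 1
        = (idx : ℂ) * (((χ : G → ℂ) 1 - (χ : G → ℂ) g) * ((χ : G → ℂ) 1)⁻¹) := by
      field_simp
    rw [heq]
    exact this
  · -- `g` centralizes a Sylow `p`-subgroup, hence lies in `N`
    have hgN : g ∈ N := by
      set C := Subgroup.centralizer ({g} : Set G) with hCdef
      obtain ⟨Q⟩ : Nonempty (Sylow p C) := inferInstance
      have hQp : IsPGroup p ((Q : Subgroup C).map C.subtype) := Q.isPGroup'.map _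
      have hQi : ¬ p ∣ ((Q : Subgroup C).map C.subtype).index := by
        rw [Subgroup.index_map_subtype]
        intro h
        rcases (Nat.Prime.dvd_mul hp).mp h with h1 | h1
        · exact Q.not_dvd_index h1
        · exact hpi h1
      obtain ⟨h, hh⟩ := MulAction.exists_smul_eq G P (hQp.toSylow hQi)
      have hPC : ∀ x ∈ P, h * x * h⁻¹ ∈ C := by
        intro x hx
        have h1 : h * x * h⁻¹ ∈ ((h • P : Sylow p G) : Subgroup G) := by
          rw [Sylow.smul_def]
          show h * x * h⁻¹ ∈ MulAut.conj h • (P : Subgroup G)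
          rw [Subgroup.mem_pointwise_smul_iff_inv_smul_mem, ← map_inv, MulAut.smul_def,
            MulAut.conj_apply]
          have : h⁻¹ * (h * x * h⁻¹) * h⁻¹⁻¹ = x := by group
          rw [this]; exact hx
        rw [hh] at h1
        exact Subgroup.map_subtype_le _ h1
      have hcent : h⁻¹ * g * h ∈ Subgroup.centralizer ((P : Subgroup G) : Set G) := by
        rw [Subgroup.mem_centralizer_iff]
        intro x hx
        have h1 := (Subgroup.mem_centralizer_iff.mp (hPC x hx)) g rfl
        calc x * (h⁻¹ * g * h) = h⁻¹ * ((h * x * h⁻¹) * g) * h := by group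
          _ = h⁻¹ * (g * (h * x * h⁻¹)) * h := by rw [h1]
          _ = h⁻¹ * g * h * x := by group
      have h2 := hC hcent
      have h3 : N.Normal := inferInstance
      have h4 := h3.conj_mem _ h2 h
      have : h * (h⁻¹ * g * h) * h⁻¹ = g := by group
      rwa [this] at h4
    rw [hker g hgN]
    have heq : (idx : ℂ) * 1 / 1 - (idx : ℂ) * (χ : G → ℂ) 1 / (χ : G → ℂ) 1 = 0 := by
      field_simp
      ring
    rw [heq]
    exact Cfsg.Agent.Helper5.Loc.memLocalIdeal_zero hMp

end Cfsg.Agent.S4626
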