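import Cfsg.Statements.S4636
import Mathlib

set_option autoImplicit false
open scoped Pointwise
open Cfsg

namespace Cfsg.Agent.S4636

/-- In a cyclic subgroup, two subgroups of the same prime order coincide. -/
theorem eq_of_card_eq_prime {G : Type*} [Group G] [Finite G] (p : ℕ) (hp : 0 < p) (P : Subgroup G)
    (hcyc : IsCyclic P) (Y Z : Subgroup G) (hY : Y ≤ P) (hZ : Z ≤ P) (hYc : Nat.card Y = p)
    (hZc : Nat.card Z = p) : Y = Z := by
  classical
  have : Fintype P := Fintype.ofFinite P
  have hS : (Finset.univ.filter (fun a : P => a ^ p = 1)).card ≤ p :=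
    IsCyclic.card_pow_eq_one_le hp
  -- the image of Z in P lies in the solution set
  have hZsub : (Finset.univ.filter (fun a : P => a ∈ Z.subgroupOf P)) ⊆
      (Finset.univ.filter (fun a : P => a ^ p = 1)) := by
    intro a ha
    simp only [Finset.mem_filter, Finset.mem_univ, true_and] at ha ⊢
    have : (⟨(a : G), ha⟩ : Z) ^ p = 1 := by
      rw [← hZc]; exact pow_card_eq_one'
    apply Subtype.ext
    have h2 := congrArg Subtype.val this
    simpa using h2
  have hZcard : (Finset.univ.filter (fun a : P => a ∈ Z.subgroupOf P)).card = p := by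
    have : Nat.card (Z.subgroupOf P) = p := by
      rw [← hZc]
      exact Nat.card_congr (Subgroup.subgroupOfEquivOfLe hZ).toEquiv
    rw [← this, Nat.card_eq_fintype_card, Fintype.card_subtype]
  have hEq : (Finset.univ.filter (fun a : P => a ∈ Z.subgroupOf P)) =
      (Finset.univ.filter (fun a : P => a ^ p = 1)) :=
    Finset.eq_of_subset_of_card_le hZsub (by rw [hZcard]; exact hS)
  have hYZ : Y ≤ Z := by
    intro y hy
    have hyP : y ∈ P := hY hy
    have : (⟨y, hyP⟩ : P) ∈ (Finset.univ.filter (fun a : P => a ^ p = 1)) := by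
      simp only [Finset.mem_filter, Finset.mem_univ, true_and]
      have : (⟨y, hy⟩ : Y) ^ p = 1 := by
        rw [← hYc]; exact pow_card_eq_one'
      apply Subtype.ext
      have h2 := congrArg Subtype.val this
      simpa using h2
    rw [← hEq] at this
    simp only [Finset.mem_filter, Finset.mem_univ, true_and] at this
    exact this
  exact Subgroup.eq_of_le_of_card_ge hYZ (by rw [hYc, hZc])

theorem card_map_conj {G : Type*} [Group G] (x : G) (Y : Subgroup G) :
    Nat.card (Y.map (MulAut.conj x).toMonoidHom) = Nat.card Y := by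
  exact Nat.card_congr ((Y.equivMapOfInjective _ (MulAut.conj x).injective).symm.toEquiv)


/-- Let P be a nontrivial cyclic p-subgroup of the finite group G and Z its subgroup of order p. For every x outside N_G(Z), P meets its conjugate xPx⁻¹ trivially; consequently N_G(Q) ≤ N_G(Z) for every nontrivial subgroup Q of P. -/
theorem result {G : Type*} [Group G] [Finite G] (p : ℕ) [Fact p.Prime] (P : Subgroup G) (hP : IsPGroup p P) (hP1 : P ≠ ⊥) (hcyc : IsCyclic P) (Z : Subgroup G) (hZ : Z ≤ P) (hZcard : Nat.card Z = p) : (∀ x : G, x ∉ Subgroup.normalizer (Z : Set G) → P ⊓ MulAut.conj x • P = ⊥) ∧ ∀ Q : Subgroup G, Q ≤ P → Q ≠ ⊥ → Subgroup.normalizer (Q : Set G) ≤ Subgroup.normalizer (Z : Set G) := by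
  have hp : 0 < p := (Fact.out : p.Prime).pos
  -- key: any subgroup of order p inside P is Z
  have key : ∀ Y : Subgroup G, Y ≤ P → Nat.card Y = p → Y = Z := fun Y hY hYc =>
    eq_of_card_eq_prime p hp P hcyc Y Z hY hZ hYc hZcard
  -- any nontrivial subgroup of P contains Z
  have sub : ∀ Q : Subgroup G, Q ≤ P → Q ≠ ⊥ → Z ≤ Q := by
    intro Q hQ hQ1
    have hQp : IsPGroup p Q := hP.to_le hQ
    have hdvd : p ∣ Nat.card Q := by
      obtain ⟨n, hn⟩ := IsPGroup.iff_card.mp hQp
      rcases n with _ | n
      · exfalso; apply hQ1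
        rw [pow_zero] at hn
        exact Subgroup.card_eq_one.mp hn
      · rw [hn, pow_succ]; exact dvd_mul_left p _
    obtain ⟨y, hy⟩ := exists_prime_orderOf_dvd_card' p hdvd
    have hYc : Nat.card (Subgroup.zpowers (y : G)) = p := by
      rw [Nat.card_zpowers, Subgroup.orderOf_coe, hy]
    have hYQ : Subgroup.zpowers (y : G) ≤ Q := by
      rw [Subgroup.zpowers_le]; exact y.2
    rw [← key _ (hYQ.trans hQ) hYc]; exact hYQ
  constructor
  · intro x hx
    by_contra hne
    apply hx
    have h1 : Z ≤ P ⊓ MulAut.conj x • P := sub _ inf_le_left hne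
    have h2 : Z ≤ MulAut.conj x • P := h1.trans inf_le_right
    -- x⁻¹ Z x ≤ P has order p so equals Z
    have h3 : Z.map (MulAut.conj x⁻¹).toMonoidHom ≤ P := by
      rintro _ ⟨z, hz, rfl⟩
      have := h2 hz
      rw [Subgroup.mem_pointwise_smul_iff_inv_smul_mem] at this
      simpa [MulAut.smul_def] using this
    have h4 := key _ h3 (by rw [card_map_conj, hZcard])
    rw [Subgroup.mem_normalizer_iff_map_conj_eq]
    have : (Z.map (MulAut.conj x⁻¹).toMonoidHom).map (MulAut.conj x).toMonoidHom = Z := by
      rw [Subgroup.map_map]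
      have : (MulAut.conj x).toMonoidHom.comp (MulAut.conj x⁻¹).toMonoidHom = MonoidHom.id G := by
        ext g
        simp only [MonoidHom.comp_apply, MulEquiv.coe_toMonoidHom, MulAut.conj_apply, MonoidHom.id_apply]
        group
      rw [this, Subgroup.map_id]
    rw [h4] at this
    exact this
  · intro Q hQ hQ1 g hg
    have hZQ : Z ≤ Q := sub Q hQ hQ1
    rw [Subgroup.mem_normalizer_iff_map_conj_eq] at hg ⊢
    have h3 : Z.map (MulAut.conj g).toMonoidHom ≤ P := by
      have : Z.map (MulAut.conj g).toMonoidHom ≤ Q.map (MulAut.conj g).toMonoidHom :=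
        Subgroup.map_mono hZQ
      have hg' : Q.map (MulAut.conj g).toMonoidHom = Q := hg
      rw [hg'] at this
      exact this.trans hQ
    have h5 : Nat.card (Z.map (MulAut.conj g).toMonoidHom) = p := by rw [card_map_conj, hZcard]
    exact key _ h3 h5

end Cfsg.Agent.S4636
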