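import Cfsg.Statements.S4638
import Mathlib
import Cfsg.Agent.Helper23.KleinPerfC
import Cfsg.Agent.Helper23.KleinPerfE
import Cfsg.Agent.Helper23.KleinPerfF

set_option autoImplicit false
open Cfsg

namespace Cfsg.Agent.S4638

/-- Let B be a block of the finite group G relative to a maximal ideal M of the algebraic integers containing 2, with a Klein four defect group P, and let c be its Brauer correspondent: the block of N_G(P) with defect group P that induces B. Then there is a perfect isometry from c onto B. -/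
theorem result {G : Type*} [Group G] [Finite G] (M : Ideal Cfsg.AlgInt) (hM : Cfsg.IsPModular 2 M) (B : Set (Cfsg.IrrCharacter G)) (hB : Cfsg.IsPBlock M B) (P : Subgroup G) (hPD : Cfsg.IsDefectGroup 2 M B P) (hV : IsKleinFour P) (c : Set (Cfsg.IrrCharacter (Subgroup.normalizer (P : Set G)))) (hcD : Cfsg.IsDefectGroup 2 M c (P.subgroupOf (Subgroup.normalizer (P : Set G)))) (hc : Cfsg.IsInducedBlock M (Subgroup.normalizer (P : Set G)) c B) : ∃ (I : Cfsg.IrrCharacter (Subgroup.normalizer (P : Set G)) → Cfsg.IrrCharacter G) (ε : Cfsg.IrrCharacter (Subgroup.normalizer (P : Set G)) → ℤ), Cfsg.IsPerfectIsometry 2 M c B I ε := by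
  classical
  haveI : Fact (Nat.Prime 2) := ⟨Nat.prime_two⟩
  haveI : Fintype G := Fintype.ofFinite _
  haveI : Fintype (Subgroup.normalizer (P : Set G)) := Fintype.ofFinite _
  haveI : Fintype (Cfsg.IrrCharacter G) := Fintype.ofFinite _
  haveI : Fintype (Cfsg.IrrCharacter (Subgroup.normalizer (P : Set G))) := Fintype.ofFinite _
  have hMp := Cfsg.Agent.Helper5.Loc.isPrime_of_isPModular hM
  obtain ⟨hcardB, hcardc, hrank, hcase, hV'⟩ :=
    Cfsg.Agent.Helper23.KPF.correspondent_invariants M hM B hB P hPD hV c hcD hc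
  -- the two finite sets
  set BF : Finset (Cfsg.IrrCharacter G) := Finset.univ.filter (· ∈ B) with hBFdef
  set cF : Finset (Cfsg.IrrCharacter (Subgroup.normalizer (P : Set G))) :=
    Finset.univ.filter (· ∈ c) with hcFdef
  have hBF : ∀ χ, χ ∈ BF ↔ χ ∈ B := by intro χ; simp [hBFdef]
  have hcF : ∀ η, η ∈ cF ↔ η ∈ c := by intro η; simp [hcFdef]
  have hBFcard : BF.card = 4 := by
    rw [← hcardB, Nat.card_eq_fintype_card, Fintype.card_subtype]
  have hcFcard : cF.card = 4 := by
    rw [← hcardc, Nat.card_eq_fintype_card, Fintype.card_subtype]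
  have hBset : (BF : Set (Cfsg.IrrCharacter G)) = B := by ext χ; simp [hBFdef]
  have hcset : (cF : Set (Cfsg.IrrCharacter (Subgroup.normalizer (P : Set G)))) = c := by
    ext η; simp [hcFdef]
  -- the sign data
  obtain ⟨hKB, dB, hdB⟩ := Cfsg.Agent.Helper23.KPE.klein_data hM B hB P hPD hV BF hBF
  obtain ⟨hKc, dc, hdc⟩ := Cfsg.Agent.Helper23.KPE.klein_data hM c hc.1 _ hcD hV' cF hcF
  -- the defects
  have hdefB : Cfsg.blockDefect 2 B = 2 := by
    have h2 := Cfsg.Agent.Helper5.CC.card_defectGroup hM hB hPD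
    haveI := hV
    rw [IsKleinFour.card_four] at h2
    have h3 : 2 ^ 2 = 2 ^ Cfsg.blockDefect 2 B := by rw [← h2]; norm_num
    exact (Nat.pow_right_injective (le_refl 2) h3).symm
  have hdefc : Cfsg.blockDefect 2 c = 2 := by
    have h2 := Cfsg.Agent.Helper5.CC.card_defectGroup hM hc.1 hcD
    haveI := hV'
    rw [IsKleinFour.card_four] at h2
    have h3 : 2 ^ 2 = 2 ^ Cfsg.blockDefect 2 c := by rw [← h2]; norm_num
    exact (Nat.pow_right_injective (le_refl 2) h3).symm
  -- a compatible signed bijection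
  have hex : ∃ (I : Cfsg.IrrCharacter (Subgroup.normalizer (P : Set G)) → Cfsg.IrrCharacter G)
      (ε : Cfsg.IrrCharacter (Subgroup.normalizer (P : Set G)) → ℤ),
      Set.BijOn I (cF : Set (Cfsg.IrrCharacter (Subgroup.normalizer (P : Set G))))
        (BF : Set (Cfsg.IrrCharacter G)) ∧
      (∀ η ∈ cF, ε η = 1 ∨ ε η = -1) ∧ Cfsg.Agent.Helper23.KPB.Compat BF cF I ε := by
    rcases hcase with h1 | h3
    · exact Cfsg.Agent.Helper23.KPB.exists_compat_of_const BF cF (by rw [hcFcard, hBFcard]) hcFcard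
        (Cfsg.Agent.Helper23.KPC.const_of_rank_one hM BF B hB hBF hBFcard hdefB h1)
        (Cfsg.Agent.Helper23.KPC.const_of_rank_one hM cF c hc.1 hcF hcFcard hdefc
          (hrank.trans h1))
    · exact Cfsg.Agent.Helper23.KPB.exists_compat_of_unique BF cF (by rw [hcFcard, hBFcard])
        hcFcard dB hdB dc hdc
        (fun d hd => Cfsg.Agent.Helper23.KPC.sign_unique BF B hBF (by rw [h3, hBFcard]) dB d hdB hd)
        (fun d hd => Cfsg.Agent.Helper23.KPC.sign_unique cF c hcF (by rw [hrank, h3, hcFcard])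
          dc d hdc hd)
  obtain ⟨I, ε, hbij, hsign, hcompat⟩ := hex
  refine ⟨I, ε, ?_, ?_, ?_⟩
  · rw [← hcset, ← hBset]; exact hbij
  · intro η hη
    exact hsign η ((hcF η).mpr hη)
  · have hmain := Cfsg.Agent.Helper23.KPB.isPerfectFun_mu BF cF I ε hM hKB hKc hcompat
    have heq : Cfsg.signedBijectionKernel c I ε = Cfsg.Agent.Helper23.KPB.mu cF I ε := by
      funext x y
      unfold Cfsg.signedBijectionKernel Cfsg.Agent.Helper23.KPB.mu
      rw [← hcset, finsum_mem_coe_finset]
    rw [heq]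
    exact hmain

end Cfsg.Agent.S4638
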