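import Cfsg.Statements.S4642
import Cfsg.Agent.Helper5.PrinTypeE
import Cfsg.Agent.Helper23.HallHigman

set_option autoImplicit false
open Cfsg

namespace Cfsg.Agent.S4642

/-- Let G be a finite group, p a prime, M a maximal ideal of the algebraic integers containing p, K the largest normal subgroup of G of order prime to p, and L the preimage in G of the largest normal p-subgroup of G/K. Let Q be a Sylow p-subgroup of L and suppose C_G(Q) ≤ L. Let θ be an irreducible character of K invariant under conjugation by every element of G, and let B be the set of irreducible characters of G whose restriction to K contains θ. Then B is a block of G, every Sylow p-subgroup of G is a defect group of B, and B is of principal type: for every p-subgroup R of G exactly one block of C_G(R) induces B. -/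
theorem result {G : Type*} [Group G] [Fintype G] (p : ℕ) [Fact p.Prime] (M : Ideal Cfsg.AlgInt) (hM : Cfsg.IsPModular p M) (K : Subgroup G) (hK : K = Cfsg.pPrimeCore p G) [Fintype K] (L : Subgroup G) (hL : L = Cfsg.pPrimePCore p G) (Q : Subgroup G) (hQL : Q ≤ L) (hQp : IsPGroup p Q) (hQS : ¬ p ∣ Q.relIndex L) (hCQ : Subgroup.centralizer (Q : Set G) ≤ L) (θ : Cfsg.IrrCharacter K) (hθ : ∀ g : G, Cfsg.IsConjCharOf K g (θ : K → ℂ) (θ : K → ℂ)) (B : Set (Cfsg.IrrCharacter G)) (hBdef : ∀ χ : Cfsg.IrrCharacter G, χ ∈ B ↔ Cfsg.classInner (fun k : K => (χ : G → ℂ) k) (θ : K → ℂ) ≠ 0) : Cfsg.IsPBlock M B ∧ (∀ S : Sylow p G, Cfsg.IsDefectGroup p M B S) ∧ ∀ R : Subgroup G, IsPGroup p R → ∃! f : Set (Cfsg.IrrCharacter (Subgroup.centralizer (R : Set G))), Cfsg.IsInducedBlock M (Subgroup.centralizer (R : Set G)) f B := by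
  classical
  have hp : Fact p.Prime := inferInstance
  subst hK
  have hpK : ¬ p ∣ Nat.card (Cfsg.pPrimeCore p G) := by
    have := Cfsg.Agent.Helper23.pPrimeCore_card_coprime p G
    rw [Nat.coprime_comm, Nat.Prime.coprime_iff_not_dvd hp.out] at this
    exact this
  have hQn : (Cfsg.pCore p (G ⧸ Cfsg.pPrimeCore p G)).Normal := Cfsg.pCore_normal p _
  obtain ⟨s, hs⟩ := Cfsg.Agent.Helper23.pCore_card p (G ⧸ Cfsg.pPrimeCore p G)
  have hL' : L = (Cfsg.pCore p (G ⧸ Cfsg.pPrimeCore p G)).comap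
      (QuotientGroup.mk' (Cfsg.pPrimeCore p G)) := hL
  haveI hLn : L.Normal := by
    rw [hL']
    exact Subgroup.Normal.comap hQn _
  have hKL : Cfsg.pPrimeCore p G ≤ L := by
    rw [hL']
    exact Cfsg.Agent.Helper23.le_comap_mk' _ _
  have hLs : Nat.card L = Nat.card (Cfsg.pPrimeCore p G) * p ^ s := by
    rw [hL', Cfsg.Agent.Helper23.card_comap_mk', ← hs]
  have hHH := Cfsg.Agent.Helper5.PrinType.hHH_of_centralizer_le (Cfsg.pPrimeCore p G) L Q hKL hpK s
    hLs hQL hQp hCQ
  have hinv : ∀ (g : G) (n : Cfsg.pPrimeCore p G),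
      (θ : Cfsg.pPrimeCore p G → ℂ)
        ⟨g * n * g⁻¹, (Cfsg.pPrimeCore_normal p G).conj_mem n n.2 g⟩ =
      (θ : Cfsg.pPrimeCore p G → ℂ) n :=
    fun g n => hθ g n _ rfl
  obtain ⟨B', hB', hB'mem, hB'syl, -⟩ :=
    Cfsg.Agent.Helper5.FongCover.fong_cover (Cfsg.pPrimeCore p G) hM hpK L hKL s hLs hHH θ hinv
  have hBB' : B = B' := by
    ext χ
    rw [hBdef, hB'mem]
  subst hBB'
  refine ⟨hB', hB'syl, ?_⟩
  intro R hR
  exact Cfsg.Agent.Helper5.PrinType.principal_type hM (Cfsg.pPrimeCore p G) L hKL hpK s hLs hHH θ hθ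
    B hB' hBdef R hR

end Cfsg.Agent.S4642
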