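import Cfsg.Statements.S4645
import Mathlib
import Cfsg.Agent.Helper23.AbelianCount
import Cfsg.Agent.Helper23.CyclicDefect
import Cfsg.Agent.Helper23.AbelianLocal
import Cfsg.Agent.Helper23.AbelianDefect

set_option autoImplicit false
open Cfsg

namespace Cfsg.Agent.S4645

/-- Let B be a block of the finite group G relative to a maximal ideal M of the algebraic integers containing the prime p, with a nontrivial cyclic defect group P; let c be a block of C_G(P) inducing B and T the stabilizer of c in N_G(P). Let Q be a nontrivial subgroup of P (so C_G(P) ≤ C_G(Q)), f the block of C_G(Q) induced by c inside C_G(Q), and T' the stabilizer of f in N_G(Q). Then T' = T·C_G(Q), the index of C_G(Q) in T' equals the index of C_G(P) in T, f has p-regular rank 1, and f is a nilpotent block of C_G(Q). -/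
theorem result {G : Type*} [Group G] [Finite G] (p : ℕ) [Fact p.Prime] (M : Ideal Cfsg.AlgInt) (hM : Cfsg.IsPModular p M) (B : Set (Cfsg.IrrCharacter G)) (hB : Cfsg.IsPBlock M B) (P : Subgroup G) (hPD : Cfsg.IsDefectGroup p M B P) (hP1 : P ≠ ⊥) (hcyc : IsCyclic P) (c : Set (Cfsg.IrrCharacter (Subgroup.centralizer (P : Set G)))) (hc : Cfsg.IsInducedBlock M (Subgroup.centralizer (P : Set G)) c B) (T : Subgroup G) (hT : ∀ g : G, g ∈ T ↔ (g ∈ Subgroup.normalizer (P : Set G) ∧ Cfsg.StabilizesBlock (Subgroup.centralizer (P : Set G)) c g)) (Q : Subgroup G) (hQP : Q ≤ P) (hQ1 : Q ≠ ⊥) (f : Set (Cfsg.IrrCharacter (Subgroup.centralizer (Q : Set G)))) (hf : Cfsg.IsInducedBlockIn M (Subgroup.centralizer (Q : Set G)) (Subgroup.centralizer (P : Set G)) c f) (T' : Subgroup G) (hT' : ∀ g : G, g ∈ T' ↔ (g ∈ Subgroup.normalizer (Q : Set G) ∧ Cfsg.StabilizesBlock (Subgroup.centralizer (Q : Set G)) f g)) : T' = T ⊔ Subgroup.centralizer (Q : Set G) ∧ (Subgroup.centralizer (Q : Set G)).relIndex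 T' = (Subgroup.centralizer (P : Set G)).relIndex T ∧ Cfsg.blockRank p f = 1 ∧ Cfsg.IsNilpotentBlock p M f := by
  classical
  have : Fintype G := Fintype.ofFinite _
  have hab : ∀ x ∈ P, ∀ y ∈ P, x * y = y * x := by
    intro x hx y hy
    have := (isMulCommutative_iff.mp hcyc.isMulCommutative) (⟨x, hx⟩ : P) ⟨y, hy⟩
    exact congrArg Subtype.val this
  have hmax := Cfsg.Agent.Helper23.MOD.isMaximalBrauerPair_of_defectGroup hM B P hPD c hc
  have hPc := hmax.1.1
  have hfB : Cfsg.IsPBlock M f := hf.2.1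
  have hle := (Cfsg.Agent.Helper23.AL.inducedIn_iff_subpairLE hM P Q hab hQP c hPc f hfB).mp hf
  obtain ⟨-, hCT, hTN⟩ := Cfsg.Agent.Helper23.ST.stab_basic P c T hT
  obtain ⟨-, hCT', hTN'⟩ := Cfsg.Agent.Helper23.ST.stab_basic Q f T' hT'
  have hn : ((Subgroup.centralizer (P : Set G)).subgroupOf T).Normal :=
    (Subgroup.normal_subgroupOf_iff_le_normalizer hCT).mpr (Cfsg.Agent.Helper23.SP.le_normalizer_centralizer hTN)
  obtain ⟨-, -, hfree⟩ :=
    Cfsg.Agent.Helper23.CD.inertial_quotient_cyclic hM B P hPD hP1 hcyc c hc T hT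
  -- `N_G(P) ≤ N_G(Q)`
  have hNPQ : Subgroup.normalizer (P : Set G) ≤ Subgroup.normalizer (Q : Set G) := by
    have key : ∀ g ∈ Subgroup.normalizer (P : Set G), ∀ q ∈ Q, g * q * g⁻¹ ∈ Q := by
      intro g hg q hq
      obtain ⟨m, hm⟩ := MonoidHom.map_cyclic
        ((P.normalizerMonoidHom ⟨g, hg⟩ : MulAut P).toMonoidHom)
      have h1 := hm ⟨q, hQP hq⟩
      have h2 : g * q * g⁻¹ = q ^ m := by
        have := congrArg Subtype.val h1
        simpa using this
      rw [h2]
      exact Q.zpow_mem hq m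
    intro g hg
    rw [Subgroup.mem_normalizer_iff]
    intro h
    constructor
    · intro hh
      exact key g hg h hh
    · intro hh
      have := key g⁻¹ (Subgroup.inv_mem _ hg) _ hh
      have e : g⁻¹ * (g * h * g⁻¹) * g⁻¹⁻¹ = h := by group
      rwa [e] at this
  -- `T ≤ T'`
  have hTT' : T ≤ T' := by
    intro y hy
    have hy' : y⁻¹ ∈ T := T.inv_mem hy
    have h1 := Cfsg.Agent.Helper23.AD.stabilizesBlock_of_mem_stab hM P c hPc Q f hQP hfB hle y⁻¹
      ((hT _).mp hy').1 (by rw [inv_inv]; exact ((hT _).mp hy).2) (hNPQ ((hT _).mp hy').1)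
    rw [inv_inv] at h1
    exact (hT' y).mpr ⟨hNPQ ((hT _).mp hy).1, h1⟩
  have hfac := Cfsg.Agent.Helper23.AD.stab_factorization hM B P c hmax hab Q f hQP hfB hle
    T' hT' T hT
  have hidx := Cfsg.Agent.Helper23.AD.stab_index hM B P c hmax hab Q f hQP hfB hle T' hT' T hT
  -- a nontrivial element of `Q`
  obtain ⟨⟨q, hq⟩, hq1⟩ := Subgroup.ne_bot_iff_exists_ne_one.mp hQ1
  have hq1' : q ≠ 1 := fun h => hq1 (Subtype.ext h)
  have hTCQ : T ⊓ Subgroup.centralizer (Q : Set G) = Subgroup.centralizer (P : Set G) := by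
    apply le_antisymm
    · rintro g ⟨hgT, hgQ⟩
      have hgq : g * q * g⁻¹ = q := by
        have := (Subgroup.mem_centralizer_iff.mp hgQ) q hq
        rw [← this, mul_inv_cancel_right]
      exact hfree g hgT q (hQP hq) hq1' hgq
    · exact le_inf hCT (Subgroup.centralizer_le hQP)
  have hTNQ : T ⊓ Subgroup.normalizer (Q : Set G) = T := inf_eq_left.mpr (hTN.trans hNPQ)
  have hPH : P ≤ Subgroup.centralizer (Q : Set G) :=
    Cfsg.Agent.Helper23.AD.le_centralizer_of_abelian hab hQP
  have hD := Cfsg.Agent.Helper23.AD.isDefectGroup_of_abelian hM B P c hmax hab Q f hQP hfB hle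
  have hnil : Cfsg.IsNilpotentBlock p M f :=
    (Cfsg.Agent.Helper23.AL.free_iff_local_nilpotent hM B P hPD hab c hc T hT).mp hfree Q hQP hQ1
      f hf
  have : Fintype (Subgroup.centralizer (Q : Set G)) := Fintype.ofFinite _
  have hcyc' : IsCyclic (P.subgroupOf (Subgroup.centralizer (Q : Set G))) :=
    (Subgroup.subgroupOfEquivOfLe hPH).isCyclic.mpr hcyc
  refine ⟨?_, ?_, ?_, hnil⟩
  · apply le_antisymm
    · intro x hx
      obtain ⟨y, hy, c', hc', hxyc⟩ := hfac x hx
      rw [hxyc]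
      exact Subgroup.mul_mem_sup hy hc'
    · exact sup_le hTT' hCT'
  · show ((Subgroup.centralizer (Q : Set G)).subgroupOf T').index =
      ((Subgroup.centralizer (P : Set G)).subgroupOf T).index
    rw [hidx, hTCQ, hTNQ]
  · exact Cfsg.Agent.Helper23.ACt.blockRank_eq_one_of_nilpotent_cyclic hM f hfB _ hD hcyc' hnil

end Cfsg.Agent.S4645
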