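import Cfsg.Statements.S4651
import Mathlib
import Cfsg.Agent.Helper23.ChainSumA
import Cfsg.Agent.Helper23.ChainSumC

set_option autoImplicit false
open Cfsg

namespace Cfsg.Agent.S4651

/-- An alternating-sum identity over chains of p-subgroups (the character-count form behind the chain reformulation of Alperin's weight conjecture, which holds unconditionally for the difference k − l). Let b be a block of the finite group G relative to a maximal ideal M of the algebraic integers containing the prime p. Consider the nonempty chains s = {Q_0 < Q_1 < ⋯ < Q_m} of nontrivial p-subgroups of G in which every member is normal in the largest member; let N_G(s) be the intersection of the normalizers of the members (the stabilizer of the chain), and let b_s be the set of irreducible characters of N_G(s) lying in blocks of N_G(s) that induce b. Then #G · (k(b) − l(b)) equals the sum over all such chains s of (−1)^m · #N_G(s) · (k(b_s) − l(b_s)),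 where k counts irreducible characters and l is the p-regular rank; equivalently, k(b) − l(b) is the alternating sum of k(b_s) − l(b_s) over representatives of the conjugacy classes of such chains. -/
theorem result {G : Type*} [Group G] [Finite G] (p : ℕ) [Fact p.Prime] (M : Ideal Cfsg.AlgInt) (hM : Cfsg.IsPModular p M) (b : Set (Cfsg.IrrCharacter G)) (hb : Cfsg.IsPBlock M b) : (Nat.card G : ℤ) * ((Nat.card b : ℤ) - (Cfsg.blockRank p b : ℤ)) = ∑ᶠ s ∈ {s : Finset (Subgroup G) | s.Nonempty ∧ (∀ Q ∈ s, ∀ R ∈ s, Q ≤ R ∨ R ≤ Q) ∧ (∀ Q ∈ s, Q ≠ ⊥ ∧ IsPGroup p Q) ∧ ∃ T ∈ s, ∀ Q ∈ s, Q ≤ T ∧ T ≤ Subgroup.normalizer ((Q : Subgroup G) : Set G)}, (-1 : ℤ) ^ (s.card - 1) * (Nat.card (((⨅ Q ∈ s, Subgroup.normalizer ((Q : Subgroup G) : Set G) : Subgroup G))) : ℤ) * ((Nat.card {ψ : Cfsg.IrrCharacter (((⨅ Q ∈ s, Subgroup.normalizer ((Q : Subgroup G) : Set G) : Subgroup G))) | ∃ β : Set (Cfsg.IrrCharacter (((⨅ Q ∈ s, Subgroup.normalizer ((Q : Subgroup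 G) : Set G) : Subgroup G)))), ψ ∈ β ∧ Cfsg.IsInducedBlock M (((⨅ Q ∈ s, Subgroup.normalizer ((Q : Subgroup G) : Set G) : Subgroup G))) β b} : ℤ) - (Cfsg.blockRank p {ψ : Cfsg.IrrCharacter (((⨅ Q ∈ s, Subgroup.normalizer ((Q : Subgroup G) : Set G) : Subgroup G))) | ∃ β : Set (Cfsg.IrrCharacter (((⨅ Q ∈ s, Subgroup.normalizer ((Q : Subgroup G) : Set G) : Subgroup G)))), ψ ∈ β ∧ Cfsg.IsInducedBlock M (((⨅ Q ∈ s, Subgroup.normalizer ((Q : Subgroup G) : Set G) : Subgroup G))) β b} : ℤ)) := by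
  classical
  have : Fintype G := Fintype.ofFinite G
  have : Fintype (Finset (Subgroup G)) := Fintype.ofFinite _
  set 𝒩 : Finset (Finset (Subgroup G)) :=
    Finset.univ.filter (fun s => Cfsg.Agent.Helper23.CS.IsNCh p s) with h𝒩def
  have h𝒩 : ∀ s, s ∈ 𝒩 ↔ Cfsg.Agent.Helper23.CS.IsNCh p s := by
    intro s
    rw [h𝒩def, Finset.mem_filter]
    exact ⟨fun h => h.2, fun h => ⟨Finset.mem_univ _, h⟩⟩
  set P : Finset G :=
    Finset.univ.filter (fun x : G => x ≠ 1 ∧ ∃ k : ℕ, orderOf x = p ^ k) with hPdef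
  have hP : ∀ x : G, x ∈ P ↔ x ≠ 1 ∧ ∃ k : ℕ, orderOf x = p ^ k := by
    intro x
    rw [hPdef, Finset.mem_filter]
    exact ⟨fun h => h.2, fun h => ⟨Finset.mem_univ _, h⟩⟩
  have key := Cfsg.Agent.Helper23.CS.chain_sum (p := p)
    (fun H : Subgroup G => (Nat.card H : ℤ) *
      ((Nat.card {ψ : Cfsg.IrrCharacter H | ∃ β : Set (Cfsg.IrrCharacter H),
          ψ ∈ β ∧ Cfsg.IsInducedBlock M H β b} : ℤ) -
       (Cfsg.blockRank p {ψ : Cfsg.IrrCharacter H | ∃ β : Set (Cfsg.IrrCharacter H),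
          ψ ∈ β ∧ Cfsg.IsInducedBlock M H β b} : ℤ)))
    (Cfsg.Agent.Helper23.CSC.Phi M p b)
    (fun H PH hPH => Cfsg.Agent.Helper23.CSC.partA hM b hb H PH hPH) 𝒩 h𝒩 P hP
  have hL := Cfsg.Agent.Helper23.CSB.allcount hM b hb P hP
  rw [hL]
  have hR : ∑ x ∈ P, (Nat.card (Subgroup.centralizer ({x} : Set G)) : ℤ) *
        ((∑ᶠ β ∈ {β : Set (Cfsg.IrrCharacter ↥(Subgroup.centralizer ({x} : Set G))) |
          Cfsg.IsInducedBlock M (Subgroup.centralizer ({x} : Set G)) β b},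
            Cfsg.blockRank p β : ℕ) : ℤ) =
      ∑ x ∈ P, Cfsg.Agent.Helper23.CSC.Phi M p b (Subgroup.centralizer ({x} : Set G)) := rfl
  rw [hR, ← key]
  rw [finsum_mem_eq_finite_toFinset_sum _ (Set.toFinite _)]
  have hset : (Set.toFinite {s : Finset (Subgroup G) | s.Nonempty ∧ (∀ Q ∈ s, ∀ R ∈ s, Q ≤ R ∨ R ≤ Q) ∧ (∀ Q ∈ s, Q ≠ ⊥ ∧ IsPGroup p Q) ∧ ∃ T ∈ s, ∀ Q ∈ s, Q ≤ T ∧ T ≤ Subgroup.normalizer ((Q : Subgroup G) : Set G)}).toFinset = 𝒩 := by
    ext s
    rw [Set.Finite.mem_toFinset, h𝒩]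
    rfl
  rw [hset]
  refine Finset.sum_congr rfl fun s _ => ?_
  rw [mul_assoc]
  rfl

end Cfsg.Agent.S4651
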