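import Cfsg.Statements.S4652
import Mathlib
import Cfsg.Agent.S0906
import Cfsg.Agent.Helper5.DefectGroups2
import Cfsg.Agent.Helper24.Linear

set_option autoImplicit false
open Cfsg

namespace Cfsg.Agent.S4652

/-- Fix a prime p and a maximal ideal M of the algebraic integers containing p. The defect groups of the principal p-block of a finite group G are exactly the Sylow p-subgroups of G: a subgroup D is a defect group of the principal block if and only if D is a Sylow p-subgroup. -/
theorem result {G : Type*} [Group G] [Fintype G] (p : ℕ) [Fact p.Prime] (M : Ideal Cfsg.AlgInt) (hM : Cfsg.IsPModular p M) (D : Subgroup G) : Cfsg.IsDefectGroup p M (Cfsg.principalBlock M G) D ↔ ∃ S : Sylow p G, (S : Subgroup G) = D := by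
  classical
  have : Fintype (Cfsg.IrrCharacter G) := Fintype.ofFinite _
  have hMp : M.IsPrime := Cfsg.Agent.Helper5.Loc.isPrime_of_isPModular hM
  have hp : p.Prime := Fact.out
  have htriv : Cfsg.Agent.Helper24.trivIrr G ∈ Cfsg.principalBlock M G :=
    Cfsg.Agent.Helper5.CC.sameBlock_refl hMp _
  have hBlock : Cfsg.IsPBlock M (Cfsg.principalBlock M G) := ⟨Cfsg.Agent.Helper24.trivIrr G, rfl⟩
  -- forward direction, as a reusable fact
  have hfwd : ∀ (g : G), Cfsg.IsDefectClass M (Cfsg.principalBlock M G) g →
      ∀ Q : Sylow p (Subgroup.centralizer ({g} : Set G)),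
      ∃ S : Sylow p G, (S : Subgroup G) =
        (Q : Subgroup (Subgroup.centralizer ({g} : Set G))).map
          (Subgroup.centralizer ({g} : Set G)).subtype := by
    intro g hg Q
    have h1 := hg.2.2 _ htriv
    have hidx : ¬ p ∣ (Subgroup.centralizer ({g} : Set G)).index := by
      intro hdvd
      apply h1
      unfold Cfsg.centralChar
      simp only [Cfsg.Agent.Helper24.trivIrr_apply, mul_one, div_one]
      obtain ⟨k, hk⟩ := hdvd
      have h2 : (((Subgroup.centralizer ({g} : Set G)).index : ℕ) : Cfsg.AlgInt) ∈ M := by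
        rw [hk]
        push_cast
        exact M.mul_mem_right _ hM.2.2
      have := Cfsg.Agent.Helper5.Loc.memLocalIdeal_of_mem hMp h2
      simpa using this
    have hQp : IsPGroup p ((Q : Subgroup (Subgroup.centralizer ({g} : Set G))).map
        (Subgroup.centralizer ({g} : Set G)).subtype) := Q.isPGroup'.map _
    have hQi : ¬ p ∣ ((Q : Subgroup (Subgroup.centralizer ({g} : Set G))).map
        (Subgroup.centralizer ({g} : Set G)).subtype).index := by
      rw [Subgroup.index_map_subtype]
      intro h
      rcases (Nat.Prime.dvd_mul hp).mp h with h1 | h1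
      · exact Q.not_dvd_index h1
      · exact hidx h1
    exact ⟨hQp.toSylow hQi, IsPGroup.toSylow_coe hQp hQi⟩
  constructor
  · rintro ⟨g, hg, Q, rfl⟩
    exact hfwd g hg Q
  · rintro ⟨S, rfl⟩
    obtain ⟨g, hg⟩ := Cfsg.Agent.S0906.result p M hM (Cfsg.principalBlock M G) hBlock
    obtain ⟨Q⟩ : Nonempty (Sylow p (Subgroup.centralizer ({g} : Set G))) := inferInstance
    obtain ⟨S₀, hS₀⟩ := hfwd g hg Q
    have hD₀ : Cfsg.IsDefectGroup p M (Cfsg.principalBlock M G) (S₀ : Subgroup G) := by
      rw [hS₀]; exact ⟨g, hg, Q, rfl⟩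
    obtain ⟨x, hx⟩ := MulAction.exists_smul_eq G S₀ S
    have h2 := Cfsg.Agent.Helper5.CC.isDefectGroup_map_cj hD₀ x
    have h3 : (S₀ : Subgroup G).map (Cfsg.Agent.Helper14.cj x) = (S : Subgroup G) := by
      rw [← hx]
      ext y
      rw [Cfsg.Agent.Helper14.mem_map_cj]
      exact (Cfsg.Agent.Helper14.mem_sylow_smul S₀ x y).symm
    rw [← h3]
    exact h2

end Cfsg.Agent.S4652
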