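import Cfsg.Statements.S4664
import Mathlib
import Cfsg.Agent.Helper5.BlockSupport
import Cfsg.Agent.Helper24.CharBasic
import Cfsg.Agent.Helper5.CharFacts

set_option autoImplicit false
open Cfsg

namespace Cfsg.Agent.S4664


open Cfsg.Agent.Helper24 Cfsg.Agent.Helper5 Cfsg.Agent.Helper5.Loc Cfsg.Agent.Helper5.CC


/-- Fix a prime p and a maximal ideal M of the algebraic integers containing p, and let B be a p-block of the finite group G. Let m be the p'-part of the order of G and η = exp(2πi/m). Then every coefficient of the idempotent of B lies in the cyclotomic field ℚ(η). -/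
theorem result {G : Type*} [Group G] [Fintype G] (p : ℕ) [Fact p.Prime] (M : Ideal Cfsg.AlgInt) (hM : Cfsg.IsPModular p M) (B : Set (Cfsg.IrrCharacter G)) (hB : Cfsg.IsPBlock M B) (g : G) : Cfsg.blockCoeff B g ∈ IntermediateField.adjoin ℚ ({Complex.exp (2 * Real.pi * Complex.I / ((Nat.card G / p ^ (Nat.card G).factorization p : ℕ) : ℂ))} : Set ℂ) := by
  classical
  have : Fintype (Cfsg.IrrCharacter G) := Fintype.ofFinite _
  have hp : p.Prime := Fact.out
  set a := (Nat.card G).factorization p with ha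
  set m := Nat.card G / p ^ a with hm
  have hG0 : Nat.card G ≠ 0 := Nat.card_pos.ne'
  have hmpos : 0 < m := Nat.ordCompl_pos p hG0
  have hGm : p ^ a * m = Nat.card G := Nat.ordProj_mul_ordCompl_eq_self (Nat.card G) p
  set η : ℂ := Complex.exp (2 * Real.pi * Complex.I / (m : ℂ)) with hη
  set K := IntermediateField.adjoin ℚ ({η} : Set ℂ) with hK
  have hηK : η ∈ K := IntermediateField.subset_adjoin ℚ _ (Set.mem_singleton η)
  have hprim : IsPrimitiveRoot η m := Complex.isPrimitiveRoot_exp m hmpos.ne'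
  have : NeZero m := ⟨hmpos.ne'⟩
  have hroot : ∀ μ : ℂ, μ ^ m = 1 → μ ∈ K := by
    intro μ hμ
    obtain ⟨i, -, rfl⟩ := hprim.eq_pow_of_pow_eq_one hμ
    exact pow_mem hηK i
  by_cases hsing : p ∣ orderOf g
  · rw [blockCoeff_eq_zero_of_singular hM hB g hsing]
    exact zero_mem K
  -- `g` is `p`-regular: its order divides `m`
  have hord : ∀ x : G, ¬ p ∣ orderOf x → orderOf x ∣ m := by
    intro x hx
    have h1 : orderOf x ∣ p ^ a * m := by rw [hGm]; exact orderOf_dvd_natCard x
    have hcop : (orderOf x).Coprime (p ^ a) :=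
      Nat.Coprime.pow_right a ((Nat.Prime.coprime_iff_not_dvd hp).mpr hx).symm
    exact hcop.dvd_of_dvd_mul_left h1
  have hchar : ∀ (χ : Cfsg.IrrCharacter G) (x : G), ¬ p ∣ orderOf x → (χ : G → ℂ) x ∈ K := by
    intro χ x hx
    obtain ⟨n, ρ, -, hρ⟩ := χ.2
    rw [← hρ, char_eq_sum_eigen ρ x]
    apply sum_mem
    intro μ hμ
    apply mul_mem _ (natCast_mem K _)
    apply hroot
    have h1 := rho_eigenvalue_pow ρ x (mem_eigenFinset.mp hμ)
    obtain ⟨c, hc⟩ := hord x hx
    rw [hc, pow_mul, h1, one_pow]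
  have hinv : ¬ p ∣ orderOf g⁻¹ := by rw [orderOf_inv]; exact hsing
  rw [blockCoeff_eq]
  apply mul_mem
  · exact inv_mem (natCast_mem K _)
  · apply sum_mem
    intro χ _
    apply mul_mem
    · split_ifs
      · exact one_mem K
      · exact zero_mem K
    · apply mul_mem (hchar χ 1 (by rw [orderOf_one]; exact hp.one_lt.ne' ∘ Nat.dvd_one.mp))
      rw [← Cfsg.Agent.Helper5.irr_inv χ g]
      exact hchar χ g⁻¹ hinv

end Cfsg.Agent.S4664
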