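import Cfsg.Statements.S4665
import Mathlib
import Cfsg.Agent.Helper23.CharOrtho

set_option autoImplicit false
open Cfsg

namespace Cfsg.Agent.S4665

/-- The sum of an irreducible character over a subgroup is the order of the subgroup times a
natural number (the dimension of the fixed space). -/
theorem sum_subgroup_irr {G : Type*} [Group G] [Fintype G] (P : Subgroup G) [Fintype P]
    (ψ : Cfsg.IrrCharacter G) :
    ∃ d : ℕ, ∑ x : P, (ψ : G → ℂ) x = (Nat.card P : ℂ) * d := by
  obtain ⟨ψf, n, ρ, -, rfl⟩ := ψ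
  let τ : Representation ℂ P (Fin n → ℂ) := ρ.comp P.subtype
  have hne : (Nat.card P : ℂ) ≠ 0 := by exact_mod_cast Nat.card_pos.ne'
  have : Invertible (Nat.card P : ℂ) := invertibleOfNonzero hne
  have h := Representation.card_inv_mul_sum_char_eq_finrank τ
  refine ⟨Module.finrank ℂ (Representation.invariants τ), ?_⟩
  rw [← h, ← mul_assoc, mul_inv_cancel₀ hne, one_mul]
  rfl

theorem sum_subgroup_int_comb {G : Type*} [Group G] [Fintype G] (P : Subgroup G) [Fintype P]
    (B : Set (Cfsg.IrrCharacter G)) (n : Cfsg.IrrCharacter G → ℤ) :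
    ∃ k : ℤ, ∑ x : P, ∑ᶠ ψ ∈ B, (n ψ : ℂ) * (ψ : G → ℂ) x = (Nat.card P : ℂ) * k := by
  classical
  have hfin : Finite (Cfsg.IrrCharacter G) := Cfsg.Agent.Helper23.finite_irrCharacter G
  have : Fintype (Cfsg.IrrCharacter G) := Fintype.ofFinite _
  choose d hd using sum_subgroup_irr P
  refine ⟨∑ ψ ∈ B.toFinset, n ψ * (d ψ : ℤ), ?_⟩
  have h1 : ∀ x : P, ∑ᶠ ψ ∈ B, (n ψ : ℂ) * (ψ : G → ℂ) x =
      ∑ ψ ∈ B.toFinset, (n ψ : ℂ) * (ψ : G → ℂ) x := fun x => finsum_mem_eq_toFinset_sum _ _
  simp_rw [h1]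
  rw [Finset.sum_comm]
  push_cast
  rw [Finset.mul_sum]
  refine Finset.sum_congr rfl ?_
  intro ψ _
  rw [← Finset.mul_sum, hd ψ]
  ring


/-- Fix a prime p, a maximal ideal M of the algebraic integers containing p, and a p-block B of the finite group G, and let p^a be the p-part of the order of G. Let χ be an integer combination of the irreducible characters in B. If the function that agrees with χ on p-regular elements and vanishes on p-singular elements is again an integer combination of the irreducible characters in B, then p^a divides χ(1). -/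
theorem result {G : Type*} [Group G] [Fintype G] (p : ℕ) [Fact p.Prime] (M : Ideal Cfsg.AlgInt) (hM : Cfsg.IsPModular p M) (B : Set (Cfsg.IrrCharacter G)) (hB : Cfsg.IsPBlock M B) (χ : G → ℂ) (hχ : (∃ n : Cfsg.IrrCharacter G → ℤ, ∀ g : G, χ g = ∑ᶠ ψ ∈ B, (n ψ : ℂ) * (ψ : G → ℂ) g)) (h0 : (∃ n : Cfsg.IrrCharacter G → ℤ, ∀ g : G, Cfsg.pRegularPart p χ g = ∑ᶠ ψ ∈ B, (n ψ : ℂ) * (ψ : G → ℂ) g)) : ∃ k : ℤ, χ 1 = (p ^ (Nat.card G).factorization p : ℂ) * k := by
  classical
  obtain ⟨n, hn⟩ := h0
  let P : Sylow p G := default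
  obtain ⟨k, hk⟩ := sum_subgroup_int_comb (P : Subgroup G) B n
  refine ⟨k, ?_⟩
  have hcard : Nat.card (P : Subgroup G) = p ^ (Nat.card G).factorization p :=
    P.card_eq_multiplicity
  rw [hcard] at hk
  push_cast at hk
  rw [← hk]
  -- the sum over P of the p-regular part is χ 1
  have hsum : ∑ x : (P : Subgroup G), Cfsg.pRegularPart p χ x = χ 1 := by
    rw [Finset.sum_eq_single (1 : (P : Subgroup G))]
    · unfold Cfsg.pRegularPart Cfsg.IsPRegular
      simp only [Subgroup.coe_one, orderOf_one]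
      rw [if_pos]
      exact (Fact.out : p.Prime).not_dvd_one
    · intro x _ hx
      unfold Cfsg.pRegularPart Cfsg.IsPRegular
      rw [if_neg]
      rw [not_not]
      obtain ⟨j, hj⟩ := (IsPGroup.iff_orderOf.mp P.isPGroup') x
      rw [Subgroup.orderOf_coe, hj]
      rcases j with _ | j
      · exfalso; apply hx
        rw [pow_zero, orderOf_eq_one_iff] at hj
        exact hj
      · rw [pow_succ]; exact dvd_mul_left p _
    · intro h; exact absurd (Finset.mem_univ _) h
  rw [← hsum]
  refine Finset.sum_congr rfl ?_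
  intro x _
  exact hn x

end Cfsg.Agent.S4665
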