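import Cfsg.Statements.S4666
import Cfsg.Agent.Helper5.BlockLattice

set_option autoImplicit false
open Cfsg

namespace Cfsg.Agent.S4666

/-- Fix a prime p and a maximal ideal M of the algebraic integers containing p, and a p-block B of the finite group G of defect d. For every integer combination χ of the irreducible characters in B, p^d times the function that agrees with χ on p-regular elements and vanishes elsewhere is again an integer combination of the irreducible characters in B. -/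
theorem result {G : Type*} [Group G] [Fintype G] (p : ℕ) [Fact p.Prime] (M : Ideal Cfsg.AlgInt) (hM : Cfsg.IsPModular p M) (B : Set (Cfsg.IrrCharacter G)) (hB : Cfsg.IsPBlock M B) (χ : G → ℂ) (hχ : (∃ n : Cfsg.IrrCharacter G → ℤ, ∀ g : G, χ g = ∑ᶠ ψ ∈ B, (n ψ : ℂ) * (ψ : G → ℂ) g)) : (∃ n : Cfsg.IrrCharacter G → ℤ, ∀ g : G, (p ^ Cfsg.blockDefect p B : ℂ) * Cfsg.pRegularPart p χ g = ∑ᶠ ψ ∈ B, (n ψ : ℂ) * (ψ : G → ℂ) g) := by
  classical
  have : Fintype (Cfsg.IrrCharacter G) := Fintype.ofFinite _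
  obtain ⟨n, hn⟩ := hχ
  have hK : ∀ χ₁ : Cfsg.IrrCharacter G, ∃ k : Cfsg.IrrCharacter G → ℤ, χ₁ ∈ B → ∀ g : G,
      ((p ^ Cfsg.blockDefect p B : ℕ) : ℂ) *
      (Cfsg.Agent.Helper5.CC.regInd p g * (χ₁ : G → ℂ) g) =
      ∑ ψ : Cfsg.IrrCharacter G, if ψ ∈ B then (k ψ : ℂ) * (ψ : G → ℂ) g else 0 := by
    intro χ₁
    by_cases h : χ₁ ∈ B
    · obtain ⟨k, hk⟩ :=
        Cfsg.Agent.Helper5.BLat.exists_int_coeff_pow_defect_mul_regular hM hB χ₁ h
      exact ⟨k, fun _ => hk⟩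
    · exact ⟨fun _ => 0, fun h' => absurd h' h⟩
  choose K hK using hK
  refine ⟨fun ψ => ∑ χ₁ : Cfsg.IrrCharacter G, if χ₁ ∈ B then n χ₁ * K χ₁ ψ else 0, fun g => ?_⟩
  have hreg : Cfsg.pRegularPart p χ g = Cfsg.Agent.Helper5.CC.regInd p g * χ g := by
    unfold Cfsg.pRegularPart Cfsg.IsPRegular
    by_cases hg : p ∣ orderOf g
    · rw [if_neg (not_not.mpr hg), Cfsg.Agent.Helper5.CC.regInd_of_dvd hg, zero_mul]
    · rw [if_pos hg, Cfsg.Agent.Helper5.CC.regInd_of_not_dvd hg, one_mul]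
  rw [hreg, hn g, Cfsg.Agent.Helper5.CC.finsum_mem_eq_sum_ite,
    Cfsg.Agent.Helper5.CC.finsum_mem_eq_sum_ite]
  have e1 : (p ^ Cfsg.blockDefect p B : ℂ) * (Cfsg.Agent.Helper5.CC.regInd p g *
      ∑ i : Cfsg.IrrCharacter G, if i ∈ B then (n i : ℂ) * (i : G → ℂ) g else 0) =
      ∑ χ₁ : Cfsg.IrrCharacter G, if χ₁ ∈ B then (n χ₁ : ℂ) *
        ∑ ψ : Cfsg.IrrCharacter G, (if ψ ∈ B then (K χ₁ ψ : ℂ) * (ψ : G → ℂ) g else 0) else 0 := by
    rw [Finset.mul_sum, Finset.mul_sum]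
    refine Finset.sum_congr rfl fun χ₁ _ => ?_
    by_cases h : χ₁ ∈ B
    · rw [if_pos h, if_pos h, ← hK χ₁ h g]
      push_cast
      ring
    · rw [if_neg h, if_neg h]; ring
  rw [e1]
  have e2 : ∀ χ₁ : Cfsg.IrrCharacter G, (if χ₁ ∈ B then (n χ₁ : ℂ) *
        ∑ ψ : Cfsg.IrrCharacter G, (if ψ ∈ B then (K χ₁ ψ : ℂ) * (ψ : G → ℂ) g else 0) else 0) =
      ∑ ψ : Cfsg.IrrCharacter G, if ψ ∈ B then
        ((if χ₁ ∈ B then n χ₁ * K χ₁ ψ else 0 : ℤ) : ℂ) * (ψ : G → ℂ) g else 0 := by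
    intro χ₁
    by_cases h : χ₁ ∈ B
    · rw [if_pos h, Finset.mul_sum]
      refine Finset.sum_congr rfl fun ψ _ => ?_
      by_cases hψ : ψ ∈ B
      · rw [if_pos hψ, if_pos hψ, if_pos h]; push_cast; ring
      · rw [if_neg hψ, if_neg hψ]; ring
    · rw [if_neg h]
      symm
      apply Finset.sum_eq_zero
      intro ψ _
      rw [if_neg h]
      simp
  rw [Finset.sum_congr rfl (fun χ₁ _ => e2 χ₁), Finset.sum_comm]
  refine Finset.sum_congr rfl fun ψ _ => ?_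
  by_cases hψ : ψ ∈ B
  · simp only [if_pos hψ]
    rw [← Finset.sum_mul]
    push_cast
    rfl
  · simp only [if_neg hψ, Finset.sum_const_zero]

end Cfsg.Agent.S4666
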