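import Cfsg.Statements.S4733
import Mathlib
import Cfsg.Agent.S0914
import Cfsg.Agent.Helper5.BlockOrth
import Cfsg.Agent.Helper24.Restrict
import Cfsg.Agent.Helper24.SmallDegree
import Cfsg.Agent.Helper23.PPrimeDeg

set_option autoImplicit false
open Cfsg

namespace Cfsg.Agent.S4733


open Cfsg.Agent.Helper24 Cfsg.Agent.Helper5 Cfsg.Agent.Helper5.Loc Cfsg.Agent.Helper5.CC

/-- the `p`-regular part does not vanish at `1` -/
theorem pRegularPart_one {G : Type*} [Group G] (p : ℕ) [hp : Fact p.Prime] (f : G → ℂ) :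
    Cfsg.pRegularPart p f 1 = f 1 := by
  unfold Cfsg.pRegularPart
  rw [if_pos]
  unfold Cfsg.IsPRegular
  rw [orderOf_one]
  exact hp.out.one_lt.ne' ∘ Nat.dvd_one.mp

theorem pRegularPart_of_dvd {G : Type*} [Group G] (p : ℕ) (f : G → ℂ) {x : G}
    (hx : p ∣ orderOf x) : Cfsg.pRegularPart p f x = 0 := by
  unfold Cfsg.pRegularPart
  rw [if_neg]
  unfold Cfsg.IsPRegular
  exact not_not.mpr hx

theorem pRegularPart_of_not_dvd {G : Type*} [Group G] (p : ℕ) (f : G → ℂ) {x : G}
    (hx : ¬ p ∣ orderOf x) : Cfsg.pRegularPart p f x = f x := by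
  unfold Cfsg.pRegularPart
  rw [if_pos]
  exact hx

/-- defect zero criterion for a character in terms of the `p`-adic valuation of its degree -/
theorem not_dvd_div_iff {G : Type*} [Group G] [Finite G] (p : ℕ) [hp : Fact p.Prime]
    (χ : Cfsg.IrrCharacter G) :
    ¬ p ∣ Nat.card G / Cfsg.charDegree (χ : G → ℂ) ↔
      (Nat.card G).factorization p ≤ (Cfsg.charDegree (χ : G → ℂ)).factorization p := by
  rw [Cfsg.Agent.Helper23.charDegree_eq_irrDeg]
  have hd := irrDeg_dvd_card χ
  have hpos := irrDeg_pos χ
  have hG : 0 < Nat.card G := Nat.card_pos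
  have hq : Nat.card G / irrDeg χ ≠ 0 := by
    obtain ⟨k, hk⟩ := hd
    rw [hk, Nat.mul_div_cancel_left _ hpos]
    rintro rfl
    omega
  have h1 : (Nat.card G / irrDeg χ).factorization p =
      (Nat.card G).factorization p - (irrDeg χ).factorization p := by
    rw [Nat.factorization_div hd]
    rfl
  constructor
  · intro h
    have h2 : (Nat.card G / irrDeg χ).factorization p = 0 :=
      Nat.factorization_eq_zero_of_not_dvd h
    omega
  · intro h hdvd
    have h2 : 0 < (Nat.card G / irrDeg χ).factorization p :=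
      hp.out.factorization_pos_of_dvd hq hdvd
    omega


/-- Let p be a prime, M a maximal ideal of the algebraic integers containing p, and B a p-block of the finite group G with k irreducible characters and p-regular rank l (the number of irreducible Brauer characters). Then l ≤ k, and the following are equivalent: B has defect 0; k = l = 1; k = l. -/
theorem result {G : Type*} [Group G] [Finite G] (p : ℕ) [Fact p.Prime] (M : Ideal Cfsg.AlgInt) (hM : Cfsg.IsPModular p M) (B : Set (Cfsg.IrrCharacter G)) (hB : Cfsg.IsPBlock M B) : Cfsg.blockRank p B ≤ Nat.card B ∧ (Cfsg.blockDefect p B = 0 ↔ (Nat.card B = 1 ∧ Cfsg.blockRank p B = 1)) ∧ (Cfsg.blockDefect p B = 0 ↔ Nat.card B = Cfsg.blockRank p B) := by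
  classical
  have : Fintype G := Fintype.ofFinite G
  have : Fintype (Cfsg.IrrCharacter G) := Fintype.ofFinite _
  have hMp := isPrime_of_isPModular hM
  have hp : p.Prime := Fact.out
  set a := (Nat.card G).factorization p with ha
  set F : Cfsg.IrrCharacter G → (G → ℂ) := fun χ => Cfsg.pRegularPart p (χ : G → ℂ) with hF
  have hFne : ∀ χ : Cfsg.IrrCharacter G, F χ ≠ 0 := by
    intro χ h0
    have := congrFun h0 1
    simp only [hF, Pi.zero_apply] at this
    rw [pRegularPart_one] at this
    exact irr_one_ne_zero χ this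
  obtain ⟨χ₁, hχ₁⟩ := IsPBlock.nonempty hMp hB
  -- defect zero in terms of valuations
  have hdef : Cfsg.blockDefect p B = 0 ↔
      ∀ χ ∈ B, a ≤ (Cfsg.charDegree (χ : G → ℂ)).factorization p := by
    unfold Cfsg.blockDefect
    set S := (fun χ : Cfsg.IrrCharacter G => (Cfsg.charDegree (χ : G → ℂ)).factorization p) '' B
      with hS
    have hSne : S.Nonempty := ⟨_, χ₁, hχ₁, rfl⟩
    rw [Nat.sub_eq_zero_iff_le]
    constructor
    · intro h χ hχ
      exact le_trans h (Nat.sInf_le ⟨χ, hχ, rfl⟩)
    · intro h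
      obtain ⟨χ, hχ, hχe⟩ := Nat.sInf_mem hSne
      rw [← hχe]
      exact h χ hχ
  have hsingle : ∀ χ ∈ B, (a ≤ (Cfsg.charDegree (χ : G → ℂ)).factorization p ↔ B = {χ}) := by
    intro χ hχ
    rw [← not_dvd_div_iff, Cfsg.Agent.S0914.result p M hM χ, ← IsPBlock_eq_blockOf hMp hB hχ]
  have hrank_single : ∀ χ : Cfsg.IrrCharacter G, B = {χ} → Cfsg.blockRank p B = 1 := by
    intro χ hBχ
    unfold Cfsg.blockRank
    rw [hBχ, Set.image_singleton]
    exact finrank_span_singleton (hFne χ)
  have hcard_single : ∀ χ : Cfsg.IrrCharacter G, B = {χ} → Nat.card B = 1 := by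
    intro χ hBχ
    rw [hBχ]
    simp
  have hdef1 : Cfsg.blockDefect p B = 0 → ∃ χ, B = {χ} := by
    intro h
    exact ⟨χ₁, (hsingle χ₁ hχ₁).mp ((hdef.mp h) χ₁ hχ₁)⟩
  have hdef2 : ∀ χ, B = {χ} → Cfsg.blockDefect p B = 0 := by
    intro χ hBχ
    rw [hdef]
    intro χ' hχ'
    have hχ'' : χ' ∈ B := hχ'
    rw [hBχ, Set.mem_singleton_iff] at hχ'
    subst hχ'
    exact (hsingle χ' hχ'').mpr hBχ
  refine ⟨?_, ?_, ?_⟩
  · -- rank ≤ card
    unfold Cfsg.blockRank
    have hfinB : B.Finite := Set.toFinite B
    have : Fintype (F '' B) := Fintype.ofFinite _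
    calc Module.finrank ℂ (Submodule.span ℂ (F '' B)) ≤ (F '' B).toFinset.card :=
          finrank_span_le_card (F '' B)
      _ = Nat.card (F '' B) := by rw [Nat.card_eq_fintype_card, Set.toFinset_card]
      _ ≤ Nat.card B := by
          rw [Nat.card_coe_set_eq, Nat.card_coe_set_eq]
          exact Set.ncard_image_le hfinB
  · constructor
    · intro h
      obtain ⟨χ, hBχ⟩ := hdef1 h
      exact ⟨hcard_single χ hBχ, hrank_single χ hBχ⟩
    · rintro ⟨hc, -⟩
      rw [Nat.card_coe_set_eq, Set.ncard_eq_one] at hc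
      obtain ⟨χ, hBχ⟩ := hc
      exact hdef2 χ hBχ
  · constructor
    · intro h
      obtain ⟨χ, hBχ⟩ := hdef1 h
      rw [hcard_single χ hBχ, hrank_single χ hBχ]
    · intro hkl
      -- linear independence of the `p`-regular parts
      have : Fintype B := Fintype.ofFinite _
      let v : B → (G → ℂ) := fun χ => F χ
      have hrange : Set.range v = F '' B := by
        ext f
        constructor
        · rintro ⟨χ, rfl⟩
          exact ⟨χ.1, χ.2, rfl⟩
        · rintro ⟨χ, hχ, rfl⟩
          exact ⟨⟨χ, hχ⟩, rfl⟩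
      have hli : LinearIndependent ℂ v := by
        rw [linearIndependent_iff_card_eq_finrank_span, hrange, ← Nat.card_eq_fintype_card, hkl]
        rfl
      rw [Fintype.linearIndependent_iff] at hli
      -- every member of `B` vanishes on `p`-singular elements
      have hvan : ∀ χ ∈ B, ∀ y : G, p ∣ orderOf y → (χ : G → ℂ) y = 0 := by
        intro χ hχ y hy
        have hsum : ∑ ψ : B, (starRingEnd ℂ) ((ψ.1 : G → ℂ) y) • v ψ = 0 := by
          funext x
          rw [Finset.sum_apply, Pi.zero_apply]
          simp only [Pi.smul_apply, smul_eq_mul, v, hF]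
          by_cases hx : p ∣ orderOf x
          · apply Finset.sum_eq_zero
            intro ψ _
            rw [pRegularPart_of_dvd p _ hx, mul_zero]
          · have h0 := block_orthogonality hM hB x y hx hy
            rw [← h0]
            rw [← Finset.sum_subtype (Finset.univ.filter (fun ψ : Cfsg.IrrCharacter G => ψ ∈ B))
              (fun ψ => by simp)
              (fun ψ : Cfsg.IrrCharacter G => (starRingEnd ℂ) ((ψ : G → ℂ) y) *
                Cfsg.pRegularPart p (ψ : G → ℂ) x), Finset.sum_filter]
            refine Finset.sum_congr rfl fun ψ _ => ?_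
            by_cases hψ : ψ ∈ B
            · rw [if_pos hψ, if_pos hψ, one_mul, pRegularPart_of_not_dvd p _ hx, mul_comm]
            · rw [if_neg hψ, if_neg hψ, zero_mul]
        have := hli _ hsum ⟨χ, hχ⟩
        simpa using this
      rw [hdef]
      intro χ hχ
      obtain ⟨P⟩ : Nonempty (Sylow p G) := inferInstance
      obtain ⟨k, hk⟩ := card_dvd_apply_one_of_vanish (P : Subgroup G) (χ : G → ℂ)
        (Cfsg.Agent.Helper24.IsIrrCharacter.isCharacter χ.2) (by
          intro g hg hg1
          apply hvan χ hχ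
          obtain ⟨m, hm⟩ := (IsPGroup.iff_orderOf.mp P.2) ⟨g, hg⟩
          rw [Subgroup.orderOf_mk] at hm
          rw [hm]
          cases m with
          | zero =>
            rw [pow_zero, orderOf_eq_one_iff] at hm
            exact absurd hm hg1
          | succ m => exact dvd_pow_self p (Nat.succ_ne_zero m))
      rw [Cfsg.Agent.Helper23.charDegree_eq_irrDeg]
      have hdeg : irrDeg χ = Nat.card (P : Subgroup G) * k := by
        have := irrDeg_spec χ
        rw [hk] at this
        exact_mod_cast this.symm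
      have hk0 : k ≠ 0 := by
        rintro rfl
        rw [mul_zero] at hdeg
        exact (irrDeg_pos χ).ne' hdeg
      have hcardP : Nat.card (P : Subgroup G) = p ^ a := P.card_eq_multiplicity
      rw [hdeg, hcardP, Nat.factorization_mul (pow_ne_zero _ hp.ne_zero) hk0]
      simp [hp.factorization_self]

end Cfsg.Agent.S4733
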