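import Cfsg.Statements.S4667
import Mathlib
import Cfsg.Agent.S0952
import Cfsg.Agent.S4733
import Cfsg.Agent.Helper24.Span
import Cfsg.Agent.Helper5.CharFacts

set_option autoImplicit false
open Cfsg

namespace Cfsg.Agent.S4667


open Cfsg.Agent.Helper24 Cfsg.Agent.Helper5 Cfsg.Agent.Helper5.Loc Cfsg.Agent.Helper5.CC
open Cfsg.Agent.S4733 (pRegularPart_one pRegularPart_of_dvd pRegularPart_of_not_dvd)

/-- the functional `f ↦ ⟨f, ψ⟩` -/
noncomputable def innerFunctional {G : Type*} [Group G] [Fintype G] (ψ : G → ℂ) :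
    (G → ℂ) →ₗ[ℂ] ℂ where
  toFun f := Cfsg.classInner f ψ
  map_add' f g := classInner_add_left f g ψ
  map_smul' c f := by
    simp only [RingHom.id_apply, smul_eq_mul]
    exact classInner_smul_left c f ψ

theorem isClassFunction_pRegularPart {G : Type*} [Group G] (p : ℕ) {f : G → ℂ}
    (hf : Cfsg.IsClassFunction G f) : Cfsg.IsClassFunction G (Cfsg.pRegularPart p f) := by
  intro g h
  have ho : orderOf (h * g * h⁻¹) = orderOf g := by
    have := (MulAut.conj h).orderOf_eq g
    rwa [MulAut.conj_apply] at this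
  by_cases hg : p ∣ orderOf g
  · rw [pRegularPart_of_dvd p f hg, pRegularPart_of_dvd p f (by rw [ho]; exact hg)]
  · rw [pRegularPart_of_not_dvd p f hg, pRegularPart_of_not_dvd p f (by rw [ho]; exact hg), hf]

/-- `⟨χ⁰, ψ⟩ = 0` for characters in different blocks -/
theorem classInner_pRegularPart_eq_zero {G : Type*} [Group G] [Fintype G] (p : ℕ) [Fact p.Prime]
    (M : Ideal Cfsg.AlgInt) (hM : Cfsg.IsPModular p M) (χ ψ : Cfsg.IrrCharacter G)
    (h : ¬ Cfsg.SameBlock M (χ : G → ℂ) (ψ : G → ℂ)) :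
    Cfsg.classInner (Cfsg.pRegularPart p (χ : G → ℂ)) (ψ : G → ℂ) = 0 := by
  classical
  have h0 := Cfsg.Agent.S0952.result p M hM χ ψ h
  rw [finsum_mem_eq_sum_ite] at h0
  unfold Cfsg.classInner
  have : ∑ g : G, Cfsg.pRegularPart p (χ : G → ℂ) g * (starRingEnd ℂ) ((ψ : G → ℂ) g) =
      ∑ i : G, if i ∈ {x : G | ¬ p ∣ orderOf x} then
        (χ : G → ℂ) i * (starRingEnd ℂ) ((ψ : G → ℂ) i) else 0 := by
    refine Finset.sum_congr rfl fun g _ => ?_
    by_cases hg : p ∣ orderOf g
    · rw [pRegularPart_of_dvd p _ hg, zero_mul, if_neg]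
      simpa using hg
    · rw [pRegularPart_of_not_dvd p _ hg, if_pos]
      simpa using hg
  rw [this, h0, mul_zero]


/-- Fix a prime p and a maximal ideal M of the algebraic integers containing p, and a p-block B of the finite group G. The p-regular rank of B (the number of irreducible Brauer characters in B) times the order of G equals the sum over the p-regular elements x of G of Σ_{χ ∈ B} χ(x) χ(x⁻¹) (written with the restriction of χ to p-regular elements, which vanishes at p-singular x). -/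
theorem result {G : Type*} [Group G] [Fintype G] (p : ℕ) [Fact p.Prime] (M : Ideal Cfsg.AlgInt) (hM : Cfsg.IsPModular p M) (B : Set (Cfsg.IrrCharacter G)) (hB : Cfsg.IsPBlock M B) : (Nat.card G : ℂ) * (Cfsg.blockRank p B : ℂ) = ∑ x : G, ∑ᶠ χ ∈ B, Cfsg.pRegularPart p (χ : G → ℂ) x * (χ : G → ℂ) x⁻¹ := by
  classical
  have : Fintype (Cfsg.IrrCharacter G) := Fintype.ofFinite _
  have hMp := isPrime_of_isPModular hM
  set F : Cfsg.IrrCharacter G → (G → ℂ) := fun χ => Cfsg.pRegularPart p (χ : G → ℂ) with hF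
  set W : Submodule ℂ (G → ℂ) := Submodule.span ℂ (F '' B) with hW
  -- the projection onto `W`
  let Prj : (G → ℂ) →ₗ[ℂ] (G → ℂ) :=
    ∑ ψ ∈ Finset.univ.filter (fun ψ : Cfsg.IrrCharacter G => ψ ∈ B),
      (innerFunctional (ψ : G → ℂ)).smulRight (F ψ)
  have hPrj_apply : ∀ f : G → ℂ, Prj f = ∑ ψ ∈ Finset.univ.filter
      (fun ψ : Cfsg.IrrCharacter G => ψ ∈ B), Cfsg.classInner f (ψ : G → ℂ) • F ψ := by
    intro f
    simp only [Prj, LinearMap.sum_apply, LinearMap.smulRight_apply]
    rfl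
  -- `Pi` fixes the generators
  have hfix : ∀ χ ∈ B, Prj (F χ) = F χ := by
    intro χ hχ
    have hcf : Cfsg.IsClassFunction G (F χ) :=
      isClassFunction_pRegularPart p (isClassFunction_irr χ)
    have hexp := IsClassFunction.eq_sum_classInner hcf
    have hexp' : F χ = ∑ ψ ∈ Finset.univ.filter (fun ψ : Cfsg.IrrCharacter G => ψ ∈ B),
        Cfsg.classInner (F χ) (ψ : G → ℂ) • (ψ : G → ℂ) := by
      rw [Finset.sum_filter]
      conv_lhs => rw [hexp]
      refine Finset.sum_congr rfl fun ψ _ => ?_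
      by_cases hψ : ψ ∈ B
      · rw [if_pos hψ]
      · rw [if_neg hψ]
        have hns : ¬ Cfsg.SameBlock M (χ : G → ℂ) (ψ : G → ℂ) := by
          intro hs
          apply hψ
          obtain ⟨χ₀, rfl⟩ := hB
          exact sameBlock_trans hMp hχ hs
        rw [classInner_pRegularPart_eq_zero p M hM χ ψ hns, zero_smul]
    rw [hPrj_apply]
    funext x
    rw [Finset.sum_apply]
    by_cases hx : p ∣ orderOf x
    · have : F χ x = 0 := pRegularPart_of_dvd p _ hx
      rw [this]
      apply Finset.sum_eq_zero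
      intro ψ _
      simp only [Pi.smul_apply, smul_eq_mul, hF]
      rw [pRegularPart_of_dvd p _ hx, mul_zero]
    · have h1 := congrFun hexp' x
      rw [Finset.sum_apply] at h1
      conv_rhs => rw [h1]
      refine Finset.sum_congr rfl fun ψ _ => ?_
      simp only [Pi.smul_apply, smul_eq_mul, hF]
      rw [pRegularPart_of_not_dvd p _ hx]
  have hproj : LinearMap.IsProj W Prj := by
    constructor
    · intro f
      rw [hPrj_apply]
      apply Submodule.sum_mem
      intro ψ hψ
      apply Submodule.smul_mem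
      apply Submodule.subset_span
      exact ⟨ψ, (Finset.mem_filter.mp hψ).2, rfl⟩
    · intro f hf
      have hle : W ≤ LinearMap.eqLocus Prj LinearMap.id := by
        rw [hW, Submodule.span_le]
        rintro _ ⟨χ, hχ, rfl⟩
        exact hfix χ hχ
      exact hle hf
  have htr := hproj.trace
  have htr2 : LinearMap.trace ℂ (G → ℂ) Prj =
      ∑ ψ ∈ Finset.univ.filter (fun ψ : Cfsg.IrrCharacter G => ψ ∈ B),
        Cfsg.classInner (F ψ) (ψ : G → ℂ) := by
    simp only [Prj, map_sum, LinearMap.trace_smulRight]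
    rfl
  have hrank : Cfsg.blockRank p B = Module.finrank ℂ W := rfl
  rw [hrank, ← htr, htr2, Finset.mul_sum]
  have hcard : (Nat.card G : ℂ) ≠ 0 := by
    have : 0 < Nat.card G := Nat.card_pos
    exact_mod_cast this.ne'
  have hterm : ∀ ψ : Cfsg.IrrCharacter G, (Nat.card G : ℂ) * Cfsg.classInner (F ψ) (ψ : G → ℂ) =
      ∑ x : G, Cfsg.pRegularPart p (ψ : G → ℂ) x * (ψ : G → ℂ) x⁻¹ := by
    intro ψ
    unfold Cfsg.classInner
    rw [← mul_assoc, mul_inv_cancel₀ hcard, one_mul]
    refine Finset.sum_congr rfl fun x _ => ?_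
    rw [Cfsg.Agent.Helper5.irr_inv ψ x]
  rw [Finset.sum_congr rfl (fun ψ _ => hterm ψ), Finset.sum_comm]
  refine Finset.sum_congr rfl fun x _ => ?_
  rw [finsum_mem_eq_sum_ite, Finset.sum_filter]

end Cfsg.Agent.S4667
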