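import Cfsg.Statements.S4668
import Mathlib
import Cfsg.Agent.Helper23.NormalSupport
import Cfsg.Agent.Helper5.BlockSupport
import Cfsg.Agent.Lead.ThompsonPQ

set_option autoImplicit false
open Cfsg

namespace Cfsg.Agent.S4668

/-- Fix a prime p and a maximal ideal M of the algebraic integers containing p. Let Q₀ < Q₁ < ⋯ < Q_m be a strictly increasing chain of p-subgroups of the finite group G and N the intersection of their normalizers. Then every block idempotent of N is supported on C_G(Q_m): for every p-block E of N, the idempotent coefficient of E vanishes at every element of N outside C_G(Q_m). -/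
theorem result {G : Type*} [Group G] [Fintype G] (p : ℕ) [Fact p.Prime] (M : Ideal Cfsg.AlgInt) (hM : Cfsg.IsPModular p M) (m : ℕ) (Q : Fin (m + 1) → Subgroup G) (hQ : StrictMono Q) (hQp : ∀ i, IsPGroup p (Q i)) (N : Subgroup G) (hN : ∀ g : G, g ∈ N ↔ ∀ i, g ∈ Subgroup.normalizer (Q i : Set G)) (E : Set (Cfsg.IrrCharacter N)) (hE : Cfsg.IsPBlock M E) (n : N) (hn : (n : G) ∉ Subgroup.centralizer (Q (Fin.last m) : Set G)) : Cfsg.blockCoeff E n = 0 := by
  classical
  have : Fintype N := Fintype.ofFinite _
  have : Fintype (Cfsg.IrrCharacter N) := Fintype.ofFinite _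
  by_cases hsing : p ∣ orderOf n
  · exact Cfsg.Agent.Helper5.CC.blockCoeff_eq_zero_of_singular hM hE n hsing
  -- the normal `p`-subgroup `R = Q_m ∩ N` of `N`
  set L : Subgroup G := Q (Fin.last m) with hL
  set R : Subgroup G := L ⊓ N with hR
  have hmono : ∀ i j : Fin (m + 1), i ≤ j → Q i ≤ Q j := fun i j hij => hQ.monotone hij
  have hNnorm : ∀ x ∈ N, ∀ i, x ∈ Subgroup.normalizer (Q i : Set G) := fun x hx i => (hN x).mp hx i
  have hRn : (R.subgroupOf N).Normal := by
    constructor
    intro r hr x
    rw [Subgroup.mem_subgroupOf] at hr ⊢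
    refine ⟨?_, (x * r * x⁻¹).2⟩
    have hx := hNnorm x x.2 (Fin.last m)
    rw [Subgroup.mem_normalizer_iff] at hx
    have := (hx (r : G)).mp hr.1
    simpa using this
  have hRp : IsPGroup p (R.subgroupOf N) := by
    have h1 : IsPGroup p R := (hQp (Fin.last m)).to_le inf_le_left
    exact h1.comap_subtype
  by_cases hcent : n ∈ Subgroup.centralizer ((R.subgroupOf N : Subgroup N) : Set N)
  swap
  · exact Cfsg.Agent.Helper23.NS.blockCoeff_eq_zero_of_not_mem_centralizer hM (R.subgroupOf N) hRp
      E hE n hcent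
  exfalso
  apply hn
  -- `n` centralizes `R`
  have hnR : ∀ r ∈ R, r * (n : G) = (n : G) * r := by
    intro r hr
    rw [Subgroup.mem_centralizer_iff] at hcent
    have h1 := hcent ⟨r, hr.2⟩ (by
      show (⟨r, hr.2⟩ : N) ∈ R.subgroupOf N
      rw [Subgroup.mem_subgroupOf]; exact hr)
    exact congrArg Subtype.val h1
  set A : Subgroup G := Subgroup.zpowers (n : G) with hA
  have hAcop : (Nat.card A).Coprime p := by
    rw [hA, Nat.card_zpowers]
    exact ((Nat.Prime.coprime_iff_not_dvd Fact.out).mpr (by simpa using hsing)).symm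
  have hAR : R ≤ Subgroup.centralizer (A : Set G) := by
    intro r hr
    rw [Subgroup.mem_centralizer_iff]
    intro a ha
    have ha' : a ∈ Subgroup.zpowers (n : G) := ha
    rw [Subgroup.mem_zpowers_iff] at ha'
    obtain ⟨k, rfl⟩ := ha'
    have hc : Commute (n : G) r := (hnR r hr).symm
    exact (hc.zpow_left k).eq
  have hAnorm : ∀ i, A ≤ Subgroup.normalizer (Q i : Set G) := by
    intro i
    rw [hA, Subgroup.zpowers_le]
    exact hNnorm n n.2 i
  have key : ∀ i : ℕ, ∀ hi : i < m + 1, A ≤ Subgroup.centralizer ((Q ⟨i, hi⟩ : Subgroup G) : Set G) := by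
    intro i
    induction i with
    | zero =>
      intro hi
      rw [Subgroup.le_centralizer_iff]
      refine le_trans ?_ hAR
      intro u hu
      refine ⟨hmono _ _ (Fin.le_last _) hu, ?_⟩
      show u ∈ N
      rw [hN]
      intro j
      exact Subgroup.le_normalizer (hmono ⟨0, hi⟩ j (Fin.zero_le j) hu)
    | succ i ih =>
      intro hi
      have hi' : i < m + 1 := by omega
      have ih' := ih hi'
      apply Cfsg.Agent.Lead.thompson_PQ p (Q ⟨i, hi'⟩) A (Q ⟨i + 1, hi⟩) (hQp _) hAcop (hQp _)
      · exact Subgroup.le_centralizer_iff.mp ih'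
      · refine le_trans (hmono ⟨i, hi'⟩ ⟨i + 1, hi⟩ ?_) Subgroup.le_normalizer
        exact Fin.mk_le_mk.mpr (Nat.le_succ i)
      · exact hAnorm _
      · refine le_trans ?_ hAR
        rintro u ⟨hu1, hu2⟩
        have hu1 : u ∈ Q ⟨i + 1, hi⟩ := hu1
        have hu2 : u ∈ Subgroup.centralizer ((Q ⟨i, hi'⟩ : Subgroup G) : Set G) := hu2
        refine ⟨hmono _ _ (Fin.le_last _) hu1, ?_⟩
        show u ∈ N
        rw [hN]
        intro j
        by_cases hj : (j : ℕ) ≤ i
        · -- `u` centralizes `Q i ⊇ Q j`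
          rw [Subgroup.mem_normalizer_iff]
          intro h
          have hcomm : ∀ y ∈ Q j, u * y * u⁻¹ = y := by
            intro y hy
            have hy' : y ∈ Q ⟨i, hi'⟩ := hmono j ⟨i, hi'⟩ (Fin.mk_le_mk.mpr hj) hy
            have := (Subgroup.mem_centralizer_iff.mp hu2) y hy'
            rw [← this]; group
          constructor
          · intro hh
            rw [hcomm h hh]; exact hh
          · intro hh
            have h2 : u⁻¹ * (u * h * u⁻¹) * u ∈ Q j := by
              have := hcomm (u * h * u⁻¹) hh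
              have h3 : u⁻¹ * (u * h * u⁻¹) * u = u * h * u⁻¹ := by
                calc u⁻¹ * (u * h * u⁻¹) * u = u⁻¹ * (u * (u * h * u⁻¹) * u⁻¹) * u := by rw [this]
                  _ = u * h * u⁻¹ := by group
              rw [h3]; exact hh
            have h4 : u⁻¹ * (u * h * u⁻¹) * u = h := by group
            rwa [h4] at h2
        · push Not at hj
          exact Subgroup.le_normalizer (hmono ⟨i + 1, hi⟩ j (Fin.mk_le_mk.mpr hj) hu1)
  have hfin := key m (Nat.lt_succ_self m)
  have : (n : G) ∈ A := Subgroup.mem_zpowers _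
  exact hfin this

end Cfsg.Agent.S4668
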