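import Cfsg.Statements.S4670
import Cfsg.Agent.Helper23.BrauerCorr

set_option autoImplicit false
open Cfsg

namespace Cfsg.Agent.S4670

open Cfsg.Agent.Helper5 Cfsg.Agent.Helper5.Loc Cfsg.Agent.Helper5.CC
open Cfsg.Agent.Helper23.BT Cfsg.Agent.Helper23.BC


/-- Fix a prime p and a maximal ideal M of the algebraic integers containing p. Let P be a p-subgroup of the finite group G and H a subgroup containing N_G(P). For every p-block B of G with defect group P there is exactly one p-block c of H with defect group P whose idempotent agrees with that of B, modulo the local ideal at M, at every element of C_G(P) (their Brauer-map images at P coincide); and every p-block c of H with defect group P arises in this way from exactly one such B. This is the Brauer correspondence over H. -/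
theorem result {G : Type*} [Group G] [Fintype G] (p : ℕ) [Fact p.Prime] (M : Ideal Cfsg.AlgInt) (hM : Cfsg.IsPModular p M) (P H : Subgroup G) (hP : IsPGroup p P) (hH : Subgroup.normalizer (P : Set G) ≤ H) : (∀ B : Set (Cfsg.IrrCharacter G), Cfsg.IsPBlock M B → Cfsg.IsDefectGroup p M B P → ∃! c : Set (Cfsg.IrrCharacter H), Cfsg.IsPBlock M c ∧ Cfsg.IsDefectGroup p M c (P.subgroupOf H) ∧ ∀ x : G, x ∈ Subgroup.centralizer (P : Set G) → Cfsg.MemLocalIdeal M (Cfsg.blockCoeff B x - Cfsg.subgroupBlockCoeff H c x)) ∧ (∀ c : Set (Cfsg.IrrCharacter H), Cfsg.IsPBlock M c → Cfsg.IsDefectGroup p M c (P.subgroupOf H) → ∃! B : Set (Cfsg.IrrCharacter G), Cfsg.IsPBlock M B ∧ Cfsg.IsDefectGroup p M B P ∧ ∀ x : G, x ∈ Subgroup.centralizer (P : Set G) → Cfsg.MemLocalIdeal M (Cfsg.blockCoeff B x - Cfsg.subgroupBlockCoeff H c x)) := by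
  classical
  have hMp := isPrime_of_isPModular hM
  have : Fintype (IrrCharacter G) := Fintype.ofFinite _
  have : Fintype H := Fintype.ofFinite _
  have : Fintype (IrrCharacter H) := Fintype.ofFinite _
  have hPH : P ≤ H := Subgroup.le_normalizer.trans hH
  have hP' : IsPGroup p (P.subgroupOf H) := hP.comap_subtype
  have hcoe : ∀ (c : Set (IrrCharacter H)) (y : H),
      subgroupBlockCoeff H c (y : G) = blockCoeff c y := by
    intro c y
    rw [subgroupBlockCoeff]
    exact dif_pos y.2
  constructor
  · intro B hB hBD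
    obtain ⟨b, ⟨hb, hbD, hind⟩, -⟩ := (Cfsg.Agent.S0920.result p M hM P hP).2 B hB hBD
    have hb' : IsPBlock M (pullBlock (normEquiv P H hH) b) := isPBlock_pullBlock _ hb
    have hb'D := isDefectGroup_pullBlock (normEquiv P H hH) hbD
    rw [comap_normEquiv] at hb'D
    obtain ⟨c, hc, hcD, hind'⟩ :=
      (Cfsg.Agent.S0920.result p M hM (P.subgroupOf H) hP').1 _ hb' hb'D
    have hcong0 := blockCoeff_sub_subgroupBlockCoeff hM P H hP hH hbD hind hind'
    refine ⟨c, ⟨hc, hcD, hcong0⟩, ?_⟩
    rintro c₂ ⟨hc₂, hc₂D, hcong⟩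
    apply block_eq_of_defect_congr hM (P.subgroupOf H) hP' hc₂ hc hc₂D hcD
    intro y hy
    have hyG : (y : G) ∈ Subgroup.centralizer (P : Set G) :=
      mem_centralizer_of_mem_centralizer_subgroupOf hPH hy
    have a1 := hcong (y : G) hyG
    have a2 := hcong0 (y : G) hyG
    rw [hcoe] at a1 a2
    have := li_sub hMp a2 a1
    convert this using 1
    ring
  · intro c hc hcD
    obtain ⟨b', ⟨hb', hb'D, hind'⟩, -⟩ :=
      (Cfsg.Agent.S0920.result p M hM (P.subgroupOf H) hP').2 c hc hcD
    have hb : IsPBlock M (pullBlock (normEquiv P H hH).symm b') := isPBlock_pullBlock _ hb'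
    have hbD := isDefectGroup_pullBlock (normEquiv P H hH).symm hb'D
    rw [comap_normEquiv_symm] at hbD
    obtain ⟨B, hB, hBD, hind⟩ := (Cfsg.Agent.S0920.result p M hM P hP).1 _ hb hbD
    have hbb : pullBlock (normEquiv P H hH) (pullBlock (normEquiv P H hH).symm b') = b' := by
      have h2 := pullBlock_symm_pullBlock (normEquiv P H hH).symm b'
      rw [MulEquiv.symm_symm] at h2
      exact h2
    rw [← hbb] at hind'
    have hcong0 := blockCoeff_sub_subgroupBlockCoeff hM P H hP hH hbD hind hind'
    refine ⟨B, ⟨hB, hBD, hcong0⟩, ?_⟩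
    rintro B₂ ⟨hB₂, hB₂D, hcong⟩
    apply block_eq_of_defect_congr hM P hP hB₂ hB hB₂D hBD
    intro x hx
    have a1 := hcong x hx
    have a2 := hcong0 x hx
    have := li_sub hMp a1 a2
    convert this using 1
    ring

end Cfsg.Agent.S4670
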