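import Cfsg.Statements.S4672
import Cfsg.Agent.Helper23.NormalPIndex

set_option autoImplicit false
open Cfsg

namespace Cfsg.Agent.S4672

/-- Fix a prime p and a maximal ideal M of the algebraic integers containing p. Let N be a normal subgroup of the finite group G of p-power index and c a p-block of N stable under conjugation by G. Then the idempotent of c is a block idempotent of G: there is a p-block B of G whose idempotent coefficients agree with those of c on N and vanish off N; and for every defect group P of such a block B, G = NP and P ∩ N is a defect group of c. -/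
theorem result {G : Type*} [Group G] [Fintype G] (p : ℕ) [Fact p.Prime] (M : Ideal Cfsg.AlgInt) (hM : Cfsg.IsPModular p M) (N : Subgroup G) [N.Normal] (hN : ∃ k : ℕ, N.index = p ^ k) (c : Set (Cfsg.IrrCharacter N)) (hc : Cfsg.IsPBlock M c) (hst : ∀ x : G, Cfsg.StabilizesBlock N c x) : (∃ B : Set (Cfsg.IrrCharacter G), Cfsg.IsPBlock M B ∧ ∀ g : G, Cfsg.blockCoeff B g = Cfsg.subgroupBlockCoeff N c g) ∧ ∀ B : Set (Cfsg.IrrCharacter G), Cfsg.IsPBlock M B → (∀ g : G, Cfsg.blockCoeff B g = Cfsg.subgroupBlockCoeff N c g) → ∀ P : Subgroup G, Cfsg.IsDefectGroup p M B P → N ⊔ P = ⊤ ∧ Cfsg.IsDefectGroup p M c ((P ⊓ N).subgroupOf N) := by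
  classical
  let _ : Fintype N := Fintype.ofFinite N
  have hst' := Cfsg.Agent.Helper23.NPI.isStable_of_stabilizesBlock N c hst
  constructor
  · obtain ⟨B, hB, hBc, -⟩ := Cfsg.Agent.Helper23.NPI.exists_block_eq_cut hM N hN c hc hst'
    exact ⟨B, hB, fun g => by rw [hBc, Cfsg.Agent.Helper23.NPI.cutCoeff_eq_subgroupBlockCoeff]⟩
  · intro B hB hBc P hP
    have hBc' : Cfsg.blockCoeff B = Cfsg.Agent.Helper23.NS.cutCoeff N c := by
      funext g
      rw [hBc g, Cfsg.Agent.Helper23.NPI.cutCoeff_eq_subgroupBlockCoeff]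
    exact Cfsg.Agent.Helper23.NPI.defect_of_stable_pindex hM N hN c hc hst' B hB hBc' P hP

end Cfsg.Agent.S4672
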