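import Cfsg.Statements.S4693
import Cfsg.Agent.Helper23.CentricStab

set_option autoImplicit false
open Cfsg

namespace Cfsg.Agent.S4693

/-- Fix a prime p and a maximal ideal M of the algebraic integers containing p, a p-block B of the finite group G with maximal Brauer pair (P, e) and fusion system F on P, and a Brauer pair (Q, f) ≤ (P, e) with Q centric in F. Suppose every element of G normalizes Q and stabilizes f. Then the idempotent of B agrees with that of f modulo M at every element of G, and f is the idempotent of a nilpotent block of Q·C_G(Q): some p-block of Q·C_G(Q) has the idempotent coefficients of f and is nilpotent. -/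
theorem result {G : Type*} [Group G] [Fintype G] (p : ℕ) [Fact p.Prime] (M : Ideal Cfsg.AlgInt) (hM : Cfsg.IsPModular p M) (B : Set (Cfsg.IrrCharacter G)) (P : Subgroup G) (e : Set (Cfsg.IrrCharacter (Subgroup.centralizer (P : Set G)))) (hmax : Cfsg.IsMaximalBrauerPair p M B P e) (F : Cfsg.FusionSystem P) (hF : Cfsg.IsBlockFusionSystemOn p M B P e F) (Q : Subgroup G) (f : Set (Cfsg.IrrCharacter (Subgroup.centralizer (Q : Set G)))) (hQP : Q ≤ P) (hf : Cfsg.IsPBlock M f) (hle : Cfsg.SubpairLE p M Q f P e) (hcen : F.IsCentric Q) (hG : ∀ x : G, x ∈ Subgroup.normalizer (Q : Set G) ∧ Cfsg.StabilizesBlock (Subgroup.centralizer (Q : Set G)) f x) : (∀ g : G, Cfsg.MemLocalIdeal M (Cfsg.blockCoeff B g - Cfsg.subgroupBlockCoeff (Subgroup.centralizer (Q : Set G)) f g)) ∧ ∃ F' : Set (Cfsg.IrrCharacter ↥(Q ⊔ Subgroup.centralizer (Q : Set G))), Cfsg.IsPBlock M F' ∧ (∀ t : ↥(Q ⊔ Subgroup.centralizer (Q : Set G)), Cfsg.blockCoeff F' t = Cfsg.subgroupBlockCoeff (Subgroup.centralizer (Q :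 Set G)) f (t : G)) ∧ Cfsg.IsNilpotentBlock p M F' := by
  classical
  have hMp := Cfsg.Agent.Helper5.Loc.isPrime_of_isPModular hM
  have hQf : Cfsg.IsBrauerPair p M Q f :=
    Cfsg.Agent.Helper23.LD.isBrauerPair_of_reflTransGen (a := ⟨Q, f⟩) (c := ⟨P, e⟩) hle hmax.1.1
  refine ⟨fun g => ?_, ?_⟩
  · rw [Cfsg.Agent.Helper23.CS.blockCoeff_eq_of_stable hM B P e hmax Q f hf hle hG g, sub_self]
    exact Cfsg.Agent.Helper5.Loc.memLocalIdeal_zero hMp
  · have hZ := (Cfsg.Agent.Helper23.BF.isCentric_iff hM B P e hmax F hF Q f hQP hf hle).mp hcen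
    obtain ⟨F', hF', hF'c⟩ := Cfsg.Agent.Helper23.ST.exists_block_of_stable hM Q
      (Q ⊔ Subgroup.centralizer (Q : Set G)) hQf.1 le_sup_left le_sup_right
      (sup_le Subgroup.le_normalizer (Subgroup.centralizer_le_normalizer _)) f hf
      (fun h hh => Cfsg.Agent.Helper23.LD.stabilizesBlock_of_mem_sup Q f h hh)
    exact ⟨F', hF', hF'c,
      Cfsg.Agent.Helper23.CS.isNilpotentBlock_of_center hM Q hQf.1 f hf hZ F' hF' hF'c⟩

end Cfsg.Agent.S4693
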