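import Cfsg.Statements.S4694
import Cfsg.Agent.Helper23.WeightPair
import Cfsg.Agent.Helper23.InertialIndex
import Cfsg.Agent.Helper5.CentralDefect

set_option autoImplicit false
open Cfsg

namespace Cfsg.Agent.S4694

open Cfsg.Agent.Helper24 Cfsg.Agent.Helper5 Cfsg.Agent.Helper5.Loc Cfsg.Agent.Helper5.CC
open Cfsg.Agent.Helper14
open Cfsg.Agent.Helper23.BT Cfsg.Agent.Helper23.IC Cfsg.Agent.Helper23.TM
open Cfsg.Agent.Helper23.SB
open Cfsg.Agent.Helper23.SP Cfsg.Agent.Helper23.SU Cfsg.Agent.Helper23.PP
open Cfsg.Agent.Helper23.MP Cfsg.Agent.Helper23.PC Cfsg.Agent.Helper23.BC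
open Cfsg.Agent.Helper23.MC Cfsg.Agent.Helper23.LD Cfsg.Agent.Helper23.ST
open Cfsg.Agent.Helper23.BF Cfsg.Agent.Helper23.RP Cfsg.Agent.Helper23.AD
open Cfsg.Agent.Helper23.NS Cfsg.Agent.Helper23.NPI Cfsg.Agent.Helper23.WP Cfsg.Agent.Helper23.IHZ

theorem charDegree_pullIrr' {X Y : Type*} [Group X] [Group Y] (φ : X ≃* Y) (χ : IrrCharacter Y) :
    charDegree (pullIrr φ χ : X → ℂ) = charDegree (χ : Y → ℂ) := by
  rw [charDegree, charDegree, pullIrr_apply, map_one]


/-- Fix a prime p and a maximal ideal M of the algebraic integers containing p, a p-block B of the finite group G and a Brauer pair (Q, e) of B. Let T be the stabilizer of e in N_G(Q) and suppose that (Q, e) carries a weight: the block of T whose idempotent is that of e contains an irreducible character χ that is constant on the cosets of Q and whose degree has p-part equal to the p-part of the index of Q in T. Then Z(Q) is a defect group of e as a block of C_G(Q), and Q is the largest normal p-subgroup of T: every p-subgroup of T normalized by T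 lies in Q. -/
theorem result {G : Type*} [Group G] [Fintype G] (p : ℕ) [Fact p.Prime] (M : Ideal Cfsg.AlgInt) (hM : Cfsg.IsPModular p M) (B : Set (Cfsg.IrrCharacter G)) (Q : Subgroup G) (e : Set (Cfsg.IrrCharacter (Subgroup.centralizer (Q : Set G)))) (hQe : Cfsg.IsBrauerPairOf p M B Q e) (T : Subgroup G) (hT : ∀ y : G, y ∈ T ↔ y ∈ Subgroup.normalizer (Q : Set G) ∧ Cfsg.StabilizesBlock (Subgroup.centralizer (Q : Set G)) e y) (F' : Set (Cfsg.IrrCharacter T)) (hF' : Cfsg.IsPBlock M F') (hF'e : ∀ t : T, Cfsg.blockCoeff F' t = Cfsg.subgroupBlockCoeff (Subgroup.centralizer (Q : Set G)) e (t : G)) (χ : Cfsg.IrrCharacter T) (hχ : χ ∈ F') (hχQ : ∀ q : G, q ∈ Q → ∀ t : T, ∀ t' : T, (t' : G) = q * (t : G) → (χ : T → ℂ) t' = (χ : T → ℂ) t) (hdeg : (Cfsg.charDegree (χ : T → ℂ)).factorization p + (Nat.card Q).factorization p = (Nat.card T).factorization p) : Cfsg.IsDefectGroup p M e ((Q ⊓ Subgroup.centralizer (Q : Set G)).subgroupOf (Subgroup.centralizer (Q : Set G))) ∧ ∀ R : Subgroup G, R ≤ T → IsPGroup p R → (∀ t ∈ T, t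 ∈ Subgroup.normalizer (R : Set G)) → R ≤ Q := by
  classical
  have hp : Fact p.Prime := inferInstance
  have hMp := isPrime_of_isPModular hM
  have : Fintype T := Fintype.ofFinite _
  have : Fintype (IrrCharacter T) := Fintype.ofFinite _
  have : Fintype (Subgroup.centralizer (Q : Set G)) := Fintype.ofFinite _
  obtain ⟨hQT, hCT, hTN⟩ := stab_basic Q e T hT
  have hQp : IsPGroup p Q := hQe.1.1
  have he : IsPBlock M e := hQe.1.2
  have hCn : ((Subgroup.centralizer (Q : Set G)).subgroupOf T).Normal :=
    (Subgroup.normal_subgroupOf_iff_le_normalizer hCT).mpr (le_normalizer_centralizer hTN)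
  have hQn : (Q.subgroupOf T).Normal :=
    (Subgroup.normal_subgroupOf_iff_le_normalizer hQT).mpr hTN
  have : Fintype ((Subgroup.centralizer (Q : Set G)).subgroupOf T) := Fintype.ofFinite _
  set φ := Subgroup.subgroupOfEquivOfLe hCT with hφ
  have hBc : blockCoeff F' = cutCoeff ((Subgroup.centralizer (Q : Set G)).subgroupOf T)
      (pullBlock φ e) := by
    funext t
    rw [hF'e t, subgroupBlockCoeff_eq_ext0]
    by_cases ht : t ∈ (Subgroup.centralizer (Q : Set G)).subgroupOf T
    · rw [cutCoeff_of_mem _ _ ht, blockCoeff_pullBlock, ext0_of_mem _ _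
        (Subgroup.mem_subgroupOf.mp ht)]
      rfl
    · rw [cutCoeff_of_not_mem _ _ ht, ext0_of_not_mem _ _
        (fun h => ht (Subgroup.mem_subgroupOf.mpr h))]
  have hker : ∀ q ∈ Q.subgroupOf T, (χ : T → ℂ) q = (χ : T → ℂ) 1 := by
    intro q hq
    exact hχQ (q : G) (Subgroup.mem_subgroupOf.mp hq) 1 q (by simp)
  have hcardQ : Nat.card (Q.subgroupOf T) = Nat.card Q :=
    Nat.card_congr (Subgroup.subgroupOfEquivOfLe hQT).toEquiv
  have hdeg' : (irrDeg χ).factorization p + (Nat.card (Q.subgroupOf T)).factorization p =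
      (Nat.card T).factorization p := by
    rw [← charDegree_eq_irrDeg, hcardQ]
    exact hdeg
  constructor
  · obtain ⟨ξ', hξ'con, hξ'deg⟩ := exists_constituent_defect_zero (p := p) (Q.subgroupOf T) χ hker
      hdeg' ((Subgroup.centralizer (Q : Set G)).subgroupOf T)
    have hact : act (cutCoeff ((Subgroup.centralizer (Q : Set G)).subgroupOf T)
        (pullBlock φ e)) χ = 1 := by
      rw [← hBc, act_blockCoeff, if_pos hχ]
    have hξ'e := mem_of_act_cutCoeff_eq_one _ _ χ hact ξ' hξ'con
    rw [mem_pullBlock_iff] at hξ'e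
    have heq : e = blockOf M (pullIrr φ.symm ξ' : Subgroup.centralizer (Q : Set G) → ℂ) :=
      IsPBlock_eq_blockOf hMp he hξ'e
    rw [heq]
    apply Cfsg.Agent.Helper5.CD.isDefectGroup_of_central hM
    · exact (hQp.to_le inf_le_left).comap_subtype
    · intro z hz
      rw [Subgroup.mem_subgroupOf, Subgroup.mem_inf] at hz
      rw [Subgroup.mem_center_iff]
      intro c
      apply Subtype.ext
      show (c : G) * (z : G) = (z : G) * (c : G)
      exact (c.2 (z : G) hz.1).symm
    · rw [charDegree_pullIrr', charDegree_eq_irrDeg]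
      have hcardC : Nat.card ((Subgroup.centralizer (Q : Set G)).subgroupOf T) =
          Nat.card (Subgroup.centralizer (Q : Set G)) :=
        Nat.card_congr (Subgroup.subgroupOfEquivOfLe hCT).toEquiv
      have hinf : (Q.subgroupOf T ⊓ (Subgroup.centralizer (Q : Set G)).subgroupOf T : Subgroup T) =
          (Q ⊓ Subgroup.centralizer (Q : Set G)).subgroupOf T := rfl
      have hcardI : Nat.card ((Q.subgroupOf T ⊓
          (Subgroup.centralizer (Q : Set G)).subgroupOf T : Subgroup T)) =
          Nat.card ((Q ⊓ Subgroup.centralizer (Q : Set G) : Subgroup G)) := by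
        rw [hinf]
        exact Nat.card_congr (Subgroup.subgroupOfEquivOfLe (le_trans inf_le_left hQT)).toEquiv
      have hcardD : Nat.card ((Q ⊓ Subgroup.centralizer (Q : Set G)).subgroupOf
          (Subgroup.centralizer (Q : Set G))) =
          Nat.card ((Q ⊓ Subgroup.centralizer (Q : Set G) : Subgroup G)) :=
        Nat.card_congr (Subgroup.subgroupOfEquivOfLe inf_le_right).toEquiv
      have hidx := Subgroup.card_mul_index ((Q ⊓ Subgroup.centralizer (Q : Set G)).subgroupOf
          (Subgroup.centralizer (Q : Set G)))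
      have hidx0 : ((Q ⊓ Subgroup.centralizer (Q : Set G)).subgroupOf
          (Subgroup.centralizer (Q : Set G))).index ≠ 0 := Subgroup.index_ne_zero_of_finite
      have hfac : (Nat.card (Subgroup.centralizer (Q : Set G))).factorization p =
          (Nat.card ((Q ⊓ Subgroup.centralizer (Q : Set G) : Subgroup G))).factorization p +
          ((Q ⊓ Subgroup.centralizer (Q : Set G)).subgroupOf
          (Subgroup.centralizer (Q : Set G))).index.factorization p := by
        rw [← hidx, hcardD, Nat.factorization_mul (Nat.card_pos).ne' hidx0, Finsupp.add_apply]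
      rw [hcardC, hcardI] at hξ'deg
      omega
  · intro R hRT hRp hRn
    have hRn' : (R.subgroupOf T).Normal :=
      (Subgroup.normal_subgroupOf_iff_le_normalizer hRT).mpr (fun t ht => hRn t ht)
    have h1 := normal_pGroup_le_of_defect_zero (p := p) (Q.subgroupOf T) χ hker hdeg'
      (R.subgroupOf T) hRp.comap_subtype
    intro r hr
    have h2 : (⟨r, hRT hr⟩ : T) ∈ R.subgroupOf T := Subgroup.mem_subgroupOf.mpr hr
    exact Subgroup.mem_subgroupOf.mp (h1 h2)

end Cfsg.Agent.S4694
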