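import Cfsg.Statements.S4699
import Cfsg.Agent.Helper5.CycTId

set_option autoImplicit false
open Cfsg

namespace Cfsg.Agent.S4699

/-- Let p be a prime and G a finite group whose Sylow p-subgroup P is cyclic of order p^n with n ≥ 2 and meets every other Sylow p-subgroup trivially. Then every faithful irreducible representation of G on a finite-dimensional space over a finite field of characteristic p has dimension at least p^n − (p − 1). -/
theorem result {G : Type*} [Group G] [Finite G] (p : ℕ) [Fact p.Prime] (P : Sylow p G) (hcyc : IsCyclic P) (n : ℕ) (hn : 2 ≤ n) (hPn : Nat.card P = p ^ n) (hTI : ∀ Q : Sylow p G, Q ≠ P → (P : Subgroup G) ⊓ (Q : Subgroup G) = ⊥) (F : Type*) [Field F] [Finite F] [CharP F p] (V : Type*) [AddCommGroup V] [Module F V] [FiniteDimensional F V] (ρ : Representation F G V) (hfaith : Function.Injective ρ) (hirr : ρ.IsIrreducible) : p ^ n - (p - 1) ≤ Module.finrank F V := by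
  classical
  have hpp : p.Prime := Fact.out
  obtain ⟨g, hg⟩ := hcyc.exists_generator
  set x : G := (g : G) with hx
  have hPx : (P : Subgroup G) = Subgroup.zpowers x := by
    ext y
    constructor
    · intro hy
      have := hg ⟨y, hy⟩
      rw [Subgroup.mem_zpowers_iff] at this ⊢
      obtain ⟨k, hk⟩ := this
      refine ⟨k, ?_⟩
      have := congrArg (fun z : (P : Subgroup G) => (z : G)) hk
      simpa using this
    · intro hy
      rw [Subgroup.mem_zpowers_iff] at hy
      obtain ⟨k, rfl⟩ := hy
      exact (P : Subgroup G).zpow_mem g.2 k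
  have hq : orderOf x = p ^ n := by
    rw [hx, Subgroup.orderOf_coe, orderOf_eq_card_of_forall_mem_zpowers hg]
    exact hPn
  have hqpos : 0 < p ^ n := pos_of_ne_zero (pow_ne_zero _ hpp.ne_zero)
  set u : Module.End F V := ρ x - 1 with hu
  have hupow : ∀ k : ℕ, u ^ (p ^ k) = ρ (x ^ (p ^ k)) - 1 := by
    intro k
    rw [hu, Cfsg.Agent.Helper5.HHT.sub_one_pow_char_pow (K := F) p (ρ x) k, map_pow]
  have huq : u ^ (p ^ n) = 0 := by
    rw [hupow, ← hq, pow_orderOf_eq_one, map_one, sub_self]
  have hex : ∃ d, u ^ d = 0 := ⟨_, huq⟩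
  set d := Nat.find hex with hd
  have hd0 : u ^ d = 0 := Nat.find_spec hex
  have hdmin : ∀ k < d, u ^ k ≠ 0 := fun k hk => Nat.find_min hex hk
  have hlt : p ^ (n - 1) < p ^ n := Nat.pow_lt_pow_right hpp.one_lt (by omega)
  have hdgt : p ^ (n - 1) < d := by
    by_contra hle
    push Not at hle
    have h0 : u ^ (p ^ (n - 1)) = 0 := by
      rw [← Nat.sub_add_cancel hle, pow_add, hd0, mul_zero]
    rw [hupow, sub_eq_zero] at h0
    have h1 : x ^ (p ^ (n - 1)) = 1 := by
      apply hfaith
      rw [h0, map_one]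
    have hdvd := orderOf_dvd_of_pow_eq_one h1
    rw [hq] at hdvd
    exact absurd (Nat.le_of_dvd (pos_of_ne_zero (pow_ne_zero _ hpp.ne_zero)) hdvd) (by omega)
  have hple : p ≤ p ^ (n - 1) := by
    calc p = p ^ 1 := (pow_one p).symm
      _ ≤ p ^ (n - 1) := Nat.pow_le_pow_right hpp.pos (by omega)
  have hdfin : d ≤ Module.finrank F V := by
    by_contra hlt'
    push Not at hlt'
    have hker := Module.End.ker_pow_le_ker_pow_finrank u d
    have htop : LinearMap.ker (u ^ d) = ⊤ := by rw [hd0]; exact LinearMap.ker_zero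
    rw [htop, top_le_iff, LinearMap.ker_eq_top] at hker
    exact hdmin _ hlt' hker
  by_contra hcon
  push Not at hcon
  have h2 : d + p ≤ p ^ n := by
    have := hpp.two_le
    omega
  exact Cfsg.Agent.Helper5.CycTI.index_dichotomy p P hTI x hPx n (by omega) hq ρ hirr d hd0 hdmin
    (by omega) h2

end Cfsg.Agent.S4699
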