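-- Statement S4701 (Cfsg.chr7_perfect_group_large_prime_cubed): corollary of Brauer--Reynolds for simple
-- groups (S0999 = `Cfsg.Agent.S0999P.reduction` + `Cfsg.Agent.S0996.result`) via a maximal normal subgroup.
-- Main assembly: `Cfsg.Agent.S4701P.main` in `Cfsg/Agent/Helper23/S4701Main.lean`.
import Cfsg.Statements.S4701
import Cfsg.Agent.Helper23.S4701Main
import Cfsg.Agent.Helper5.S0999Main
import Cfsg.Agent.S0996

set_option autoImplicit false
open Cfsg

namespace Cfsg.Agent.S4701

universe u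

/-- the statement of S0999 at universe `u`, from its landed reduction to S0996 -/
theorem brHyp : Cfsg.Agent.S4701P.BRHyp.{u} := by
  intro Q _ _ _ hQ q hq hdvd hbig
  have : Fact q.Prime := ⟨hq⟩
  obtain ⟨hperf, z, hz, hC, hn⟩ := Cfsg.Agent.S0999P.reduction hQ q hdvd hbig
  exact Cfsg.Agent.S0996.result hperf q z hz hC hn

/-- Let G be a finite perfect group and p a prime dividing the order of G with p^3 larger than the order of G. Suppose a Sylow p-subgroup of G is not normal and G has no normal subgroup of order 2. Then p > 3 and G is isomorphic to PSL(2, p), or to SL(2, 2^m) with p = 2^m + 1. -/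
theorem result {G : Type*} [Group G] [Finite G] (hperf : commutator G = ⊤) (p : ℕ) [Fact p.Prime] (hdvd : p ∣ Nat.card G) (hbig : Nat.card G < p ^ 3) (P : Sylow p G) (hP : ¬ (P : Subgroup G).Normal) (h2 : ∀ N : Subgroup G, N.Normal → Nat.card N ≠ 2) : (∃ (F : Type) (_ : Field F) (_ : Fintype F), Fintype.card F = p ∧ 3 < p ∧ Nonempty (G ≃* Matrix.ProjectiveSpecialLinearGroup (Fin 2) F)) ∨ (∃ (m : ℕ) (F : Type) (_ : Field F) (_ : Fintype F), Fintype.card F = 2 ^ m ∧ p = 2 ^ m + 1 ∧ 3 < p ∧ Nonempty (G ≃* Matrix.SpecialLinearGroup (Fin 2) F)) :=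
  Cfsg.Agent.S4701P.main brHyp hperf p hdvd hbig P hP h2

end Cfsg.Agent.S4701
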