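import Cfsg.Statements.S4706
import Mathlib
import Cfsg.Agent.Lead.S4706Key
import Cfsg.Agent.Lead.S4706Fin
import Cfsg.Agent.Helper8.W2pT1
import Cfsg.Agent.Helper4.Sharp3Odd
import Cfsg.Agent.Helper4.PrimeDegreeIndex
import Cfsg.Agent.S0676

set_option autoImplicit false
open Cfsg

namespace Cfsg.Agent.S4706

/-- Let p > 2 be a prime and G a permutation group on p letters whose Sylow p-subgroup P has normalizer of order 2p. Then either P is normal in G, or p − 1 = 2^a for some a and G is isomorphic to SL(2, 2^a). -/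
theorem result {α : Type*} [Fintype α] [DecidableEq α] {p : ℕ} [Fact p.Prime] (hp : 2 < p) (hα : Fintype.card α = p) (G : Subgroup (Equiv.Perm α)) (P : Sylow p G) (hN : Nat.card (Subgroup.normalizer ((P : Subgroup G) : Set G)) = 2 * p) : (P : Subgroup G).Normal ∨ ∃ (a : ℕ) (F : Type) (_ : Field F) (_ : Fintype F), p = 2 ^ a + 1 ∧ Fintype.card F = 2 ^ a ∧ Nonempty (G ≃* Matrix.SpecialLinearGroup (Fin 2) F) := by
  classical
  have hpp : p.Prime := Fact.out
  have hp2 : p ≠ 2 := by omega
  letI : Fintype G := Fintype.ofFinite G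
  -- p divides |G|
  have hdvd : p ∣ Nat.card G := by
    have h1 : Nat.card (Subgroup.normalizer ((P : Subgroup G) : Set G)) ∣ Nat.card G :=
      Subgroup.card_subgroup_dvd_card _
    rw [hN] at h1
    exact (dvd_mul_left p 2).trans h1
  have htrans : MulAction.IsPretransitive G α :=
    Cfsg.Agent.Lead.S4706.isPretransitive_of_dvd_card hα hdvd
  have hP : Nat.card P = p := Cfsg.Agent.Helper4.PrimeDegree3.sylow_card hα G P
  by_cases hsolv : Group.IsSolvable G
  · exact Or.inl (Cfsg.Agent.Helper4.PrimeDegreeIndex.sylow_normal_of_solvable hα G hsolv P)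
  right
  have heven : Even (Nat.card (Subgroup.normalizer ((P : Subgroup G) : Set G))) := by
    rw [hN]; exact even_two_mul p
  have h3 : MulAction.IsMultiplyPretransitive G α 3 :=
    Cfsg.Agent.S0676.result hα G hsolv P heven
  have hodd : Odd (Fintype.card α) := by rw [hα]; exact hpp.odd_of_ne_two hp2
  have hm : 3 ≤ Fintype.card α := by rw [hα]; omega
  have hfix : ∀ g : G, 3 ≤ Nat.card (MulAction.fixedBy α g) → g = 1 := by
    by_cases hp5 : 5 ≤ p
    · have hC := Cfsg.Agent.Lead.S4706.centralizer_eq_of_card_normalizer (H := G) (Ω := α)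
        hp2 hα P hP hN
      have he := Cfsg.Agent.Lead.S4706.eN_eq_two (H := G) P hP hN
      obtain ⟨D⟩ := Cfsg.Agent.Helper8.W2p.exists_brauerData p hp2 P hP hC
      exact Cfsg.Agent.Lead.S4706.fix_three_eq_one p hp5 hα h3 P hP he D
    · -- p = 3
      have hp3 : p = 3 := by
        have h4 : p ≠ 4 := by
          rintro rfl
          exact absurd hpp (by decide)
        omega
      intro g hg
      apply FaithfulSMul.eq_of_smul_eq_smul (α := α)
      intro w
      rw [one_smul]
      -- all points are fixed
      have hsub : (MulAction.fixedBy α g : Set α) = Set.univ := by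
        rw [Set.eq_univ_iff_ncard, Nat.card_eq_fintype_card, hα, hp3]
        have h1 : (MulAction.fixedBy α g : Set α).ncard ≤ Nat.card α := Set.ncard_le_card _
        rw [Nat.card_eq_fintype_card, hα, hp3] at h1
        have h2 : (MulAction.fixedBy α g : Set α).ncard = Nat.card (MulAction.fixedBy α g) :=
          (Nat.card_coe_set_eq _).symm
        omega
      have : w ∈ (MulAction.fixedBy α g : Set α) := by rw [hsub]; trivial
      exact this
  obtain ⟨a, _, hcard, F, iF, iFt, hF, hiso⟩ :=
    Cfsg.Agent.Helper4.Sharp3Odd.main hm hodd G h3 hfix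
  exact ⟨a, F, iF, iFt, by rw [← hα, hcard], hF, hiso⟩

end Cfsg.Agent.S4706
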