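import Cfsg.Statements.S4707
import Cfsg.Agent.S0720
import Cfsg.Agent.Helper2.Order60
import Cfsg.Agent.Helper14.S4707SIM
import Cfsg.Agent.Helper24.S4707LIN
import Cfsg.Agent.Helper20.S4707Ord

set_option autoImplicit false
open Cfsg

namespace Cfsg.Agent.S4707

open Cfsg.Agent.Helper24 Cfsg.Agent.Helper1.W2p MulAction

/-- the arithmetic at the end: `2a+1` divides `a(a+1)(2a²+2a-1)` only for `a = 1` -/
theorem arith_a (a : ℕ) (ha : 0 < a) (h : (2 * a + 1) ∣ a * (a + 1) * (2 * a ^ 2 + 2 * a - 1)) :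
    a = 1 := by
  have h1 : ((2 * a + 1 : ℕ) : ℤ) ∣ ((a * (a + 1) * (2 * a ^ 2 + 2 * a - 1) : ℕ) : ℤ) :=
    Int.natCast_dvd_natCast.mpr h
  have hsub : 1 ≤ 2 * a ^ 2 + 2 * a := by nlinarith
  rw [Nat.cast_mul, Nat.cast_mul, Nat.cast_sub hsub] at h1
  push_cast at h1
  -- 8 * a(a+1)(2a²+2a-1) = (d²-1)(d²-3) with d = 2a+1
  have h2 : (2 * (a : ℤ) + 1) ∣ 3 := by
    have e : (3 : ℤ) = 8 * ((a : ℤ) * ((a : ℤ) + 1) * (2 * (a : ℤ) ^ 2 + 2 * (a : ℤ) - 1)) -
        (2 * (a : ℤ) + 1) * ((2 * (a : ℤ) + 1) ^ 3 - 4 * (2 * (a : ℤ) + 1)) := by ring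
    rw [e]
    exact dvd_sub (Dvd.dvd.mul_left h1 8) (dvd_mul_right _ _)
  have h3 : 2 * (a : ℤ) + 1 ≤ 3 := Int.le_of_dvd (by norm_num) h2
  omega

/-- Let p > 3 be a prime and G a primitive permutation group of degree 2p that is not doubly transitive. If a Sylow p-subgroup of G has normalizer of order 2p, then p = 5 and G is isomorphic to the alternating group of degree 5. -/
theorem result {α : Type*} [Fintype α] [DecidableEq α] {p : ℕ} [Fact p.Prime] (hp : 3 < p) (hα : Fintype.card α = 2 * p) (G : Subgroup (Equiv.Perm α)) (hprim : MulAction.IsPreprimitive G α) (hnot2 : ¬ MulAction.IsMultiplyPretransitive G α 2) (P : Sylow p G) (hN : Nat.card (Subgroup.normalizer ((P : Subgroup G) : Set G)) = 2 * p) : p = 5 ∧ Nonempty (G ≃* alternatingGroup (Fin 5)) := by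
  classical
  have hpp : p.Prime := Fact.out
  have hp2 : p ≠ 2 := by omega
  have hp5 : 5 ≤ p := by
    rcases Nat.lt_or_ge p 5 with h | h
    · exfalso
      have : p = 4 := by omega
      rw [this] at hpp
      exact absurd hpp (by decide)
    · exact h
  have htrans : IsPretransitive G α := hprim.toIsPretransitive
  have hαc : Nat.card α = 2 * p := by rw [Nat.card_eq_fintype_card, hα]
  -- elements of order p are fixed-point-free
  have hfpf0 : ∀ g ∈ G, orderOf g = p → ∀ x : α, g x ≠ x := by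
    intro g hg hord x hx
    exact hnot2 (Cfsg.Agent.Helper16.W2p.two_trans_of_fixed_point hpp hα G hprim g hg hord x hx)
  obtain ⟨hPall, hfpf⟩ := Cfsg.Agent.Helper16.W2p.sylow_card_eq hp2 hα G htrans hfpf0
  have hP : Nat.card P = p := hPall P
  have hC : Subgroup.centralizer ((P : Subgroup G) : Set G) = (P : Subgroup G) := by
    by_contra hne
    exact hnot2 (Cfsg.Agent.Helper25.W2p.two_trans_of_centralizer_ne hp2 hα G hprim hfpf P hP hne)
  have hsimple : IsSimpleGroup G :=
    Cfsg.Agent.Helper14.S4707.isSimpleGroup_of_normalizer hprim p hp2 hαc P hP hC hN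
  -- G is not abelian
  have hna : ¬ ∀ a b : G, a * b = b * a := by
    intro hab
    have htop : Subgroup.centralizer ((P : Subgroup G) : Set G) = ⊤ := by
      rw [eq_top_iff]
      intro g _
      rw [Subgroup.mem_centralizer_iff]
      intro h _
      exact hab h g
    have h1 : Nat.card (Subgroup.normalizer ((P : Subgroup G) : Set G)) ≤ Nat.card (P : Subgroup G) := by
      have hle : Subgroup.normalizer ((P : Subgroup G) : Set G) ≤ (P : Subgroup G) := by
        rw [← hC, htop]; exact le_top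
      exact Subgroup.card_le_of_le hle
    rw [hN] at h1
    have : Nat.card (P : Subgroup G) = p := hP
    omega
  have hlin := Cfsg.Agent.Helper24.S4707.linear_trivial_of_simple (G := G) hna
  obtain ⟨D⟩ := Cfsg.Agent.Helper8.W2p.exists_brauerData p hp2 P hP hC
  -- e = 2
  have he : eN (P : Subgroup G) = 2 := by
    unfold eN
    have h1 := Subgroup.relIndex_mul_relIndex (H := (⊥ : Subgroup G)) (K := (P : Subgroup G))
      (L := Subgroup.normalizer ((P : Subgroup G) : Set G)) bot_le Subgroup.le_normalizer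
    rw [Subgroup.relIndex_bot_left, Subgroup.relIndex_bot_left, hN] at h1
    have h2 : Nat.card (P : Subgroup G) = p := hP
    rw [h2] at h1
    have hppos := hpp.pos
    have : (P : Subgroup G).relIndex (Subgroup.normalizer ((P : Subgroup G) : Set G)) * p = 2 * p := by
      rw [mul_comm]; exact h1
    exact Nat.eq_of_mul_eq_mul_right hppos this
  -- the trichotomy
  have hstep := Cfsg.Agent.Helper20.W2p.step4 (H := G) (Ω := α) p hp2 hα (P : Subgroup G) hP D hfpf hlin
  have hχ : ∃ χ₁ : IrrCharacter G, χ₁ ∈ D.X ∧ irrDeg χ₁ = p - 1 := by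
    rcases hstep with ⟨χ, hχ⟩ | ⟨χ, η, hdχ, hdη, hπ⟩ | ⟨hε, hY2, hdeg, -⟩
    · exfalso
      exact hnot2 (Cfsg.Agent.Helper1.W2pFin.two_trans_of_decomp (by rw [hα]; omega) χ hχ)
    · refine ⟨χ, ?_, hdχ⟩
      by_contra hX
      by_cases hY : χ ∈ D.Y
      · have h1 := D.deg_Y χ hY
        rw [hdχ, he, Nat.cast_sub (by omega)] at h1
        have hdvd : (p : ℤ) ∣ (p : ℤ) - 1 - D.ε * 2 := ⟨(D.a χ : ℤ), by push_cast at h1 ⊢; linarith⟩
        rcases D.ε_pm with hε | hε
        · rw [hε] at hdvd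
          have : (p : ℤ) ∣ 3 := by
            have := dvd_sub (dvd_refl (p : ℤ)) hdvd
            have e : (p : ℤ) - ((p : ℤ) - 1 - 1 * 2) = 3 := by ring
            rwa [e] at this
          have := Int.le_of_dvd (by norm_num) this
          omega
        · rw [hε] at hdvd
          have : (p : ℤ) ∣ 1 := by
            have := dvd_sub hdvd (dvd_refl (p : ℤ))
            have e : (p : ℤ) - 1 - -1 * 2 - (p : ℤ) = 1 := by ring
            rwa [e] at this
          have := Int.le_of_dvd (by norm_num) this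
          omega
      · have h1 := D.deg_other χ hX hY
        rw [hdχ] at h1
        have := Nat.le_of_dvd (by omega) h1
        omega
    · exfalso
      have hbr := Cfsg.Agent.Helper3.W2p.brauer_ineq p hp2 P hP hC D hlin hε hY2 hdeg
      rw [he] at hbr
      exact absurd hbr.2 (by decide)
  obtain ⟨χ₁, hχX, hχdeg⟩ := hχ
  have hcard : Nat.card G = p * (p - 1) * (p - 2) :=
    Cfsg.Agent.Helper20.S4707.card_eq_of_two p hp5 P hP hC he D χ₁ hχX hχdeg
  -- Wielandt
  have hne : Nonempty α := by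
    apply Fintype.card_pos_iff.mp
    rw [hα]; omega
  obtain ⟨a₀⟩ := hne
  rcases Cfsg.Agent.S0720.result hpp hα G hprim a₀ with h2 | ⟨-, a, ha, hpa, horb⟩
  · exact absurd h2 hnot2
  -- a point different from a₀
  obtain ⟨b, hb⟩ : ∃ b : α, b ≠ a₀ := by
    by_contra hcon
    push Not at hcon
    have : Fintype.card α ≤ 1 := Fintype.card_le_one_iff.mpr (fun x y => by rw [hcon x, hcon y])
    omega
  -- the order of the stabilizer
  have hstab : Nat.card (stabilizer G a₀) * (2 * p) = Nat.card G := by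
    have h1 := Subgroup.card_mul_index (stabilizer G a₀)
    rw [index_stabilizer_of_transitive, hαc] at h1
    exact h1
  have hdvd : (2 * a + 1) ∣ Nat.card (stabilizer G a₀) := by
    have h1 := MulAction.card_orbit_mul_card_stabilizer_eq_card_group (stabilizer G a₀) b
    have h2 : Nat.card (orbit (stabilizer G a₀) b) ∣ Nat.card (stabilizer G a₀) := by
      rw [← Nat.card_eq_fintype_card, ← Nat.card_eq_fintype_card, ← Nat.card_eq_fintype_card] at h1
      exact ⟨_, h1.symm⟩
    rcases horb b hb with h | h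
    · exact Dvd.dvd.trans ⟨a, by rw [h]; ring⟩ h2
    · exact Dvd.dvd.trans ⟨a + 1, by rw [h]; ring⟩ h2
  have hstabcard : Nat.card (stabilizer G a₀) = a * (a + 1) * (2 * a ^ 2 + 2 * a - 1) := by
    have h1 : p - 1 = 2 * a * (a + 1) := by rw [hpa]; ring_nf; omega
    have h2 : p - 2 = 2 * a ^ 2 + 2 * a - 1 := by rw [hpa]; omega
    rw [hcard, h1, h2] at hstab
    have hppos : 0 < 2 * p := by omega
    have : Nat.card (stabilizer G a₀) * (2 * p) =
        (a * (a + 1) * (2 * a ^ 2 + 2 * a - 1)) * (2 * p) := by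
      rw [hstab]; ring
    exact Nat.eq_of_mul_eq_mul_right hppos this
  rw [hstabcard] at hdvd
  have ha1 : a = 1 := arith_a a ha hdvd
  have hp5' : p = 5 := by rw [hpa, ha1]; norm_num
  refine ⟨hp5', ?_⟩
  have h60 : Nat.card G = 60 := by rw [hcard, hp5']
  exact Cfsg.Agent.Helper2.nonempty_mulEquiv_alternatingGroup_five_of_card h60

end Cfsg.Agent.S4707
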