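import Cfsg.Statements.S4708
import Cfsg.Agent.Helper5.PrincipalNormal

set_option autoImplicit false
open Cfsg

namespace Cfsg.Agent.S4708

/-- Let p be a prime, M a maximal ideal of the algebraic integers containing p, G a finite group and H a normal subgroup. Write λ(X) for the sum of the squares of the degrees of the irreducible characters in the principal p-block of a group X. Then λ(H) ≤ λ(G) ≤ [G : H]·λ(H). -/
theorem result {G : Type*} [Group G] [Finite G] (p : ℕ) [Fact p.Prime] (M : Ideal Cfsg.AlgInt) (hM : Cfsg.IsPModular p M) (H : Subgroup G) [H.Normal] : (∑ᶠ θ ∈ Cfsg.principalBlock M H, Cfsg.charDegree (θ : H → ℂ) ^ 2) ≤ (∑ᶠ χ ∈ Cfsg.principalBlock M G, Cfsg.charDegree (χ : G → ℂ) ^ 2) ∧ (∑ᶠ χ ∈ Cfsg.principalBlock M G, Cfsg.charDegree (χ : G → ℂ) ^ 2) ≤ H.index * ∑ᶠ θ ∈ Cfsg.principalBlock M H, Cfsg.charDegree (θ : H → ℂ) ^ 2 := by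
  classical
  have : Fintype G := Fintype.ofFinite G
  have : Fintype H := Fintype.ofFinite H
  have : Fintype (Cfsg.IrrCharacter G) := Fintype.ofFinite _
  have : Fintype (Cfsg.IrrCharacter H) := Fintype.ofFinite _
  have key := Cfsg.Agent.Helper5.PN.principal_degree_sums hM H
  have e1 : (∑ᶠ θ ∈ Cfsg.principalBlock M H, Cfsg.charDegree (θ : H → ℂ) ^ 2) =
      ∑ θ : Cfsg.IrrCharacter H, if θ ∈ Cfsg.principalBlock M H then
        Cfsg.Agent.Helper24.irrDeg θ ^ 2 else 0 := by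
    rw [Cfsg.Agent.Helper5.CC.finsum_mem_eq_sum_ite']
    refine Finset.sum_congr rfl fun θ _ => ?_
    rw [Cfsg.Agent.Helper5.CC.charDegree_eq_irrDeg]
  have e2 : (∑ᶠ χ ∈ Cfsg.principalBlock M G, Cfsg.charDegree (χ : G → ℂ) ^ 2) =
      ∑ χ : Cfsg.IrrCharacter G, if χ ∈ Cfsg.principalBlock M G then
        Cfsg.Agent.Helper24.irrDeg χ ^ 2 else 0 := by
    rw [Cfsg.Agent.Helper5.CC.finsum_mem_eq_sum_ite']
    refine Finset.sum_congr rfl fun χ _ => ?_
    rw [Cfsg.Agent.Helper5.CC.charDegree_eq_irrDeg]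
  rw [e1, e2]
  exact key

end Cfsg.Agent.S4708
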