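import Cfsg.Statements.S4710
import Cfsg.Agent.Helper8.HeightBound

set_option autoImplicit false
open Cfsg

namespace Cfsg.Agent.S4710

/-- Let p be a prime, M a maximal ideal of the algebraic integers containing p, and B a p-block of defect d of the finite group G containing k irreducible characters. If B contains a character of positive height then 2k ≤ p^(2d − 2); and every character in B has height 0 when d ≤ 1 and height at most d − 2 when d ≥ 2. -/
theorem result {G : Type*} [Group G] [Finite G] (p : ℕ) [Fact p.Prime] (M : Ideal Cfsg.AlgInt) (hM : Cfsg.IsPModular p M) (B : Set (Cfsg.IrrCharacter G)) (hB : Cfsg.IsPBlock M B) (d : ℕ) (hd : Cfsg.blockDefect p B = d) : ((∃ χ ∈ B, 0 < Cfsg.blockHeight p B (χ : G → ℂ)) → 2 * Nat.card B ≤ p ^ (2 * d - 2)) ∧ ∀ χ ∈ B, (d ≤ 1 → Cfsg.blockHeight p B (χ : G → ℂ) = 0) ∧ (2 ≤ d → Cfsg.blockHeight p B (χ : G → ℂ) ≤ d - 2) := by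
  classical
  haveI : Fintype G := Fintype.ofFinite _
  haveI : Fintype (IrrCharacter G) := Fintype.ofFinite _
  have hp : p.Prime := Fact.out
  have hMp := Cfsg.Agent.Helper5.Loc.isPrime_of_isPModular hM
  set a := (Nat.card G).factorization p with ha
  set μ := Cfsg.Agent.Helper8.IndHt.minVal p B with hμ
  have hdμ : d = a - μ := by rw [← hd, Cfsg.Agent.Helper8.IndHt.blockDefect_eq]
  obtain ⟨χ₀, hχ₀, hχ₀μ⟩ := Cfsg.Agent.Helper8.IndHt.exists_minVal p
    (Cfsg.Agent.Helper5.CC.IsPBlock.nonempty hMp hB)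
  have hμa : μ ≤ a := by
    rw [hμ, ← hχ₀μ]; exact Cfsg.Agent.Helper8.IndHt.factorization_irrDeg_le_card p χ₀
  -- heights
  have hht : ∀ χ ∈ B, 0 < Cfsg.blockHeight p B (χ : G → ℂ) →
      Cfsg.blockHeight p B (χ : G → ℂ) + 2 ≤ d := by
    intro χ hχ hpos
    rw [Cfsg.Agent.Helper8.IndHt.blockHeight_eq] at hpos ⊢
    have h1 : μ < (Cfsg.Agent.Helper24.irrDeg χ).factorization p := by omega
    have h2 := Cfsg.Agent.Helper8.HB.factorization_add_two_le hM hB hχ h1
    omega
  constructor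
  · rintro ⟨χ, hχ, hpos⟩
    have hd2 := hht χ hχ hpos
    have hposν : μ < (Cfsg.Agent.Helper24.irrDeg χ).factorization p := by
      rw [Cfsg.Agent.Helper8.IndHt.blockHeight_eq] at hpos; omega
    set k₀ := ∑ ψ : IrrCharacter G,
      if ψ ∈ B ∧ Cfsg.blockHeight p B (ψ : G → ℂ) = 0 then 1 else 0 with hk₀
    set k₁ := ∑ ψ : IrrCharacter G,
      if ψ ∈ B ∧ Cfsg.blockHeight p B (ψ : G → ℂ) ≠ 0 then 1 else 0 with hk₁
    have hk : Nat.card B = k₀ + k₁ := by
      rw [Cfsg.Agent.Helper8.BF.natCard_eq_sum B, hk₀, hk₁, ← Finset.sum_add_distrib]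
      refine Finset.sum_congr rfl fun ψ _ => ?_
      by_cases h1 : ψ ∈ B
      · by_cases h2 : Cfsg.blockHeight p B (ψ : G → ℂ) = 0
        · simp [h1, h2]
        · simp [h1, h2]
      · simp [h1]
    -- the characters of positive height
    obtain ⟨χ₁, hχ₁, hh0, hle⟩ := Cfsg.Agent.Helper8.BF.main hM hB
    have hk₁le : 4 * (p ^ 2 * k₁) ≤ p ^ (2 * Cfsg.blockDefect p B) := by
      refine le_trans ?_ hle
      apply Nat.mul_le_mul_left
      rw [hk₁, Finset.mul_sum]
      refine Finset.sum_le_sum fun ψ _ => ?_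
      by_cases h1 : ψ ∈ B ∧ Cfsg.blockHeight p B (ψ : G → ℂ) ≠ 0
      · have h2 : ψ ≠ χ₁ := by
          rintro rfl; exact h1.2 hh0
        rw [if_pos h1, if_pos ⟨h1.1, h2⟩, mul_one]
        apply Nat.pow_le_pow_right hp.pos
        have := Nat.pos_of_ne_zero h1.2
        omega
      · rw [if_neg h1, mul_zero]; exact Nat.zero_le _
    rw [hd] at hk₁le
    have hk₁' : 4 * k₁ ≤ p ^ (2 * d - 2) := by
      have e : p ^ (2 * d) = p ^ 2 * p ^ (2 * d - 2) := by
        rw [← pow_add]; congr 1; omega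
      rw [e, ← mul_assoc, mul_comm 4 (p ^ 2), mul_assoc] at hk₁le
      exact Nat.le_of_mul_le_mul_left hk₁le (pow_pos hp.pos 2)
    -- the characters of height zero
    have hk₀le := Cfsg.Agent.Helper8.HB.four_mul_heightZero_le hM hB hχ hposν
    rw [← ha, ← hk₀] at hk₀le
    set ν := (Cfsg.Agent.Helper24.irrDeg χ).factorization p with hν
    have hνa : ν + 2 ≤ a := Cfsg.Agent.Helper8.HB.factorization_add_two_le hM hB hχ hposν
    have hk₀' : 4 * k₀ ≤ p ^ (2 * d - 2) := by
      have e : p ^ (2 * a) = p ^ (2 * ν) * p ^ (2 * a - 2 * ν) := by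
        rw [← pow_add]; congr 1; omega
      rw [e, ← mul_assoc, mul_comm 4 (p ^ (2 * ν)), mul_assoc] at hk₀le
      have h1 := Nat.le_of_mul_le_mul_left hk₀le (pow_pos hp.pos _)
      refine le_trans h1 (Nat.pow_le_pow_right hp.pos ?_)
      omega
    omega
  · intro χ hχ
    by_cases hpos : 0 < Cfsg.blockHeight p B (χ : G → ℂ)
    · have := hht χ hχ hpos
      constructor
      · intro h; omega
      · intro h; omega
    · have h0 : Cfsg.blockHeight p B (χ : G → ℂ) = 0 := by omega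
      exact ⟨fun _ => h0, fun _ => by omega⟩

end Cfsg.Agent.S4710
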