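import Cfsg.Statements.S4711
import Mathlib
import Cfsg.Agent.Helper5.PLenBlockB
import Cfsg.Agent.Helper23.PrincipalBlock
import Cfsg.Agent.Helper23.PSeries
import Cfsg.Agent.Helper1.PLenSeries

set_option autoImplicit false
open Cfsg

namespace Cfsg.Agent.S4711

/-- Let p be a prime, M a maximal ideal of the algebraic integers containing p, G a finite group, P a Sylow p-subgroup and N = N_G(P). Then G has p-length 1 (G = O_{p',p,p'}(G)) if and only if every irreducible character in the principal p-block of G restricts to an irreducible character of N. -/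
theorem result {G : Type*} [Group G] [Finite G] (p : ℕ) [Fact p.Prime] (M : Ideal Cfsg.AlgInt) (hM : Cfsg.IsPModular p M) (P : Sylow p G) : Cfsg.PLengthLE p 1 G ↔ ∀ χ ∈ Cfsg.principalBlock M G, Cfsg.IsIrrCharacter ↥(Subgroup.normalizer ((P : Subgroup G) : Set G)) (fun n : ↥(Subgroup.normalizer ((P : Subgroup G) : Set G)) => (χ : G → ℂ) n) := by
  classical
  have : Fintype G := Fintype.ofFinite G
  have : Fintype (Cfsg.IrrCharacter G) := Fintype.ofFinite _
  have hMp := Cfsg.Agent.Helper5.Loc.isPrime_of_isPModular hM
  constructor
  · -- p-length one implies irreducible restrictions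
    intro h χ hχ
    obtain ⟨K, hKn, hKcop, hKN, _⟩ :=
      Cfsg.Agent.Helper23.exists_normal_pPrime_of_pLengthLE_one p G h P
    have hKle : K ≤ Cfsg.pPrimeCore p G := le_sSup ⟨hKn, hKcop⟩
    have hconst : ∀ n ∈ K, (χ : G → ℂ) n = (χ : G → ℂ) 1 := fun n hn =>
      Cfsg.Agent.Helper23.PB.eq_one_of_mem_principalBlock hM χ hχ n (hKle hn)
    obtain ⟨ψ, hψ⟩ := Cfsg.Agent.Helper23.PB.exists_irr_quotient K χ hconst
    let f : ↥(Subgroup.normalizer ((P : Subgroup G) : Set G)) →* G ⧸ K :=
      (QuotientGroup.mk' K).comp (Subgroup.normalizer ((P : Subgroup G) : Set G)).subtype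
    have hf : Function.Surjective f := by
      intro q
      obtain ⟨g, rfl⟩ := QuotientGroup.mk'_surjective K q
      have hg : g ∈ K ⊔ Subgroup.normalizer ((P : Subgroup G) : Set G) := by
        rw [hKN]; exact Subgroup.mem_top g
      rw [← SetLike.mem_coe, Subgroup.normal_mul] at hg
      obtain ⟨k, hk, n, hn, rfl⟩ := Set.mem_mul.mp hg
      refine ⟨⟨n, hn⟩, ?_⟩
      show (QuotientGroup.mk' K) n = (QuotientGroup.mk' K) (k * n)
      rw [map_mul]
      have : (QuotientGroup.mk' K) k = 1 := by
        rw [QuotientGroup.mk'_apply, QuotientGroup.eq_one_iff]; exact hk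
      rw [this, one_mul]
    have hirr := Cfsg.Agent.Helper8.isIrrCharacter_comp_surjective f hf ψ.2
    have heq : (fun n : ↥(Subgroup.normalizer ((P : Subgroup G) : Set G)) => (χ : G → ℂ) n) =
        (fun n => (ψ : G ⧸ K → ℂ) (f n)) := by
      funext n
      exact (hψ n).symm
    rw [heq]
    exact hirr
  · -- irreducible restrictions imply p-length one
    intro hirr
    set L : Subgroup G := Subgroup.normalClosure ((P : Subgroup G) : Set G) with hL
    -- the kernel of the principal block
    let KerB : Subgroup G :=
      ⨅ χ : {χ : Cfsg.IrrCharacter G // χ ∈ Cfsg.principalBlock M G},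
        Cfsg.Agent.Helper5.charKer χ.1
    have hmemKer : ∀ g : G, g ∈ KerB ↔ ∀ χ ∈ Cfsg.principalBlock M G,
        (χ : G → ℂ) g = (χ : G → ℂ) 1 := by
      intro g
      simp only [KerB, Subgroup.mem_iInf, Cfsg.Agent.Helper5.mem_charKer, Subtype.forall]
    have hKerN : KerB.Normal := by
      haveI : ∀ χ : {χ : Cfsg.IrrCharacter G // χ ∈ Cfsg.principalBlock M G},
          (Cfsg.Agent.Helper5.charKer χ.1).Normal := fun χ => inferInstance
      exact Subgroup.normal_iInf_normal (fun χ => inferInstance)
    -- the key claim
    have hclaim : ∀ x ∈ L, ¬ p ∣ orderOf x → x ∈ KerB := by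
      intro x hxL hx
      rw [hmemKer]
      intro χ hχ
      exact Cfsg.Agent.Helper5.PLB.apply_eq_of_mem_normalClosure hM (P : Subgroup G) P.isPGroup'
        hirr x hxL hx χ hχ
    -- the kernel has order prime to p
    have hKerCop : (Nat.card KerB).Coprime p := by
      rw [Nat.coprime_comm, (Fact.out : p.Prime).coprime_iff_not_dvd]
      intro hdvd
      obtain ⟨y, hy⟩ := exists_prime_orderOf_dvd_card' p hdvd
      have hyK : (y : G) ∈ KerB := y.2
      have hyord : p ∣ orderOf (y : G) := by
        rw [Subgroup.orderOf_coe, hy]
      have horth := Cfsg.Agent.Helper5.CC.block_orthogonality hM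
        (Cfsg.Agent.Helper5.CC.isPBlock_principalBlock (M := M) (G := G)) (1 : G) (y : G)
        (by rw [orderOf_one]; exact (Fact.out : p.Prime).not_dvd_one) hyord
      have hterm : ∀ χ : Cfsg.IrrCharacter G,
          (if χ ∈ Cfsg.principalBlock M G then (1 : ℂ) else 0) *
            ((χ : G → ℂ) 1 * (starRingEnd ℂ) ((χ : G → ℂ) (y : G))) =
          (if χ ∈ Cfsg.principalBlock M G then
            ((Cfsg.Agent.Helper24.irrDeg χ : ℝ) ^ 2 : ℝ) else 0 : ℝ) := by
        intro χ
        by_cases hχ : χ ∈ Cfsg.principalBlock M G
        · rw [if_pos hχ, if_pos hχ, (hmemKer (y : G)).mp hyK χ hχ,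
            Cfsg.Agent.Helper24.irrDeg_spec, Complex.conj_natCast]
          push_cast
          ring
        · rw [if_neg hχ, if_neg hχ, zero_mul]
          simp
      rw [Finset.sum_congr rfl (fun χ _ => hterm χ)] at horth
      have horth' : ∑ χ : Cfsg.IrrCharacter G,
          (if χ ∈ Cfsg.principalBlock M G then
            ((Cfsg.Agent.Helper24.irrDeg χ : ℝ) ^ 2 : ℝ) else 0 : ℝ) = 0 := by
        exact_mod_cast horth
      have hnonneg : ∀ χ ∈ (Finset.univ : Finset (Cfsg.IrrCharacter G)), (0 : ℝ) ≤
          (if χ ∈ Cfsg.principalBlock M G then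
            ((Cfsg.Agent.Helper24.irrDeg χ : ℝ) ^ 2 : ℝ) else 0 : ℝ) := by
        intro χ _
        split_ifs
        · positivity
        · exact le_refl _
      have h0 := (Finset.sum_eq_zero_iff_of_nonneg hnonneg).mp horth'
        (Cfsg.Agent.Helper24.trivIrr G) (Finset.mem_univ _)
      rw [if_pos (Cfsg.Agent.Helper5.CC.trivIrr_mem_principalBlock hMp)] at h0
      have hpos := Cfsg.Agent.Helper24.irrDeg_pos (Cfsg.Agent.Helper24.trivIrr G)
      have : (0 : ℝ) < (Cfsg.Agent.Helper24.irrDeg (Cfsg.Agent.Helper24.trivIrr G) : ℝ) ^ 2 := by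
        positivity
      linarith
    -- the series
    have hLn : L.Normal := Subgroup.normalClosure_normal
    have hPL : (P : Subgroup G) ≤ L := Subgroup.le_normalClosure
    set K₀ : Subgroup G := L ⊓ KerB with hK₀
    have hK₀n : K₀.Normal := Subgroup.normal_inf_normal L KerB
    apply Cfsg.Agent.Helper1.PLen.pLengthLE_of_series
      (N := fun i => if i = 0 then ⊥ else if i = 1 then K₀ else if i = 2 then L else ⊤)
    · refine ⟨by simp, ?_, ?_, ?_, ?_⟩
      · intro i
        by_cases h0 : i = 0
        · simp only [h0, if_true]; infer_instance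
        · by_cases h1 : i = 1
          · simp only [h1, if_true]; exact hK₀n
          · by_cases h2 : i = 2
            · simp only [h2, if_true]; exact hLn
            · simp only [h0, h1, h2, if_false]; infer_instance
      · intro i
        by_cases h0 : i = 0
        · subst h0; simp
        · by_cases h1 : i = 1
          · subst h1
            simp only [one_ne_zero, if_false, if_true, Nat.reduceAdd, OfNat.ofNat_ne_zero,
              OfNat.ofNat_ne_one]
            exact inf_le_left
          · by_cases h2 : i = 2
            · subst h2; simp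
            · have h3 : i + 1 ≠ 0 := by omega
              have h4 : i + 1 ≠ 1 := by omega
              have h5 : i + 1 ≠ 2 := by omega
              simp [h0, h1, h2, h3, h4, h5]
      · intro i hev
        by_cases h0 : i = 0
        · subst h0
          simp only [if_true, zero_add, one_ne_zero, if_false, Subgroup.relIndex_bot_left]
          exact Nat.Coprime.coprime_dvd_left (Subgroup.card_dvd_of_le inf_le_right) hKerCop
        · by_cases h1 : i = 1
          · subst h1; exact absurd hev (by decide)
          · by_cases h2 : i = 2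
            · subst h2
              simp only [OfNat.ofNat_ne_zero, if_false, OfNat.ofNat_ne_one, if_true, Nat.reduceAdd,
                Nat.reduceEqDiff, Subgroup.relIndex_top_right]
              have hdvd : L.index ∣ (P : Subgroup G).index := Subgroup.index_dvd_of_le hPL
              have hnd : ¬ p ∣ (P : Subgroup G).index := P.not_dvd_index
              rw [Nat.coprime_comm, (Fact.out : p.Prime).coprime_iff_not_dvd]
              exact fun hd => hnd (dvd_trans hd hdvd)
            · have h3 : i + 1 ≠ 0 := by omega
              have h4 : i + 1 ≠ 1 := by omega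
              have h5 : i + 1 ≠ 2 := by omega
              simp [h0, h1, h2, h3, h4, h5]
      · intro i hodd
        by_cases h1 : i = 1
        · subst h1
          simp only [one_ne_zero, if_false, if_true, Nat.reduceAdd, OfNat.ofNat_ne_zero,
            OfNat.ofNat_ne_one]
          -- `L / K₀` is a `p`-group
          have hpg : IsPGroup p (↥L ⧸ K₀.subgroupOf L) := by
            intro q
            obtain ⟨l, rfl⟩ := QuotientGroup.mk_surjective q
            obtain ⟨k, m, hm, hkm⟩ := Nat.exists_eq_pow_mul_and_not_dvd
              (orderOf_pos (l : G)).ne' p (Fact.out : p.Prime).ne_one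
            refine ⟨k, ?_⟩
            rw [← QuotientGroup.mk_pow, QuotientGroup.eq_one_iff, Subgroup.mem_subgroupOf]
            have hreg : ¬ p ∣ orderOf ((l : G) ^ p ^ k) := by
              intro hd
              apply hm
              have h1 : ((l : G) ^ p ^ k) ^ m = 1 := by
                rw [← pow_mul, ← hkm]; exact pow_orderOf_eq_one _
              exact dvd_trans hd (orderOf_dvd_of_pow_eq_one h1)
            have hmemL : (l : G) ^ p ^ k ∈ L := L.pow_mem l.2 _
            have : ((l ^ p ^ k : ↥L) : G) = (l : G) ^ p ^ k := by simp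
            rw [this]
            exact ⟨hmemL, hclaim _ hmemL hreg⟩
          obtain ⟨e, he⟩ := IsPGroup.iff_card.mp hpg
          refine ⟨e, ?_⟩
          rw [Subgroup.relIndex, Subgroup.index_eq_card]
          exact he
        · by_cases h0 : i = 0
          · subst h0; exact absurd (by decide : Even 0) hodd
          · by_cases h2 : i = 2
            · subst h2; exact absurd (by decide : Even 2) hodd
            · have h3 : i + 1 ≠ 0 := by omega
              have h4 : i + 1 ≠ 1 := by omega
              have h5 : i + 1 ≠ 2 := by omega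
              exact ⟨0, by simp [h0, h1, h2, h3, h4, h5]⟩
    · simp

end Cfsg.Agent.S4711
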