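import Cfsg.Statements.S4714
import Cfsg.Agent.Helper5.CentralProduct3
import Cfsg.Agent.Helper5.BlockSupport

set_option autoImplicit false
open Cfsg

namespace Cfsg.Agent.S4714

/-- Let p be a prime, M a maximal ideal of the algebraic integers containing p, D a p-subgroup of the finite group G with G = D·C_G(D), and B a p-block with defect group D. Let χ be a member of B having D in its kernel (there is exactly one, the canonical character of B). Then the irreducible characters in B are exactly the functions θ on G for which there is an irreducible character ζ of D such that θ(yx) = ζ(y)χ(x) whenever y ∈ D, x has order prime to p and x commutes with y, and θ(z) = 0 whenever the p-part of z does not lie in D. -/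
theorem result {G : Type*} [Group G] [Finite G] (p : ℕ) [Fact p.Prime] (M : Ideal Cfsg.AlgInt) (hM : Cfsg.IsPModular p M) (D : Subgroup G) (hD : IsPGroup p D) (hG : D ⊔ Subgroup.centralizer (D : Set G) = ⊤) (B : Set (Cfsg.IrrCharacter G)) (hB : Cfsg.IsPBlock M B) (hBD : Cfsg.IsDefectGroup p M B D) (χ : Cfsg.IrrCharacter G) (hχ : χ ∈ B) (hχD : ∀ y ∈ D, (χ : G → ℂ) y = (χ : G → ℂ) 1) : (∀ θ : Cfsg.IrrCharacter G, θ ∈ B ↔ ∃ ζ : Cfsg.IrrCharacter D, (∀ (y : D) (x : G), ¬ p ∣ orderOf x → Commute (y : G) x → (θ : G → ℂ) ((y : G) * x) = (ζ : D → ℂ) y * (χ : G → ℂ) x) ∧ (∀ z : G, (∀ y : G, Cfsg.IsPPart p z y → y ∉ D) → (θ : G → ℂ) z = 0)) ∧ ∀ ζ : Cfsg.IrrCharacter D, ∃ θ ∈ B, (∀ (y : D) (x : G), ¬ p ∣ orderOf x → Commute (y : G) x → (θ : G → ℂ) ((y : G) * x) = (ζ : D → ℂ) y * (χ : G → ℂ) x) ∧ (∀ z : G, (∀ y : G, Cfsg.IsPPart p z y → y ∉ D) → (θ : G → ℂ) z = 0) := by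
  classical
  have : Fintype G := Fintype.ofFinite G
  have : Fintype (IrrCharacter G) := Fintype.ofFinite _
  have hMp := Cfsg.Agent.Helper5.Loc.isPrime_of_isPModular hM
  obtain ⟨ζ₀, φ₀, h₀⟩ := Cfsg.Agent.Helper5.CP.exists_decomp hG χ
  have hζ₀ := Cfsg.Agent.Helper5.CP.zeta_eq_triv_of_ker χ ζ₀ φ₀ h₀ hχD
  rw [hζ₀] at h₀
  have key : ∀ (θ : Cfsg.IrrCharacter G) (hθ : θ ∈ B) (ζ : Cfsg.IrrCharacter D)
      (φ : Cfsg.IrrCharacter (Cfsg.Agent.Helper5.CP.Cen D)),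
      Cfsg.Agent.Helper5.CP.Decomp D (θ : G → ℂ) (ζ : D → ℂ) (φ : _ → ℂ) →
      (∀ (y : D) (x : G), ¬ p ∣ orderOf x → Commute (y : G) x →
        (θ : G → ℂ) ((y : G) * x) = (ζ : D → ℂ) y * (χ : G → ℂ) x) ∧
      (∀ z : G, (∀ y : G, Cfsg.IsPPart p z y → y ∉ D) → (θ : G → ℂ) z = 0) := by
    intro θ hθ ζ φ h
    obtain ⟨h1, h2⟩ := Cfsg.Agent.Helper5.CP.values_of_decomp hM hD hG hB hBD χ θ hχ hθ ζ φ₀ φ h₀ h
    exact ⟨fun y x hx _ => h1 y x hx, h2⟩
  refine ⟨fun θ => ⟨fun hθ => ?_, ?_⟩, fun ζ => ?_⟩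
  · obtain ⟨ζ, φ, h⟩ := Cfsg.Agent.Helper5.CP.exists_decomp hG θ
    exact ⟨ζ, key θ hθ ζ φ h⟩
  · rintro ⟨ζ, h1, -⟩
    rw [Cfsg.Agent.Helper5.CC.IsPBlock_eq_blockOf hMp hB hχ]
    show Cfsg.SameBlock M (χ : G → ℂ) (θ : G → ℂ)
    apply Cfsg.Agent.Helper5.CC.sameBlock_of_regular hM
    intro g hg
    have e1 := h1 1 g hg (by simp)
    have e2 := h1 1 1 (by rw [orderOf_one]; exact (Fact.out : p.Prime).one_lt.ne' ∘ Nat.dvd_one.mp)
      (by simp)
    simp only [OneMemClass.coe_one, one_mul] at e1 e2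
    have hζ1 := Cfsg.Agent.Helper24.irr_one_ne_zero ζ
    have hχ1 := Cfsg.Agent.Helper24.irr_one_ne_zero χ
    have : Cfsg.centralChar (χ : G → ℂ) g = Cfsg.centralChar (θ : G → ℂ) g := by
      unfold Cfsg.centralChar
      rw [e1, e2]
      field_simp
    rw [this, sub_self]
    exact Cfsg.Agent.Helper5.Loc.memLocalIdeal_zero hMp
  · obtain ⟨θ, hθB, φ, h⟩ := Cfsg.Agent.Helper5.CP.exists_of_zeta hM hD hG hB hBD ζ
    exact ⟨θ, hθB, key θ hθB ζ φ h⟩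

end Cfsg.Agent.S4714
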