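import Cfsg.Statements.S4715
import Mathlib
import Cfsg.Agent.Helper23.HeightBoundF

set_option autoImplicit false
open Cfsg

namespace Cfsg.Agent.S4715

/-- Let p be a prime, M a maximal ideal of the algebraic integers containing p, B a p-block of the finite group G with defect group D of order p^d, H = D·C_G(D), b a block of H inducing B, T the stabilizer of b in N_G(D) and e = [T : H] the inertial index of B; let n be the integer with p^n ≤ e < p^(n+1) and p^c the order of the centre of D. Then every irreducible character in B has height h with h + c ≤ n + d. -/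
theorem result {G : Type*} [Group G] [Finite G] (p : ℕ) [Fact p.Prime] (M : Ideal Cfsg.AlgInt) (hM : Cfsg.IsPModular p M) (B : Set (Cfsg.IrrCharacter G)) (hB : Cfsg.IsPBlock M B) (D : Subgroup G) (hBD : Cfsg.IsDefectGroup p M B D) (d : ℕ) (hDd : Nat.card D = p ^ d) (H : Subgroup G) (hH : H = D ⊔ Subgroup.centralizer (D : Set G)) (b : Set (Cfsg.IrrCharacter H)) (hind : Cfsg.IsInducedBlock M H b B) (T : Subgroup G) (hT : ∀ g : G, g ∈ T ↔ (g ∈ Subgroup.normalizer (D : Set G) ∧ ∀ θ ∈ b, ∀ θ' : Cfsg.IrrCharacter H, (∀ h h' : H, (h' : G) = g * h * g⁻¹ → (θ' : H → ℂ) h' = (θ : H → ℂ) h) → θ' ∈ b)) (e : ℕ) (he : H.relIndex T = e) (n : ℕ) (hn : p ^ n ≤ e ∧ e < p ^ (n + 1)) (c : ℕ) (hc : Nat.card (Subgroup.center D) = p ^ c) : ∀ χ ∈ B, Cfsg.blockHeight p B (χ : G → ℂ) + c ≤ n + d := by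
  classical
  intro χ hχ
  have : Fintype G := Fintype.ofFinite G
  have : Fintype (IrrCharacter G) := Fintype.ofFinite _
  have hpp : p.Prime := Fact.out
  have hmin := Cfsg.Agent.Helper8.IndHt.minVal_le p hχ
  have hh : (Cfsg.Agent.Helper24.irrDeg χ).factorization p =
      Cfsg.Agent.Helper8.IndHt.minVal p B + blockHeight p B (χ : G → ℂ) := by
    have e1 : blockHeight p B (χ : G → ℂ) =
        (Cfsg.Agent.Helper24.irrDeg χ).factorization p - Cfsg.Agent.Helper8.IndHt.minVal p B := by
      unfold blockHeight Cfsg.Agent.Helper8.IndHt.minVal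
      rw [Cfsg.Agent.Helper5.CC.charDegree_eq_irrDeg]
    omega
  have key := Cfsg.Agent.Helper23.HB.center_card_mul_pow_le hM B hB D hBD H hH b hind T hT χ hχ _ hh
  rw [hc, he] at key
  have hd : blockDefect p B = d := by
    apply Nat.pow_right_injective hpp.two_le
    show p ^ blockDefect p B = p ^ d
    rw [← Cfsg.Agent.Helper5.CC.card_defectGroup hM hB hBD, hDd]
  rw [hd] at key
  have h1 : p ^ (c + blockHeight p B (χ : G → ℂ)) < p ^ (n + 1 + d) := by
    rw [pow_add, pow_add]
    calc p ^ c * p ^ blockHeight p B (χ : G → ℂ) ≤ e * p ^ d := key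
      _ < p ^ (n + 1) * p ^ d := Nat.mul_lt_mul_of_pos_right hn.2 (pow_pos hpp.pos d)
  have h2 := (Nat.pow_lt_pow_iff_right hpp.one_lt).mp h1
  omega

end Cfsg.Agent.S4715
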