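import Cfsg.Statements.S4716
import Mathlib
import Cfsg.Agent.Helper23.ContribE

set_option autoImplicit false
open Cfsg

namespace Cfsg.Agent.S4716

/-- Let p be a prime, M a maximal ideal of the algebraic integers containing p, and B a p-block of defect d of the finite group G all of whose irreducible characters have height zero. Let y be a p-element, C = C_G(y), and b a block of C inducing B and having the same defect d (a major subsection). Then k(B)^2 ≤ p^(2d)·l(b), where k(B) is the number of irreducible characters in B and l(b) the p-regular rank of b (its number of irreducible Brauer characters); in particular (y = 1) k(B)^2 ≤ p^(2d)·l(B). -/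
theorem result {G : Type*} [Group G] [Finite G] (p : ℕ) [Fact p.Prime] (M : Ideal Cfsg.AlgInt) (hM : Cfsg.IsPModular p M) (B : Set (Cfsg.IrrCharacter G)) (hB : Cfsg.IsPBlock M B) (d : ℕ) (hd : Cfsg.blockDefect p B = d) (hh : ∀ χ ∈ B, Cfsg.blockHeight p B (χ : G → ℂ) = 0) (y : G) (hy : ∃ k : ℕ, orderOf y = p ^ k) (b : Set (Cfsg.IrrCharacter ↥(Subgroup.centralizer ({y} : Set G)))) (hind : Cfsg.IsInducedBlock M (Subgroup.centralizer ({y} : Set G)) b B) (hbd : Cfsg.blockDefect p b = d) : Nat.card B ^ 2 ≤ p ^ (2 * d) * Cfsg.blockRank p b := by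
  classical
  haveI : Fintype G := Fintype.ofFinite _
  haveI : Fintype (Subgroup.centralizer ({y} : Set G)) := Fintype.ofFinite _
  haveI : Fintype (IrrCharacter G) := Fintype.ofFinite _
  haveI : Fintype (IrrCharacter (Subgroup.centralizer ({y} : Set G))) := Fintype.ofFinite _
  have hyC : y ∈ Subgroup.centralizer ({y} : Set G) := by
    rw [Subgroup.mem_centralizer_iff]
    intro h hh
    rw [Set.mem_singleton_iff] at hh
    rw [hh]
  have hcomm : ∀ c : Subgroup.centralizer ({y} : Set G), y * (c : G) = (c : G) * y := by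
    intro c
    exact Subgroup.mem_centralizer_iff.mp c.2 y rfl
  set S : Finset (IrrCharacter G) := Finset.univ.filter (· ∈ B) with hS
  have hSB : ∀ χ ∈ S, χ ∈ B := fun χ hχ => (Finset.mem_filter.mp hχ).2
  have hmin : ∀ χ ∈ S, ∀ ξ ∈ B, (Cfsg.Agent.Helper24.irrDeg χ).factorization p ≤
      (Cfsg.Agent.Helper24.irrDeg ξ).factorization p := by
    intro χ hχ ξ hξ
    have h0 := hh χ (hSB χ hχ)
    rw [Cfsg.Agent.Helper8.IndHt.blockHeight_eq, Nat.sub_eq_zero_iff_le] at h0
    exact le_trans h0 (Cfsg.Agent.Helper8.IndHt.minVal_le p hξ)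
  have key := Cfsg.Agent.Helper23.CM.card_sq_le hM y hy (Subgroup.centralizer ({y} : Set G)) hyC
    hcomm le_rfl hind S hSB hmin
  have hcard : Nat.card B = S.card := by
    rw [Nat.card_eq_fintype_card, hS, Fintype.card_subtype]
  rw [hbd] at key
  rw [hcard]
  exact_mod_cast key

end Cfsg.Agent.S4716
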