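import Cfsg.Statements.S4718
import Cfsg.Agent.S4494
import Cfsg.Agent.Helper23.LandauBound
import Cfsg.Agent.Helper5.ThirdMain
import Cfsg.Agent.Helper24.ColumnOrth

set_option autoImplicit false
universe u
open Cfsg

namespace Cfsg.Agent.S4718

/-- Let p be a prime and a a natural number. There is a bound N such that every finite group whose Sylow p-subgroups have order p^a and whose only p-block (relative to a maximal ideal of the algebraic integers containing p) is the principal block has order at most N. -/
theorem result (p : ℕ) [Fact p.Prime] (a : ℕ) : ∃ N : ℕ, ∀ (G : Type u) [Group G] [Finite G] (M : Ideal Cfsg.AlgInt), Cfsg.IsPModular p M → (Nat.card G).factorization p = a → (∀ B : Set (Cfsg.IrrCharacter G), Cfsg.IsPBlock M B → B = Cfsg.principalBlock M G) → Nat.card G ≤ N := by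
  refine ⟨Cfsg.Agent.Helper23.Landau.bound' (p ^ (2 * a)), ?_⟩
  intro G _ _ M hM ha hone
  have hMp := Cfsg.Agent.Helper5.Loc.isPrime_of_isPModular hM
  have : Fintype G := Fintype.ofFinite G
  apply Cfsg.Agent.Helper23.Landau.card_le_bound'
  -- every character is in the principal block
  have huniv : Cfsg.principalBlock M G = Set.univ := by
    ext χ
    simp only [Set.mem_univ, iff_true]
    rw [← hone _ (Cfsg.Agent.Helper5.CC.isPBlock_blockOf χ)]
    exact Cfsg.Agent.Helper5.CC.mem_blockOf_self hMp χ
  have hBF := Cfsg.Agent.S4494.result p M hM (Cfsg.principalBlock M G)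
    Cfsg.Agent.Helper5.CC.isPBlock_principalBlock
  have hcard : Nat.card (Cfsg.principalBlock M G) = Nat.card (ConjClasses G) := by
    rw [huniv, Nat.card_congr (Equiv.Set.univ _)]
    exact Cfsg.Agent.Helper24.card_irr_eq_card_conjClasses
  rw [hcard] at hBF
  have hd : Cfsg.blockDefect p (Cfsg.principalBlock M G) ≤ a := by
    unfold Cfsg.blockDefect
    rw [ha]
    exact Nat.sub_le _ _
  have hpow : p ^ (2 * Cfsg.blockDefect p (Cfsg.principalBlock M G)) ≤ p ^ (2 * a) :=
    Nat.pow_le_pow_right (Fact.out : p.Prime).pos (by omega)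
  have h4 : 4 ≤ p ^ (2 * a) ∨ a = 0 := by
    rcases Nat.eq_zero_or_pos a with h | h
    · right; exact h
    · left
      have h2 : 2 ≤ p := (Fact.out : p.Prime).two_le
      calc 4 = 2 ^ 2 := by norm_num
        _ ≤ p ^ 2 := Nat.pow_le_pow_left h2 2
        _ ≤ p ^ (2 * a) := Nat.pow_le_pow_right (Fact.out : p.Prime).pos (by omega)
  rcases h4 with h4 | h4
  · omega
  · subst h4
    have hd0 : Cfsg.blockDefect p (Cfsg.principalBlock M G) = 0 := by omega
    rw [hd0] at hBF
    simp at hBF ⊢
    omega

end Cfsg.Agent.S4718
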