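import Cfsg.Statements.S4721
import Cfsg.Agent.Helper8.AS21
import Cfsg.Agent.Helper24.Codegree

set_option autoImplicit false
open Cfsg

namespace Cfsg.Agent.S4721

/-- Let p be a prime, M a maximal ideal of the algebraic integers containing p, and G a finite group with a nontrivial abelian Sylow p-subgroup P, N = N_G(P), C = C_G(P), such that N/C is cyclic of order 3, #P > 4, and C_G(y) ∩ N = C for every non-identity y ∈ P. Then the principal p-block is the disjoint union of a set X of exactly 3 characters containing the principal character and a set Y of (#P − 1)/3 characters, with signs a_χ = ±1 (χ ∈ X, a = 1 at the principal character) and δ = ±1 such that every χ ∈ X takes the value a_χ at every element whose p-part is a non-identity element of P, and there is a map ζ from the non-principal linear characters of P onto Y, constant on N-conjugacy classes, with ζ_ψ(z) = δ·Σ ψ'(y) over the N-orbit of ψ, for z with p-part y ≠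 1 in P. If moreover G has an involution lying in no proper normal subgroup of G, then exactly two of the three numbers −δ and a_χ (χ ∈ X non-principal) equal −1, and the product of the degrees of the two non-principal members of X and of any member of Y is a perfect square. -/
theorem result {G : Type*} [Group G] [Finite G] (p : ℕ) [Fact p.Prime] (M : Ideal Cfsg.AlgInt) (hM : Cfsg.IsPModular p M) (P : Sylow p G) (hab : IsMulCommutative P) (hP1 : Nat.card P ≠ 1) (hCN : (Subgroup.centralizer ((P : Subgroup G) : Set G)).relIndex (Subgroup.normalizer ((P : Subgroup G) : Set G)) = 3) (hcyc : ∃ g : G, g ∈ Subgroup.normalizer ((P : Subgroup G) : Set G) ∧ Subgroup.centralizer ((P : Subgroup G) : Set G) ⊔ Subgroup.zpowers g = Subgroup.normalizer ((P : Subgroup G) : Set G)) (hm2 : 3 + 1 < Nat.card P) (hfrob : ∀ y : G, y ∈ (P : Subgroup G) → y ≠ 1 → Subgroup.centralizer ({y} : Set G) ⊓ Subgroup.normalizer ((P : Subgroup G) : Set G) = Subgroup.centralizer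 ((P : Subgroup G) : Set G)) : ∃ (X Y : Set (Cfsg.IrrCharacter G)), Cfsg.principalBlock M G = X ∪ Y ∧ Disjoint X Y ∧ Nat.card X = 3 ∧ Nat.card Y = (Nat.card P - 1) / 3 ∧ (∃ χ₁ ∈ X, (χ₁ : G → ℂ) = fun _ => 1) ∧ ∃ (a : Cfsg.IrrCharacter G → ℤ) (δ : ℤ) (ζ : (↥(P : Subgroup G) →* ℂˣ) → Cfsg.IrrCharacter G), (δ = 1 ∨ δ = -1) ∧ (∀ χ ∈ X, (a χ = 1 ∨ a χ = -1) ∧ ∀ z y : G, Cfsg.IsPPart p z y → y ∈ (P : Subgroup G) → y ≠ 1 → (χ : G → ℂ) z = (a χ : ℂ)) ∧ (∀ ψ : ↥(P : Subgroup G) →* ℂˣ, ψ ≠ 1 → ζ ψ ∈ Y) ∧ (∀ η ∈ Y, ∃ ψ : ↥(P : Subgroup G) →* ℂˣ, ψ ≠ 1 ∧ ζ ψ = η) ∧ (∀ ψ ψ' : ↥(P : Subgroup G) →* ℂˣ, ψ ≠ 1 → (∃ n : G, n ∈ Subgroup.normalizer ((P : Subgroup G) : Set G) ∧ ∀ w w' : ↥(P : Subgroup G), (w' : G) = n * w * n⁻¹ → ψ' w' = ψ w) → ζ ψ' = ζ ψ) ∧ (∀ ψ : ↥(P : Subgroup G) →* ℂˣ, ψ ≠ 1 → ∀ (z : G) (y : ↥(P : Subgroup G)), Cfsg.IsPPart p z (y : G) → (y : G) ≠ 1 → (ζ ψ : G → ℂ) z = (δ : ℂ) * ∑ᶠ ψ' ∈ {ψ' : ↥(P : Subgroup G) →* ℂˣ | ∃ n : G,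 n ∈ Subgroup.normalizer ((P : Subgroup G) : Set G) ∧ ∀ w w' : ↥(P : Subgroup G), (w' : G) = n * w * n⁻¹ → ψ' w' = ψ w}, ((ψ' y : ℂˣ) : ℂ)) ∧ ((∃ t : G, orderOf t = 2 ∧ ∀ K : Subgroup G, K.Normal → t ∈ K → K = ⊤) → Nat.card {χ : Cfsg.IrrCharacter G // χ ∈ X ∧ (χ : G → ℂ) ≠ (fun _ => 1) ∧ a χ = -1} + (if δ = 1 then 1 else 0) = 2 ∧ ∀ η ∈ Y, IsSquare (Cfsg.charDegree (η : G → ℂ) * ∏ᶠ χ ∈ {χ : Cfsg.IrrCharacter G | χ ∈ X ∧ (χ : G → ℂ) ≠ fun _ => 1}, Cfsg.charDegree (χ : G → ℂ))) := by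
  classical
  haveI : Fintype G := Fintype.ofFinite G
  haveI : Fintype (IrrCharacter G) := Fintype.ofFinite _
  have hc : ∀ a b : (P : Subgroup G), a * b = b * a := fun a b => hab.is_comm.comm a b
  haveI : Finite ((P : Subgroup G) →* ℂˣ) := Cfsg.Agent.Helper8.finite_hom_units hc
  haveI : Fintype ((P : Subgroup G) →* ℂˣ) := Fintype.ofFinite _
  have hPc : Nat.card P = Nat.card (P : Subgroup G) := rfl
  rw [hPc] at hP1 hm2 ⊢
  have H : Cfsg.Agent.Helper8.AS.Hyp3 M P := ⟨hM, hab, hP1, hfrob, hCN, hm2⟩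
  obtain ⟨E, hE0⟩ := Cfsg.Agent.Helper8.AS.exists_exc_normalized hM P hab hP1 hfrob hCN hm2
  have hcard := E.card_Yf_mul hab hfrob
  rw [hCN] at hcard
  have hr : E.Yf.card = (Nat.card (P : Subgroup G) - 1) / 3 := by
    rw [← hcard]; exact (Nat.mul_div_cancel _ (by norm_num)).symm
  have hX3 := E.Xf_three hM hab hP1 hfrob hCN hm2
  refine ⟨(E.Xf : Set (IrrCharacter G)), (E.Yf : Set (IrrCharacter G)), ?_, ?_, ?_, ?_, ?_, ?_⟩
  · ext χ
    rw [Set.mem_union, Finset.mem_coe, Finset.mem_coe]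
    exact E.mem_block_iff χ
  · exact Finset.disjoint_coe.mpr E.disjoint_Xf_Yf
  · rw [Nat.card_coe_set_eq, Set.ncard_coe_finset, hX3.1]
  · rw [Nat.card_coe_set_eq, Set.ncard_coe_finset, hr]
  · exact ⟨Cfsg.Agent.Helper24.trivIrr G, Finset.mem_coe.mpr (E.triv_mem_Xf hM hab hfrob H.hm), rfl⟩
  refine ⟨fun χ => -E.nV χ, E.ε, E.ζ, E.hε, ?_, ?_, ?_, ?_, ?_, ?_⟩
  · intro χ hχ
    rw [Finset.mem_coe] at hχ
    refine ⟨?_, ?_⟩
    · rcases hX3.2 χ hχ with h | h
      · right; show -E.nV χ = -1; rw [h]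
      · left; show -E.nV χ = 1; rw [h]; norm_num
    · intro z y hz hyP hy1
      exact E.apply_section_Xf H χ hχ z y hz hyP hy1
  · intro ψ hψ
    exact Finset.mem_coe.mpr ((E.mem_Yf _).mpr ⟨ψ, hψ, rfl⟩)
  · intro η hη
    exact (E.mem_Yf η).mp (Finset.mem_coe.mp hη)
  · intro ψ ψ' hψ hrel
    have hrel' : Cfsg.Agent.Helper8.AS.RelS (P : Subgroup G) ψ ψ' := hrel
    have hψ' : ψ' ≠ 1 := Cfsg.Agent.Helper8.AS.relS_ne_one (P : Subgroup G) hrel' hψ
    exact ((E.hζinj ψ ψ' hψ hψ').mpr hrel').symm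
  · intro ψ hψ z y hz hy1
    rw [Cfsg.Agent.Helper8.AS.const_section hM P hab hfrob (E.ζ ψ) (E.hζB ψ hψ) z (y : G) hz y.2 hy1]
    have := E.apply_P_ζ hab hψ y (fun h => hy1 (by rw [h]; rfl))
    rw [this, Cfsg.Agent.Helper5.CC.finsum_mem_eq_sum_ite', ← Finset.sum_filter, hE0 ψ hψ]
    push_cast
    rw [neg_zero, zero_add]
    congr 1
    apply Finset.sum_congr _ (fun _ _ => rfl)
    ext ψ'
    simp only [Finset.mem_filter, Finset.mem_univ, true_and]
    rfl
  · rintro ⟨t, ht, hmin⟩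
    obtain ⟨θ₂, θ₃, h23, h2t, h3t, hXeq, hcount, hsq⟩ := E.involution_clause H hE0 ht hmin
    have htriv : ∀ χ : IrrCharacter G, (χ : G → ℂ) ≠ (fun _ => 1) ↔ χ ≠ Cfsg.Agent.Helper24.trivIrr G := by
      intro χ
      constructor
      · intro h h'
        apply h
        rw [h']
        rfl
      · intro h h'
        apply h
        exact Subtype.ext h'
    constructor
    · have hset : Finset.univ.filter (fun χ : IrrCharacter G =>
          χ ∈ (E.Xf : Set (IrrCharacter G)) ∧ (χ : G → ℂ) ≠ (fun _ => 1) ∧ -E.nV χ = -1) =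
          ({θ₂, θ₃} : Finset (IrrCharacter G)).filter (fun χ => E.nV χ = 1) := by
        ext χ
        simp only [Finset.mem_filter, Finset.mem_univ, true_and, Finset.mem_coe, htriv, hXeq,
          Finset.mem_insert, Finset.mem_singleton, neg_inj]
        constructor
        · rintro ⟨h1 | h1 | h1, h2, h3⟩
          · exact absurd h1 h2
          · exact ⟨Or.inl h1, h3⟩
          · exact ⟨Or.inr h1, h3⟩
        · rintro ⟨h1 | h1, h3⟩
          · exact ⟨Or.inr (Or.inl h1), by rw [h1]; exact h2t, h3⟩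
          · exact ⟨Or.inr (Or.inr h1), by rw [h1]; exact h3t, h3⟩
      rw [Nat.card_eq_fintype_card, Fintype.card_subtype, hset, Finset.card_filter,
        Finset.sum_pair h23]
      exact hcount
    · intro η hη
      have hset : {χ : IrrCharacter G | χ ∈ (E.Xf : Set (IrrCharacter G)) ∧
          (χ : G → ℂ) ≠ fun _ => 1} = (({θ₂, θ₃} : Finset (IrrCharacter G)) : Set (IrrCharacter G)) := by
        ext χ
        simp only [Set.mem_setOf_eq, Finset.mem_coe, htriv, hXeq, Finset.mem_insert,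
          Finset.mem_singleton]
        constructor
        · rintro ⟨h1 | h1 | h1, h2⟩
          · exact absurd h1 h2
          · exact Or.inl h1
          · exact Or.inr h1
        · rintro (h1 | h1)
          · exact ⟨Or.inr (Or.inl h1), by rw [h1]; exact h2t⟩
          · exact ⟨Or.inr (Or.inr h1), by rw [h1]; exact h3t⟩
      rw [hset, finprod_mem_coe_finset, Finset.prod_pair h23,
        Cfsg.Agent.Helper24.charDegree_irr, Cfsg.Agent.Helper24.charDegree_irr,
        Cfsg.Agent.Helper24.charDegree_irr]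
      exact hsq η (Finset.mem_coe.mp hη)

end Cfsg.Agent.S4721
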