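import Cfsg.Statements.S4723
import Cfsg.Agent.Helper23.InvHeightZero
import Cfsg.Agent.Helper23.BlockTransport
import Cfsg.Agent.Helper24.Ito

set_option autoImplicit false
open Cfsg

namespace Cfsg.Agent.S4723

open Cfsg.Agent.Helper24 Cfsg.Agent.Helper5 Cfsg.Agent.Helper5.Loc Cfsg.Agent.Helper5.CC
open Cfsg.Agent.Helper23.NS Cfsg.Agent.Helper23.BT Cfsg.Agent.Helper23.IHZ

theorem charDegree_pullIrr {X Y : Type*} [Group X] [Group Y] (φ : X ≃* Y) (χ : IrrCharacter Y) :
    charDegree (pullIrr φ χ : X → ℂ) = charDegree (χ : Y → ℂ) := by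
  rw [charDegree, charDegree, pullIrr_apply, map_one]

theorem blockHeight_pullBlock {X Y : Type*} [Group X] [Group Y] (p : ℕ) (φ : X ≃* Y)
    (b : Set (IrrCharacter Y)) (ξ : IrrCharacter X) :
    blockHeight p (pullBlock φ b) (ξ : X → ℂ) = blockHeight p b (pullIrr φ.symm ξ : Y → ℂ) := by
  have hset : ((fun χ : IrrCharacter X => (charDegree (χ : X → ℂ)).factorization p) '' pullBlock φ b) =
      ((fun χ : IrrCharacter Y => (charDegree (χ : Y → ℂ)).factorization p) '' b) := by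
    ext m
    constructor
    · rintro ⟨η, hη, rfl⟩
      refine ⟨pullIrr φ.symm η, hη, ?_⟩
      beta_reduce
      rw [charDegree_pullIrr]
    · rintro ⟨χ, hχ, rfl⟩
      refine ⟨pullIrr φ χ, (pullIrr_mem_pullBlock_iff φ b χ).mpr hχ, ?_⟩
      beta_reduce
      rw [charDegree_pullIrr]
  rw [blockHeight, blockHeight, hset, charDegree_pullIrr]


/-- Let p be a prime, M a maximal ideal of the algebraic integers containing p, H a normal subgroup of the finite group G and b a p-block of H. Let T be the stabilizer of b in G. Then b contains a character θ of height zero whose own stabilizer in G (the elements g with θ(g h g⁻¹) = θ(h) for all h ∈ H) has index prime to p in T, i.e. contains a Sylow p-subgroup of T. -/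
theorem result {G : Type*} [Group G] [Finite G] (p : ℕ) [Fact p.Prime] (M : Ideal Cfsg.AlgInt) (hM : Cfsg.IsPModular p M) (H : Subgroup G) [H.Normal] (b : Set (Cfsg.IrrCharacter ↥H)) (hb : Cfsg.IsPBlock M b) (T : Subgroup G) (hT : (∀ g : G, g ∈ T ↔ ∀ θ ∈ b, ∀ θ' : Cfsg.IrrCharacter ↥H, (∀ h h' : ↥H, (h' : G) = g * h * g⁻¹ → (θ' : ↥H → ℂ) h' = (θ : ↥H → ℂ) h) → θ' ∈ b)) : ∃ θ ∈ b, Cfsg.blockHeight p b (θ : ↥H → ℂ) = 0 ∧ ∃ S : Subgroup G, S ≤ T ∧ (∀ g : G, g ∈ S ↔ (g ∈ T ∧ ∀ h h' : ↥H, (h' : G) = g * h * g⁻¹ → (θ : ↥H → ℂ) h' = (θ : ↥H → ℂ) h)) ∧ ¬ p ∣ S.relIndex T := by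
  classical
  have hp : Fact p.Prime := inferInstance
  have : Fintype G := Fintype.ofFinite G
  have hHn : H.Normal := inferInstance
  have hMp := isPrime_of_isPModular hM
  -- `H ≤ T`
  have hHT : H ≤ T := by
    intro g hg
    rw [hT]
    intro θ hθ θ' hθ'
    have : θ' = θ := by
      apply Subtype.ext
      funext h
      have hcf : IsClassFunction H (θ' : ↥H → ℂ) :=
        IsCharacter.isClassFunction (IsIrrCharacter.isCharacter θ'.2)
      have h1 := hθ' h (⟨g, hg⟩ * h * ⟨g, hg⟩⁻¹) (by simp)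
      rw [← h1]
      exact (hcf h ⟨g, hg⟩).symm
    rw [this]
    exact hθ
  -- a Sylow subgroup of `T`
  obtain ⟨P₀⟩ : Nonempty (Sylow p T) := inferInstance
  set P : Subgroup G := (P₀ : Subgroup T).map T.subtype with hPdef
  have hPT : P ≤ T := by
    rintro _ ⟨x, _, rfl⟩
    exact x.2
  have hPp : IsPGroup p P := P₀.2.map _
  set K : Subgroup G := H ⊔ P with hKdef
  have hKT : K ≤ T := sup_le hHT hPT
  have hHK : H ≤ K := le_sup_left
  have hPK : P ≤ K := le_sup_right
  have : Fintype K := Fintype.ofFinite _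
  have : Fintype (H.subgroupOf K) := Fintype.ofFinite _
  set φ : ↥(H.subgroupOf K) ≃* ↥H := Subgroup.subgroupOfEquivOfLe hHK with hφ
  have hφc : ∀ n : ↥(H.subgroupOf K), ((φ n : ↥H) : G) = ((n : ↥K) : G) := fun n => rfl
  have hφs : ∀ h : ↥H, (((φ.symm h : ↥(H.subgroupOf K)) : ↥K) : G) = (h : G) := by
    intro h
    rw [← hφc, MulEquiv.apply_symm_apply]
  -- index
  have hidx : ∃ k : ℕ, (H.subgroupOf K).index = p ^ k := by
    obtain ⟨n, hn⟩ := IsPGroup.iff_card.mp hPp
    have h1 : H.relIndex K = H.relIndex P := Subgroup.relIndex_sup_left P H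
    have h2 : H.relIndex P ∣ Nat.card P := Subgroup.relIndex_dvd_card H P
    rw [hn] at h2
    obtain ⟨j, -, hj⟩ := (Nat.dvd_prime_pow hp.out).mp h2
    exact ⟨j, by rw [← hj, ← h1]; rfl⟩
  set c : Set (IrrCharacter ↥(H.subgroupOf K)) := pullBlock φ b with hcdef
  have hc : IsPBlock M c := isPBlock_pullBlock φ hb
  have hst : IsStable (H.subgroupOf K) c := by
    intro ξ hξ x
    rw [hcdef, mem_pullBlock_iff]
    have hx : ((x : G))⁻¹ ∈ T := T.inv_mem (hKT x.2)
    refine (hT _).mp hx (pullIrr φ.symm ξ) hξ _ ?_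
    intro h h' hh'
    rw [pullIrr_apply, pullIrr_apply]
    show (ξ : ↥(H.subgroupOf K) → ℂ) _ = _
    refine congrArg _ ?_
    apply Subtype.ext
    apply Subtype.ext
    show (x : G) * (((φ.symm h' : ↥(H.subgroupOf K)) : ↥K) : G) * ((x : G))⁻¹ = _
    rw [hφs, hφs, hh']
    group
  obtain ⟨ξ, hξc, hξh, hξinv⟩ := exists_invariant_height_zero hM (H.subgroupOf K) hidx c hc hst
  refine ⟨pullIrr φ.symm ξ, hξc, ?_, ?_⟩
  · rw [← blockHeight_pullBlock]
    exact hξh
  · refine ⟨T ⊓ inertiaSubgroup H (pullIrr φ.symm ξ : ↥H → ℂ), inf_le_left, ?_, ?_⟩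
    · intro g
      rw [Subgroup.mem_inf, mem_inertiaSubgroup]
      constructor
      · rintro ⟨hgT, hg⟩
        refine ⟨hgT, ?_⟩
        intro h h' hh'
        rw [← hg h]
        refine congrArg _ ?_
        exact Subtype.ext hh'
      · rintro ⟨hgT, hg⟩
        exact ⟨hgT, fun h => hg h _ rfl⟩
    · have hPS : P ≤ T ⊓ inertiaSubgroup H (pullIrr φ.symm ξ : ↥H → ℂ) := by
        intro g hg
        refine ⟨hPT hg, ?_⟩
        show g ∈ inertiaSubgroup H (pullIrr φ.symm ξ : ↥H → ℂ)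
        rw [mem_inertiaSubgroup]
        intro h
        rw [pullIrr_apply, pullIrr_apply]
        rw [← hξinv ⟨g, hPK hg⟩ (φ.symm h)]
        refine congrArg _ ?_
        apply Subtype.ext
        apply Subtype.ext
        show _ = g * (((φ.symm h : ↥(H.subgroupOf K)) : ↥K) : G) * g⁻¹
        rw [hφs, hφs]
      intro hdvd
      have hle : (P₀ : Subgroup T) ≤
          (T ⊓ inertiaSubgroup H (pullIrr φ.symm ξ : ↥H → ℂ)).subgroupOf T := by
        intro x hx
        rw [Subgroup.mem_subgroupOf]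
        exact hPS ⟨x, hx, rfl⟩
      have h1 := Subgroup.index_dvd_of_le hle
      exact P₀.not_dvd_index (dvd_trans hdvd h1)

end Cfsg.Agent.S4723
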