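import Cfsg.Statements.S4725
import Cfsg.Agent.Helper8.InducedHeight

set_option autoImplicit false
open Cfsg

namespace Cfsg.Agent.S4725

/-- Let p be a prime, M a maximal ideal of the algebraic integers containing p, H a subgroup of the finite group G, and b a p-block of H inducing the p-block B of G, with b and B of the same defect. Then for every height-zero ζ ∈ b there is a height-zero χ ∈ B whose multiplicity in the character induced from ζ is not divisible by p. -/
theorem result {G : Type*} [Group G] [Fintype G] (p : ℕ) [Fact p.Prime] (M : Ideal Cfsg.AlgInt) (hM : Cfsg.IsPModular p M) (H : Subgroup G) (b : Set (Cfsg.IrrCharacter ↥H)) (B : Set (Cfsg.IrrCharacter G)) (hind : Cfsg.IsInducedBlock M H b B) (hdef : Cfsg.blockDefect p b = Cfsg.blockDefect p B) (ζ : Cfsg.IrrCharacter ↥H) (hζ : ζ ∈ b) (hζ0 : Cfsg.blockHeight p b (ζ : ↥H → ℂ) = 0) : ∃ χ ∈ B, Cfsg.blockHeight p B (χ : G → ℂ) = 0 ∧ ∃ a : ℕ, Cfsg.classInner (Cfsg.indFun H (ζ : ↥H → ℂ)) (χ : G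 → ℂ) = (a : ℂ) ∧ ¬ p ∣ a := by
  classical
  haveI : Fintype H := Fintype.ofFinite _
  haveI : Fintype (IrrCharacter G) := Fintype.ofFinite _
  have hchar : IsCharacter G (indFun H (ζ : H → ℂ)) :=
    Cfsg.Agent.Helper24.isCharacter_indFun H (Cfsg.Agent.Helper24.IsIrrCharacter.isCharacter ζ.2)
  have hex : ∀ χ : IrrCharacter G, ∃ n : ℕ, classInner (indFun H (ζ : H → ℂ)) (χ : G → ℂ) = n :=
    fun χ => Cfsg.Agent.Helper24.IsCharacter.classInner_irr_nat hchar χ
  choose m hm using hex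
  obtain ⟨χ, hχ, h0, hnd⟩ :=
    Cfsg.Agent.Helper8.IndHt.exists_heightZero_not_dvd hM H hind hdef ζ hζ hζ0 m hm
  exact ⟨χ, hχ, h0, m χ, hm χ, hnd⟩

end Cfsg.Agent.S4725
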