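import Cfsg.Statements.S4729
import Mathlib
import Cfsg.Agent.Helper23.EigenMult
import Cfsg.Agent.Helper5.BlockBasic
import Cfsg.Agent.Helper7.LocalLayer

set_option autoImplicit false
open Cfsg

namespace Cfsg.Agent.S4729


open Cfsg.Agent.Helper24 Cfsg.Agent.Helper5 Cfsg.Agent.Helper5.Loc Cfsg.Agent.Helper5.CC
  Cfsg.Agent.Helper23.EM


/-- Let p be a prime, M a maximal ideal of the algebraic integers containing p, G a finite perfect group and P a Sylow p-subgroup. If the principal p-block of G contains a faithful irreducible character of degree less than 2p, then the centralizer of P is a p-group. -/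
theorem result {G : Type*} [Group G] [Finite G] (p : ℕ) [Fact p.Prime] (M : Ideal Cfsg.AlgInt) (hM : Cfsg.IsPModular p M) (hperf : commutator G = ⊤) (P : Sylow p G) (χ : Cfsg.IrrCharacter G) (hχ : χ ∈ Cfsg.principalBlock M G) (hfaith : ∀ g : G, (χ : G → ℂ) g = (χ : G → ℂ) 1 → g = 1) (hdeg : Cfsg.charDegree (χ : G → ℂ) < 2 * p) : IsPGroup p ↥(Subgroup.centralizer ((P : Subgroup G) : Set G)) := by
  classical
  have : Fintype G := Fintype.ofFinite G
  have hMp := isPrime_of_isPModular hM
  have hp : p.Prime := Fact.out
  obtain ⟨n, ρ, hρirr, hρχ⟩ := χ.2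
  have hfr : Module.finrank ℂ (Fin n → ℂ) = n := by simp
  have hd1 : (χ : G → ℂ) 1 = (n : ℂ) := by
    rw [← hρχ, Representation.char_one, hfr]
  have hn0 : (n : ℂ) ≠ 0 := by
    rw [← hd1]; exact irr_one_ne_zero χ
  have hdeg' : n < 2 * p := by
    have : Cfsg.charDegree (χ : G → ℂ) = n := by
      unfold Cfsg.charDegree
      rw [hd1]
      simp
    omega
  -- the key congruence
  have hcong : ∀ y ∈ Subgroup.centralizer ((P : Subgroup G) : Set G),
      MemLocalIdeal M ((χ : G → ℂ) y - (n : ℂ)) := by
    intro y hy
    have h1 := hχ y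
    have hPle : (P : Subgroup G) ≤ Subgroup.centralizer ({y} : Set G) := by
      intro u hu
      rw [Subgroup.mem_centralizer_iff]
      intro t ht
      rw [Set.mem_singleton_iff] at ht
      subst ht
      rw [Subgroup.mem_centralizer_iff] at hy
      exact (hy u hu).symm
    have hidx : ¬ p ∣ (Subgroup.centralizer ({y} : Set G)).index := by
      intro hdvd
      exact P.not_dvd_index (hdvd.trans (Subgroup.index_dvd_of_le hPle))
    set idx := (Subgroup.centralizer ({y} : Set G)).index with hidxdef
    have hidx0 : (idx : ℂ) ≠ 0 := by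
      intro h0
      apply hidx
      have : idx = 0 := by exact_mod_cast h0
      rw [this]; exact dvd_zero p
    have h2 : Cfsg.centralChar (fun _ : G => (1 : ℂ)) y - Cfsg.centralChar (χ : G → ℂ) y =
        (idx : ℂ) * (((n : ℂ) - (χ : G → ℂ) y) / (n : ℂ)) := by
      simp only [centralChar_def]
      rw [hd1, ← hidxdef]
      field_simp
    rw [h2] at h1
    have h3 : MemLocalIdeal M (((n : ℂ) - (χ : G → ℂ) y) / (n : ℂ)) := by
      have := li_mul_left hMp (memLocalRing_inv_natCast hM hidx) h1
      rwa [← mul_assoc, inv_mul_cancel₀ hidx0, one_mul] at this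
    have h4 := li_mul_left hMp (memLocalRing_natCast hMp n) h3
    rw [mul_div_cancel₀ _ hn0] at h4
    have := li_neg h4
    rwa [neg_sub] at this
  -- every `p`-regular element of the centralizer is trivial
  have key : ∀ y ∈ Subgroup.centralizer ((P : Subgroup G) : Set G), ¬ p ∣ orderOf y → y = 1 := by
    intro y hy hpy
    set m := orderOf y with hm
    have hmpos : 0 < m := orderOf_pos y
    set f : Module.End ℂ (Fin n → ℂ) := ρ y with hf
    have hsup : ⨆ μ, Module.End.eigenspace f μ = ⊤ := rho_iSup_eigenspace ρ y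
    let a : ℂ → ℕ := fun μ => Module.finrank ℂ (Module.End.eigenspace f μ)
    -- multiplicities of nontrivial eigenvalues are divisible by `p`
    have hdiv : ∀ μ ∈ eigenFinset f, μ ≠ 1 → p ∣ a μ := by
      intro μ hμ hμ1
      have hμne : Module.End.eigenspace f μ ≠ ⊥ := mem_eigenFinset.mp hμ
      have hμm : μ ^ m = 1 := rho_eigenvalue_pow ρ y hμne
      have hμ0 : μ ≠ 0 := by
        intro h0
        rw [h0, zero_pow hmpos.ne'] at hμm
        exact zero_ne_one hμm
      have hinvm : (μ⁻¹) ^ m = 1 := by rw [inv_pow, hμm, inv_one]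
      have hinv1 : μ⁻¹ ≠ 1 := by
        intro h
        apply hμ1
        rw [inv_eq_one] at h
        exact h
      have hint : IsIntegral ℤ (μ⁻¹) := by
        apply IsIntegral.of_pow hmpos
        rw [hinvm]
        exact isIntegral_one
      have hformula := orderOf_mul_finrank_eigenspace ρ y hμ
      have hsplit : ∑ j ∈ Finset.range m, (μ⁻¹) ^ j * ρ.character (y ^ j) =
          ∑ j ∈ Finset.range m, (μ⁻¹) ^ j * ((χ : G → ℂ) (y ^ j) - (n : ℂ)) := by
        have h0 : ∑ j ∈ Finset.range m, (μ⁻¹) ^ j = 0 := by
          rw [sum_pow_of_pow_eq_one hinvm, if_neg hinv1]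
        have : ∑ j ∈ Finset.range m, (μ⁻¹) ^ j * ((χ : G → ℂ) (y ^ j) - (n : ℂ)) =
            ∑ j ∈ Finset.range m, (μ⁻¹) ^ j * (χ : G → ℂ) (y ^ j) -
              (∑ j ∈ Finset.range m, (μ⁻¹) ^ j) * (n : ℂ) := by
          rw [Finset.sum_mul, ← Finset.sum_sub_distrib]
          refine Finset.sum_congr rfl fun j _ => ?_
          ring
        rw [this, h0, zero_mul, sub_zero, hρχ]
      have hli : MemLocalIdeal M ((m : ℂ) * (a μ : ℂ)) := by
        rw [hformula, hsplit]
        apply li_sum hMp
        intro j _
        apply li_mul_left hMp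
        · exact lr_pow hMp (memLocalRing_of_isIntegral hMp hint) j
        · exact hcong _ (Subgroup.pow_mem _ hy j)
      have hli' : MemLocalIdeal M ((m * a μ : ℕ) : ℂ) := by
        push_cast
        exact hli
      have hdvd := (memLocalIdeal_natCast_iff hM _).mp hli'
      exact (hp.dvd_mul.mp hdvd).resolve_left hpy
    -- the multiplicities add up to the degree
    have hsum : ∑ μ ∈ eigenFinset f, a μ = n := by
      have h1 := finrank_eq_sum_eigen ρ y
      rw [hfr] at h1
      have : ((∑ μ ∈ eigenFinset f, a μ : ℕ) : ℂ) = (n : ℂ) := by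
        push_cast
        exact h1.symm
      exact_mod_cast this
    have hapos : ∀ μ ∈ eigenFinset f, 0 < a μ := by
      intro μ hμ
      have hμne : Module.End.eigenspace f μ ≠ ⊥ := mem_eigenFinset.mp hμ
      rw [Nat.pos_iff_ne_zero]
      intro h0
      exact hμne (Submodule.finrank_eq_zero.mp h0)
    by_cases hS : ∀ μ ∈ eigenFinset f, μ = 1
    · -- `ρ y` is the identity
      have hle : (⨆ μ, Module.End.eigenspace f μ) ≤ Module.End.eigenspace f 1 := by
        apply iSup_le
        intro μ
        by_cases hμ : Module.End.eigenspace f μ = ⊥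
        · rw [hμ]; exact bot_le
        · rw [hS μ (mem_eigenFinset.mpr hμ)]
      have hid : ρ y = LinearMap.id := by
        apply LinearMap.ext
        intro v
        have hv : v ∈ Module.End.eigenspace f 1 := hle (by rw [hsup]; trivial)
        have := Module.End.mem_eigenspace_iff.mp hv
        rw [one_smul] at this
        exact this
      apply hfaith
      rw [← hρχ, Representation.char_one]
      exact (char_eq_finrank_iff ρ y).mpr hid
    · exfalso
      push Not at hS
      obtain ⟨μ₀, hμ₀, hμ₀1⟩ := hS
      have hpa : p ∣ a μ₀ := hdiv μ₀ hμ₀ hμ₀1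
      have ha0 := hapos μ₀ hμ₀
      have huniq : ∀ μ ∈ eigenFinset f, μ ≠ 1 → μ = μ₀ := by
        intro μ hμ hμ1
        by_contra hne
        have hpμ : p ∣ a μ := hdiv μ hμ hμ1
        have haμ := hapos μ hμ
        have h1 : p ≤ a μ := Nat.le_of_dvd haμ hpμ
        have h2 : p ≤ a μ₀ := Nat.le_of_dvd ha0 hpa
        have hsub : ({μ, μ₀} : Finset ℂ) ⊆ eigenFinset f := by
          intro z hz
          rw [Finset.mem_insert, Finset.mem_singleton] at hz
          rcases hz with rfl | rfl
          · exact hμ
          · exact hμ₀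
        have h3 : ∑ z ∈ ({μ, μ₀} : Finset ℂ), a z ≤ ∑ z ∈ eigenFinset f, a z :=
          Finset.sum_le_sum_of_subset hsub
        rw [Finset.sum_pair hne, hsum] at h3
        omega
      have haeq : a μ₀ = p := by
        obtain ⟨c, hc⟩ := hpa
        have hle : a μ₀ ≤ n := by
          rw [← hsum]
          exact Finset.single_le_sum (f := a) (fun _ _ => Nat.zero_le _) hμ₀
        have hc1 : c = 1 := by
          rcases c with _ | _ | c
          · rw [hc, mul_zero] at ha0; omega
          · rfl
          · exfalso
            have : 2 * p ≤ a μ₀ := by rw [hc]; nlinarith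
            omega
        rw [hc, hc1, mul_one]
      have hcompl : IsCompl (Module.End.eigenspace f 1) (Module.End.eigenspace f μ₀) := by
        constructor
        · exact (Module.End.eigenspaces_iSupIndep f).pairwiseDisjoint (Ne.symm hμ₀1)
        · rw [codisjoint_iff, eq_top_iff, ← hsup]
          apply iSup_le
          intro μ
          by_cases hμ : Module.End.eigenspace f μ = ⊥
          · rw [hμ]; exact bot_le
          · by_cases hμ1 : μ = 1
            · rw [hμ1]; exact le_sup_left
            · rw [huniq μ (mem_eigenFinset.mpr hμ) hμ1]; exact le_sup_right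
      have hdet := det_of_isCompl_eigenspace f μ₀ hcompl
      have hdet1 : LinearMap.det f = 1 := det_rho_eq_one_of_perfect hperf ρ y
      rw [hdet1] at hdet
      have hpow : μ₀ ^ p = 1 := by
        have : a μ₀ = Module.finrank ℂ (Module.End.eigenspace f μ₀) := rfl
        rw [← this, haeq] at hdet
        exact hdet.symm
      have hμm : μ₀ ^ m = 1 := rho_eigenvalue_pow ρ y (mem_eigenFinset.mp hμ₀)
      have hgcd := pow_gcd_eq_one.mpr ⟨hpow, hμm⟩
      have hcop : Nat.gcd p m = 1 := (Nat.Prime.coprime_iff_not_dvd hp).mpr hpy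
      rw [hcop, pow_one] at hgcd
      exact hμ₀1 hgcd
  -- conclusion
  intro g
  refine ⟨(orderOf (g : G)).factorization p, ?_⟩
  have hcop := Cfsg.Agent.Helper7.orderOf_pow_ordProj_coprime p (g : G)
  have hnd : ¬ p ∣ orderOf ((g : G) ^ p ^ (orderOf (g : G)).factorization p) := by
    intro hdvd
    have := Nat.Coprime.eq_one_of_dvd hcop.symm hdvd
    exact hp.one_lt.ne' this
  have := key _ (Subgroup.pow_mem _ g.2 _) hnd
  apply Subtype.ext
  rw [Subgroup.coe_pow]
  exact this

end Cfsg.Agent.S4729
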