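import Cfsg.Statements.S4730
import Mathlib
import Cfsg.Agent.Helper5.LocalRing
import Cfsg.Agent.Helper5.BlockBasic
import Cfsg.Agent.Helper24.Burnside
import Cfsg.Agent.Helper24.CharBasic
import Cfsg.Agent.Helper24.Linear
import Cfsg.Agent.Helper24.Expansion
import Cfsg.Agent.Helper24.Abelian
import Cfsg.Agent.Helper8.CharComp

set_option autoImplicit false
open Cfsg

namespace Cfsg.Agent.S4730

open Cfsg Cfsg.Agent.Helper5.Loc Cfsg.Agent.Helper24 in
/-- a natural number prime to `p` is a unit modulo `M` -/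
theorem natCast_not_mem {p : ℕ} {M : Ideal Cfsg.AlgInt} (hM : Cfsg.IsPModular p M) {d : ℕ}
    (hpd : ¬ p ∣ d) : ((d : ℕ) : Cfsg.AlgInt) ∉ M := by
  have hMp : M.IsPrime := isPrime_of_isPModular hM
  have hp : p.Prime := hM.1
  intro hmem
  have hcop : Nat.Coprime d p := (Nat.Coprime.symm ((Nat.Prime.coprime_iff_not_dvd hp).mpr hpd))
  have h1 : (1 : Cfsg.AlgInt) ∈ M := by
    have hb := Nat.gcd_eq_gcd_ab d p
    rw [hcop] at hb
    have h2 : ((1 : ℤ) : Cfsg.AlgInt) = ((d : ℤ) : Cfsg.AlgInt) * ((Nat.gcdA d p : ℤ) : Cfsg.AlgInt)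
        + ((p : ℤ) : Cfsg.AlgInt) * ((Nat.gcdB d p : ℤ) : Cfsg.AlgInt) := by
      have := congrArg (fun z : ℤ => (z : Cfsg.AlgInt)) hb
      push_cast at this ⊢
      exact this
    rw [Int.cast_one] at h2
    rw [h2]
    apply M.add_mem
    · apply M.mul_mem_right
      simpa using hmem
    · apply M.mul_mem_right
      simpa using hM.2.2
  exact one_not_mem hMp h1

open Cfsg Cfsg.Agent.Helper5.Loc Cfsg.Agent.Helper24 in
/-- Core: in the block of a faithful irreducible character of `p`-power degree of a group with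
trivial centre, every degree is divisible by `|Z(P)|`. -/
theorem core {G : Type*} [Group G] [Finite G] (p : ℕ) [Fact p.Prime] (M : Ideal Cfsg.AlgInt)
    (hM : Cfsg.IsPModular p M) (hZ : Subgroup.center G = ⊥) (P : Sylow p G) (b : ℕ)
    (hb : Nat.card (Subgroup.center ↥(P : Subgroup G)) = p ^ b) (χ : Cfsg.IrrCharacter G)
    (hfaith : ∀ g : G, (χ : G → ℂ) g = (χ : G → ℂ) 1 → g = 1) (n : ℕ)
    (hdeg : (χ : G → ℂ) 1 = ((p ^ n : ℕ) : ℂ)) (ψ : Cfsg.IrrCharacter G)
    (hψ : Cfsg.SameBlock M (χ : G → ℂ) (ψ : G → ℂ)) : p ^ b ∣ irrDeg ψ := by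
  classical
  have hMp : M.IsPrime := isPrime_of_isPModular hM
  have hp : p.Prime := Fact.out
  have : Fintype G := Fintype.ofFinite G
  set Z : Subgroup G := (Subgroup.center ↥(P : Subgroup G)).map (P : Subgroup G).subtype with hZdef
  have hZcard : Nat.card Z = p ^ b := by
    rw [hZdef, Subgroup.card_map_of_injective (Subgroup.subtype_injective _), hb]
  have hZP : Z ≤ (P : Subgroup G) := Subgroup.map_subtype_le _
  have hZcent : ∀ z ∈ Z, ∀ x ∈ (P : Subgroup G), x * z = z * x := by
    rintro z ⟨z', hz', rfl⟩ x hx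
    have := (Subgroup.mem_center_iff.mp hz') ⟨x, hx⟩
    exact congrArg Subtype.val this
  set d := irrDeg ψ with hd
  have hdpos : 0 < d := irrDeg_pos ψ
  have hd0 : (d : ℂ) ≠ 0 := by exact_mod_cast hdpos.ne'
  have hψ1 : (ψ : G → ℂ) 1 = (d : ℂ) := irrDeg_spec ψ
  -- values of `χ` on `Z ∖ 1` vanish
  obtain ⟨m, ρ, hρ, hχρ⟩ := χ.2
  have hfin : (Module.finrank ℂ (Fin m → ℂ) : ℂ) = ((p ^ n : ℕ) : ℂ) := by
    rw [← hdeg, ← hχρ, Representation.char_one]
  have hfin' : Module.finrank ℂ (Fin m → ℂ) = p ^ n := by exact_mod_cast hfin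
  have hidx : ∀ z ∈ Z, ¬ p ∣ (Subgroup.centralizer ({z} : Set G)).index := by
    intro z hz hdvd
    have hle : (P : Subgroup G) ≤ Subgroup.centralizer ({z} : Set G) := by
      intro x hx
      rw [Subgroup.mem_centralizer_iff]
      intro y hy
      rw [Set.mem_singleton_iff] at hy
      subst hy
      exact (hZcent y hz x hx).symm
    exact P.not_dvd_index (hdvd.trans (Subgroup.index_dvd_of_le hle))
  have hχz : ∀ z ∈ Z, z ≠ 1 → (χ : G → ℂ) z = 0 := by
    intro z hz hz1
    have hcop : Nat.Coprime (Module.finrank ℂ (Fin m → ℂ))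
        (Subgroup.centralizer ({z} : Set G)).index := by
      rw [hfin']
      apply Nat.Coprime.pow_left
      exact (Nat.Prime.coprime_iff_not_dvd hp).mpr (hidx z hz)
    rcases char_eq_zero_or_norm_eq_of_coprime ρ z hcop with h0 | h0
    · rw [← hχρ]; exact h0
    · exfalso
      obtain ⟨ω, hω⟩ := (norm_char_eq_iff ρ z).mp h0
      apply hz1
      have hzc : z ∈ Subgroup.center G := by
        rw [Subgroup.mem_center_iff]
        intro x
        have h1 : ρ (x * z * x⁻¹ * z⁻¹) = LinearMap.id := by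
          have h2 : ρ (x * z * x⁻¹) = ρ z := by
            rw [map_mul, map_mul, hω]
            have : ρ x * ω • LinearMap.id * ρ x⁻¹ = ω • (ρ x * ρ x⁻¹) := by
              rw [mul_smul_comm, smul_mul_assoc]
              congr 1
            rw [this, ← map_mul, mul_inv_cancel, map_one]
            rfl
          rw [map_mul, h2, ← map_mul, mul_inv_cancel, map_one]
          rfl
        have h3 : (χ : G → ℂ) (x * z * x⁻¹ * z⁻¹) = (χ : G → ℂ) 1 := by
          rw [← hχρ, Representation.char_one, char_eq_finrank_iff]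
          exact h1
        have h4 := hfaith _ h3
        calc x * z = (x * z * x⁻¹ * z⁻¹) * z * x := by group
          _ = z * x := by rw [h4, one_mul]
      rw [hZ] at hzc
      exact Subgroup.mem_bot.mp hzc
  -- hence `ψ z / d` lies in the local ideal for `z ∈ Z ∖ 1`
  have hψz : ∀ z ∈ Z, z ≠ 1 → Cfsg.MemLocalIdeal M ((ψ : G → ℂ) z / d) := by
    intro z hz hz1
    have h1 := hψ z
    unfold Cfsg.centralChar at h1
    rw [hχz z hz hz1, mul_zero, zero_div, zero_sub, hψ1] at h1
    have h2 := li_neg h1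
    rw [neg_neg] at h2
    have hk := natCast_not_mem hM (hidx z hz)
    have hkinv := memLocalRing_inv_of_not_mem hk
    have h3 := li_mul_right hMp h2 hkinv
    have hk0 : (((Subgroup.centralizer ({z} : Set G)).index : ℕ) : ℂ) ≠ 0 := by
      have := coe_ne_zero_of_not_mem hk
      simpa using this
    have heq : ((Subgroup.centralizer ({z} : Set G)).index : ℂ) * (ψ : G → ℂ) z / (d : ℂ) *
        ((((Subgroup.centralizer ({z} : Set G)).index : ℕ) : Cfsg.AlgInt) : ℂ)⁻¹
        = (ψ : G → ℂ) z / d := by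
      have : ((((Subgroup.centralizer ({z} : Set G)).index : ℕ) : Cfsg.AlgInt) : ℂ)
          = (((Subgroup.centralizer ({z} : Set G)).index : ℕ) : ℂ) := by simp
      rw [this]
      field_simp
    rw [heq] at h3
    exact h3
  -- the sum of `ψ` over `Z`
  have : Fintype Z := Fintype.ofFinite Z
  have : Fintype (IrrCharacter Z) := Fintype.ofFinite _
  obtain ⟨n₀, hn₀⟩ := IsCharacter.classInner_irr_nat
    (Cfsg.Agent.Helper8.isCharacter_restrict Z (IsIrrCharacter.isCharacter ψ.2)) (trivIrr Z)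
  have hsum : ∑ z : Z, (ψ : G → ℂ) z = ((p ^ b : ℕ) : ℂ) * n₀ := by
    unfold Cfsg.classInner at hn₀
    simp only [trivIrr_apply, map_one, mul_one] at hn₀
    rw [hZcard] at hn₀
    have hne : (((p ^ b : ℕ)) : ℂ) ≠ 0 := by
      exact_mod_cast (pow_pos hp.pos b).ne'
    rw [← hn₀, ← mul_assoc, mul_inv_cancel₀ hne, one_mul]
  -- split off the identity
  have hsplit : ((p ^ b : ℕ) : ℂ) * n₀ / d = 1 + ∑ z ∈ Finset.univ.erase (1 : Z), (ψ : G → ℂ) z / d := by
    rw [← hsum, ← Finset.add_sum_erase Finset.univ _ (Finset.mem_univ (1 : Z)), add_div,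
      Finset.sum_div]
    congr 1
    show (ψ : G → ℂ) 1 / d = 1
    rw [hψ1, div_self hd0]
  have hli : Cfsg.MemLocalIdeal M (∑ z ∈ Finset.univ.erase (1 : Z), (ψ : G → ℂ) z / d) := by
    apply li_sum hMp
    intro z hz
    have hz1 : (z : G) ≠ 1 := by
      intro h
      exact (Finset.mem_erase.mp hz).1 (Subtype.ext h)
    exact hψz z z.2 hz1
  -- p-adic valuation
  by_contra hndvd
  obtain ⟨c, d', hd', hdd⟩ := Nat.exists_eq_pow_mul_and_not_dvd hdpos.ne' p hp.ne_one
  have hcb : c < b := by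
    by_contra hge
    push Not at hge
    apply hndvd
    rw [hdd]
    exact Dvd.dvd.mul_right (pow_dvd_pow p hge) _
  have hd'M := natCast_not_mem hM hd'
  have hd'0 : ((d' : ℕ) : ℂ) ≠ 0 := by
    have := coe_ne_zero_of_not_mem hd'M
    simpa using this
  have hpc0 : ((p ^ c : ℕ) : ℂ) ≠ 0 := by exact_mod_cast (pow_pos hp.pos c).ne'
  have hleft : Cfsg.MemLocalIdeal M (((p ^ b : ℕ) : ℂ) * n₀ / d) := by
    have h1 : ((p ^ b : ℕ) : ℂ) * n₀ / d = ((p ^ (b - c) : ℕ) : ℂ) * (n₀ * ((d' : ℕ) : ℂ)⁻¹) := by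
      have hbc : b = (b - c) + c := by omega
      rw [hdd]
      conv_lhs => rw [hbc, pow_add]
      have hp0 : (p : ℂ) ≠ 0 := by exact_mod_cast hp.ne_zero
      push_cast
      field_simp
    rw [h1]
    apply li_mul_right hMp
    · have h2 : ((p ^ (b - c) : ℕ) : Cfsg.AlgInt) ∈ M := by
        have hpos : b - c ≠ 0 := by omega
        push_cast
        exact Ideal.pow_mem_of_mem M hM.2.2 (b - c) (Nat.pos_of_ne_zero hpos)
      have := memLocalIdeal_of_mem hMp h2
      simpa using this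
    · apply lr_mul hMp (memLocalRing_natCast hMp n₀)
      have := memLocalRing_inv_of_not_mem hd'M
      simpa using this
  have hone : Cfsg.MemLocalIdeal M (1 : ℂ) := by
    have := li_sub hMp hleft hli
    rw [hsplit] at this
    simpa using this
  exact not_memLocalIdeal_one hMp hone


/-- Let p be a prime, M a maximal ideal of the algebraic integers containing p, and G a finite group with trivial centre, Sylow p-subgroup P of order p^a and centre Z(P) of order p^b. If χ is a faithful irreducible character of G whose degree is a power of p, then the p-block of χ has defect at most a − b; in particular, if P is abelian then χ lies in a block of defect zero. -/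
theorem result {G : Type*} [Group G] [Finite G] (p : ℕ) [Fact p.Prime] (M : Ideal Cfsg.AlgInt) (hM : Cfsg.IsPModular p M) (hZ : Subgroup.center G = ⊥) (P : Sylow p G) (a b : ℕ) (ha : Nat.card P = p ^ a) (hb : Nat.card (Subgroup.center ↥(P : Subgroup G)) = p ^ b) (χ : Cfsg.IrrCharacter G) (hfaith : ∀ g : G, (χ : G → ℂ) g = (χ : G → ℂ) 1 → g = 1) (n : ℕ) (hdeg : Cfsg.charDegree (χ : G → ℂ) = p ^ n) : Cfsg.blockDefect p (Cfsg.blockOf M (χ : G → ℂ)) ≤ a - b ∧ (IsMulCommutative ↥(P : Subgroup G) → Cfsg.blockDefect p (Cfsg.blockOf M (χ : G → ℂ)) = 0) := by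
  classical
  have hMp : M.IsPrime := Cfsg.Agent.Helper5.Loc.isPrime_of_isPModular hM
  have hp : p.Prime := Fact.out
  -- the degree of χ
  have hχ1 : (χ : G → ℂ) 1 = ((p ^ n : ℕ) : ℂ) := by
    rw [Cfsg.Agent.Helper24.irrDeg_spec χ]
    have h1 : Cfsg.charDegree (χ : G → ℂ) = Cfsg.Agent.Helper24.irrDeg χ := by
      unfold Cfsg.charDegree
      rw [Cfsg.Agent.Helper24.irrDeg_spec]
      simp
    rw [h1] at hdeg
    rw [hdeg]
  have hcore : ∀ ψ ∈ Cfsg.blockOf M (χ : G → ℂ), b ≤ (Cfsg.charDegree (ψ : G → ℂ)).factorization p := by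
    intro ψ hψ
    have h1 : Cfsg.charDegree (ψ : G → ℂ) = Cfsg.Agent.Helper24.irrDeg ψ := by
      unfold Cfsg.charDegree
      rw [Cfsg.Agent.Helper24.irrDeg_spec]
      simp
    rw [h1]
    have h2 := core p M hM hZ P b hb χ hfaith n hχ1 ψ hψ
    exact (Nat.Prime.pow_dvd_iff_le_factorization hp (Cfsg.Agent.Helper24.irrDeg_pos ψ).ne').mp h2
  have hGa : (Nat.card G).factorization p = a := by
    have h1 := P.card_eq_multiplicity
    rw [ha] at h1
    exact (Nat.pow_right_injective hp.two_le h1).symm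
  have hne : ((fun ψ : Cfsg.IrrCharacter G => (Cfsg.charDegree (ψ : G → ℂ)).factorization p) ''
      Cfsg.blockOf M (χ : G → ℂ)).Nonempty :=
    ⟨_, χ, Cfsg.Agent.Helper5.CC.mem_blockOf_self hMp χ, rfl⟩
  have hinf : b ≤ sInf ((fun ψ : Cfsg.IrrCharacter G => (Cfsg.charDegree (ψ : G → ℂ)).factorization p) ''
      Cfsg.blockOf M (χ : G → ℂ)) := by
    apply le_csInf hne
    rintro _ ⟨ψ, hψ, rfl⟩
    exact hcore ψ hψ
  have hmain : Cfsg.blockDefect p (Cfsg.blockOf M (χ : G → ℂ)) ≤ a - b := by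
    unfold Cfsg.blockDefect
    rw [hGa]
    exact Nat.sub_le_sub_left hinf a
  refine ⟨hmain, ?_⟩
  intro hcomm
  have hcenter : Subgroup.center ↥(P : Subgroup G) = ⊤ := by
    rw [Subgroup.eq_top_iff']
    intro x
    rw [Subgroup.mem_center_iff]
    intro y
    exact hcomm.is_comm.comm y x
  have hab : a = b := by
    rw [hcenter, Subgroup.card_top] at hb
    have : p ^ a = p ^ b := by rw [← ha, ← hb]
    exact Nat.pow_right_injective hp.two_le this
  rw [hab, Nat.sub_self] at hmain
  exact Nat.le_zero.mp hmain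

end Cfsg.Agent.S4730
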