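import Cfsg.Statements.S4735
import Cfsg.Agent.Helper5.PrincipalLambda
import Cfsg.Agent.Helper5.DefectOrder

set_option autoImplicit false
open Cfsg

namespace Cfsg.Agent.S4735

/-- Let p be a prime, M a maximal ideal of the algebraic integers containing p, G a finite group, H = O_p'(G) and Ḡ = G/H. For x ∈ G write λ(G, x) for the sum of |χ(x)|^2 over the irreducible characters χ in the principal p-block of G. Then λ(G, x) is a positive integer, λ(G, x) = λ(Ḡ, x̄) where x̄ is the image of x, and λ(G, x) ≤ #C_Ḡ(x̄). Moreover λ(G, 1) = [G : H] if and only if the principal block is the only p-block of Ḡ. -/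
theorem result {G : Type*} [Group G] [Finite G] (p : ℕ) [Fact p.Prime] (M : Ideal Cfsg.AlgInt) (hM : Cfsg.IsPModular p M) (x : G) : (∃ n : ℕ, 0 < n ∧ ∑ᶠ χ ∈ Cfsg.principalBlock M G, Complex.normSq ((χ : G → ℂ) x) = n) ∧ ∑ᶠ χ ∈ Cfsg.principalBlock M G, Complex.normSq ((χ : G → ℂ) x) = ∑ᶠ ψ ∈ Cfsg.principalBlock M (G ⧸ Cfsg.pPrimeCore p G), Complex.normSq ((ψ : G ⧸ Cfsg.pPrimeCore p G → ℂ) (QuotientGroup.mk x)) ∧ ∑ᶠ χ ∈ Cfsg.principalBlock M G, Complex.normSq ((χ : G → ℂ) x) ≤ (Nat.card ↥(Subgroup.centralizer ({(QuotientGroup.mk x : G ⧸ Cfsg.pPrimeCore p G)} : Set (G ⧸ Cfsg.pPrimeCore p G))) : ℝ) ∧ ((∑ᶠ χ ∈ Cfsg.principalBlock M G, Cfsg.charDegree (χ : G → ℂ) ^ 2) = (Cfsg.pPrimeCore p G).index ↔ ∀ B : Set (Cfsg.IrrCharacter (G ⧸ Cfsg.pPrimeCore p G)), Cfsg.IsPBlock M B → B = Cfsg.principalBlock M (G ⧸ Cfsg.pPrimeCore p G)) := by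
  classical
  have : Fintype G := Fintype.ofFinite G
  have : Fintype (IrrCharacter G) := Fintype.ofFinite _
  have hMp := Cfsg.Agent.Helper5.Loc.isPrime_of_isPModular hM
  have : Fintype (G ⧸ pPrimeCore p G) := Fintype.ofFinite _
  have : Fintype (IrrCharacter (G ⧸ pPrimeCore p G)) := Fintype.ofFinite _
  have hbij := Cfsg.Agent.Helper5.PL.bijOn_infl_principalBlock (G := G) (M := M) hM
  -- transfer to the quotient
  have htr : ∑ᶠ χ ∈ principalBlock M G, Complex.normSq ((χ : G → ℂ) x) =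
      ∑ᶠ ψ ∈ principalBlock M (G ⧸ pPrimeCore p G),
        Complex.normSq ((ψ : G ⧸ pPrimeCore p G → ℂ) (QuotientGroup.mk x)) := by
    symm
    apply finsum_mem_eq_of_bijOn (Cfsg.Agent.Helper5.CC.infl (pPrimeCore p G)) hbij
    intro ψ _
    rfl
  -- the complex form of the sum
  have hcx : ((∑ᶠ χ ∈ principalBlock M G, Complex.normSq ((χ : G → ℂ) x) : ℝ) : ℂ) =
      ∑ χ ∈ Finset.univ.filter (· ∈ principalBlock M G),
        (χ : G → ℂ) x * (starRingEnd ℂ) ((χ : G → ℂ) x) := by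
    rw [Cfsg.Agent.Helper5.PL.finsum_mem_eq_sum_filter]
    push_cast
    refine Finset.sum_congr rfl fun χ _ => ?_
    rw [Complex.mul_conj]
  have htriv : Cfsg.Agent.Helper24.trivIrr G ∈ principalBlock M G :=
    Cfsg.Agent.Helper5.CC.sameBlock_refl hMp _
  refine ⟨?_, htr, ?_, ?_⟩
  · -- a positive integer
    obtain ⟨n, hn⟩ := Cfsg.Agent.Helper5.PL.exists_int_sum_principal (M := M) hM x
    rw [← hcx] at hn
    have hn' : (∑ᶠ χ ∈ principalBlock M G, Complex.normSq ((χ : G → ℂ) x) : ℝ) = (n : ℝ) := by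
      exact_mod_cast hn
    have hpos : (1 : ℝ) ≤ ∑ᶠ χ ∈ principalBlock M G, Complex.normSq ((χ : G → ℂ) x) := by
      rw [Cfsg.Agent.Helper5.PL.finsum_mem_eq_sum_filter]
      have hmem : Cfsg.Agent.Helper24.trivIrr G ∈
          Finset.univ.filter (· ∈ principalBlock M G) := by
        rw [Finset.mem_filter]
        exact ⟨Finset.mem_univ _, htriv⟩
      have h1 := Finset.single_le_sum (f := fun χ : IrrCharacter G =>
        Complex.normSq ((χ : G → ℂ) x)) (fun χ _ => Complex.normSq_nonneg _) hmem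
      have h2 : Complex.normSq (((Cfsg.Agent.Helper24.trivIrr G : IrrCharacter G) : G → ℂ) x)
          = 1 := by
        rw [Cfsg.Agent.Helper24.trivIrr_apply]
        simp
      rw [h2] at h1
      exact h1
    rw [hn'] at hpos
    have hn1 : 1 ≤ n := by exact_mod_cast hpos
    refine ⟨n.toNat, by omega, ?_⟩
    rw [hn']
    have : ((n.toNat : ℤ) : ℝ) = (n : ℝ) := by
      rw [Int.toNat_of_nonneg (by omega)]
    exact_mod_cast this.symm
  · -- the bound by the centralizer order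
    rw [htr, Cfsg.Agent.Helper5.PL.finsum_mem_eq_sum_filter]
    have hcol := Cfsg.Agent.Helper24.sum_irr_mul_conj
      (QuotientGroup.mk x : G ⧸ pPrimeCore p G) (QuotientGroup.mk x : G ⧸ pPrimeCore p G)
    rw [if_pos (IsConj.refl _)] at hcol
    have hcol' : ∑ ψ : IrrCharacter (G ⧸ pPrimeCore p G),
        Complex.normSq ((ψ : G ⧸ pPrimeCore p G → ℂ) (QuotientGroup.mk x)) =
        (Nat.card ↥(Subgroup.centralizer ({(QuotientGroup.mk x : G ⧸ pPrimeCore p G)} :
          Set (G ⧸ pPrimeCore p G))) : ℝ) := by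
      have : ((∑ ψ : IrrCharacter (G ⧸ pPrimeCore p G),
          Complex.normSq ((ψ : G ⧸ pPrimeCore p G → ℂ) (QuotientGroup.mk x)) : ℝ) : ℂ) =
          ((Nat.card ↥(Subgroup.centralizer ({(QuotientGroup.mk x : G ⧸ pPrimeCore p G)} :
            Set (G ⧸ pPrimeCore p G))) : ℝ) : ℂ) := by
        push_cast
        rw [← hcol]
        refine Finset.sum_congr rfl fun ψ _ => ?_
        rw [Complex.mul_conj]
      exact_mod_cast this
    rw [← hcol']
    apply Finset.sum_le_sum_of_subset_of_nonneg (Finset.filter_subset _ _)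
    intro ψ _ _
    exact Complex.normSq_nonneg _
  · -- the degree sum
    have hdeg : ∑ᶠ χ ∈ principalBlock M G, charDegree (χ : G → ℂ) ^ 2 =
        ∑ ψ ∈ Finset.univ.filter (· ∈ principalBlock M (G ⧸ pPrimeCore p G)),
          Cfsg.Agent.Helper24.irrDeg ψ ^ 2 := by
      rw [← Cfsg.Agent.Helper5.PL.finsum_mem_eq_sum_filter]
      symm
      apply finsum_mem_eq_of_bijOn (Cfsg.Agent.Helper5.CC.infl (pPrimeCore p G)) hbij
      intro ψ _
      rw [← Cfsg.Agent.Helper5.CC.charDegree_eq_irrDeg]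
      have : ((Cfsg.Agent.Helper5.CC.infl (pPrimeCore p G) ψ : IrrCharacter G) : G → ℂ) 1 =
          (ψ : G ⧸ pPrimeCore p G → ℂ) 1 := rfl
      unfold charDegree
      rw [this]
    have htot : ∑ ψ : IrrCharacter (G ⧸ pPrimeCore p G), Cfsg.Agent.Helper24.irrDeg ψ ^ 2 =
        (pPrimeCore p G).index := by
      rw [Cfsg.Agent.Helper24.sum_irrDeg_sq, Subgroup.index_eq_card]
    rw [hdeg, ← htot]
    have hsplit := Finset.sum_filter_add_sum_filter_not (Finset.univ)
      (· ∈ principalBlock M (G ⧸ pPrimeCore p G))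
      (fun ψ : IrrCharacter (G ⧸ pPrimeCore p G) => Cfsg.Agent.Helper24.irrDeg ψ ^ 2)
    constructor
    · intro h B hB
      have hzero : ∑ ψ ∈ Finset.univ.filter
          (fun ψ : IrrCharacter (G ⧸ pPrimeCore p G) =>
            ¬ ψ ∈ principalBlock M (G ⧸ pPrimeCore p G)),
          Cfsg.Agent.Helper24.irrDeg ψ ^ 2 = 0 := by omega
      have hall : ∀ ψ : IrrCharacter (G ⧸ pPrimeCore p G),
          ψ ∈ principalBlock M (G ⧸ pPrimeCore p G) := by
        intro ψ
        by_contra hψ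
        have hmem : ψ ∈ Finset.univ.filter
          (fun ψ : IrrCharacter (G ⧸ pPrimeCore p G) =>
            ¬ ψ ∈ principalBlock M (G ⧸ pPrimeCore p G)) := by
          rw [Finset.mem_filter]
          exact ⟨Finset.mem_univ _, hψ⟩
        have := (Finset.sum_eq_zero_iff.mp hzero) ψ hmem
        have hpos := Cfsg.Agent.Helper24.irrDeg_pos ψ
        have : Cfsg.Agent.Helper24.irrDeg ψ = 0 := by
          rcases Nat.eq_zero_or_pos (Cfsg.Agent.Helper24.irrDeg ψ) with h0 | h0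
          · exact h0
          · exact absurd this (pow_pos h0 2).ne'
        omega
      obtain ⟨ψ₀, hψ₀⟩ := Cfsg.Agent.Helper5.CC.IsPBlock.nonempty hMp hB
      rw [Cfsg.Agent.Helper5.CC.IsPBlock_eq_blockOf hMp hB hψ₀,
        Cfsg.Agent.Helper5.CC.IsPBlock_eq_blockOf hMp
          Cfsg.Agent.Helper5.CC.isPBlock_principalBlock (hall ψ₀)]
    · intro h
      have hall : ∀ ψ : IrrCharacter (G ⧸ pPrimeCore p G),
          ψ ∈ principalBlock M (G ⧸ pPrimeCore p G) := by
        intro ψ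
        rw [← h _ (Cfsg.Agent.Helper5.CC.isPBlock_blockOf ψ)]
        exact Cfsg.Agent.Helper5.CC.mem_blockOf_self hMp ψ
      congr 1
      ext ψ
      simp [hall ψ]

end Cfsg.Agent.S4735
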