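import Cfsg.Statements.S4736
import Mathlib
import Cfsg.Agent.Helper23.PPrimeDeg
import Cfsg.Agent.Helper23.PrincipalBlock
import Cfsg.Agent.Helper24.Ito

set_option autoImplicit false
open Cfsg

namespace Cfsg.Agent.S4736

/-- Let p be a prime, M a maximal ideal of the algebraic integers containing p, and G a finite p-solvable group with Sylow p-subgroup P. Then P is abelian if and only if every irreducible character in the principal p-block of G has height zero. -/
theorem result {G : Type*} [Group G] [Finite G] (p : ℕ) [Fact p.Prime] (M : Ideal Cfsg.AlgInt) (hM : Cfsg.IsPModular p M) (hsolv : Cfsg.IsPSolvable p G) (P : Sylow p G) : IsMulCommutative P ↔ ∀ χ ∈ Cfsg.principalBlock M G, Cfsg.blockHeight p (Cfsg.principalBlock M G) (χ : G → ℂ) = 0 := by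
  classical
  have : Fintype G := Fintype.ofFinite G
  have hMp := Cfsg.Agent.Helper5.Loc.isPrime_of_isPModular hM
  have hp : p.Prime := Fact.out
  set N := Cfsg.pPrimeCore p G with hNdef
  have hN : N.Normal := Subgroup.sSup_normal _ (fun _ h => h.1)
  have hcop : (Nat.card N).Coprime p := Cfsg.Agent.Helper19.pPrimeCore_coprime p
  -- the trivial character is in the principal block
  have htriv : Cfsg.Agent.Helper24.trivIrr G ∈ Cfsg.principalBlock M G :=
    Cfsg.Agent.Helper5.CC.sameBlock_refl hMp _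
  have hsInf : sInf ((fun ψ : Cfsg.IrrCharacter G =>
      (Cfsg.charDegree (ψ : G → ℂ)).factorization p) '' Cfsg.principalBlock M G) = 0 := by
    rw [Nat.sInf_eq_zero]
    left
    refine ⟨Cfsg.Agent.Helper24.trivIrr G, htriv, ?_⟩
    have : Cfsg.charDegree ((Cfsg.Agent.Helper24.trivIrr G : Cfsg.IrrCharacter G) : G → ℂ) = 1 := by
      unfold Cfsg.charDegree
      simp
    simp only [this]
    simp
  have hheight : ∀ χ : Cfsg.IrrCharacter G,
      Cfsg.blockHeight p (Cfsg.principalBlock M G) (χ : G → ℂ) = 0 ↔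
        ¬ p ∣ Cfsg.Agent.Helper24.irrDeg χ := by
    intro χ
    unfold Cfsg.blockHeight
    rw [hsInf, Nat.sub_zero, Cfsg.Agent.Helper23.charDegree_eq_irrDeg,
      Nat.factorization_eq_zero_iff]
    constructor
    · rintro (h | h | h)
      · exact absurd hp h
      · exact h
      · exact absurd h (Cfsg.Agent.Helper24.irrDeg_pos χ).ne'
    · intro h; exact Or.inr (Or.inl h)
  have hsolvQ : Cfsg.IsPSolvable p (G ⧸ N) := Cfsg.Agent.Lead.isPSolvable_quotient hsolv _
  have hOQ : Cfsg.pPrimeCore p (G ⧸ N) = ⊥ := Cfsg.Agent.Helper7.pPrimeCore_quotient_eq_bot p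
  constructor
  · intro hPc χ hχ
    rw [hheight]
    have hker := Cfsg.Agent.Helper23.PB.eq_one_of_mem_principalBlock hM χ hχ
    obtain ⟨ψ, hψ⟩ := Cfsg.Agent.Helper23.PB.exists_irr_quotient N χ hker
    -- the image of `P` in the quotient
    set Pbar : Sylow p (G ⧸ N) := P.mapSurjective (QuotientGroup.mk'_surjective N) with hPbar
    have hPbar_coe : (Pbar : Subgroup (G ⧸ N)) = (P : Subgroup G).map (QuotientGroup.mk' N) :=
      Sylow.coe_mapSurjective _ _
    have hab : ∀ a ∈ (Pbar : Subgroup (G ⧸ N)), ∀ b ∈ (Pbar : Subgroup (G ⧸ N)),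
        a * b = b * a := by
      intro a ha b hb
      rw [hPbar_coe] at ha hb
      obtain ⟨a', ha', rfl⟩ := ha
      obtain ⟨b', hb', rfl⟩ := hb
      have := hPc.is_comm.comm (⟨a', ha'⟩ : (P : Subgroup G)) ⟨b', hb'⟩
      have h2 : a' * b' = b' * a' := congrArg Subtype.val this
      rw [← map_mul, ← map_mul, h2]
    have hQle : Cfsg.pCore p (G ⧸ N) ≤ (Pbar : Subgroup (G ⧸ N)) :=
      Cfsg.Agent.Helper14.pCore_le_sylow p Pbar
    have hPle : (Pbar : Subgroup (G ⧸ N)) ≤ Cfsg.pCore p (G ⧸ N) := by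
      refine le_trans ?_ (Cfsg.Agent.Helper23.centralizer_pCore_le_of_isPSolvable hsolvQ hOQ)
      intro x hx
      rw [Subgroup.mem_centralizer_iff]
      intro y hy
      exact hab y (hQle hy) x hx
    have heq : (Pbar : Subgroup (G ⧸ N)) = Cfsg.pCore p (G ⧸ N) := le_antisymm hPle hQle
    have hPn : (Pbar : Subgroup (G ⧸ N)).Normal := by
      rw [heq]; exact Subgroup.sSup_normal _ (fun _ h => h.1)
    obtain ⟨d, hd, hdI⟩ := Cfsg.Agent.Helper24.ito_character (Pbar : Subgroup (G ⧸ N)) hab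
      (ψ : G ⧸ N → ℂ) ψ.2
    have h1 : Cfsg.Agent.Helper24.irrDeg χ = d := by
      have h2 := Cfsg.Agent.Helper24.irrDeg_spec χ
      rw [← hψ 1, map_one, hd] at h2
      exact_mod_cast h2.symm
    rw [h1]
    intro hdvd
    exact Pbar.not_dvd_index (hdvd.trans hdI)
  · intro h
    have hdeg : Cfsg.Agent.Helper23.PPrimeDeg p (G ⧸ N) := by
      intro ψ
      have hirr : Cfsg.IsIrrCharacter G (fun g => (ψ : G ⧸ N → ℂ) (QuotientGroup.mk' N g)) :=
        Cfsg.Agent.Helper8.isIrrCharacter_comp_surjective (QuotientGroup.mk' N)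
          (QuotientGroup.mk'_surjective N) ψ.2
      set χ : Cfsg.IrrCharacter G := ⟨_, hirr⟩ with hχ
      have hχB : χ ∈ Cfsg.principalBlock M G := by
        apply Cfsg.Agent.Helper23.PB.mem_principalBlock_of_pPrimeCore_le hM hsolv
        intro n hn
        show (ψ : G ⧸ N → ℂ) (QuotientGroup.mk' N n) = (ψ : G ⧸ N → ℂ) (QuotientGroup.mk' N 1)
        rw [map_one]
        have h0 : (QuotientGroup.mk' N n : G ⧸ N) = 1 := (QuotientGroup.eq_one_iff n).mpr hn
        rw [h0]
      have := (hheight χ).mp (h χ hχB)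
      rwa [Cfsg.Agent.Helper23.irrDeg_eq_of_one_eq χ ψ (by simp [hχ])] at this
    set Pbar : Sylow p (G ⧸ N) := P.mapSurjective (QuotientGroup.mk'_surjective N) with hPbar
    have hPbar_coe : (Pbar : Subgroup (G ⧸ N)) = (P : Subgroup G).map (QuotientGroup.mk' N) :=
      Sylow.coe_mapSurjective _ _
    obtain ⟨_, hPc⟩ := Cfsg.Agent.Helper23.normal_abelian_sylow_aux p _ (G ⧸ N) rfl hsolvQ hdeg Pbar
    have hdisj : Disjoint (P : Subgroup G) N := by
      apply Subgroup.disjoint_of_coprime_natCard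
      obtain ⟨k, hk⟩ := IsPGroup.iff_card.mp P.2
      rw [hk]
      exact Nat.Coprime.pow_left k hcop.symm
    refine ⟨⟨?_⟩⟩
    rintro ⟨a, ha⟩ ⟨b, hb⟩
    apply Subtype.ext
    show a * b = b * a
    have hma : QuotientGroup.mk' N a ∈ (Pbar : Subgroup (G ⧸ N)) := by
      rw [hPbar_coe]; exact Subgroup.mem_map_of_mem _ ha
    have hmb : QuotientGroup.mk' N b ∈ (Pbar : Subgroup (G ⧸ N)) := by
      rw [hPbar_coe]; exact Subgroup.mem_map_of_mem _ hb
    have h1 := hPc (QuotientGroup.mk' N a) hma (QuotientGroup.mk' N b) hmb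
    rw [← map_mul, ← map_mul] at h1
    have h2 : (b * a)⁻¹ * (a * b) ∈ N := by
      have := QuotientGroup.eq.mp h1.symm
      exact this
    have h3 : (b * a)⁻¹ * (a * b) ∈ (P : Subgroup G) :=
      Subgroup.mul_mem _ (Subgroup.inv_mem _ (Subgroup.mul_mem _ hb ha)) (Subgroup.mul_mem _ ha hb)
    have h4 := Subgroup.disjoint_def.mp hdisj h3 h2
    calc a * b = (b * a) * ((b * a)⁻¹ * (a * b)) := by group
      _ = b * a := by rw [h4, mul_one]

end Cfsg.Agent.S4736
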