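import Cfsg.Statements.S4742
import Cfsg.Agent.Helper5.DefectZeroCount
import Cfsg.Agent.Helper5.PElementSum
import Cfsg.Agent.Helper5.DefectOrder
import Cfsg.Agent.Helper24.SmallDegree

set_option autoImplicit false
open Cfsg

namespace Cfsg.Agent.S4742

/-- Let p ≠ q be primes dividing the order of the finite group G, and suppose the centralizer of every non-identity p-element of G has order prime to q. Then either G has an irreducible character of p-defect zero, or for every non-identity q-element z of G there are conjugates g, h of z such that g h⁻¹ is a non-identity p-element. -/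
theorem result {G : Type*} [Group G] [Finite G] (p q : ℕ) [Fact p.Prime] [Fact q.Prime] (hppq : p ≠ q) (hpG : p ∣ Nat.card G) (hqG : q ∣ Nat.card G) (hC : ∀ g : G, g ≠ 1 → (∃ k : ℕ, orderOf g = p ^ k) → ¬ q ∣ Nat.card ↥(Subgroup.centralizer ({g} : Set G))) : (∃ χ : Cfsg.IrrCharacter G, (Cfsg.charDegree (χ : G → ℂ)).factorization p = (Nat.card G).factorization p) ∨ ∀ z : G, z ≠ 1 → (∃ k : ℕ, orderOf z = q ^ k) → ∃ g h : G, IsConj z g ∧ IsConj z h ∧ g * h⁻¹ ≠ 1 ∧ ∃ k : ℕ, orderOf (g * h⁻¹) = p ^ k := by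
  classical
  have hp : p.Prime := Fact.out
  have hq : q.Prime := Fact.out
  have : Fintype G := Fintype.ofFinite G
  have : Fintype (IrrCharacter G) := Fintype.ofFinite _
  by_contra hcon
  rw [not_or] at hcon
  obtain ⟨hno, hz⟩ := hcon
  push Not at hz
  obtain ⟨z, hz1, ⟨kz, hkz⟩, hzgh⟩ := hz
  -- `p` does not divide `|C(z)|`
  have hpC : ¬ p ∣ Nat.card (Subgroup.centralizer ({z} : Set G)) := by
    intro hdvd
    obtain ⟨g, hg⟩ := exists_prime_orderOf_dvd_card' p hdvd
    have hg1 : (g : G) ≠ 1 := by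
      intro h1
      have : g = 1 := Subtype.ext h1
      rw [this, orderOf_one] at hg
      exact hp.one_lt.ne hg
    have hgo : orderOf (g : G) = p ^ 1 := by
      rw [pow_one, ← hg]
      exact (Subgroup.orderOf_coe g)
    apply hC (g : G) hg1 ⟨1, hgo⟩
    have hzmem : z ∈ Subgroup.centralizer ({(g : G)} : Set G) := by
      rw [Subgroup.mem_centralizer_singleton_iff]
      exact ((Subgroup.mem_centralizer_singleton_iff.mp g.2)).symm
    have hkz0 : kz ≠ 0 := by
      rintro rfl
      rw [pow_zero, orderOf_eq_one_iff] at hkz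
      exact hz1 hkz
    have hqz : q ∣ orderOf z := by
      rw [hkz]
      exact dvd_pow_self q hkz0
    have hord : orderOf z ∣ Nat.card (Subgroup.centralizer ({(g : G)} : Set G)) := by
      have := orderOf_dvd_natCard (⟨z, hzmem⟩ : Subgroup.centralizer ({(g : G)} : Set G))
      rwa [← Subgroup.orderOf_coe] at this
    exact hqz.trans hord
  have hsum : ∀ χ : IrrCharacter G, ∃ m : ℤ,
      ∑ u ∈ Finset.univ.filter (fun x : G => ∃ k : ℕ, orderOf x = p ^ k),
        (starRingEnd ℂ) ((χ : G → ℂ) u) = ((p ^ (Nat.card G).factorization p : ℕ) : ℂ) * m :=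
    fun χ => Cfsg.Agent.Helper5.PES.sum_pElements_irr p χ
  choose m hm using hsum
  obtain ⟨χ, hχ⟩ := Cfsg.Agent.Helper5.DZC.exists_pow_dvd_irrDeg (p := p) z
    (Finset.univ.filter (fun x : G => ∃ k : ℕ, orderOf x = p ^ k))
    (by
      rw [Finset.mem_filter]
      exact ⟨Finset.mem_univ _, 0, by rw [orderOf_one, pow_zero]⟩)
    ((Nat.card G).factorization p) m hm
    (by
      intro u hu hu1 t h ht hh htu
      obtain ⟨k, hk⟩ := (Finset.mem_filter.mp hu).2
      apply hzgh t h ht hh (by rw [htu]; exact hu1) k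
      rw [htu]; exact hk)
  rw [Nat.factorization_eq_zero_of_not_dvd hpC, Nat.sub_zero] at hχ
  apply hno
  refine ⟨χ, ?_⟩
  rw [Cfsg.Agent.Helper5.CC.charDegree_eq_irrDeg]
  apply le_antisymm
  · have hdvd := Cfsg.Agent.Helper24.irrDeg_dvd_card χ
    exact (Nat.factorization_le_iff_dvd (Cfsg.Agent.Helper24.irrDeg_pos χ).ne'
      Nat.card_pos.ne').mpr hdvd p
  · exact (hp.pow_dvd_iff_le_factorization (Cfsg.Agent.Helper24.irrDeg_pos χ).ne').mp hχ

end Cfsg.Agent.S4742
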