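import Cfsg.Statements.S4744
import Cfsg.Agent.S4742
import Cfsg.Agent.Helper5.InvolutionSylow

set_option autoImplicit false
open Cfsg

namespace Cfsg.Agent.S4744

/-- Let p be an odd prime and G a finite group of even order divisible by p in which the centralizer of every non-identity p-element has odd order. Then either G has an irreducible character of p-defect zero, or the normalizer of every Sylow p-subgroup P of G has even order and P is abelian. -/
theorem result {G : Type*} [Group G] [Finite G] (p : ℕ) [Fact p.Prime] (hp2 : p ≠ 2) (hpG : p ∣ Nat.card G) (h2G : 2 ∣ Nat.card G) (hC : ∀ g : G, g ≠ 1 → (∃ k : ℕ, orderOf g = p ^ k) → Odd (Nat.card ↥(Subgroup.centralizer ({g} : Set G)))) : (∃ χ : Cfsg.IrrCharacter G, (Cfsg.charDegree (χ : G → ℂ)).factorization p = (Nat.card G).factorization p) ∨ ∀ P : Sylow p G, Even (Nat.card ↥(Subgroup.normalizer ((P : Subgroup G) : Set G))) ∧ IsMulCommutative ↥(P : Subgroup G) := by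
  classical
  have hp : p.Prime := Fact.out
  have : Fact (Nat.Prime 2) := ⟨Nat.prime_two⟩
  have hC' : ∀ g : G, g ≠ 1 → (∃ k : ℕ, orderOf g = p ^ k) →
      ¬ 2 ∣ Nat.card ↥(Subgroup.centralizer ({g} : Set G)) := by
    intro g hg1 hg hdvd
    exact (Nat.not_even_iff_odd.mpr (hC g hg1 hg)) (even_iff_two_dvd.mpr hdvd)
  rcases Cfsg.Agent.S4742.result p 2 hp2 hpG h2G hC' with h | h
  · left; exact h
  · right
    obtain ⟨z, hz⟩ := exists_prime_orderOf_dvd_card' 2 h2G
    have hz1 : z ≠ 1 := by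
      rintro rfl
      rw [orderOf_one] at hz
      omega
    obtain ⟨g, h', hg, hh, hne, k, hk⟩ := h z hz1 ⟨1, by rw [hz, pow_one]⟩
    have hsq : ∀ s : G, IsConj z s → s * s = 1 := by
      intro s hs
      obtain ⟨c, rfl⟩ := isConj_iff.mp hs
      have hz2 : z * z = 1 := by
        rw [← pow_two, ← hz]
        exact pow_orderOf_eq_one z
      calc c * z * c⁻¹ * (c * z * c⁻¹) = c * (z * z) * c⁻¹ := by group
        _ = 1 := by rw [hz2]; group
    have ht2 := hsq g hg
    have hh2 := hsq h' hh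
    have ht1 : g ≠ 1 := by
      rintro rfl
      rw [isConj_one_left] at hg
      exact hz1 hg
    have hhinv : h'⁻¹ = h' := inv_eq_of_mul_eq_one_right hh2
    have hginv : g⁻¹ = g := inv_eq_of_mul_eq_one_right ht2
    have htu : g * (g * h'⁻¹) * g⁻¹ = (g * h'⁻¹)⁻¹ := by
      calc g * (g * h'⁻¹) * g⁻¹ = (g * g) * h'⁻¹ * g⁻¹ := by group
        _ = h'⁻¹ * g⁻¹ := by rw [ht2, one_mul]
        _ = h' * g⁻¹ := by rw [hhinv]
        _ = (g * h'⁻¹)⁻¹ := by rw [mul_inv_rev, inv_inv]
    obtain ⟨P₀, hP₀⟩ := Cfsg.Agent.Helper5.InvSyl.exists_sylow_inverted (p := p) hC ht2 ht1 hne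
      ⟨k, hk⟩ htu
    intro P
    obtain ⟨a, ha⟩ := MulAction.exists_smul_eq G P₀ P
    -- the conjugate involution inverts `P`
    have hinvP : ∀ x ∈ P, (a * g * a⁻¹) * x * (a * g * a⁻¹)⁻¹ = x⁻¹ := by
      intro x hx
      rw [← ha, Sylow.smul_def] at hx
      have hx1 : x ∈ ((MulAut.conj a • P₀ : Sylow p G) : Subgroup G) := hx
      rw [Sylow.pointwise_smul_def, Subgroup.mem_pointwise_smul_iff_inv_smul_mem] at hx1
      have hx2 : a⁻¹ * x * a ∈ (P₀ : Subgroup G) := by simpa [MulAut.smul_def] using hx1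
      have h1 := hP₀ _ hx2
      calc (a * g * a⁻¹) * x * (a * g * a⁻¹)⁻¹ = a * (g * (a⁻¹ * x * a) * g⁻¹) * a⁻¹ := by group
        _ = a * (a⁻¹ * x * a)⁻¹ * a⁻¹ := by rw [h1]
        _ = x⁻¹ := by group
    have ht'2 : (a * g * a⁻¹) * (a * g * a⁻¹) = 1 := by
      calc (a * g * a⁻¹) * (a * g * a⁻¹) = a * (g * g) * a⁻¹ := by group
        _ = 1 := by rw [ht2]; group
    have ht'1 : a * g * a⁻¹ ≠ 1 := by
      intro h1
      apply ht1
      calc g = a⁻¹ * (a * g * a⁻¹) * a := by group
        _ = 1 := by rw [h1]; group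
    have ht'inv : (a * g * a⁻¹)⁻¹ = a * g * a⁻¹ := inv_eq_of_mul_eq_one_right ht'2
    constructor
    · have hmem : a * g * a⁻¹ ∈ Subgroup.normalizer ((P : Subgroup G) : Set G) := by
        rw [Subgroup.mem_normalizer_iff]
        intro x
        constructor
        · intro hx
          rw [hinvP x hx]
          exact inv_mem hx
        · intro hx
          have h2 := hinvP _ hx
          have h3 : x = ((a * g * a⁻¹) * x * (a * g * a⁻¹)⁻¹)⁻¹ := by
            rw [← h2, ht'inv]
            calc x = (a * g * a⁻¹ * (a * g * a⁻¹)) * x * (a * g * a⁻¹ * (a * g * a⁻¹)) := by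
                  rw [ht'2, one_mul, mul_one]
              _ = a * g * a⁻¹ * (a * g * a⁻¹ * x * (a * g * a⁻¹)) * (a * g * a⁻¹) := by group
          rw [h3]
          exact inv_mem hx
      have h2 : orderOf (a * g * a⁻¹) ∣ Nat.card (Subgroup.normalizer ((P : Subgroup G) : Set G)) := by
        have := orderOf_dvd_natCard
          (⟨a * g * a⁻¹, hmem⟩ : Subgroup.normalizer ((P : Subgroup G) : Set G))
        rwa [← Subgroup.orderOf_coe] at this
      rw [Cfsg.Agent.Helper5.InvSyl.orderOf_eq_two ht'2 ht'1] at h2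
      exact even_iff_two_dvd.mpr h2
    · refine ⟨⟨?_⟩⟩
      intro x y
      apply Subtype.ext
      simp only [Subgroup.coe_mul]
      have hx := hinvP x x.2
      have hy := hinvP y y.2
      have hxy := hinvP (x * y) (mul_mem x.2 y.2)
      have h4 : ((x : G) * y)⁻¹ = (x : G)⁻¹ * (y : G)⁻¹ := by
        rw [← hxy, ← hx, ← hy]
        group
      rw [mul_inv_rev] at h4
      have h5 := congrArg (fun s => s⁻¹) h4
      simp only [mul_inv_rev, inv_inv] at h5
      exact h5

end Cfsg.Agent.S4744
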