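import Cfsg.Statements.S4738
import Mathlib
import Cfsg.Agent.S4742
import Cfsg.Agent.S4744
import Cfsg.Agent.Helper5.InvolutionSylow
import Cfsg.Agent.Helper18.Isolated
import Cfsg.Agent.Helper24.Linear

set_option autoImplicit false
open Cfsg

namespace Cfsg.Agent.S4738

/-- Let p be an odd prime and G a finite group of even order containing no element of order 2p. Then either G has an irreducible character of p-defect zero (its degree has the same p-part as the order of G), or every Sylow p-subgroup of G is abelian and all involutions of G are conjugate. -/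
theorem result {G : Type*} [Group G] [Finite G] (p : ℕ) [Fact p.Prime] (hp2 : p ≠ 2) (hG : Even (Nat.card G)) (h2p : ∀ g : G, orderOf g ≠ 2 * p) : (∃ χ : Cfsg.IrrCharacter G, (Cfsg.charDegree (χ : G → ℂ)).factorization p = (Nat.card G).factorization p) ∨ ((∀ P : Sylow p G, IsMulCommutative ↥(P : Subgroup G)) ∧ ∀ s t : G, orderOf s = 2 → orderOf t = 2 → IsConj s t) := by
  classical
  have hp : p.Prime := Fact.out
  have : Fact (Nat.Prime 2) := ⟨Nat.prime_two⟩
  by_cases hpG : p ∣ Nat.card G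
  swap
  · left
    refine ⟨Cfsg.Agent.Helper24.trivIrr G, ?_⟩
    have h1 : Cfsg.charDegree (Cfsg.Agent.Helper24.trivIrr G : G → ℂ) = 1 := by
      unfold Cfsg.charDegree
      simp
    rw [h1, Nat.factorization_one, Finsupp.zero_apply]
    exact (Nat.factorization_eq_zero_of_not_dvd hpG).symm
  have h2G : 2 ∣ Nat.card G := even_iff_two_dvd.mp hG
  -- centralizers of nontrivial `p`-elements have odd order
  have hC : ∀ g : G, g ≠ 1 → (∃ k : ℕ, orderOf g = p ^ k) →
      Odd (Nat.card ↥(Subgroup.centralizer ({g} : Set G))) := by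
    intro g hg1 ⟨k, hk⟩
    by_contra hodd
    rw [Nat.not_odd_iff_even, even_iff_two_dvd] at hodd
    obtain ⟨t, ht⟩ := exists_prime_orderOf_dvd_card' 2 hodd
    have hto : orderOf (t : G) = 2 := by rw [Subgroup.orderOf_coe]; exact ht
    have hk0 : k ≠ 0 := by
      intro h0
      rw [h0, pow_zero, orderOf_eq_one_iff] at hk
      exact hg1 hk
    have hcomm : Commute g (t : G) := Subgroup.mem_centralizer_iff.mp t.2 g rfl
    -- the power of `g` of order `p`
    have hg0 : orderOf g ≠ 0 := (orderOf_pos g).ne'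
    have hpd : p ∣ orderOf g := by rw [hk]; exact dvd_pow_self p hk0
    have hg' : orderOf (g ^ (orderOf g / p)) = p := orderOf_pow_orderOf_div hg0 hpd
    have hcomm' : Commute (g ^ (orderOf g / p)) (t : G) := hcomm.pow_left _
    have hcop : (orderOf (g ^ (orderOf g / p))).Coprime (orderOf (t : G)) := by
      rw [hg', hto, Nat.coprime_primes hp Nat.prime_two]
      exact hp2
    have hord := hcomm'.orderOf_mul_eq_mul_orderOf_of_coprime hcop
    rw [hg', hto] at hord
    exact h2p _ (by rw [hord, mul_comm])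
  have hC' : ∀ g : G, g ≠ 1 → (∃ k : ℕ, orderOf g = p ^ k) →
      ¬ 2 ∣ Nat.card ↥(Subgroup.centralizer ({g} : Set G)) := by
    intro g hg1 hg hdvd
    exact (Nat.not_even_iff_odd.mpr (hC g hg1 hg)) (even_iff_two_dvd.mpr hdvd)
  rcases Cfsg.Agent.S4744.result p hp2 hpG h2G hC with h1 | h1
  · left; exact h1
  rcases Cfsg.Agent.S4742.result p 2 hp2 hpG h2G hC' with h | h
  · left; exact h
  right
  refine ⟨fun P => (h1 P).2, ?_⟩
  -- every involution has a conjugate inverting a Sylow `p`-subgroup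
  have key : ∀ z : G, orderOf z = 2 → ∃ g : G, IsConj z g ∧ g * g = 1 ∧ g ≠ 1 ∧
      ∃ P : Sylow p G, ∀ x ∈ P, g * x * g⁻¹ = x⁻¹ := by
    intro z hz
    have hz1 : z ≠ 1 := by
      rintro rfl
      rw [orderOf_one] at hz
      omega
    obtain ⟨g, h', hg, hh, hne, k, hk⟩ := h z hz1 ⟨1, by rw [hz, pow_one]⟩
    have hsq : ∀ s : G, IsConj z s → s * s = 1 := by
      intro s hs
      obtain ⟨c, rfl⟩ := isConj_iff.mp hs
      have hz2 : z * z = 1 := by
        rw [← pow_two, ← hz]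
        exact pow_orderOf_eq_one z
      calc c * z * c⁻¹ * (c * z * c⁻¹) = c * (z * z) * c⁻¹ := by group
        _ = 1 := by rw [hz2]; group
    have ht2 := hsq g hg
    have hh2 := hsq h' hh
    have ht1 : g ≠ 1 := by
      rintro rfl
      rw [isConj_one_left] at hg
      exact hz1 hg
    have hhinv : h'⁻¹ = h' := inv_eq_of_mul_eq_one_right hh2
    have htu : g * (g * h'⁻¹) * g⁻¹ = (g * h'⁻¹)⁻¹ := by
      calc g * (g * h'⁻¹) * g⁻¹ = (g * g) * h'⁻¹ * g⁻¹ := by group
        _ = h'⁻¹ * g⁻¹ := by rw [ht2, one_mul]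
        _ = h' * g⁻¹ := by rw [hhinv]
        _ = (g * h'⁻¹)⁻¹ := by rw [mul_inv_rev, inv_inv]
    obtain ⟨P₀, hP₀⟩ := Cfsg.Agent.Helper5.InvSyl.exists_sylow_inverted (p := p) hC ht2 ht1 hne
      ⟨k, hk⟩ htu
    exact ⟨g, hg, ht2, ht1, P₀, hP₀⟩
  intro s t hs ht
  obtain ⟨s', hss', hs'2, hs'1, Ps, hPs⟩ := key s hs
  obtain ⟨t', htt', ht'2, ht'1, Pt, hPt⟩ := key t ht
  -- move `Ps` to `Pt`
  obtain ⟨a, ha⟩ := MulAction.exists_smul_eq G Ps Pt
  set s'' := a * s' * a⁻¹ with hs''
  have hs''2 : s'' * s'' = 1 := by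
    calc s'' * s'' = a * (s' * s') * a⁻¹ := by rw [hs'']; group
      _ = 1 := by rw [hs'2]; group
  have hinvP : ∀ x ∈ Pt, s'' * x * s''⁻¹ = x⁻¹ := by
    intro x hx
    rw [← ha, Sylow.smul_def] at hx
    have hx1 : x ∈ ((MulAut.conj a • Ps : Sylow p G) : Subgroup G) := hx
    rw [Sylow.pointwise_smul_def, Subgroup.mem_pointwise_smul_iff_inv_smul_mem] at hx1
    have hx2 : a⁻¹ * x * a ∈ (Ps : Subgroup G) := by simpa [MulAut.smul_def] using hx1
    have h3 := hPs _ hx2
    calc s'' * x * s''⁻¹ = a * (s' * (a⁻¹ * x * a) * s'⁻¹) * a⁻¹ := by rw [hs'']; group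
      _ = a * (a⁻¹ * x * a)⁻¹ * a⁻¹ := by rw [h3]
      _ = x⁻¹ := by group
  have hss'' : IsConj s s'' := hss'.trans (isConj_iff.mpr ⟨a, rfl⟩)
  -- `t' * s''` centralizes `Pt`, hence has odd order
  obtain ⟨x, hx⟩ : ∃ x : Pt, x ≠ 1 := by
    have hcard : 1 < Nat.card Pt := by
      rw [Pt.card_eq_multiplicity]
      exact Nat.one_lt_pow (hp.factorization_pos_of_dvd Nat.card_pos.ne' hpG).ne' hp.one_lt
    rw [Finite.one_lt_card_iff_nontrivial] at hcard
    exact exists_ne 1
  have hx1 : (x : G) ≠ 1 := fun h0 => hx (Subtype.ext h0)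
  have hxp : ∃ k : ℕ, orderOf (x : G) = p ^ k := by
    obtain ⟨k, hk⟩ := Pt.isPGroup' x
    have h3 : (x : G) ^ p ^ k = 1 := by
      have := congrArg Subtype.val hk
      simpa using this
    obtain ⟨j, -, hj⟩ := (Nat.dvd_prime_pow hp).mp (orderOf_dvd_of_pow_eq_one h3)
    exact ⟨j, hj⟩
  have hcent : t' * s'' ∈ Subgroup.centralizer ({(x : G)} : Set G) := by
    rw [Subgroup.mem_centralizer_singleton_iff]
    have e1 := hinvP (x : G) x.2
    have e2 := hPt ((x : G)⁻¹) (inv_mem x.2)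
    rw [inv_inv] at e2
    have e3 : t' * s'' * (x : G) * (t' * s'')⁻¹ = (x : G) := by
      calc t' * s'' * (x : G) * (t' * s'')⁻¹ = t' * (s'' * x * s''⁻¹) * t'⁻¹ := by group
        _ = t' * (x : G)⁻¹ * t'⁻¹ := by rw [e1]
        _ = (x : G) := e2
    calc t' * s'' * (x : G) = (t' * s'' * (x : G) * (t' * s'')⁻¹) * (t' * s'') := by group
      _ = (x : G) * (t' * s'') := by rw [e3]
  have hoddord : Odd (orderOf (t' * s'')) := by
    have h4 : orderOf (t' * s'') ∣ Nat.card ↥(Subgroup.centralizer ({(x : G)} : Set G)) := by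
      have := orderOf_dvd_natCard
        (⟨t' * s'', hcent⟩ : ↥(Subgroup.centralizer ({(x : G)} : Set G)))
      rwa [Subgroup.orderOf_mk] at this
    exact Odd.of_dvd_nat (hC (x : G) hx1 hxp) h4
  obtain ⟨r, hr⟩ := hoddord
  have hconj := (Cfsg.Agent.Helper18.odd_dihedral_conj hs''2 ht'2 hr).1
  have hs''t' : IsConj s'' t' := isConj_iff.mpr ⟨_, hconj⟩
  exact (hss''.trans hs''t').trans htt'.symm

end Cfsg.Agent.S4738
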