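import Cfsg.Statements.S4740
import Cfsg.Agent.Helper5.DefectZeroCount
import Cfsg.Agent.Helper5.DefectOrder
import Cfsg.Agent.Helper8.CharComp

set_option autoImplicit false
open Cfsg

namespace Cfsg.Agent.S4740

/-- Let p be an odd prime, G a finite group of even order, x an involution of G and P a subgroup of G of order p ^ c such that no conjugate of x inverts a non-identity element of P. If p ^ a is the p-part of the order of C_G(x), then some irreducible character of G has degree divisible by p ^ (c - a). -/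
theorem result {G : Type*} [Group G] [Finite G] (p : ℕ) [Fact p.Prime] (hp2 : p ≠ 2) (hG : Even (Nat.card G)) (x : G) (hx : orderOf x = 2) (P : Subgroup G) (c : ℕ) (hP : Nat.card ↥P = p ^ c) (hinv : ∀ g : G, IsConj x g → ∀ z ∈ P, z ≠ 1 → g * z * g⁻¹ ≠ z⁻¹) (a : ℕ) (ha : (Nat.card ↥(Subgroup.centralizer ({x} : Set G))).factorization p = a) : ∃ χ : Cfsg.IrrCharacter G, p ^ (c - a) ∣ Cfsg.charDegree (χ : G → ℂ) := by
  classical
  have : Fintype G := Fintype.ofFinite G
  have : Fintype (IrrCharacter G) := Fintype.ofFinite _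
  have : Fintype P := Fintype.ofFinite _
  have : Fintype (IrrCharacter P) := Fintype.ofFinite _
  -- sums over `P`
  have hsum : ∀ χ : IrrCharacter G, ∃ n : ℕ,
      ∑ u ∈ Finset.univ.filter (fun u : G => u ∈ P), (starRingEnd ℂ) ((χ : G → ℂ) u) =
        ((p ^ c : ℕ) : ℂ) * ((n : ℤ) : ℂ) := by
    intro χ
    obtain ⟨n, hn⟩ := Cfsg.Agent.Helper24.IsCharacter.classInner_irr_nat
      (Cfsg.Agent.Helper8.isCharacter_restrict P
        (Cfsg.Agent.Helper24.IsIrrCharacter.isCharacter χ.2)) (Cfsg.Agent.Helper24.trivIrr P)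
    refine ⟨n, ?_⟩
    rw [classInner, hP] at hn
    have h1 : ∑ u ∈ Finset.univ.filter (fun u : G => u ∈ P), (starRingEnd ℂ) ((χ : G → ℂ) u) =
        ∑ u : P, (starRingEnd ℂ) ((χ : G → ℂ) u) := by
      rw [Finset.sum_subtype (p := fun u : G => u ∈ P) _ (by simp)]
    rw [h1]
    have h2 : ∑ u : P, (χ : G → ℂ) u = ((p ^ c : ℕ) : ℂ) * (n : ℂ) := by
      have hpc : ((p ^ c : ℕ) : ℂ) ≠ 0 := by
        have := (pow_pos (Fact.out : p.Prime).pos c).ne'
        exact_mod_cast this
      rw [← hn, ← mul_assoc, mul_inv_cancel₀ hpc, one_mul]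
      refine Finset.sum_congr rfl fun u _ => ?_
      simp
    have h3 := congrArg (starRingEnd ℂ) h2
    rw [map_sum] at h3
    rw [h3]
    simp
  choose m hm using hsum
  have hsq : ∀ t : G, IsConj x t → t * t = 1 := by
    intro t ht
    obtain ⟨g, rfl⟩ := isConj_iff.mp ht
    have hx2 : x * x = 1 := by
      rw [← pow_two, ← hx]
      exact pow_orderOf_eq_one x
    calc g * x * g⁻¹ * (g * x * g⁻¹) = g * (x * x) * g⁻¹ := by group
      _ = 1 := by rw [hx2]; group
  obtain ⟨χ, hχ⟩ := Cfsg.Agent.Helper5.DZC.exists_pow_dvd_irrDeg (p := p) x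
    (Finset.univ.filter (fun u : G => u ∈ P)) (by simp [P.one_mem]) c (fun χ => (m χ : ℤ)) hm
    (by
      intro u hu hu1 t h ht hh htu
      have huP : u ∈ P := (Finset.mem_filter.mp hu).2
      apply hinv t ht u huP hu1
      have ht2 := hsq t ht
      have hh2 := hsq h hh
      have hhinv : h⁻¹ = h := inv_eq_of_mul_eq_one_right hh2
      have htinv : t⁻¹ = t := inv_eq_of_mul_eq_one_right ht2
      rw [← htu, hhinv, mul_inv_rev, hhinv, htinv, ← mul_assoc, ht2, one_mul])
  refine ⟨χ, ?_⟩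
  rw [Cfsg.Agent.Helper5.CC.charDegree_eq_irrDeg, ← ha]
  exact hχ

end Cfsg.Agent.S4740
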