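import Cfsg.Statements.S4746
import Cfsg.Agent.S4744
import Cfsg.Agent.Helper24.RealOddCent

set_option autoImplicit false
open Cfsg

namespace Cfsg.Agent.S4746

/-- Let p be an odd prime and G a finite group of even order divisible by p in which the centralizer of every non-identity p-element has odd order. Then G has an irreducible character of p-defect zero or an irreducible character of even degree. -/
theorem result {G : Type*} [Group G] [Finite G] (p : ℕ) [Fact p.Prime] (hp2 : p ≠ 2) (hpG : p ∣ Nat.card G) (h2G : 2 ∣ Nat.card G) (hC : ∀ g : G, g ≠ 1 → (∃ k : ℕ, orderOf g = p ^ k) → Odd (Nat.card ↥(Subgroup.centralizer ({g} : Set G)))) : (∃ χ : Cfsg.IrrCharacter G, (Cfsg.charDegree (χ : G → ℂ)).factorization p = (Nat.card G).factorization p) ∨ ∃ χ : Cfsg.IrrCharacter G, Even (Cfsg.charDegree (χ : G → ℂ)) := by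
  classical
  rcases Cfsg.Agent.S4744.result p hp2 hpG h2G hC with h | h
  · left; exact h
  · right
    have hp : p.Prime := Fact.out
    obtain ⟨P⟩ : Nonempty (Sylow p G) := inferInstance
    obtain ⟨hev, -⟩ := h P
    -- an involution in the normalizer
    have : Fact (Nat.Prime 2) := ⟨Nat.prime_two⟩
    obtain ⟨t, ht⟩ := exists_prime_orderOf_dvd_card' (G := ↥(Subgroup.normalizer ((P : Subgroup G) : Set G))) 2
      (even_iff_two_dvd.mp hev)
    have ht2 : (t : G) * (t : G) = 1 := by
      have h1 : t ^ 2 = 1 := by rw [← ht]; exact pow_orderOf_eq_one t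
      have h2 : ((t ^ 2 : ↥(Subgroup.normalizer ((P : Subgroup G) : Set G))) : G) = 1 := by rw [h1]; rfl
      rw [← h2, pow_two]; rfl
    have ht1 : (t : G) ≠ 1 := by
      intro h1
      have : t = 1 := Subtype.ext h1
      rw [this, orderOf_one] at ht
      omega
    have htinv : (t : G)⁻¹ = (t : G) := inv_eq_of_mul_eq_one_right ht2
    -- a non-identity element of P
    have hPne : (P : Subgroup G) ≠ ⊥ := by
      intro hbot
      have h1 : Nat.card (P : Subgroup G) = 1 := by rw [hbot]; exact Subgroup.card_bot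
      have h2 := P.card_eq_multiplicity
      rw [h1] at h2
      have h3 : 0 < (Nat.card G).factorization p :=
        (hp.factorization_pos_of_dvd Nat.card_pos.ne' hpG)
      have h4 : 1 < p ^ (Nat.card G).factorization p := Nat.one_lt_pow h3.ne' hp.one_lt
      omega
    obtain ⟨x, hxP, hx1⟩ := (Subgroup.ne_bot_iff_exists_ne_one).mp hPne |>
      fun ⟨a, ha⟩ => (⟨(a : G), a.2, fun h => ha (Subtype.ext h)⟩ : ∃ x : G, x ∈ (P : Subgroup G) ∧ x ≠ 1)
    have htx : (t : G) * x * (t : G)⁻¹ ∈ (P : Subgroup G) :=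
      (Subgroup.mem_set_normalizer_iff.mp t.2 x).mp hxP
    set y : G := x⁻¹ * ((t : G) * x * (t : G)⁻¹) with hy
    have hyP : y ∈ (P : Subgroup G) := (P : Subgroup G).mul_mem ((P : Subgroup G).inv_mem hxP) htx
    have hpel : ∀ z ∈ (P : Subgroup G), ∃ k : ℕ, orderOf z = p ^ k := by
      intro z hz
      obtain ⟨k, hk⟩ := (P.isPGroup' ⟨z, hz⟩)
      have h1 : z ^ p ^ k = 1 := by
        have := congrArg Subtype.val hk
        simpa using this
      obtain ⟨j, -, hj⟩ := (Nat.dvd_prime_pow hp).mp (orderOf_dvd_of_pow_eq_one h1)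
      exact ⟨j, hj⟩
    have hy1 : y ≠ 1 := by
      intro h1
      have hcomm : (t : G) * x * (t : G)⁻¹ = x := by
        have := congrArg (fun z => x * z) h1
        simpa [hy, mul_assoc] using this
      -- t centralizes x, but C(x) has odd order
      have hmem : (t : G) ∈ Subgroup.centralizer ({x} : Set G) := by
        rw [Subgroup.mem_centralizer_iff]
        intro z hz
        rw [Set.mem_singleton_iff] at hz
        subst hz
        have : (t : G) * z = z * (t : G) := by
          calc (t : G) * z = ((t : G) * z * (t : G)⁻¹) * (t : G) := by group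
            _ = z * (t : G) := by rw [hcomm]
        exact this.symm
      have hodd := hC x hx1 (hpel x hxP)
      have hord : orderOf (⟨(t : G), hmem⟩ : ↥(Subgroup.centralizer ({x} : Set G))) = 2 := by
        rw [← Subgroup.orderOf_coe]
        show orderOf (t : G) = 2
        rw [Subgroup.orderOf_coe, ht]
      have hdvd : 2 ∣ Nat.card ↥(Subgroup.centralizer ({x} : Set G)) := by
        rw [← hord]; exact orderOf_dvd_natCard _
      exact (Nat.not_even_iff_odd.mpr hodd) (even_iff_two_dvd.mpr hdvd)
    have hreal : ∃ g : G, g * y * g⁻¹ = y⁻¹ := by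
      refine ⟨(t : G), ?_⟩
      have e1 : (x⁻¹ * ((t : G) * x * (t : G)⁻¹))⁻¹ = (t : G) * x⁻¹ * (t : G)⁻¹ * x := by group
      have e2 : (t : G) * (x⁻¹ * ((t : G) * x * (t : G)⁻¹)) * (t : G)⁻¹ =
          (t : G) * x⁻¹ * (t : G) * x * ((t : G)⁻¹ * (t : G)⁻¹) := by group
      rw [hy, e1, e2, htinv, ht2, mul_one]
    exact Cfsg.Agent.Helper24.exists_even_degree_of_real_odd_centralizer y hy1 hreal
      (hC y hy1 (hpel y hyP))

end Cfsg.Agent.S4746
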