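import Cfsg.Statements.S4751
import Cfsg.Agent.Helper8.S4751ARITH
import Cfsg.Agent.Helper8.S4751CLF
import Cfsg.Agent.Helper8.S4751LIN2
import Cfsg.Agent.Helper14.S4751ELAB
import Cfsg.Agent.Helper8.S4751CENTc
import Cfsg.Agent.Helper8.S4751SYL
import Cfsg.Agent.Helper8.S4751P4
import Cfsg.Agent.Helper11.S4751IDX6
import Cfsg.Agent.Helper11.S4751S4Gd
import Cfsg.Agent.Helper14.PCore
import Cfsg.Agent.Helper5.LinChar
import Cfsg.Agent.Helper24.Rep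

set_option autoImplicit false

namespace Cfsg.Agent.S4751

open scoped ComplexConjugate
open Cfsg.Agent.S4751P

theorem result {G : Type*} [Group G] [Finite G] (p : ℕ) [Fact p.Prime] (χ : Cfsg.IrrCharacter G) (hfaith : ∀ g : G, (χ : G → ℂ) g = (χ : G → ℂ) 1 → g = 1) (hnl : (χ : G → ℂ) 1 ≠ 1) (hroot : ∀ g : G, p ∣ orderOf g → ∃ n : ℕ, 0 < n ∧ ((χ : G → ℂ) g) ^ n = 1) (hP : Cfsg.pCore p G ≠ ⊥) : ((Nat.card ↥(Cfsg.pCore p G)).factorization p = (Nat.card G).factorization p ∧ Cfsg.IsElementaryAbelian p (Cfsg.pCore p G) ∧ Subgroup.centralizer ((Cfsg.pCore p G : Subgroup G) : Set G) = Cfsg.pCore p G ⊔ Subgroup.center G ∧ Cfsg.pCore p G ⊓ Subgroup.center G = ⊥ ∧ (∀ lam mu : ↥(Cfsg.pCore p G) → ℂ, Cfsg.IsCharacter ↥(Cfsg.pCore p G) lam → lam 1 = 1 → lam ≠ (fun _ => (1 : ℂ)) → Cfsg.IsCharacter ↥(Cfsg.pCore p G) mu → mu 1 = 1 → mu ≠ (fun _ => (1 : ℂ)) → ∃ g : G, ∀ (x : G) (hx : x ∈ Cfsg.pCore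 p G) (hgx : g * x * g⁻¹ ∈ Cfsg.pCore p G), mu ⟨x, hx⟩ = lam ⟨g * x * g⁻¹, hgx⟩) ∧ (χ : G → ℂ) 1 = (Nat.card ↥(Cfsg.pCore p G) : ℂ) - 1) ∨ (p = 2 ∧ Odd (Nat.card ↥(Subgroup.center G)) ∧ ∃ H : Subgroup G, Nonempty (↥H ≃* Equiv.Perm (Fin 4)) ∧ H ⊓ Subgroup.center G = ⊥ ∧ H ⊔ Subgroup.center G = ⊤) := by
  classical
  have hpp : p.Prime := Fact.out
  obtain ⟨χf, hχ⟩ := χ
  change ∀ g : G, χf g = χf 1 → g = 1 at hfaith
  change χf 1 ≠ 1 at hnl
  change ∀ g : G, p ∣ orderOf g → ∃ n : ℕ, 0 < n ∧ (χf g) ^ n = 1 at hroot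
  show ((Nat.card ↥(Cfsg.pCore p G)).factorization p = (Nat.card G).factorization p ∧ Cfsg.IsElementaryAbelian p (Cfsg.pCore p G) ∧ Subgroup.centralizer ((Cfsg.pCore p G : Subgroup G) : Set G) = Cfsg.pCore p G ⊔ Subgroup.center G ∧ Cfsg.pCore p G ⊓ Subgroup.center G = ⊥ ∧ (∀ lam mu : ↥(Cfsg.pCore p G) → ℂ, Cfsg.IsCharacter ↥(Cfsg.pCore p G) lam → lam 1 = 1 → lam ≠ (fun _ => (1 : ℂ)) → Cfsg.IsCharacter ↥(Cfsg.pCore p G) mu → mu 1 = 1 → mu ≠ (fun _ => (1 : ℂ)) → ∃ g : G, ∀ (x : G) (hx : x ∈ Cfsg.pCore p G) (hgx : g * x * g⁻¹ ∈ Cfsg.pCore p G), mu ⟨x, hx⟩ = lam ⟨g * x * g⁻¹, hgx⟩) ∧ χf 1 = (Nat.card ↥(Cfsg.pCore p G) : ℂ) - 1) ∨ (p = 2 ∧ Odd (Nat.card ↥(Subgroup.center G)) ∧ ∃ H : Subgroup G, Nonempty (↥H ≃* Equiv.Perm (Fin 4)) ∧ H ⊓ Subgroup.center G = ⊥ ∧ H ⊔ Subgroup.center G = ⊤)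
  have hχc : Cfsg.IsCharacter G χf := Cfsg.Agent.Helper24.IsIrrCharacter.isCharacter hχ
  generalize hPdef : Cfsg.pCore p G = P at hP ⊢
  haveI hPn : P.Normal := hPdef ▸ Cfsg.Agent.Helper14.pCore_normal p
  have hPp : IsPGroup p P := hPdef ▸ Cfsg.Agent.Helper14.pCore_isPGroup p
  -- norm one on p-singular elements
  have habs : ∀ g : G, p ∣ orderOf g → χf g * conj (χf g) = 1 := by
    intro g hg
    obtain ⟨n, hn, h⟩ := hroot g hg
    exact abs_of_root _ n hn h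
  have hsing : ∀ y ∈ P, y ≠ 1 → p ∣ orderOf y := by
    intro y hy hy1
    obtain ⟨k, hk⟩ := hPp ⟨y, hy⟩
    have hk' : y ^ (p ^ k) = 1 := by
      have := congrArg Subtype.val hk
      simpa using this
    have hdvd : orderOf y ∣ p ^ k := orderOf_dvd_of_pow_eq_one hk'
    obtain ⟨j, hj, hjo⟩ := (Nat.dvd_prime_pow hpp).mp hdvd
    rcases Nat.eq_zero_or_pos j with h0 | h0
    · exfalso
      rw [h0, pow_zero, orderOf_eq_one_iff] at hjo
      exact hy1 hjo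
    · rw [hjo]
      exact dvd_pow_self p h0.ne'
  have habsP : ∀ y ∈ P, y ≠ 1 → χf y * conj (χf y) = 1 := fun y hy hy1 => habs y (hsing y hy hy1)
  obtain ⟨T, hT, hTcard, hTsum, hTtr⟩ := clifford_lin p χf hχ hnl P hPp hP habsP
  obtain ⟨hab, h1, hm1, htr⟩ := lin_of_orbit χf hnl P T hT hTcard hTsum hTtr
  have hexp := pow_eq_one_of_transitive p P hPp hab htr
  obtain ⟨hC, hPZ, hZp⟩ := centralizer_structure p χf hχ hfaith hnl P hPp habs hab h1 hm1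
  -- |P| ≥ 3
  have hP3 : 3 ≤ Nat.card P := by
    have h2 : 1 < Nat.card P := by
      rw [Finite.one_lt_card_iff_nontrivial]
      exact (Subgroup.nontrivial_iff_ne_bot P).mpr hP
    rcases Nat.lt_or_ge 2 (Nat.card P) with h | h
    · exact h
    · exfalso
      have h2' : Nat.card P = 2 := le_antisymm h h2
      apply hnl
      rw [h1, h2']
      norm_num
  obtain ⟨S⟩ : Nonempty (Sylow p G) := inferInstance
  rcases sylow_index p χf hχc P hPp h1 hP3 habs S with hS | ⟨hp2, hS⟩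
  · left
    refine ⟨?_, ⟨⟨⟨fun a b => Subtype.ext (hab a a.2 b b.2)⟩⟩, hexp⟩, hC, hPZ, ?_, h1⟩
    · rw [← hS, Sylow.card_eq_multiplicity]
      rw [Nat.Prime.factorization_pow hpp]
      simp
    · intro lam mu hlam hlam1 hlamne hmu hmu1 hmune
      set lamh : P →* ℂˣ := (Cfsg.Agent.Helper5.linCharHom hlam hlam1).toHomUnits with hlamh
      set muh : P →* ℂˣ := (Cfsg.Agent.Helper5.linCharHom hmu hmu1).toHomUnits with hmuh
      have hlamv : ∀ x : P, ((lamh x : ℂˣ) : ℂ) = lam x := fun x => rfl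
      have hmuv : ∀ x : P, ((muh x : ℂˣ) : ℂ) = mu x := fun x => rfl
      have hl1 : lamh ≠ 1 := by
        intro h
        apply hlamne
        funext x
        rw [← hlamv x, h]
        rfl
      have hm1' : muh ≠ 1 := by
        intro h
        apply hmune
        funext x
        rw [← hmuv x, h]
        rfl
      obtain ⟨g, hg⟩ := htr lamh muh hl1 hm1'
      refine ⟨g, ?_⟩
      intro x hx hgx
      have := hg ⟨x, hx⟩
      rw [hmuv, hlamv] at this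
      exact this
  · right
    subst hp2
    have hZodd : Odd (Nat.card ↥(Subgroup.center G)) := by
      rw [← Nat.not_even_iff_odd, even_iff_two_dvd]
      exact hZp
    have h2 : ∀ y ∈ P, y ^ 2 = 1 := hexp
    have hP4 : Nat.card P = 4 := card_eq_four χf hχc P hab h2 h1 hm1 hP3 habs S hS
    have h3 : χf 1 = 3 := by
      rw [h1, hP4]
      norm_num
    have h8 : 8 ∣ Nat.card G := by
      have : Nat.card S = 8 := by rw [hS, hP4]
      rw [← this]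
      exact Subgroup.card_subgroup_dvd_card _
    have hidx := centralizer_index_eq_six χf hχ h3 P hP4 hC hPZ hZp h8
    exact ⟨rfl, hZodd, s4_final P hP4 h2 hC hPZ hZp hidx⟩

end Cfsg.Agent.S4751
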