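import Cfsg.Statements.S4754
import Mathlib
import Cfsg.Agent.Helper23.ClassProduct

set_option autoImplicit false
open Cfsg

namespace Cfsg.Agent.S4754

/-- For elements x, y of a finite group G, the conjugacy class of x y equals the set of all products of a conjugate of x with a conjugate of y if and only if χ(1) χ(a x a⁻¹ b y b⁻¹) = χ(x) χ(y) for all a, b ∈ G and every irreducible character χ. -/
theorem result {G : Type*} [Group G] [Finite G] (x y : G) : (∀ z : G, IsConj (x * y) z ↔ ∃ a b : G, z = a * x * a⁻¹ * (b * y * b⁻¹)) ↔ ∀ (a b : G) (χ : Cfsg.IrrCharacter G), (χ : G → ℂ) 1 * (χ : G → ℂ) (a * x * a⁻¹ * (b * y * b⁻¹)) = (χ : G → ℂ) x * (χ : G → ℂ) y := by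
  classical
  have : Fintype G := Fintype.ofFinite G
  have : Fintype (Cfsg.IrrCharacter G) := Fintype.ofFinite _
  constructor
  · intro H a b χ
    have hcf := Cfsg.Agent.Helper24.isClassFunction_irr χ
    have h1 : IsConj (x * y) (a * x * a⁻¹ * (b * y * b⁻¹)) := (H _).mpr ⟨a, b, rfl⟩
    rw [← Cfsg.Agent.Helper24.IsClassFunction.eq_of_isConj hcf h1]
    apply Cfsg.Agent.Helper23.char_mul_of_class_product
    intro b'
    refine (H _).mpr ⟨1, b', ?_⟩
    group
  · intro K z
    constructor
    · intro hz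
      obtain ⟨c, hc⟩ := isConj_iff.mp hz
      exact ⟨c, c, by rw [← hc]; group⟩
    · rintro ⟨a, b, rfl⟩
      rw [Cfsg.Agent.Helper24.isConj_iff_forall_irr]
      intro χ
      have h1 := K 1 1 χ
      have h2 := K a b χ
      have e : (1 : G) * x * 1⁻¹ * (1 * y * 1⁻¹) = x * y := by group
      rw [e] at h1
      exact mul_left_cancel₀ (Cfsg.Agent.Helper23.irr_one_ne_zero χ) (h1.trans h2.symm)

end Cfsg.Agent.S4754
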