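import Cfsg.Statements.S4755
import Mathlib
import Cfsg.Agent.Helper23.ClassProduct
import Cfsg.Agent.Helper24.Linear

set_option autoImplicit false
open Cfsg

namespace Cfsg.Agent.S4755

open scoped commutatorElement


/-- Let x, y be non-identity elements of the finite group G such that χ(x' y') = χ(x') χ(y') for all conjugates x' of x, y' of y and every irreducible character χ. Then the conjugacy class of x y is the set of all products of a conjugate of x with a conjugate of y; every irreducible character of degree greater than 1 vanishes at x y; and the conjugacy class of x y is the coset of the commutator subgroup containing x y. -/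
theorem result {G : Type*} [Group G] [Finite G] (x y : G) (hx : x ≠ 1) (hy : y ≠ 1) (h : ∀ (a b : G) (χ : Cfsg.IrrCharacter G), (χ : G → ℂ) (a * x * a⁻¹ * (b * y * b⁻¹)) = (χ : G → ℂ) (a * x * a⁻¹) * (χ : G → ℂ) (b * y * b⁻¹)) : (∀ z : G, IsConj (x * y) z ↔ ∃ a b : G, z = a * x * a⁻¹ * (b * y * b⁻¹)) ∧ (∀ χ : Cfsg.IrrCharacter G, (χ : G → ℂ) 1 ≠ 1 → (χ : G → ℂ) (x * y) = 0) ∧ (∀ z : G, IsConj (x * y) z ↔ (x * y)⁻¹ * z ∈ commutator G) := by
  classical
  have : Fintype G := Fintype.ofFinite G
  have : Fintype (Cfsg.IrrCharacter G) := Fintype.ofFinite _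
  -- χ(x^a y^b) = χ(x y)
  have hval : ∀ (a b : G) (χ : Cfsg.IrrCharacter G),
      (χ : G → ℂ) (a * x * a⁻¹ * (b * y * b⁻¹)) = (χ : G → ℂ) (x * y) := by
    intro a b χ
    have hcf := Cfsg.Agent.Helper24.isClassFunction_irr χ
    have h1 := h a b χ
    have h2 := h 1 1 χ
    have e : (1 : G) * x * 1⁻¹ * (1 * y * 1⁻¹) = x * y := by group
    have ex : (1 : G) * x * 1⁻¹ = x := by group
    have ey : (1 : G) * y * 1⁻¹ = y := by group
    rw [e, ex, ey] at h2
    rw [h1, hcf x a, hcf y b, h2]
  have hconj : ∀ a b : G, IsConj (x * y) (a * x * a⁻¹ * (b * y * b⁻¹)) := by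
    intro a b
    rw [Cfsg.Agent.Helper24.isConj_iff_forall_irr]
    intro χ
    exact (hval a b χ).symm
  have hvanish : ∀ χ : Cfsg.IrrCharacter G, (χ : G → ℂ) 1 ≠ 1 → (χ : G → ℂ) (x * y) = 0 := by
    intro χ hχ1
    have h1 := Cfsg.Agent.Helper23.char_mul_of_class_product x y (fun b => by
      have := hconj 1 b
      have e : (1 : G) * x * 1⁻¹ = x := by group
      rwa [e] at this) χ
    have h2 := h 1 1 χ
    have e : (1 : G) * x * 1⁻¹ * (1 * y * 1⁻¹) = x * y := by group
    have ex : (1 : G) * x * 1⁻¹ = x := by group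
    have ey : (1 : G) * y * 1⁻¹ = y := by group
    rw [e, ex, ey] at h2
    rw [← h2] at h1
    have h3 : ((χ : G → ℂ) 1 - 1) * (χ : G → ℂ) (x * y) = 0 := by
      linear_combination h1
    rcases mul_eq_zero.mp h3 with h4 | h4
    · exact absurd (sub_eq_zero.mp h4) hχ1
    · exact h4
  refine ⟨?_, hvanish, ?_⟩
  · intro z
    constructor
    · intro hz
      obtain ⟨c, hc⟩ := isConj_iff.mp hz
      exact ⟨c, c, by rw [← hc]; group⟩
    · rintro ⟨a, b, rfl⟩
      exact hconj a b
  · intro z
    constructor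
    · intro hz
      obtain ⟨c, hc⟩ := isConj_iff.mp hz
      have : (x * y)⁻¹ * z = ⁅(x * y)⁻¹, c⁆ := by
        rw [← hc, commutatorElement_def]; group
      rw [this, commutator_def]
      exact Subgroup.commutator_mem_commutator (Subgroup.mem_top _) (Subgroup.mem_top _)
    · intro hw
      by_contra hnc
      have hsum := Cfsg.Agent.Helper24.sum_irr_mul_conj (x * y) z
      rw [if_neg hnc] at hsum
      -- each term is a nonnegative real, the trivial character contributes 1
      have hterm : ∀ χ : Cfsg.IrrCharacter G,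
          (χ : G → ℂ) (x * y) * (starRingEnd ℂ) ((χ : G → ℂ) z) =
            ((‖(χ : G → ℂ) (x * y)‖ ^ 2 : ℝ) : ℂ) := by
        intro χ
        by_cases hχ1 : (χ : G → ℂ) 1 = 1
        · have hz : (χ : G → ℂ) z = (χ : G → ℂ) (x * y) := by
            have := Cfsg.Agent.Helper23.irr_linear_mul_commutator χ hχ1 (x * y) _ hw
            rwa [mul_inv_cancel_left] at this
          rw [hz, Complex.mul_conj, Complex.normSq_eq_norm_sq]
        · rw [hvanish χ hχ1]; simp
      rw [Finset.sum_congr rfl (fun χ _ => hterm χ), ← Complex.ofReal_sum] at hsum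
      have hsum' : ∑ χ : Cfsg.IrrCharacter G, ‖(χ : G → ℂ) (x * y)‖ ^ 2 = 0 := by
        exact_mod_cast hsum
      have hzero := (Finset.sum_eq_zero_iff_of_nonneg (fun χ _ => by positivity)).mp hsum'
        (Cfsg.Agent.Helper24.trivIrr G) (Finset.mem_univ _)
      simp at hzero

end Cfsg.Agent.S4755
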