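import Cfsg.Statements.S4757
import Mathlib
import Cfsg.Agent.Helper24.ColumnOrth
import Cfsg.Agent.Helper24.Abelian
import Cfsg.Agent.Helper24.Linear
import Cfsg.Agent.Helper23.ClassProduct
import Cfsg.Agent.Helper23.PSeries

set_option autoImplicit false
open Cfsg

namespace Cfsg.Agent.S4757

open Cfsg.Agent.Helper24 Cfsg.Agent.Helper23

section helpers
open Classical
open scoped commutatorElement

variable {G : Type*} [Group G] [Finite G]

theorem irrDeg_trivIrr : irrDeg (trivIrr G) = 1 := by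
  have h := irrDeg_spec (trivIrr G)
  rw [trivIrr_apply] at h
  exact_mod_cast h.symm

/-- membership in the set of nonprincipal characters not vanishing at `u`. -/
def inS (u : G) (χ : IrrCharacter G) : Prop := χ ≠ trivIrr G ∧ (χ : G → ℂ) u ≠ 0

theorem sum_rel [Fintype G] [Fintype (IrrCharacter G)] (u : G) (hu : u ≠ 1) (c : ℂ)
    (hyp : ∀ χ : IrrCharacter G, χ ≠ trivIrr G →
      ((χ : G → ℂ) 1 - (χ : G → ℂ) u = c ∨ (χ : G → ℂ) u = 0)) :
    c * ((∑ χ : IrrCharacter G, if inS u χ then irrDeg χ else 0 : ℕ) : ℂ) =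
      1 + ((∑ χ : IrrCharacter G, if inS u χ then (irrDeg χ) ^ 2 else 0 : ℕ) : ℂ) := by
  have h0 := sum_irr_mul_conj (G := G) u 1
  rw [if_neg (by rw [isConj_one_left]; exact hu)] at h0
  have hterm : ∀ χ : IrrCharacter G, (χ : G → ℂ) u * (starRingEnd ℂ) ((χ : G → ℂ) 1) =
      (if χ = trivIrr G then (1 : ℂ) else 0)
        + ((if inS u χ then (irrDeg χ) ^ 2 else 0 : ℕ) : ℂ)
        - c * ((if inS u χ then irrDeg χ else 0 : ℕ) : ℂ) := by
    intro χ
    rw [irrDeg_spec, Complex.conj_natCast]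
    by_cases ht : χ = trivIrr G
    · subst ht
      have : ¬ inS u (trivIrr G) := fun h => h.1 rfl
      simp [this, irrDeg_trivIrr]
    · by_cases hb : (χ : G → ℂ) u = 0
      · have : ¬ inS u χ := fun h => h.2 hb
        simp [this, ht, hb]
      · have hS : inS u χ := ⟨ht, hb⟩
        have := (hyp χ ht).resolve_right hb
        rw [irrDeg_spec] at this
        simp only [if_pos hS, if_neg ht]
        push_cast
        rw [← this]; ring
  simp_rw [hterm] at h0
  rw [Finset.sum_sub_distrib, Finset.sum_add_distrib, Finset.sum_ite_eq', ← Finset.mul_sum,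
    ← Nat.cast_sum, ← Nat.cast_sum] at h0
  simp only [Finset.mem_univ, if_true] at h0
  linear_combination -h0


theorem sumA_ne_zero [Fintype G] [Fintype (IrrCharacter G)] (u : G) (hu : u ≠ 1) (c : ℂ)
    (hyp : ∀ χ : IrrCharacter G, χ ≠ trivIrr G →
      ((χ : G → ℂ) 1 - (χ : G → ℂ) u = c ∨ (χ : G → ℂ) u = 0)) :
    (∑ χ : IrrCharacter G, if inS u χ then irrDeg χ else 0 : ℕ) ≠ 0 := by
  intro h
  have hrel := sum_rel u hu c hyp
  rw [h, Nat.cast_zero, mul_zero] at hrel
  have : ((1 + (∑ χ : IrrCharacter G, if inS u χ then (irrDeg χ) ^ 2 else 0 : ℕ) : ℕ) : ℂ) = 0 := by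
    rw [Nat.cast_add, Nat.cast_one]; exact hrel.symm
  have := Nat.cast_eq_zero.mp this
  omega

theorem c_eq_two [Fintype G] [Fintype (IrrCharacter G)] (u : G) (hu : u ≠ 1) (c : ℂ)
    (hyp : ∀ χ : IrrCharacter G, χ ≠ trivIrr G →
      ((χ : G → ℂ) 1 - (χ : G → ℂ) u = c ∨ (χ : G → ℂ) u = 0))
    (lam : IrrCharacter G) (hl : lam ≠ trivIrr G) (h1 : (lam : G → ℂ) 1 = 1) :
    c = 2 ∧ (lam : G → ℂ) u = -1 := by
  obtain ⟨φ, hφ⟩ := exists_monoidHom_of_irr_one_eq_one lam h1
  have hpow : (φ u) ^ (orderOf u) = 1 := by rw [← map_pow, pow_orderOf_eq_one, map_one]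
  have hne : φ u ≠ 0 := by
    intro h
    rw [h, zero_pow (orderOf_pos u).ne'] at hpow
    exact zero_ne_one hpow
  have hc : 1 - φ u = c := by
    have := (hyp lam hl).resolve_right (by rw [hφ]; exact hne)
    rwa [h1, hφ] at this
  have hrel := sum_rel u hu c hyp
  have hA := sumA_ne_zero u hu c hyp
  set A : ℕ := (∑ χ : IrrCharacter G, if inS u χ then irrDeg χ else 0 : ℕ) with hAdef
  set B : ℕ := (∑ χ : IrrCharacter G, if inS u χ then (irrDeg χ) ^ 2 else 0 : ℕ) with hBdef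
  have hAc : (A : ℂ) ≠ 0 := by exact_mod_cast hA
  have hAr : (A : ℝ) ≠ 0 := by exact_mod_cast hA
  set r : ℝ := 1 - (1 + (B : ℝ)) / (A : ℝ) with hr
  have hφr : φ u = (r : ℂ) := by
    rw [hr]; push_cast
    have : c = (1 + (B : ℂ)) / (A : ℂ) := by
      field_simp
      linear_combination hrel
    rw [← this, ← hc]; ring
  have hrpow : r ^ orderOf u = 1 := by
    rw [hφr] at hpow
    exact_mod_cast hpow
  have habs : |r| = 1 := by
    have h2 : |r| ^ orderOf u = 1 := by rw [← abs_pow, hrpow, abs_one]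
    exact (pow_eq_one_iff_of_nonneg (abs_nonneg r) (orderOf_pos u).ne').mp h2
  have hcr : c = ((1 - r : ℝ) : ℂ) := by
    rw [← hc, hφr]; push_cast; ring
  rcases (abs_eq (by norm_num : (0 : ℝ) ≤ 1)).mp habs with h | h
  · exfalso
    rw [h] at hcr
    have hc0 : c = 0 := by rw [hcr]; simp
    rw [hc0, zero_mul] at hrel
    have : ((1 + B : ℕ) : ℂ) = 0 := by push_cast; exact hrel.symm
    have := Nat.cast_eq_zero.mp this
    omega
  · constructor
    · rw [hcr, h]; push_cast; ring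
    · rw [hφ, hφr, h]; push_cast; ring

theorem exists_linear_of_two [Fintype G] [Fintype (IrrCharacter G)] (u : G) (hu : u ≠ 1)
    (hyp : ∀ χ : IrrCharacter G, χ ≠ trivIrr G →
      ((χ : G → ℂ) 1 - (χ : G → ℂ) u = 2 ∨ (χ : G → ℂ) u = 0)) :
    ∃ χ : IrrCharacter G, χ ≠ trivIrr G ∧ (χ : G → ℂ) 1 = 1 := by
  by_contra hcon
  push Not at hcon
  have hrel := sum_rel u hu 2 hyp
  have hnat : 2 * (∑ χ : IrrCharacter G, if inS u χ then irrDeg χ else 0 : ℕ) =
      1 + (∑ χ : IrrCharacter G, if inS u χ then (irrDeg χ) ^ 2 else 0 : ℕ) := by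
    exact_mod_cast hrel
  have hle : 2 * (∑ χ : IrrCharacter G, if inS u χ then irrDeg χ else 0 : ℕ) ≤
      (∑ χ : IrrCharacter G, if inS u χ then (irrDeg χ) ^ 2 else 0 : ℕ) := by
    rw [Finset.mul_sum]
    refine Finset.sum_le_sum (fun χ _ => ?_)
    by_cases hS : inS u χ
    · rw [if_pos hS, if_pos hS]
      have hd : 2 ≤ irrDeg χ := by
        by_contra hlt
        push Not at hlt
        have hpos := irrDeg_pos χ
        have h1 : irrDeg χ = 1 := by omega
        exact hcon χ hS.1 ((irrDeg_eq_one_iff χ).mp h1)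
      nlinarith
    · rw [if_neg hS, if_neg hS]; simp
  omega


theorem linear_mul_eq_one [Fintype G] [Fintype (IrrCharacter G)] (u : G) (hu : u ≠ 1)
    (hyp : ∀ χ : IrrCharacter G, χ ≠ trivIrr G →
      ((χ : G → ℂ) 1 - (χ : G → ℂ) u = 2 ∨ (χ : G → ℂ) u = 0))
    (χ₁ χ₂ : IrrCharacter G) (h1 : χ₁ ≠ trivIrr G) (h2 : χ₂ ≠ trivIrr G)
    (hd1 : (χ₁ : G → ℂ) 1 = 1) (hd2 : (χ₂ : G → ℂ) 1 = 1) (g : G) :
    (χ₁ : G → ℂ) g * (χ₂ : G → ℂ) g = 1 := by
  obtain ⟨φ₁, hφ₁⟩ := exists_monoidHom_of_irr_one_eq_one χ₁ hd1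
  obtain ⟨φ₂, hφ₂⟩ := exists_monoidHom_of_irr_one_eq_one χ₂ hd2
  have hu1 := (c_eq_two u hu 2 hyp χ₁ h1 hd1).2
  have hu2 := (c_eq_two u hu 2 hyp χ₂ h2 hd2).2
  set μ : IrrCharacter G := ⟨fun g => (φ₁ * φ₂) g, isIrrCharacter_of_monoidHom (φ₁ * φ₂)⟩ with hμ
  have hμu : (μ : G → ℂ) u = 1 := by
    show (φ₁ * φ₂) u = 1
    rw [MonoidHom.mul_apply, ← hφ₁, ← hφ₂, hu1, hu2]; norm_num
  have hμ1 : (μ : G → ℂ) 1 = 1 := by
    show (φ₁ * φ₂) 1 = 1
    rw [map_one]
  have hμt : μ = trivIrr G := by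
    by_contra hne
    rcases hyp μ hne with h | h
    · rw [hμu, hμ1] at h; norm_num at h
    · rw [hμu] at h; exact one_ne_zero h
  have := congrFun (congrArg (fun χ : IrrCharacter G => (χ : G → ℂ)) hμt) g
  simp only [trivIrr_apply] at this
  rw [hφ₁, hφ₂, ← MonoidHom.mul_apply]
  exact this

theorem linear_unique [Fintype G] [Fintype (IrrCharacter G)] (u : G) (hu : u ≠ 1)
    (hyp : ∀ χ : IrrCharacter G, χ ≠ trivIrr G →
      ((χ : G → ℂ) 1 - (χ : G → ℂ) u = 2 ∨ (χ : G → ℂ) u = 0))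
    (χ₁ χ₂ : IrrCharacter G) (h1 : χ₁ ≠ trivIrr G) (h2 : χ₂ ≠ trivIrr G)
    (hd1 : (χ₁ : G → ℂ) 1 = 1) (hd2 : (χ₂ : G → ℂ) 1 = 1) : χ₁ = χ₂ := by
  apply Subtype.ext
  funext g
  have h12 := linear_mul_eq_one u hu hyp χ₁ χ₂ h1 h2 hd1 hd2 g
  have h11 := linear_mul_eq_one u hu hyp χ₁ χ₁ h1 h1 hd1 hd1 g
  have hne : (χ₁ : G → ℂ) g ≠ 0 := by
    intro h; rw [h, zero_mul] at h11; exact zero_ne_one h11
  exact (mul_left_cancel₀ hne (h12.trans h11.symm)).symm

theorem vanish_of_ne [Fintype G] [Fintype (IrrCharacter G)] (u : G) (hu : u ≠ 1)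
    (hyp : ∀ χ : IrrCharacter G, χ ≠ trivIrr G →
      ((χ : G → ℂ) 1 - (χ : G → ℂ) u = 2 ∨ (χ : G → ℂ) u = 0))
    (lam : IrrCharacter G) (hl : lam ≠ trivIrr G) (hl1 : (lam : G → ℂ) 1 = 1)
    (χ₀ : IrrCharacter G) (h0 : χ₀ ≠ trivIrr G) (h0l : χ₀ ≠ lam) : (χ₀ : G → ℂ) u = 0 := by
  by_contra hb
  have hS0 : inS u χ₀ := ⟨h0, hb⟩
  have hlu := (c_eq_two u hu 2 hyp lam hl hl1).2
  have hSl : inS u lam := ⟨hl, by rw [hlu]; norm_num⟩
  have hdl : irrDeg lam = 1 := (irrDeg_eq_one_iff lam).mpr hl1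
  have hrel := sum_rel u hu 2 hyp
  have hnat : 2 * (∑ χ : IrrCharacter G, if inS u χ then irrDeg χ else 0 : ℕ) =
      1 + (∑ χ : IrrCharacter G, if inS u χ then (irrDeg χ) ^ 2 else 0 : ℕ) := by
    exact_mod_cast hrel
  rw [← Finset.add_sum_erase Finset.univ _ (Finset.mem_univ lam),
    ← Finset.add_sum_erase Finset.univ (fun χ => if inS u χ then (irrDeg χ) ^ 2 else 0)
      (Finset.mem_univ lam), if_pos hSl, if_pos hSl, hdl, mul_add, Finset.mul_sum] at hnat
  -- degree of χ with S and ≠ lam is ≥ 3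
  have hdeg : ∀ χ : IrrCharacter G, χ ≠ lam → inS u χ → 3 ≤ irrDeg χ := by
    intro χ hχl hS
    have hpos := irrDeg_pos χ
    by_contra hlt
    push Not at hlt
    have hcases : irrDeg χ = 1 ∨ irrDeg χ = 2 := by omega
    rcases hcases with h | h
    · exact hχl (linear_unique u hu hyp χ lam hS.1 hl ((irrDeg_eq_one_iff χ).mp h) hl1)
    · have := (hyp χ hS.1).resolve_right hS.2
      rw [irrDeg_spec, h] at this
      apply hS.2
      have h2 : ((2 : ℕ) : ℂ) = 2 := by norm_num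
      rw [h2] at this
      linear_combination -this
  have hlt : ∑ χ ∈ Finset.univ.erase lam, 2 * (if inS u χ then irrDeg χ else 0) <
      ∑ χ ∈ Finset.univ.erase lam, (if inS u χ then (irrDeg χ) ^ 2 else 0) := by
    apply Finset.sum_lt_sum
    · intro χ hχ
      by_cases hS : inS u χ
      · rw [if_pos hS, if_pos hS]
        have := hdeg χ (Finset.ne_of_mem_erase hχ) hS
        nlinarith
      · rw [if_neg hS, if_neg hS]
    · refine ⟨χ₀, Finset.mem_erase.mpr ⟨h0l, Finset.mem_univ _⟩, ?_⟩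
      rw [if_pos hS0, if_pos hS0]
      have := hdeg χ₀ h0l hS0
      nlinarith
  omega

theorem card_centralizer_eq_two [Fintype G] [Fintype (IrrCharacter G)] (u : G) (hu : u ≠ 1)
    (hyp : ∀ χ : IrrCharacter G, χ ≠ trivIrr G →
      ((χ : G → ℂ) 1 - (χ : G → ℂ) u = 2 ∨ (χ : G → ℂ) u = 0))
    (lam : IrrCharacter G) (hl : lam ≠ trivIrr G) (hl1 : (lam : G → ℂ) 1 = 1) :
    Nat.card (Subgroup.centralizer ({u} : Set G)) = 2 := by
  have h0 := sum_irr_mul_conj (G := G) u u
  rw [if_pos (IsConj.refl u)] at h0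
  have hlu := (c_eq_two u hu 2 hyp lam hl hl1).2
  have hterm : ∀ χ : IrrCharacter G, (χ : G → ℂ) u * (starRingEnd ℂ) ((χ : G → ℂ) u) =
      (if χ = trivIrr G then (1 : ℂ) else 0) + (if χ = lam then (1 : ℂ) else 0) := by
    intro χ
    by_cases ht : χ = trivIrr G
    · subst ht
      rw [if_pos rfl, if_neg (Ne.symm hl)]
      simp
    · by_cases hχl : χ = lam
      · subst hχl
        rw [if_neg ht, if_pos rfl, hlu]
        simp
      · rw [if_neg ht, if_neg hχl, vanish_of_ne u hu hyp lam hl hl1 χ ht hχl]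
        simp
  simp_rw [hterm] at h0
  rw [Finset.sum_add_distrib, Finset.sum_ite_eq', Finset.sum_ite_eq'] at h0
  simp only [Finset.mem_univ, if_true] at h0
  have : ((2 : ℕ) : ℂ) = (Nat.card (Subgroup.centralizer ({u} : Set G)) : ℂ) := by
    rw [← h0]; norm_num
  exact (Nat.cast_injective this).symm


theorem comm_ne_top_iff :
    commutator G ≠ ⊤ ↔ ∃ χ : IrrCharacter G, χ ≠ trivIrr G ∧ (χ : G → ℂ) 1 = 1 := by
  have hcard := card_linear_irr (G := G)
  constructor
  · intro hne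
    by_contra hcon
    push Not at hcon
    apply hne
    rw [← Subgroup.index_eq_one, ← hcard]
    haveI : Unique {χ : IrrCharacter G // (χ : G → ℂ) 1 = 1} :=
      { default := ⟨trivIrr G, trivIrr_apply 1⟩
        uniq := fun χ => by
          by_contra h
          exact hcon χ.1 (fun h' => h (Subtype.ext h')) χ.2 }
    exact Nat.card_unique
  · rintro ⟨χ, hχ, h1⟩ htop
    rw [htop, Subgroup.index_top] at hcard
    haveI : Finite {χ : IrrCharacter G // (χ : G → ℂ) 1 = 1} := inferInstance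
    have hsub := (Nat.card_eq_one_iff_unique.mp hcard).1
    have := hsub.elim (⟨χ, h1⟩ : {χ : IrrCharacter G // (χ : G → ℂ) 1 = 1})
      ⟨trivIrr G, trivIrr_apply 1⟩
    exact hχ (congrArg Subtype.val this)

theorem index_comm_eq_two (lam : IrrCharacter G) (hl : lam ≠ trivIrr G)
    (hl1 : (lam : G → ℂ) 1 = 1)
    (huniq : ∀ χ : IrrCharacter G, χ ≠ trivIrr G → (χ : G → ℂ) 1 = 1 → χ = lam) :
    (commutator G).index = 2 := by
  rw [← card_linear_irr (G := G), Nat.card_eq_two_iff]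
  refine ⟨⟨trivIrr G, trivIrr_apply 1⟩, ⟨lam, hl1⟩, ?_, ?_⟩
  · intro h; exact hl (congrArg Subtype.val h).symm
  · ext χ
    simp only [Set.mem_insert_iff, Set.mem_singleton_iff, Set.mem_univ, iff_true]
    by_cases h : χ.1 = trivIrr G
    · left; exact Subtype.ext h
    · right; exact Subtype.ext (huniq χ.1 h χ.2)

theorem of_card_centralizer (u : G) (hu : u ≠ 1)
    (h2 : Nat.card (Subgroup.centralizer ({u} : Set G)) = 2) :
    orderOf u = 2 ∧ Subgroup.centralizer ({u} : Set G) = Subgroup.zpowers u := by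
  have hle : Subgroup.zpowers u ≤ Subgroup.centralizer ({u} : Set G) := by
    rw [Subgroup.zpowers_le]
    exact Subgroup.mem_centralizer_singleton_iff.mpr rfl
  have hdvd : orderOf u ∣ 2 := by
    rw [← h2, ← Nat.card_zpowers]
    exact Subgroup.card_dvd_of_le hle
  have hne1 : orderOf u ≠ 1 := fun h => hu (orderOf_eq_one_iff.mp h)
  have ho : orderOf u = 2 := by
    rcases (Nat.dvd_prime Nat.prime_two).mp hdvd with h | h
    · exact absurd h hne1
    · exact h
  refine ⟨ho, (Subgroup.eq_of_le_of_card_ge hle ?_).symm⟩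
  rw [h2, Nat.card_zpowers, ho]

theorem not_four_dvd (u : G) (ho : orderOf u = 2)
    (hc : Subgroup.centralizer ({u} : Set G) = Subgroup.zpowers u) : ¬ 4 ∣ Nat.card G := by
  intro h4
  haveI : Fact (Nat.Prime 2) := ⟨Nat.prime_two⟩
  have hu : u ≠ 1 := by
    intro h; rw [h, orderOf_one] at ho; omega
  have hz : IsPGroup 2 (Subgroup.zpowers u) := by
    apply IsPGroup.of_card (n := 1)
    rw [Nat.card_zpowers, ho, pow_one]
  obtain ⟨P, hP⟩ := hz.exists_le_sylow
  have huP : u ∈ (P : Subgroup G) := hP (Subgroup.mem_zpowers u)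
  haveI : Nontrivial (P : Subgroup G) :=
    ⟨⟨⟨u, huP⟩, 1, fun h => hu (congrArg Subtype.val h)⟩⟩
  haveI := P.isPGroup'.center_nontrivial
  obtain ⟨z, hz1⟩ := exists_ne (1 : Subgroup.center (P : Subgroup G))
  have hzc : ((z : (P : Subgroup G)) : G) ∈ Subgroup.centralizer ({u} : Set G) := by
    rw [Subgroup.mem_centralizer_singleton_iff]
    have := Subgroup.mem_center_iff.mp z.2 ⟨u, huP⟩
    have h' := congrArg Subtype.val this
    simpa using h'.symm
  rw [hc, Subgroup.mem_zpowers_iff] at hzc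
  obtain ⟨k, hk⟩ := hzc
  have hk2 : u ^ (k % 2) = u ^ k := by
    have := zpow_mod_orderOf u k
    rwa [ho] at this
  have hzu : ((z : (P : Subgroup G)) : G) = u := by
    rcases Int.emod_two_eq_zero_or_one k with h | h
    · exfalso
      rw [h, zpow_zero] at hk2
      apply hz1
      apply Subtype.ext; apply Subtype.ext
      rw [← hk, ← hk2]; rfl
    · rw [h, zpow_one] at hk2
      rw [← hk, ← hk2]
  have hPle : (P : Subgroup G) ≤ Subgroup.centralizer ({u} : Set G) := by
    intro x hx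
    rw [Subgroup.mem_centralizer_singleton_iff]
    have := Subgroup.mem_center_iff.mp z.2 ⟨x, hx⟩
    have h' := congrArg Subtype.val this
    simp only [Subgroup.coe_mul] at h'
    rw [hzu] at h'
    exact h'
  have hcardP : Nat.card (P : Subgroup G) ≤ 2 := by
    have := Subgroup.card_le_of_le hPle
    rwa [hc, Nat.card_zpowers, ho] at this
  have hPc := P.card_eq_multiplicity
  have hfac : 2 ≤ (Nat.card G).factorization 2 := by
    have h4' : 2 ^ 2 ∣ Nat.card G := by norm_num; exact h4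
    exact (Nat.Prime.pow_dvd_iff_le_factorization Nat.prime_two Nat.card_pos.ne').mp h4'
  have : 2 ^ 2 ≤ Nat.card (P : Subgroup G) := by
    rw [hPc]; exact Nat.pow_le_pow_right (by norm_num) hfac
  omega


theorem comm_ne_top_of_struct (u : G) (ho : orderOf u = 2)
    (hsup : Subgroup.zpowers u ⊔ Cfsg.oddCore G = ⊤) : commutator G ≠ ⊤ := by
  intro htop
  have hle : commutator G ≤ Cfsg.oddCore G := by
    rw [commutator_def, Subgroup.commutator_le]
    intro a _ b _
    have hpow : ∀ g : G, ∃ k : ℤ, (QuotientGroup.mk' (Cfsg.oddCore G)) g =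
        ((QuotientGroup.mk' (Cfsg.oddCore G)) u) ^ k := by
      intro g
      have hg : g ∈ Subgroup.zpowers u ⊔ Cfsg.oddCore G := by rw [hsup]; trivial
      obtain ⟨y, hy, z, hz, rfl⟩ := Subgroup.mem_sup_of_normal_right.mp hg
      obtain ⟨k, rfl⟩ := Subgroup.mem_zpowers_iff.mp hy
      refine ⟨k, ?_⟩
      rw [map_mul, map_zpow]
      have : (QuotientGroup.mk' (Cfsg.oddCore G)) z = 1 := by
        rw [QuotientGroup.mk'_apply, QuotientGroup.eq_one_iff]; exact hz
      rw [this, mul_one]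
    obtain ⟨k, hk⟩ := hpow a
    obtain ⟨l, hl⟩ := hpow b
    have : (QuotientGroup.mk' (Cfsg.oddCore G)) ⁅a, b⁆ = 1 := by
      rw [map_commutatorElement, hk, hl, commutatorElement_eq_one_iff_commute]
      exact (Commute.refl _).zpow_zpow k l
    rw [QuotientGroup.mk'_apply, QuotientGroup.eq_one_iff] at this
    exact this
  have hu : u ∈ Cfsg.oddCore G := by
    apply hle; rw [htop]; trivial
  have hdvd : 2 ∣ Nat.card (Cfsg.oddCore G) := by
    rw [← ho]; exact Subgroup.orderOf_dvd_natCard _ hu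
  haveI : Fact (Nat.Prime 2) := ⟨Nat.prime_two⟩
  have hcop := pPrimeCore_card_coprime 2 G
  have : (2 : ℕ) ∣ 1 := by
    have := Nat.dvd_gcd hdvd (dvd_refl 2)
    rwa [hcop] at this
  omega

end helpers


/-- Let u ≠ 1 be an element of the finite group G and c a complex number such that every non-principal irreducible character χ satisfies χ(1) − χ(u) = c or χ(u) = 0. Then the following are equivalent: (a) u has order 2, G is generated by u together with O(G), the largest normal subgroup of G of odd order, and the centralizer of u is {1, u}; (b) G is not perfect; (c) c = 2. -/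
theorem result {G : Type*} [Group G] [Finite G] (u : G) (hu : u ≠ 1) (c : ℂ) (hyp : ∀ χ : Cfsg.IrrCharacter G, (χ : G → ℂ) ≠ (fun _ => (1 : ℂ)) → ((χ : G → ℂ) 1 - (χ : G → ℂ) u = c ∨ (χ : G → ℂ) u = 0)) : ((orderOf u = 2 ∧ Subgroup.zpowers u ⊔ Cfsg.oddCore G = ⊤ ∧ Subgroup.centralizer ({u} : Set G) = Subgroup.zpowers u) ↔ commutator G ≠ ⊤) ∧ (commutator G ≠ ⊤ ↔ c = 2) := by
  classical
  haveI : Fintype G := Fintype.ofFinite G
  haveI : Fintype (IrrCharacter G) := Fintype.ofFinite _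
  have hyp' : ∀ χ : IrrCharacter G, χ ≠ trivIrr G →
      ((χ : G → ℂ) 1 - (χ : G → ℂ) u = c ∨ (χ : G → ℂ) u = 0) := by
    intro χ hχ
    exact hyp χ (fun h => hχ (Subtype.ext h))
  -- (b) ↔ (c)
  have hbc : commutator G ≠ ⊤ ↔ c = 2 := by
    constructor
    · intro hne
      obtain ⟨lam, hl, hl1⟩ := comm_ne_top_iff.mp hne
      exact (c_eq_two u hu c hyp' lam hl hl1).1
    · intro hc
      subst hc
      exact comm_ne_top_iff.mpr (exists_linear_of_two u hu hyp')
  refine ⟨⟨?_, ?_⟩, hbc⟩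
  · rintro ⟨ho, hsup, -⟩
    exact comm_ne_top_of_struct u ho hsup
  · intro hne
    have hc := hbc.mp hne
    subst hc
    obtain ⟨lam, hl, hl1⟩ := comm_ne_top_iff.mp hne
    have hcard := card_centralizer_eq_two u hu hyp' lam hl hl1
    obtain ⟨ho, hcent⟩ := of_card_centralizer u hu hcard
    refine ⟨ho, ?_, hcent⟩
    have hidx : (commutator G).index = 2 :=
      index_comm_eq_two lam hl hl1
        (fun χ hχ h1 => linear_unique u hu hyp' χ lam hχ hl h1 hl1)
    have hlu := (c_eq_two u hu 2 hyp' lam hl hl1).2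
    have hunot : u ∉ commutator G := by
      intro hmem
      have := irr_linear_mul_commutator lam hl1 1 u hmem
      rw [one_mul, hlu, hl1] at this
      norm_num at this
    have h4 := not_four_dvd u ho hcent
    have hodd : (Nat.card (commutator G)).Coprime 2 := by
      rw [Nat.coprime_comm, Nat.Prime.coprime_iff_not_dvd Nat.prime_two]
      intro h2
      apply h4
      rw [← Subgroup.card_mul_index (commutator G), hidx]
      exact Nat.mul_dvd_mul h2 (dvd_refl 2)
    have hle : commutator G ≤ Cfsg.oddCore G := le_sSup ⟨inferInstance, hodd⟩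
    rw [eq_top_iff]
    intro g _
    by_cases hg : g ∈ commutator G
    · exact Subgroup.mem_sup_right (hle hg)
    · have hmem : u⁻¹ * g ∈ commutator G := by
        rw [Subgroup.mul_mem_iff_of_index_two hidx, inv_mem_iff]
        exact ⟨fun h => absurd h hunot, fun h => absurd h hg⟩
      have : g = u * (u⁻¹ * g) := by group
      rw [this]
      exact Subgroup.mul_mem_sup (Subgroup.mem_zpowers u) (hle hmem)

end Cfsg.Agent.S4757
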