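import Cfsg.Statements.S4765
import Cfsg.Agent.Helper12.PSL2Char

set_option autoImplicit false
open Cfsg Cfsg.Agent.Helper12 Cfsg.Agent.Helper8

namespace Cfsg.Agent.S4765

/-- Let F be a finite field of characteristic p with at least 4 elements. Then PSL(2,F) has exactly one irreducible complex character of degree divisible by p, and its degree is the order of F. -/
theorem result (p : ℕ) [Fact p.Prime] (F : Type*) [Field F] [Fintype F] [CharP F p] (hF : 4 ≤ Fintype.card F) : Nat.card {χ : Cfsg.IrrCharacter (Matrix.ProjectiveSpecialLinearGroup (Fin 2) F) // p ∣ Cfsg.charDegree (χ : Matrix.ProjectiveSpecialLinearGroup (Fin 2) F → ℂ)} = 1 ∧ ∀ χ : Cfsg.IrrCharacter (Matrix.ProjectiveSpecialLinearGroup (Fin 2) F), p ∣ Cfsg.charDegree (χ : Matrix.ProjectiveSpecialLinearGroup (Fin 2) F → ℂ) → Cfsg.charDegree (χ : Matrix.ProjectiveSpecialLinearGroup (Fin 2) F → ℂ) = Fintype.card F := by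
  classical
  have hp : p.Prime := Fact.out
  obtain ⟨n, _, hn⟩ := FiniteField.card F p
  have hpq : p ∣ Fintype.card F := by
    rw [hn]; exact dvd_pow_self p n.ne_zero
  set π := QuotientGroup.mk' (Subgroup.center (Matrix.SpecialLinearGroup (Fin 2) F)) with hπ
  have hsurj : Function.Surjective π := QuotientGroup.mk'_surjective _
  -- inflation
  have hinfl : ∀ χ : Cfsg.IrrCharacter (Matrix.ProjectiveSpecialLinearGroup (Fin 2) F),
      p ∣ Cfsg.charDegree (χ : Matrix.ProjectiveSpecialLinearGroup (Fin 2) F → ℂ) →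
      (fun g => (χ : Matrix.ProjectiveSpecialLinearGroup (Fin 2) F → ℂ) (π g)) =
        (stS (F := F) : Matrix.SpecialLinearGroup (Fin 2) F → ℂ) := by
    intro χ hχ
    apply eq_stS_of_dvd_degree p hF _ (isIrrCharacter_comp_surjective π hsurj χ.2)
    have : Cfsg.charDegree (fun g => (χ : Matrix.ProjectiveSpecialLinearGroup (Fin 2) F → ℂ) (π g)) =
        Cfsg.charDegree (χ : Matrix.ProjectiveSpecialLinearGroup (Fin 2) F → ℂ) := by
      unfold Cfsg.charDegree
      show ⌊((χ : Matrix.ProjectiveSpecialLinearGroup (Fin 2) F → ℂ) (π 1)).re⌋₊ = _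
      rw [map_one]
    rw [this]
    exact hχ
  have hdeg : ∀ χ : Cfsg.IrrCharacter (Matrix.ProjectiveSpecialLinearGroup (Fin 2) F),
      p ∣ Cfsg.charDegree (χ : Matrix.ProjectiveSpecialLinearGroup (Fin 2) F → ℂ) →
      Cfsg.charDegree (χ : Matrix.ProjectiveSpecialLinearGroup (Fin 2) F → ℂ) = Fintype.card F := by
    intro χ hχ
    apply charDegree_of_natCast
    have h1 : (χ : Matrix.ProjectiveSpecialLinearGroup (Fin 2) F → ℂ) (π 1) = _ :=
      congrFun (hinfl χ hχ) 1
    rw [map_one] at h1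
    rw [h1, stS_one]
  refine ⟨?_, hdeg⟩
  rw [Nat.card_eq_one_iff_unique]
  constructor
  · constructor
    rintro ⟨χ₁, h1⟩ ⟨χ₂, h2⟩
    apply Subtype.ext
    apply Subtype.ext
    funext x
    obtain ⟨g, rfl⟩ := hsurj x
    have e1 : (χ₁ : Matrix.ProjectiveSpecialLinearGroup (Fin 2) F → ℂ) (π g) = _ :=
      congrFun (hinfl χ₁ h1) g
    have e2 : (χ₂ : Matrix.ProjectiveSpecialLinearGroup (Fin 2) F → ℂ) (π g) = _ :=
      congrFun (hinfl χ₂ h2) g
    rw [e1, e2]
  · obtain ⟨ψ, hψ⟩ := exists_irr_quotient' (Subgroup.center (Matrix.SpecialLinearGroup (Fin 2) F))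
      (stS (F := F)) (fun z hz => stS_central z hz)
    refine ⟨⟨ψ, ?_⟩⟩
    have h1 : (ψ : Matrix.ProjectiveSpecialLinearGroup (Fin 2) F → ℂ) 1 = (Fintype.card F : ℂ) := by
      have := hψ 1
      rw [map_one, stS_one] at this
      exact this
    rw [charDegree_of_natCast h1]
    exact hpq

end Cfsg.Agent.S4765
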