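import Cfsg.Statements.S4774
import Cfsg.Agent.Helper12.DegreeGraphSL2

set_option autoImplicit false
open Cfsg Cfsg.Agent.Helper12

namespace Cfsg.Agent.S4774

/-- Let F be a finite field of odd characteristic t with q > 5 elements and let S be isomorphic to PSL(2,F) or to SL(2,F). Then the vertices of the character degree graph of S are the primes dividing q(q²−1); the prime t is adjacent to no vertex; two distinct primes dividing q² − 1 are adjacent exactly when one of them is 2, or both divide q + 1, or both divide q − 1. -/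
theorem result (F : Type*) [Field F] [Fintype F] (t : ℕ) [Fact t.Prime] [CharP F t] (ht : t ≠ 2) (q : ℕ) (hq : Fintype.card F = q) (h5 : 5 < q) {S : Type*} [Group S] [Finite S] (hS : Nonempty (S ≃* Matrix.ProjectiveSpecialLinearGroup (Fin 2) F) ∨ Nonempty (S ≃* Matrix.SpecialLinearGroup (Fin 2) F)) : Cfsg.degreePrimes S = {r : ℕ | r.Prime ∧ r ∣ q * (q ^ 2 - 1)} ∧ ∀ r s : ℕ, (Cfsg.degreeGraph S).Adj r s ↔ (r ≠ s ∧ r.Prime ∧ s.Prime ∧ r ∣ q ^ 2 - 1 ∧ s ∣ q ^ 2 - 1 ∧ (r = 2 ∨ s = 2 ∨ (r ∣ q + 1 ∧ s ∣ q + 1) ∨ (r ∣ q - 1 ∧ s ∣ q - 1))) := by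
  classical
  have ht' : t.Prime := Fact.out
  obtain ⟨n, _, hn⟩ := FiniteField.card F t
  rw [hq] at hn
  have hchar : ringChar F ≠ 2 := by rw [ringChar.eq F t]; exact ht
  have hodd : Odd q := by
    rw [← hq]; exact Nat.odd_iff.2 (FiniteField.odd_card_of_char_ne_two hchar)
  have hD : Cfsg.charDegrees (Matrix.ProjectiveSpecialLinearGroup (Fin 2) F) ⊆ Cfsg.charDegrees S ∧
      Cfsg.charDegrees S ⊆ Cfsg.charDegrees (Matrix.SpecialLinearGroup (Fin 2) F) := by
    rcases hS with ⟨⟨e⟩⟩ | ⟨⟨e⟩⟩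
    · rw [charDegrees_eq_of_mulEquiv e]; exact ⟨le_rfl, charDegrees_psl2_subset⟩
    · rw [charDegrees_eq_of_mulEquiv e]; exact ⟨charDegrees_psl2_subset, le_rfl⟩
  have hsub : ∀ d ∈ Cfsg.charDegrees S, d = 1 ∨ d = q ∨ d = q + 1 ∨ d = q - 1 ∨
      2 * d = q + 1 ∨ 2 * d = q - 1 := by
    intro d hd
    have := charDegrees_sl2_cases (F := F) (by omega) d (hD.2 hd)
    rw [hq] at this
    exact this
  have h1 : q ∈ Cfsg.charDegrees S := by
    apply hD.1; rw [← hq]; exact card_mem_charDegrees_psl2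
  have h2 : q + 1 ∈ Cfsg.charDegrees S := by
    apply hD.1; rw [← hq]; exact card_add_one_mem_charDegrees_psl2 (by omega)
  have h3 : q - 1 ∈ Cfsg.charDegrees S := by
    apply hD.1; rw [← hq]
    exact card_sub_one_mem_charDegrees_psl2 (by rw [hq]; exact hodd) (by omega)
  refine ⟨primes_of_degree_set _ q hsub h1 h2 h3, ?_⟩
  intro r s
  rw [degreeGraph_adj_iff]
  exact adj_iff_of_degree_set_odd _ q t n ht' hn hodd hsub h2 h3 r s

end Cfsg.Agent.S4774
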