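import Cfsg.Statements.S4775
import Cfsg.Agent.Helper12.SZTTable
import Cfsg.Agent.Helper11.SZTINST
import Cfsg.Agent.Helper11.SzBridge
import Cfsg.Agent.Helper20.SZTGRAPH
import Cfsg.Agent.Helper12.DegreeGraphArith

set_option autoImplicit false
open Cfsg

namespace Cfsg.Agent.S4775

/-- transport of the set of character degrees along an isomorphism -/
theorem charDegrees_congr {S S' : Type*} [Group S] [Group S'] (e : S ≃* S') :
    charDegrees S = charDegrees S' := by
  apply Set.Subset.antisymm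
  · exact Cfsg.Agent.Helper12.charDegrees_subset_of_surjective e.symm.toMonoidHom e.symm.surjective
  · exact Cfsg.Agent.Helper12.charDegrees_subset_of_surjective e.toMonoidHom e.surjective

/-- Let F be a finite field with q = 2^(2m+1) ≥ 8 elements and let S be isomorphic to the Suzuki group over F. Then the vertices of the character degree graph of S are 2 and the primes dividing (q − 1)(q² + 1); the primes dividing (q − 1)(q² + 1) are pairwise adjacent, and 2 is adjacent exactly to the primes dividing q − 1. -/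
theorem result (F : Type*) [Field F] [Fintype F] (m : ℕ) (hm : 1 ≤ m) (q : ℕ) (hq : Fintype.card F = q) (hqm : q = 2 ^ (2 * m + 1)) {S : Type*} [Group S] [Finite S] (hS : Nonempty (S ≃* ↥(Cfsg.Lie.Sz F (2 ^ (m + 1))))) : Cfsg.degreePrimes S = {r : ℕ | r.Prime ∧ (r = 2 ∨ r ∣ (q - 1) * (q ^ 2 + 1))} ∧ ∀ r s : ℕ, (Cfsg.degreeGraph S).Adj r s ↔ (r ≠ s ∧ r.Prime ∧ s.Prime ∧ ((r ∣ (q - 1) * (q ^ 2 + 1) ∧ s ∣ (q - 1) * (q ^ 2 + 1)) ∨ (r = 2 ∧ s ∣ q - 1) ∨ (s = 2 ∧ r ∣ q - 1))) := by
  obtain ⟨e₁⟩ := hS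
  have hF : Fintype.card F = 2 ^ (2 * m + 1) := by rw [hq, hqm]
  obtain ⟨_, C, hCq, hCr⟩ := Cfsg.Agent.SZT.exists_cfg hF hm
  let e := Cfsg.Agent.Helper11.SzBridge.szEquiv hF hm
  apply Cfsg.Agent.SZT.degreeGraph_of_charDegrees m hm q hqm
  rw [charDegrees_congr (e₁.trans e.symm), C.charDegrees_eq, hCr, hCq, ← hqm]

end Cfsg.Agent.S4775
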