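import Cfsg.Statements.S4843
import Cfsg.Agent.Helper5.GalProdC
import Cfsg.Agent.Helper7.Fitting

set_option autoImplicit false
open Cfsg

namespace Cfsg.Agent.S4843

/-- Let G be a finite group with a faithful irreducible character χ (taking the value χ(1) only at the identity) and let k be prime to the order of G, so that g ↦ χ(g^k) is a Galois conjugate of χ. If the pointwise product g ↦ χ(g)·χ(g^k) is again an irreducible character, then the Fitting subgroup of G equals its centre. -/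
theorem result {G : Type*} [Group G] [Finite G] (χ : Cfsg.IrrCharacter G) (hfaith : ∀ g : G, (χ : G → ℂ) g = (χ : G → ℂ) 1 → g = 1) (k : ℕ) (hk : Nat.Coprime k (Nat.card G)) (hirr : Cfsg.IsIrrCharacter G (fun g => (χ : G → ℂ) g * (χ : G → ℂ) (g ^ k))) : Cfsg.fittingSubgroup G = Subgroup.center G := by
  classical
  obtain ⟨n, ρ, hρ, hχ⟩ := χ.2
  haveI := hρ
  have hfaith' : ∀ g : G, ρ.character g = ρ.character 1 → g = 1 := by
    intro g hg
    rw [hχ] at hg
    exact hfaith g hg
  have hirr' : Cfsg.IsIrrCharacter G (fun g => ρ.character g * ρ.character (g ^ k)) := by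
    rw [hχ]; exact hirr
  set Z := Subgroup.center G with hZ
  set F := Cfsg.fittingSubgroup G with hF
  haveI hFn : F.Normal := Cfsg.Agent.Helper7.fittingSubgroup_normal G
  have hFnil : Group.IsNilpotent F := Cfsg.Agent.Helper7.fittingSubgroup_isNilpotent
  -- the subgroup `E` of elements of `F` commuting with `F` modulo the centre
  let E : Subgroup G :=
    { carrier := {x | x ∈ F ∧ ∀ y ∈ F, x * y * x⁻¹ * y⁻¹ ∈ Z}
      one_mem' := ⟨F.one_mem, fun y _ => by simp [Z.one_mem]⟩
      mul_mem' := by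
        rintro a b ⟨ha, ha'⟩ ⟨hb, hb'⟩
        refine ⟨F.mul_mem ha hb, fun y hy => ?_⟩
        have e : a * b * y * (a * b)⁻¹ * y⁻¹ =
            (a * (b * y * b⁻¹ * y⁻¹) * a⁻¹) * (a * y * a⁻¹ * y⁻¹) := by group
        rw [e]
        exact Z.mul_mem (Subgroup.Normal.conj_mem inferInstance _ (hb' y hy) a) (ha' y hy)
      inv_mem' := by
        rintro a ⟨ha, ha'⟩
        refine ⟨F.inv_mem ha, fun y hy => ?_⟩
        have e : a⁻¹ * y * a⁻¹⁻¹ * y⁻¹ = a⁻¹ * (a * y * a⁻¹ * y⁻¹)⁻¹ * a⁻¹⁻¹ := by group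
        rw [e]
        exact Subgroup.Normal.conj_mem inferInstance _ (Z.inv_mem (ha' y hy)) a⁻¹ }
  have hEmem : ∀ x : G, x ∈ E ↔ x ∈ F ∧ ∀ y ∈ F, x * y * x⁻¹ * y⁻¹ ∈ Z := fun x => Iff.rfl
  haveI hEn : E.Normal := by
    constructor
    intro x hx g
    rw [hEmem] at hx ⊢
    refine ⟨hFn.conj_mem x hx.1 g, fun y hy => ?_⟩
    have hy' : g⁻¹ * y * g ∈ F := by
      have := hFn.conj_mem y hy g⁻¹
      rwa [inv_inv] at this
    have e : g * x * g⁻¹ * y * (g * x * g⁻¹)⁻¹ * y⁻¹ =
        g * (x * (g⁻¹ * y * g) * x⁻¹ * (g⁻¹ * y * g)⁻¹) * g⁻¹ := by group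
    rw [e]
    exact Subgroup.Normal.conj_mem inferInstance _ (hx.2 _ hy') g
  have hEZ : E ≤ Z :=
    Cfsg.Agent.Helper5.GalProd.normal_le_center ρ hfaith' k hk hirr' E
      (fun x hx y hy => ((hEmem x).mp hx).2 y ((hEmem y).mp hy).1)
  -- induction along the upper central series of `F`
  have hind : ∀ i : ℕ, ∀ x : F, x ∈ Subgroup.upperCentralSeries F i → (x : G) ∈ Z := by
    intro i
    induction i with
    | zero =>
      intro x hx
      rw [Subgroup.upperCentralSeries_zero, Subgroup.mem_bot] at hx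
      rw [hx]
      exact Z.one_mem
    | succ i ih =>
      intro x hx
      rw [Subgroup.mem_upperCentralSeries_succ_iff] at hx
      apply hEZ
      rw [hEmem]
      refine ⟨x.2, fun y hy => ?_⟩
      exact ih _ (hx ⟨y, hy⟩)
  apply le_antisymm
  · intro x hx
    obtain ⟨c, hc⟩ := hFnil.nilpotent'
    have := hind c ⟨x, hx⟩ (by rw [hc]; exact Subgroup.mem_top _)
    exact this
  · have hZnil : Group.IsNilpotent Z :=
      ⟨1, Subgroup.upperCentralSeries_one_eq_top_iff.mpr inferInstance⟩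
    exact Cfsg.Agent.Helper7.le_fittingSubgroup inferInstance hZnil

end Cfsg.Agent.S4843
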