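import Cfsg.Statements.S4862
import Cfsg.Agent.Helper29.RealPPrimeA
import Cfsg.Agent.Helper29.PPrimeKerA
import Cfsg.Agent.Helper24.Codegree
-- import your own Cfsg.Agent.* helpers here

set_option autoImplicit false
open Cfsg

namespace Cfsg.Agent.S4862

/-- Let p be an odd prime and G a finite group such that the subgroup generated by the p-elements of G is solvable and every real-valued irreducible complex character of G has degree prime to p. Let K be the subgroup generated by the 2-elements of G and P a Sylow p-subgroup of G. Then every normal subgroup M of G contained in K and in the derived subgroup of P is centralized by K. -/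
theorem result {G : Type*} [Group G] [Finite G] (p : ℕ) [Fact p.Prime] (hp : p ≠ 2) (hsolv : Group.IsSolvable ↥(Subgroup.closure {g : G | ∃ k : ℕ, orderOf g = p ^ k})) (hreal : ∀ χ : Cfsg.IrrCharacter G, (∀ g : G, ((χ : G → ℂ) g).im = 0) → ¬ p ∣ Cfsg.charDegree (χ : G → ℂ)) (P : Sylow p G) (M : Subgroup G) (hM : M.Normal) (hMK : M ≤ (Subgroup.closure {g : G | ∃ k : ℕ, orderOf g = 2 ^ k})) (hMP : M ≤ ⁅(P : Subgroup G), (P : Subgroup G)⁆) : (Subgroup.closure {g : G | ∃ k : ℕ, orderOf g = 2 ^ k}) ≤ Subgroup.centralizer (M : Set G) := by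
  classical
  haveI : Fintype G := Fintype.ofFinite G
  haveI := hM
  have hPP : ⁅(P : Subgroup G), (P : Subgroup G)⁆ ≤ (P : Subgroup G) := by
    rw [Subgroup.commutator_le]
    intro a ha b hb
    rw [commutatorElement_def]
    exact Subgroup.mul_mem _ (Subgroup.mul_mem _ (Subgroup.mul_mem _ ha hb) (Subgroup.inv_mem _ ha))
      (Subgroup.inv_mem _ hb)
  have hMp : IsPGroup p M := P.2.to_le (hMP.trans hPP)
  have hodd : Odd (Nat.card M) := by
    obtain ⟨n, hn⟩ := IsPGroup.iff_card.mp hMp
    rw [hn]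
    exact ((Fact.out : p.Prime).odd_of_ne_two hp).pow
  have hker : ∀ χ : Cfsg.IrrCharacter G, (∀ g : G, ((χ : G → ℂ) g).im = 0) →
      ∀ m ∈ M, (χ : G → ℂ) m = (χ : G → ℂ) 1 := by
    intro χ hχ m hm
    have hdeg : ¬ p ∣ Cfsg.Agent.Helper24.irrDeg χ := by
      rw [← Cfsg.Agent.Helper24.charDegree_irr]
      exact hreal χ hχ
    refine Cfsg.Agent.Helper29.PPK.apply_eq_of_mem_core (P : Subgroup G) P.2 ⊥ (by simp) χ hdeg m ?_
    exact Subgroup.normal_le_normalCore.mpr (hMP.trans le_sup_right) hm
  exact Cfsg.Agent.Helper29.RealPP.closure_two_le_centralizer M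
    (fun m hm hr => Cfsg.Agent.Helper29.RealPP.eq_one_of_real_of_le_real_kernels M hodd hker m hm hr)

end Cfsg.Agent.S4862
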