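import Cfsg.Statements.S4865
import Cfsg.Agent.Helper29.RealBijD
import Cfsg.Agent.Helper24.Codegree
-- import your own Cfsg.Agent.* helpers here

set_option autoImplicit false
open Cfsg

namespace Cfsg.Agent.S4865

/-- Let p be a prime and G a finite group such that the subgroup generated by the p-elements of G is solvable and every real-valued irreducible complex character of G has degree prime to p. Let N be the normalizer of a Sylow p-subgroup of G. Then there is a bijection from the real-valued irreducible characters of G onto the real-valued irreducible characters of N of degree prime to p under which corresponding degrees are congruent modulo p up to sign. -/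
theorem result {G : Type*} [Group G] [Finite G] (p : ℕ) [Fact p.Prime] (hsolv : Group.IsSolvable ↥(Subgroup.closure {g : G | ∃ k : ℕ, orderOf g = p ^ k})) (hreal : ∀ χ : Cfsg.IrrCharacter G, (∀ g : G, ((χ : G → ℂ) g).im = 0) → ¬ p ∣ Cfsg.charDegree (χ : G → ℂ)) (P : Sylow p G) : ∃ f : {χ : Cfsg.IrrCharacter G // ∀ g : G, ((χ : G → ℂ) g).im = 0} → {ξ : Cfsg.IrrCharacter ↥(Subgroup.normalizer ((P : Subgroup G) : Set G)) // (∀ n, ((ξ : ↥(Subgroup.normalizer ((P : Subgroup G) : Set G)) → ℂ) n).im = 0) ∧ ¬ p ∣ Cfsg.charDegree (ξ : ↥(Subgroup.normalizer ((P : Subgroup G) : Set G)) → ℂ)}, Function.Bijective f ∧ ∀ χ, ((Cfsg.charDegree ((f χ).1 : ↥(Subgroup.normalizer ((P : Subgroup G) : Set G)) → ℂ) : ZMod p) = (Cfsg.charDegree (χ.1 : G → ℂ) : ZMod p) ∨ (Cfsg.charDegree ((f χ).1 : ↥(Subgroup.normalizer ((P : Subgroup G) : Set G)) → ℂ) : ZMod p) = -(Cfsg.charDegree (χ.1 : G → ℂ) : ZMod p)) := by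
  classical
  have hreal' : ∀ χ : Cfsg.IrrCharacter G, (∀ g : G, ((χ : G → ℂ) g).im = 0) →
      ¬ p ∣ Cfsg.Agent.Helper24.irrDeg χ := by
    intro χ hχ
    rw [← Cfsg.Agent.Helper24.charDegree_irr]
    exact hreal χ hχ
  obtain ⟨f₀, hbij, hdeg⟩ := Cfsg.Agent.Helper29.RealBij.real_bijection_top (p := p) hsolv hreal' P
  obtain ⟨e, he⟩ : ∃ e : ↥(⊤ : Subgroup G) ≃* G, e = Subgroup.topEquiv := ⟨_, rfl⟩
  have hrl : ∀ χ : {χ : Cfsg.IrrCharacter G // ∀ g : G, ((χ : G → ℂ) g).im = 0},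
      ∀ g : (⊤ : Subgroup G),
        ((Cfsg.Agent.Helper24.pullIrr e χ.1 : (⊤ : Subgroup G) → ℂ) g).im = 0 := by
    intro χ g
    rw [Cfsg.Agent.Helper24.pullIrr_apply]
    exact χ.2 _
  refine ⟨fun χ => ⟨(f₀ ⟨Cfsg.Agent.Helper24.pullIrr e χ.1, hrl χ⟩).1,
    (f₀ ⟨Cfsg.Agent.Helper24.pullIrr e χ.1, hrl χ⟩).2.1, by
      rw [Cfsg.Agent.Helper24.charDegree_irr]
      exact (f₀ ⟨Cfsg.Agent.Helper24.pullIrr e χ.1, hrl χ⟩).2.2⟩, ⟨?_, ?_⟩, ?_⟩
  · intro χ χ' h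
    have h1 : (f₀ ⟨Cfsg.Agent.Helper24.pullIrr e χ.1, hrl χ⟩).1 =
        (f₀ ⟨Cfsg.Agent.Helper24.pullIrr e χ'.1, hrl χ'⟩).1 := by
      have := congrArg Subtype.val h
      exact this
    have h2 := hbij.1 (Subtype.ext h1)
    have h3 : Cfsg.Agent.Helper24.pullIrr e χ.1 = Cfsg.Agent.Helper24.pullIrr e χ'.1 :=
      congrArg Subtype.val h2
    exact Subtype.ext (Cfsg.Agent.Helper24.pullIrr_injective e h3)
  · intro ξ
    obtain ⟨χ', hχ'⟩ := hbij.2 ⟨ξ.1, ξ.2.1, by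
      rw [← Cfsg.Agent.Helper24.charDegree_irr]; exact ξ.2.2⟩
    have hreal₂ : ∀ g : G, ((Cfsg.Agent.Helper24.pullIrr e.symm χ'.1 : G → ℂ) g).im = 0 := by
      intro g
      rw [Cfsg.Agent.Helper24.pullIrr_apply]
      exact χ'.2 _
    refine ⟨⟨Cfsg.Agent.Helper24.pullIrr e.symm χ'.1, hreal₂⟩, ?_⟩
    apply Subtype.ext
    have h1 : (⟨Cfsg.Agent.Helper24.pullIrr e
        (Cfsg.Agent.Helper24.pullIrr e.symm χ'.1), hrl ⟨_, hreal₂⟩⟩ :
        {χ : Cfsg.IrrCharacter (⊤ : Subgroup G) //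
          ∀ g : (⊤ : Subgroup G), ((χ : (⊤ : Subgroup G) → ℂ) g).im = 0}) = χ' :=
      Subtype.ext (Cfsg.Agent.Helper24.pullIrr_symm e χ'.1)
    show (f₀ ⟨Cfsg.Agent.Helper24.pullIrr e
      (Cfsg.Agent.Helper24.pullIrr e.symm χ'.1), hrl ⟨_, hreal₂⟩⟩).1 = ξ.1
    rw [h1, hχ']
  · intro χ
    show ((Cfsg.charDegree ((f₀ ⟨Cfsg.Agent.Helper24.pullIrr e χ.1, hrl χ⟩).1 :
        ↥(Subgroup.normalizer ((P : Subgroup G) : Set G)) → ℂ) : ZMod p) = _ ∨ _)
    rw [Cfsg.Agent.Helper24.charDegree_irr, Cfsg.Agent.Helper24.charDegree_irr]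
    have h1 := hdeg ⟨Cfsg.Agent.Helper24.pullIrr e χ.1, hrl χ⟩
    have h2 : Cfsg.Agent.Helper24.irrDeg (Cfsg.Agent.Helper24.pullIrr e χ.1) =
        Cfsg.Agent.Helper24.irrDeg χ.1 := Cfsg.Agent.Helper29.RelGlaub.irrDeg_pullIrr e χ.1
    simp only at h1
    rw [h2] at h1
    rcases h1 with h | h
    · left
      have h3 := (ZMod.intCast_eq_intCast_iff _ _ p).mpr h
      push_cast at h3
      exact h3
    · right
      have h3 := (ZMod.intCast_eq_intCast_iff _ _ p).mpr h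
      push_cast at h3
      exact h3

end Cfsg.Agent.S4865
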