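import Cfsg.Statements.S4871
import Cfsg.Agent.Helper8.SR4

set_option autoImplicit false
open Cfsg

namespace Cfsg.Agent.S4871

/-- Let G be a finite group that is the semidirect product of a normal elementary abelian subgroup N of odd order by a non-trivial 2-subgroup P, with N the unique minimal normal subgroup of G. Consider the strongly real irreducible complex characters of G (Frobenius–Schur indicator +1) whose degree is 1 or even. Then their average degree is at least 4/3: four times their number is at most three times the sum of their degrees. -/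
theorem result {G : Type*} [Group G] [Finite G] (N P : Subgroup G) (hN : N.Normal) (q : ℕ) [Fact q.Prime] (hq : q ≠ 2) (hNel : Cfsg.IsElementaryAbelian q N) (hP : IsPGroup 2 ↥P) (hP1 : P ≠ ⊥) (hdisj : N ⊓ P = ⊥) (hprod : N ⊔ P = ⊤) (hmin : N ≠ ⊥ ∧ ∀ M : Subgroup G, M.Normal → M ≠ ⊥ → N ≤ M) : 4 * Nat.card {χ : Cfsg.IrrCharacter G // (Cfsg.charDegree (χ : G → ℂ) = 1 ∨ 2 ∣ Cfsg.charDegree (χ : G → ℂ)) ∧ (Nat.card G : ℂ)⁻¹ * ∑ᶠ g : G, (χ : G → ℂ) (g * g) = 1} ≤ 3 * (∑ᶠ χ : {χ : Cfsg.IrrCharacter G // (Cfsg.charDegree (χ : G → ℂ) = 1 ∨ 2 ∣ Cfsg.charDegree (χ : G → ℂ)) ∧ (Nat.card G : ℂ)⁻¹ * ∑ᶠ g : G, (χ : G → ℂ) (g * g) = 1}, Cfsg.charDegree (χ.1 : G → ℂ)) := by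
  classical
  haveI : Fintype G := Fintype.ofFinite G
  haveI : Fintype (Cfsg.IrrCharacter G) := Fintype.ofFinite _
  obtain ⟨d, hd2, hd, hcount⟩ :=
    Cfsg.Agent.Helper8.SR4.main N P hN q hq hNel hP hP1 hdisj hprod hmin
  have key : ∀ χ : Cfsg.IrrCharacter G,
      (Nat.card G : ℂ)⁻¹ * ∑ᶠ g : G, (χ : G → ℂ) (g * g) =
        Cfsg.Agent.Helper24.fsInd (χ : G → ℂ) := by
    intro χ
    rw [finsum_eq_sum_of_fintype]
    rfl
  have hpred : (fun χ : Cfsg.IrrCharacter G => (Cfsg.charDegree (χ : G → ℂ) = 1 ∨ 2 ∣ Cfsg.charDegree (χ : G → ℂ)) ∧ (Nat.card G : ℂ)⁻¹ * ∑ᶠ g : G, (χ : G → ℂ) (g * g) = 1) =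
      (fun χ : Cfsg.IrrCharacter G => (Cfsg.charDegree (χ : G → ℂ) = 1 ∨
        2 ∣ Cfsg.charDegree (χ : G → ℂ)) ∧ Cfsg.Agent.Helper24.fsInd (χ : G → ℂ) = 1) := by
    funext χ
    rw [key]
  rw [hpred]
  let S : Finset (Cfsg.IrrCharacter G) := Finset.univ.filter (fun χ =>
    (Cfsg.charDegree (χ : G → ℂ) = 1 ∨ 2 ∣ Cfsg.charDegree (χ : G → ℂ)) ∧
      Cfsg.Agent.Helper24.fsInd (χ : G → ℂ) = 1)
  have hSmem : ∀ χ, χ ∈ S ↔ (Cfsg.charDegree (χ : G → ℂ) = 1 ∨ 2 ∣ Cfsg.charDegree (χ : G → ℂ)) ∧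
      Cfsg.Agent.Helper24.fsInd (χ : G → ℂ) = 1 := by
    intro χ
    simp [S]
  have hpos : ∀ χ : Cfsg.IrrCharacter G, 0 < Cfsg.charDegree (χ : G → ℂ) := by
    intro χ
    rw [Cfsg.Agent.Helper24.charDegree_irr]
    exact Cfsg.Agent.Helper24.irrDeg_pos χ
  have hS : ∀ χ ∈ S, Cfsg.charDegree (χ : G → ℂ) = 1 ∨ 2 ≤ Cfsg.charDegree (χ : G → ℂ) := by
    intro χ hχ
    rcases ((hSmem χ).mp hχ).1 with h | h
    · exact Or.inl h
    · exact Or.inr (Nat.le_of_dvd (hpos χ) h)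
  have hA : (S.filter (fun χ : Cfsg.IrrCharacter G => Cfsg.charDegree (χ : G → ℂ) = 1)).card =
      Nat.card {χ : Cfsg.IrrCharacter G // Cfsg.charDegree (χ : G → ℂ) = 1 ∧
        Cfsg.Agent.Helper24.fsInd (χ : G → ℂ) = 1} := by
    rw [Nat.card_eq_fintype_card, Fintype.card_subtype]
    congr 1
    ext χ
    simp only [Finset.mem_filter, Finset.mem_univ, true_and, hSmem]
    tauto
  have hB : (S.filter (fun χ : Cfsg.IrrCharacter G => Cfsg.charDegree (χ : G → ℂ) = d)).card =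
      Nat.card {χ : Cfsg.IrrCharacter G // Cfsg.charDegree (χ : G → ℂ) = d ∧
        Cfsg.Agent.Helper24.fsInd (χ : G → ℂ) = 1} := by
    rw [Nat.card_eq_fintype_card, Fintype.card_subtype]
    congr 1
    ext χ
    simp only [Finset.mem_filter, Finset.mem_univ, true_and, hSmem]
    constructor
    · rintro ⟨⟨_, h2⟩, h3⟩
      exact ⟨h3, h2⟩
    · rintro ⟨h3, h2⟩
      exact ⟨⟨Or.inr (h3 ▸ hd2), h2⟩, h3⟩
  have hAB : (S.filter (fun χ : Cfsg.IrrCharacter G => Cfsg.charDegree (χ : G → ℂ) = 1)).card ≤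
      d * (S.filter (fun χ : Cfsg.IrrCharacter G => Cfsg.charDegree (χ : G → ℂ) = d)).card := by
    rw [hA, hB]
    exact hcount
  have hfin := Cfsg.Agent.Helper8.SR4.four_card_le S
    (fun χ : Cfsg.IrrCharacter G => Cfsg.charDegree (χ : G → ℂ)) d hd hS hAB
  have hsum : (∑ᶠ χ : {χ : Cfsg.IrrCharacter G // (Cfsg.charDegree (χ : G → ℂ) = 1 ∨
      2 ∣ Cfsg.charDegree (χ : G → ℂ)) ∧ Cfsg.Agent.Helper24.fsInd (χ : G → ℂ) = 1},
      Cfsg.charDegree (χ.1 : G → ℂ)) = ∑ χ ∈ S, Cfsg.charDegree (χ : G → ℂ) := by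
    rw [finsum_eq_sum_of_fintype]
    exact (Finset.sum_subtype S hSmem
      (fun χ : Cfsg.IrrCharacter G => Cfsg.charDegree (χ : G → ℂ))).symm
  have hcard : Nat.card {χ : Cfsg.IrrCharacter G // (Cfsg.charDegree (χ : G → ℂ) = 1 ∨
      2 ∣ Cfsg.charDegree (χ : G → ℂ)) ∧ Cfsg.Agent.Helper24.fsInd (χ : G → ℂ) = 1} = S.card := by
    rw [Nat.card_eq_fintype_card, Fintype.card_subtype]
  rw [hsum, hcard]
  exact hfin

end Cfsg.Agent.S4871
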