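import Cfsg.Statements.S4911
import Cfsg.Agent.Helper24.RealGlauberman

set_option autoImplicit false
open Cfsg Cfsg.Agent.Helper24

namespace Cfsg.Agent.S4911

/-- Let P and K be subgroups of a finite group with P a p-group normalizing K and K of order prime to p. Then the number of P-invariant real-valued irreducible complex characters of K equals the number of conjugacy classes of K that are real (closed under inversion) and P-invariant. Moreover, if every real-valued irreducible character of K is P-invariant, then every real element of K (one conjugate in K to its inverse) is conjugate in K to an element centralized by P. -/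
theorem result {G : Type*} [Group G] [Finite G] (p : ℕ) [Fact p.Prime] (P K : Subgroup G) (hP : IsPGroup p ↥P) (hK : ¬ p ∣ Nat.card ↥K) (hPK : P ≤ Subgroup.normalizer (K : Set G)) : Nat.card {θ : Cfsg.IrrCharacter ↥K // (∀ k : ↥K, ((θ : ↥K → ℂ) k).im = 0) ∧ (∀ x ∈ P, ∀ k k' : ↥K, (k' : G) = x * (k : G) * x⁻¹ → (θ : ↥K → ℂ) k' = (θ : ↥K → ℂ) k)} = Nat.card {c : ConjClasses ↥K // (∀ k : ↥K, ConjClasses.mk k = c → IsConj k k⁻¹) ∧ ∀ k : ↥K, ConjClasses.mk k = c → ∀ x ∈ P, ∀ k' : ↥K, (k' : G) = x * (k : G) * x⁻¹ → ConjClasses.mk k' = c} ∧ ((∀ θ : Cfsg.IrrCharacter ↥K, (∀ k : ↥K, ((θ : ↥K → ℂ) k).im = 0) → (∀ x ∈ P, ∀ k k' : ↥K, (k' : G) = x * (k : G) * x⁻¹ → (θ : ↥K → ℂ) k' = (θ : ↥K → ℂ) k)) → ∀ k : ↥K, IsConj k k⁻¹ → ∃ k' : ↥K, IsConj k k' ∧ ∀ x ∈ P, x * (k' : G) * x⁻¹ = (k' : G)) := by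
  classical
  have hp : p.Prime := Fact.out
  haveI : Group.IsNilpotent ↥P := hP.isNilpotent
  have hsolv : Group.IsSolvable ↥P := inferInstance
  have hcop : (Nat.card K).Coprime (Nat.card P) := by
    obtain ⟨a, ha⟩ := IsPGroup.iff_card.mp hP
    rw [ha]
    exact Nat.Coprime.pow_right a ((Nat.Prime.coprime_iff_not_dvd hp).mpr hK).symm
  have h1 : Nat.card {θ : Cfsg.IrrCharacter ↥K // (∀ k : ↥K, ((θ : ↥K → ℂ) k).im = 0) ∧
      (∀ x ∈ P, ∀ k k' : ↥K, (k' : G) = x * (k : G) * x⁻¹ →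
        (θ : ↥K → ℂ) k' = (θ : ↥K → ℂ) k)} =
      Nat.card {c : ConjClasses ↥K // (∀ k : ↥K, ConjClasses.mk k = c → IsConj k k⁻¹) ∧
        ∀ k : ↥K, ConjClasses.mk k = c → ∀ x ∈ P, ∀ k' : ↥K, (k' : G) = x * (k : G) * x⁻¹ →
          ConjClasses.mk k' = c} := by
    rw [← card_real_invariant_classes P K hPK hcop hsolv,
      ← card_real_irr_eq_card_real_conjClasses]
    exact card_real_invariant_irr p hp P K hP hK hPK
  refine ⟨h1, ?_⟩
  intro hall k hk
  -- all real classes are invariant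
  have h2 : Nat.card {θ : Cfsg.IrrCharacter ↥K // (∀ k : ↥K, ((θ : ↥K → ℂ) k).im = 0) ∧
      (∀ x ∈ P, ∀ k k' : ↥K, (k' : G) = x * (k : G) * x⁻¹ →
        (θ : ↥K → ℂ) k' = (θ : ↥K → ℂ) k)} =
      Nat.card {θ : Cfsg.IrrCharacter ↥K // ∀ k : ↥K, ((θ : ↥K → ℂ) k).im = 0} := by
    apply Nat.card_congr
    apply Equiv.subtypeEquivRight
    intro θ
    exact ⟨fun h => h.1, fun h => ⟨h, hall θ h⟩⟩
  rw [h2, card_real_irr_eq_card_real_conjClasses] at h1
  have hsub : {c : ConjClasses ↥K | (∀ k : ↥K, ConjClasses.mk k = c → IsConj k k⁻¹) ∧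
        ∀ k : ↥K, ConjClasses.mk k = c → ∀ x ∈ P, ∀ k' : ↥K, (k' : G) = x * (k : G) * x⁻¹ →
          ConjClasses.mk k' = c} ⊆
      {c : ConjClasses ↥K | ∀ k : ↥K, ConjClasses.mk k = c → IsConj k k⁻¹} := fun c hc => hc.1
  have heq := Set.eq_of_subset_of_ncard_le hsub (by
    rw [← Nat.card_coe_set_eq, ← Nat.card_coe_set_eq]
    exact le_of_eq h1) (Set.toFinite _)
  have hkmem : ConjClasses.mk k ∈
      {c : ConjClasses ↥K | ∀ k : ↥K, ConjClasses.mk k = c → IsConj k k⁻¹} := by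
    intro k' hk'
    rw [ConjClasses.mk_eq_mk_iff_isConj] at hk'
    have h3 : IsConj k'⁻¹ k⁻¹ := by
      rw [isConj_iff] at hk' ⊢
      obtain ⟨u, hu⟩ := hk'
      exact ⟨u, by rw [← hu]; group⟩
    exact hk'.trans (hk.trans h3.symm)
  rw [← heq] at hkmem
  obtain ⟨x, ⟨hxK, hxc⟩, hfix⟩ := (glauberman_classSet K P hPK hcop (Or.inl hsolv)
    (ConjClasses.mk k) (fun s hs g g' hgg' hg => hkmem.2 g hg s hs g' hgg')).1 ⟨(k : G), k.2, rfl⟩
  refine ⟨⟨x, hxK⟩, ?_, hfix⟩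
  rw [← ConjClasses.mk_eq_mk_iff_isConj]
  exact hxc.symm

end Cfsg.Agent.S4911
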