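import Cfsg.Statements.S4912
import Cfsg.Agent.Helper23.FSClifford

set_option autoImplicit false
open Cfsg

namespace Cfsg.Agent.S4912

/-- Let G be a finite group with a non-abelian minimal normal subgroup N, and let φ be an irreducible complex character of N with stabilizer I in G such that φ extends to an irreducible character of I with Frobenius–Schur indicator +1. Put d = φ(1)·[G : I]. Then the number of linear characters of G with Frobenius–Schur indicator +1 is at most [G : I] times the number of irreducible characters of G of degree d with Frobenius–Schur indicator +1. -/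
theorem result {G : Type*} [Group G] [Finite G] (N : Subgroup G) (hN : N.Normal) (hN1 : N ≠ ⊥) (hmin : ∀ M : Subgroup G, M.Normal → M ≤ N → M = ⊥ ∨ M = N) (hna : ¬ IsMulCommutative ↥N) (φ : Cfsg.IrrCharacter ↥N) (I : Subgroup G) (hI : ∀ g : G, g ∈ I ↔ ∀ n n' : ↥N, (n' : G) = g * (n : G) * g⁻¹ → (φ : ↥N → ℂ) n' = (φ : ↥N → ℂ) n) (hNI : N ≤ I) (hext : ∃ ψ : Cfsg.IrrCharacter ↥I, (Nat.card ↥I : ℂ)⁻¹ * ∑ᶠ g : ↥I, (ψ : ↥I → ℂ) (g * g) = 1 ∧ ∀ n : ↥N, (ψ : ↥I → ℂ) (Subgroup.inclusion hNI n) = (φ : ↥N → ℂ) n) : Nat.card {χ : Cfsg.IrrCharacter G // Cfsg.charDegree (χ : G → ℂ) = 1 ∧ (Nat.card G : ℂ)⁻¹ * ∑ᶠ g : G, (χ : G → ℂ) (g * g) = 1} ≤ I.index * Nat.card {χ : Cfsg.IrrCharacter G // Cfsg.charDegree (χ : G → ℂ) = Cfsg.charDegree (φ : ↥N → ℂ) * I.index ∧ (Nat.card G : ℂ)⁻¹ * ∑ᶠ g : G, (χ : G → ℂ) (g * g) = 1} := by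
  classical
  haveI : Fintype G := Fintype.ofFinite G
  haveI := hN
  haveI : Fintype I := Fintype.ofFinite _
  obtain ⟨ψ, hψfs, hψ⟩ := hext
  have hfsG : ∀ χ : Cfsg.IrrCharacter G,
      ((Nat.card G : ℂ)⁻¹ * ∑ᶠ g : G, (χ : G → ℂ) (g * g) = 1) ↔
        Cfsg.Agent.Helper24.fsInd (χ : G → ℂ) = 1 := by
    intro χ
    unfold Cfsg.Agent.Helper24.fsInd
    rw [finsum_eq_sum_of_fintype]
  have hψfs' : Cfsg.Agent.Helper24.fsInd (ψ : I → ℂ) = 1 := by
    unfold Cfsg.Agent.Helper24.fsInd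
    rw [← finsum_eq_sum_of_fintype]
    exact hψfs
  have key := Cfsg.Agent.Helper23.FSClifford.card_strongly_real_linear_le N φ I hNI ψ hmin hna hI
    hψ hψfs'
  have e1 : Nat.card {χ : Cfsg.IrrCharacter G // Cfsg.charDegree (χ : G → ℂ) = 1 ∧
      (Nat.card G : ℂ)⁻¹ * ∑ᶠ g : G, (χ : G → ℂ) (g * g) = 1} =
      Nat.card {χ : Cfsg.IrrCharacter G // Cfsg.charDegree (χ : G → ℂ) = 1 ∧
        Cfsg.Agent.Helper24.fsInd (χ : G → ℂ) = 1} :=
    Nat.card_congr (Equiv.subtypeEquivRight (fun χ => and_congr_right (fun _ => hfsG χ)))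
  have e2 : Nat.card {χ : Cfsg.IrrCharacter G //
      Cfsg.charDegree (χ : G → ℂ) = Cfsg.charDegree (φ : ↥N → ℂ) * I.index ∧
      (Nat.card G : ℂ)⁻¹ * ∑ᶠ g : G, (χ : G → ℂ) (g * g) = 1} =
      Nat.card {χ : Cfsg.IrrCharacter G //
        Cfsg.charDegree (χ : G → ℂ) = Cfsg.charDegree (φ : ↥N → ℂ) * I.index ∧
        Cfsg.Agent.Helper24.fsInd (χ : G → ℂ) = 1} :=
    Nat.card_congr (Equiv.subtypeEquivRight (fun χ => and_congr_right (fun _ => hfsG χ)))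
  rw [e1, e2]
  exact key

end Cfsg.Agent.S4912
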