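import Cfsg.Statements.S4914
import Cfsg.Agent.Helper29.RelGlaubI
import Cfsg.Agent.Helper24.Codegree
-- import your own Cfsg.Agent.* helpers here

set_option autoImplicit false
open Cfsg

namespace Cfsg.Agent.S4914

/-- Let P and K be subgroups of a finite group G with P a p-group normalizing K, and suppose K has a normal Sylow p-subgroup Q. Let C be the subgroup of those k ∈ K whose commutator with every element of P lies in Q (so that C/Q is the fixed-point subgroup of P on K/Q). Then there is a bijection f from the P-invariant irreducible complex characters of K onto the P-invariant irreducible complex characters of C such that, for every P-invariant irreducible character χ of K, the multiplicity of f(χ) in the restriction of χ to C is a natural number congruent to 1 or to −1 modulo p, every other P-invariant irreducible character of C occurs in that restriction with multiplicity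 divisible by p, and the degrees of χ and f(χ) are congruent modulo p up to sign. -/
theorem result {G : Type*} [Group G] [Finite G] (p : ℕ) [Fact p.Prime] (P K Q C : Subgroup G) (hP : IsPGroup p ↥P) (hPK : P ≤ Subgroup.normalizer (K : Set G)) (hQK : Q ≤ K) (hQn : ∀ k ∈ K, ∀ q ∈ Q, k * q * k⁻¹ ∈ Q) (hQp : ∃ a : ℕ, Nat.card ↥Q = p ^ a) (hQsyl : ¬ p ∣ Q.relIndex K) (hCK : C ≤ K) (hC : ∀ k : G, k ∈ C ↔ (k ∈ K ∧ ∀ x ∈ P, x * k * x⁻¹ * k⁻¹ ∈ Q)) : ∃ f : {χ : Cfsg.IrrCharacter ↥K // (∀ x ∈ P, ∀ k k' : ↥K, (k' : G) = x * (k : G) * x⁻¹ → (χ : ↥K → ℂ) k' = (χ : ↥K → ℂ) k)} → {ξ : Cfsg.IrrCharacter ↥C // (∀ x ∈ P, ∀ k k' : ↥C, (k' : G) = x * (k : G) * x⁻¹ → (ξ : ↥C → ℂ) k' = (ξ : ↥C → ℂ) k)}, Function.Bijective f ∧ ∀ χ, (∀ ξ : {ξ : Cfsg.IrrCharacter ↥C // (∀ x ∈ P, ∀ k k' : ↥C, (k' : G) = x * (k : G) * x⁻¹ → (ξ : ↥C → ℂ) k' = (ξ : ↥C → ℂ) k)}, ∃ m : ℕ, (Nat.card ↥C : ℂ)⁻¹ * ∑ᶠ c : ↥C, (χ.1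 : ↥K → ℂ) (Subgroup.inclusion hCK c) * (starRingEnd ℂ) ((ξ.1 : ↥C → ℂ) c) = (m : ℂ) ∧ (ξ = f χ → ((m : ZMod p) = 1 ∨ (m : ZMod p) = -1)) ∧ (ξ ≠ f χ → p ∣ m)) ∧ ((Cfsg.charDegree ((f χ).1 : ↥C → ℂ) : ZMod p) = (Cfsg.charDegree (χ.1 : ↥K → ℂ) : ZMod p) ∨ (Cfsg.charDegree ((f χ).1 : ↥C → ℂ) : ZMod p) = -(Cfsg.charDegree (χ.1 : ↥K → ℂ) : ZMod p)) := by
  classical
  have hp' := (Fact.out : p.Prime)
  obtain ⟨GC, hdeg⟩ := Cfsg.Agent.Helper29.RelGlaub.rel_glauberman (p := p) P K Q C hP hPK hQK hQn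
    hQp hQsyl hCK hC
  haveI : Fintype C := Fintype.ofFinite _
  have hex : ∀ χ : {χ : Cfsg.IrrCharacter ↥K // (∀ x ∈ P, ∀ k k' : ↥K,
      (k' : G) = x * (k : G) * x⁻¹ → (χ : ↥K → ℂ) k' = (χ : ↥K → ℂ) k)},
      ∃ ξ : {ξ : Cfsg.IrrCharacter ↥C // (∀ x ∈ P, ∀ k k' : ↥C,
        (k' : G) = x * (k : G) * x⁻¹ → (ξ : ↥C → ℂ) k' = (ξ : ↥C → ℂ) k)},
        ¬ p ∣ Cfsg.Agent.Helper24.mult (Subgroup.inclusion hCK) χ.1 ξ.1 ∧
        ∀ ξ' : {ξ : Cfsg.IrrCharacter ↥C // (∀ x ∈ P, ∀ k k' : ↥C,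
          (k' : G) = x * (k : G) * x⁻¹ → (ξ : ↥C → ℂ) k' = (ξ : ↥C → ℂ) k)},
          ¬ p ∣ Cfsg.Agent.Helper24.mult (Subgroup.inclusion hCK) χ.1 ξ'.1 → ξ' = ξ := by
    intro χ
    obtain ⟨ξ, hξ, hm, huniq⟩ := GC.exU χ.1 χ.2
    exact ⟨⟨ξ, hξ⟩, hm, fun ξ' hξ' => Subtype.ext (huniq ξ'.1 ξ'.2 hξ')⟩
  choose f hf1 hf2 using hex
  refine ⟨f, ⟨?_, ?_⟩, ?_⟩
  · intro χ χ' hχχ'
    apply Subtype.ext
    have h1 := hf1 χ
    have h2 := hf1 χ'
    rw [← hχχ'] at h2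
    exact GC.inj χ.1 χ.2 χ'.1 χ'.2 (f χ).1 (f χ).2 h1 h2
  · intro ξ
    obtain ⟨χ, hχ, hm⟩ := GC.surj ξ.1 ξ.2
    exact ⟨⟨χ, hχ⟩, (hf2 ⟨χ, hχ⟩ ξ hm).symm⟩
  · intro χ
    refine ⟨?_, ?_⟩
    · intro ξ
      refine ⟨Cfsg.Agent.Helper24.mult (Subgroup.inclusion hCK) χ.1 ξ.1, ?_, ?_, ?_⟩
      · rw [finsum_eq_sum_of_fintype]
        exact Cfsg.Agent.Helper24.mult_spec (Subgroup.inclusion hCK) χ.1 ξ.1
      · intro hξ
        have hm : ¬ p ∣ Cfsg.Agent.Helper24.mult (Subgroup.inclusion hCK) χ.1 ξ.1 := by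
          rw [hξ]; exact hf1 χ
        rcases GC.pm χ.1 χ.2 ξ.1 ξ.2 hm with h | h
        · left
          have h2 := (ZMod.intCast_eq_intCast_iff _ _ p).mpr h
          push_cast at h2
          exact h2
        · right
          have h2 := (ZMod.intCast_eq_intCast_iff _ _ p).mpr h
          push_cast at h2
          exact h2
      · intro hξ
        by_contra hnd
        exact hξ (hf2 χ ξ hnd)
    · rw [Cfsg.Agent.Helper24.charDegree_irr, Cfsg.Agent.Helper24.charDegree_irr]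
      rcases hdeg χ.1 (f χ).1 χ.2 (f χ).2 (hf1 χ) with h | h
      · left
        have h2 := (ZMod.intCast_eq_intCast_iff _ _ p).mpr h
        push_cast at h2
        exact h2.symm
      · right
        have h2 := (ZMod.intCast_eq_intCast_iff _ _ p).mpr h
        push_cast at h2
        rw [h2, neg_neg]

end Cfsg.Agent.S4914
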