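import Cfsg.Statements.S5001
import Cfsg.Agent.Helper5.Reynolds
import Cfsg.Agent.Helper23.CentralChar
import Cfsg.Agent.Helper24.RealChar
import Cfsg.Agent.Helper5.LinChar

set_option autoImplicit false
open Cfsg

namespace Cfsg.Agent.S5001

/-- Let p be a prime, G a finite group and B a p-block of G (relative to a maximal ideal M of the algebraic integers containing p) with defect group D. Let Z be a central p-subgroup of G contained in D and λ a linear character of Z (a homomorphism to the nonzero complex numbers). Say an irreducible character χ of G lies over λ when χ(z) = χ(1)λ(z) for all z ∈ Z. If some irreducible character in B lying over λ has height zero, then λ extends to a linear character of D. -/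
theorem result {G : Type*} [Group G] [Finite G] (p : ℕ) [Fact p.Prime] (M : Ideal Cfsg.AlgInt) (hM : Cfsg.IsPModular p M) (B : Set (Cfsg.IrrCharacter G)) (hB : Cfsg.IsPBlock M B) (D : Subgroup G) (hD : Cfsg.IsDefectGroup p M B D) (Z : Subgroup G) (hZc : Z ≤ Subgroup.center G) (hZp : IsPGroup p ↥Z) (hZD : Z ≤ D) (lam : ↥Z →* ℂˣ) (χ : Cfsg.IrrCharacter G) (hχ : χ ∈ B) (hover : (∀ z : ↥Z, (χ : G → ℂ) z = (χ : G → ℂ) 1 * (lam z : ℂ))) (h0 : Cfsg.blockHeight p B (χ : G → ℂ) = 0) : (∃ μ : ↥D →* ℂˣ, ∀ z : ↥Z, μ ⟨(z : G), hZD z.2⟩ = lam z) := by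
  classical
  have : Fintype G := Fintype.ofFinite G
  have hMp := Cfsg.Agent.Helper5.Loc.isPrime_of_isPModular hM
  have hp : p.Prime := Fact.out
  have : Fintype (IrrCharacter G) := Fintype.ofFinite _
  have hcD := Cfsg.Agent.Helper5.CC.card_defectGroup hM hB hD
  obtain ⟨g, hg, S, hDS⟩ := hD
  -- Step A: `χ g` is a unit modulo `M`
  have hcS : Nat.card D = Nat.card S := by
    rw [hDS]
    exact Subgroup.card_map_of_injective (Subgroup.subtype_injective _)
  have hcS2 := S.card_eq_multiplicity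
  have hdC : blockDefect p B =
      (Nat.card (Subgroup.centralizer ({g} : Set G))).factorization p := by
    rw [hcD, hcS2] at hcS
    exact Nat.pow_right_injective hp.two_le hcS
  have hCi := Subgroup.card_mul_index (Subgroup.centralizer ({g} : Set G))
  have hidx0 : (Subgroup.centralizer ({g} : Set G)).index ≠ 0 := Subgroup.index_ne_zero_of_finite
  have f1 := congrArg (fun n => n.factorization p) hCi
  simp only [Nat.factorization_mul (Nat.card_pos (α := ↥(Subgroup.centralizer ({g} : Set G)))).ne'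
    hidx0, Finsupp.add_apply] at f1
  have hdB : blockDefect p B = (Nat.card G).factorization p -
      sInf ((fun χ : IrrCharacter G => (charDegree (χ : G → ℂ)).factorization p) '' B) := rfl
  have hs : sInf ((fun χ : IrrCharacter G => (charDegree (χ : G → ℂ)).factorization p) '' B) ≤
      (charDegree (χ : G → ℂ)).factorization p := Nat.sInf_le ⟨χ, hχ, rfl⟩
  have hle : (charDegree (χ : G → ℂ)).factorization p ≤ (Nat.card G).factorization p := by
    rw [Cfsg.Agent.Helper5.CC.charDegree_eq_irrDeg]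
    exact (Nat.factorization_le_iff_dvd (Cfsg.Agent.Helper24.irrDeg_pos χ).ne'
      (Nat.card_pos (α := G)).ne').mpr (Cfsg.Agent.Helper24.irrDeg_dvd_card χ) p
  unfold blockHeight at h0
  rw [Cfsg.Agent.Helper5.CC.charDegree_eq_irrDeg] at h0 hs hle
  have hval : (Cfsg.Agent.Helper24.irrDeg χ).factorization p =
      ((Subgroup.centralizer ({g} : Set G)).index).factorization p := by omega
  have hχg : ¬ MemLocalIdeal M ((χ : G → ℂ) g) := by
    intro hcon
    apply hg.2.2 χ hχ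
    rw [Cfsg.Agent.Helper5.CC.centralChar_def, Cfsg.Agent.Helper24.irrDeg_spec]
    have e1 := Nat.ordProj_mul_ordCompl_eq_self (Subgroup.centralizer ({g} : Set G)).index p
    have e2 := Nat.ordProj_mul_ordCompl_eq_self (Cfsg.Agent.Helper24.irrDeg χ) p
    have n1 := Nat.not_dvd_ordCompl hp hidx0
    have n2 := Nat.not_dvd_ordCompl hp (Cfsg.Agent.Helper24.irrDeg_pos χ).ne'
    rw [hval] at e2 n2
    set k := ((Subgroup.centralizer ({g} : Set G)).index).factorization p with hk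
    set m := (Subgroup.centralizer ({g} : Set G)).index / p ^ k with hm
    set c := Cfsg.Agent.Helper24.irrDeg χ / p ^ k with hc
    have hc0 : (c : ℂ) ≠ 0 := by
      have : c ≠ 0 := fun h => n2 (by rw [h]; exact dvd_zero p)
      exact_mod_cast this
    have hpk : ((p : ℂ) ^ k) ≠ 0 := pow_ne_zero _ (by exact_mod_cast hp.ne_zero)
    have e3 : ((Subgroup.centralizer ({g} : Set G)).index : ℂ) * (χ : G → ℂ) g /
        (Cfsg.Agent.Helper24.irrDeg χ : ℂ) = ((m : ℂ) * (c : ℂ)⁻¹) * (χ : G → ℂ) g := by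
      rw [← e1, ← e2]
      push_cast
      field_simp
    rw [e3]
    exact Cfsg.Agent.Helper5.Loc.li_mul_left hMp
      (Cfsg.Agent.Helper5.Loc.lr_mul hMp (Cfsg.Agent.Helper5.Loc.memLocalRing_natCast hMp m)
        (Cfsg.Agent.Helper5.Loc.memLocalRing_inv_natCast hM n2)) hcon
  -- Step B: the subgroup `X = D⟨g⟩`
  have hDX : D ≤ D ⊔ Subgroup.zpowers g := le_sup_left
  have hgX : g ∈ D ⊔ Subgroup.zpowers g :=
    (le_sup_right : Subgroup.zpowers g ≤ D ⊔ Subgroup.zpowers g) (Subgroup.mem_zpowers g)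
  have : Fintype ↥(D ⊔ Subgroup.zpowers g) := Fintype.ofFinite _
  have : Fintype (IrrCharacter ↥(D ⊔ Subgroup.zpowers g)) := Fintype.ofFinite _
  have hDC : D ≤ Subgroup.centralizer ({g} : Set G) := by
    rw [hDS]; exact Subgroup.map_subtype_le _
  have hDp : IsPGroup p D := by
    rw [hDS]; exact S.2.map _
  have hPp : IsPGroup p (D.subgroupOf (D ⊔ Subgroup.zpowers g)) := hDp.comap_subtype
  have hcomm : ∀ u ∈ D, ∀ y ∈ Subgroup.zpowers g, u * y = y * u := by
    intro u hu y hy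
    obtain ⟨n, rfl⟩ := Subgroup.mem_zpowers_iff.mp hy
    have h1 : g * u = u * g :=
      (Subgroup.mem_centralizer_iff.mp (hDC hu)) g (Set.mem_singleton g)
    exact ((Commute.zpow_left (show Commute g u from h1) n)).eq.symm
  have hzC : (Subgroup.zpowers g).subgroupOf (D ⊔ Subgroup.zpowers g) ≤
      Cfsg.Agent.Helper5.CP.Cen (D.subgroupOf (D ⊔ Subgroup.zpowers g)) := by
    intro y hy
    rw [Subgroup.mem_centralizer_iff]
    intro u hu
    apply Subtype.ext
    exact hcomm (u : G) (Subgroup.mem_subgroupOf.mp hu) (y : G) (Subgroup.mem_subgroupOf.mp hy)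
  have hXtop : (D.subgroupOf (D ⊔ Subgroup.zpowers g)) ⊔
      Cfsg.Agent.Helper5.CP.Cen (D.subgroupOf (D ⊔ Subgroup.zpowers g)) = ⊤ := by
    rw [eq_top_iff]
    calc (⊤ : Subgroup ↥(D ⊔ Subgroup.zpowers g))
        = (D ⊔ Subgroup.zpowers g).subgroupOf (D ⊔ Subgroup.zpowers g) :=
          (Subgroup.subgroupOf_self _).symm
      _ = D.subgroupOf (D ⊔ Subgroup.zpowers g) ⊔
          (Subgroup.zpowers g).subgroupOf (D ⊔ Subgroup.zpowers g) :=
          Subgroup.subgroupOf_sup hDX le_sup_right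
      _ ≤ _ := sup_le_sup_left hzC _
  -- Step C: a constituent of the restriction not vanishing at `g` modulo `M`
  have hres : IsCharacter ↥(D ⊔ Subgroup.zpowers g)
      (fun y : ↥(D ⊔ Subgroup.zpowers g) => (χ : G → ℂ) y) :=
    Cfsg.Agent.Helper8.isCharacter_restrict _ (Cfsg.Agent.Helper24.IsIrrCharacter.isCharacter χ.2)
  have hexp := Cfsg.Agent.Helper24.IsCharacter.eq_sum_classInner hres
  have hgC : (⟨g, hgX⟩ : ↥(D ⊔ Subgroup.zpowers g)) ∈
      Cfsg.Agent.Helper5.CP.Cen (D.subgroupOf (D ⊔ Subgroup.zpowers g)) :=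
    hzC (Subgroup.mem_subgroupOf.mpr (Subgroup.mem_zpowers g))
  obtain ⟨η, hη0, hηg⟩ : ∃ η : IrrCharacter ↥(D ⊔ Subgroup.zpowers g),
      classInner (fun y : ↥(D ⊔ Subgroup.zpowers g) => (χ : G → ℂ) y)
        (η : ↥(D ⊔ Subgroup.zpowers g) → ℂ) ≠ 0 ∧
      ¬ MemLocalIdeal M ((η : ↥(D ⊔ Subgroup.zpowers g) → ℂ) ⟨g, hgX⟩) := by
    by_contra hcon
    push Not at hcon
    apply hχg
    have h1 := congrFun hexp ⟨g, hgX⟩
    simp only [Finset.sum_apply, Pi.smul_apply, smul_eq_mul] at h1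
    rw [h1]
    apply Cfsg.Agent.Helper5.Loc.li_sum hMp
    intro η _
    by_cases h : classInner (fun y : ↥(D ⊔ Subgroup.zpowers g) => (χ : G → ℂ) y)
        (η : ↥(D ⊔ Subgroup.zpowers g) → ℂ) = 0
    · rw [h, zero_mul]; exact Cfsg.Agent.Helper5.Loc.memLocalIdeal_zero hMp
    · obtain ⟨n, hn⟩ := Cfsg.Agent.Helper24.IsCharacter.classInner_irr_nat hres η
      rw [hn]
      exact Cfsg.Agent.Helper5.Loc.li_mul_left hMp
        (Cfsg.Agent.Helper5.Loc.memLocalRing_natCast hMp n) (hcon η h)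
  obtain ⟨ζ, φ, hdec⟩ := Cfsg.Agent.Helper5.CP.exists_decomp hXtop η
  have hζ1 : (ζ : ↥(D.subgroupOf (D ⊔ Subgroup.zpowers g)) → ℂ) 1 = 1 := by
    by_contra hne
    apply hηg
    have e := hdec 1 ⟨⟨g, hgX⟩, hgC⟩
    simp only [OneMemClass.coe_one, one_mul] at e
    rw [e]
    have hζ1' : Cfsg.Agent.Helper24.irrDeg ζ ≠ 1 := fun h =>
      hne ((Cfsg.Agent.Helper24.irrDeg_eq_one_iff ζ).mp h)
    have hζd : Cfsg.Agent.Helper24.irrDeg ζ ∣ Nat.card (D.subgroupOf (D ⊔ Subgroup.zpowers g)) :=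
      Cfsg.Agent.Helper24.irrDeg_dvd_card ζ
    obtain ⟨k, hk⟩ := IsPGroup.iff_card.mp hPp
    rw [hk] at hζd
    obtain ⟨j, hj, hζj⟩ := (Nat.dvd_prime_pow hp).mp hζd
    have hpd : p ∣ Cfsg.Agent.Helper24.irrDeg ζ := by
      rw [hζj]
      refine dvd_pow_self p ?_
      rintro rfl
      exact hζ1' (by rw [hζj, pow_zero])
    rw [Cfsg.Agent.Helper24.irrDeg_spec]
    exact Cfsg.Agent.Helper5.Loc.li_mul_right hMp
      ((Cfsg.Agent.Helper5.Loc.memLocalIdeal_natCast_iff hM _).mpr hpd)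
      (Cfsg.Agent.Helper5.Loc.memLocalRing_of_isIntegral hMp
        (Cfsg.Agent.Helper24.irr_isIntegral φ _))
  -- Step D: central characters
  obtain ⟨ω, hω⟩ := Cfsg.Agent.Helper23.exists_central_character χ
  obtain ⟨ωη, hωη⟩ := Cfsg.Agent.Helper23.exists_central_character η
  refine ⟨((Cfsg.Agent.Helper5.linCharHom (Cfsg.Agent.Helper24.IsIrrCharacter.isCharacter ζ.2)
    hζ1).toHomUnits).comp (Subgroup.subgroupOfEquivOfLe hDX).symm.toMonoidHom, ?_⟩
  intro z
  apply Units.ext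
  rw [MonoidHom.comp_apply, MonoidHom.coe_toHomUnits]
  set uz : ↥(D.subgroupOf (D ⊔ Subgroup.zpowers g)) :=
    (Subgroup.subgroupOfEquivOfLe hDX).symm ⟨(z : G), hZD z.2⟩ with huz
  show (ζ : ↥(D.subgroupOf (D ⊔ Subgroup.zpowers g)) → ℂ) uz = (lam z : ℂ)
  have hzc : (z : G) ∈ Subgroup.center G := hZc z.2
  have hzXc : (uz : ↥(D ⊔ Subgroup.zpowers g)) ∈ Subgroup.center ↥(D ⊔ Subgroup.zpowers g) := by
    rw [Subgroup.mem_center_iff]
    intro y
    apply Subtype.ext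
    exact (Subgroup.mem_center_iff.mp hzc) (y : G)
  have hχ1 := Cfsg.Agent.Helper24.irr_one_ne_zero χ
  have e1 : ω ⟨(z : G), hzc⟩ = (lam z : ℂ) := by
    have h1 := hω ⟨(z : G), hzc⟩ 1
    rw [one_mul] at h1
    have h2 := hover z
    rw [h1] at h2
    rw [mul_comm] at h2
    exact mul_left_cancel₀ hχ1 h2
  have hnorm : ‖(lam z : ℂ)‖ = 1 :=
    Cfsg.Agent.Helper24.norm_monoidHom_eq_one ((Units.coeHom ℂ).comp lam) z
  -- the invariance trick
  have hsum : ∑ y : ↥(D ⊔ Subgroup.zpowers g), (χ : G → ℂ) y *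
      (starRingEnd ℂ) ((η : ↥(D ⊔ Subgroup.zpowers g) → ℂ) y) ≠ 0 := by
    intro h
    apply hη0
    unfold classInner
    rw [h, mul_zero]
  have hshift : ∑ y : ↥(D ⊔ Subgroup.zpowers g), (χ : G → ℂ) y *
      (starRingEnd ℂ) ((η : ↥(D ⊔ Subgroup.zpowers g) → ℂ) y) =
      ((lam z : ℂ) * (starRingEnd ℂ) (ωη ⟨(uz : ↥(D ⊔ Subgroup.zpowers g)), hzXc⟩)) *
      ∑ y : ↥(D ⊔ Subgroup.zpowers g), (χ : G → ℂ) y *
      (starRingEnd ℂ) ((η : ↥(D ⊔ Subgroup.zpowers g) → ℂ) y) := by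
    conv_lhs => rw [← Equiv.sum_comp (Equiv.mulRight (uz : ↥(D ⊔ Subgroup.zpowers g)))]
    rw [Finset.mul_sum]
    refine Finset.sum_congr rfl fun y _ => ?_
    have h1 : (χ : G → ℂ) ((Equiv.mulRight (uz : ↥(D ⊔ Subgroup.zpowers g)) y :
        ↥(D ⊔ Subgroup.zpowers g)) : G) = (lam z : ℂ) * (χ : G → ℂ) y := by
      have := hω ⟨(z : G), hzc⟩ (y : G)
      rw [e1] at this
      exact this
    have h2 : (η : ↥(D ⊔ Subgroup.zpowers g) → ℂ)
        (Equiv.mulRight (uz : ↥(D ⊔ Subgroup.zpowers g)) y) =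
        ωη ⟨(uz : ↥(D ⊔ Subgroup.zpowers g)), hzXc⟩ *
          (η : ↥(D ⊔ Subgroup.zpowers g) → ℂ) y :=
      hωη ⟨(uz : ↥(D ⊔ Subgroup.zpowers g)), hzXc⟩ y
    rw [h1, h2, map_mul]
    ring
  have hone : (lam z : ℂ) *
      (starRingEnd ℂ) (ωη ⟨(uz : ↥(D ⊔ Subgroup.zpowers g)), hzXc⟩) = 1 := by
    have h1 : (1 - (lam z : ℂ) *
        (starRingEnd ℂ) (ωη ⟨(uz : ↥(D ⊔ Subgroup.zpowers g)), hzXc⟩)) *
        ∑ y : ↥(D ⊔ Subgroup.zpowers g), (χ : G → ℂ) y *
        (starRingEnd ℂ) ((η : ↥(D ⊔ Subgroup.zpowers g) → ℂ) y) = 0 := by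
      rw [sub_mul, one_mul, ← hshift, sub_self]
    rcases mul_eq_zero.mp h1 with h | h
    · exact (sub_eq_zero.mp h).symm
    · exact absurd h hsum
  have hωeq : ωη ⟨(uz : ↥(D ⊔ Subgroup.zpowers g)), hzXc⟩ = (lam z : ℂ) := by
    have hl0 : (lam z : ℂ) ≠ 0 := Units.ne_zero _
    have h1 : (starRingEnd ℂ) (ωη ⟨(uz : ↥(D ⊔ Subgroup.zpowers g)), hzXc⟩) = (lam z : ℂ)⁻¹ :=
      eq_inv_of_mul_eq_one_right hone
    rw [Complex.inv_eq_conj hnorm] at h1
    exact (starRingEnd ℂ).injective h1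
  -- evaluate `η` at `uz` in two ways
  have e3 := hdec uz 1
  have e4 := hωη ⟨(uz : ↥(D ⊔ Subgroup.zpowers g)), hzXc⟩ 1
  have e5 := hdec 1 1
  simp only [OneMemClass.coe_one, mul_one, one_mul] at e3 e4 e5
  rw [hζ1, one_mul] at e5
  rw [e3, e5, hωeq] at e4
  exact mul_right_cancel₀ (Cfsg.Agent.Helper24.irr_one_ne_zero φ) e4

end Cfsg.Agent.S5001
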