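import Cfsg.Statements.S5011
import Mathlib

set_option autoImplicit false
open Cfsg

namespace Cfsg.Agent.S5011

/-- Let G be a finite non-abelian simple group and ρ an irreducible complex representation of G on a space of dimension greater than one (irreducible in the sense that the only subspaces invariant under every ρ(x) are 0 and the whole space). Then for every non-identity element g of G, the centralizer of g does not act irreducibly: there is a non-zero proper subspace invariant under ρ(c) for every c commuting with g. -/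
theorem result {G : Type*} [Group G] [Finite G] [IsSimpleGroup G]
    (hG : ¬ IsMulCommutative G) {V : Type*} [AddCommGroup V] [Module ℂ V] [FiniteDimensional ℂ V]
    (ρ : Representation ℂ G V)
    (hirr : ∀ W : Submodule ℂ V, (∀ x : G, ∀ v ∈ W, ρ x v ∈ W) → W = ⊥ ∨ W = ⊤)
    (hdim : 1 < Module.finrank ℂ V) (g : G) (hg : g ≠ 1) :
    ∃ W : Submodule ℂ V, W ≠ ⊥ ∧ W ≠ ⊤ ∧ ∀ c ∈ Subgroup.centralizer ({g} : Set G), ∀ v ∈ W, ρ c v ∈ W := by
  classical
  have hnt : Nontrivial V := Module.nontrivial_of_finrank_pos (R := ℂ) (by omega)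
  -- the eigenspace of ρ x is invariant under every operator commuting with ρ x
  have hinv : ∀ (x : G) (μ : ℂ) (c : G), ρ c * ρ x = ρ x * ρ c →
      ∀ v ∈ Module.End.eigenspace (ρ x) μ, ρ c v ∈ Module.End.eigenspace (ρ x) μ := by
    intro x μ c hc v hv
    rw [Module.End.mem_eigenspace_iff] at hv ⊢
    have h1 : ρ x (ρ c v) = ρ c (ρ x v) := by
      have e1 : ρ x (ρ c v) = (ρ x * ρ c) v := rfl
      have e2 : ρ c (ρ x v) = (ρ c * ρ x) v := rfl
      rw [e1, e2, hc]
    rw [h1, hv, map_smul]
  obtain ⟨μ, hμ⟩ := Module.End.exists_eigenvalue (ρ g)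
  refine ⟨Module.End.eigenspace (ρ g) μ, hμ, ?_, ?_⟩
  · intro htop
    -- ρ g is scalar; the set of x with ρ x central in the image is a normal subgroup
    let N : Subgroup G :=
      { carrier := {x | ∀ y : G, ρ x * ρ y = ρ y * ρ x}
        one_mem' := by intro y; simp
        mul_mem' := by
          intro a b ha hb y
          rw [map_mul, mul_assoc, hb y, ← mul_assoc, ha y, mul_assoc]
        inv_mem' := by
          intro a ha y
          have h1 : ρ a⁻¹ * ρ a = 1 := by rw [← map_mul, inv_mul_cancel, map_one]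
          have h2 : ρ a * ρ a⁻¹ = 1 := by rw [← map_mul, mul_inv_cancel, map_one]
          calc ρ a⁻¹ * ρ y = ρ a⁻¹ * ρ y * (ρ a * ρ a⁻¹) := by rw [h2, mul_one]
            _ = ρ a⁻¹ * (ρ y * ρ a) * ρ a⁻¹ := by simp only [mul_assoc]
            _ = ρ a⁻¹ * (ρ a * ρ y) * ρ a⁻¹ := by rw [ha y]
            _ = (ρ a⁻¹ * ρ a) * ρ y * ρ a⁻¹ := by simp only [mul_assoc]
            _ = ρ y * ρ a⁻¹ := by rw [h1, one_mul] }
    have hNn : N.Normal := by
      refine ⟨fun x hx y z => ?_⟩
      have hx' : ∀ w : G, ρ x * ρ w = ρ w * ρ x := hx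
      have h1 : ρ (y * x * y⁻¹) = ρ x := by
        rw [map_mul, map_mul, ← hx' y, mul_assoc, ← map_mul, mul_inv_cancel, map_one, mul_one]
      show ρ (y * x * y⁻¹) * ρ z = ρ z * ρ (y * x * y⁻¹)
      rw [h1]; exact hx' z
    have hgN : g ∈ N := by
      intro y
      apply LinearMap.ext
      intro v
      have h1 : ∀ w : V, ρ g w = μ • w := by
        intro w
        have : w ∈ Module.End.eigenspace (ρ g) μ := by rw [htop]; trivial
        exact Module.End.mem_eigenspace_iff.mp this
      show ρ g (ρ y v) = ρ y (ρ g v)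
      rw [h1, h1, map_smul]
    have hNtop : N = ⊤ := by
      refine (hNn.eq_bot_or_eq_top).resolve_left ?_
      intro hbot
      rw [hbot, Subgroup.mem_bot] at hgN
      exact hg hgN
    -- every ρ x is scalar
    have hscalar : ∀ x : G, ∃ ν : ℂ, ∀ v : V, ρ x v = ν • v := by
      intro x
      obtain ⟨ν, hν⟩ := Module.End.exists_eigenvalue (ρ x)
      refine ⟨ν, fun v => ?_⟩
      have hxN : x ∈ N := by rw [hNtop]; trivial
      have hE : Module.End.eigenspace (ρ x) ν = ⊤ := by
        refine (hirr _ ?_).resolve_left hν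
        intro c v hv
        exact hinv x ν c (hxN c).symm v hv
      have : v ∈ Module.End.eigenspace (ρ x) ν := by rw [hE]; trivial
      exact Module.End.mem_eigenspace_iff.mp this
    -- a line is invariant
    obtain ⟨v, hv⟩ := exists_ne (0 : V)
    have hline : (ℂ ∙ v) = ⊥ ∨ (ℂ ∙ v) = ⊤ := by
      apply hirr
      intro x w hw
      obtain ⟨ν, hν⟩ := hscalar x
      rw [hν]
      exact Submodule.smul_mem _ _ hw
    rcases hline with h | h
    · rw [Submodule.span_singleton_eq_bot] at h
      exact hv h
    · have h1 : Module.finrank ℂ (ℂ ∙ v) = 1 := finrank_span_singleton hv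
      rw [h, finrank_top] at h1
      omega
  · intro c hc v hv
    apply hinv g μ c _ v hv
    have := Subgroup.mem_centralizer_iff.mp hc g rfl
    rw [← map_mul, ← map_mul, this]

end Cfsg.Agent.S5011
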