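import Cfsg.Statements.S5015
import Cfsg.Agent.Helper25.RankOne

set_option autoImplicit false
open Cfsg

namespace Cfsg.Agent.S5015

/-- Let a group Y act doubly transitively on a set Ω with at least three points, and suppose that the stabilizer of a point α contains a nilpotent subgroup A, normalized by that stabilizer, which acts regularly on the points other than α. Then for any y in Y moving α, the subgroups A and y A y⁻¹ are the unipotent subgroups of a rank one group, and the normal closure of A in Y (the subgroup generated by all conjugates of A) is generated by A and y A y⁻¹ alone. -/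
theorem result {Y Ω : Type*} [Group Y] [MulAction Y Ω]
    (h2 : MulAction.IsMultiplyPretransitive Y Ω 2) (hΩ : 3 ≤ ENat.card Ω) (α : Ω) (A : Subgroup Y)
    (hA : A ≤ MulAction.stabilizer Y α) (hAn : ∀ y ∈ MulAction.stabilizer Y α, Cfsg.conjBy A y = A)
    (hnil : Group.IsNilpotent A) (hreg : ∀ β γ : Ω, β ≠ α → γ ≠ α → ∃! a : Y, a ∈ A ∧ a • β = γ)
    (y : Y) (hy : y ∉ MulAction.stabilizer Y α) :
    Cfsg.IsRankOnePair A (Cfsg.conjBy A y) ∧ Subgroup.normalClosure (A : Set Y) = A ⊔ Cfsg.conjBy A y := by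
  open Cfsg.Agent.Helper25 in
  -- well-definedness: the conjugate of A only depends on the image of α
  have hwd : ∀ g g' : Y, g • α = g' • α → Cfsg.conjBy A g = Cfsg.conjBy A g' := by
    intro g g' hgg
    rw [conjBy_eq_conjBy_iff, ← conjBy_eq_self_iff]
    apply hAn
    rw [MulAction.mem_stabilizer_iff, mul_smul, hgg, inv_smul_smul]
  have hfix : ∀ a ∈ A, a • α = α := fun a ha => MulAction.mem_stabilizer_iff.mp (hA ha)
  -- non-identity elements of A act freely away from α
  have hfree : ∀ a ∈ A, a ≠ 1 → ∀ β : Ω, β ≠ α → a • β ≠ β := by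
    intro a ha ha1 β hβ he
    obtain ⟨c, -, hc⟩ := hreg β β hβ hβ
    have h1 := hc a ⟨ha, he⟩
    have h2 := hc 1 ⟨A.one_mem, one_smul _ _⟩
    exact ha1 (h1.trans h2.symm)
  have hyα : y • α ≠ α := fun he => hy (MulAction.mem_stabilizer_iff.mpr he)
  have hyα' : y⁻¹ • α ≠ α := by
    intro he
    apply hyα
    rw [← he, smul_inv_smul, he]
  -- a third point
  have hthird : ∃ γ : Ω, γ ≠ α ∧ γ ≠ y • α := by
    by_contra hcon
    push Not at hcon
    have hsub : (Set.univ : Set Ω) ⊆ {α, y • α} := by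
      intro γ _
      by_cases hγ : γ = α
      · left; exact hγ
      · right; exact hcon γ hγ
    have h3 : ENat.card Ω ≤ 2 := by
      rw [← Set.encard_univ]
      refine (Set.encard_le_encard hsub).trans ?_
      rw [Set.encard_pair hyα.symm]
    have : (3 : ℕ∞) ≤ 2 := hΩ.trans h3
    exact absurd this (by decide)
  have hB : ∀ b : Y, b ∈ Cfsg.conjBy A y ↔ ∃ a ∈ A, b = y * a * y⁻¹ := by
    intro b
    rw [mem_conjBy_iff]
    constructor
    · intro hb; exact ⟨_, hb, by simp [mul_assoc]⟩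
    · rintro ⟨a, ha, rfl⟩; simpa [mul_assoc] using ha
  have hne : A ≠ Cfsg.conjBy A y := by
    intro he
    obtain ⟨γ, hγα, hγβ⟩ := hthird
    obtain ⟨a, ⟨haA, haγ⟩, -⟩ := hreg (y • α) γ hyα hγα
    rw [he, hB] at haA
    obtain ⟨a', ha', rfl⟩ := haA
    apply hγβ
    rw [← haγ, mul_smul, mul_smul, inv_smul_smul, hfix a' ha']
  refine ⟨⟨hne, hnil, conjBy_isNilpotent hnil y, ?_, ?_⟩, ?_⟩
  · -- cond_left
    intro a ha ha1
    have ha1' : a⁻¹ ≠ 1 := by simpa using ha1
    have hp : (y⁻¹ * a⁻¹ * y) • α ≠ α := by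
      intro he
      apply hfree a⁻¹ (A.inv_mem ha) ha1' (y • α) hyα
      have : y • ((y⁻¹ * a⁻¹ * y) • α) = y • α := by rw [he]
      simpa [mul_smul] using this
    obtain ⟨a'', ⟨ha'', hact⟩, -⟩ := hreg (y⁻¹ • α) ((y⁻¹ * a⁻¹ * y) • α) hyα' hp
    refine ⟨y * a''⁻¹ * y⁻¹, (hB _).mpr ⟨a''⁻¹, A.inv_mem ha'', rfl⟩, ?_, ?_⟩
    · intro he
      have h1 : a'' = 1 := by
        have : a''⁻¹ = 1 := by
          have h2 : y⁻¹ * (y * a''⁻¹ * y⁻¹) * y = y⁻¹ * 1 * y := by rw [he]
          simpa [mul_assoc] using h2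
        simpa using this
      rw [h1, one_smul] at hact
      apply hyα
      have h3 : y • (y⁻¹ • α) = y • ((y⁻¹ * a⁻¹ * y) • α) := by rw [hact]
      rw [smul_inv_smul] at h3
      have h4 : y • ((y⁻¹ * a⁻¹ * y) • α) = a⁻¹ • (y • α) := by simp [mul_smul]
      rw [h4] at h3
      have h5 : a • α = a • (a⁻¹ • (y • α)) := by rw [← h3]
      rw [smul_inv_smul, hfix a ha] at h5
      exact h5.symm
    · rw [conjBy_conjBy]
      apply hwd
      have : (y * a''⁻¹ * y⁻¹)⁻¹ = y * a'' * y⁻¹ := by simp [mul_assoc]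
      rw [this, mul_smul, mul_smul, hact]
      simp [mul_smul]
  · -- cond_right
    intro b hb hb1
    obtain ⟨a', ha', rfl⟩ := (hB b).mp hb
    have ha'1 : a'⁻¹ ≠ 1 := by
      intro he
      apply hb1
      have : a' = 1 := by simpa using he
      rw [this]; simp
    have hinv : (y * a' * y⁻¹)⁻¹ = y * a'⁻¹ * y⁻¹ := by simp [mul_assoc]
    have hp : (y * a' * y⁻¹)⁻¹ • α ≠ α := by
      rw [hinv]
      intro he
      apply hfree a'⁻¹ (A.inv_mem ha') ha'1 (y⁻¹ • α) hyα'
      have : y⁻¹ • ((y * a'⁻¹ * y⁻¹) • α) = y⁻¹ • α := by rw [he]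
      simpa [mul_smul] using this
    obtain ⟨a₀, ⟨ha₀, hact⟩, -⟩ := hreg (y • α) ((y * a' * y⁻¹)⁻¹ • α) hyα hp
    refine ⟨a₀⁻¹, A.inv_mem ha₀, ?_, ?_⟩
    · intro he
      have h1 : a₀ = 1 := by simpa using he
      rw [h1, one_smul, hinv] at hact
      apply hyα'
      have h2 : y⁻¹ • (y • α) = y⁻¹ • ((y * a'⁻¹ * y⁻¹) • α) := by rw [hact]
      rw [inv_smul_smul] at h2
      have h3 : y⁻¹ • ((y * a'⁻¹ * y⁻¹) • α) = a'⁻¹ • (y⁻¹ • α) := by simp [mul_smul]
      rw [h3] at h2
      have h4 : a' • α = a' • (a'⁻¹ • (y⁻¹ • α)) := by rw [← h2]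
      rw [smul_inv_smul, hfix a' ha'] at h4
      exact h4.symm
    · rw [inv_inv, conjBy_conjBy]
      apply hwd
      rw [mul_smul, hact]
  · -- normal closure
    apply le_antisymm
    · rw [Subgroup.normalClosure, Subgroup.closure_le]
      intro x hx
      rw [Group.mem_conjugatesOfSet_iff] at hx
      obtain ⟨a, ha, hconj⟩ := hx
      rw [isConj_iff] at hconj
      obtain ⟨c, rfl⟩ := hconj
      have hmem : c * a * c⁻¹ ∈ Cfsg.conjBy A c := conj_mem_conjBy ha
      have hle : Cfsg.conjBy A c ≤ A ⊔ Cfsg.conjBy A y := by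
        by_cases hc : c • α = α
        · have : Cfsg.conjBy A c = A := hAn c (MulAction.mem_stabilizer_iff.mpr hc)
          rw [this]; exact le_sup_left
        · obtain ⟨a₁, ⟨ha₁, hact⟩, -⟩ := hreg (y • α) (c • α) hyα hc
          have : Cfsg.conjBy A c = Cfsg.conjBy A (a₁ * y) := by
            apply hwd; rw [mul_smul, hact]
          rw [this, ← conjBy_conjBy]
          exact conjBy_le_of_mem le_sup_right (Subgroup.mem_sup_left ha₁)
      exact hle hmem
    · apply sup_le Subgroup.le_normalClosure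
      intro x hx
      obtain ⟨a, ha, rfl⟩ := (hB x).mp hx
      exact (Subgroup.normalClosure_normal).conj_mem a (Subgroup.le_normalClosure ha) y

end Cfsg.Agent.S5015
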