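import Cfsg.Statements.S5026
import Cfsg.Agent.Helper25.RootBasic

set_option autoImplicit false
open Cfsg

namespace Cfsg.Agent.S5026

/-- Let S be a degenerate set of abstract root subgroups of G (a set of abstract transvection groups) and let a, b be commuting non-identity elements of members of S with a b ≠ 1. Then the members of S centralizing a b are exactly those centralizing both a and b. -/
theorem result {G : Type*} [Group G] {S : Set (Subgroup G)} (hS : Cfsg.IsRootSubgroupSet S) (hdeg : Cfsg.IsDegenerateRootSet S)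
    {a b : G} (ha : a ∈ Cfsg.rootElements S) (hb : b ∈ Cfsg.rootElements S) (hab : a * b = b * a) (hab1 : a * b ≠ 1) :
    Cfsg.centralizingMembers S (Subgroup.zpowers (a * b)) =
      Cfsg.centralizingMembers S (Subgroup.zpowers a) ∩ Cfsg.centralizingMembers S (Subgroup.zpowers b) := by
  open Cfsg.Agent.Helper25 in
  have hz : ∀ (C : Subgroup G) (g : G), C ≤ Subgroup.centralizer ((Subgroup.zpowers g : Subgroup G) : Set G) ↔
      ∀ c ∈ C, c * g = g * c := by
    intro C g
    constructor
    · intro h c hc
      have := Subgroup.mem_centralizer_iff.mp (h hc) g (Subgroup.mem_zpowers g)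
      exact this.symm
    · intro h c hc
      rw [Subgroup.mem_centralizer_iff]
      rintro x ⟨n, rfl⟩
      have : Commute c g := h c hc
      exact ((this.zpow_right n).eq).symm
  obtain ⟨ha1, A, hA, haA⟩ := ha
  obtain ⟨hb1, B, hB, hbB⟩ := hb
  ext C
  simp only [Cfsg.centralizingMembers, Set.mem_ofPred_eq, Set.mem_inter_iff]
  rw [hz, hz, hz]
  constructor
  · rintro ⟨hC, hCab⟩
    have h1 := root_centralizes_left_of_mul hS hdeg hA hB hC haA ha1 hbB hb1 hab hab1 hCab
    have hba1 : b * a ≠ 1 := by rw [← hab]; exact hab1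
    have hCba : ∀ c ∈ C, c * (b * a) = (b * a) * c := by rw [← hab]; exact hCab
    have h2 := root_centralizes_left_of_mul hS hdeg hB hA hC hbB hb1 haA ha1 hab.symm hba1 hCba
    exact ⟨⟨hC, h1⟩, ⟨hC, h2⟩⟩
  · rintro ⟨⟨hC, h1⟩, ⟨-, h2⟩⟩
    refine ⟨hC, ?_⟩
    intro c hc
    rw [← mul_assoc, h1 c hc, mul_assoc, h2 c hc, mul_assoc]

end Cfsg.Agent.S5026
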