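import Cfsg.Statements.S5033
import Cfsg.Agent.Helper4.S5033Defs
import Cfsg.Agent.Helper5.S5033L0
import Cfsg.Agent.Helper3.S5033L2
import Cfsg.Agent.Helper9.S5033QS
import Cfsg.Agent.Helper22.S5033L4
import Cfsg.Agent.Helper4.S5033L5

set_option autoImplicit false
open Cfsg

namespace Cfsg.Agent.S5033

/-- Quasisimplicity criterion for groups generated by abstract root subgroups. Let S be a set of abstract root subgroups of G with more than one member such that: the graph of rank one pairs on S is connected; no two different members of S have the same set of commuting members of S; if S is degenerate then every member of S has more than three elements; and every rank one pair in S is special. Then for every A ∈ S one has G = G' A with A ∩ G' ≠ 1, and the commutator subgroup G' is quasisimple. Moreover G is perfect if S is non-degenerate, or if some rank one pair A, B in S generates a perfect group. -/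
theorem result {G : Type*} [Group G] {S : Set (Subgroup G)} (hS : Cfsg.IsRootSubgroupSet S) (h2 : ∃ A ∈ S, ∃ B ∈ S, A ≠ B)
    (h1 : Cfsg.IsConnectedFamily (Cfsg.FAdj S) S)
    (h2' : ∀ A ∈ S, ∀ C ∈ S, A ≠ C → Cfsg.centralizingMembers S A ≠ Cfsg.centralizingMembers S C)
    (h3 : Cfsg.IsDegenerateRootSet S → ∀ A ∈ S, 3 < ENat.card A)
    (h4 : ∀ A ∈ S, ∀ B ∈ Cfsg.rankOnePartners S A, Cfsg.IsSpecialRankOnePair A B) :
    (∀ A ∈ S, commutator G ⊔ A = ⊤ ∧ A ⊓ commutator G ≠ ⊥) ∧ Cfsg.IsQuasisimple ↥(commutator G) ∧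
    (Cfsg.IsNondegenerateRootSet S → commutator G = ⊤) ∧
    ((∃ A ∈ S, ∃ B ∈ Cfsg.rankOnePartners S A, Group.IsPerfect ↥(A ⊔ B)) → commutator G = ⊤) := by
  have H : Cfsg.Agent.S5033P.Hyp S := ⟨hS, h2, h1, h2', h3, h4⟩
  refine ⟨fun A hA => ⟨Cfsg.Agent.S5033P.L0.sup_eq_top H hA, Cfsg.Agent.S5033P.L2.inf_ne_bot H hA⟩, ?_, ?_,
    Cfsg.Agent.S5033P.L2.top_of_perfect H⟩
  · apply Cfsg.Agent.S5033P.QS
    · obtain ⟨A, hA, -⟩ := h2
      intro hb
      apply Cfsg.Agent.S5033P.L2.inf_ne_bot H hA
      rw [hb, inf_bot_eq]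
    · exact Cfsg.Agent.S5033P.L4 H
    · intro K hK hn
      by_cases hne : K = commutator G
      · exact Or.inl hne
      · exact Or.inr (Cfsg.Agent.S5033P.L5 H hK hn hne)
  · intro hnd
    apply Cfsg.Agent.S5033P.L2.top_of_not_degenerate H
    intro hdeg
    obtain ⟨A, hA, B, hB, hc⟩ := hnd.2.2
    exact hdeg A hA B hB hc

end Cfsg.Agent.S5033
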