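import Cfsg.Statements.S5039
import Cfsg.Agent.Helper4.S5039NOTWIN
import Cfsg.Agent.Helper11.S5039CARD
import Cfsg.Agent.S5034

set_option autoImplicit false
universe u
open Cfsg

namespace Cfsg.Agent.S5039

/-- Let S be a class of abstract root subgroups of G containing two different commuting members. Suppose that, in case S is degenerate and every element of every member of S has order at most 3, the following holds: for every A ∈ S and every rank one partner B of A there are subgroups A₀ ≤ A and B₀ ≤ B generating an image of SL₂(k) with central kernel, k a field with at least four elements, A₀ and B₀ being the images of the unitriangular subgroups. Then every rank one pair A, B in S is special. -/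
theorem result {G : Type u} [Group G] {S : Set (Subgroup G)} (hS : Cfsg.IsRootSubgroupClass S)
    (hcomm : ∃ A ∈ S, ∃ C ∈ S, A ≠ C ∧ ⁅A, C⁆ = ⊥)
    (hH : Cfsg.IsDegenerateRootSet S → (∀ A ∈ S, ∀ a ∈ A, 0 < orderOf a ∧ orderOf a ≤ 3) →
      ∀ A ∈ S, ∀ B ∈ Cfsg.rankOnePartners S A, ∃ A₀ B₀ : Subgroup G, A₀ ≤ A ∧ B₀ ≤ B ∧
        ∃ (k : Type u) (_ : Field k), 3 < ENat.card k ∧ Cfsg.IsPSL2PairOver k A₀ B₀)
    {A B : Subgroup G} (hA : A ∈ S) (hB : B ∈ Cfsg.rankOnePartners S A) : Cfsg.IsSpecialRankOnePair A B := by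
  by_cases hdeg : Cfsg.IsDegenerateRootSet S
  · -- some member different from `A` commutes with `A`
    have hSig : ∃ C₀ ∈ S, C₀ ≠ A ∧ ⁅A, C₀⁆ = ⊥ := by
      obtain ⟨A₁, hA₁, C₁, hC₁, hne, hc⟩ := hcomm
      obtain ⟨g, rfl⟩ := hS.2.2 A₁ hA₁ A hA
      refine ⟨Cfsg.conjBy C₁ g, hS.1.conj_mem C₁ hC₁ g, ?_, ?_⟩
      · intro h
        exact hne (Cfsg.Agent.Helper25.conjBy_injective g h).symm
      · rw [Subgroup.commutator_eq_bot_iff_le_centralizer,
          Cfsg.Agent.Helper29.RootOrder.le_centralizer_iff_comm]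
        apply Cfsg.Agent.Helper29.RootOrder.comm_conjBy
        rw [← Cfsg.Agent.Helper29.RootOrder.le_centralizer_iff_comm,
          ← Subgroup.commutator_eq_bot_iff_le_centralizer]
        exact hc
    obtain ⟨C, hC, hCA, hCc, hCB⟩ := Cfsg.Agent.S5039P.NOTWIN hS hdeg
      (fun E hE e₀ _ => Cfsg.Agent.S5039P.CARD_pick hS hH hdeg hA hB E hE e₀) hA hB.1 hB.2 hSig
    exact Cfsg.Agent.S5039P.TL_special hS.1 ⟨hA, hC, hB.1, fun h => hCA h.symm, hCc, hB.2, hCB⟩
  · have hnd : Cfsg.IsNondegenerateRootSet S := by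
      refine ⟨hcomm, ⟨A, hA, B, hB.1, hB.2⟩, ?_⟩
      unfold Cfsg.IsDegenerateRootSet at hdeg
      push Not at hdeg
      exact hdeg
    exact (Cfsg.Agent.S5034.result hS hnd hA hB).2

end Cfsg.Agent.S5039
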