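import Cfsg.Statements.S5049
import Cfsg.Agent.Helper25.OddTransp

set_option autoImplicit false
open Cfsg

namespace Cfsg.Agent.S5049

/-- Let G be a finite group generated by a set D of odd transpositions (root involutions with no product of order 4), Q = O₂(G), and for a ∈ D let Q_a be the commutator subgroup of Q with a. Then every member of D commuting with a centralizes Q_a; and for b ∈ D with ab of odd order greater than 1, the centralizer of ab in Q is the intersection of the centralizers of a and b in Q. -/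
theorem result {G : Type*} [Group G] [Finite G] {D : Set G} (hD : Cfsg.IsOddTranspositionSet D) {a : G} (ha : a ∈ D) :
    (∀ e ∈ Cfsg.commutingMembers D a, ∀ q ∈ ⁅Cfsg.pCore 2 G, Subgroup.zpowers a⁆, e * q = q * e) ∧
    (∀ b ∈ Cfsg.oddPartners D a,
      Cfsg.pCore 2 G ⊓ Subgroup.centralizer {a * b} = Cfsg.pCore 2 G ⊓ Subgroup.centralizer {a} ⊓ Subgroup.centralizer {b}) := by
  open Cfsg.Agent.Helper25 in
  have hQ : IsPGroup 2 (Cfsg.pCore 2 G) := Cfsg.Agent.Helper14.pCore_isPGroup 2
  have hQn : (Cfsg.pCore 2 G).Normal := Cfsg.Agent.Helper14.pCore_normal 2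
  refine ⟨?_, ?_⟩
  · rintro e ⟨heD, hea⟩ q hq
    exact oddTransp_centralizes_commutator hD hQ ha heD hea q hq
  · rintro b ⟨hbD, hne, hodd⟩
    ext q
    simp only [Subgroup.mem_inf, Subgroup.mem_centralizer_iff, Set.mem_singleton_iff, forall_eq]
    constructor
    · rintro ⟨hq, hqab⟩
      have h1 : q * a = a * q := oddTransp_commute_left_of_mul hD hQ ha hbD hne hodd hq hqab.symm
      refine ⟨⟨hq, h1.symm⟩, ?_⟩
      -- b = a⁻¹ * (a * b)
      have h2 : a * (b * q) = a * (q * b) := by
        rw [← mul_assoc, hqab, ← mul_assoc, h1, mul_assoc]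
      exact mul_left_cancel h2
    · rintro ⟨⟨hq, hqa⟩, hqb⟩
      refine ⟨hq, ?_⟩
      rw [mul_assoc, hqb, ← mul_assoc, hqa, mul_assoc]

end Cfsg.Agent.S5049
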