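import Cfsg.Statements.S5059
import Cfsg.Agent.Helper25.QuadPair

set_option autoImplicit false
universe u
open Cfsg

namespace Cfsg.Agent.S5059

/-- Let k be a field of characteristic not 2 with k not of order 3, M a finite-dimensional k-vector space and G ≤ GL(M) such that (G, M) is a quadratic pair (M irreducible for G, and G generated by its quadratically acting elements σ whose scalar family 1 + c(σ − 1), c ∈ k, lies in G). Write 𝒬_d for the quadratic elements of G of minimal commutator rank, E(σ) for the subgroup generated by the members of 𝒬_d with the same fixed space and commutator space as σ, and Σ for the set of these subgroups. Then for σ ∈ 𝒬_d the subgroup E(σ) consists exactly of those members together with the identity, it is abelian, and if k has prime characteristic p every element of E(σ) has order dividing p. -/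
theorem result {k : Type u} [Field k] (hk2 : ringChar k ≠ 2) (hk3 : Nat.card k ≠ 3)
    {M : Type u} [AddCommGroup M] [Module k M] [FiniteDimensional k M]
    {G : Subgroup (LinearMap.GeneralLinearGroup k M)} (hG : Cfsg.IsQuadraticPair G)
    {σ : LinearMap.GeneralLinearGroup k M} (hσ : σ ∈ Cfsg.minimalQuadraticElements G) :
    (Cfsg.sameActionSubgroup G σ : Set (LinearMap.GeneralLinearGroup k M)) = Cfsg.sameActionClass G σ ∪ {1} ∧
    IsMulCommutative ↥(Cfsg.sameActionSubgroup G σ) ∧
    (∀ p : ℕ, p.Prime → ringChar k = p → ∀ x ∈ Cfsg.sameActionSubgroup G σ, x ^ p = 1) := by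
  have hE := Cfsg.Agent.Helper25.QuadPair.sameActionSubgroup_eq hσ
  have hmem : ∀ x, x ∈ Cfsg.sameActionSubgroup G σ ↔ x ∈ Cfsg.sameActionClass G σ ∨ x = 1 := by
    intro x
    rw [hE]
    exact Iff.rfl
  refine ⟨?_, ?_, ?_⟩
  · rw [hE]
    rfl
  · refine ⟨⟨?_⟩⟩
    rintro ⟨a, ha⟩ ⟨b, hb⟩
    apply Subtype.ext
    show a * b = b * a
    rcases (hmem a).1 ha with ha | rfl <;> rcases (hmem b).1 hb with hb | rfl
    · exact Cfsg.Agent.Helper25.QuadPair.commute_of_mem hσ ha hb
    · simp
    · simp
    · simp
  · intro p _ hchar x hx
    rcases (hmem x).1 hx with hx | rfl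
    · apply Units.ext
      rw [Units.val_pow_eq_pow_val, Units.val_one]
      have hxx := Cfsg.Agent.Helper25.QuadPair.mul_eq_zero_of_mem hσ hx hx
      have e : (x : Module.End k M) = 1 + ((x : Module.End k M) - 1) := by abel
      have hp0 : (p : k) = 0 := by
        haveI := ringChar.charP k
        rw [← hchar]
        exact CharP.cast_eq_zero k (ringChar k)
      rw [e, Cfsg.Agent.Helper25.QuadPair.one_add_pow_of_sq_zero _ hxx, hp0, zero_smul, add_zero]
    · simp

end Cfsg.Agent.S5059
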