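import Cfsg.Statements.S5063
import Cfsg.Agent.Helper1.QP63FINAL
import Cfsg.Agent.S5074
import Cfsg.Agent.Helper12.QP74PEEL
import Cfsg.Agent.Helper9.QPCASE2
import Cfsg.Agent.Helper23.QPTRANS

set_option autoImplicit false
universe u
open Cfsg

namespace Cfsg.Agent.S5063

/-- Let k be a field of characteristic not 2 with k not of order 3, M a finite-dimensional k-vector space and G ≤ GL(M) such that (G, M) is a quadratic pair (M irreducible for G, and G generated by its quadratically acting elements σ whose scalar family 1 + c(σ − 1), c ∈ k, lies in G). Write 𝒬_d for the quadratic elements of G of minimal commutator rank, E(σ) for the subgroup generated by the members of 𝒬_d with the same fixed space and commutator space as σ, and Σ for the set of these subgroups. Then G is a central product of finitely many quasisimple normal subgroups G₁, …, G_s (pairwise commuting and together generating G), each generated by the quadratic elements of G it contains, and every quadratic element of G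 lies in one of them. -/
theorem result {k : Type u} [Field k] (hk2 : ringChar k ≠ 2) (hk3 : Nat.card k ≠ 3)
    {M : Type u} [AddCommGroup M] [Module k M] [FiniteDimensional k M]
    {G : Subgroup (LinearMap.GeneralLinearGroup k M)} (hG : Cfsg.IsQuadraticPair G) :
    ∃ (s : ℕ) (Gi : Fin s → Subgroup (LinearMap.GeneralLinearGroup k M)),
      (∀ i, Gi i ≤ G ∧ ∀ g ∈ G, Cfsg.conjBy (Gi i) g = Gi i) ∧ (∀ i j, i ≠ j → ⁅Gi i, Gi j⁆ = ⊥) ∧ (⨆ i, Gi i) = G ∧
      (∀ i, Cfsg.IsQuasisimple ↥(Gi i) ∧ Subgroup.closure (Cfsg.quadraticElements G ∩ (Gi i : Set (LinearMap.GeneralLinearGroup k M))) = Gi i) ∧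
      Cfsg.quadraticElements G ⊆ ⋃ i, (Gi i : Set (LinearMap.GeneralLinearGroup k M)) := by
  refine Cfsg.Agent.QP63.FINAL hk2 hk3 ?_ ?_ ?_ (Module.finrank k M) M G rfl hG
  · intro M' _ _ _ G' hG'
    exact Cfsg.Agent.S5074.result hk2 hk3 hG'
  · intro M' _ _ _ G' σ₀ hG' hσ₀ a b ha hb hnil
    obtain ⟨a₁, a₀, h1, h2, h3, h4, h5, h6⟩ :=
      Cfsg.Agent.QP74.PEEL hk2 hk3 (Cfsg.Agent.QPP.TRANS_Qd hσ₀).1 ha hb hnil
    exact ⟨a₁, a₀, h1, h2, h3, h4, Or.inr h5, h6⟩
  · intro M' _ _ _ G' σ₀ hG' hσ₀ a ha hnil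
    exact Cfsg.Agent.QPP.CASE2 hk2 hk3 hG'.1 (Cfsg.Agent.QPP.TRANS_Qd hσ₀).1 ha hnil

end Cfsg.Agent.S5063
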