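import Cfsg.Statements.S5085
import Cfsg.Agent.Helper25.FusionBasic

set_option autoImplicit false
open Cfsg

namespace Cfsg.Agent.S5085

open Cfsg.Agent.Helper25

/-- In any fusion system, a characteristic subgroup of a subgroup that is normal in the system is itself normal in the system. -/
theorem result {Ω : Type*} [Group Ω] {S : Subgroup Ω} (F : Cfsg.FusionSystem S) (Q U : Subgroup Ω) (hQ : F.IsNormal Q) (hUQ : U ≤ Q) (hU : (U.subgroupOf Q).Characteristic) : F.IsNormal U := by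
  refine ⟨hUQ.trans hQ.1, ?_⟩
  intro P φ hφ
  obtain ⟨ψ, hψ, hψP, hψQ⟩ := hQ.2 P φ hφ
  have hle : P ⊔ U ≤ P ⊔ Q := sup_le_sup_left hUQ P
  refine ⟨ψ.comp (Subgroup.inclusion hle), restrict_mem F hle hψ, ?_, ?_⟩
  · intro x
    rw [← hψP x]
    rfl
  · -- the automorphism of Q induced by ψ
    have hinj : Function.Injective ψ := F.injective_of_mem hψ
    have hQle : Q ≤ P ⊔ Q := le_sup_right
    have hval : ∀ x : Q, ψ (Subgroup.inclusion hQle x) ∈ Q := by
      intro x
      have h : ψ (Subgroup.inclusion hQle x) ∈ (Q.subgroupOf (P ⊔ Q)).map ψ :=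
        ⟨Subgroup.inclusion hQle x, x.2, rfl⟩
      rw [hψQ] at h
      exact h
    let α₀ : Q →* Q := (ψ.comp (Subgroup.inclusion hQle)).codRestrict Q hval
    have hα₀inj : Function.Injective α₀ := by
      intro x y hxy
      have : ψ (Subgroup.inclusion hQle x) = ψ (Subgroup.inclusion hQle y) := congrArg Subtype.val hxy
      exact Subgroup.inclusion_injective hQle (hinj this)
    have hα₀surj : Function.Surjective α₀ := by
      rintro ⟨y, hy⟩
      have hy' : y ∈ (Q.subgroupOf (P ⊔ Q)).map ψ := hψQ.symm ▸ hy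
      obtain ⟨x, hx, hxy⟩ := hy'
      refine ⟨⟨x, hx⟩, ?_⟩
      apply Subtype.ext
      show ψ (Subgroup.inclusion hQle ⟨x, hx⟩) = y
      rw [← hxy]
      rfl
    let α : Q ≃* Q := MulEquiv.ofBijective α₀ ⟨hα₀inj, hα₀surj⟩
    have hfix : (U.subgroupOf Q).map α.toMonoidHom = U.subgroupOf Q :=
      (Subgroup.characteristic_iff_map_eq.mp hU) α
    ext y
    constructor
    · rintro ⟨x, hx, rfl⟩
      have hxU : (x : Ω) ∈ U := hx
      have h1 : α ⟨x, hUQ hxU⟩ ∈ (U.subgroupOf Q).map α.toMonoidHom :=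
        ⟨⟨x, hUQ hxU⟩, hxU, rfl⟩
      rw [hfix] at h1
      exact h1
    · intro hy
      have hyQ : (⟨y, hUQ hy⟩ : Q) ∈ U.subgroupOf Q := hy
      rw [← hfix] at hyQ
      obtain ⟨x, hx, hxy⟩ := hyQ
      have hxU : (x : Ω) ∈ U := hx
      refine ⟨⟨x, (le_sup_right : U ≤ P ⊔ U) hxU⟩, hxU, ?_⟩
      have := congrArg Subtype.val hxy
      exact this

end Cfsg.Agent.S5085
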