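import Cfsg.Statements.S5100
import Cfsg.Agent.Helper25.FusionGroup

set_option autoImplicit false
open Cfsg

namespace Cfsg.Agent.S5100

open Cfsg.Agent.Helper25 Cfsg.FusionSystem

/-- In the fusion system of a finite group G on a Sylow p-subgroup S, a subgroup P ≤ S is fully normalized if and only if N_S(P) is a Sylow p-subgroup of N_G(P). -/
theorem result {G : Type*} [Group G] [Finite G] (p : ℕ) [Fact p.Prime] (S : Sylow p G) (P : Subgroup G) (hP : P ≤ S) : (Cfsg.groupFusionSystem (S : Subgroup G)).IsFullyNormalized P ↔ ∃ R : Sylow p ↥(Subgroup.normalizer (P : Set G)), (R : Subgroup ↥(Subgroup.normalizer (P : Set G))) = (Cfsg.FusionSystem.normalizerIn (S : Subgroup G) P).subgroupOf (Subgroup.normalizer (P : Set G)) := by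
  have key := fully_iff_sylow p S (fun Q => Subgroup.normalizer (Q : Set G))
    (fun Q g => normalizer_cj Q g) (fun Q => le_rfl) P hP
  have h2 := isSylowIn_iff_card p (normalizerIn (S : Subgroup G) P) (Subgroup.normalizer (P : Set G))
  have e : normalizerIn (S : Subgroup G) P ⊓ Subgroup.normalizer (P : Set G) =
      (S : Subgroup G) ⊓ Subgroup.normalizer (P : Set G) := by
    unfold normalizerIn
    rw [inf_assoc, inf_idem]
  rw [e] at h2
  unfold IsSylowIn at h2
  rw [h2, ← key]
  unfold IsFullyNormalized
  constructor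
  · intro h
    exact h.2
  · intro h
    exact ⟨hP, h⟩

end Cfsg.Agent.S5100
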