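import Cfsg.Statements.S5106
import Cfsg.Agent.S5088

set_option autoImplicit false
open Cfsg

namespace Cfsg.Agent.S5106

open Cfsg.Agent.Helper25 Cfsg.FusionSystem
open scoped commutatorElement

/-- In a saturated fusion system over a finite p-group S, a subgroup R ≤ S is normal in the system if and only if every map of the system whose source is a subgroup of R is the restriction of an element of Aut_F(R). -/
theorem result {Ω : Type*} [Group Ω] {S : Subgroup Ω} [Finite S] (p : ℕ) [Fact p.Prime] (hS : IsPGroup p S) (F : Cfsg.FusionSystem S) (hF : F.IsSaturated p) (R : Subgroup Ω) (hRS : R ≤ S) : F.IsNormal R ↔ ∀ (P : Subgroup Ω) (hPR : P ≤ R) (φ : P →* Ω), φ ∈ F.Hom P → ∃ α ∈ F.autGroup R, ∀ x : P, ((α (Subgroup.inclusion hPR x) : R) : Ω) = φ x := by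
  constructor
  · intro hR P hPR φ hφ
    obtain ⟨ψ, hψ, hext, hmap⟩ := hR.2 P φ hφ
    have hχ : ψ.comp (Subgroup.inclusion (le_sup_right : R ≤ P ⊔ R)) ∈ F.Hom R :=
      restrict_mem F le_sup_right hψ
    have hrange : (ψ.comp (Subgroup.inclusion (le_sup_right : R ≤ P ⊔ R))).range = R := by
      refine Eq.trans ?_ hmap
      ext y
      constructor
      · rintro ⟨x, rfl⟩
        exact ⟨Subgroup.inclusion le_sup_right x, x.2, rfl⟩
      · rintro ⟨x, hx, rfl⟩
        exact ⟨⟨x, hx⟩, rfl⟩
    set α : MulAut R := isoOfHom _ (F.injective_of_mem hχ) hrange with hα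
    refine ⟨α, Subgroup.subset_closure ?_, fun x => ?_⟩
    · show autHom α ∈ F.Hom R
      have : autHom α = ψ.comp (Subgroup.inclusion (le_sup_right : R ≤ P ⊔ R)) := by
        ext x; rfl
      rw [this]
      exact hχ
    · rw [← hext x]
      rfl
  · intro h
    have hfin : Finite R := finite_of_le hRS
    have hRp : IsPGroup p R := isPGroup_of_le hS hRS
    have hnil : Group.IsNilpotent R := hRp.isNilpotent
    refine (Cfsg.Agent.S5088.result p hS F hF R).mpr
      ⟨Group.nilpotencyClass R, fun i => (Subgroup.upperCentralSeries R i).map R.subtype,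
        ?_, ?_, ?_, ?_⟩
    · show (Subgroup.upperCentralSeries R ((0 : Fin (Group.nilpotencyClass R + 1)) : ℕ)).map
        R.subtype = ⊥
      rw [Fin.val_zero, Subgroup.upperCentralSeries_zero, Subgroup.map_bot]
    · show (Subgroup.upperCentralSeries R ((Fin.last (Group.nilpotencyClass R)) : ℕ)).map
        R.subtype = R
      rw [Fin.val_last, Subgroup.upperCentralSeries_nilpotencyClass, ← MonoidHom.range_eq_map,
        Subgroup.range_subtype]
    · intro i j hij
      exact Subgroup.map_mono (Subgroup.upperCentralSeries_mono R hij)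
    · intro i
      refine ⟨?_, ?_⟩
      · have hZR : (Subgroup.upperCentralSeries R ((i.succ : Fin _) : ℕ)).map R.subtype ≤ R := by
          rintro _ ⟨c, -, rfl⟩
          exact c.2
        refine ⟨hZR.trans hRS, fun R' hR' φ hφ x => ?_⟩
        obtain ⟨α, hα, hαφ⟩ := h R' (hR'.trans hZR) φ hφ
        obtain ⟨z, hz, hzx⟩ := hR' x.2
        have hCα : (Subgroup.upperCentralSeries R ((i.succ : Fin _) : ℕ)).map α.toMonoidHom =
            Subgroup.upperCentralSeries R ((i.succ : Fin _) : ℕ) :=
          Subgroup.characteristic_iff_map_eq.mp inferInstance α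
        have h1 : α z ∈ Subgroup.upperCentralSeries R ((i.succ : Fin _) : ℕ) := by
          have : α z ∈ (Subgroup.upperCentralSeries R ((i.succ : Fin _) : ℕ)).map α.toMonoidHom :=
            ⟨z, hz, rfl⟩
          rwa [hCα] at this
        refine ⟨α z, h1, ?_⟩
        rw [← hαφ x]
        show ((α z : R) : Ω) = ((α (Subgroup.inclusion (hR'.trans hZR) x) : R) : Ω)
        congr 2
        exact Subtype.ext hzx
      · rw [Subgroup.commutator_le]
        rintro g hg _ ⟨z, hz, rfl⟩
        have hz' : z ∈ Subgroup.upperCentralSeries R ((i : ℕ) + 1) := by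
          simpa using hz
        have h1 := Subgroup.mem_upperCentralSeries_succ_iff.mp hz' ⟨g, hg⟩
        have h2 := Subgroup.inv_mem _ h1
        refine ⟨_, (by simpa using h2), ?_⟩
        simp [commutatorElement_def, mul_assoc]

end Cfsg.Agent.S5106
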