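import Cfsg.Statements.S5107
import Cfsg.Agent.Helper25.FusionChain
import Cfsg.Agent.Helper25.StronglyEmb2
import Cfsg.Agent.S5076

set_option autoImplicit false
open Cfsg

namespace Cfsg.Agent.S5107

open Cfsg.Agent.Helper25 Cfsg.FusionSystem
open scoped commutatorElement

/-- If a Sylow p-subgroup S of a finite group G has nilpotency class at most two and its centre is strongly closed in S with respect to G, then every map of the fusion system of G on S is conjugation by an element of N_G(S), and S is the largest subgroup normal in that fusion system. -/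
theorem result {G : Type*} [Group G] [Finite G] (p : ℕ) [Fact p.Prime] (S : Sylow p G) (hcl : ⁅(S : Subgroup G), (S : Subgroup G)⁆ ≤ (S : Subgroup G) ⊓ Subgroup.centralizer ((S : Subgroup G) : Set G)) (hZ : Cfsg.IsStronglyClosed ((S : Subgroup G) ⊓ Subgroup.centralizer ((S : Subgroup G) : Set G)) (S : Subgroup G)) : (∀ (P : Subgroup G) (φ : P →* G), φ ∈ (Cfsg.groupFusionSystem (S : Subgroup G)).Hom P → ∃ g ∈ Subgroup.normalizer ((S : Subgroup G) : Set G), ∀ x : P, φ x = g * (x : G) * g⁻¹) ∧ (Cfsg.groupFusionSystem (S : Subgroup G)).core = S := by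
  have hsat : (Cfsg.groupFusionSystem (S : Subgroup G)).IsSaturated p :=
    Cfsg.Agent.S5076.result p S
  have hSp : IsPGroup p (S : Subgroup G) := S.2
  set F := Cfsg.groupFusionSystem (S : Subgroup G) with hF
  set Z := (S : Subgroup G) ⊓ Subgroup.centralizer ((S : Subgroup G) : Set G) with hZdef
  have hZsc : F.StronglyClosed Z := by
    refine ⟨inf_le_left, fun R hR φ hφ x => ?_⟩
    obtain ⟨-, hφS, g, hg⟩ := hφ
    rw [hg]
    apply hZ.2 _ (hR x.2) g
    rw [← hg]
    exact hφS x
  have hSsc : F.StronglyClosed (S : Subgroup G) :=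
    ⟨le_rfl, fun R _ φ hφ x => (F.le_of_mem hφ).2 x⟩
  have hSN : F.IsNormal (S : Subgroup G) := by
    refine isNormal_of_chain p hSp F hsat (S : Subgroup G)
      (fun i => if i = 0 then ⊥ else if i = 1 then Z else (S : Subgroup G)) 2 ?_ ?_ ?_ ?_
    · simp
    · simp
    · intro i hi
      rcases i with _ | _ | i
      · simp
      · simp only [zero_add, one_ne_zero, if_false, if_true]
        show Z ≤ (S : Subgroup G)
        exact inf_le_left
      · omega
    · intro i hi
      rcases i with _ | _ | i
      · simp only [zero_add, one_ne_zero, if_false, if_true]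
        refine ⟨hZsc, ?_⟩
        rw [Subgroup.commutator_le]
        intro a ha b hb
        rw [Subgroup.mem_bot, commutatorElement_def]
        have h1 : a * b = b * a := (Subgroup.mem_centralizer_iff.mp hb.2 a ha)
        rw [h1]
        group
      · simp only [zero_add, one_ne_zero, if_false, if_true]
        refine ⟨hSsc, ?_⟩
        show ⁅(S : Subgroup G), (S : Subgroup G)⁆ ≤ Z
        exact hcl
      · omega
  refine ⟨fun P φ hφ => ?_, le_antisymm (sSup_le fun Q hQ => hQ.1) (le_sSup hSN)⟩
  obtain ⟨ψ, hψ, hext, hmap⟩ := hSN.2 P φ hφ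
  obtain ⟨-, -, g, hg⟩ := hψ
  have hfin : Finite (S : Subgroup G) := inferInstance
  refine ⟨g, ?_, fun x => ?_⟩
  · apply mem_normalizer_of_conj_mem
    intro s hs
    have h1 : ψ ⟨s, (le_sup_right : (S : Subgroup G) ≤ P ⊔ (S : Subgroup G)) hs⟩ ∈
        ((S : Subgroup G).subgroupOf (P ⊔ (S : Subgroup G))).map ψ := ⟨_, hs, rfl⟩
    rw [hmap, hg] at h1
    exact h1
  · rw [← hext x, hg]
    rfl

end Cfsg.Agent.S5107
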