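import Cfsg.Statements.S5125
import Cfsg.Agent.Helper25.FusionChain
import Cfsg.Agent.Helper25.StabChain2

set_option autoImplicit false
open Cfsg

namespace Cfsg.Agent.S5125

open Cfsg.Agent.Helper25 Cfsg.FusionSystem
open scoped commutatorElement

/-- Let F be a saturated fusion system over a finite p-group S and Q a subgroup strongly closed in F. If Q has a subgroup Q₁ that is normal in F, with Q/Q₁ abelian and Aut_F(Q₁) a p-group, then Q is normal in F. -/
theorem result {Ω : Type*} [Group Ω] {S : Subgroup Ω} [Finite S] (p : ℕ) [Fact p.Prime] (hS : IsPGroup p S) (F : Cfsg.FusionSystem S) (hF : F.IsSaturated p) (Q Q₁ : Subgroup Ω) (hQ : F.StronglyClosed Q) (hQ₁Q : Q₁ ≤ Q) (hQ₁ : F.IsNormal Q₁) (hab : ⁅Q, Q⁆ ≤ Q₁) (hAut : IsPGroup p ↥(F.autGroup Q₁)) : F.IsNormal Q := by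
  have hQS := hQ.1
  have hSN := le_normalizer_of_stronglyClosed F hQ
  have hQ₁sc := stronglyClosed_of_isNormal F hQ₁
  apply isNormal_of_alperin p hS F hF Q
  rintro P (rfl | hP)
  · exact ⟨hQS, fun α hα => map_autGroup_eq_of_stronglyClosed F hQ le_rfl α hα⟩
  refine ⟨?_, fun α hα => map_autGroup_eq_of_stronglyClosed F hQ hP.1.1 α hα⟩
  have hPS := hP.1.1
  have hfinP : Finite P := finite_of_le hPS
  have hPp : IsPGroup p P := isPGroup_of_le hS hPS
  have hQ₁P : Q₁ ≤ P := le_of_isNormal_of_isEssential p hS F hQ₁ hP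
  refine le_of_autInducedBy_le_inn p hS hQS hSN hPS (hP.1.2 P (isConj_refl F hPS)) ?_
  let M : ℕ → Subgroup P := fun i =>
    if i = 0 then Q₁.subgroupOf P else if i = 1 then Q.subgroupOf P else ⊤
  have hM0 : M 0 = Q₁.subgroupOf P := rfl
  have hM1 : M 1 = Q.subgroupOf P := rfl
  have hMge : ∀ i, 2 ≤ i → M i = ⊤ := by
    intro i hi
    show (if i = 0 then Q₁.subgroupOf P else if i = 1 then Q.subgroupOf P else ⊤) = ⊤
    rw [if_neg (by omega), if_neg (by omega)]
  have hMmono : Monotone M := by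
    apply monotone_nat_of_le_succ
    intro i
    rcases i with _ | _ | i
    · rw [hM0, hM1]
      intro x hx
      exact hQ₁Q hx
    · rw [hMge 2 le_rfl]; exact le_top
    · rw [hMge (i + 2 + 1) (by omega)]; exact le_top
  have hMtop : M 2 = ⊤ := hMge 2 le_rfl
  have hinv : ∀ β ∈ F.autGroup P, ∀ i, ∀ x ∈ M i, β x ∈ M i := by
    intro β hβ i x hx
    rcases i with _ | _ | i
    · exact autGroup_apply_mem_of_stronglyClosed F hQ₁sc hPS β hβ x hx
    · exact autGroup_apply_mem_of_stronglyClosed F hQ hPS β hβ x hx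
    · rw [hMge (i + 2) (by omega)]; exact Subgroup.mem_top _
  set K : Subgroup (MulAut P) := weakChainStabilizer M hMmono ⊓ F.autGroup P with hK
  have hKI : K ≤ Inn P := by
    apply opAutLeInn_of_isEssential F p hP K inf_le_right
    · intro α hα k hk
      have hmem : α * k * α⁻¹ ∈ F.autGroup P :=
        (F.autGroup P).mul_mem ((F.autGroup P).mul_mem hα hk.2) ((F.autGroup P).inv_mem hα)
      refine ⟨⟨?_, fun x hx => hinv _ hmem 0 x hx⟩, hmem⟩
      have hks : StabilizesChain M k := hk.1.1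
      intro i x hx
      have hy : α⁻¹ x ∈ M (i + 1) := hinv α⁻¹ ((F.autGroup P).inv_mem hα) _ x hx
      have h1 := hks i _ hy
      have h2 := hinv α hα i _ h1
      have e : α (k (α⁻¹ x) * (α⁻¹ x)⁻¹) = (α * k * α⁻¹) x * x⁻¹ := by
        simp [MulAut.mul_apply]
      rwa [e] at h2
    · rintro ⟨α, ⟨hαs, hα0⟩, hαA⟩
      have hαQ₁ : (autHom α).comp (Subgroup.inclusion hQ₁P) ∈ F.Hom Q₁ :=
        restrict_mem F hQ₁P ((mem_autGroup_iff F hPS α).mp hαA)
      have hrange : ((autHom α).comp (Subgroup.inclusion hQ₁P)).range = Q₁ := by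
        ext y
        constructor
        · rintro ⟨x, rfl⟩
          exact autGroup_apply_mem_of_stronglyClosed F hQ₁sc hPS α hαA _ x.2
        · intro hy
          have h1 := autGroup_apply_mem_of_stronglyClosed F hQ₁sc hPS α⁻¹
            ((F.autGroup P).inv_mem hαA) ⟨y, hQ₁P hy⟩ hy
          refine ⟨⟨_, h1⟩, ?_⟩
          show ((α (Subgroup.inclusion hQ₁P ⟨_, h1⟩) : P) : Ω) = y
          have : Subgroup.inclusion hQ₁P ⟨_, h1⟩ = α⁻¹ ⟨y, hQ₁P hy⟩ := rfl
          rw [this, MulAut.apply_inv_self]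
      set αbar : MulAut Q₁ := isoOfHom _ (F.injective_of_mem hαQ₁) hrange with hαbar
      have hαbarA : αbar ∈ F.autGroup Q₁ := by
        apply Subgroup.subset_closure
        show autHom αbar ∈ F.Hom Q₁
        have : autHom αbar = (autHom α).comp (Subgroup.inclusion hQ₁P) := by
          ext x; rfl
        rw [this]
        exact hαQ₁
      obtain ⟨a, ha⟩ := hAut ⟨αbar, hαbarA⟩
      have ha' : αbar ^ (p ^ a) = 1 := by
        have := congrArg Subtype.val ha
        simpa using this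
      have hpow : ∀ k : ℕ, ∀ x : Q₁,
          (((α ^ k) (Subgroup.inclusion hQ₁P x) : P) : Ω) = (((αbar ^ k) x : Q₁) : Ω) := by
        intro k
        induction k with
        | zero => intro x; rfl
        | succ k ih =>
          intro x
          rw [pow_succ', pow_succ', MulAut.mul_apply, MulAut.mul_apply]
          have h1 : (α ^ k) (Subgroup.inclusion hQ₁P x) =
              Subgroup.inclusion hQ₁P ((αbar ^ k) x) := Subtype.ext (ih x)
          rw [h1]
          rfl
      have hfix : ∀ x ∈ M 0, (α ^ (p ^ a)) x = x := by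
        intro x hx
        apply Subtype.ext
        have h1 := hpow (p ^ a) ⟨(x : Ω), hx⟩
        rw [ha'] at h1
        exact h1
      obtain ⟨k, hk⟩ := exists_pow_eq_one_of_weak hPp M hMmono hMtop hαs hα0 hfix
      exact ⟨k, Subtype.ext hk⟩
  refine le_trans ?_ hKI
  intro α hα
  have hαA : α ∈ F.autGroup P := by
    apply autInducedBy_le_autGroup F hPS
    rw [mem_autInducedBy_iff] at hα ⊢
    obtain ⟨g, hg, h⟩ := hα
    exact ⟨g, hQS hg, h⟩
  refine ⟨⟨?_, fun x hx => hinv α hαA 0 x hx⟩, hαA⟩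
  rw [mem_autInducedBy_iff] at hα
  obtain ⟨g, hg, hgα⟩ := hα
  intro i x hx
  have e : ((α x * x⁻¹ : P) : Ω) = g * (x : Ω) * g⁻¹ * (x : Ω)⁻¹ := by
    show ((α x : P) : Ω) * ((x⁻¹ : P) : Ω) = _
    rw [hgα]; rfl
  rcases i with _ | _ | i
  · show ((α x * x⁻¹ : P) : Ω) ∈ Q₁
    rw [e]
    have hx' : (x : Ω) ∈ Q := hx
    have h1 : ⁅g, (x : Ω)⁆ ∈ ⁅Q, Q⁆ := Subgroup.commutator_mem_commutator hg hx'
    exact hab h1
  · show ((α x * x⁻¹ : P) : Ω) ∈ Q
    rw [e]
    have hxN : (x : Ω) ∈ Subgroup.normalizer (Q : Set Ω) := hSN (hPS x.2)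
    have h1 : (x : Ω) * g⁻¹ * (x : Ω)⁻¹ ∈ Q :=
      (Subgroup.mem_normalizer_iff.mp hxN _).mp (Q.inv_mem hg)
    have h2 := Q.mul_mem hg h1
    have e2 : g * ((x : Ω) * g⁻¹ * (x : Ω)⁻¹) = g * (x : Ω) * g⁻¹ * (x : Ω)⁻¹ := by group
    rwa [e2] at h2
  · rw [hMge (i + 2) (by omega)]; exact Subgroup.mem_top _

end Cfsg.Agent.S5125
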