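import Cfsg.Statements.S5170
import Mathlib
import Cfsg.Agent.Helper13.S5170G
import Cfsg.Agent.Helper25.InvPatFusion

set_option autoImplicit false
open Cfsg

namespace Cfsg.Agent.S5170

/-- The 2-fusion system of the Mathieu group M₂₄ (as the explicit permutation group of the 24 points preserving the binary Golay code) on a Sylow 2-subgroup is simple: saturated, over a nontrivial 2-group, with no normal subsystem other than the trivial one and itself. -/
theorem result (S : Sylow 2 Cfsg.M24) : (Cfsg.groupFusionSystem (S : Subgroup Cfsg.M24)).IsSimple 2 := by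
  have : Finite ↥Cfsg.M24 := Cfsg.Agent.Helper13.S5170G.finite_M24
  have : Fact (Nat.Prime 2) := ⟨Nat.prime_two⟩
  have hS : Nat.card (S : Subgroup ↥Cfsg.M24) = 2 ^ 10 :=
    Cfsg.Agent.Helper27.sylow_card_of_card (p := 2) (n := 10) (m := 239085)
      (by rw [Cfsg.Agent.Helper27.card_M24]; norm_num) (by norm_num) S
  refine Cfsg.Agent.Helper25.groupFusionSystem_isSimple_of_selfnorm 2 S ?_
    (fun T hT hcl => Cfsg.Agent.Helper13.S5170G.strongly_closed_sylow S T hT hcl)
    (le_of_eq (Cfsg.Agent.Helper27.sylow2_self_normalizing S))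
  intro h
  rw [h, Subgroup.card_bot] at hS
  norm_num at hS

end Cfsg.Agent.S5170
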