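import Cfsg.Statements.S5178
import Cfsg.Agent.Helper10.XSD

set_option autoImplicit false
universe u
open Cfsg

namespace Cfsg.Agent.S5178

open Cfsg.FusionSystem Cfsg.Agent.Helper25 Cfsg.Agent.Helper10.XS
open scoped commutatorElement

/-- Let p be an odd prime, S a finite p-group containing an extraspecial subgroup Q of index p, and F a saturated fusion system over S whose largest subgroup normal in F is trivial. Then the centre of S equals the centre of Q. -/
theorem result {Ω : Type u} [Group Ω] {S : Subgroup Ω} [Finite S] (p : ℕ) [Fact p.Prime] (hp : Odd p) (hS : IsPGroup p S)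
    (Q : Subgroup Ω) (hQS : Q ≤ S) (hQ : Cfsg.IsExtraspecial p ↥Q) (hQi : (Q.subgroupOf S).index = p)
    (F : Cfsg.FusionSystem S) (hF : F.IsSaturated p) (hO : F.core = ⊥) :
    S ⊓ Subgroup.centralizer (S : Set Ω) = Q ⊓ Subgroup.centralizer (Q : Set Ω) := by
  have hpp : p.Prime := Fact.out
  have hp2 : p ≠ 2 := by
    rintro rfl
    exact absurd hp (by decide)
  obtain ⟨-, h2, h3⟩ := xs_basic p hS Q hQS hQ hQi
  by_cases hle : S ⊓ Subgroup.centralizer (S : Set Ω) ≤ Q
  · exact h2 hle
  exfalso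
  obtain ⟨hfr, hcC, hcZ, hCZ⟩ := h3 hle
  have hsc : F.StronglyClosed S := Cfsg.Agent.Helper10.R2Fus.stronglyClosed_self F
  have hCcard : Nat.card ↥⁅S, S⁆ = p :=
    (Cfsg.Agent.Helper10.GExtra.gdata_of_hge hS hsc ⟨hfr, hcC⟩).card
  by_cases hcard : Nat.card S = p ^ 4
  · exact core_ne_bot_of_bad p hp2 hS F hF ⟨hcard, hcZ, hCcard, hCZ⟩ hO
  · have hcen : (Subgroup.center ↥S).map S.subtype = S ⊓ Subgroup.centralizer (S : Set Ω) := by
      ext y
      constructor
      · rintro ⟨x, hx, rfl⟩
        refine ⟨x.2, ?_⟩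
        show (x : Ω) ∈ Subgroup.centralizer (S : Set Ω)
        rw [Subgroup.mem_centralizer_iff]
        intro g hg
        have := Subgroup.mem_center_iff.mp hx ⟨g, hg⟩
        exact congrArg Subtype.val this
      · rintro ⟨hyS, hyC⟩
        refine ⟨⟨y, hyS⟩, ?_, rfl⟩
        show (⟨y, hyS⟩ : S) ∈ Subgroup.center ↥S
        rw [Subgroup.mem_center_iff]
        intro g
        apply Subtype.ext
        have hyC' : y ∈ Subgroup.centralizer (S : Set Ω) := hyC
        exact (Subgroup.mem_centralizer_iff.mp hyC') g g.2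
    have hcenc : Nat.card (Subgroup.center ↥S) = p ^ 2 := by
      rw [← hcZ, ← hcen, Subgroup.card_map_of_injective S.subtype_injective]
    have hnorm : F.IsNormal S :=
      Cfsg.Agent.Helper10.GExtra.isNormal_of_gextra p hS F hF S hsc ⟨hfr, hcC⟩
        (fun h => absurd h hp2) (fun _ hex => hcard (xs_prod p hcenc hex).1)
    have hSc : S ≤ F.core := le_sSup hnorm
    rw [hO] at hSc
    have hZbot : S ⊓ Subgroup.centralizer (S : Set Ω) = ⊥ := eq_bot_iff.mpr (inf_le_left.trans hSc)
    rw [hZbot, Subgroup.card_bot] at hcZ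
    have : 1 < p ^ 2 := Nat.one_lt_pow (by norm_num) hpp.one_lt
    omega

end Cfsg.Agent.S5178
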