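import Cfsg.Statements.S5188
import Cfsg.Agent.Helper25.EssentialAut2
import Cfsg.Agent.Helper25.OrderP4e

set_option autoImplicit false
universe u
open Cfsg

namespace Cfsg.Agent.S5188

/-- Let F be a saturated fusion system over a finite p-group S and H an essential subgroup of order p⁴. Then H is isomorphic to one of: C_p⁴ or C_{p²} × C_p × C_p (any p); C_{p²} × C_{p²} with p ∈ {2, 3}; p^{1+2}_+ × C_p with p odd (the direct product of an extraspecial group of order p³ and exponent p with a group of order p); Q₈ × C₂ (p = 2); or the non-abelian group of order p⁴ of exponent p² whose centre is cyclic of order p² (the central product of an extraspecial group of order p³ with a cyclic group of order p²; for p = 2 this is D₈ ∘ C₄). -/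
theorem result {Ω : Type u} [Group Ω] {S : Subgroup Ω} [Finite S] (p : ℕ) [Fact p.Prime] (hS : IsPGroup p S)
    (F : Cfsg.FusionSystem S) (hF : F.IsSaturated p) (H : Subgroup Ω) (hH : F.IsEssential p H) (hcard : Nat.card H = p ^ 4) :
    Cfsg.IsElementaryAbelian p H ∨
      Nonempty (↥H ≃* Multiplicative (ZMod (p ^ 2) × ZMod p × ZMod p)) ∨
      ((p = 2 ∨ p = 3) ∧ Nonempty (↥H ≃* Multiplicative (ZMod (p ^ 2) × ZMod (p ^ 2)))) ∨
      (Odd p ∧ ∃ (E : Type) (_ : Group E) (_ : Finite E), Cfsg.IsExtraspecial p E ∧ Nat.card E = p ^ 3 ∧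
        (∀ x : E, x ^ p = 1) ∧ Nonempty (↥H ≃* E × Multiplicative (ZMod p))) ∨
      (p = 2 ∧ Nonempty (↥H ≃* QuaternionGroup 2 × Multiplicative (ZMod 2))) ∨
      (¬ IsMulCommutative ↥H ∧ (∀ x ∈ H, x ^ (p ^ 2) = 1) ∧ IsCyclic ↥(Subgroup.center ↥H) ∧
        Nat.card (Subgroup.center ↥H) = p ^ 2) := by
  have hHS : H ≤ S := hH.1.1
  have hfin : Finite H := Finite.of_injective (Subgroup.inclusion hHS) (Subgroup.inclusion_injective hHS)
  have hA := Cfsg.Agent.Helper25.not_isPGroup_commutator_mulAut_of_isEssential p F H hH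
  have hGF := Cfsg.Agent.Helper25.exists_autGroup_of_isEssential_of_comm p F H hH
  rcases Cfsg.Agent.Helper25.OrderP4.classify4 p hcard hA hGF with
    ⟨hab, hexp⟩ | h2 | h3 | h4 | h5 | ⟨hna, hexp, hcyc, hZ⟩
  · left
    refine ⟨⟨⟨hab⟩⟩, fun a ha => ?_⟩
    exact congrArg Subtype.val (hexp ⟨a, ha⟩)
  · right; left; exact h2
  · right; right; left; exact h3
  · right; right; right; left; exact h4
  · right; right; right; right; left; exact h5
  · right; right; right; right; right
    refine ⟨?_, fun x hx => ?_, hcyc, hZ⟩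
    · rintro ⟨⟨h⟩⟩
      obtain ⟨a, b, hab⟩ := hna
      exact hab (h a b)
    · exact congrArg Subtype.val (hexp ⟨x, hx⟩)

end Cfsg.Agent.S5188
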