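import Cfsg.Statements.S5191
import Mathlib

set_option autoImplicit false
open Cfsg

namespace Cfsg.Agent.S5191

/-- Fusion in a finite group G and in its quotient by O_{p'}(G) agree. Let S be a Sylow p-subgroup of G, N = O_{p'}(G) and P ≤ S. If an element of G/N conjugates the image of P into the image of S, then some element g of G conjugates P into S and induces the same map on P modulo N. (Together with the injectivity of S → G/N this says that g ↦ gN induces an isomorphism of the fusion system of G on S with that of G/N on SN/N.) -/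
theorem result {G : Type*} [Group G] [Finite G] {p : ℕ} [Fact p.Prime]
    [hN : (Cfsg.pPrimeCore p G).Normal] (S : Sylow p G) (P : Subgroup G) (hP : P ≤ (S : Subgroup G))
    (γ : G ⧸ Cfsg.pPrimeCore p G)
    (hγ : ∀ x ∈ P, γ * QuotientGroup.mk x * γ⁻¹ ∈ ((S : Subgroup G).map (QuotientGroup.mk' (Cfsg.pPrimeCore p G)))) :
    ∃ g : G, ∀ x ∈ P, g * x * g⁻¹ ∈ S ∧
      (QuotientGroup.mk (g * x * g⁻¹) : G ⧸ Cfsg.pPrimeCore p G) = γ * QuotientGroup.mk x * γ⁻¹ := by
  classical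
  obtain ⟨h, hγh⟩ := QuotientGroup.mk_surjective γ
  subst hγh
  set N := Cfsg.pPrimeCore p G with hNdef
  set K : Subgroup G := (S : Subgroup G) ⊔ N with hK
  have hSK : (S : Subgroup G) ≤ K := le_sup_left
  have hNK : N ≤ K := le_sup_right
  -- conjugates land in K
  have hQK : ∀ x ∈ P, h * x * h⁻¹ ∈ K := by
    intro x hx
    obtain ⟨s, hs, hsx⟩ := hγ x hx
    have h1 : (QuotientGroup.mk s : G ⧸ N) = QuotientGroup.mk (h * x * h⁻¹) := by
      rw [QuotientGroup.mk'_apply] at hsx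
      rw [hsx]; rfl
    have h2 : s⁻¹ * (h * x * h⁻¹) ∈ N := QuotientGroup.eq.mp h1
    have : h * x * h⁻¹ = s * (s⁻¹ * (h * x * h⁻¹)) := by group
    rw [this]
    exact K.mul_mem (hSK hs) (hNK h2)
  -- the p-subgroup Q' of K
  let Q : Subgroup G := P.map (MulAut.conj h).toMonoidHom
  have hQle : Q ≤ K := by
    rintro _ ⟨x, hx, rfl⟩
    exact hQK x hx
  have hPp : IsPGroup p P := S.isPGroup'.to_le hP
  have hQp : IsPGroup p Q := hPp.map _
  have hQ'p : IsPGroup p (Q.subgroupOf K) :=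
    hQp.comap_of_injective K.subtype K.subtype_injective
  obtain ⟨R, hR⟩ := hQ'p.exists_le_sylow
  obtain ⟨k, hk⟩ := MulAction.exists_smul_eq K (S.subtype hSK) R
  -- decompose k⁻¹ = s * n
  have hkinv : ((k⁻¹ : K) : G) ∈ (S : Subgroup G) ⊔ N := (k⁻¹).2
  obtain ⟨s, hs, n, hn, hsn⟩ := Subgroup.mem_sup_of_normal_right.mp hkinv
  refine ⟨n * h, ?_⟩
  intro x hx
  have hq : h * x * h⁻¹ ∈ Q := ⟨x, hx, rfl⟩
  have hqR : (⟨h * x * h⁻¹, hQK x hx⟩ : K) ∈ (R : Subgroup K) := hR (Subgroup.mem_subgroupOf.mpr hq)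
  rw [← hk, Sylow.coe_subgroup_smul, Subgroup.mem_pointwise_smul_iff_inv_smul_mem, Sylow.coe_subtype,
    Subgroup.mem_subgroupOf] at hqR
  have hqR' : ((k⁻¹ : K) : G) * (h * x * h⁻¹) * ((k⁻¹ : K) : G)⁻¹ ∈ (S : Subgroup G) := by
    simpa [MulAut.smul_def] using hqR
  rw [← hsn] at hqR'
  have hmem : n * (h * x * h⁻¹) * n⁻¹ ∈ (S : Subgroup G) := by
    have : n * (h * x * h⁻¹) * n⁻¹ = s⁻¹ * (s * n * (h * x * h⁻¹) * (s * n)⁻¹) * s := by group
    rw [this]
    exact Subgroup.mul_mem _ (Subgroup.mul_mem _ (Subgroup.inv_mem _ hs) hqR') hs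
  have heq : n * h * x * (n * h)⁻¹ = n * (h * x * h⁻¹) * n⁻¹ := by group
  refine ⟨by rw [heq]; exact hmem, ?_⟩
  rw [heq]
  have hn1 : (QuotientGroup.mk n : G ⧸ N) = 1 := (QuotientGroup.eq_one_iff n).mpr hn
  rw [QuotientGroup.mk_mul, QuotientGroup.mk_mul, QuotientGroup.mk_inv, hn1, one_mul, inv_one, mul_one,
    QuotientGroup.mk_mul, QuotientGroup.mk_mul, QuotientGroup.mk_inv]

end Cfsg.Agent.S5191
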