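import Cfsg.Statements.S5192
import Cfsg.Agent.Helper26.CB6
import Cfsg.Agent.Helper23.TLh

set_option autoImplicit false
open Cfsg

namespace Cfsg.Agent.S5192

open Cfsg.FusionSystem Cfsg.Agent.Helper25 Cfsg.Agent.Helper26.CB Cfsg.Agent.Helper23.TL

/-- The range of a homomorphism defined on a cyclic subgroup. -/
theorem range_zpowers {Ω : Type*} [Group Ω] {x : Ω} (φ : Subgroup.zpowers x →* Ω) :
    φ.range = Subgroup.zpowers (φ ⟨x, Subgroup.mem_zpowers x⟩) := by
  ext z
  constructor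
  · rintro ⟨⟨w, hw⟩, rfl⟩
    obtain ⟨n, rfl⟩ := Subgroup.mem_zpowers_iff.1 hw
    have e : (⟨x ^ n, hw⟩ : Subgroup.zpowers x) = ⟨x, Subgroup.mem_zpowers x⟩ ^ n :=
      Subtype.ext rfl
    rw [e, map_zpow]
    exact Subgroup.zpow_mem_zpowers _ n
  · intro hz
    obtain ⟨n, rfl⟩ := Subgroup.mem_zpowers_iff.1 hz
    exact ⟨⟨x, Subgroup.mem_zpowers x⟩ ^ n, map_zpow φ _ n⟩

/-- The sign attached to a subgroup of index two. -/
theorem exists_sign {G : Type*} [Group G] (H : Subgroup G) (hH : H.index = 2) :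
    ∃ θ : G →* ℤˣ, ∀ g, θ g = 1 ↔ g ∈ H := by
  classical
  refine ⟨MonoidHom.mk' (fun g => if g ∈ H then 1 else -1) ?_, ?_⟩
  · intro x y
    have h := Subgroup.mul_mem_iff_of_index_two hH (a := x) (b := y)
    by_cases hx : x ∈ H <;> by_cases hy : y ∈ H
    · have : x * y ∈ H := h.2 ⟨fun _ => hy, fun _ => hx⟩
      simp [hx, hy, this]
    · have : ¬ x * y ∈ H := fun hxy => hy ((h.1 hxy).1 hx)
      simp [hx, hy, this]
    · have : ¬ x * y ∈ H := fun hxy => hx ((h.1 hxy).2 hy)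
      simp [hx, hy, this]
    · have : x * y ∈ H := h.2 ⟨fun h' => absurd h' hx, fun h' => absurd h' hy⟩
      simp [hx, hy, this]
  · intro g
    show (if g ∈ H then (1 : ℤˣ) else -1) = 1 ↔ g ∈ H
    by_cases hg : g ∈ H
    · simp [hg]
    · simp only [hg, if_false, iff_false]
      decide

/-- A Thompson-type transfer for saturated fusion systems. Let F be a saturated fusion system on a finite 2-group S, T a subgroup of S of index 2, and i an involution of S such that every fully normalized F-conjugate of i lies in S but outside T. Then i does not lie in the hyperfocal subgroup of F (the Sylow group of the 2-residual subsystem). -/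
theorem result {Ω : Type*} [Group Ω] [Finite Ω] {S : Subgroup Ω}
    (hS : IsPGroup 2 ↥S) (F : Cfsg.FusionSystem S) (hF : F.IsSaturated 2)
    (T : Subgroup Ω) (hTS : T ≤ S) (hT : T.relIndex S = 2)
    (i : Ω) (hi : i ∈ S) (hi2 : orderOf i = 2)
    (h : ∀ j : Ω, F.IsConjElt i j → F.IsFullyNormalized (Subgroup.zpowers j) → j ∉ T) :
    i ∉ F.hyperfocalSubgroup 2 := by
  obtain ⟨X, hX, a, hTD, hst, ⟨x₀, hx₀⟩, ⟨k, hk, hcard⟩⟩ := exists_charBiset 2 hS F hF
  have := hX
  obtain ⟨θ, hθ⟩ := exists_sign (T.subgroupOf S) hT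
  set u : ↥S := ⟨i, hi⟩ with hu_def
  have hii : i * i = 1 := by
    have := pow_orderOf_eq_one i
    rwa [hi2, pow_two] at this
  have hu : u * u = 1 := Subtype.ext hii
  have hu1 : u ≠ 1 := by
    intro h1
    have : i = 1 := congrArg Subtype.val h1
    rw [this, orderOf_one] at hi2
    omega
  have hT' : ∀ t : ↥S, F.IsConjElt (u : Ω) (t : Ω) → θ t = 1 →
      ∃ t' : ↥S, F.IsConjElt (u : Ω) (t' : Ω) ∧ nrm S t < nrm S t' := by
    intro t ht hθt
    have htT : (t : Ω) ∈ T := Subgroup.mem_subgroupOf.1 ((hθ t).1 hθt)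
    have hnot : ¬ F.IsFullyNormalized (Subgroup.zpowers (t : Ω)) := fun hfn => h _ ht hfn htT
    have hle : Subgroup.zpowers (t : Ω) ≤ S := by
      rw [Subgroup.zpowers_le]
      exact t.2
    unfold FusionSystem.IsFullyNormalized at hnot
    push Not at hnot
    obtain ⟨Q, ⟨φ, hφ, hφr⟩, hlt⟩ := hnot hle
    have hφS := (F.le_of_mem hφ).2
    refine ⟨⟨φ ⟨(t : Ω), Subgroup.mem_zpowers _⟩, hφS _⟩,
      conjElt_trans F ht ⟨φ, hφ, rfl⟩, ?_⟩
    unfold nrm
    rw [range_zpowers] at hφr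
    rw [← hφr] at hlt
    exact hlt
  have hmain := transfer_eq_neg_one a x₀ F hTD hx₀ u hS hst k hk hcard θ hu hu1 hT'
  have hfoc := hom_iota_focal a F
    (MonoidHom.transfer ((Abelianization.lift θ).comp (phi a x₀ F hTD))) hst
  have hle : F.hyperfocalSubgroup 2 ≤ F.focalSubgroup := by
    unfold Cfsg.FusionSystem.hyperfocalSubgroup Cfsg.FusionSystem.focalSubgroup
    apply Subgroup.closure_mono
    rintro y ⟨P, α, x, hP, -, rfl⟩
    exact ⟨P, Cfsg.Agent.Helper25.autHom (α : MulAut P), x,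
      (Cfsg.Agent.Helper25.mem_autGroup_iff F hP _).mp α.2, rfl⟩
  intro hmem
  obtain ⟨z, hz, hzi⟩ := hfoc (hle hmem)
  have hzu : z = u := Subtype.ext hzi
  rw [hzu] at hz
  have hz' : (MonoidHom.transfer ((Abelianization.lift θ).comp (phi a x₀ F hTD))).comp (iota a) u
      = 1 := MonoidHom.mem_ker.1 hz
  rw [MonoidHom.comp_apply, hmain] at hz'
  revert hz'
  decide

end Cfsg.Agent.S5192
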