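import Cfsg.Statements.S5193
import Cfsg.Agent.Helper24.GF2
import Cfsg.Agent.S5084
import Cfsg.Agent.S5144

set_option autoImplicit false
open Cfsg

namespace Cfsg.Agent.S5193

/-- Glauberman's Theorem for fusion systems. Let F be a saturated fusion system over a finite p-group S, let J(S) be the subgroup generated by the abelian subgroups of S of largest order, and let N be the normalizer fusion system of J(S) in F (a fusion system over N_S(J(S)) = S). Then every p-th power of an element of Z(S) that lies in the centre of N lies in the centre of F; and if p is odd, or if the symmetric group of degree 4 is not involved in any model of the normalizer system of a fully normalized F-centric subgroup (F is S₄-free), then the centre of N equals the centre of F. -/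
theorem result {Ω : Type*} [Group Ω] {S : Subgroup Ω} [Finite S] (p : ℕ) [Fact p.Prime] (hS : IsPGroup p S) (F : Cfsg.FusionSystem S) (hF : F.IsSaturated p) (N : Cfsg.FusionSystem (Cfsg.FusionSystem.normalizerIn S (Cfsg.thompsonSubgroupAOf S))) (hN : F.IsNormalizerSystem (Cfsg.thompsonSubgroupAOf S) N) : Subgroup.closure ((fun z : Ω => z ^ p) '' ((S ⊓ Subgroup.centralizer (S : Set Ω) : Subgroup Ω) : Set Ω)) ⊓ N.center ≤ F.center ∧ (p ≠ 2 ∨ F.IsSectionFree p (Equiv.Perm (Fin 4)) → N.center = F.center) := by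
  classical
  have hJS : Cfsg.thompsonSubgroupAOf S ≤ S := Cfsg.Agent.Lead.TNC.thompsonSubgroupAOf_le S
  have hSNJ : S ≤ Subgroup.normalizer ((Cfsg.thompsonSubgroupAOf S : Subgroup Ω) : Set Ω) :=
    Cfsg.Agent.Helper26.TH.fc_le_normalizer (Cfsg.Agent.Helper26.TH.jAFunctor p) S
  have hNS : Cfsg.FusionSystem.normalizerIn S (Cfsg.thompsonSubgroupAOf S) = S :=
    le_antisymm inf_le_left (fun y hy => ⟨hy, hSNJ hy⟩)
  have hRS : Cfsg.FusionSystem.normalizerIn S (Cfsg.thompsonSubgroupAOf S) ≤ S := inf_le_left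
  have hRfin : Finite (Cfsg.FusionSystem.normalizerIn S (Cfsg.thompsonSubgroupAOf S)) :=
    Cfsg.Agent.Helper25.finite_of_le hRS
  have hRp : IsPGroup p (Cfsg.FusionSystem.normalizerIn S (Cfsg.thompsonSubgroupAOf S)) :=
    Cfsg.Agent.Helper25.isPGroup_of_le hS hRS
  have hUfn : F.IsFullyNormalized (Cfsg.thompsonSubgroupAOf S) :=
    Cfsg.Agent.Helper26.MasterRed.isFullyNormalized_of_normal F hJS hSNJ
  have hNsat : N.IsSaturated p :=
    Cfsg.Agent.Helper25.normalizerSystem_isSaturated p hS F hF _ hUfn N hN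
  have hNF : ∀ (P : Subgroup Ω) (φ : P →* Ω), φ ∈ N.Hom P → φ ∈ F.Hom P := by
    intro P φ hφ
    rw [hN P] at hφ
    exact hφ.1
  have hZ := Cfsg.Agent.S5144.result N
  obtain ⟨hZS, hZc⟩ := (Cfsg.Agent.S5084.result p hRp N hNsat N.center).mp hZ
  -- elements of `Z(N)` are fixed by the normalizer system
  have hnfix : ∀ x ∈ N.center,
      Cfsg.Agent.Helper26.WC.NFix F (Cfsg.thompsonSubgroupAOf S) x := by
    intro x hx P φ hφ hxP
    have hφN : φ ∈ N.Hom P := by
      rw [hN P]
      exact hφ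
    have hzP : Subgroup.zpowers x ≤ P := Subgroup.zpowers_le.mpr hxP
    have h1 := Cfsg.Agent.Helper25.restrict_mem N hzP hφN
    have h2 : N.IsConjElt x (φ ⟨x, hxP⟩) := ⟨_, h1, rfl⟩
    exact hZc x hx _ h2
  -- elements of the closure are `p`-th powers
  have hpow : ∀ x ∈ Subgroup.closure ((fun z : Ω => z ^ p) ''
      ((S ⊓ Subgroup.centralizer (S : Set Ω) : Subgroup Ω) : Set Ω)),
      ∃ z ∈ (S ⊓ Subgroup.centralizer (S : Set Ω) : Subgroup Ω), z ^ p = x := by
    intro x hx
    induction hx using Subgroup.closure_induction with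
    | mem y hy =>
      obtain ⟨z, hz, rfl⟩ := hy
      exact ⟨z, hz, rfl⟩
    | one => exact ⟨1, Subgroup.one_mem _, one_pow p⟩
    | mul a b _ _ iha ihb =>
      obtain ⟨z1, hz1, rfl⟩ := iha
      obtain ⟨z2, hz2, rfl⟩ := ihb
      refine ⟨z1 * z2, Subgroup.mul_mem _ hz1 hz2, ?_⟩
      have hc : Commute z1 z2 := by
        have h1 := (Subgroup.mem_inf.mp hz2).2
        rw [Subgroup.mem_centralizer_iff] at h1
        exact h1 z1 (Subgroup.mem_inf.mp hz1).1
      exact hc.mul_pow p
    | inv a _ iha =>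
      obtain ⟨z1, hz1, rfl⟩ := iha
      exact ⟨z1⁻¹, Subgroup.inv_mem _ hz1, inv_pow z1 p⟩
  refine ⟨?_, ?_⟩
  · -- the `p`-th powers
    have hcen : F.IsCentral (Subgroup.closure ((fun z : Ω => z ^ p) ''
        ((S ⊓ Subgroup.centralizer (S : Set Ω) : Subgroup Ω) : Set Ω)) ⊓ N.center) := by
      rw [Cfsg.Agent.S5084.result p hS F hF]
      refine ⟨inf_le_right.trans (hZS.trans hRS), ?_⟩
      intro x hx y hxy
      obtain ⟨hx1, hx2⟩ := Subgroup.mem_inf.mp hx
      have hxS : x ∈ S := hRS (hZS hx2)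
      have hfixes := Cfsg.Agent.Helper24.GF.fixes_of_nfix_J hS F hF hxS (hnfix x hx2)
        (Or.inr (Or.inl (hpow x hx1)))
      obtain ⟨φ, hφ, hφx⟩ := hxy
      rw [← hφx]
      exact hfixes _ φ hφ (Subgroup.mem_zpowers x)
    exact le_sSup hcen
  · intro hyp
    apply le_antisymm
    · -- `Z(N) ≤ Z(F)`
      have hcen : F.IsCentral N.center := by
        rw [Cfsg.Agent.S5084.result p hS F hF]
        refine ⟨hZS.trans hRS, ?_⟩
        intro x hx y hxy
        have hxS : x ∈ S := hRS (hZS hx)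
        have hfixes := Cfsg.Agent.Helper24.GF.fixes_of_nfix_J hS F hF hxS (hnfix x hx)
          (hyp.elim Or.inl (fun h => Or.inr (Or.inr h)))
        obtain ⟨φ, hφ, hφx⟩ := hxy
        rw [← hφx]
        exact hfixes _ φ hφ (Subgroup.mem_zpowers x)
      exact le_sSup hcen
    · -- `Z(F) ≤ Z(N)`
      have hZF := Cfsg.Agent.S5144.result F
      obtain ⟨hZFS, hZFc⟩ := (Cfsg.Agent.S5084.result p hS F hF F.center).mp hZF
      have hcen : N.IsCentral F.center := by
        rw [Cfsg.Agent.S5084.result p hRp N hNsat]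
        refine ⟨?_, ?_⟩
        · rw [hNS]
          exact hZFS
        · intro x hx y hxy
          obtain ⟨φ, hφ, hφx⟩ := hxy
          exact hZFc x hx y ⟨φ, hNF _ φ hφ, hφx⟩
      exact le_sSup hcen

end Cfsg.Agent.S5193
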