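import Cfsg.Statements.S5196
import Cfsg.Agent.Helper26.WCMain
import Cfsg.Agent.S5084
import Cfsg.Agent.S5144


set_option autoImplicit false
universe u
open Cfsg

namespace Cfsg.Agent.S5196

/-- Let p be an odd prime and W a positive characteristic p-functor: W assigns to every finite p-group Q (in a fixed universe) a subgroup W(Q), nontrivial when Q is, carried to W(R) by every isomorphism Q ≅ R; assume also Z(Q) ≤ W(Q) for every finite p-group Q. Suppose W satisfies the local condition: for every finite group G with Sylow p-subgroup P, O_p(G) ∩ Z(G) = O_p(G) ∩ Z(N_G(W(P))). Then W controls weak closure of elements in every saturated fusion system F over a finite p-group S: the centre of the normalizer fusion system of W(S) in F equals the centre of F. (For p = 2 no functor satisfies the local condition, so p is taken odd.) -/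
theorem result {p : ℕ} [Fact p.Prime] (hp : p ≠ 2) (W : ∀ (Q : Type u) [Group Q], Subgroup Q) (hW1 : ∀ (Q : Type u) [Group Q] [Finite Q], IsPGroup p Q → Nontrivial Q → W Q ≠ ⊥) (hW2 : ∀ (Q R : Type u) [Group Q] [Group R] [Finite Q], IsPGroup p Q → ∀ φ : Q ≃* R, (W Q).map φ.toMonoidHom = W R) (hWZ : ∀ (Q : Type u) [Group Q] [Finite Q], IsPGroup p Q → Subgroup.center Q ≤ W Q) (hC : ∀ (G : Type u) [Group G] [Finite G] (P : Sylow p G), Cfsg.pCore p G ⊓ Subgroup.center G = Cfsg.pCore p G ⊓ (Subgroup.center ↥(Subgroup.normalizer (((W ↥(P : Subgroup G)).map (P : Subgroup G).subtype : Subgroup G) : Set G))).map (Subgroup.normalizer (((W ↥(P : Subgroup G)).map (P : Subgroup G).subtype : Subgroup G) : Set G)).subtype) {Ω : Type u} [Group Ω] {S : Subgroup Ω} [Finite S] (hS : IsPGroup p S) (F : Cfsg.FusionSystem S) (hF : F.IsSaturated p) (N : Cfsg.FusionSystem (Cfsg.FusionSystem.normalizerIn S ((W ↥S).map S.subtype))) (hN : F.IsNormalizerSystem ((W ↥S).map S.subtype) N) : N.center = F.center := by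
  classical
  have hH : Cfsg.Agent.Helper26.WC.WHyp p W := ⟨hW1, hW2, hWZ, hC⟩
  have hWS : (W ↥S).map S.subtype ≤ S := Cfsg.Agent.Helper26.WC.wup_le (W := W) S
  have hSNW : S ≤ Subgroup.normalizer (((W ↥S).map S.subtype : Subgroup Ω) : Set Ω) :=
    Cfsg.Agent.Helper26.WC.le_normalizer_wup hH hS
  have hNS : Cfsg.FusionSystem.normalizerIn S ((W ↥S).map S.subtype) = S :=
    le_antisymm inf_le_left (fun y hy => ⟨hy, hSNW hy⟩)
  have hRS : Cfsg.FusionSystem.normalizerIn S ((W ↥S).map S.subtype) ≤ S := inf_le_left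
  have hRfin : Finite (Cfsg.FusionSystem.normalizerIn S ((W ↥S).map S.subtype)) :=
    Cfsg.Agent.Helper25.finite_of_le hRS
  have hRp : IsPGroup p (Cfsg.FusionSystem.normalizerIn S ((W ↥S).map S.subtype)) :=
    Cfsg.Agent.Helper25.isPGroup_of_le hS hRS
  have hUfn : F.IsFullyNormalized ((W ↥S).map S.subtype) :=
    Cfsg.Agent.Helper26.MasterRed.isFullyNormalized_of_normal F hWS hSNW
  have hNsat : N.IsSaturated p :=
    Cfsg.Agent.Helper25.normalizerSystem_isSaturated p hS F hF _ hUfn N hN
  have hNF : ∀ (P : Subgroup Ω) (φ : P →* Ω), φ ∈ N.Hom P → φ ∈ F.Hom P := by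
    intro P φ hφ
    rw [hN P] at hφ
    exact hφ.1
  apply le_antisymm
  · -- `Z(N) ≤ Z(F)`
    have hZ := Cfsg.Agent.S5144.result N
    obtain ⟨hZS, hZc⟩ := (Cfsg.Agent.S5084.result p hRp N hNsat N.center).mp hZ
    have hcen : F.IsCentral N.center := by
      rw [Cfsg.Agent.S5084.result p hS F hF]
      refine ⟨hZS.trans hRS, ?_⟩
      intro x hx y hxy
      have hxS : x ∈ S := hRS (hZS hx)
      have hnfix : Cfsg.Agent.Helper26.WC.NFix F (Cfsg.Agent.Helper26.WC.Wup W S) x := by
        intro P φ hφ hxP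
        have hφN : φ ∈ N.Hom P := by
          rw [hN P]
          exact hφ
        have hzP : Subgroup.zpowers x ≤ P := Subgroup.zpowers_le.mpr hxP
        have h1 := Cfsg.Agent.Helper25.restrict_mem N hzP hφN
        have h2 : N.IsConjElt x (φ ⟨x, hxP⟩) := ⟨_, h1, rfl⟩
        exact hZc x hx _ h2
      have hfixes := Cfsg.Agent.Helper26.WC.master hH (Nat.card S) Ω S rfl hS F hF x hxS hnfix
      obtain ⟨φ, hφ, hφx⟩ := hxy
      rw [← hφx]
      exact hfixes _ φ hφ (Subgroup.mem_zpowers x)
    exact le_sSup hcen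
  · -- `Z(F) ≤ Z(N)`
    have hZ := Cfsg.Agent.S5144.result F
    obtain ⟨hZS, hZc⟩ := (Cfsg.Agent.S5084.result p hS F hF F.center).mp hZ
    have hcen : N.IsCentral F.center := by
      rw [Cfsg.Agent.S5084.result p hRp N hNsat]
      refine ⟨?_, ?_⟩
      · rw [hNS]
        exact hZS
      · intro x hx y hxy
        obtain ⟨φ, hφ, hφx⟩ := hxy
        exact hZc x hx y ⟨φ, hNF _ φ hφ, hφx⟩
    exact le_sSup hcen

end Cfsg.Agent.S5196
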