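import Cfsg.Statements.S5198
import Cfsg.Agent.Helper26.FusionHypLift

set_option autoImplicit false
open Cfsg

namespace Cfsg.Agent.S5198

/-- Let F be a saturated fusion system over a finite p-group S and T a subgroup of S strongly closed in F (so T is normal in S). Then every element x of the hyperfocal subgroup of F acts on T by conjugation as an element of O^p(Aut_F(T))·Inn(T): there is an automorphism of T in the subgroup generated by the elements of Aut_F(T) of order prime to p together with the inner automorphisms of T that agrees with conjugation by x. -/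
theorem result {Ω : Type*} [Group Ω] {S : Subgroup Ω} [Finite S] (p : ℕ) [Fact p.Prime] (hS : IsPGroup p S) (F : Cfsg.FusionSystem S) (hF : F.IsSaturated p) (T : Subgroup Ω) (hT : F.StronglyClosed T) : ∀ x ∈ F.hyperfocalSubgroup p, ∃ α ∈ ((Cfsg.pResidual p ↥(F.autGroup T)).map (F.autGroup T).subtype ⊔ Cfsg.Inn ↥T : Subgroup (MulAut ↥T)), ∀ t : ↥T, ((α t : ↥T) : Ω) = x * (t : Ω) * x⁻¹ := by
  open Cfsg.Agent.Helper26 Cfsg.Agent.Helper25 Cfsg.FusionSystem in
  intro x hx
  show ConjInK F p T x
  unfold hyperfocalSubgroup at hx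
  induction hx using Subgroup.closure_induction with
  | mem y hy =>
    obtain ⟨P, α, a, hPS, hα, rfl⟩ := hy
    revert a
    unfold pResidual at hα
    induction hα using Subgroup.closure_induction with
    | mem β hβ =>
      intro a
      exact conjInK_of_coprime p hS F hF hT hPS β.1 β.2
        (by rw [Subgroup.orderOf_coe]; exact hβ) a
    | one =>
      intro a
      have e : ((a : Ω))⁻¹ * ((((1 : ↥(F.autGroup P)) : MulAut ↥P) a : ↥P) : Ω) = 1 := by
        simp
      rw [e]
      exact conjInK_one F p T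
    | mul β γ _ _ hβ hγ =>
      intro a
      have e : (a : Ω)⁻¹ * ((((β * γ : ↥(F.autGroup P)) : MulAut ↥P) a : ↥P) : Ω) =
          ((a : Ω)⁻¹ * (((γ : MulAut ↥P) a : ↥P) : Ω)) *
            ((((γ : MulAut ↥P) a : ↥P) : Ω)⁻¹ *
              (((β : MulAut ↥P) ((γ : MulAut ↥P) a) : ↥P) : Ω)) := by
        rw [Subgroup.coe_mul, MulAut.mul_apply]
        group
      rw [e]
      exact conjInK_mul F p T (hγ a) (hβ _)
    | inv β _ hβ =>
      intro a
      have e : (a : Ω)⁻¹ * ((((β⁻¹ : ↥(F.autGroup P)) : MulAut ↥P) a : ↥P) : Ω) =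
          (((((β : MulAut ↥P)⁻¹ a : ↥P) : Ω))⁻¹ *
            (((β : MulAut ↥P) ((β : MulAut ↥P)⁻¹ a) : ↥P) : Ω))⁻¹ := by
        rw [MulAut.apply_inv_self]
        simp
      rw [e]
      exact conjInK_inv F p T (hβ _)
  | one => exact conjInK_one F p T
  | mul y z _ _ hy hz => exact conjInK_mul F p T hy hz
  | inv y _ hy => exact conjInK_inv F p T hy

end Cfsg.Agent.S5198
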