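import Cfsg.Statements.S5203
import Cfsg.Agent.Helper13.S5203Lim

set_option autoImplicit false
open Cfsg

namespace Cfsg.Agent.S5203

/-- Let F be a saturated fusion system over a finite p-group S and E a normal subsystem of F over T that has p-power index in F. Then every residual limit of E has the same maps as every residual limit of F (the residual limit is reached by alternately passing to the p-residual and the p'-residual subsystem until nothing changes). -/
theorem result {Ω : Type*} [Group Ω] {S : Subgroup Ω} [Finite S] (p : ℕ) [Fact p.Prime] (hS : IsPGroup p S) (F : Cfsg.FusionSystem S) (hF : F.IsSaturated p) {T : Subgroup Ω} (E : Cfsg.FusionSystem T) (hE : E.IsNormalIn F p) (hidx : E.HasPPowerIndexIn F p) {U V : Subgroup Ω} (Finf : Cfsg.FusionSystem U) (hFinf : Finf.IsResidualLimitOf F p) (Einf : Cfsg.FusionSystem V) (hEinf : Einf.IsResidualLimitOf E p) : ∀ P : Subgroup Ω, Finf.Hom P = Einf.Hom P := by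
  have hEsat : E.IsSaturated p := hE.1.1
  have hTS : T ≤ S := Cfsg.Agent.Helper13.S5203Aux.le_of_isSubsystemOf hidx.1
  have hfinT : Finite T := Cfsg.Agent.Helper25.finite_of_le hTS
  have hTp : IsPGroup p T := Cfsg.Agent.Helper25.isPGroup_of_le hS hTS
  obtain ⟨DF, DF', hDF, hDF', hlimF⟩ :=
    Cfsg.Agent.Helper13.S5203Aux.limit_exists_step p hF hFinf
  obtain ⟨DE, DE', hDE, hDE', hlimE⟩ :=
    Cfsg.Agent.Helper13.S5203Aux.limit_exists_step p hEsat hEinf
  have hhyp : E.hyperfocalSubgroup p = F.hyperfocalSubgroup p :=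
    Cfsg.Agent.Helper13.S5203Aux.hyperfocal_eq_of_index p hS F E hidx
  have hFhypS : F.hyperfocalSubgroup p ≤ S := Cfsg.Agent.Helper25.hyperfocalSubgroup_le F p
  -- the `p`-residual of `F` is a subsystem of `E` of `p`-power index
  have hDFE : DF.IsSubsystemOf E :=
    Cfsg.Agent.Helper26.isSubsystemOf_of_pResidual_le p hS F DF hDF.1 hDF.2.1 hFhypS E
      hidx.2.1 hidx.2.2
  have hDFidx : DF.HasPPowerIndexIn E p := by
    refine ⟨hDFE, hhyp.le, ?_⟩
    intro P hP
    rintro _ ⟨a, ha, rfl⟩
    have hPT : P ≤ T := hP.trans hidx.2.1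
    have hle : E.autGroup P ≤ F.autGroup P :=
      Cfsg.Agent.Helper26.autGroup_le_of_isSubsystemOf hidx.1 hTS hPT
    have h1 : Subgroup.inclusion hle a ∈ pResidual p (F.autGroup P) :=
      Cfsg.Agent.Helper25.map_mem_pResidual p (Subgroup.inclusion hle) ha
    exact hDF.2.2.2 P hP ⟨Subgroup.inclusion hle a, h1, rfl⟩
  -- hence it is the `p`-residual of `E`
  have hcast := Cfsg.Agent.Helper13.S5203Aux.castSystem_sameHom hhyp.symm DF
  have hres : E.IsPResidual p (Cfsg.Agent.Helper13.S5203Aux.castSystem hhyp.symm DF) :=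
    hcast.symm.transport (fun W X => X.IsSaturated p ∧ X.HasPPowerIndexIn E p) ⟨hDF.1, hDFidx⟩
  have hDEeq : DE = Cfsg.Agent.Helper13.S5203Aux.castSystem hhyp.symm DF :=
    Cfsg.Agent.Helper13.S5203Aux.isPResidual_unique p hTp E hEsat DE _ hDE hres
  have hDEDF : Cfsg.Agent.Helper13.S5203Aux.SameHom DF DE := by
    rw [hDEeq]
    exact hcast.symm
  -- the `p'`-residuals agree
  have hpp : ∀ X' : FusionSystem (E.hyperfocalSubgroup p), DE.IsPPrimeResidual p X' →
      Cfsg.Agent.Helper13.S5203Aux.SameHom X' DF' :=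
    hDEDF.transport (fun W X => ∀ X' : FusionSystem W, X.IsPPrimeResidual p X' →
      Cfsg.Agent.Helper13.S5203Aux.SameHom X' DF')
      (fun X' hX' => by
        rw [Cfsg.Agent.Helper13.S5203Aux.isPPrimeResidual_unique p DF X' DF' hX' hDF']
        exact Cfsg.Agent.Helper13.S5203Aux.SameHom.refl DF')
  have hDE'DF' : Cfsg.Agent.Helper13.S5203Aux.SameHom DE' DF' := hpp DE' hDE'
  -- so the limits agree
  have hlimE' : Einf.IsResidualLimitOf DF' p :=
    hDE'DF'.transport (fun W X => Einf.IsResidualLimitOf X p) hlimE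
  have hfinH : Finite (F.hyperfocalSubgroup p) :=
    Cfsg.Agent.Helper13.S5203Aux.finite_hyperfocal F p
  exact Cfsg.Agent.Helper13.S5203Aux.limit_unique hlimF
    (Cfsg.Agent.Helper13.S5203Aux.isPGroup_hyperfocal p hS F) hDF'.1 Einf hlimE'

end Cfsg.Agent.S5203
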