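import Cfsg.Statements.S5204
import Cfsg.Agent.Helper26.ZJFusion


set_option autoImplicit false
open Cfsg

namespace Cfsg.Agent.S5204

/-- The Glauberman–Thompson normal p-complement criterion for fusion systems, p odd. Let F be a saturated fusion system over a finite p-group S with p odd, and let Z(J(S)) be the centre of the subgroup generated by the abelian subgroups of S of largest order. Then F is the inner fusion system of S if and only if the normalizer fusion system of Z(J(S)) in F is the inner fusion system of N_S(Z(J(S))) = S. -/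
theorem result {Ω : Type*} [Group Ω] {S : Subgroup Ω} [Finite S] (p : ℕ) [Fact p.Prime] (hS : IsPGroup p S) (F : Cfsg.FusionSystem S) (hF : F.IsSaturated p) (hp : p ≠ 2) : (∀ P : Subgroup Ω, F.Hom P = (Cfsg.innerFusionSystem S).Hom P) ↔ ∀ N : Cfsg.FusionSystem (Cfsg.FusionSystem.normalizerIn S (Cfsg.centerThompsonAOf S)), F.IsNormalizerSystem (Cfsg.centerThompsonAOf S) N → ∀ P : Subgroup Ω, N.Hom P = (Cfsg.innerFusionSystem (Cfsg.FusionSystem.normalizerIn S (Cfsg.centerThompsonAOf S))).Hom P := by

  have hWS : Cfsg.centerThompsonAOf S ≤ S :=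
    Cfsg.Agent.Helper26.MasterRed.centerThompsonAOf_le_self S
  have hSN := Cfsg.Agent.Helper26.MasterRed.le_normalizer_centerThompsonAOf_self S
  constructor
  · intro h N hN
    rw [← Cfsg.Agent.Helper26.MasterRed.inner_iff,
      Cfsg.Agent.Helper26.MasterRed.ninner_iff F _ N hN]
    have hin := (Cfsg.Agent.Helper26.MasterRed.inner_iff F).mpr h
    intro P φ hφ
    obtain ⟨g, hg, hx⟩ := hin P φ hφ.1
    exact ⟨g, ⟨hg, hSN hg⟩, hx⟩
  · intro h
    rw [← Cfsg.Agent.Helper26.MasterRed.inner_iff]
    have h1 := h _ (Cfsg.Agent.Helper25.normalizerSystem_isNormalizerSystem F _ hWS)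
    rw [← Cfsg.Agent.Helper26.MasterRed.inner_iff,
      Cfsg.Agent.Helper26.MasterRed.ninner_iff F _ _
        (Cfsg.Agent.Helper25.normalizerSystem_isNormalizerSystem F _ hWS)] at h1
    exact Cfsg.Agent.Helper26.MasterRed.inner_of_ninner_zj hp hS F hF h1

end Cfsg.Agent.S5204
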