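import Cfsg.Statements.S5214
-- import your own Cfsg.Agent.* helpers here
import Cfsg.Agent.Helper17.Suz2A
import Cfsg.Agent.Helper16.Suz2Normal
import Cfsg.Agent.Helper8.Suz2HBridge

set_option autoImplicit false
open Cfsg

namespace Cfsg.Agent.S5214

/-- Let S be a Suzuki 2-group (a finite nonabelian 2-group with more than one involution admitting a cyclic group of automorphisms permuting its involutions regularly). Then S is normal in every saturated fusion system over S (such a group is resistant). -/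
theorem result {Ω : Type*} [Group Ω] {S : Subgroup Ω} [Finite S] (hS : IsPGroup 2 S) (F : Cfsg.FusionSystem S) (hF : F.IsSaturated 2) (hsz : Cfsg.IsSuzukiTwoGroup ↥S) : F.IsNormal S := by
  obtain ⟨hfin, h2, hna, ⟨x₀, y₀, hxy, hx1, hx2, hy1, hy2⟩, K, hcyc, hreg⟩ := hsz
  have hcomm : ∀ a b : K, a * b = b * a := by
    intro a b
    obtain ⟨g, hg⟩ := hcyc.exists_generator
    obtain ⟨m, rfl⟩ := Subgroup.mem_zpowers_iff.mp (hg a)
    obtain ⟨n, rfl⟩ := Subgroup.mem_zpowers_iff.mp (hg b)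
    rw [← zpow_add, ← zpow_add, add_comm]
  have hreg' : Cfsg.Agent.Helper17.Suz2.RegInv K S := by
    intro x y hx1 hx2 hy1 hy2
    exact hreg x y hx1 hx2 hy1 hy2
  have hH := Cfsg.Agent.Helper8.Suz2H.higman K hcomm S h2 hreg'
    ⟨x₀, y₀, hx1, hy1, hxy, hx2, hy2⟩ hna
  refine Cfsg.Agent.Helper16.Suz2N.isNormal_self_of_invol_central hS F hF ?_ ?_
  · intro x hx hxx y hy
    have h1 : (⟨x, hx⟩ : S) * ⟨x, hx⟩ = 1 := Subtype.ext hxx
    have h2' := Cfsg.Agent.Helper17.Suz2.invol_mem_center h2 hreg' h1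
    have h3 := Subgroup.mem_center_iff.mp h2' ⟨y, hy⟩
    exact (congrArg Subtype.val h3).symm
  · intro x hx y hy
    have h1 := (hH ⟨x, hx⟩ ⟨y, hy⟩).2.2
    have h2' := congrArg Subtype.val h1
    simpa [Cfsg.Agent.Helper17.Suz2.cm, commutatorElement_def] using h2'

end Cfsg.Agent.S5214
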