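import Cfsg.Statements.S5223
import Cfsg.Agent.Helper26.FusionInner

set_option autoImplicit false
open Cfsg

namespace Cfsg.Agent.S5223

/-- Let F be a saturated fusion system over a finite p-group S. Suppose there are subgroups Q₀ = S, Q₁, …, Qₙ = 1 (not required to be nested) such that for each i < n the focal subgroup of Qᵢ (generated by the elements x⁻¹φ(x), x ∈ Qᵢ, φ a map of F defined on the cyclic group generated by x) lies in Qᵢ₊₁. Then F is the inner fusion system of S. -/
theorem result {Ω : Type*} [Group Ω] {S : Subgroup Ω} [Finite S] (p : ℕ) [Fact p.Prime] (hS : IsPGroup p S) (F : Cfsg.FusionSystem S) (hF : F.IsSaturated p) (n : ℕ) (Q : Fin (n + 1) → Subgroup Ω) (hQ0 : Q 0 = S) (hQn : Q (Fin.last n) = ⊥) (hstep : ∀ i : Fin n, Subgroup.closure {y : Ω | ∃ x ∈ Q i.castSucc, ∃ φ ∈ F.Hom (Subgroup.zpowers x), y = x⁻¹ * φ ⟨x, Subgroup.mem_zpowers x⟩} ≤ Q i.succ) : ∀ P : Subgroup Ω, F.Hom P = (Cfsg.innerFusionSystem S).Hom P := by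
  obtain ⟨m, hm⟩ := IsPGroup.iff_card.mp hS
  let D : ℕ → Subgroup Ω := fun i => ⨅ j : Fin (n + 1), ⨅ (_ : (j : ℕ) ≤ i), Q j
  have hmemD : ∀ (i : ℕ) (x : Ω), x ∈ D i ↔ ∀ j : Fin (n + 1), (j : ℕ) ≤ i → x ∈ Q j := by
    intro i x
    simp only [D, Subgroup.mem_iInf]
  have hD0 : ∀ i, D i ≤ S := by
    intro i x hx
    have := (hmemD i x).mp hx 0 (Nat.zero_le i)
    rwa [hQ0] at this
  have hDn : ∀ x ∈ D n, x = 1 := by
    intro x hx
    have := (hmemD n x).mp hx (Fin.last n) (by simp)
    rwa [hQn, Subgroup.mem_bot] at this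
  have hSD0 : S ≤ D 0 := by
    intro x hx
    rw [hmemD]
    intro j hj
    have : j = 0 := Fin.ext (by simpa using hj)
    rw [this, hQ0]; exact hx
  have hkey : ∀ i, ∀ x (hx : x ∈ D i), ∀ φ ∈ F.Hom (Subgroup.zpowers x),
      x⁻¹ * φ ⟨x, Subgroup.mem_zpowers x⟩ ∈ D (i + 1) := by
    intro i x hx φ hφ
    rw [hmemD]
    intro j hj
    by_cases hj0 : j = 0
    · rw [hj0, hQ0]
      exact S.mul_mem (S.inv_mem (hD0 i hx)) ((F.le_of_mem hφ).2 _)
    · obtain ⟨j', rfl⟩ := Fin.exists_succ_eq.mpr hj0
      apply hstep j'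
      apply Subgroup.subset_closure
      refine ⟨x, ?_, φ, hφ, rfl⟩
      apply (hmemD i x).mp hx
      simp only [Fin.val_succ] at hj
      simp only [Fin.val_castSucc]
      omega
  -- main claim
  have hmain : ∀ P : Subgroup Ω, P ≤ S → IsPGroup p (F.autGroup P) := by
    intro P hPS
    have hstepβ : ∀ β : MulAut P, Cfsg.Agent.Helper25.autHom β ∈ F.Hom P → ∀ i, ∀ x : P, (x : Ω) ∈ D i →
        ((x⁻¹ * β x : P) : Ω) ∈ D (i + 1) := by
      intro β hβ i x hx
      have hle : Subgroup.zpowers (x : Ω) ≤ P := Subgroup.zpowers_le.mpr x.2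
      have hres := Cfsg.Agent.Helper25.restrict_mem F hle hβ
      have := hkey i (x : Ω) hx _ hres
      have e : (Subgroup.inclusion hle) ⟨(x : Ω), Subgroup.mem_zpowers (x : Ω)⟩ = x := Subtype.ext rfl
      simp only [MonoidHom.comp_apply, e] at this
      simpa using this
    have hpow : ∀ i, i ≤ n → ∀ α : MulAut P, Cfsg.Agent.Helper25.autHom α ∈ F.Hom P → ∀ x : P,
        (x : Ω) ∈ D (n - i) → (α ^ (p ^ (m * i))) x = x := by
      intro i
      induction i with
      | zero =>
        intro _ α _ x hx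
        have : (x : Ω) = 1 := hDn _ (by simpa using hx)
        have hx1 : x = 1 := Subtype.ext this
        rw [hx1, map_one]
      | succ i ih =>
        intro hi α hα x hx
        set β : MulAut P := α ^ (p ^ (m * i)) with hβdef
        have hβ : Cfsg.Agent.Helper25.autHom β ∈ F.Hom P := by
          rw [← Cfsg.Agent.Helper25.mem_autGroup_iff F hPS]
          exact Subgroup.pow_mem _ ((Cfsg.Agent.Helper25.mem_autGroup_iff F hPS α).mpr hα) _
        set y : P := x⁻¹ * β x with hy
        have hyD : (y : Ω) ∈ D (n - i) := by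
          have := hstepβ β hβ (n - (i + 1)) x hx
          have e : n - (i + 1) + 1 = n - i := by omega
          rwa [e] at this
        have hβy : β y = y := ih (by omega) α hα y hyD
        have hβx : β x = x * y := by rw [hy]; group
        have hk : ∀ k : ℕ, (β ^ k) x = x * y ^ k := by
          intro k
          induction k with
          | zero => simp
          | succ k ihk =>
            rw [pow_succ', MulAut.mul_apply, ihk, map_mul, map_pow, hβy, hβx, pow_succ', mul_assoc]
        have hyp : y ^ (p ^ m) = 1 := by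
          have h1 : (⟨(y : Ω), hPS y.2⟩ : S) ^ Nat.card S = 1 := pow_card_eq_one'
          rw [hm] at h1
          apply Subtype.ext
          have := congrArg Subtype.val h1
          simpa using this
        have e : α ^ (p ^ (m * (i + 1))) = β ^ (p ^ m) := by
          rw [hβdef, ← pow_mul, ← pow_add]
          congr 2
        rw [e, hk, hyp, mul_one]
    intro g
    refine ⟨m * n, ?_⟩
    apply Subtype.ext
    have hα : Cfsg.Agent.Helper25.autHom (g : MulAut P) ∈ F.Hom P :=
      (Cfsg.Agent.Helper25.mem_autGroup_iff F hPS _).mp g.2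
    show ((g : MulAut P)) ^ (p ^ (m * n)) = 1
    ext x
    have := hpow n le_rfl (g : MulAut P) hα x (by
      rw [Nat.sub_self]; exact hSD0 (hPS x.2))
    rw [this]; rfl
  exact Cfsg.Agent.Helper26.hom_eq_inner_of_autGroup_isPGroup p hS F hF hmain

end Cfsg.Agent.S5223
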