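import Cfsg.Statements.S5225
import Mathlib
import Cfsg.Agent.Helper1.PGroup
import Cfsg.Agent.Helper26.InnerBasic
import Cfsg.Agent.Helper26.YF2
import Cfsg.Agent.Helper26.YF3

set_option autoImplicit false
open Cfsg
open scoped commutatorElement

namespace Cfsg.Agent.S5225

/-- Yoshida's Theorem for fusion systems. Let F be a saturated fusion system over a finite p-group S and N the normalizer fusion system of S in F. If the focal subgroups of F and N differ (N does not control transfer in F), then S has a quotient isomorphic to the wreath product C_p ≀ C_p (realised as a Sylow p-subgroup of the symmetric group of degree p²). -/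
theorem result {Ω : Type*} [Group Ω] {S : Subgroup Ω} [Finite S] (p : ℕ) [Fact p.Prime] (hS : IsPGroup p S) (F : Cfsg.FusionSystem S) (hF : F.IsSaturated p) (N : Cfsg.FusionSystem (Cfsg.FusionSystem.normalizerIn S S)) (hN : F.IsNormalizerSystem S N) (hne : N.focalSubgroup ≠ F.focalSubgroup) : ∃ (W : Sylow p (Equiv.Perm (Fin (p ^ 2)))) (f : ↥S →* ↥(W : Subgroup (Equiv.Perm (Fin (p ^ 2))))), Function.Surjective f := by
  classical
  have hpp : p.Prime := Fact.out
  by_contra hnw
  apply hne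
  have hFS : F.focalSubgroup ≤ S := by
    unfold FusionSystem.focalSubgroup
    rw [Subgroup.closure_le]
    rintro y ⟨P, φ, x, hφ, rfl⟩
    obtain ⟨hP, hφS⟩ := F.le_of_mem hφ
    exact S.mul_mem (S.inv_mem (hP x.2)) (hφS x)
  have hNF : N.focalSubgroup ≤ F.focalSubgroup := by
    unfold FusionSystem.focalSubgroup
    apply Subgroup.closure_mono
    rintro y ⟨P, φ, x, hφ, rfl⟩
    rw [hN P] at hφ
    exact ⟨P, φ, x, hφ.1, rfl⟩
  apply le_antisymm hNF
  have hNS : N.focalSubgroup ≤ S := hNF.trans hFS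
  obtain ⟨D, hD⟩ : ∃ D : Subgroup ↥S, D = N.focalSubgroup.subgroupOf S := ⟨_, rfl⟩
  have hDmap : D.map S.subtype = N.focalSubgroup := by
    rw [hD]; exact Subgroup.map_subgroupOf_eq_of_le hNS
  have hmemD : ∀ s : ↥S, s ∈ D ↔ (s : Ω) ∈ N.focalSubgroup := by
    intro s; rw [hD, Subgroup.mem_subgroupOf]
  have hSN : S ≤ FusionSystem.normalizerIn S S := fun y hy => ⟨hy, Subgroup.le_normalizer hy⟩
  have hD1 : commutator ↥S ≤ D := by
    rw [_root_.commutator_def, Subgroup.commutator_le]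
    intro g₁ _ g₂ _
    rw [hmemD]
    apply Subgroup.subset_closure
    refine ⟨FusionSystem.normalizerIn S S, Cfsg.conjHom _ (g₂ : Ω),
      ⟨(g₁ : Ω)⁻¹, hSN (S.inv_mem g₁.2)⟩, N.conj_mem le_rfl (hSN g₂.2), ?_⟩
    simp only [commutatorElement_def, Cfsg.conjHom, Subgroup.coe_mul, Subgroup.coe_inv,
      MonoidHom.comp_apply, Subgroup.coe_subtype, MulEquiv.coe_toMonoidHom, MulAut.conj_apply,
      inv_inv]
    group
  haveI hDn : D.Normal := by
    refine ⟨fun n hn g => ?_⟩
    have e : g * n * g⁻¹ = ⁅g, n⁆ * n := by rw [commutatorElement_def]; group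
    rw [e]
    apply D.mul_mem _ hn
    apply hD1
    rw [_root_.commutator_def]
    exact Subgroup.commutator_mem_commutator (Subgroup.mem_top _) (Subgroup.mem_top _)
  have hD2 : D.map S.subtype ≤ F.focalSubgroup := by rw [hDmap]; exact hNF
  suffices hD3 : F.focalSubgroup ≤ (D ⊔ frattini ↥S).map S.subtype by
    have h := Cfsg.Agent.Helper26.YF.focal_le_of_le_sup_frattini p hS F hF D hD1 hD2 hD3
    rwa [hDmap] at h
  obtain ⟨D₁, hD₁⟩ : ∃ D₁ : Subgroup ↥S, D₁ = D ⊔ frattini ↥S := ⟨_, rfl⟩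
  rw [← hD₁]
  haveI hD₁n : D₁.Normal := by rw [hD₁]; infer_instance
  have hDD₁ : D ≤ D₁ := by rw [hD₁]; exact le_sup_left
  have hFD₁ : frattini ↥S ≤ D₁ := by rw [hD₁]; exact le_sup_right
  have hcomm : ∀ a b : ↥S ⧸ D₁, a * b = b * a := by
    intro a b
    obtain ⟨a, rfl⟩ := QuotientGroup.mk_surjective a
    obtain ⟨b, rfl⟩ := QuotientGroup.mk_surjective b
    rw [← QuotientGroup.mk_mul, ← QuotientGroup.mk_mul, QuotientGroup.eq]
    apply hDD₁
    apply hD1
    have h1 : (a * b)⁻¹ * (b * a) = ⁅b⁻¹, a⁻¹⁆ := by rw [commutatorElement_def]; group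
    rw [h1, _root_.commutator_def]
    exact Subgroup.commutator_mem_commutator (Subgroup.mem_top _) (Subgroup.mem_top _)
  letI : CommGroup (↥S ⧸ D₁) :=
    { (inferInstance : Group (↥S ⧸ D₁)) with mul_comm := hcomm }
  have hexp : ∀ a : ↥S ⧸ D₁, a ^ p = 1 := by
    intro a
    obtain ⟨a, rfl⟩ := QuotientGroup.mk_surjective a
    rw [← QuotientGroup.mk_pow, QuotientGroup.eq_one_iff]
    exact hFD₁ (Cfsg.Agent.Helper1.IsPGroup.pow_mem_frattini hS a)
  let π₁ : ↥S →* ↥S ⧸ D₁ := QuotientGroup.mk' D₁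
  let ρ : Abelianization ↥S →* ↥S ⧸ D₁ := Abelianization.lift π₁
  have hρof : ∀ s : ↥S, ρ (Abelianization.of s) = π₁ s := fun s =>
    Abelianization.lift_apply_of π₁ s
  have hρinv : ∀ (ψ : ↥S →* Ω), ψ ∈ F.Hom S → ∀ (u s : ↥S), ψ u = (s : Ω) →
      ρ (Abelianization.of s) = ρ (Abelianization.of u) := by
    intro ψ hψ u s hs
    rw [hρof, hρof]
    symm
    show (QuotientGroup.mk u : ↥S ⧸ D₁) = QuotientGroup.mk s
    rw [QuotientGroup.eq]
    apply hDD₁
    rw [hmemD]
    apply Subgroup.subset_closure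
    refine ⟨S, ψ, u, ?_, ?_⟩
    · rw [hN S]
      have hψS : ∀ x : ↥S, ψ x ∈ S := (F.le_of_mem hψ).2
      apply Cfsg.Agent.Helper26.MasterRed.mem_normalizerHom_of_le F le_rfl hψ hSN
        (fun x => hSN (hψS x))
      apply Subgroup.eq_of_le_of_card_ge
      · rintro _ ⟨x, -, rfl⟩
        exact hψS x
      · have hinj : Function.Injective ψ := F.injective_of_mem hψ
        have h1 : Nat.card ↥((S.subgroupOf S).map ψ) = Nat.card ↥(S.subgroupOf S) :=
          Subgroup.card_map_of_injective hinj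
        have h2 : S.subgroupOf S = ⊤ := Subgroup.subgroupOf_self S
        rw [h1, h2, Subgroup.card_top]
    · rw [Subgroup.coe_mul, Subgroup.coe_inv, hs]
  have hkills := Cfsg.Agent.Helper26.YF.kills_focal p hS F hF hexp ρ hρinv hnw
  intro y hy
  have hyS : y ∈ S := hFS hy
  have h1 := hkills ⟨y, hyS⟩ hy
  rw [hρof] at h1
  exact ⟨⟨y, hyS⟩, (QuotientGroup.eq_one_iff _).1 h1, rfl⟩

end Cfsg.Agent.S5225
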