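import Cfsg.Statements.S5238
import Cfsg.Agent.Helper10.PearlMain
import Cfsg.Agent.Helper10.PearlFusionA
import Cfsg.Agent.Helper9.PearlFB

set_option autoImplicit false
open Cfsg

namespace Cfsg.Agent.S5238

open Cfsg.Agent.Helper10.Pearl

/-- Let p be an odd prime and F a saturated fusion system over a finite p-group S having a pearl: an F-essential subgroup E that is elementary abelian of order p² or nonabelian of order p³. Then S has maximal nilpotency class (if S has order pⁿ with n ≥ 3, the term of index n − 2 of its lower central series, counting S itself as the term of index 0, is nontrivial), and every subgroup of S can be generated by at most p elements (the sectional rank of S is at most p). -/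
theorem result {Ω : Type*} [Group Ω] {S : Subgroup Ω} [Finite S] (p : ℕ) [Fact p.Prime] (hS : IsPGroup p S) (F : Cfsg.FusionSystem S) (hF : F.IsSaturated p) (hp : p ≠ 2) (E : Subgroup Ω) (hE : F.IsEssential p E) (hpearl : (Nat.card E = p ^ 2 ∧ ∀ x ∈ E, x ^ p = 1 ∧ IsMulCommutative ↥E) ∨ (Nat.card E = p ^ 3 ∧ ¬ IsMulCommutative ↥E)) : (∀ n : ℕ, Nat.card S = p ^ n → 3 ≤ n → Subgroup.lowerCentralSeries S (n - 2) ≠ ⊥) ∧ ∀ H : Subgroup Ω, H ≤ S → ∃ T : Finset Ω, T.card ≤ p ∧ Subgroup.closure (T : Set Ω) = H := by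
  have hpp : p.Prime := Fact.out
  have hES : E ≤ S := hE.1.1
  have hne : E ≠ S := Cfsg.Agent.Helper25.Oliver.ne_of_isEssential p hS F hF hE
  -- the uniform element
  obtain ⟨s, hs⟩ : ∃ s : ↥S, Nat.card (Subgroup.centralizer ({s} : Set ↥S)) = p ^ 2 := by
    rcases hpearl with ⟨hc, -⟩ | ⟨hc, hna⟩
    · exact Cfsg.Agent.Helper10.Pearl.exists_uniform_of_pearl_abelian p hS F hF E hE hc
    · exact Cfsg.Agent.Helper9.Pearl.exists_uniform_of_pearl_nonabelian p hS F hF E hE hc hna
  obtain ⟨n, hn⟩ := IsPGroup.iff_card.mp hS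
  -- `3 ≤ n`
  have hn3 : 3 ≤ n := by
    have hlt : Nat.card (E.subgroupOf S) < Nat.card S := by
      have hneT : E.subgroupOf S ≠ ⊤ := fun h =>
        hne (le_antisymm hES (Subgroup.subgroupOf_eq_top.mp h))
      have h1 := Subgroup.one_lt_index_of_ne_top hneT
      have h2 := (E.subgroupOf S).card_mul_index
      have h3 : 0 < Nat.card (E.subgroupOf S) := Nat.card_pos
      nlinarith
    have hcE : Nat.card (E.subgroupOf S) = Nat.card E :=
      Nat.card_congr (Subgroup.subgroupOfEquivOfLe hES).toEquiv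
    have h2 : p ^ 2 ≤ Nat.card E := by
      rcases hpearl with ⟨hc, -⟩ | ⟨hc, -⟩
      · rw [hc]
      · rw [hc]; exact Nat.pow_le_pow_right hpp.pos (by norm_num)
    rw [hcE, hn] at hlt
    have h3 : p ^ 2 < p ^ n := lt_of_le_of_lt h2 hlt
    have := (Nat.pow_lt_pow_iff_right hpp.one_lt).mp h3
    omega
  obtain ⟨hmax, hrank⟩ := uniform_main hn hn3 s hs
  refine ⟨?_, ?_⟩
  · intro m hm _ hbot
    have hmn : m = n := Nat.pow_right_injective hpp.two_le (hm.symm.trans hn)
    subst hmn
    apply hmax
    have h1 := Subgroup.top_subtype_lowerCentralSeries S (m - 2)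
    rw [hbot] at h1
    exact (Subgroup.map_eq_bot_iff_of_injective _ S.subtype_injective).mp h1
  · intro H hHS
    obtain ⟨T, hT, hcl⟩ := hrank (H.subgroupOf S)
    refine ⟨T.map ⟨Subtype.val, Subtype.val_injective⟩, ?_, ?_⟩
    · rw [Finset.card_map]; exact hT
    · have h1 := MonoidHom.map_closure S.subtype (T : Set ↥S)
      rw [hcl, Subgroup.map_subgroupOf_eq_of_le hHS] at h1
      rw [h1]
      congr 1
      ext x
      simp
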