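import Cfsg.Statements.S5239
import Cfsg.Agent.Helper10.Pearl3Main
import Cfsg.Agent.Helper10.PearlFusionA
import Cfsg.Agent.Helper9.PearlFB
import Cfsg.Agent.Helper1.Pearl3X2
import Cfsg.Agent.Helper9.Pearl3X1
import Cfsg.Agent.Helper9.Pearl3X3
import Cfsg.Agent.Helper13.Pearl3X4

set_option autoImplicit false
open Cfsg

namespace Cfsg.Agent.S5239

open Cfsg.Agent.Helper10.Pearl3 Cfsg.Agent.Helper1.Pearl3 Cfsg.Agent.Helper9.Pearl3 Cfsg.Agent.Helper13.Pearl3

/-- Let F be a saturated fusion system over a finite 3-group S having a pearl: an F-essential subgroup E that is elementary abelian of order 9 or nonabelian of order 27. Then either S is extraspecial of order 27 and exponent 3, or S has order at least 81 and every subgroup of S can be generated by at most two elements, or S is isomorphic to the wreath product C₃ ≀ C₃ (a Sylow 3-subgroup of the symmetric group of degree 9). -/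
theorem result {Ω : Type*} [Group Ω] {S : Subgroup Ω} [Finite S] (hS : IsPGroup 3 S) (F : Cfsg.FusionSystem S) (hF : F.IsSaturated 3) [Fact (Nat.Prime 3)] (E : Subgroup Ω) (hE : F.IsEssential 3 E) (hpearl : (Nat.card E = 9 ∧ ∀ x ∈ E, x ^ 3 = 1 ∧ IsMulCommutative ↥E) ∨ (Nat.card E = 27 ∧ ¬ IsMulCommutative ↥E)) : (Cfsg.IsExtraspecial 3 ↥S ∧ Nat.card S = 27 ∧ Monoid.exponent ↥S = 3) ∨ (81 ≤ Nat.card S ∧ ∀ H : Subgroup Ω, H ≤ S → ∃ T : Finset Ω, T.card ≤ 2 ∧ Subgroup.closure (T : Set Ω) = H) ∨ (∃ W : Sylow 3 (Equiv.Perm (Fin 9)), Nonempty (↥S ≃* ↥(W : Subgroup (Equiv.Perm (Fin 9))))) := by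
  have hpp : Nat.Prime 3 := Fact.out
  have hES : E ≤ S := hE.1.1
  have hne : E ≠ S := Cfsg.Agent.Helper25.Oliver.ne_of_isEssential 3 hS F hF hE
  have hcEsub : Nat.card (E.subgroupOf S) = Nat.card E :=
    Nat.card_congr (Subgroup.subgroupOfEquivOfLe hES).toEquiv
  have hlt : Nat.card E < Nat.card S := by
    rw [← hcEsub]
    have hneT : E.subgroupOf S ≠ ⊤ := fun h =>
      hne (le_antisymm hES (Subgroup.subgroupOf_eq_top.mp h))
    have h1 := Subgroup.one_lt_index_of_ne_top hneT
    have h2 := (E.subgroupOf S).card_mul_index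
    have h3 : 0 < Nat.card (E.subgroupOf S) := Nat.card_pos
    nlinarith
  -- the uniform element
  obtain ⟨s, hs⟩ : ∃ s : ↥S, Nat.card (Subgroup.centralizer ({s} : Set ↥S)) = 3 ^ 2 := by
    rcases hpearl with ⟨hc, -⟩ | ⟨hc, hna⟩
    · exact Cfsg.Agent.Helper10.Pearl.exists_uniform_of_pearl_abelian 3 hS F hF E hE
        (by rw [hc]; norm_num)
    · exact Cfsg.Agent.Helper9.Pearl.exists_uniform_of_pearl_nonabelian 3 hS F hF E hE
        (by rw [hc]; norm_num) hna
  obtain ⟨n, hn⟩ := IsPGroup.iff_card.mp hS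
  have hn3 : 3 ≤ n := by
    have h2 : 3 ^ 2 ≤ Nat.card E := by
      rcases hpearl with ⟨hc, -⟩ | ⟨hc, -⟩ <;> rw [hc] <;> norm_num
    rw [hn] at hlt
    have h3 : 3 ^ 2 < 3 ^ n := lt_of_le_of_lt h2 hlt
    have := (Nat.pow_lt_pow_iff_right hpp.one_lt).mp h3
    omega
  by_cases hn4 : 4 ≤ n
  · -- order at least 81
    right
    rcases main_ge_four hn hn4 s hs with hall | hW
    · left
      refine ⟨?_, ?_⟩
      · rw [hn]
        calc 81 = 3 ^ 4 := by norm_num
          _ ≤ 3 ^ n := Nat.pow_le_pow_right (by norm_num) hn4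
      · intro H hHS
        obtain ⟨T, hT, hcl⟩ := hall (H.subgroupOf S)
        refine ⟨T.map ⟨Subtype.val, Subtype.val_injective⟩, ?_, ?_⟩
        · rw [Finset.card_map]; exact hT
        · have h1 := MonoidHom.map_closure S.subtype (T : Set ↥S)
          rw [hcl, Subgroup.map_subgroupOf_eq_of_le hHS] at h1
          rw [h1]
          congr 1
          ext x
          simp
    · exact Or.inr hW
  · -- order 27
    left
    have hn3' : n = 3 := by omega
    subst hn3'
    have hcS : Nat.card S = 27 := by rw [hn]; norm_num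
    -- the pearl has order 9
    have hE9 : Nat.card E = 9 ∧ ∀ x ∈ E, x ^ 3 = 1 ∧ IsMulCommutative ↥E := by
      rcases hpearl with h | ⟨hc, -⟩
      · exact h
      · exfalso
        rw [hc, hcS] at hlt
        exact lt_irrefl _ hlt
    obtain ⟨hc9, hEl⟩ := hE9
    have hexpE : ∀ x ∈ E, x ^ 3 = 1 := fun x hx => (hEl x hx).1
    have hcommE : ∀ a b : ↥E, a * b = b * a := by
      have := (hEl 1 E.one_mem).2
      exact fun a b => this.is_comm.comm a b
    obtain ⟨α, hα, c, hc, z, hz, hcz, hc1, hc3, hαc⟩ :=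
      exists_aut_not_normalizing hS hcS F hF E hE hc9
    have : Finite ↥E := Nat.finite_of_card_ne_zero (by rw [hc9]; norm_num)
    obtain ⟨τ, hτ, hinv⟩ := exists_inverting_of_not_normal hc9 hcommE
      (fun v => Subtype.ext (by simpa using hexpE v v.2)) (F.autGroup E) c α hc hα z hz hcz hc1 hc3
      hαc
    have hcube := pow_three_eq_one_of_inverting hS hcS F hF E hE hc9 hexpE τ hτ hinv
    refine ⟨?_, hcS, ?_⟩
    · apply isExtraspecial_of_card_cube (p := 3) (by rw [hcS]; norm_num)
      intro hab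
      -- abelian would make `C(s)` everything
      have : Subgroup.centralizer ({s} : Set ↥S) = ⊤ := by
        rw [eq_top_iff]
        intro x _
        rw [Subgroup.mem_centralizer_iff]
        intro y hy
        exact hab y x
      rw [this, Subgroup.card_top, hcS] at hs
      norm_num at hs
    · have hdvd : Monoid.exponent ↥S ∣ 3 := Monoid.exponent_dvd_of_forall_pow_eq_one hcube
      rcases (Nat.dvd_prime hpp).mp hdvd with h1 | h3
      · exfalso
        have hsub : Subsingleton ↥S := Monoid.exp_eq_one_iff.mp h1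
        have : Nat.card ↥S = 1 := Nat.card_eq_one_iff_unique.mpr ⟨hsub, ⟨1⟩⟩
        rw [hcS] at this
        norm_num at this
      · exact h3
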