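import Cfsg.Statements.S5244
import Cfsg.Agent.Helper26.OL10
import Cfsg.Agent.Helper26.OL11

set_option autoImplicit false
open Cfsg

namespace Cfsg.Agent.S5244

/-- Let p be an odd prime, S a finite nonabelian p-group with a unique abelian subgroup A of index p, and F a saturated fusion system over S with no nontrivial normal subgroup (O_p(F) = 1) in which A is not F-essential. Then some subgroup Z(S)⟨x⟩ with x ∈ S outside A is F-essential, the centre Z(S) is contained in the commutator subgroup of S, and S has maximal nilpotency class (if S has order pⁿ with n ≥ 3, the term of index n − 2 of its lower central series, counting S itself as the term of index 0, is nontrivial). -/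
theorem result {Ω : Type*} [Group Ω] {S : Subgroup Ω} [Finite S] (p : ℕ) [Fact p.Prime] (hS : IsPGroup p S) (F : Cfsg.FusionSystem S) (hF : F.IsSaturated p) (hp : p ≠ 2) (hna : ¬ IsMulCommutative ↥S) (A : Subgroup Ω) (hA : A ≤ S ∧ IsMulCommutative ↥A ∧ (A.subgroupOf S).index = p) (huniq : ∀ B : Subgroup Ω, B ≤ S → IsMulCommutative ↥B → (B.subgroupOf S).index = p → B = A) (hcore : F.core = ⊥) (hAe : ¬ F.IsEssential p A) : (∃ x ∈ S, x ∉ A ∧ F.IsEssential p ((S ⊓ Subgroup.centralizer (S : Set Ω)) ⊔ Subgroup.zpowers x)) ∧ (S ⊓ Subgroup.centralizer (S : Set Ω)) ≤ (commutator ↥S).map S.subtype ∧ ∀ n : ℕ, Nat.card S = p ^ n → 3 ≤ n → Subgroup.lowerCentralSeries S (n - 2) ≠ ⊥ := by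
  have hH : Cfsg.Agent.Helper26.OL.Hyp p S A := by
    refine ⟨hS, hA.1, ?_, hA.2.2, ?_⟩
    · intro a ha b hb
      have := hA.2.1.is_comm.comm (⟨a, ha⟩ : ↥A) ⟨b, hb⟩
      exact congrArg Subtype.val this
    · by_contra hno
      apply hna
      refine ⟨⟨fun a b => Subtype.ext ?_⟩⟩
      by_contra hab
      exact hno ⟨a, a.2, b, b.2, hab⟩
  obtain ⟨hle, hcard⟩ := Cfsg.Agent.Helper26.OL.ZZ_le_Z0 hH hp F hF hAe hcore
  refine ⟨?_, ?_, ?_⟩
  · obtain ⟨x, hx, hxA, hess⟩ := Cfsg.Agent.Helper26.OL.exists_essential_PP hH F hF hAe hcore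
    exact ⟨x, hx, hxA, hess⟩
  · rw [Subgroup.map_subtype_commutator]
    exact fun z hz => (hle hz).2
  · exact fun n hn h3 => Cfsg.Agent.Helper26.OL.lcs_ne_bot hH hcard n hn h3

end Cfsg.Agent.S5244
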