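import Cfsg.Statements.S5245
import Cfsg.Agent.Helper25.FusionSparse

set_option autoImplicit false
open Cfsg

namespace Cfsg.Agent.S5245

/-- Let F be an extremely sparse fusion system over a finite p-group S (saturated, not the inner system, and every saturated fusion system over any subgroup T of S contained in F is F itself or the inner system of T). Then S is normal in F, the focal and hyperfocal subgroups of F are both S, and Aut_F(S) is generated by the inner automorphisms of S together with a single automorphism of prime order q ≠ p (F is the fusion system of the semidirect product of S by a cyclic group of prime order). -/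
theorem result {Ω : Type*} [Group Ω] {S : Subgroup Ω} [Finite S] (p : ℕ) [Fact p.Prime] (hS : IsPGroup p S) (F : Cfsg.FusionSystem S) (hF : F.IsSaturated p) (hxs : ¬ (∀ P : Subgroup Ω, F.Hom P = (Cfsg.innerFusionSystem S).Hom P) ∧ ∀ (T : Subgroup Ω) (E : Cfsg.FusionSystem T), E.IsSaturated p → E.IsSubsystemOf F → (T = S ∧ ∀ P : Subgroup Ω, E.Hom P = F.Hom P) ∨ (∀ P : Subgroup Ω, E.Hom P = (Cfsg.innerFusionSystem T).Hom P)) : F.IsNormal S ∧ F.focalSubgroup = S ∧ F.hyperfocalSubgroup p = S ∧ ∃ (q : ℕ) (β : MulAut ↥S), q.Prime ∧ q ≠ p ∧ β ∈ F.autGroup S ∧ orderOf β = q ∧ (F.autGroup S : Subgroup (MulAut ↥S)) = Cfsg.Inn ↥S ⊔ Subgroup.zpowers β := by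
  classical
  obtain ⟨hni, hsp⟩ := hxs
  have hp := (Fact.out : p.Prime)
  have hfinA : ∀ P : Subgroup Ω, P ≤ S → Finite (MulAut P) := by
    intro P hP
    have : Finite P := Finite.of_injective (Subgroup.inclusion hP) (Subgroup.inclusion_injective hP)
    exact Finite.of_injective (fun e : MulAut P => (e : P → P)) (fun a b h => MulEquiv.ext (congrFun h))
  -- proper subgroups have `p`-group automizers
  have hB : ∀ P : Subgroup Ω, P ≤ S → P ≠ S → IsPGroup p (F.autGroup P) := by
    intro P hP hne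
    have := hfinA P hP
    apply Cfsg.Agent.Helper25.PFour.isPGroup_of_coprime_trivial p
    intro g hg
    by_contra hg1
    have hg' : (g : MulAut P) ≠ 1 := fun h => hg1 (Subtype.ext h)
    have hcop : (orderOf (g : MulAut P)).Coprime p := by rwa [Subgroup.orderOf_coe]
    exact hne (Cfsg.Agent.Helper25.sparse_key p hS F hsp hP g.2 hcop hg').1
  -- `S` is normal in `F`
  have hnorm : F.IsNormal S := by
    apply Cfsg.Agent.Helper25.isNormal_of_alperin p hS F hF S
    intro P hP
    have hPS : P = S := by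
      rcases hP with rfl | hess
      · rfl
      · by_contra hne
        exact Cfsg.Agent.S5083.not_essential_of_isPGroup p F P (hB P hess.2.1.1 hne) hess
    rw [hPS]
    refine ⟨le_rfl, fun α _ => ?_⟩
    rw [Subgroup.subgroupOf_self]
    exact Subgroup.map_top_of_surjective _ α.surjective
  -- `Aut_F(S)` is not a `p`-group
  have := hfinA S le_rfl
  have hnotp : ¬ IsPGroup p (F.autGroup S) := by
    intro hpS
    apply hni
    have hall : ∀ P : Subgroup Ω, P ≤ S → IsPGroup p (F.autGroup P) := by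
      intro P hP
      by_cases hPS : P = S
      · rw [hPS]; exact hpS
      · exact hB P hP hPS
    have := Cfsg.Agent.S5083.result p hS F hF hall
    intro P
    rw [this]
  obtain ⟨g, hgcop, hg1⟩ : ∃ g : F.autGroup S, (orderOf g).Coprime p ∧ g ≠ 1 := by
    by_contra hcon
    push Not at hcon
    exact hnotp (Cfsg.Agent.Helper25.PFour.isPGroup_of_coprime_trivial p hcon)
  have hog1 : orderOf g ≠ 1 := fun h => hg1 (orderOf_eq_one_iff.mp h)
  obtain ⟨q, hq, hqd⟩ := Nat.exists_prime_and_dvd hog1
  have hqp : q ≠ p := by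
    rintro rfl
    have := Nat.Coprime.eq_one_of_dvd hgcop.symm hqd
    exact hq.one_lt.ne' this
  have hord0 : orderOf (g ^ (orderOf g / q)) = q :=
    orderOf_pow_orderOf_div (orderOf_pos g).ne' hqd
  set β : MulAut S := ((g ^ (orderOf g / q) : F.autGroup S) : MulAut S) with hβdef
  have hβ : β ∈ F.autGroup S := (g ^ (orderOf g / q)).2
  have hord : orderOf β = q := by rw [hβdef, Subgroup.orderOf_coe]; exact hord0
  have hcop : (orderOf β).Coprime p := by
    rw [hord]
    exact (Nat.coprime_primes hq hp).mpr hqp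
  have hβ1 : β ≠ 1 := by
    intro h
    rw [h, orderOf_one] at hord
    exact hq.one_lt.ne' hord.symm
  obtain ⟨-, hEq⟩ := Cfsg.Agent.Helper25.sparse_key p hS F hsp le_rfl hβ hcop hβ1
  have haut : (F.autGroup S : Subgroup (MulAut ↥S)) = Cfsg.Inn ↥S ⊔ Subgroup.zpowers β := by
    rw [← Cfsg.Agent.Helper25.semiSystem_autGroup]
    unfold Cfsg.FusionSystem.autGroup
    rw [hEq S]
  -- the hyperfocal subgroup
  have hHS : F.hyperfocalSubgroup p ≤ S := Cfsg.Agent.Helper25.hyperfocalSubgroup_le F p
  have hsc := Cfsg.Agent.Helper25.hyperfocalSubgroup_stronglyClosed p hS F hF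
  have hinv : ∀ γ ∈ F.autGroup S, ∀ x : S, (x : Ω) ∈ F.hyperfocalSubgroup p →
      ((γ x : S) : Ω) ∈ F.hyperfocalSubgroup p := by
    intro γ hγ x hx
    have h1 : Cfsg.Agent.Helper25.autHom γ ∈ F.Hom S :=
      (Cfsg.Agent.Helper25.mem_autGroup_iff F le_rfl γ).mp hγ
    have h2 := Cfsg.Agent.Helper25.restrict_mem F hHS h1
    exact hsc.2 _ le_rfl _ h2 ⟨x, hx⟩
  have h1 := hinv β hβ
  have h2 : ∀ x : S, (x : Ω) ∈ F.hyperfocalSubgroup p →
      ((β.symm x : S) : Ω) ∈ F.hyperfocalSubgroup p := hinv β⁻¹ ((F.autGroup S).inv_mem hβ)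
  have hgenmem : ∀ x : S, ((x⁻¹ * β x : S) : Ω) ∈ F.hyperfocalSubgroup p := by
    intro x
    apply Subgroup.subset_closure
    exact ⟨S, ⟨β, hβ⟩, x, le_rfl, Cfsg.Agent.Helper25.mem_pResidual_of_coprime F p hβ hcop, rfl⟩
  have hhyp : F.hyperfocalSubgroup p = S := by
    set βH := Cfsg.Agent.Helper25.resAutSub hHS β h1 h2 with hβH
    have hβHmem : βH ∈ F.autGroup (F.hyperfocalSubgroup p) := by
      rw [Cfsg.Agent.Helper25.mem_autGroup_iff F hHS]
      have h3 : Cfsg.Agent.Helper25.autHom β ∈ F.Hom S :=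
        (Cfsg.Agent.Helper25.mem_autGroup_iff F le_rfl β).mp hβ
      have h4 := Cfsg.Agent.Helper25.restrict_mem F hHS h3
      have e : Cfsg.Agent.Helper25.autHom βH =
          (Cfsg.Agent.Helper25.autHom β).comp (Subgroup.inclusion hHS) := by
        ext x
        rfl
      rw [e]
      exact h4
    have hpowq : βH ^ q = 1 := by
      ext x
      rw [Cfsg.Agent.Helper25.resAutSub_pow, ← hord, pow_orderOf_eq_one]
      rfl
    have hcopH : (orderOf βH).Coprime p :=
      Nat.Coprime.coprime_dvd_left (orderOf_dvd_of_pow_eq_one hpowq)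
        ((Nat.coprime_primes hq hp).mpr hqp)
    by_cases hβH1 : βH = 1
    · exfalso
      apply hβ1
      have hfix : ∀ x : S, (x : Ω) ∈ F.hyperfocalSubgroup p → β x = x := by
        intro x hx
        have h5 : βH ⟨x, hx⟩ = ⟨x, hx⟩ := by rw [hβH1]; rfl
        have h6 := congrArg (fun t : ↥(F.hyperfocalSubgroup p) => (t : Ω)) h5
        exact Subtype.ext h6
      ext x
      have := Cfsg.Agent.Helper25.PFour.apply_eq_of_fixes p hS β hcop x (hfix _ (hgenmem x))
      rw [this]
      rfl
    · exact (Cfsg.Agent.Helper25.sparse_key p hS F hsp hHS hβHmem hcopH hβH1).1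
  have hfoc : F.focalSubgroup = S := by
    apply le_antisymm
    · unfold Cfsg.FusionSystem.focalSubgroup
      rw [Subgroup.closure_le]
      rintro y ⟨P, φ, x, hφ, rfl⟩
      obtain ⟨hPS, hφS⟩ := F.le_of_mem hφ
      exact S.mul_mem (S.inv_mem (hPS x.2)) (hφS x)
    · have hle : F.hyperfocalSubgroup p ≤ F.focalSubgroup := by
        unfold Cfsg.FusionSystem.hyperfocalSubgroup Cfsg.FusionSystem.focalSubgroup
        apply Subgroup.closure_mono
        rintro y ⟨P, α, x, hP, -, rfl⟩
        exact ⟨P, Cfsg.Agent.Helper25.autHom (α : MulAut P), x,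
          (Cfsg.Agent.Helper25.mem_autGroup_iff F hP _).mp α.2, rfl⟩
      rw [hhyp] at hle
      exact hle
  exact ⟨hnorm, hfoc, hhyp, q, β, hq, hqp, hβ, hord, haut⟩

end Cfsg.Agent.S5245
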