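import Cfsg.Statements.S5253
import Cfsg.Agent.Helper26.WQMain
import Cfsg.Agent.S5084
import Cfsg.Agent.S5144


set_option autoImplicit false
universe u
open Cfsg

namespace Cfsg.Agent.S5253

/-- Let p be a prime and W a positive characteristic p-functor with Z(Q) ≤ W(Q): W assigns to every finite p-group Q (in a fixed universe) a subgroup W(Q), nontrivial when Q is, carried to W(R) by every isomorphism Q ≅ R, and containing the centre of Q. Suppose that for every finite group G with Sylow p-subgroup P in which W(P) is not normal there is g ∈ P outside O_p(G) with [Z(O_p(G)), g, g] = 1. Then for every saturated fusion system F over a finite p-group S and every normalizer fusion system N of W(S) in F, every p-th power of an element of Z(S) that lies in the centre of N lies in the centre of F. -/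
theorem result {p : ℕ} [Fact p.Prime] (W : ∀ (Q : Type u) [Group Q], Subgroup Q) (hW1 : ∀ (Q : Type u) [Group Q] [Finite Q], IsPGroup p Q → Nontrivial Q → W Q ≠ ⊥) (hW2 : ∀ (Q R : Type u) [Group Q] [Group R] [Finite Q], IsPGroup p Q → ∀ φ : Q ≃* R, (W Q).map φ.toMonoidHom = W R) (hWZ : ∀ (Q : Type u) [Group Q] [Finite Q], IsPGroup p Q → Subgroup.center Q ≤ W Q) (hq : ∀ (G : Type u) [Group G] [Finite G] (P : Sylow p G), ¬ (((W ↥(P : Subgroup G)).map (P : Subgroup G).subtype : Subgroup G)).Normal → ∃ g : G, g ∈ (P : Subgroup G) ∧ g ∉ Cfsg.pCore p G ∧ ⁅⁅Subgroup.center ↥(Cfsg.pCore p G) |>.map (Cfsg.pCore p G).subtype, Subgroup.zpowers g⁆, Subgroup.zpowers g⁆ = ⊥) {Ω : Type u} [Group Ω] {S : Subgroup Ω} [Finite S] (hS : IsPGroup p S) (F : Cfsg.FusionSystem S) (hF : F.IsSaturated p) (N : Cfsg.FusionSystem (Cfsg.FusionSystem.normalizerIn S ((W ↥S).map S.subtype))) (hN : F.IsNormalizerSystem ((W ↥S).map S.subtype) N) : Subgroup.closure ((fun z => z ^ p) '' ((S ⊓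 Subgroup.centralizer (S : Set Ω) : Subgroup Ω) : Set Ω)) ⊓ N.center ≤ F.center := by
  classical
  have hH : Cfsg.Agent.Helper26.WQ.QHyp p W := ⟨hW1, hW2, hWZ, hq⟩
  have hWS : (W ↥S).map S.subtype ≤ S := Cfsg.Agent.Helper26.WC.wup_le (W := W) S
  have hSNW : S ≤ Subgroup.normalizer (((W ↥S).map S.subtype : Subgroup Ω) : Set Ω) :=
    Cfsg.Agent.Helper26.WQ.le_normalizer_qwup hH hS
  have hNS : Cfsg.FusionSystem.normalizerIn S ((W ↥S).map S.subtype) = S :=
    le_antisymm inf_le_left (fun y hy => ⟨hy, hSNW hy⟩)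
  have hRS : Cfsg.FusionSystem.normalizerIn S ((W ↥S).map S.subtype) ≤ S := inf_le_left
  have hRfin : Finite (Cfsg.FusionSystem.normalizerIn S ((W ↥S).map S.subtype)) :=
    Cfsg.Agent.Helper25.finite_of_le hRS
  have hRp : IsPGroup p (Cfsg.FusionSystem.normalizerIn S ((W ↥S).map S.subtype)) :=
    Cfsg.Agent.Helper25.isPGroup_of_le hS hRS
  have hUfn : F.IsFullyNormalized ((W ↥S).map S.subtype) :=
    Cfsg.Agent.Helper26.MasterRed.isFullyNormalized_of_normal F hWS hSNW
  have hNsat : N.IsSaturated p :=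
    Cfsg.Agent.Helper25.normalizerSystem_isSaturated p hS F hF _ hUfn N hN
  have hZ := Cfsg.Agent.S5144.result N
  obtain ⟨hZS, hZc⟩ := (Cfsg.Agent.S5084.result p hRp N hNsat N.center).mp hZ
  -- elements of the closure are `p`-th powers
  have hpow : ∀ x ∈ Subgroup.closure ((fun z => z ^ p) ''
      ((S ⊓ Subgroup.centralizer (S : Set Ω) : Subgroup Ω) : Set Ω)),
      ∃ z ∈ (S ⊓ Subgroup.centralizer (S : Set Ω) : Subgroup Ω), x = z ^ p := by
    intro x hx
    induction hx using Subgroup.closure_induction with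
    | mem y hy =>
      obtain ⟨z, hz, rfl⟩ := hy
      exact ⟨z, hz, rfl⟩
    | one => exact ⟨1, Subgroup.one_mem _, (one_pow p).symm⟩
    | mul a b _ _ iha ihb =>
      obtain ⟨z1, hz1, rfl⟩ := iha
      obtain ⟨z2, hz2, rfl⟩ := ihb
      refine ⟨z1 * z2, Subgroup.mul_mem _ hz1 hz2, ?_⟩
      have hc : Commute z1 z2 := by
        have h1 := (Subgroup.mem_inf.mp hz2).2
        rw [Subgroup.mem_centralizer_iff] at h1
        exact h1 z1 (Subgroup.mem_inf.mp hz1).1
      exact (hc.mul_pow p).symm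
    | inv a _ iha =>
      obtain ⟨z1, hz1, rfl⟩ := iha
      exact ⟨z1⁻¹, Subgroup.inv_mem _ hz1, (inv_pow z1 p).symm⟩
  have hcen : F.IsCentral (Subgroup.closure ((fun z => z ^ p) ''
      ((S ⊓ Subgroup.centralizer (S : Set Ω) : Subgroup Ω) : Set Ω)) ⊓ N.center) := by
    rw [Cfsg.Agent.S5084.result p hS F hF]
    refine ⟨inf_le_right.trans (hZS.trans hRS), ?_⟩
    intro x hx y hxy
    obtain ⟨hx1, hx2⟩ := Subgroup.mem_inf.mp hx
    obtain ⟨z, hz, rfl⟩ := hpow x hx1
    obtain ⟨hzS, hzC⟩ := Subgroup.mem_inf.mp hz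
    rw [Subgroup.mem_centralizer_iff] at hzC
    have hzc : ∀ s ∈ S, s * z = z * s := fun s hs => hzC s hs
    have hnfix : Cfsg.Agent.Helper26.WC.NFix F (Cfsg.Agent.Helper26.WC.Wup W S) (z ^ p) := by
      intro P φ hφ hxP
      have hφN : φ ∈ N.Hom P := by
        rw [hN P]
        exact hφ
      have hzP : Subgroup.zpowers (z ^ p) ≤ P := Subgroup.zpowers_le.mpr hxP
      have h1 := Cfsg.Agent.Helper25.restrict_mem N hzP hφN
      have h2 : N.IsConjElt (z ^ p) (φ ⟨z ^ p, hxP⟩) := ⟨_, h1, rfl⟩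
      exact hZc (z ^ p) hx2 _ h2
    have hfixes := Cfsg.Agent.Helper26.WQ.masterq hH (Nat.card S) Ω S rfl hS F hF z hzS hzc hnfix
    obtain ⟨φ, hφ, hφx⟩ := hxy
    rw [← hφx]
    exact hfixes _ φ hφ (Subgroup.mem_zpowers (z ^ p))
  exact le_sSup hcen

end Cfsg.Agent.S5253
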