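import Cfsg.Statements.S5255
import Cfsg.Agent.Helper25.FusionLift

set_option autoImplicit false
open Cfsg

namespace Cfsg.Agent.S5255

/-- Let F be a saturated fusion system over a finite p-group S and T a subgroup of S strongly closed in F. Then T·C_S(T) is strongly closed in F. -/
theorem result {Ω : Type*} [Group Ω] {S : Subgroup Ω} [Finite S] (p : ℕ) [Fact p.Prime] (hS : IsPGroup p S) (F : Cfsg.FusionSystem S) (hF : F.IsSaturated p) (T : Subgroup Ω) (hT : F.StronglyClosed T) : F.StronglyClosed (T ⊔ Cfsg.FusionSystem.centralizerIn S T) := by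
  open Cfsg.Agent.Helper25 in
  have hTS : T ≤ S := hT.1
  have hCle : Cfsg.FusionSystem.centralizerIn S T ≤ Subgroup.normalizer (T : Set Ω) :=
    inf_le_right.trans (Subgroup.centralizer_le_normalizer _)
  refine ⟨sup_le hTS inf_le_left, fun R hR φ hφ x => ?_⟩
  obtain ⟨-, ψ, hψ, hl⟩ := le_liftSystem p hS F hF hT R hφ
  have hlx := hl x
  -- decompose x
  have hx : (x : Ω) ∈ T ⊔ Cfsg.FusionSystem.centralizerIn S T := hR x.2
  rw [← SetLike.mem_coe, Subgroup.coe_mul_of_right_le_normalizer_left T _ hCle, Set.mem_mul] at hx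
  obtain ⟨t, ht, c, hc, htc⟩ := hx
  have ht' : t ∈ R ⊔ T := Subgroup.mem_sup_right ht
  have hx' : (x : Ω) ∈ R ⊔ T := Subgroup.mem_sup_left x.2
  have hc' : c ∈ R ⊔ T := by
    have e : c = t⁻¹ * (x : Ω) := by rw [← htc]; group
    rw [e]
    exact mul_mem (inv_mem ht') hx'
  -- ψ c centralizes T
  have hψT : ∀ y : Ω, ∀ hy : y ∈ T, ψ ⟨y, Subgroup.mem_sup_right hy⟩ ∈ T := by
    intro y hy
    have := hT.2 T le_rfl (ψ.comp (Subgroup.inclusion le_sup_right)) (restrict_mem F le_sup_right hψ) ⟨y, hy⟩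
    exact this
  have hψS : ∀ z : ↥(R ⊔ T), ψ z ∈ S := fun z => (F.le_of_mem hψ).2 z
  have hfinT : Finite T := finite_of_le hTS
  have hψTsurj : ∀ y ∈ T, ∃ y' : Ω, ∃ hy' : y' ∈ T, ψ ⟨y', Subgroup.mem_sup_right hy'⟩ = y := by
    have hinj : Function.Injective (fun y : T => (⟨ψ ⟨y.1, Subgroup.mem_sup_right y.2⟩, hψT y.1 y.2⟩ : T)) := by
      intro a b hab
      have h1 : ψ ⟨a.1, Subgroup.mem_sup_right a.2⟩ = ψ ⟨b.1, Subgroup.mem_sup_right b.2⟩ :=
        congrArg Subtype.val hab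
      have h2 := F.injective_of_mem hψ h1
      apply Subtype.ext
      exact congrArg (fun z : ↥(R ⊔ T) => (z : Ω)) h2
    have hsurj := Finite.surjective_of_injective hinj
    intro y hy
    obtain ⟨y', hy'⟩ := hsurj ⟨y, hy⟩
    exact ⟨y'.1, y'.2, congrArg Subtype.val hy'⟩
  have hψc : ψ ⟨c, hc'⟩ ∈ Cfsg.FusionSystem.centralizerIn S T := by
    refine Subgroup.mem_inf.mpr ⟨hψS _, ?_⟩
    rw [Subgroup.mem_centralizer_iff]
    intro y hy
    obtain ⟨y', hy', rfl⟩ := hψTsurj y hy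
    rw [← map_mul, ← map_mul]
    congr 1
    apply Subtype.ext
    exact (Subgroup.mem_centralizer_iff.mp hc.2) y' hy'
  have hψx : ψ ⟨(x : Ω), hx'⟩ = ψ ⟨t, ht'⟩ * ψ ⟨c, hc'⟩ := by
    rw [← map_mul]
    congr 1
    apply Subtype.ext
    exact htc.symm
  have e : φ x = ψ ⟨(x : Ω), hx'⟩ * ((φ x)⁻¹ * ψ ⟨(x : Ω), hx'⟩)⁻¹ := by group
  rw [e, hψx]
  have hl' : (φ x)⁻¹ * (ψ ⟨t, ht'⟩ * ψ ⟨c, hc'⟩) ∈ T := by
    rw [← hψx]
    exact hlx
  exact mul_mem (mul_mem (Subgroup.mem_sup_left (hψT t ht)) (Subgroup.mem_sup_right hψc))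
    (Subgroup.mem_sup_left (inv_mem hl'))

end Cfsg.Agent.S5255
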