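import Cfsg.Statements.S5257
import Cfsg.Agent.Helper25.OliverD
import Cfsg.Agent.Helper25.OliverF

set_option autoImplicit false
open Cfsg

namespace Cfsg.Agent.S5257

/-- Let p be an odd prime, S a finite nonabelian p-group with a unique abelian subgroup A of index p, and F a saturated fusion system over S having an F-essential subgroup other than A. Then the second centre Z₂(S) lies in A; Z(S) ∩ [S, S] has order p; Z(S)[S, S] has index p in A; Z(S) has index p in Z₂(S); and S/Z(S) has maximal nilpotency class (if S/Z(S) has order pᵐ with m ≥ 3 then the term of index m − 2 of the lower central series of S, counting S as index 0, is not contained in Z(S)). -/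
theorem result {Ω : Type*} [Group Ω] {S : Subgroup Ω} [Finite S] (p : ℕ) [Fact p.Prime] (hS : IsPGroup p S) (F : Cfsg.FusionSystem S) (hF : F.IsSaturated p) (hp : p ≠ 2) (hna : ¬ IsMulCommutative ↥S) (A : Subgroup Ω) (hA : A ≤ S ∧ IsMulCommutative ↥A ∧ (A.subgroupOf S).index = p) (huniq : ∀ B : Subgroup Ω, B ≤ S → IsMulCommutative ↥B → (B.subgroupOf S).index = p → B = A) (P : Subgroup Ω) (hP : F.IsEssential p P) (hPA : P ≠ A) : ((upperCentralSeries ↥S 2).map S.subtype) ≤ A ∧ Nat.card ↥((S ⊓ Subgroup.centralizer (S : Set Ω)) ⊓ ((commutator ↥S).map S.subtype)) = p ∧ (((S ⊓ Subgroup.centralizer (S : Set Ω)) ⊔ ((commutator ↥S).map S.subtype)).subgroupOf A).index = p ∧ (((S ⊓ Subgroup.centralizer (S : Set Ω))).subgroupOf ((upperCentralSeries ↥S 2).map S.subtype)).index = p ∧ ∀ m : ℕ, ((S ⊓ Subgroup.centralizer (S : Set Ω)).subgroupOf S).index = p ^ m → 3 ≤ m → ¬ Subgroup.lowerCentralSeries S (m - 2) ≤ (S ⊓ Subgroup.centralizer (S : Set Ω)) := by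
  have hp' := (Fact.out : p.Prime)
  obtain ⟨hAS, hAcomm, hAi⟩ := hA
  have hAc : ∀ a ∈ A, ∀ b ∈ A, a * b = b * a := fun a ha b hb =>
    congrArg Subtype.val (hAcomm.is_comm.comm (⟨a, ha⟩ : A) ⟨b, hb⟩)
  have hAi' : A.relIndex S = p := hAi
  have hna' : ¬ ∀ s ∈ S, ∀ t ∈ S, s * t = t * s := by
    intro h
    exact hna ⟨⟨fun a b => Subtype.ext (h a a.2 b b.2)⟩⟩
  have hAN : S ≤ Subgroup.normalizer (A : Set Ω) :=
    Cfsg.Agent.Helper25.Oliver.le_normalizer_of_index_prime hS hAS hAi'
  have e : upperCentralSeries ↥S 2 = Subgroup.upperCentralSeries ↥S 2 := rfl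
  rw [e]
  obtain ⟨x, hxP, hxA, hcase, hidx, hZW⟩ :=
    Cfsg.Agent.Helper25.Oliver.core2 p hS F hF hna' A hAS hAc hAi' P hP hPA
  obtain ⟨hPnA, hAP, -⟩ := Cfsg.Agent.Helper25.Oliver.core1 p hS F hF A hAS hAc hAi' P hP hPA
  have hPS : P ≤ S := hP.2.1.1
  have hxS : x ∈ S := hPS hxP
  have hZA : Cfsg.Agent.Helper25.Oliver.ZS S ≤ A :=
    Cfsg.Agent.Helper25.Oliver.ZS_le hp' hAS hAi' hAc hna'
  have hfinA : Finite A := Finite.of_injective (Subgroup.inclusion hAS) (Subgroup.inclusion_injective hAS)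
  -- (1)
  have hWA : Cfsg.Agent.Helper25.Oliver.W2 S ≤ A := by
    rcases hcase with h | ⟨hWA, -⟩
    · by_contra hW
      obtain ⟨y, hyW, hyA⟩ := SetLike.not_le_iff_exists.mp hW
      have hAW := Cfsg.Agent.Helper25.Oliver.le_W2_of_not_le hp' hAS hAi' hAc hyW hyA
      have h1 : Cfsg.Agent.Helper25.Oliver.W2 S ⊓ A = A := inf_eq_right.mpr hAW
      rw [h1] at hZW
      have hZP : Cfsg.Agent.Helper25.Oliver.ZS S ≤ P := by
        rw [h]
        exact le_sup_left
      have hPc : ∀ s ∈ P, ∀ t ∈ P, s * t = t * s := by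
        rw [h]
        exact Cfsg.Agent.Helper25.Oliver.comm_sup_zpowers (Cfsg.Agent.Helper25.Oliver.ZS S)
          (fun a ha b hb => (Cfsg.Agent.Helper25.Oliver.mem_ZS.mp hb).2 a
            (Cfsg.Agent.Helper25.Oliver.mem_ZS.mp ha).1) x
          (fun b hb => ((Cfsg.Agent.Helper25.Oliver.mem_ZS.mp hb).2 x hxS).symm)
      have hP₀ : P ⊓ A = Cfsg.Agent.Helper25.Oliver.ZS S := by
        apply le_antisymm
        · intro q hq
          exact Cfsg.Agent.Helper25.Oliver.mem_ZS_of_comm hp' hAS hAi' hAc hxS hxA hq.2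
            (hPc q hq.1 x hxP)
        · exact le_inf hZP hZA
      have hPi : P.relIndex S = p := by
        have h2 : (Cfsg.Agent.Helper25.Oliver.ZS S).relIndex P = p := by
          rw [← hP₀, Subgroup.inf_relIndex_left]
          exact hAP
        have h3 := Subgroup.relIndex_mul_relIndex (Cfsg.Agent.Helper25.Oliver.ZS S) P S hZP hPS
        have h4 := Subgroup.relIndex_mul_relIndex (Cfsg.Agent.Helper25.Oliver.ZS S) A S hZA hAS
        rw [h2] at h3
        rw [hZW, hAi'] at h4
        exact Nat.eq_of_mul_eq_mul_left hp'.pos (h3.trans h4.symm)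
      exact hPA (huniq P hPS ⟨⟨fun a b => Subtype.ext (hPc a a.2 b b.2)⟩⟩ hPi)
    · exact hWA
  have hZW' : (Cfsg.Agent.Helper25.Oliver.ZS S).relIndex (Cfsg.Agent.Helper25.Oliver.W2 S) = p := by
    have h1 : Cfsg.Agent.Helper25.Oliver.W2 S ⊓ A = Cfsg.Agent.Helper25.Oliver.W2 S :=
      inf_eq_left.mpr hWA
    rw [h1] at hZW
    exact hZW
  have hxN := hAN hxS
  have hK := Cfsg.Agent.Helper25.Oliver.map_ker_commEnd hp' hAS hAi' hAc hxS hxA hxN hZA
  have hI := Cfsg.Agent.Helper25.Oliver.map_range_commEnd hp' hAS hAi' hAc hxS hxA hxN hna' hAN hZA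
  have hW := Cfsg.Agent.Helper25.Oliver.map_comap_ker_commEnd hp' hAS hAi' hAc hxS hxA hxN hZA hWA
  set T := Cfsg.Agent.Helper25.Oliver.commEnd hAc hxN with hT
  have hWrel : T.ker.relIndex (T.ker.comap T) = p := by
    have h1 := Subgroup.relIndex_map_map_of_injective T.ker (T.ker.comap T) A.subtype_injective
    rw [hK, hW] at h1
    rw [← h1]
    exact hZW'
  refine ⟨hWA, ?_, ?_, hZW', ?_⟩
  · have h2 := Cfsg.Agent.Helper25.Oliver.card_ker_inf_range hp' T hWrel
    have h3 : (T.ker ⊓ T.range).map A.subtype =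
        Cfsg.Agent.Helper25.Oliver.ZS S ⊓ (commutator ↥S).map S.subtype := by
      rw [Subgroup.map_inf _ _ _ A.subtype_injective, hK, hI]
    have h4 : Nat.card ↥(Cfsg.Agent.Helper25.Oliver.ZS S ⊓ (commutator ↥S).map S.subtype) = p := by
      rw [← h3, Subgroup.card_subtype]
      exact h2
    exact h4
  · have h2 := Cfsg.Agent.Helper25.Oliver.index_ker_sup_range hp' T hWrel
    have h3 : (Cfsg.Agent.Helper25.Oliver.ZS S ⊔ (commutator ↥S).map S.subtype).subgroupOf A =
        T.ker ⊔ T.range := by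
      rw [← hK, ← hI, ← Subgroup.map_sup]
      exact Subgroup.comap_map_eq_self_of_injective A.subtype_injective _
    have h4 : ((Cfsg.Agent.Helper25.Oliver.ZS S ⊔ (commutator ↥S).map S.subtype).subgroupOf A).index
        = p := by
      rw [h3]
      exact h2
    exact h4
  · intro m hm h3m hle
    have hZS : (Cfsg.Agent.Helper25.Oliver.ZS S).relIndex S = p ^ m := hm
    have h1 := Subgroup.relIndex_mul_relIndex (Cfsg.Agent.Helper25.Oliver.ZS S) A S hZA hAS
    rw [hZS, hAi'] at h1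
    have h2 : (Cfsg.Agent.Helper25.Oliver.ZS S).relIndex A = p ^ (m - 1) := by
      have e1 : p ^ m = p ^ (m - 1) * p := by
        rw [← pow_succ]
        congr 1
        omega
      rw [e1] at h1
      exact Nat.eq_of_mul_eq_mul_right hp'.pos h1
    have h3 := Cfsg.Agent.Helper25.Oliver.card_mul_relIndex' hZA
    rw [h2] at h3
    have h4 := Subgroup.card_mul_index T.ker
    rw [Subgroup.index_ker] at h4
    have h5 : Nat.card T.ker = Nat.card (Cfsg.Agent.Helper25.Oliver.ZS S) := by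
      rw [← hK, Subgroup.card_subtype]
    have hfinZ : Finite ↥(Cfsg.Agent.Helper25.Oliver.ZS S) :=
      Finite.of_injective (Subgroup.inclusion hZA) (Subgroup.inclusion_injective _)
    have h6 : Nat.card T.range = p ^ (m - 1) := by
      rw [h5, ← h3] at h4
      exact Nat.eq_of_mul_eq_mul_left Nat.card_pos h4
    have h7 := Cfsg.Agent.Helper25.Oliver.card_range_le hp' T hWrel (m - 3)
    have e2 : m - 3 + 1 = m - 2 := by omega
    rw [e2, h6] at h7
    -- the image lies in the kernel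
    have h8 : Cfsg.Agent.Helper25.Oliver.iterImage T (m - 2) ≤ T.ker := by
      intro a ha
      have h9 : (a : Ω) ∈ Cfsg.Agent.Helper25.Oliver.ZS S :=
        hle (Cfsg.Agent.Helper25.Oliver.map_iterImage_le hAS hAc hxS hxN (m - 2) ⟨a, ha, rfl⟩)
      rw [← hK] at h9
      obtain ⟨b, hb, hbe⟩ := h9
      have : b = a := Subtype.ext hbe
      rw [← this]
      exact hb
    have h10 := Cfsg.Agent.Helper25.Oliver.card_ker_inf_iterImage_le hp' T hWrel (m - 3)
    rw [e2, inf_eq_right.mpr h8] at h10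
    have e3 : p ^ (m - 1) = p ^ 2 * p ^ (m - 3) := by
      rw [← pow_add]
      congr 1
      omega
    rw [e3] at h7
    have h11 : p ^ 2 ≤ Nat.card ↥(Cfsg.Agent.Helper25.Oliver.iterImage T (m - 2)) :=
      Nat.le_of_mul_le_mul_right h7 (pow_pos hp'.pos _)
    have h12 : p ^ 2 ≤ p := h11.trans h10
    have h13 : p < p ^ 2 := by
      have := hp'.one_lt
      nlinarith
    omega

end Cfsg.Agent.S5257
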