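import Cfsg.Statements.S5270
import Cfsg.Agent.Helper25.MaxClassZ2
import Cfsg.Agent.Helper25.MaxClassEss

set_option autoImplicit false
open Cfsg

namespace Cfsg.Agent.S5270

/-- Let p ≥ 5 be a prime, S a finite p-group of maximal class of order p^n with n ≥ 4, and F a saturated fusion system over S. If some map of F defined on the second centre Z₂(S) with image Z₂(S) does not carry Z(S) into itself, then the centralizer C_S(Z₂(S)) is an F-essential subgroup. -/
theorem result {Ω : Type*} [Group Ω] {S : Subgroup Ω} [Finite S] (p : ℕ) [Fact p.Prime] (hS : IsPGroup p ↥S) (n : ℕ) (hn : Nat.card S = p ^ n) (h4 : 4 ≤ n) (hmax : Subgroup.lowerCentralSeries S (n - 2) ≠ ⊥) (F : Cfsg.FusionSystem S) (hF : F.IsSaturated p) (hp : 5 ≤ p) (φ : ↥((Subgroup.upperCentralSeries ↥S 2).map S.subtype) →* Ω) (hφ : φ ∈ F.Hom ((Subgroup.upperCentralSeries ↥S 2).map S.subtype)) (hφZ : φ.range = ((Subgroup.upperCentralSeries ↥S 2).map S.subtype)) (hmove : ∃ (z : Ω) (hz : z ∈ ((Subgroup.upperCentralSeries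 ↥S 2).map S.subtype)), z ∈ ((Subgroup.center ↥S).map S.subtype) ∧ φ ⟨z, hz⟩ ∉ ((Subgroup.center ↥S).map S.subtype)) : F.IsEssential p (S ⊓ Subgroup.centralizer (((Subgroup.upperCentralSeries ↥S 2).map S.subtype) : Set Ω)) := by
  obtain ⟨z, hz, hzZ, hφz⟩ := hmove
  have hmax' : Subgroup.lowerCentralSeries (⊤ : Subgroup ↥S) (n - 2) ≠ ⊥ := by
    intro h
    apply hmax
    rw [← Subgroup.top_subtype_lowerCentralSeries, h, Subgroup.map_bot]
  obtain ⟨hUle, hUidx⟩ :=
    Cfsg.Agent.Helper25.MaxClassZ2.centralizer_ucs_two p n h4 hn hmax'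
  have hUn : (Subgroup.upperCentralSeries ↥S 2).Normal := inferInstance
  generalize hU : Subgroup.upperCentralSeries ↥S 2 = U at *
  refine Cfsg.Agent.Helper25.MaxClassEss.essential_of_moving p hS F hF
    (U.map S.subtype) ?_ ?_ ?_ ?_ φ hφ hφZ z hz hzZ hφz
  · exact Subgroup.map_subtype_le _
  · apply Cfsg.Agent.Helper25.MaxClassEss.le_normalizer_of_conj_mem
    intro g hg x hx
    obtain ⟨u, hu, rfl⟩ := Subgroup.mem_map.mp hx
    exact Subgroup.mem_map_of_mem S.subtype (hUn.conj_mem u hu ⟨g, hg⟩)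
  · intro x hx
    obtain ⟨u, hu, rfl⟩ := Subgroup.mem_map.mp hx
    rw [Subgroup.mem_centralizer_iff]
    intro y hy
    obtain ⟨v, hv, rfl⟩ := Subgroup.mem_map.mp hy
    exact congrArg Subtype.val ((Subgroup.mem_centralizer_iff.mp (hUle hu)) v hv)
  · have h1 : (S ⊓ Subgroup.centralizer (((U.map S.subtype : Subgroup Ω)) : Set Ω)).subgroupOf S =
        Subgroup.centralizer (U : Set ↥S) := by
      ext ⟨x, hx⟩
      rw [Subgroup.mem_subgroupOf, Subgroup.mem_centralizer_iff]
      constructor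
      · rintro ⟨-, h⟩ u hu
        apply Subtype.ext
        exact (Subgroup.mem_centralizer_iff.mp h) u (Subgroup.mem_map_of_mem S.subtype hu)
      · intro h
        refine ⟨hx, ?_⟩
        show _ ∈ Subgroup.centralizer (((U.map S.subtype : Subgroup Ω)) : Set Ω)
        rw [Subgroup.mem_centralizer_iff]
        intro y hy
        obtain ⟨u, hu, rfl⟩ := Subgroup.mem_map.mp hy
        exact congrArg Subtype.val (h u hu)
    show (Subgroup.subgroupOf _ S).index = p
    rw [h1]
    exact hUidx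

end Cfsg.Agent.S5270
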