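import Cfsg.Statements.S5271
import Cfsg.Agent.Helper26.WEMain

set_option autoImplicit false
open Cfsg

namespace Cfsg.Agent.S5271

/-- A nilpotency criterion for fusion systems. Let F be a saturated fusion system over a finite p-group S of order at least p². Call a subgroup Q of S weakly embedded in F when there is a subgroup P of S strongly closed in F such that both the product QP and the intersection Q ∩ P are strongly closed in F. Then F is the inner fusion system of S if and only if there is a subgroup D of S with 1 < D < S such that every subgroup of S of the same order as D is weakly embedded in F and, for every fully normalized subgroup H of S of that order, the normalizer fusion system of H in F is the inner fusion system of N_S(H). -/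
theorem result {Ω : Type*} [Group Ω] {S : Subgroup Ω} [Finite S] (p : ℕ) [Fact p.Prime] (hS : IsPGroup p ↥S) (F : Cfsg.FusionSystem S) (hF : F.IsSaturated p) (hcard : p ^ 2 ≤ Nat.card S) : (∀ P : Subgroup Ω, F.Hom P = (Cfsg.innerFusionSystem S).Hom P) ↔ ∃ D : Subgroup Ω, ⊥ < D ∧ D < S ∧ (∀ Q : Subgroup Ω, Q ≤ S → Nat.card ↥Q = Nat.card ↥D → ∃ P : Subgroup Ω, F.StronglyClosed P ∧ F.StronglyClosed (Q ⊔ P) ∧ F.StronglyClosed (Q ⊓ P)) ∧ (∀ H : Subgroup Ω, F.IsFullyNormalized H → Nat.card ↥H = Nat.card ↥D → ∀ N : Cfsg.FusionSystem (Cfsg.FusionSystem.normalizerIn S H), F.IsNormalizerSystem H N → ∀ P : Subgroup Ω, N.Hom P = (Cfsg.innerFusionSystem (Cfsg.FusionSystem.normalizerIn S H)).Hom P) := by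
  open Cfsg.FusionSystem Cfsg.Agent.Helper25 Cfsg.Agent.Helper26.MasterRed Cfsg.Agent.S5271P in
  constructor
  · intro h
    have hin : Inner F := (inner_iff F).mpr h
    obtain ⟨D, hD1, hDS, hWE, hNI⟩ := fwd p hS F hcard hin
    refine ⟨D, hD1, hDS, fun Q hQ hQc => hWE Q hQ hQc, fun H hH hHc N hN => ?_⟩
    exact (inner_iff N).mp ((ninner_iff F H N hN).mpr (hNI H hH hHc))
  · rintro ⟨D, hD1, hDS, hWE, hNI⟩
    apply (inner_iff F).mp
    have hDfin : Finite D := finite_of_le hDS.le
    obtain ⟨d, hd⟩ := IsPGroup.iff_card.mp (isPGroup_of_le hS hDS.le)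
    have hd1 : 1 ≤ d := by
      by_contra hc
      have hd0 : d = 0 := by omega
      subst hd0
      rw [pow_zero] at hd
      exact hD1.ne' (Subgroup.card_eq_one.mp hd)
    have hdS : p ^ d < Nat.card S := by
      rw [← hd]
      exact card_lt_of_lt hDS.le hDS.ne
    apply main p (Nat.card S) Ω S rfl hS F hF d hd1 hdS
    · intro Q hQ hQc
      exact hWE Q hQ (hQc.trans hd.symm)
    · intro H hH hHc
      have hN' := normalizerSystem_isNormalizerSystem F H hH.1
      apply (ninner_iff F H _ hN').mp
      apply (inner_iff _).mpr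
      exact hNI H hH (hHc.trans hd.symm) _ hN'

end Cfsg.Agent.S5271
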