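import Cfsg.Statements.S5272
import Cfsg.Agent.Helper26.FamilyMain
import Cfsg.Agent.S5090


set_option autoImplicit false
open Cfsg

namespace Cfsg.Agent.S5272

/-- An axiomatic Glauberman–Thompson nilpotency criterion for fusion systems. Let p be an odd prime, F a saturated fusion system over a finite p-group S, and 𝒜 a nonempty family of abelian subgroups of S. For Q ≤ S write I(Q) for the intersection of the members of 𝒜 contained in Q. Assume (invariance) that for every Q ≤ S containing a member of 𝒜, every F-automorphism of Q maps I(Q) into itself, and (replacement) that for every subgroup B of S of nilpotency class at most 2, if some member of 𝒜 contains [B,B] but not B, then B normalizes some member of 𝒜 that contains [B,B] but not B. Then F is the inner fusion system of S if and only if the normalizer fusion system of I(S) in F is the inner fusion system of N_S(I(S)). -/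
theorem result {Ω : Type*} [Group Ω] {S : Subgroup Ω} [Finite S] (p : ℕ) [Fact p.Prime] (hS : IsPGroup p ↥S) (F : Cfsg.FusionSystem S) (hF : F.IsSaturated p) (hp : p ≠ 2) (𝒜 : Set (Subgroup Ω)) (h𝒜 : ∀ A ∈ 𝒜, A ≤ S ∧ IsMulCommutative ↥A) (hne : 𝒜.Nonempty) (hinv : ∀ Q : Subgroup Ω, Q ≤ S → (∃ A ∈ 𝒜, A ≤ Q) → ∀ α ∈ F.autGroup Q, ∀ x : ↥Q, (x : Ω) ∈ (⨅ A ∈ {A : Subgroup Ω | A ∈ 𝒜 ∧ A ≤ Q}, A) → (((α : MulAut ↥Q) x : ↥Q) : Ω) ∈ (⨅ A ∈ {A : Subgroup Ω | A ∈ 𝒜 ∧ A ≤ Q}, A)) (hrep : ∀ B : Subgroup Ω, B ≤ S → ⁅⁅B, B⁆, B⁆ = ⊥ → (∃ A ∈ 𝒜, ⁅B, B⁆ ≤ A ∧ ¬ B ≤ A) → ∃ A ∈ 𝒜, ⁅B, B⁆ ≤ A ∧ ¬ B ≤ A ∧ B ≤ Subgroup.normalizer (A : Set Ω)) : (∀ P : Subgroup Ω, F.Hom P = (Cfsg.innerFusionSystem S).Hom P) ↔ ∀ N : Cfsg.FusionSystem (Cfsg.FusionSystem.normalizerIn S (⨅ A ∈ 𝒜, A)), F.IsNormalizerSystem (⨅ A ∈ 𝒜, A) N → ∀ P : Subgroup Ω, N.Hom P = (Cfsg.innerFusionSystem (Cfsg.FusionSystem.normalizerIn S (⨅ A ∈ 𝒜, A))).Hom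 P := by
  have hfam : ∀ Q : Subgroup Ω, (⨅ A ∈ {A : Subgroup Ω | A ∈ 𝒜 ∧ A ≤ Q}, A) =
      Cfsg.Agent.Helper26.famInf 𝒜 Q := by
    intro Q
    unfold Cfsg.Agent.Helper26.famInf
    rw [sInf_eq_iInf]
  have hA : Cfsg.Agent.Helper26.FamilyFusion.FamHyp F 𝒜 := by
    refine ⟨fun A hA => (h𝒜 A hA).1, ?_, hne, ?_, hrep⟩
    · intro A hA x hx y hy
      have := (h𝒜 A hA).2
      have h1 := mul_comm' (⟨x, hx⟩ : A) ⟨y, hy⟩
      exact congrArg Subtype.val h1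
    · intro Q hQS hex α hα x hx
      rw [← hfam Q] at hx ⊢
      exact hinv Q hQS hex α hα x hx
  have hI : (⨅ A ∈ 𝒜, A) = Cfsg.Agent.Helper26.famInf 𝒜 S :=
    (Cfsg.Agent.Helper26.FamilyFusion.famInf_self hA.le).symm
  rw [hI]
  have hWS : Cfsg.Agent.Helper26.famInf 𝒜 S ≤ S :=
    Cfsg.Agent.Helper26.FamilyFusion.famInf_le_self hA.le hA.ne
  have hSN := Cfsg.Agent.Helper26.FamilyFusion.le_normalizer_famInf hA
  constructor
  · intro h N hN
    rw [← Cfsg.Agent.Helper26.MasterRed.inner_iff,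
      Cfsg.Agent.Helper26.MasterRed.ninner_iff F _ N hN]
    have hin := (Cfsg.Agent.Helper26.MasterRed.inner_iff F).mpr h
    intro P φ hφ
    obtain ⟨g, hg, hx⟩ := hin P φ hφ.1
    exact ⟨g, ⟨hg, hSN hg⟩, hx⟩
  · intro h
    rw [← Cfsg.Agent.Helper26.MasterRed.inner_iff]
    have h1 := h _ (Cfsg.Agent.Helper25.normalizerSystem_isNormalizerSystem F _ hWS)
    rw [← Cfsg.Agent.Helper26.MasterRed.inner_iff,
      Cfsg.Agent.Helper26.MasterRed.ninner_iff F _ _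
        (Cfsg.Agent.Helper25.normalizerSystem_isNormalizerSystem F _ hWS)] at h1
    by_contra hni
    obtain ⟨E, hEF, hcon, hEni⟩ :=
      Cfsg.Agent.Helper26.MasterRed.exists_constrained_sub hp hS F hF hni
    obtain ⟨G, _, ι, hM⟩ := Cfsg.Agent.S5090.result p hS E hcon
    obtain ⟨hfin, hreal, ⟨T, hT⟩, hC⟩ := hM
    have hsurj := Cfsg.Agent.Helper26.FamilyFusion.surjective_of_famHyp hp hS E 𝒜 (hA.mono hEF)
      (Cfsg.Agent.Helper26.MasterRed.ninner_of_le hEF h1) ι hreal T hT hC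
    exact hEni (Cfsg.Agent.Helper26.MasterRed.inner_of_realized_surjective E ι hreal hsurj)

end Cfsg.Agent.S5272
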