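import Cfsg.Statements.S5276
import Cfsg.Agent.Helper26.TT8
import Cfsg.Agent.Helper25.FusionNC


set_option autoImplicit false
open Cfsg

namespace Cfsg.Agent.S5276

/-- Let p be a prime and F a saturated fusion system over a finite p-group S. Then F is the inner fusion system of S if and only if the normalizer fusion system of S itself in F is the inner fusion system (equivalently, Aut_F(S) is induced by S) and the Frattini subgroup Φ(S) is strongly closed in F. -/
theorem result {Ω : Type*} [Group Ω] {S : Subgroup Ω} [Finite S] (p : ℕ) [Fact p.Prime] (hS : IsPGroup p ↥S) (F : Cfsg.FusionSystem S) (hF : F.IsSaturated p) : (∀ P : Subgroup Ω, F.Hom P = (Cfsg.innerFusionSystem S).Hom P) ↔ (∀ N : Cfsg.FusionSystem (Cfsg.FusionSystem.normalizerIn S S), F.IsNormalizerSystem S N → ∀ P : Subgroup Ω, N.Hom P = (Cfsg.innerFusionSystem (Cfsg.FusionSystem.normalizerIn S S)).Hom P) ∧ F.StronglyClosed ((frattini ↥S).map S.subtype) := by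
  have hSN : S ≤ Cfsg.FusionSystem.normalizerIn S S := fun x hx => ⟨hx, Subgroup.le_normalizer hx⟩
  constructor
  · intro h
    have hInner : Cfsg.Agent.Helper26.MasterRed.Inner F :=
      (Cfsg.Agent.Helper26.MasterRed.inner_iff F).mpr h
    constructor
    · intro N hN
      apply (Cfsg.Agent.Helper26.MasterRed.inner_iff N).mp
      apply (Cfsg.Agent.Helper26.MasterRed.ninner_iff F S N hN).mpr
      intro P φ hφ
      obtain ⟨g, hg, hgx⟩ := hInner P φ hφ.1
      exact ⟨g, hSN hg, hgx⟩
    · refine ⟨Subgroup.map_subtype_le _, ?_⟩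
      intro R hR φ hφ x
      obtain ⟨g, hg, hgx⟩ := hInner R φ hφ
      rw [hgx]
      obtain ⟨y, hy, hyx⟩ := hR x.2
      have hn : (frattini ↥S).Normal := inferInstance
      have := hn.conj_mem y hy ⟨g, hg⟩
      refine ⟨_, this, ?_⟩
      rw [← hyx]
      rfl
  · rintro ⟨hN, hsc⟩
    have hNI : Cfsg.Agent.Helper26.MasterRed.NInner F S := by
      have hN' := Cfsg.Agent.Helper25.normalizerSystem_isNormalizerSystem F S le_rfl
      apply (Cfsg.Agent.Helper26.MasterRed.ninner_iff F S _ hN').mp
      apply (Cfsg.Agent.Helper26.MasterRed.inner_iff _).mpr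
      exact hN _ hN'
    have hfoc := Cfsg.Agent.Helper26.TTP.focal_le_frattini p hS F hF hNI hsc
    exact Cfsg.Agent.Helper26.TT.inner_of_focal_le_frattini p hS F hF hfoc

end Cfsg.Agent.S5276
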