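import Cfsg.Statements.S5284
import Cfsg.Agent.Helper26.AbChainFusion
import Cfsg.Agent.Helper26.SupersolubleCounter

set_option autoImplicit false
open Cfsg

namespace Cfsg.Agent.S5284

/-- Let S be a finite abelian p-group. Every saturated fusion system over S is supersoluble (S has a chain of F-strongly closed subgroups from 1 to S with cyclic steps) if and only if the invariants of S are pairwise distinct, that is, S is not isomorphic to a direct product (Z/p^n × Z/p^n) × H with n ≥ 1. -/
theorem result {Ω : Type*} [Group Ω] {S : Subgroup Ω} [Finite S] (p : ℕ) [Fact p.Prime] (hS : IsPGroup p ↥S) (hab : IsMulCommutative ↥S) : (∀ F : Cfsg.FusionSystem S, F.IsSaturated p → (∃ (m : ℕ) (c : Fin (m + 1) → Subgroup Ω), c 0 = ⊥ ∧ c (Fin.last m) = S ∧ (∀ i : Fin (m + 1), F.StronglyClosed (c i)) ∧ ∀ i : Fin m, c i.castSucc ≤ c i.succ ∧ ∃ x ∈ S, c i.succ = c i.castSucc ⊔ Subgroup.zpowers x)) ↔ ¬ ∃ (n : ℕ) (H : Type) (_ : CommGroup H), 0 < n ∧ Nonempty (↥S ≃* (Multiplicative (ZMod (p ^ n))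 × Multiplicative (ZMod (p ^ n))) × H) := by
  classical
  have hab' : ∀ x ∈ S, ∀ y ∈ S, x * y = y * x := by
    intro x hx y hy
    have := hab.is_comm.comm (⟨x, hx⟩ : S) ⟨y, hy⟩
    exact congrArg Subtype.val this
  constructor
  · intro hall
    rintro ⟨n, H, hH, hn, ⟨e⟩⟩
    obtain ⟨F, hF, hno⟩ := Cfsg.Agent.Helper26.exists_bad_system_of_square p hab' n hn H e
    exact hno (hall F hF)
  · intro hno F hF
    apply Cfsg.Agent.Helper26.AbChain.exists_chain_of_bound p hS hab' F hF
    intro j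
    exact @Cfsg.Agent.Helper26.AbChain.card_uSub_le_of_no_square S
      (Cfsg.Agent.Helper26.AbChain.commGroupOfComm S hab') _ p _ hS hno j

end Cfsg.Agent.S5284
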