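import Cfsg.Statements.S5287
import Cfsg.Agent.Helper26.MSupDefs
import Cfsg.Agent.Helper14.MSupQDU
import Cfsg.Agent.Helper7.MSupOA
import Cfsg.Agent.Helper26.MSupK4
import Cfsg.Agent.Helper26.MSupQS
import Cfsg.Agent.Helper26.MSupRZ
import Cfsg.Agent.Helper26.MSupDS
import Cfsg.Agent.Helper13.MSupAB
import Cfsg.Agent.Helper7.MSupNT1
import Cfsg.Agent.Helper7.MSupNT2
import Cfsg.Agent.Helper23.MSupQ4
import Cfsg.Agent.Helper23.MSupSDS
import Cfsg.Agent.Helper26.SuperSol6
import Cfsg.Agent.Helper26.SupersolubleCounter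
import Cfsg.Agent.S5284
import Cfsg.Agent.S5234
import Cfsg.Agent.S5235
import Cfsg.Agent.S1896
import Cfsg.Agent.S1217


set_option autoImplicit false
open Cfsg

namespace Cfsg.Agent.S5287


open Cfsg.FusionSystem Subgroup Cfsg.Agent.Helper26 Cfsg.Agent.Helper26.MSup Cfsg.Agent.Helper14.MSup
open Cfsg.Agent.Helper13.MSup Cfsg.Agent.Helper7.MSup Cfsg.Agent.Helper23.MSup

theorem pow_of_two_mul {n a : ℕ} (h : 2 * n = 2 ^ a) (hn : 2 ≤ n) : ∃ j, 1 ≤ j ∧ n = 2 ^ j := by
  obtain ⟨b, rfl⟩ : ∃ b, a = b + 1 := by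
    rcases a with _ | b
    · simp at h
    · exact ⟨b, rfl⟩
  have hn' : n = 2 ^ b := by
    rw [pow_succ] at h; omega
  refine ⟨b, ?_, hn'⟩
  rcases b with _ | b
  · simp at hn'; omega
  · omega

theorem pow_of_four_mul {n a : ℕ} (h : 4 * n = 2 ^ a) (hn : 2 ≤ n) : ∃ j, 1 ≤ j ∧ n = 2 ^ j := by
  have h2 : 2 * (2 * n) = 2 ^ a := by rw [← h]; ring
  obtain ⟨j, hj, hj'⟩ := pow_of_two_mul h2 (by omega)
  have h3 : 2 * n = 2 ^ j := hj'
  exact pow_of_two_mul h3 hn

theorem comm_of_mulEquiv {A B : Type*} [Group A] [Group B] (e : A ≃* B)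
    (hB : ∀ x y : B, x * y = y * x) : IsMulCommutative A :=
  ⟨⟨fun x y => e.injective (by rw [map_mul, map_mul, hB])⟩⟩


/-- Let S be a finite metacyclic p-group (an extension of a cyclic group by a cyclic group). Every saturated fusion system over S is supersoluble (S has a chain of F-strongly closed subgroups from 1 to S with cyclic steps) if and only if S is not homocyclic of rank two (isomorphic to Z/p^n × Z/p^n with n ≥ 1) and, when p = 2, S is not dihedral of order at least 4, not quasi-dihedral (semidihedral) and not generalized quaternion of order at least 8. -/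
theorem result {Ω : Type*} [Group Ω] {S : Subgroup Ω} [Finite S] (p : ℕ) [Fact p.Prime] (hS : IsPGroup p ↥S) (hm : Cfsg.IsMetacyclic ↥S) : (∀ F : Cfsg.FusionSystem S, F.IsSaturated p → (∃ (m : ℕ) (c : Fin (m + 1) → Subgroup Ω), c 0 = ⊥ ∧ c (Fin.last m) = S ∧ (∀ i : Fin (m + 1), F.StronglyClosed (c i)) ∧ ∀ i : Fin m, c i.castSucc ≤ c i.succ ∧ ∃ x ∈ S, c i.succ = c i.castSucc ⊔ Subgroup.zpowers x)) ↔ ¬ ((∃ n : ℕ, 0 < n ∧ Nonempty (↥S ≃* Multiplicative (ZMod (p ^ n)) × Multiplicative (ZMod (p ^ n)))) ∨ (p = 2 ∧ ((∃ n : ℕ, 2 ≤ n ∧ Nonempty (↥S ≃* DihedralGroup n)) ∨ Cfsg.IsQuasiDihedral ↥S ∨ (∃ n : ℕ, 2 ≤ n ∧ Nonempty (↥S ≃* QuaternionGroup n))))) := by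
  classical
  have hscS : ∀ F : Cfsg.FusionSystem S, F.StronglyClosed S := fun F =>
    ⟨le_rfl, fun R hR φ hφ x => (F.le_of_mem hφ).2 x⟩
  constructor
  · -- every saturated system has a chain ⟹ `S` is not in the list
    intro ha hb
    have hsuff : ¬ ∃ F : Cfsg.FusionSystem S, F.IsSaturated p ∧ ¬ HasChain F := by
      rintro ⟨F, hF, hno⟩
      exact hno (ha F hF)
    apply hsuff
    rcases hb with ⟨n, hn, ⟨e⟩⟩ | ⟨hp2, hb⟩
    · -- homocyclic
      have hab : ∀ x ∈ S, ∀ y ∈ S, x * y = y * x := by
        intro x hx y hy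
        have h1 := (comm_of_mulEquiv e (fun a b => mul_comm a b)).is_comm.comm
          (⟨x, hx⟩ : S) ⟨y, hy⟩
        exact congrArg Subtype.val h1
      exact exists_bad_system_of_square p hab n hn Unit (e.trans MulEquiv.prodUnique.symm)
    · subst hp2
      have hcardS : ∃ a, Nat.card S = 2 ^ a := IsPGroup.iff_card.mp hS
      obtain ⟨a, ha2⟩ := hcardS
      rcases hb with ⟨n, hn, ⟨e⟩⟩ | hqd | ⟨n, hn, ⟨e⟩⟩
      · -- dihedral
        have hc : 2 * n = 2 ^ a := by
          rw [← ha2, Nat.card_congr e.toEquiv, DihedralGroup.nat_card]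
        obtain ⟨j, hj, rfl⟩ := pow_of_two_mul hc hn
        by_cases hj1 : j = 1
        · subst hj1
          obtain ⟨e2⟩ := K4
          have e3 : S ≃* Multiplicative (ZMod (2 ^ 1)) × Multiplicative (ZMod (2 ^ 1)) :=
            e.trans e2
          have hab : ∀ x ∈ S, ∀ y ∈ S, x * y = y * x := by
            intro x hx y hy
            have h1 := (comm_of_mulEquiv e3 (fun a b => mul_comm a b)).is_comm.comm
              (⟨x, hx⟩ : S) ⟨y, hy⟩
            exact congrArg Subtype.val h1
          exact exists_bad_system_of_square 2 hab 1 one_pos Unit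
            (e3.trans MulEquiv.prodUnique.symm)
        · have hj2 : 2 ≤ j := by omega
          obtain ⟨q, hq, hq2, hq16, hQ⟩ := NT1 j hj
          have hcardF : Fintype.card (ZMod q) = q := ZMod.card q
          obtain ⟨R⟩ : Nonempty (Sylow 2 (Matrix.ProjectiveSpecialLinearGroup (Fin 2) (ZMod q))) :=
            inferInstance
          obtain ⟨⟨eR⟩, hno⟩ := DS (F := ZMod q) (by rw [hcardF]; exact hq2)
            (by rw [hcardF]; exact hq16 hj2) j hQ R
          exact RZ 2 R (e.trans eR.symm) hno
      · -- quasi-dihedral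
        have hqd' := hqd
        obtain ⟨n, hn3, hcard, -⟩ := hqd'
        obtain ⟨q, hq, hq4, hQ⟩ := NT2 n hn3
        have hcardF : Fintype.card (ZMod q) = q := ZMod.card q
        have hoddq : Odd (Fintype.card (ZMod q)) := by
          rw [hcardF]; exact Nat.odd_iff.mpr (by omega)
        obtain ⟨P, hno⟩ := SDS (F := ZMod q) (by rw [hcardF]; exact hq4)
          (fun P C h1 h2 h3 => Q4 hoddq P C h1 h2 h3)
        have hPqd : Cfsg.IsQuasiDihedral (P : Subgroup (GL (Fin 2) (ZMod q))) :=
          (Cfsg.Agent.S1217.result P).1 (by rw [hcardF]; exact hq4)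
        obtain ⟨eP⟩ := QDU hqd hPqd (by rw [hcard, hQ P])
        exact RZ 2 P eP hno
      · -- quaternion
        have hc : 4 * n = 2 ^ a := by
          have : NeZero n := ⟨by omega⟩
          rw [← ha2, Nat.card_congr e.toEquiv, Nat.card_eq_fintype_card, QuaternionGroup.card]
        obtain ⟨j, hj, rfl⟩ := pow_of_four_mul hc hn
        obtain ⟨q, hq, hq2, -, hQ⟩ := NT1 j hj
        have hcardF : Fintype.card (ZMod q) = q := ZMod.card q
        obtain ⟨P⟩ : Nonempty (Sylow 2 (Matrix.SpecialLinearGroup (Fin 2) (ZMod q))) :=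
          inferInstance
        obtain ⟨eP⟩ := hQ P
        have hoddq : Odd (Fintype.card (ZMod q)) := by
          rw [hcardF]; exact Nat.odd_iff.mpr hq2
        have hno := QS (F := ZMod q) hoddq (fun P C h1 h2 h3 => Q4 hoddq P C h1 h2 h3) P
        exact RZ 2 P (e.trans eP.symm) hno
  · -- `S` not in the list ⟹ every saturated system has a chain
    intro hb F hF
    by_cases hab : IsMulCommutative S
    · refine (Cfsg.Agent.S5284.result p hS hab).mpr ?_ F hF
      rintro ⟨n, H, _, hn, ⟨e⟩⟩
      obtain ⟨e'⟩ := AB p hS hm n hn H e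
      exact hb (Or.inl ⟨n, hn, ⟨e'⟩⟩)
    · -- nonabelian
      have hd : p = 2 → ¬ ∃ m : ℕ, Nonempty (↥S ≃* DihedralGroup m) := by
        rintro hp2 ⟨m, ⟨e⟩⟩
        have hcard : Nat.card S = 2 * m := by
          rw [Nat.card_congr e.toEquiv, DihedralGroup.nat_card]
        by_cases hm2 : 2 ≤ m
        · exact hb (Or.inr ⟨hp2, Or.inl ⟨m, hm2, ⟨e⟩⟩⟩)
        · have hm01 : m = 0 ∨ m = 1 := by omega
          rcases hm01 with rfl | rfl
          · have := Nat.card_pos (α := S)
            omega
          · have : Fact (Nat.Prime 2) := ⟨Nat.prime_two⟩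
            have hcyc : IsCyclic S := isCyclic_of_prime_card (p := 2) (by rw [hcard])
            exact hab ⟨⟨fun x y => hcyc.exists_generator.elim fun g hg => by
              obtain ⟨k, rfl⟩ := Subgroup.mem_zpowers_iff.mp (hg x)
              obtain ⟨l, rfl⟩ := Subgroup.mem_zpowers_iff.mp (hg y)
              rw [← zpow_add, ← zpow_add, add_comm]⟩⟩
      have hq : p = 2 → ¬ ∃ m : ℕ, Nonempty (↥S ≃* QuaternionGroup m) := by
        rintro hp2 ⟨m, ⟨e⟩⟩
        by_cases hm2 : 2 ≤ m
        · exact hb (Or.inr ⟨hp2, Or.inr (Or.inr ⟨m, hm2, ⟨e⟩⟩)⟩)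
        · have hm01 : m = 0 ∨ m = 1 := by omega
          rcases hm01 with rfl | rfl
          · -- infinite
            have hfin : Finite (QuaternionGroup 0) := Finite.of_equiv _ e.toEquiv
            have hinj : Function.Injective (fun i : ZMod (2 * 0) => QuaternionGroup.a i) :=
              fun i j hij => QuaternionGroup.a.inj hij
            have : Finite (ZMod (2 * 0)) := Finite.of_injective _ hinj
            have : Finite ℤ := this
            exact not_finite ℤ
          · have hcard : Nat.card S = 2 ^ 2 := by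
              rw [Nat.card_congr e.toEquiv, Nat.card_eq_fintype_card, QuaternionGroup.card]
              norm_num
            have : Fact (Nat.Prime 2) := ⟨Nat.prime_two⟩
            apply hab
            exact IsPGroup.isMulCommutative_of_card_eq_prime_sq hcard
      have hsd : p = 2 → ¬ Cfsg.IsQuasiDihedral ↥S := fun hp2 h =>
        hb (Or.inr ⟨hp2, Or.inr (Or.inl h)⟩)
      apply Cfsg.Agent.Helper26.SuperSol.exists_chain_of_resistant p hS F hF
      · by_cases hp : p = 2
        · exact Cfsg.Agent.S5235.result p hS F hF S (hscS F) hp hm (hd hp) (hq hp) (hsd hp)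
        · exact Cfsg.Agent.S5234.result p hS F hF S (hscS F) hp hm
      · intro H hH
        by_cases hp : p = 2
        · subst hp
          have hA : IsPGroup 2 (MulAut S) := by
            by_contra hA
            rcases Cfsg.Agent.S1896.result hS hm hA with ⟨e⟩ | ⟨n, ⟨e⟩⟩
            · exact hq rfl ⟨2, e⟩
            · exact hab (comm_of_mulEquiv e (fun a b => mul_comm a b))
          have hH1 : Nat.card H = 1 := by
            obtain ⟨k, hk⟩ := IsPGroup.iff_card.mp (hA.to_subgroup H)
            rw [hk] at hH ⊢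
            rcases k with _ | k
            · rfl
            · exfalso
              rw [pow_succ] at hH
              have := Nat.Coprime.coprime_mul_left hH
              simp at this
          have hsub : ∀ h ∈ H, h = 1 := by
            intro h hh
            have := (Nat.card_eq_one_iff_unique.mp hH1).1
            have h2 := Subsingleton.elim (⟨h, hh⟩ : H) 1
            exact congrArg Subtype.val h2
          refine ⟨⟨⟨fun x y => ?_⟩⟩, fun h hh => ?_⟩
          · have := (Nat.card_eq_one_iff_unique.mp hH1).1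
            exact Subsingleton.elim _ _
          · rw [hsub h hh, one_pow]
        · exact OA p hp hS hm hab H hH

end Cfsg.Agent.S5287
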