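import Cfsg.Statements.S5289
import Cfsg.Agent.Helper10.R2FusF
import Cfsg.Agent.S3888
import Cfsg.Agent.S5234

set_option autoImplicit false
open Cfsg

namespace Cfsg.Agent.S5289

/-- Let p ≥ 5 be a prime and S a finite p-group of p-rank two (it has an elementary abelian subgroup of order p² and none of order p³) which is not the extraspecial group of order p³ and exponent p. Then S is resistant: for every saturated fusion system F over S, S is normal in F, that is, every map of F extends to an F-automorphism of S. -/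
theorem result {Ω : Type*} [Group Ω] {S : Subgroup Ω} [Finite S] (p : ℕ) [Fact p.Prime] (hS : IsPGroup p S)
    (F : Cfsg.FusionSystem S) (hF : F.IsSaturated p)
    (hp : 5 ≤ p)
    (hrank2 : ∃ E : Subgroup Ω, E ≤ S ∧ Cfsg.IsElementaryAbelian p E ∧ Nat.card E = p ^ 2)
    (hrank3 : ∀ E : Subgroup Ω, E ≤ S → Cfsg.IsElementaryAbelian p E → Nat.card E ≤ p ^ 2)
    (hnotE : ¬ (Nat.card S = p ^ 3 ∧ Monoid.exponent ↥S = p)) : F.IsNormal S := by
  have hpp := (Fact.out : p.Prime)
  have hp2 : p ≠ 2 := by omega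
  obtain ⟨n, hn⟩ := IsPGroup.iff_card.mp hS
  have hrk : Cfsg.PRankLE p 2 ↥S := by
    intro A' hA'c hA'p
    have h1 := hrank3 (A'.map S.subtype) (Subgroup.map_subtype_le A') ⟨⟨⟨?_⟩⟩, ?_⟩
    · rwa [Subgroup.card_map_of_injective (Subgroup.subtype_injective S)] at h1
    · rintro ⟨_, a, ha, rfl⟩ ⟨_, b, hb, rfl⟩
      apply Subtype.ext
      have := hA'c.is_comm.comm (⟨a, ha⟩ : ↥A') ⟨b, hb⟩
      exact congrArg (fun t : ↥A' => ((t : ↥S) : Ω)) this
    · rintro _ ⟨a, ha, rfl⟩
      have := hA'p a ha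
      exact congrArg Subtype.val this
  rcases Cfsg.Agent.S3888.result hp2 n hn hrk with hm | ⟨h3, x, y, z, hgen, hx, hy, hz, hxz, hyz, hxy⟩ |
      ⟨h4, s, x, y, z, hs, hgen, hx, hy, hz, hyz, hxy, hxz⟩ | ⟨hp3, -⟩
  · exact Cfsg.Agent.S5234.result p hS F hF S (Cfsg.Agent.Helper10.R2Fus.stronglyClosed_self F)
      hp2 hm
  · exact Cfsg.Agent.Helper10.R2Fus.ccase p hp hS F hF hrank3 hnotE n h3 hn x y z hgen hx hy hz
      hxz hyz hxy
  · have hs' : ¬ p ∣ s := by
      intro hd
      rcases hs with rfl | hs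
      · exact hpp.one_lt.ne' (Nat.dvd_one.mp hd)
      · apply hs
        have : (s : ZMod p) = 0 := (ZMod.natCast_eq_zero_iff s p).mpr hd
        rw [this]
        exact ⟨0, by simp⟩
    exact Cfsg.Agent.Helper10.R2Fus.gcase p hp hS F hF hrank3 n s h4 hs' hn x y z hgen hx hy hz
      hyz hxy hxz
  · omega

end Cfsg.Agent.S5289
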