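import Cfsg.Statements.S5290
import Cfsg.Agent.Helper26.FusionChainLocal
import Cfsg.Agent.Helper26.FusionAbelian2
import Cfsg.Agent.Helper25.FusionChar

set_option autoImplicit false
open Cfsg
open scoped commutatorElement

namespace Cfsg.Agent.S5290

open Cfsg.Agent.Helper25 Cfsg.Agent.Helper26 Cfsg.FusionSystem in
theorem range_eq_of_range_le {Ω : Type*} [Group Ω] {S : Subgroup Ω} [Finite S] (F : Cfsg.FusionSystem S)
    {P : Subgroup Ω} {φ : P →* Ω} (hφ : φ ∈ F.Hom P) (hle : φ.range ≤ P) : φ.range = P := by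
  have hPS : P ≤ S := (F.le_of_mem hφ).1
  have hfinP : Finite P := finite_of_le hPS
  have hfinr : Finite φ.range := finite_of_le (hle.trans hPS)
  have hinj := F.injective_of_mem hφ
  have hcard : Nat.card P ≤ Nat.card φ.range :=
    Nat.card_le_card_of_injective (fun x => (⟨φ x, x, rfl⟩ : φ.range))
      (fun x y hxy => hinj (congrArg Subtype.val hxy))
  exact Subgroup.eq_of_le_of_card_ge hle hcard


/-- Let F be a saturated fusion system over a finite p-group S and Q a subgroup of S. Then Q is normal in F (F = N_F(Q)) if and only if the inner fusion system of Q, consisting of the conjugations by elements of Q on subgroups of Q, is a weakly normal subsystem of F (both saturated, Q strongly closed, invariant under F-conjugation, with the Frattini property). -/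
theorem result {Ω : Type*} [Group Ω] {S : Subgroup Ω} [Finite S] (p : ℕ) [Fact p.Prime] (hS : IsPGroup p S)
    (F : Cfsg.FusionSystem S) (hF : F.IsSaturated p)
    (Q : Subgroup Ω) (hQ : Q ≤ S) :
    F.IsNormal Q ↔ (Cfsg.innerFusionSystem Q).IsWeaklyNormalIn F p := by
  open Cfsg.Agent.Helper25 Cfsg.Agent.Helper26 Cfsg.FusionSystem in
  have hfinQ : Finite Q := finite_of_le hQ
  have hQp : IsPGroup p Q := isPGroup_of_le hS hQ
  constructor
  · intro hN
    refine ⟨inner_isSaturated p hQp, hF, ?_, stronglyClosed_of_isNormal F hN, ?_, ?_⟩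
    · rintro P φ ⟨hPQ, g, hg, h⟩
      have e : φ = conjHom P g := by ext x; exact h x
      rw [e]
      exact F.conj_mem (hPQ.trans hQ) (hQ hg)
    · rintro P hPT φ ⟨-, g, hg, h⟩ α hα
      have hP'Q : (P.subgroupOf Q).map (Q.subtype.comp α.toMonoidHom) ≤ Q := by
        rintro _ ⟨y, -, rfl⟩
        exact (α y).2
      refine ⟨conjHom _ ((α ⟨g, hg⟩ : Q) : Ω),
        (innerFusionSystem Q).conj_mem hP'Q (α ⟨g, hg⟩).2, ?_⟩
      intro x hφx hαx
      have e1 : (⟨φ x, hφx⟩ : Q) = ⟨g, hg⟩ * ⟨x, hPT x.2⟩ * (⟨g, hg⟩ : Q)⁻¹ := Subtype.ext (h x)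
      rw [e1, map_mul, map_mul, map_inv]
      rfl
    · intro P hPQ φ hφ
      obtain ⟨ψ, hψ, hext, hmap⟩ := hN.2 P φ hφ
      have hψQ : ψ.comp (Subgroup.inclusion (le_sup_right : Q ≤ P ⊔ Q)) ∈ F.Hom Q :=
        restrict_mem F le_sup_right hψ
      have hrange : (ψ.comp (Subgroup.inclusion (le_sup_right : Q ≤ P ⊔ Q))).range = Q := by
        refine Eq.trans ?_ hmap
        ext y
        constructor
        · rintro ⟨x, rfl⟩
          exact ⟨Subgroup.inclusion le_sup_right x, x.2, rfl⟩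
        · rintro ⟨x, hx, rfl⟩
          exact ⟨⟨x, hx⟩, rfl⟩
      set θ : Q ≃* Q := isoOfHom _ (F.injective_of_mem hψQ) hrange with hθ
      have hθmem : θ ∈ F.autGroup Q := by
        rw [mem_autGroup_iff F hQ]
        have e : autHom θ = ψ.comp (Subgroup.inclusion (le_sup_right : Q ≤ P ⊔ Q)) := by
          ext x; rfl
        rw [e]
        exact hψQ
      refine ⟨θ, hθmem, P.subtype, subtype_mem (innerFusionSystem Q) hPQ, ?_⟩
      intro x hx
      rw [← hext x]
      show _ = ψ (Subgroup.inclusion le_sup_right ⟨(x : Ω), hx⟩)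
      congr 1
  · rintro ⟨-, -, -, hsc, -, hfrat⟩
    have hnil : Group.IsNilpotent Q := hQp.isNilpotent
    have hCQ : ∀ i : ℕ, (Subgroup.upperCentralSeries Q i).map Q.subtype ≤ Q := by
      rintro i _ ⟨c, -, rfl⟩
      exact c.2
    refine isNormal_of_weaklyClosed_chain p hS F hF Q hsc
      (fun i => (Subgroup.upperCentralSeries Q i).map Q.subtype) (Group.nilpotencyClass Q) ?_ ?_ ?_ ?_ ?_
    · show (Subgroup.upperCentralSeries Q 0).map Q.subtype = ⊥
      rw [Subgroup.upperCentralSeries_zero, Subgroup.map_bot]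
    · show (Subgroup.upperCentralSeries Q (Group.nilpotencyClass Q)).map Q.subtype = Q
      rw [Subgroup.upperCentralSeries_nilpotencyClass, ← MonoidHom.range_eq_map, Subgroup.range_subtype]
    · intro i j hij
      exact Subgroup.map_mono (Subgroup.upperCentralSeries_mono Q hij)
    · intro i _
      rw [Subgroup.commutator_le]
      rintro _ ⟨z, hz, rfl⟩ b hb
      have hz' : z ∈ Subgroup.upperCentralSeries Q (i + 1) := hz
      rw [Subgroup.mem_upperCentralSeries_succ_iff] at hz'
      exact ⟨_, hz' ⟨b, hb⟩, rfl⟩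
    · intro i _
      refine ⟨(hCQ i).trans hQ, fun φ hφ => ?_⟩
      apply range_eq_of_range_le F hφ
      rintro _ ⟨x, rfl⟩
      obtain ⟨α, hα, φ₀, ⟨-, g, hg, hg'⟩, hrel⟩ := hfrat _ (hCQ i) φ hφ
      have hxQ : (x : Ω) ∈ Q := hCQ i x.2
      have hx : φ₀ x ∈ Q := by
        rw [hg']
        exact Q.mul_mem (Q.mul_mem hg hxQ) (Q.inv_mem hg)
      rw [hrel x hx]
      obtain ⟨x', hx', hxx'⟩ := x.2
      have e1 : (⟨φ₀ x, hx⟩ : Q) = ⟨g, hg⟩ * x' * (⟨g, hg⟩ : Q)⁻¹ := by
        apply Subtype.ext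
        show φ₀ x = g * ((x' : Q) : Ω) * g⁻¹
        rw [hg' x, ← hxx']
        rfl
      have hchar : (Subgroup.upperCentralSeries Q i).Characteristic := inferInstance
      have hnorm : (Subgroup.upperCentralSeries Q i).Normal := inferInstance
      have h1 : ⟨g, hg⟩ * x' * (⟨g, hg⟩ : Q)⁻¹ ∈ Subgroup.upperCentralSeries Q i :=
        hnorm.conj_mem x' hx' ⟨g, hg⟩
      have h2 : α (⟨g, hg⟩ * x' * (⟨g, hg⟩ : Q)⁻¹) ∈ Subgroup.upperCentralSeries Q i := by
        have h3 := Subgroup.characteristic_iff_map_eq.mp hchar α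
        rw [← h3]
        exact ⟨_, h1, rfl⟩
      rw [e1]
      exact ⟨_, h2, rfl⟩

end Cfsg.Agent.S5290
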