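import Cfsg.Statements.S5292
import Cfsg.Agent.Helper26.ModelQuot
import Cfsg.Agent.S5090
import Cfsg.Agent.Helper25.FusionTransport
import Cfsg.Agent.Helper23.HallHigman
import Cfsg.Agent.Helper23.PSeries
import Cfsg.Agent.Helper10.SolvPSolv
import Cfsg.Agent.Lead.PSolvHall
import Cfsg.Agent.Helper18.QuadPS3


set_option autoImplicit false
universe u
open Cfsg

namespace Cfsg.Agent.S5292

/-- Let F be a saturated fusion system over a finite p-group S. Then F is the fusion system of some finite p-solvable group on a Sylow p-subgroup if and only if F is constrained (some subgroup normal in F is centric in F) and the group of automorphisms that F induces on its largest normal subgroup O_p(F) is p-solvable. -/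
theorem result {Ω : Type u} [Group Ω] {S : Subgroup Ω} [Finite S] (p : ℕ) [Fact p.Prime] (hS : IsPGroup p S)
    (F : Cfsg.FusionSystem S) (hF : F.IsSaturated p) :
    (∃ (G : Type u) (_ : Group G) (_ : Finite G) (ι : S →* G), Cfsg.IsPSolvable p G ∧ F.IsRealizedBy ι ∧
        ∃ T : Sylow p G, (T : Subgroup G) = ι.range) ↔
      (F.IsConstrained p ∧ Cfsg.IsPSolvable p ↥(F.autGroup F.core)) := by
  constructor
  · rintro ⟨G, instG, finG, ι, hsolv, hreal, T, hT⟩
    obtain ⟨hreal', T', hT'⟩ := Cfsg.Agent.Helper26.ModelAut.realizedBy_quotient p F ι hreal T hT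
      (pPrimeCore p G) (Cfsg.Agent.Helper23.pPrimeCore_card_coprime p G)
    have hM : F.IsModel p (G ⧸ pPrimeCore p G) ((QuotientGroup.mk' (pPrimeCore p G)).comp ι) :=
      ⟨inferInstance, hreal', ⟨T', hT'⟩,
        Cfsg.Agent.Helper23.centralizer_pCore_quotient_le_of_isPSolvable hsolv⟩
    refine ⟨Cfsg.Agent.Helper25.isConstrained_of_isModel p F _ hM, ?_⟩
    obtain ⟨γ, hsurj, hker⟩ := Cfsg.Agent.Helper26.ModelAut.exists_hom_autGroup_core p hS F _ hM
    have h1 : Cfsg.IsPSolvable p (G ⧸ pPrimeCore p G) :=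
      Cfsg.Agent.Lead.isPSolvable_quotient hsolv _
    have h2 : Cfsg.IsPSolvable p ((G ⧸ pPrimeCore p G) ⧸ γ.ker) :=
      Cfsg.Agent.Lead.isPSolvable_quotient h1 _
    exact Cfsg.Agent.Helper18.QuadPS.isPSolvable_equiv
      (QuotientGroup.quotientKerEquivOfSurjective γ hsurj) h2
  · rintro ⟨hcons, hsolv⟩
    obtain ⟨G, instG, ι, hM⟩ := Cfsg.Agent.S5090.result p hS F hcons
    obtain ⟨γ, hsurj, hker⟩ := Cfsg.Agent.Helper26.ModelAut.exists_hom_autGroup_core p hS F ι hM
    have hfin : Finite G := hM.1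
    have h2 : Cfsg.IsPSolvable p (G ⧸ γ.ker) :=
      Cfsg.Agent.Helper18.QuadPS.isPSolvable_equiv
        (QuotientGroup.quotientKerEquivOfSurjective γ hsurj).symm hsolv
    have h3 : Cfsg.IsPSolvable p G :=
      Cfsg.Agent.Helper10.isPSolvable_of_quotient' γ.ker (Or.inl (IsPGroup.iff_card.mp hker)) h2
    exact ⟨G, instG, hfin, ι, h3, hM.2.1, hM.2.2.1⟩

end Cfsg.Agent.S5292
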