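import Cfsg.Statements.S5299
import Cfsg.Agent.Helper26.Involves

set_option autoImplicit false
universe u
open Cfsg

namespace Cfsg.Agent.S5299

/-- Let F be a saturated fusion system over a finite p-group S, H a finite group and Q a p-subgroup of H. If Q is not involved in S (no section of S is isomorphic to Q), then F is H-free: H is involved in no model of the normalizer system of a fully normalized centric subgroup. -/
theorem result {Ω : Type u} [Group Ω] {S : Subgroup Ω} [Finite S] (p : ℕ) [Fact p.Prime] (hS : IsPGroup p S)
    (F : Cfsg.FusionSystem S) (hF : F.IsSaturated p) (H : Type*) [Group H] [Finite H] (Q : Subgroup H) (hQ : IsPGroup p Q)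
    (hfree : ¬ Cfsg.Involves (↥Q) (↥S)) : F.IsSectionFree p H := by
  open Cfsg.Agent.Helper26 Cfsg.FusionSystem in
  intro Q' hQ'n hQ'c N hN L _ ι hmodel hinv
  obtain ⟨hfin, hreal, ⟨T, hT⟩, -⟩ := hmodel
  have hQt : IsPGroup p (↥Q) := hQ
  have h1 : Involves (↥Q) L := involves_subgroup Q hinv
  have h2 : Involves (↥Q) (T : Subgroup L) := involves_sylow p hQt T h1
  have hι : Function.Injective ι := hreal.1
  apply hfree
  let ψ : (T : Subgroup L) →* ↥S :=
    (Subgroup.inclusion (inf_le_left : normalizerIn S Q' ≤ S)).comp
      ((MonoidHom.ofInjective hι).symm.toMonoidHom.comp (Subgroup.inclusion hT.le))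
  refine involves_of_injective ψ ?_ h2
  intro x y hxy
  have h3 := Subgroup.inclusion_injective (inf_le_left : normalizerIn S Q' ≤ S) hxy
  have h4 := (MonoidHom.ofInjective hι).symm.injective h3
  exact Subgroup.inclusion_injective hT.le h4

end Cfsg.Agent.S5299
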