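import Cfsg.Statements.S5301
import Cfsg.Agent.Helper25.FusionNormal
import Cfsg.Agent.Helper14.PCore

set_option autoImplicit false
universe u
open Cfsg

namespace Cfsg.Agent.S5301

/-- Let F be a saturated fusion system over a finite p-group S. If for every subgroup P of S that is fully normalized, centric and radical in F the automorphism group that F induces on P has a normal Sylow p-subgroup, then S is normal in F. -/
theorem result {Ω : Type u} [Group Ω] {S : Subgroup Ω} [Finite S] (p : ℕ) [Fact p.Prime] (hS : IsPGroup p S)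
    (F : Cfsg.FusionSystem S) (hF : F.IsSaturated p)
    (hcl : ∀ P : Subgroup Ω, F.IsFullyNormalized P → F.IsCentric P → F.IsRadical p P →
      ∃ R : Sylow p ↥(F.autGroup P), (R : Subgroup ↥(F.autGroup P)).Normal) :
    F.IsNormal S := by
  apply Cfsg.Agent.Helper25.isNormal_of_alperin p hS F hF S
  rintro P (rfl | hP)
  · refine ⟨le_rfl, fun α _ => ?_⟩
    rw [Subgroup.subgroupOf_self]
    exact Subgroup.map_top_of_surjective _ α.surjective
  · exfalso
    have hOp := Cfsg.Agent.Helper25.opAutLeInn_of_isEssential F p hP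
    have hPS : P ≤ S := hP.1.1
    have hfinP : Finite P := Cfsg.Agent.Helper25.finite_of_le hPS
    have hPp : IsPGroup p P := hS.to_le hPS
    -- Inn P ≤ Aut_F(P)
    have hInnA : Cfsg.Inn P ≤ F.autGroup P := by
      rintro _ ⟨x, rfl⟩
      rw [Cfsg.Agent.Helper25.mem_autGroup_iff F hPS]
      have := F.conj_mem hPS (hPS x.2)
      have e : Cfsg.Agent.Helper25.autHom (MulAut.conj x) = Cfsg.conjHom P (x : Ω) := by
        ext y
        simp [Cfsg.Agent.Helper25.autHom, Cfsg.conjHom, MulAut.conj_apply]
      rw [e]; exact this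
    -- radical
    have hrad : F.IsRadical p P := by
      refine ⟨hPS, le_antisymm ?_ ?_⟩
      · apply hOp _ (Subgroup.map_subtype_le _)
        · rintro α hα _ ⟨k, hk, rfl⟩
          have hn : (Cfsg.pCore p (F.autGroup P)).Normal := inferInstance
          refine ⟨⟨α, hα⟩ * k * ⟨α, hα⟩⁻¹, hn.conj_mem k hk ⟨α, hα⟩, rfl⟩
        · exact (Cfsg.Agent.Helper14.pCore_isPGroup (G := F.autGroup P) p).map _
      · intro α hα
        have hInnp : IsPGroup p ((Cfsg.Inn P).subgroupOf (F.autGroup P)) := by
          have h1 : IsPGroup p (Cfsg.Inn P) := by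
            have : IsPGroup p (MulAut.conj : P →* MulAut P).range :=
              IsPGroup.of_surjective hPp (MulAut.conj : P →* MulAut P).rangeRestrict
                (MulAut.conj : P →* MulAut P).rangeRestrict_surjective
            exact this
          exact h1.comap_of_injective _ (Subgroup.subtype_injective _)
        have hle := Cfsg.Agent.Helper14.le_pCore (G := F.autGroup P) p
          (Cfsg.Agent.Helper25.inn_normal_in_autGroup F P) hInnp
        exact ⟨⟨α, hInnA hα⟩, hle (Subgroup.mem_subgroupOf.mpr hα), rfl⟩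
    obtain ⟨R, hRn⟩ := hcl P hP.2.1 hP.1 hrad
    obtain ⟨-, -, hN, E, hE⟩ := hP
    obtain ⟨hdvd, -, -⟩ := hE
    -- R ≤ Inn
    have hRle : (R : Subgroup (F.autGroup P)) ≤ (Cfsg.Inn P).subgroupOf (F.autGroup P) := by
      intro r hr
      rw [Subgroup.mem_subgroupOf]
      apply hOp ((R : Subgroup (F.autGroup P)).map (F.autGroup P).subtype) (Subgroup.map_subtype_le _)
      · rintro α hα _ ⟨k, hk, rfl⟩
        exact ⟨⟨α, hα⟩ * k * ⟨α, hα⟩⁻¹, hRn.conj_mem k hk ⟨α, hα⟩, rfl⟩
      · exact R.isPGroup'.map _
      · exact ⟨r, hr, rfl⟩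
    have hfinA : Finite (F.autGroup P) := inferInstance
    have h1 : ((Cfsg.Inn P).subgroupOf (F.autGroup P)).index ∣ (R : Subgroup (F.autGroup P)).index :=
      Subgroup.index_dvd_of_le hRle
    rw [← Subgroup.index_eq_card] at hdvd
    exact R.not_dvd_index (hdvd.trans h1)

end Cfsg.Agent.S5301
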