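import Cfsg.Statements.S5306
import Cfsg.Agent.Helper26.Thompson
import Cfsg.Agent.Helper26.SylowConj

set_option autoImplicit false
open Cfsg

namespace Cfsg.Agent.S5306

/-- Let P be a Sylow p-subgroup of the finite group X and J = J(P) its Thompson subgroup (generated by the elementary abelian subgroups of P of largest order). If x and y lie in the centre of J and y = g x g⁻¹ for some g in X, then y = n x n⁻¹ for some n in the normalizer N_X(J). -/
theorem result {X : Type*} [Group X] [Finite X] (p : ℕ) [Fact p.Prime] (P : Sylow p X) (J : Subgroup X) (hJ : J = Cfsg.thompsonSubgroupOf p (P : Subgroup X))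
    (x y : X) (hx : x ∈ J ∧ ∀ j ∈ J, Commute j x) (hy : y ∈ J ∧ ∀ j ∈ J, Commute j y) (g : X) (hg : g * x * g⁻¹ = y) :
    ∃ n ∈ Subgroup.normalizer (J : Set X), n * x * n⁻¹ = y := by
  subst hJ
  obtain ⟨hxJ, hxc⟩ := hx
  obtain ⟨hyJ, hyc⟩ := hy
  have hJP : Cfsg.thompsonSubgroupOf p (P : Subgroup X) ≤ P := by
    unfold Cfsg.thompsonSubgroupOf; exact Subgroup.map_subtype_le _
  have hJp : IsPGroup p (Cfsg.thompsonSubgroupOf p (P : Subgroup X)) := P.isPGroup'.to_le hJP
  have hJC : Cfsg.thompsonSubgroupOf p (P : Subgroup X) ≤ Subgroup.centralizer {y} := by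
    intro j hj
    rw [Subgroup.mem_centralizer_singleton_iff]
    exact (hyc j hj).eq
  have hBC : (Cfsg.thompsonSubgroupOf p (P : Subgroup X)).map (MulAut.conj g).toMonoidHom ≤
      Subgroup.centralizer {y} := by
    rintro _ ⟨j, hj, rfl⟩
    rw [Subgroup.mem_centralizer_singleton_iff]
    have h1 : j * x = x * j := (hxc j hj).eq
    simp only [MulEquiv.coe_toMonoidHom, MulAut.conj_apply]
    rw [← hg]
    calc g * j * g⁻¹ * (g * x * g⁻¹) = g * (j * x) * g⁻¹ := by group
      _ = g * (x * j) * g⁻¹ := by rw [h1]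
      _ = g * x * g⁻¹ * (g * j * g⁻¹) := by group
  have hBp : IsPGroup p ((Cfsg.thompsonSubgroupOf p (P : Subgroup X)).map (MulAut.conj g).toMonoidHom) :=
    hJp.map _
  obtain ⟨c, hc, h, hA, hB⟩ := Cfsg.Agent.Helper26.exists_conj_le_sylow_pair P hJC hBC hJp hBp
  -- h⁻¹ J h ≤ P
  have h1 : (Cfsg.thompsonSubgroupOf p (P : Subgroup X)).map (MulAut.conj h⁻¹).toMonoidHom ≤ P := by
    rintro _ ⟨j, hj, rfl⟩
    have := hA hj
    rw [Cfsg.Agent.Helper26.mem_sylow_smul_iff] at this
    simpa [MulAut.conj_apply] using this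
  have h2 : (Cfsg.thompsonSubgroupOf p (P : Subgroup X)).map (MulAut.conj (h⁻¹ * (c * g))).toMonoidHom ≤ P := by
    rintro _ ⟨j, hj, rfl⟩
    have : (MulAut.conj c).toMonoidHom ((MulAut.conj g).toMonoidHom j) ∈
        ((h • P : Sylow p X) : Subgroup X) := hB ⟨_, ⟨j, hj, rfl⟩, rfl⟩
    rw [Cfsg.Agent.Helper26.mem_sylow_smul_iff] at this
    simp only [MulEquiv.coe_toMonoidHom, MulAut.conj_apply] at this ⊢
    convert this using 1
    group
  have e1 := Cfsg.Agent.Helper26.thompsonSubgroupOf_map_conj_eq (P : Subgroup X) _ h1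
  have e2 := Cfsg.Agent.Helper26.thompsonSubgroupOf_map_conj_eq (P : Subgroup X) _ h2
  refine ⟨c * g, ?_, ?_⟩
  · rw [Subgroup.mem_normalizer_iff_map_conj_eq]
    have e3 : ((Cfsg.thompsonSubgroupOf p (P : Subgroup X)).map (MulAut.conj (c * g)).toMonoidHom).map
        (MulAut.conj h⁻¹).toMonoidHom =
        (Cfsg.thompsonSubgroupOf p (P : Subgroup X)).map (MulAut.conj h⁻¹).toMonoidHom := by
      rw [e1, Subgroup.map_map, ← e2]
      congr 1
      ext t
      simp [MulAut.conj_apply, mul_assoc]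
    exact Subgroup.map_injective (MulAut.conj h⁻¹).injective e3
  · have hc' : c * y = y * c := Subgroup.mem_centralizer_singleton_iff.mp hc
    calc c * g * x * (c * g)⁻¹ = c * (g * x * g⁻¹) * c⁻¹ := by group
      _ = c * y * c⁻¹ := by rw [hg]
      _ = y := by rw [hc']; group

end Cfsg.Agent.S5306
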