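import Cfsg.Statements.S5311
import Cfsg.Agent.Helper25.FusionIso6

set_option autoImplicit false
open Cfsg

namespace Cfsg.Agent.S5311

/-- The layer of a saturated fusion system F over a finite p-group S is characteristic in F: for every automorphism α of S that is an automorphism of F (α and its inverse are morphisms from F to F) and every layer E of F over T, α carries T onto T and, for every map φ of E with source P, the map induced by α on α(P) (that is, α ∘ φ ∘ α⁻¹) is a map of E. -/
theorem result {Ω : Type*} [Group Ω] {S : Subgroup Ω} [Finite S] (p : ℕ) [Fact p.Prime] (hS : IsPGroup p S) (F : Cfsg.FusionSystem S) (hF : F.IsSaturated p)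
    (α : ↥S ≃* ↥S) (hα : F.IsMorphism F (S.subtype.comp α.toMonoidHom))
    (hα' : F.IsMorphism F (S.subtype.comp α.symm.toMonoidHom))
    {T : Subgroup Ω} (E : Cfsg.FusionSystem T) (hE : E.IsLayerOf F p) :
    Cfsg.FusionSystem.imageAlong (S.subtype.comp α.toMonoidHom) T = T ∧
      ∀ (P : Subgroup Ω) (φ : ↥P →* Ω), φ ∈ E.Hom P →
        ∀ φ' : ↥(Cfsg.FusionSystem.imageAlong (S.subtype.comp α.toMonoidHom) P) →* Ω,
          Cfsg.FusionSystem.InducedAlong (S.subtype.comp α.toMonoidHom) φ φ' →
            φ' ∈ E.Hom (Cfsg.FusionSystem.imageAlong (S.subtype.comp α.toMonoidHom) P) := by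
  open Cfsg.Agent.Helper25 Cfsg.FusionSystem in
  have hiso : F.IsFactorSystem ⊥ (S.subtype.comp α.toMonoidHom) F :=
    conjClosed_iso_self (α := α) (conjClosed_of_isMorphism hα)
      (conjClosed_of_isMorphism (α := α⁻¹) hα')
  have hTS : T ≤ S := hE.1.1.2.2.2.1.1
  have : Finite T := Cfsg.Agent.Helper25.finite_of_le hTS
  have hinj := Cfsg.Agent.Helper25.iso_injective hiso
  have hinjT : Function.Injective
      ((S.subtype.comp α.toMonoidHom).comp (Subgroup.inclusion hTS)) :=
    hinj.comp (Subgroup.inclusion_injective hTS)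
  obtain ⟨E', hE'⟩ := Cfsg.Agent.Helper25.exists_iso_image E _ hinjT
  have hE'layer := Cfsg.Agent.Helper25.layer_image p hS hiso hE hTS hE'
  obtain ⟨hTT', hHom⟩ := Cfsg.Agent.Helper25.layer_unique hE'layer hE
  have himgT : Cfsg.FusionSystem.imageAlong (S.subtype.comp α.toMonoidHom) T = T := by
    rw [← Cfsg.Agent.Helper25.imageAlong_restrict hTS
      (θT := (S.subtype.comp α.toMonoidHom).comp (Subgroup.inclusion hTS)) (fun x => rfl) le_rfl,
      Cfsg.Agent.Helper25.imageAlong_self]
    exact hTT'
  refine ⟨himgT, fun P φ hφ φ' hind => ?_⟩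
  have hPT := (E.le_of_mem hφ).1
  have hφT := (E.le_of_mem hφ).2
  rw [← hHom]
  exact Cfsg.Agent.Helper25.iso_mem_of_induced' hE' hφ
    (Cfsg.Agent.Helper25.imageAlong_restrict hTS (fun x => rfl) hPT)
    (Cfsg.Agent.Helper25.inducedAlong_corestrict hTS (fun x => rfl) hPT hφT hind)

end Cfsg.Agent.S5311
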