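import Cfsg.Statements.S5317
import Cfsg.Agent.Helper26.QuatQuot
import Cfsg.Agent.Helper26.FusInvSimple
import Cfsg.Agent.Helper26.PSL2Syl
import Cfsg.Agent.S0809

set_option autoImplicit false
open Cfsg

namespace Cfsg.Agent.S5317

/-- Let F be a finite field of odd order q with q² ≡ 1 mod 16 (so that a Sylow 2-subgroup of PSL(2,q), dihedral of order the 2-part of (q²−1)/2, has order at least 8). Then the 2-fusion system of PSL(2,F) on a Sylow 2-subgroup is simple: saturated, over a nontrivial 2-group, with no normal subsystem other than the trivial one and itself. -/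
theorem result {F : Type*} [Field F] [Fintype F] (hodd : Fintype.card F % 2 = 1) (h16 : 16 ∣ Fintype.card F ^ 2 - 1)
    (S : Sylow 2 (Matrix.ProjectiveSpecialLinearGroup (Fin 2) F)) :
    (Cfsg.groupFusionSystem (S : Subgroup (Matrix.ProjectiveSpecialLinearGroup (Fin 2) F))).IsSimple 2 := by
  have : Fact (Nat.Prime 2) := ⟨Nat.prime_two⟩
  have hOdd : Odd (Fintype.card F) := Nat.odd_iff.mpr hodd
  obtain ⟨k, hk2, φ, hsurj, hker⟩ := Cfsg.Agent.Helper26.PSL2Syl.sylow_structure hodd h16 S
  apply Cfsg.Agent.Helper26.FusInvSimple.isSimple_of_invol S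
  · intro h
    apply Cfsg.Agent.Helper26.QuatQuot.phi_xa_ne_one k φ hker 0
    apply Subtype.ext
    have h1 : ((φ (QuaternionGroup.xa 0) : (S : Subgroup (Matrix.ProjectiveSpecialLinearGroup (Fin 2) F))) :
        Matrix.ProjectiveSpecialLinearGroup (Fin 2) F) ∈
        (⊥ : Subgroup (Matrix.ProjectiveSpecialLinearGroup (Fin 2) F)) := h ▸ (φ (QuaternionGroup.xa 0)).2
    exact Subgroup.mem_bot.mp h1
  · have h4 : 2 ^ 2 ∣ Nat.card (Matrix.SpecialLinearGroup (Fin 2) F) := by
      rw [Cfsg.Agent.Helper2.SL2.card_SL2]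
      exact Dvd.dvd.mul_left (Dvd.dvd.trans (by norm_num) h16) _
    obtain ⟨A, hA⟩ := Sylow.exists_subgroup_card_pow_prime 2 h4
    exact (Cfsg.Agent.S0809.result rfl hOdd A (by rw [hA]; norm_num)).2.2.2
  · intro g hg
    have h1 := Cfsg.Agent.Helper26.QuatQuot.mem_closure_invol k φ hker hsurj ⟨g, hg⟩
    have h2 : (Subgroup.closure {y : (S : Subgroup (Matrix.ProjectiveSpecialLinearGroup (Fin 2) F)) |
        orderOf y = 2}).map (S : Subgroup (Matrix.ProjectiveSpecialLinearGroup (Fin 2) F)).subtype ≤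
        Subgroup.closure {x : Matrix.ProjectiveSpecialLinearGroup (Fin 2) F |
          x ∈ (S : Subgroup (Matrix.ProjectiveSpecialLinearGroup (Fin 2) F)) ∧ orderOf x = 2} := by
      rw [MonoidHom.map_closure]
      apply Subgroup.closure_mono
      rintro _ ⟨y, hy, rfl⟩
      refine ⟨y.2, ?_⟩
      exact (Subgroup.orderOf_coe y).trans hy
    exact h2 ⟨_, h1, rfl⟩
  · exact Cfsg.Agent.Helper26.QuatQuot.isPGroup_mulAut k φ hker hk2 hsurj

end Cfsg.Agent.S5317
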