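import Cfsg.Statements.S5318
import Cfsg.Agent.Helper26.FusPerfSimple
import Cfsg.Agent.Helper26.WrGen
import Cfsg.Agent.Helper26.PSL3Syl
import Cfsg.Agent.Helper2.KleinOmega
import Cfsg.Agent.S1217

set_option autoImplicit false
open Cfsg

namespace Cfsg.Agent.S5318

/-- For a finite field F of odd order, the 2-fusion system of PSL(3,F) on a Sylow 2-subgroup (semidihedral or wreathed according as |F| ≡ 3 or 1 mod 4) is simple. -/
theorem result {F : Type*} [Field F] [Fintype F] (hodd : Fintype.card F % 2 = 1) (S : Sylow 2 (Matrix.ProjectiveSpecialLinearGroup (Fin 3) F)) :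
    (Cfsg.groupFusionSystem (S : Subgroup (Matrix.ProjectiveSpecialLinearGroup (Fin 3) F))).IsSimple 2 := by
  have : Fact (Nat.Prime 2) := ⟨Nat.prime_two⟩
  have h2F : (2 : F) ≠ 0 := by
    intro h2
    have hdvd : ringChar F ∣ 2 := ringChar.dvd (by exact_mod_cast h2)
    rcases (Nat.dvd_prime Nat.prime_two).1 hdvd with h | h
    · exact CharP.ringChar_ne_one h
    · have := FiniteField.even_card_iff_char_two.1 h
      omega
  obtain ⟨P, ⟨e⟩⟩ := Cfsg.Agent.Helper26.PSL3Syl.exists_sylow_equiv hodd S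
  -- the type of the Sylow 2-subgroup
  have htype : Cfsg.Agent.Helper26.QDWr.GenInvolOne (P : Subgroup (GL (Fin 2) F)) ∧
      IsPGroup 2 (MulAut (P : Subgroup (GL (Fin 2) F))) := by
    have hq : Fintype.card F % 4 = 3 ∨ Fintype.card F % 4 = 1 := by omega
    rcases hq with hq | hq
    · have h := (Cfsg.Agent.S1217.result P).1 hq
      exact ⟨Cfsg.Agent.Helper26.QDWr.genInvolOne_of_qd h,
        Cfsg.Agent.Helper26.QDWr.isPGroup_mulAut_of_qd h⟩
    · have h := (Cfsg.Agent.S1217.result P).2 hq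
      exact ⟨Cfsg.Agent.Helper26.QDWr.genInvolOne_of_wreathed h,
        Cfsg.Agent.Helper26.Wreathed.isPGroup_mulAut_of_wreathed h⟩
  obtain ⟨hgenP, hAP⟩ := htype
  have hgenS := hgenP.of_equiv e.symm
  have hAS : IsPGroup 2 (MulAut (S : Subgroup (Matrix.ProjectiveSpecialLinearGroup (Fin 3) F))) :=
    hAP.of_equiv (MulAut.congr e).symm
  apply Cfsg.Agent.Helper26.FusPerfSimple.isSimple_of_perfect S
  · -- `S ≠ ⊥`
    intro h
    have hS1 : Nat.card (S : Subgroup (Matrix.ProjectiveSpecialLinearGroup (Fin 3) F)) = 1 := by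
      rw [h]; exact Subgroup.card_bot
    have hP1 : Nat.card (P : Subgroup (GL (Fin 2) F)) = 1 := by
      rw [← Nat.card_congr e.toEquiv]; exact hS1
    rw [P.card_eq_multiplicity] at hP1
    have h0 : (Nat.card (GL (Fin 2) F)).factorization 2 = 0 := by
      by_contra hne
      have : 2 ^ 1 ≤ 2 ^ (Nat.card (GL (Fin 2) F)).factorization 2 :=
        Nat.pow_le_pow_right (by norm_num) (Nat.one_le_iff_ne_zero.mpr hne)
      omega
    have hdvd : 2 ∣ Nat.card (GL (Fin 2) F) := by
      rw [Matrix.card_GL_field, Fin.prod_univ_two]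
      simp only [Fin.val_zero, Fin.val_one, pow_zero, pow_one]
      apply Dvd.dvd.mul_right
      have hq : Odd (Fintype.card F) := Nat.odd_iff.mpr hodd
      have h1 : Odd (Fintype.card F ^ 2) := hq.pow
      have := Nat.Odd.sub_odd h1 odd_one
      exact even_iff_two_dvd.mp this
    have hpos := Nat.Prime.factorization_pos_of_dvd Nat.prime_two (Nat.card_pos).ne' hdvd
    omega
  · exact Cfsg.Agent.Helper2.KleinOmega.PSL_perfect (le_refl 3)
  · intro a b ha hb
    obtain ⟨g, hg⟩ := Cfsg.Agent.Helper18.PSL3Inv.exists_conj h2F a ha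
    obtain ⟨k, hk⟩ := Cfsg.Agent.Helper18.PSL3Inv.exists_conj h2F b hb
    rw [isConj_iff]
    refine ⟨k⁻¹ * g, ?_⟩
    rw [mul_inv_rev, inv_inv]
    calc k⁻¹ * g * a * (g⁻¹ * k) = k⁻¹ * (g * a * g⁻¹) * k := by group
      _ = k⁻¹ * (k * b * k⁻¹) * k := by rw [hg, hk]
      _ = b := by group
  · obtain ⟨c, hc⟩ := hgenS
    refine ⟨(c : Matrix.ProjectiveSpecialLinearGroup (Fin 3) F), c.2, ?_⟩
    intro g hg
    have h1 := hc ⟨g, hg⟩
    have h2 : (Subgroup.closure ({y : (S : Subgroup (Matrix.ProjectiveSpecialLinearGroup (Fin 3) F)) |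
        orderOf y = 2} ∪ {c})).map (S : Subgroup (Matrix.ProjectiveSpecialLinearGroup (Fin 3) F)).subtype ≤
        Subgroup.closure ({x : Matrix.ProjectiveSpecialLinearGroup (Fin 3) F |
          x ∈ (S : Subgroup (Matrix.ProjectiveSpecialLinearGroup (Fin 3) F)) ∧ orderOf x = 2} ∪
            {(c : Matrix.ProjectiveSpecialLinearGroup (Fin 3) F)}) := by
      rw [MonoidHom.map_closure]
      apply Subgroup.closure_mono
      rintro _ ⟨y, hy | hy, rfl⟩
      · left
        exact ⟨y.2, (Subgroup.orderOf_coe y).trans hy⟩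
      · right
        rw [Set.mem_singleton_iff] at hy
        subst hy; rfl
    exact h2 ⟨_, h1, rfl⟩
  · exact hAS

end Cfsg.Agent.S5318
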