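import Cfsg.Statements.S5319
import Cfsg.Agent.Helper26.FusPerfSimple
import Cfsg.Agent.Helper26.WrGen
import Cfsg.Agent.Helper26.PSU3Syl
import Cfsg.Agent.Helper2.SU.Simple
import Cfsg.Agent.Helper2.OmegaGen
import Cfsg.Agent.S1218

set_option autoImplicit false
open Cfsg

namespace Cfsg.Agent.S5319

/-- Let q be an odd prime power and F a field with q² elements. Then the 2-fusion system of PSU(3,q) (realised as the special unitary group of the standard Hermitian form over F modulo its centre) on a Sylow 2-subgroup is simple. -/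
theorem result {F : Type*} [Field F] [Fintype F] (q : ℕ) (hq : Fintype.card F = q ^ 2) (hodd : q % 2 = 1) (S : Sylow 2 (Cfsg.PSU 3 F q)) :
    (Cfsg.groupFusionSystem (S : Subgroup (Cfsg.PSU 3 F q))).IsSimple 2 := by
  have : Fact (Nat.Prime 2) := ⟨Nat.prime_two⟩
  have hqo : Odd q := Nat.odd_iff.mpr hodd
  obtain ⟨P, ⟨e⟩⟩ := Cfsg.Agent.Helper26.PSU3Syl.exists_sylow_equiv hq hodd S
  -- the type of the Sylow 2-subgroup
  have htype : Cfsg.Agent.Helper26.QDWr.GenInvolOne (P : Subgroup ↥(Cfsg.GU 2 F q)) ∧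
      IsPGroup 2 (MulAut (P : Subgroup ↥(Cfsg.GU 2 F q))) := by
    have hq4 : q % 4 = 1 ∨ q % 4 = 3 := by omega
    rcases hq4 with hq4 | hq4
    · have h := (Cfsg.Agent.S1218.result q hq hqo P).1 hq4
      exact ⟨Cfsg.Agent.Helper26.QDWr.genInvolOne_of_qd h,
        Cfsg.Agent.Helper26.QDWr.isPGroup_mulAut_of_qd h⟩
    · have h := (Cfsg.Agent.S1218.result q hq hqo P).2 hq4
      exact ⟨Cfsg.Agent.Helper26.QDWr.genInvolOne_of_wreathed h,
        Cfsg.Agent.Helper26.Wreathed.isPGroup_mulAut_of_wreathed h⟩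
  obtain ⟨hgenP, hAP⟩ := htype
  have hgenS := hgenP.of_equiv e.symm
  have hAS : IsPGroup 2 (MulAut (S : Subgroup (Cfsg.PSU 3 F q))) :=
    hAP.of_equiv (MulAut.congr e).symm
  apply Cfsg.Agent.Helper26.FusPerfSimple.isSimple_of_perfect S
  · -- `S ≠ ⊥`
    intro h
    have hS1 : Nat.card (S : Subgroup (Cfsg.PSU 3 F q)) = 1 := by
      rw [h]; exact Subgroup.card_bot
    have hP1 : Nat.card (P : Subgroup ↥(Cfsg.GU 2 F q)) = 1 := by
      rw [← Nat.card_congr e.toEquiv]; exact hS1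
    rw [P.card_eq_multiplicity] at hP1
    have h0 : (Nat.card ↥(Cfsg.GU 2 F q)).factorization 2 = 0 := by
      by_contra hne
      have : 2 ^ 1 ≤ 2 ^ (Nat.card ↥(Cfsg.GU 2 F q)).factorization 2 :=
        Nat.pow_le_pow_right (by norm_num) (Nat.one_le_iff_ne_zero.mpr hne)
      omega
    have hdvd : 2 ∣ Nat.card ↥(Cfsg.GU 2 F q) := by
      rw [Cfsg.Agent.Helper18.SU3Inv.card_GU2 hq]
      apply Dvd.dvd.mul_right
      apply Dvd.dvd.mul_left
      exact even_iff_two_dvd.mp hqo.add_one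
    have hpos := Nat.Prime.factorization_pos_of_dvd Nat.prime_two (Nat.card_pos).ne' hdvd
    omega
  · have hne : ¬ (3 = 3 ∧ q = 2) := by rintro ⟨-, rfl⟩; omega
    exact Cfsg.Agent.Helper2.OmegaGen.commutator_eq_top_of_surjective (QuotientGroup.mk' _)
      (QuotientGroup.mk'_surjective _)
      (Cfsg.Agent.Helper2.SUGen.commutator_SU_eq_top hq 3 (le_refl 3) hne)
  · exact fun a b ha hb => Cfsg.Agent.Helper26.PSU3Syl.invol_conj hq hodd a b ha hb
  · obtain ⟨c, hc⟩ := hgenS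
    refine ⟨(c : Cfsg.PSU 3 F q), c.2, ?_⟩
    intro g hg
    have h1 := hc ⟨g, hg⟩
    have h2 : (Subgroup.closure ({y : (S : Subgroup (Cfsg.PSU 3 F q)) |
        orderOf y = 2} ∪ {c})).map (S : Subgroup (Cfsg.PSU 3 F q)).subtype ≤
        Subgroup.closure ({x : Cfsg.PSU 3 F q |
          x ∈ (S : Subgroup (Cfsg.PSU 3 F q)) ∧ orderOf x = 2} ∪
            {(c : Cfsg.PSU 3 F q)}) := by
      rw [MonoidHom.map_closure]
      apply Subgroup.closure_mono
      rintro _ ⟨y, hy | hy, rfl⟩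
      · left
        exact ⟨y.2, (Subgroup.orderOf_coe y).trans hy⟩
      · right
        rw [Set.mem_singleton_iff] at hy
        subst hy; rfl
    exact h2 ⟨_, h1, rfl⟩
  · exact hAS

end Cfsg.Agent.S5319
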