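import Cfsg.Statements.S5327
import Cfsg.Agent.Helper26.FusionPatch

set_option autoImplicit false
open Cfsg

namespace Cfsg.Agent.S5327

/-- Let F be a saturated fusion system over a finite p-group S. Call a family of subgroups of S generating when every fusion system over S whose automorphism group of each member R contains Aut_F(R) contains every map of F. If two families are each closed under F-conjugacy and each generating, then their intersection is generating. -/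
theorem result {Ω : Type*} [Group Ω] {S : Subgroup Ω} [Finite S] (p : ℕ) [Fact p.Prime] (hS : IsPGroup p S) (F : Cfsg.FusionSystem S) (hF : F.IsSaturated p) (𝒬₁ 𝒬₂ : Set (Subgroup Ω)) (h₁ : ∀ R ∈ 𝒬₁, ∀ R' : Subgroup Ω, F.IsConj R R' → R' ∈ 𝒬₁) (h₂ : ∀ R ∈ 𝒬₂, ∀ R' : Subgroup Ω, F.IsConj R R' → R' ∈ 𝒬₂) (hg₁ : ∀ E : Cfsg.FusionSystem S, (∀ R ∈ 𝒬₁, F.autGroup R ≤ E.autGroup R) → F ≤ E) (hg₂ : ∀ E : Cfsg.FusionSystem S, (∀ R ∈ 𝒬₂, F.autGroup R ≤ E.autGroup R) → F ≤ E) (E : Cfsg.FusionSystem S) (hE : ∀ R ∈ 𝒬₁ ∩ 𝒬₂, F.autGroup R ≤ E.autGroup R) : F ≤ E := by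
  open Cfsg.Agent.Helper25 Cfsg.Agent.Helper26 Cfsg.FusionSystem in
  have key : ∀ R : Subgroup Ω, R ≤ S →
      (∀ Q : Subgroup Ω, Q ≤ S → Nat.card R < Nat.card Q → F.Hom Q ⊆ E.Hom Q) →
      F.autGroup R ≤ E.autGroup R := by
    intro R hRS hIH
    by_cases h1 : R ∈ 𝒬₁
    · by_cases h2 : R ∈ 𝒬₂
      · exact hE R ⟨h1, h2⟩
      · exact autGroup_le_of_generating_not_mem F E hRS hIH 𝒬₂ h₂ hg₂ h2
    · exact autGroup_le_of_generating_not_mem F E hRS hIH 𝒬₁ h₁ hg₁ h1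
  refine le_of_autGroup_step p hS F hF E ?_ ?_
  · apply key S le_rfl
    intro Q hQS hlt
    exfalso
    have : Nat.card Q ≤ Nat.card S :=
      Nat.card_le_card_of_injective (Subgroup.inclusion hQS) (Subgroup.inclusion_injective _)
    omega
  · intro R hFN _ hIH
    exact key R hFN.1 hIH

end Cfsg.Agent.S5327
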