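import Cfsg.Statements.S5329
import Cfsg.Agent.Helper26.CB10


set_option autoImplicit false
open Cfsg

namespace Cfsg.Agent.S5329

/-- For a saturated fusion system F over a finite p-group S, the focal subgroup and the derived subgroup of S meet the centre Z(F) of the system in the same subgroup: foc(F) ∩ Z(F) = S′ ∩ Z(F). -/
theorem result {Ω : Type*} [Group Ω] {S : Subgroup Ω} [Finite S] (p : ℕ) [Fact p.Prime] (hS : IsPGroup p S) (F : Cfsg.FusionSystem S) (hF : F.IsSaturated p) : F.focalSubgroup ⊓ F.center = ⁅(S : Subgroup Ω), (S : Subgroup Ω)⁆ ⊓ F.center := by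
  apply le_antisymm
  · intro z hz
    obtain ⟨hz1, hz2⟩ := Subgroup.mem_inf.mp hz
    exact Subgroup.mem_inf.mpr
      ⟨Cfsg.Agent.Helper26.CB.center_inf_focal_le p hS F hF (Subgroup.mem_inf.mpr ⟨hz2, hz1⟩), hz2⟩
  · refine inf_le_inf_right _ ?_
    rw [Subgroup.commutator_le]
    intro t ht s hs
    unfold Cfsg.FusionSystem.focalSubgroup
    apply Subgroup.subset_closure
    refine ⟨S, Cfsg.conjHom S s, ⟨t⁻¹, S.inv_mem ht⟩, F.conj_mem le_rfl hs, ?_⟩
    simp [Cfsg.conjHom, commutatorElement_def, mul_assoc]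

end Cfsg.Agent.S5329
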