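import Cfsg.Statements.S5331
import Cfsg.Agent.Helper26.AbelianDistinct
import Cfsg.Agent.Helper26.FusionAbelian
import Cfsg.Agent.Helper26.FusionInner

set_option autoImplicit false
open Cfsg

namespace Cfsg.Agent.S5331

/-- Let S be a finite abelian 2-group that is a direct product of cyclic groups of pairwise distinct orders 2^{a_1} < 2^{a_2} < ⋯ < 2^{a_n} (all a_i ≥ 1). Then every saturated fusion system over S is the inner one: its maps are exactly the conjugations by elements of S. -/
theorem result {Ω : Type*} [Group Ω] {S : Subgroup Ω} [Finite S] (n : ℕ) (a : Fin n → ℕ) (ha : StrictMono a) (ha1 : ∀ i, 1 ≤ a i) (e : ↥S ≃* Multiplicative ((i : Fin n) → ZMod (2 ^ a i))) (F : Cfsg.FusionSystem S) (hF : F.IsSaturated 2) (P : Subgroup Ω) : F.Hom P = (Cfsg.innerFusionSystem S).Hom P := by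
  open Cfsg.Agent.Helper25 Cfsg.Agent.Helper26 Cfsg.FusionSystem in
  have hcomm := comm_of_equiv e
  have hS : IsPGroup 2 S := isPGroup_of_equiv e
  have hab : ∀ x ∈ S, ∀ y ∈ S, x * y = y * x := by
    intro x hx y hy
    exact congrArg Subtype.val (hcomm ⟨x, hx⟩ ⟨y, hy⟩)
  haveI : Fact (Nat.Prime 2) := ⟨Nat.prime_two⟩
  apply Set.Subset.antisymm _ (inner_le F P)
  intro φ hφ
  have hPS : P ≤ S := (F.le_of_mem hφ).1
  obtain ⟨α, hα, hαφ⟩ := abelian_exists_aut_extension 2 hS F hF hab hφ
  have hα1 : α = 1 := by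
    by_cases hS1 : Nat.card S = 1
    · have hsub : Subsingleton S := (Nat.card_eq_one_iff_unique.mp hS1).1
      ext x
      exact congrArg Subtype.val (Subsingleton.elim _ _)
    · apply aut_eq_one_of_distinct_invariants e ha α
      have hcop := abelian_autGroup_coprime 2 hS F hF hab
      obtain ⟨k, hk⟩ := hS.exists_card_eq
      have hk0 : k ≠ 0 := by
        rintro rfl
        exact hS1 (by rw [hk, pow_zero])
      have hdvd : orderOf α ∣ Nat.card (F.autGroup S) := by
        have h1 : orderOf (⟨α, hα⟩ : F.autGroup S) ∣ Nat.card (F.autGroup S) := orderOf_dvd_natCard _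
        rwa [← Subgroup.orderOf_coe] at h1
      have h2 : Nat.Coprime (orderOf α) (Nat.card S) := Nat.Coprime.coprime_dvd_left hdvd hcop
      rw [hk] at h2
      exact Nat.Coprime.coprime_dvd_right (dvd_pow_self 2 hk0) h2
  refine ⟨hPS, 1, S.one_mem, fun x => ?_⟩
  rw [← hαφ x, hα1]
  simp

end Cfsg.Agent.S5331
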