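import Cfsg.Statements.S5333
import Cfsg.Agent.Helper26.FusionCentric
import Cfsg.Agent.Helper25.FusionNC

set_option autoImplicit false
open Cfsg

namespace Cfsg.Agent.S5333

/-- Let F′ ≤ F be saturated fusion systems over the same finite p-group S. Suppose that for every subgroup Z ≤ S of order p that is fully centralized in F′, the maps of F and of F′ with source Z coincide and the centralizer systems C_F(Z) and C_{F′}(Z) coincide. Then F = F′. -/
theorem result {Ω : Type*} [Group Ω] {S : Subgroup Ω} [Finite S] (p : ℕ) [Fact p.Prime] (hS : IsPGroup p S) (F : Cfsg.FusionSystem S) (hF : F.IsSaturated p) (F' : Cfsg.FusionSystem S) (hF' : F'.IsSaturated p) (hle : F' ≤ F) (hZ : ∀ Z : Subgroup Ω, Z ≤ S → Nat.card Z = p → F'.IsFullyCentralized Z → F.Hom Z = F'.Hom Z ∧ ∀ (C C' : Cfsg.FusionSystem (Cfsg.FusionSystem.centralizerIn S Z)), F.IsCentralizerSystem Z C → F'.IsCentralizerSystem Z C' → ∀ P : Subgroup Ω, C.Hom P = C'.Hom P) (P : Subgroup Ω) : F.Hom P = F'.Hom P := by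
  open Cfsg.Agent.Helper25 Cfsg.Agent.Helper26 Cfsg.FusionSystem in
  have hSc : F.IsCentric S := by
    refine ⟨le_rfl, ?_⟩
    rintro Q' ⟨χ, hχ, rfl⟩
    rw [range_eq_of_hom_top F hχ]
    exact inf_le_left
  have hkey : ∀ R : Subgroup Ω, F.IsCentric R → F.autGroup R ≤ F'.autGroup R := by
    intro R hR α hα
    have hRS : R ≤ S := hR.1
    rcases subsingleton_or_nontrivial S with hsub | hnt
    · have hsubR : Subsingleton R :=
        (Subgroup.inclusion_injective hRS).subsingleton
      have : α = 1 := by
        ext x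
        exact congrArg Subtype.val (Subsingleton.elim (α x) ((1 : MulAut R) x))
      rw [this]
      exact (F'.autGroup R).one_mem
    · -- a central subgroup of order p
      have hcn : Nontrivial (Subgroup.center S) := hS.center_nontrivial
      have hcp : IsPGroup p (Subgroup.center S) := hS.to_subgroup _
      have hdvd : p ∣ Nat.card (Subgroup.center S) := by
        rcases hcp.card_eq_or_dvd with h | h
        · exfalso
          have := (Nat.card_eq_one_iff_unique.mp h).1
          exact not_subsingleton _ this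
        · exact h
      obtain ⟨x, hx⟩ := exists_prime_orderOf_dvd_card' p hdvd
      set z : Ω := ((x : S) : Ω) with hz
      have hzord : orderOf z = p := by
        rw [hz, Subgroup.orderOf_coe, Subgroup.orderOf_coe]
        exact hx
      have hzS : z ∈ S := (x : S).2
      have hzc : ∀ s ∈ S, s * z = z * s := by
        intro s hs
        have := Subgroup.mem_center_iff.mp x.2 ⟨s, hs⟩
        exact congrArg Subtype.val this
      set Z : Subgroup Ω := Subgroup.zpowers z with hZdef
      have hZS : Z ≤ S := (Subgroup.zpowers_le).mpr hzS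
      have hZcard : Nat.card Z = p := by rw [hZdef, Nat.card_zpowers, hzord]
      have hZc : ∀ y ∈ Z, ∀ s ∈ S, s * y = y * s := by
        intro y hy s hs
        obtain ⟨k, rfl⟩ := Subgroup.mem_zpowers_iff.mp hy
        exact (Commute.zpow_right (hzc s hs) k)
      have hCZ : centralizerIn S Z = S := by
        apply le_antisymm inf_le_left
        intro s hs
        exact ⟨hs, Subgroup.mem_centralizer_iff.mpr (fun y hy => (hZc y hy s hs).symm)⟩
      have hFC : F'.IsFullyCentralized Z := by
        refine ⟨hZS, fun Q _ => ?_⟩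
        rw [hCZ]
        exact Nat.card_le_card_of_injective (Subgroup.inclusion (inf_le_left : centralizerIn S Q ≤ S))
          (Subgroup.inclusion_injective _)
      obtain ⟨hHomZ, hCsys⟩ := hZ Z hZS hZcard hFC
      have hCeq : ∀ P : Subgroup Ω, F.centralizerHom Z P = F'.centralizerHom Z P :=
        hCsys (centralizerSystem F Z hZS) (centralizerSystem F' Z hZS)
          (centralizerSystem_isCentralizerSystem F Z hZS)
          (centralizerSystem_isCentralizerSystem F' Z hZS)
      have hrec : F'.IsReceptive Z := Cfsg.Agent.S5077.extension_axiom p hS F' hF' Z hFC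
      -- Z ≤ R
      have hZR : Z ≤ R := by
        intro y hy
        apply hR.2 R (isConj_refl F hRS)
        exact ⟨hZS hy, Subgroup.mem_centralizer_iff.mpr (fun r hr => hZc y hy r (hRS hr))⟩
      rw [mem_autGroup_iff F hRS] at hα
      rw [mem_autGroup_iff F' hRS]
      set ζ : Z →* Ω := (autHom α).comp (Subgroup.inclusion hZR) with hζ
      have hζF : ζ ∈ F.Hom Z := restrict_mem F hZR hα
      have hζF' : ζ ∈ F'.Hom Z := by rw [← hHomZ]; exact hζF
      obtain ⟨ρ, hρ, hρinv, hρr⟩ := exists_inv_mem F' hζF' rfl
      obtain ⟨ρt, hρt, hρext⟩ := hrec.2 ζ.range ρ hρ hρr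
      have hZ₁R : ζ.range ≤ R := by
        rintro _ ⟨y, rfl⟩
        exact (α (Subgroup.inclusion hZR y)).2
      have hRext : R ≤ extender S ζ.range ρ := by
        refine le_trans ?_ (Cfsg.Agent.S5104.centralizerIn_le_extender ζ.range ρ)
        intro r hr
        refine ⟨hRS hr, Subgroup.mem_centralizer_iff.mpr ?_⟩
        rintro _ ⟨y, rfl⟩
        -- α(y) commutes with r
        have h1 : Subgroup.inclusion hZR y * α.symm ⟨r, hr⟩ = α.symm ⟨r, hr⟩ * Subgroup.inclusion hZR y := by
          apply Subtype.ext
          exact (hZc y y.2 _ (hRS (α.symm ⟨r, hr⟩).2)).symm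
        have h2 := congrArg (fun w : R => ((α w : R) : Ω)) h1
        simp only [map_mul, MulEquiv.apply_symm_apply, Subgroup.coe_mul] at h2
        exact h2
      have hρR : ρt.comp (Subgroup.inclusion hRext) ∈ F'.Hom R := restrict_mem F' hRext hρt
      set ρR : R →* Ω := ρt.comp (Subgroup.inclusion hRext) with hρRdef
      -- γ = ρR ∘ α
      let γ : R →* Ω := ρR.comp α.toMonoidHom
      have hγF : γ ∈ F.Hom R :=
        comp_mem' F hα (hle R hρR) (fun x => (α x).2) (fun x => rfl)
      have hγfix : ∀ y : Z, γ (Subgroup.inclusion hZR y) = y := by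
        intro y
        show ρt ⟨((α (Subgroup.inclusion hZR y) : R) : Ω), _⟩ = y
        have hmem : ((α (Subgroup.inclusion hZR y) : R) : Ω) ∈ ζ.range := ⟨y, rfl⟩
        exact (hρext _ hmem _).trans (hρinv y _)
      have hRCZ : R ≤ centralizerIn S Z := by rw [hCZ]; exact hRS
      have hγC : γ ∈ F.centralizerHom Z R := by
        refine ⟨hγF, hRCZ, fun x => ?_, ?_⟩
        · rw [hCZ]
          exact (F.le_of_mem hγF).2 x
        · have hle' : R ⊔ Z ≤ R := sup_le le_rfl hZR
          refine ⟨γ.comp (Subgroup.inclusion hle'), restrict_mem F hle' hγF, fun x => rfl, ?_⟩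
          intro y
          exact hγfix y
      rw [hCeq R] at hγC
      have hγF' : γ ∈ F'.Hom R := hγC.1
      obtain ⟨σ, hσ, hσinv, -⟩ := exists_inv_mem F' hρR rfl
      refine comp_mem' F' hγF' hσ (fun x => ⟨α x, rfl⟩) (fun x => ?_)
      exact (hσinv (α x) _).symm
  have h1 : F ≤ F' := by
    refine alperin_le p hS F hF F' ?_
    rintro R (rfl | hess)
    · exact hkey _ hSc
    · exact hkey R hess.1
  exact Set.Subset.antisymm (h1 P) (hle P)

end Cfsg.Agent.S5333
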