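import Cfsg.Statements.S5334
import Cfsg.Agent.Helper26.FusionCentric

set_option autoImplicit false
open Cfsg

namespace Cfsg.Agent.S5334

/-- Let F′ ≤ F be saturated fusion systems over the same finite p-group S, let Q and R be F-centric subgroups, φ a map of F with source Q and values in R, and ψ a map of F with source R. If two of φ, ψ and the composite ψ ∘ φ are maps of F′ then so is the third. -/
theorem result {Ω : Type*} [Group Ω] {S : Subgroup Ω} [Finite S] (p : ℕ) [Fact p.Prime] (hS : IsPGroup p S) (F : Cfsg.FusionSystem S) (hF : F.IsSaturated p) (F' : Cfsg.FusionSystem S) (hF' : F'.IsSaturated p) (hle : F' ≤ F) (Q R : Subgroup Ω) (hQ : F.IsCentric Q) (hR : F.IsCentric R) (φ : ↥Q →* Ω) (hφ : φ ∈ F.Hom Q) (hφR : ∀ x : Q, φ x ∈ R) (ψ : ↥R →* Ω) (hψ : ψ ∈ F.Hom R) : (φ ∈ F'.Hom Q → ψ ∈ F'.Hom R → ψ.comp (φ.codRestrict R hφR) ∈ F'.Hom Q) ∧ (ψ ∈ F'.Hom R → ψ.comp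 (φ.codRestrict R hφR) ∈ F'.Hom Q → φ ∈ F'.Hom Q) ∧ (φ ∈ F'.Hom Q → ψ.comp (φ.codRestrict R hφR) ∈ F'.Hom Q → ψ ∈ F'.Hom R) := by
  open Cfsg.Agent.Helper25 Cfsg.Agent.Helper26 in
  refine ⟨fun h1 h2 => F'.comp_mem h1 h2 hφR, ?_, ?_⟩
  · intro h2 h3
    obtain ⟨ρ, hρ, hρinv, -⟩ := exists_inv_mem F' h2 rfl
    refine comp_mem' F' h3 hρ (fun x => ⟨φ.codRestrict R hφR x, rfl⟩) (fun x => ?_)
    exact (hρinv (φ.codRestrict R hφR x) _).symm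
  · intro h1 h3
    have hr : φ.range ≤ R := by
      rintro _ ⟨x, rfl⟩
      exact hφR x
    have hQ₁ : F.IsCentric φ.range := isCentric_of_isConj F hQ ⟨φ, hφ, rfl⟩
    obtain ⟨ρ, hρ, hρinv, hρr⟩ := exists_inv_mem F' h1 rfl
    have hρQ : ∀ y : φ.range, ρ y ∈ Q := fun y => hρr.le ⟨y, rfl⟩
    have hres : ψ.comp (Subgroup.inclusion hr) ∈ F'.Hom φ.range := by
      refine comp_mem' F' hρ h3 hρQ ?_
      rintro ⟨_, x, rfl⟩
      have e1 : (⟨ρ ⟨φ x, ⟨x, rfl⟩⟩, hρQ ⟨φ x, ⟨x, rfl⟩⟩⟩ : Q) = x := Subtype.ext (hρinv x _)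
      rw [e1]
      rfl
    exact mem_of_restrict_centric p hS F hF F' hF' hle hψ hr hQ₁ hres

end Cfsg.Agent.S5334
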