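import Cfsg.Statements.S5335
import Cfsg.Agent.Helper26.FusionCentric

set_option autoImplicit false
open Cfsg

namespace Cfsg.Agent.S5335

/-- Let F′ ≤ F be saturated fusion systems over the same finite p-group S. If the maps of F and of F′ with source Q coincide for every F-centric subgroup Q that is minimal among F-centric subgroups, then F = F′. -/
theorem result {Ω : Type*} [Group Ω] {S : Subgroup Ω} [Finite S] (p : ℕ) [Fact p.Prime] (hS : IsPGroup p S) (F : Cfsg.FusionSystem S) (hF : F.IsSaturated p) (F' : Cfsg.FusionSystem S) (hF' : F'.IsSaturated p) (hle : F' ≤ F) (hmin : ∀ Q : Subgroup Ω, F.IsCentric Q → (∀ R : Subgroup Ω, R < Q → ¬ F.IsCentric R) → F.Hom Q = F'.Hom Q) (P : Subgroup Ω) : F.Hom P = F'.Hom P := by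
  open Cfsg.Agent.Helper25 Cfsg.Agent.Helper26 in
  have hSc : F.IsCentric S := by
    refine ⟨le_rfl, ?_⟩
    rintro Q' ⟨χ, hχ, rfl⟩
    rw [range_eq_of_hom_top F hχ]
    exact inf_le_left
  have hkey : ∀ R : Subgroup Ω, F.IsCentric R → F.autGroup R ≤ F'.autGroup R := by
    intro R hR α hα
    have hRS : R ≤ S := hR.1
    have hfinR : Finite R := finite_of_le hRS
    -- a minimal centric subgroup of R
    have hex : ∃ n : ℕ, ∃ Q : Subgroup Ω, Q ≤ R ∧ F.IsCentric Q ∧ Nat.card Q = n :=
      ⟨_, R, le_rfl, hR, rfl⟩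
    classical
    obtain ⟨Q, hQR, hQc, hQn⟩ := Nat.find_spec hex
    have hQmin : ∀ Q' : Subgroup Ω, Q' < Q → ¬ F.IsCentric Q' := by
      intro Q' hlt hc
      have hQS : Q ≤ S := hQR.trans hRS
      have h1 : Nat.card Q' < Nat.find hex := by
        rw [← hQn]
        exact card_lt_of_lt hQS hlt
      exact Nat.find_min hex h1 ⟨Q', hlt.le.trans hQR, hc, rfl⟩
    have heq := hmin Q hQc hQmin
    rw [mem_autGroup_iff F hRS] at hα
    rw [mem_autGroup_iff F' hRS]
    have hres : (autHom α).comp (Subgroup.inclusion hQR) ∈ F'.Hom Q := by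
      rw [← heq]
      exact restrict_mem F hQR hα
    exact mem_of_restrict_centric p hS F hF F' hF' hle hα hQR hQc hres
  have h1 : F ≤ F' := by
    refine alperin_le p hS F hF F' ?_
    rintro R (rfl | hess)
    · exact hkey _ hSc
    · exact hkey R hess.1
  exact Set.Subset.antisymm (h1 P) (hle P)

end Cfsg.Agent.S5335
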