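import Cfsg.Statements.S5336
import Cfsg.Agent.S5118

set_option autoImplicit false
open Cfsg

namespace Cfsg.Agent.S5336

/-- Let G be a finite group with Sylow p-subgroup S whose fusion system F_S(G) is simple. If G has no nontrivial normal subgroup of order prime to p and no proper subgroup H containing S induces the same fusion system on S as G does, then G is a simple group. -/
theorem result {G : Type*} [Group G] [Finite G] (p : ℕ) [Fact p.Prime] (S : Sylow p G) (hsimple : (Cfsg.groupFusionSystem (S : Subgroup G)).IsSimple p) (hcore : Cfsg.pPrimeCore p G = ⊥) (hmin : ∀ (H : Subgroup G) (hSH : (S : Subgroup G) ≤ H), H ≠ ⊤ → ∃ P : Subgroup G, (Cfsg.fusionSystemOfSubgroup H (S : Subgroup G) hSH).Hom P ≠ (Cfsg.groupFusionSystem (S : Subgroup G)).Hom P) : IsSimpleGroup G := by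
  obtain ⟨hsat, hSne, hnorm⟩ := hsimple
  have hp : p.Prime := Fact.out
  have hnt : Nontrivial G := by
    by_contra h
    rw [not_nontrivial_iff_subsingleton] at h
    exact hSne (Subsingleton.elim _ _)
  refine { toNontrivial := hnt, eq_bot_or_eq_top_of_normal := ?_ }
  intro N hN
  have hE := Cfsg.Agent.S5118.result p S N
  rcases hnorm _ _ hE with h0 | ⟨hT, hHom⟩
  · -- N is a p'-group
    left
    rw [← le_bot_iff, ← hcore]
    refine le_sSup ⟨hN, ?_⟩
    rw [Nat.coprime_comm, hp.coprime_iff_not_dvd]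
    intro hdvd
    obtain ⟨x, hx⟩ := exists_prime_orderOf_dvd_card' p hdvd
    have hxp : IsPGroup p (Subgroup.zpowers (x : G)) := by
      apply IsPGroup.of_card (n := 1)
      rw [Nat.card_zpowers, Subgroup.orderOf_coe, hx, pow_one]
    obtain ⟨Q, hQ⟩ := hxp.exists_le_sylow
    obtain ⟨g, hg⟩ := MulAction.exists_smul_eq G Q S
    have hxQ : (x : G) ∈ Q := hQ (Subgroup.mem_zpowers _)
    have hgx : g * (x : G) * g⁻¹ ∈ (S : Subgroup G) := by
      rw [← hg, Sylow.coe_subgroup_smul]
      have := Subgroup.smul_mem_pointwise_smul (x : G) (MulAut.conj g) (Q : Subgroup G) hxQ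
      simpa [MulAut.smul_def] using this
    have hgxN : g * (x : G) * g⁻¹ ∈ N := hN.conj_mem _ x.2 g
    have hmem : g * (x : G) * g⁻¹ ∈ (S : Subgroup G) ⊓ N := ⟨hgx, hgxN⟩
    rw [h0, Subgroup.mem_bot] at hmem
    have hx1 : (x : G) = 1 := by
      have : (x : G) = g⁻¹ * (g * (x : G) * g⁻¹) * g := by group
      rw [this, hmem]; group
    have : x = 1 := Subtype.ext hx1
    rw [this, orderOf_one] at hx
    exact hp.one_lt.ne hx
  · right
    by_contra hne
    have hSN : (S : Subgroup G) ≤ N := by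
      rw [← hT]; exact inf_le_right
    obtain ⟨P, hP⟩ := hmin N hSN hne
    apply hP
    rw [← hHom P]
    ext φ
    constructor
    · rintro ⟨h1, h2, g, hg, hφ⟩
      exact ⟨le_inf h1 (h1.trans hSN), fun x => ⟨h2 x, hSN (h2 x)⟩, g, hg, hφ⟩
    · rintro ⟨h1, h2, g, hg, hφ⟩
      exact ⟨h1.trans inf_le_left, fun x => (h2 x).1, g, hg, hφ⟩

end Cfsg.Agent.S5336
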