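import Cfsg.Statements.S5337
import Cfsg.Agent.Helper26.FusionAbelian2

set_option autoImplicit false
open Cfsg

namespace Cfsg.Agent.S5337

/-- Let F be a saturated fusion system over a finite abelian p-group S. Then F is simple if and only if S has order p and F is the inner system of S (whose only maps are the inclusions, S being abelian). -/
theorem result {Ω : Type*} [Group Ω] {S : Subgroup Ω} [Finite S] (p : ℕ) [Fact p.Prime] (hS : IsPGroup p S) (F : Cfsg.FusionSystem S) (hF : F.IsSaturated p) (hab : ∀ x ∈ S, ∀ y ∈ S, x * y = y * x) : F.IsSimple p ↔ (Nat.card S = p ∧ ∀ P : Subgroup Ω, F.Hom P = (Cfsg.innerFusionSystem S).Hom P) := by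
  have hp : p.Prime := Fact.out
  constructor
  · rintro ⟨-, hS1, hsimple⟩
    have hA := Cfsg.Agent.Helper26.inner_isNormalIn_of_abelian p hS F hF hab S le_rfl
      ⟨le_rfl, fun R _ φ hφ x => (F.le_of_mem hφ).2 x⟩
      (fun P hPT φ hφ => by
        obtain ⟨α, hα, h⟩ := Cfsg.Agent.Helper26.abelian_exists_aut_extension p hS F hF hab hφ
        exact ⟨α, hα, fun x => (h x).symm⟩)
    rcases hsimple S _ hA with h | ⟨-, hinner⟩
    · exact absurd h hS1
    have hinner' : ∀ P, F.Hom P = (Cfsg.innerFusionSystem S).Hom P := fun P => (hinner P).symm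
    refine ⟨?_, hinner'⟩
    -- an element of order p
    have hnt : Nontrivial S := by
      rw [← Subgroup.nontrivial_iff_ne_bot] at hS1
      exact hS1
    obtain ⟨n, hn⟩ := IsPGroup.iff_card.mp hS
    have hdvd : p ∣ Nat.card S := by
      rcases n with _ | n
      · rw [pow_zero] at hn
        have := Finite.one_lt_card (α := S)
        omega
      · rw [hn, pow_succ]; exact dvd_mul_left _ _
    obtain ⟨x, hx⟩ := exists_prime_orderOf_dvd_card' p hdvd
    set T : Subgroup Ω := Subgroup.zpowers (x : Ω) with hT
    have hTS : T ≤ S := Subgroup.zpowers_le.mpr x.2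
    have hsc : F.StronglyClosed T := by
      refine ⟨hTS, fun R hRT φ hφ y => ?_⟩
      rw [hinner' R] at hφ
      rw [Cfsg.Agent.Helper26.inner_apply_of_abelian hab hφ y]
      exact hRT y.2
    have hB := Cfsg.Agent.Helper26.inner_isNormalIn_of_abelian p hS F hF hab T hTS hsc
      (fun P hPT φ hφ => by
        refine ⟨1, Subgroup.one_mem _, fun y => ?_⟩
        rw [hinner' P] at hφ
        rw [Cfsg.Agent.Helper26.inner_apply_of_abelian hab hφ y]
        rfl)
    rcases hsimple T _ hB with h | ⟨h, -⟩
    · exfalso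
      have hx1 : (x : Ω) ∈ T := Subgroup.mem_zpowers _
      rw [h, Subgroup.mem_bot] at hx1
      have : x = 1 := Subtype.ext hx1
      rw [this, orderOf_one] at hx
      exact hp.one_lt.ne hx
    · rw [← h, hT, Nat.card_zpowers, Subgroup.orderOf_coe, hx]
  · rintro ⟨hcard, hinner⟩
    refine ⟨hF, ?_, ?_⟩
    · intro h
      rw [h, Subgroup.card_bot] at hcard
      exact hp.one_lt.ne hcard
    · intro T E hE
      obtain ⟨hsub, hsc, -, -⟩ := hE.1.2.2
      have hTS : T ≤ S := hsc.1
      have hdvd : Nat.card T ∣ Nat.card S := Subgroup.card_dvd_of_le hTS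
      rw [hcard] at hdvd
      rcases (Nat.dvd_prime hp).mp hdvd with h1 | h1
      · left
        exact Subgroup.card_eq_one.mp h1
      · right
        have hTeq : T = S := Subgroup.eq_of_le_of_card_ge hTS (by rw [h1, hcard])
        subst hTeq
        refine ⟨rfl, fun P => Set.Subset.antisymm (hsub P) ?_⟩
        rw [hinner P]
        exact Cfsg.Agent.Helper26.inner_le E P

end Cfsg.Agent.S5337
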