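import Cfsg.Statements.S5338
import Cfsg.Agent.Helper26.FusionFrattini

set_option autoImplicit false
open Cfsg

namespace Cfsg.Agent.S5338

/-- Let F be a saturated fusion system over a finite p-group S and F′ ≤ F a saturated subsystem over all of S that is invariant under F in the conjugation sense: for every map φ of F with source Q and every map ψ of F′ between subgroups R ≤ Q (with values in Q), the transported map φψφ⁻¹ defined on φ(R) is again a map of F′. If moreover Aut_{F′}(S) = Aut_F(S), then F′ = F. -/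
theorem result {Ω : Type*} [Group Ω] {S : Subgroup Ω} [Finite S] (p : ℕ) [Fact p.Prime] (hS : IsPGroup p S) (F : Cfsg.FusionSystem S) (hF : F.IsSaturated p) (F' : Cfsg.FusionSystem S) (hF' : F'.IsSaturated p) (hle : F' ≤ F) (hinv : ∀ (Q : Subgroup Ω) (φ : ↥Q →* Ω), φ ∈ F.Hom Q → ∀ (R : Subgroup Ω) (hRQ : R ≤ Q) (ψ : ↥R →* Ω), ψ ∈ F'.Hom R → ∀ (hψQ : ∀ x : R, ψ x ∈ Q), ∃ χ ∈ F'.Hom ((R.subgroupOf Q).map φ), ∀ (x : R) (hx : φ ⟨(x : Ω), hRQ x.2⟩ ∈ (R.subgroupOf Q).map φ), χ ⟨φ ⟨(x : Ω), hRQ x.2⟩, hx⟩ = φ ⟨ψ x, hψQ x⟩) (htop : F'.autGroup S = F.autGroup S) (P : Subgroup Ω) : F'.Hom P = F.Hom P := by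
  open Cfsg.Agent.Helper25 Cfsg.Agent.Helper26 in
  have hnorm : ∀ R : Subgroup Ω, R ≤ S → ∀ α ∈ F.autGroup R, ∀ κ ∈ F'.autGroup R,
      α * κ * α⁻¹ ∈ F'.autGroup R := by
    intro R hRS α hα κ hκ
    rw [mem_autGroup_iff F hRS] at hα
    rw [mem_autGroup_iff F' hRS] at hκ
    obtain ⟨χ, hχ, hχeq⟩ := hinv R (autHom α) hα R le_rfl (autHom κ) hκ (fun x => (κ x).2)
    have hR : R = (R.subgroupOf R).map (autHom α) := by
      ext y
      constructor
      · intro hy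
        refine ⟨α.symm ⟨y, hy⟩, ?_, ?_⟩
        · exact Subgroup.mem_subgroupOf.mpr (α.symm ⟨y, hy⟩).2
        · simp [autHom]
      · rintro ⟨x, -, rfl⟩
        exact (α x).2
    have h1 := cast_mem F' hR hχ
    rw [mem_autGroup_iff F' hRS]
    have e : autHom (α * κ * α⁻¹) = χ.comp (Subgroup.inclusion hR.le) := by
      ext x
      have hx : (autHom α) ⟨((α⁻¹ x : R) : Ω), (le_rfl : R ≤ R) (α⁻¹ x).2⟩ ∈ (R.subgroupOf R).map (autHom α) :=
        ⟨α⁻¹ x, Subgroup.mem_subgroupOf.mpr (α⁻¹ x).2, rfl⟩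
      have h2 := hχeq (α⁻¹ x) hx
      show ((α (κ (α⁻¹ x)) : R) : Ω) = χ (Subgroup.inclusion hR.le x)
      have h3 : (Subgroup.inclusion hR.le x : ↥((R.subgroupOf R).map (autHom α))) =
          ⟨(autHom α) ⟨((α⁻¹ x : R) : Ω), (le_rfl : R ≤ R) (α⁻¹ x).2⟩, hx⟩ := by
        apply Subtype.ext
        show (x : Ω) = ((α (α⁻¹ x) : R) : Ω)
        simp
      rw [h3, h2]
      rfl
    rw [e]
    exact h1
  have h1 : F ≤ F' := le_of_normalized_of_top p hS F hF F' hle hnorm htop.ge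
  exact Set.Subset.antisymm (hle P) (h1 P)

end Cfsg.Agent.S5338
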