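import Cfsg.Statements.S5340
import Cfsg.Agent.Helper26.Fusion

set_option autoImplicit false
open Cfsg

namespace Cfsg.Agent.S5340

/-- Let F be a saturated fusion system over a nontrivial finite p-group S such that S is generated by its elements of order p, any two subgroups of S of order p are F-conjugate, and Aut_F(S) consists of inner automorphisms only. Then F is simple. -/
theorem result {Ω : Type*} [Group Ω] {S : Subgroup Ω} [Finite S] (p : ℕ) [Fact p.Prime] (hS : IsPGroup p S) (F : Cfsg.FusionSystem S) (hF : F.IsSaturated p) (hS1 : S ≠ ⊥) (hgen : Subgroup.closure {x : Ω | x ∈ S ∧ orderOf x = p} = S) (htr : ∀ A B : Subgroup Ω, A ≤ S → B ≤ S → Nat.card A = p → Nat.card B = p → F.IsConj A B) (htop : F.autGroup S = Cfsg.Inn ↥S) : F.IsSimple p := by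
  apply Cfsg.Agent.Helper26.isSimple_of_inner_top_of_stronglyClosed p F hF hS1 htop
  intro T hT
  by_cases hTbot : T = ⊥
  · exact Or.inl hTbot
  right
  apply le_antisymm hT.1
  -- an element of order p in T
  have hTp : IsPGroup p T := hS.to_le hT.1
  obtain ⟨⟨t, ht⟩, ht1'⟩ := (Subgroup.ne_bot_iff_exists_ne_one (H := T)).mp hTbot
  have ht1 : t ≠ 1 := fun h1 => ht1' (Subtype.ext h1)
  obtain ⟨k, hk⟩ := (IsPGroup.iff_orderOf.mp hTp) ⟨t, ht⟩
  have hk' : orderOf t = p ^ k := by
    rw [← hk]; exact (Subgroup.orderOf_mk t ht).symm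
  have hk0 : k ≠ 0 := by
    intro h0
    rw [h0, pow_zero, orderOf_eq_one_iff] at hk'
    exact ht1 hk'
  obtain ⟨m, rfl⟩ := Nat.exists_eq_succ_of_ne_zero hk0
  set y := t ^ (p ^ m) with hy
  have hyT : y ∈ T := T.pow_mem ht _
  have hyo : orderOf y = p := by
    have hp : p.Prime := Fact.out
    rw [hy, orderOf_pow' t (pow_ne_zero m hp.ne_zero), hk', Nat.gcd_eq_right (pow_dvd_pow p (Nat.le_succ m)),
      pow_succ, Nat.mul_div_cancel_left _ (pow_pos hp.pos m)]
  have hAT : Subgroup.zpowers y ≤ T := by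
    rw [Subgroup.zpowers_le]; exact hyT
  have hAcard : Nat.card (Subgroup.zpowers y) = p := by rw [Nat.card_zpowers, hyo]
  rw [← hgen, Subgroup.closure_le]
  rintro x ⟨hxS, hxo⟩
  have hBS : Subgroup.zpowers x ≤ S := by
    rw [Subgroup.zpowers_le]; exact hxS
  have hBcard : Nat.card (Subgroup.zpowers x) = p := by rw [Nat.card_zpowers, hxo]
  obtain ⟨φ, hφ, hrange⟩ := htr _ _ (hAT.trans hT.1) hBS hAcard hBcard
  have hx : x ∈ φ.range := by rw [hrange]; exact Subgroup.mem_zpowers x
  obtain ⟨a, rfl⟩ := hx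
  exact hT.2 _ hAT φ hφ a

end Cfsg.Agent.S5340
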