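import Cfsg.Statements.S5341
import Cfsg.Agent.S5077
import Cfsg.Agent.S5079
import Cfsg.Agent.Helper25.FusionSat
import Cfsg.Agent.Helper25.FusionBasic

set_option autoImplicit false
open Cfsg

namespace Cfsg.Agent.S5341

/-- Let F be a saturated fusion system over a finite p-group S, T a subgroup strongly closed in F, and F′ any fusion system over T all of whose maps are maps of F. For a subgroup Q ≤ T: if Q is fully centralized in F then it is fully centralized in F′, and if Q is fully normalized in F then it is fully normalized in F′. -/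
theorem result {Ω : Type*} [Group Ω] {S : Subgroup Ω} [Finite S] (p : ℕ) [Fact p.Prime] (hS : IsPGroup p S) (F : Cfsg.FusionSystem S) (hF : F.IsSaturated p) (T : Subgroup Ω) (hT : F.StronglyClosed T) (F' : Cfsg.FusionSystem T) (hsub : F'.IsSubsystemOf F) (Q : Subgroup Ω) (hQT : Q ≤ T) : (F.IsFullyCentralized Q → F'.IsFullyCentralized Q) ∧ (F.IsFullyNormalized Q → F'.IsFullyNormalized Q) := by
  have hTS : T ≤ S := hT.1
  have hQS : Q ≤ S := hQT.trans hTS
  have hfin : ∀ B : Subgroup Ω, B ≤ S → Finite B := fun B hB => Cfsg.Agent.Helper25.finite_of_le hB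
  constructor
  · intro hFC
    have hrec := Cfsg.Agent.S5077.extension_axiom p hS F hF Q hFC
    refine ⟨hQT, ?_⟩
    intro R hQR
    -- R is F-conjugate to Q
    have hQR' : F.IsConj Q R := by
      obtain ⟨φ, hφ, hr⟩ := hQR
      exact ⟨φ, hsub Q hφ, hr⟩
    obtain ⟨φ, hφ, hr⟩ := Cfsg.Agent.Helper25.isConj_symm F hQR'
    have hRS : R ≤ S := (F.le_of_mem hφ).1
    obtain ⟨ψ, hψ, hψφ⟩ := hrec.2 R φ hφ hr
    -- C_T(R) ≤ N_φ
    have hAle : Cfsg.FusionSystem.centralizerIn T R ≤ Cfsg.FusionSystem.extender S R φ := by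
      intro g hg
      apply Subgroup.subset_closure
      refine ⟨hTS hg.1, Subgroup.centralizer_le_normalizer _ hg.2, 1, S.one_mem, ?_⟩
      intro x hx
      have hgx : g * (x : Ω) * g⁻¹ = x := by
        have := Subgroup.mem_centralizer_iff.mp hg.2 x x.2
        rw [← this]; group
      have : (⟨g * (x : Ω) * g⁻¹, hx⟩ : R) = x := Subtype.ext hgx
      rw [this]; simp
    have hRle : R ≤ Cfsg.FusionSystem.extender S R φ :=
      Cfsg.Agent.Helper25.le_extender hRS φ (F.le_of_mem hφ).2
    have hAT : Cfsg.FusionSystem.centralizerIn T R ≤ T := inf_le_left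
    have hres := Cfsg.Agent.Helper25.restrict_mem F hAle hψ
    have hmapsto : ∀ a : Cfsg.FusionSystem.centralizerIn T R,
        ψ (Subgroup.inclusion hAle a) ∈ Cfsg.FusionSystem.centralizerIn T Q := by
      intro a
      refine Subgroup.mem_inf.mpr ⟨hT.2 _ hAT _ hres a, ?_⟩
      rw [Subgroup.mem_centralizer_iff]
      intro q hq
      rw [← hr] at hq
      obtain ⟨r, rfl⟩ := hq
      have h1 : ψ (Subgroup.inclusion hRle r) = φ r := hψφ r r.2 (hRle r.2)
      have hcomm : (Subgroup.inclusion hRle r) * (Subgroup.inclusion hAle a) =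
          (Subgroup.inclusion hAle a) * (Subgroup.inclusion hRle r) := by
        apply Subtype.ext
        exact Subgroup.mem_centralizer_iff.mp a.2.2 r r.2
      rw [← h1, ← map_mul, ← map_mul, hcomm]
    have : Finite (Cfsg.FusionSystem.centralizerIn T Q) :=
      hfin _ ((inf_le_left : Cfsg.FusionSystem.centralizerIn T Q ≤ T).trans hTS)
    apply Nat.card_le_card_of_injective (fun a : Cfsg.FusionSystem.centralizerIn T R =>
      (⟨ψ (Subgroup.inclusion hAle a), hmapsto a⟩ : Cfsg.FusionSystem.centralizerIn T Q))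
    intro a b hab
    have h1 : ψ (Subgroup.inclusion hAle a) = ψ (Subgroup.inclusion hAle b) := congrArg Subtype.val hab
    exact Subgroup.inclusion_injective hAle (F.injective_of_mem hψ h1)
  · intro hFN
    obtain ⟨hFC, hFA⟩ := Cfsg.Agent.S5077.sylow_axiom p hS F hF Q hFN
    have hrec := Cfsg.Agent.S5077.extension_axiom p hS F hF Q hFC
    refine ⟨hQT, ?_⟩
    intro R hQR
    have hQR' : F.IsConj Q R := by
      obtain ⟨φ, hφ, hr⟩ := hQR
      exact ⟨φ, hsub Q hφ, hr⟩
    obtain ⟨χ, hχ, hχN, -⟩ := Cfsg.Agent.S5079.result p hS F Q R hFA hrec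
      (Cfsg.Agent.Helper25.isConj_symm F hQR')
    have hAle : Cfsg.FusionSystem.normalizerIn T R ≤ Cfsg.FusionSystem.normalizerIn S R :=
      inf_le_inf_right _ hTS
    have hAT : Cfsg.FusionSystem.normalizerIn T R ≤ T := inf_le_left
    have hres := Cfsg.Agent.Helper25.restrict_mem F hAle hχ
    have hmapsto : ∀ a : Cfsg.FusionSystem.normalizerIn T R,
        χ (Subgroup.inclusion hAle a) ∈ Cfsg.FusionSystem.normalizerIn T Q := by
      intro a
      exact Subgroup.mem_inf.mpr ⟨hT.2 _ hAT _ hres a, (Subgroup.mem_inf.mp (hχN _)).2⟩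
    have : Finite (Cfsg.FusionSystem.normalizerIn T Q) :=
      hfin _ ((inf_le_left : Cfsg.FusionSystem.normalizerIn T Q ≤ T).trans hTS)
    apply Nat.card_le_card_of_injective (fun a : Cfsg.FusionSystem.normalizerIn T R =>
      (⟨χ (Subgroup.inclusion hAle a), hmapsto a⟩ : Cfsg.FusionSystem.normalizerIn T Q))
    intro a b hab
    have h1 : χ (Subgroup.inclusion hAle a) = χ (Subgroup.inclusion hAle b) := congrArg Subtype.val hab
    exact Subgroup.inclusion_injective hAle (F.injective_of_mem hχ h1)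

end Cfsg.Agent.S5341
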