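import Cfsg.Statements.S5343
import Cfsg.Agent.Helper25.FusionIso7

set_option autoImplicit false
universe u
open Cfsg

namespace Cfsg.Agent.S5343

/-- Let F be a simple saturated fusion system over a finite p-group S that is realized by some finite group on a Sylow p-subgroup. Then F is realized by a finite simple group on a Sylow p-subgroup. -/
theorem result {Ω : Type u} [Group Ω] {S : Subgroup Ω} [Finite S] (p : ℕ) [Fact p.Prime] (hS : IsPGroup p S) (F : Cfsg.FusionSystem S) (hsimple : F.IsSimple p) (hreal : F.IsRealizable p) : ∃ (G : Type u) (_ : Group G) (_ : Finite G) (_ : IsSimpleGroup G) (ι : ↥S →* G), F.IsRealizedBy ι ∧ ∃ T : Sylow p G, (T : Subgroup G) = ι.range := by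
  classical
  have hex : ∃ n : ℕ, ∃ (G : Type u) (_ : Group G) (_ : Finite G) (ι : S →* G),
      F.IsRealizedBy ι ∧ (∃ T : Sylow p G, (T : Subgroup G) = ι.range) ∧ Nat.card G = n := by
    obtain ⟨G, i1, i2, ι, h1, h2⟩ := hreal
    exact ⟨_, G, i1, i2, ι, h1, h2, rfl⟩
  obtain ⟨G, i1, i2, ι, hι, ⟨T, hT⟩, hcard⟩ := Nat.find_spec hex
  have hmin := fun (m : ℕ) (hm : m < Nat.find hex) => Nat.find_min hex hm
  have hnt : Nontrivial G := by
    obtain ⟨a, ha⟩ := (Subgroup.ne_bot_iff_exists_ne_one).mp hsimple.2.1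
    refine ⟨ι a, 1, fun h => ha ?_⟩
    exact hι.1 (h.trans (map_one ι).symm)
  refine ⟨G, i1, i2, @IsSimpleGroup.mk G _ hnt (fun N hN => ?_), ι, hι, T, hT⟩
  by_contra hcon
  rw [not_or] at hcon
  obtain ⟨G', j1, j2, ι', hι', hT', hlt⟩ :=
    Cfsg.Agent.Helper25.exists_smaller_realization p hsimple ι hι T hT N hcon.1 hcon.2
  exact hmin (Nat.card G') (hcard ▸ hlt) ⟨G', j1, j2, ι', hι', hT', rfl⟩

end Cfsg.Agent.S5343
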