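import Cfsg.Statements.S5345
import Cfsg.Agent.Helper26.Thompson
import Cfsg.Agent.Helper26.SylowConj

set_option autoImplicit false
open Cfsg

namespace Cfsg.Agent.S5345

/-- Let D be a conjugation-invariant generating set of 3-transpositions of a finite group G and T a Sylow 2-subgroup of G. Then the members of D lying in T generate an abelian subgroup, and their number is the width of D (the largest number of pairwise commuting members of D). -/
theorem result {G : Type*} [Group G] [Finite G] {D : Set G} (hD : Cfsg.IsThreeTranspositionGroup D) (T : Sylow 2 G) : IsMulCommutative (Subgroup.closure {d : G | d ∈ D ∧ d ∈ T}) ∧ {d : G | d ∈ D ∧ d ∈ T}.ncard = Cfsg.commutingWidth D := by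
  obtain ⟨⟨hord, h23⟩, hconj, -⟩ := hD
  have hsq : ∀ d ∈ D, d * d = 1 := by
    intro d hd
    have := pow_orderOf_eq_one d
    rw [hord d hd, pow_two] at this
    exact this
  have hinv : ∀ d ∈ D, d⁻¹ = d := fun d hd => inv_eq_of_mul_eq_one_right (hsq d hd)
  -- members of D in T commute
  have hcomm : ∀ d ∈ {d : G | d ∈ D ∧ d ∈ T}, ∀ e ∈ {d : G | d ∈ D ∧ d ∈ T}, d * e = e * d := by
    rintro d ⟨hd, hdT⟩ e ⟨he, heT⟩
    have hmem : d * e ∈ (T : Subgroup G) := (T : Subgroup G).mul_mem hdT heT
    obtain ⟨k, hk⟩ := T.2 ⟨_, hmem⟩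
    have hk' : (d * e) ^ (2 ^ k) = 1 := by
      have := congrArg Subtype.val hk
      simpa using this
    have h2 : (d * e) ^ 2 = 1 := by
      rcases h23 d hd e he with h | h
      · exact h
      · have hdvd1 : orderOf (d * e) ∣ 2 ^ k := orderOf_dvd_of_pow_eq_one hk'
        have hdvd2 : orderOf (d * e) ∣ 3 := orderOf_dvd_of_pow_eq_one h
        have hcop : Nat.Coprime (2 ^ k) 3 := Nat.Coprime.pow_left _ (by norm_num)
        have := Nat.eq_one_of_dvd_coprimes hcop hdvd1 hdvd2
        rw [orderOf_eq_one_iff.mp this, one_pow]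
    calc d * e = d * e * ((d * e) ^ 2)⁻¹ := by rw [h2, inv_one, mul_one]
      _ = e⁻¹ * d⁻¹ := by rw [pow_two]; group
      _ = e * d := by rw [hinv d hd, hinv e he]
  refine ⟨Subgroup.isMulCommutative_closure hcomm, ?_⟩
  · -- the width
    have hfin : {d : G | d ∈ D ∧ d ∈ T}.Finite := Set.toFinite _
    unfold Cfsg.commutingWidth
    symm
    apply IsGreatest.csSup_eq
    constructor
    · exact ⟨_, fun d hd => hd.1, hfin, fun a ha b hb => hcomm a ha b hb, rfl⟩
    · rintro n ⟨E, hED, hEfin, hEc, rfl⟩
      -- closure E is a 2-group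
      have hEA : Cfsg.IsElementaryAbelian 2 (Subgroup.closure E) :=
        Cfsg.Agent.Helper26.isElementaryAbelian_closure (fun a ha b hb => hEc a ha b hb)
          (fun a ha => by rw [pow_two]; exact hsq a (hED ha))
      have hp2 : IsPGroup 2 (Subgroup.closure E) := by
        rintro ⟨h, hh⟩
        refine ⟨1, Subtype.ext ?_⟩
        show h ^ (2 ^ 1) = 1
        rw [pow_one]
        exact hEA.2 h hh
      obtain ⟨Q, hQ⟩ := hp2.exists_le_sylow
      obtain ⟨g, hg⟩ := MulAction.exists_smul_eq G Q T
      refine Set.ncard_le_ncard_of_injOn (fun e => g * e * g⁻¹) ?_ ?_ hfin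
      · intro e he
        refine ⟨hconj g e (hED he), ?_⟩
        show g * e * g⁻¹ ∈ (T : Subgroup G)
        rw [← hg, Cfsg.Agent.Helper26.mem_sylow_smul_iff]
        have : g⁻¹ * (g * e * g⁻¹) * g = e := by group
        rw [this]
        exact hQ (Subgroup.subset_closure he)
      · intro a _ b _ hab
        have h1 : g * a * g⁻¹ = g * b * g⁻¹ := hab
        exact mul_left_cancel (mul_right_cancel h1)

end Cfsg.Agent.S5345
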