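import Cfsg.Statements.S5355
import Mathlib
import Cfsg.Agent.Helper4.ThreeTransS4

set_option autoImplicit false
open Cfsg

namespace Cfsg.Agent.S5355

/-- Let D be a conjugacy class of 3-transpositions generating the finite group G, with at least two members, and d a member of D. Suppose that every member of D commuting with d commutes with exactly the same members of D as d does, and that exactly one member of D other than d commutes with d. Then G is isomorphic to the symmetric group of degree 4. -/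
theorem result {G : Type*} [Group G] [Finite G] {D : Set G} (hD : Cfsg.IsThreeTranspositionClass D) (hD2 : ∃ a ∈ D, ∃ b ∈ D, a ≠ b) {d : G} (hd : d ∈ D) (hV : {y : G | y ∈ D ∧ Commute d y} = {v : G | v ∈ D ∧ ∀ e ∈ D, Commute v e ↔ Commute d e}) (hm : {y : G | y ∈ D ∧ Commute d y}.ncard = 2) : Nonempty (G ≃* Equiv.Perm (Fin 4)) := by
  classical
  obtain ⟨hset, ⟨d₀, hd₀, hDeq⟩, hgen⟩ := hD
  -- conjugation invariance
  have hmemD : ∀ x, x ∈ D ↔ IsConj d₀ x := fun x => by rw [hDeq]; rfl
  have hconj : ∀ g : G, ∀ x ∈ D, g * x * g⁻¹ ∈ D := by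
    intro g x hx
    rw [hmemD] at hx ⊢
    exact hx.trans (isConj_iff.mpr ⟨g, rfl⟩)
  have hconjd : ∀ e ∈ D, ∃ g : G, g * d * g⁻¹ = e := by
    intro e he
    rw [hmemD] at he hd
    exact isConj_iff.mp (hd.symm.trans he)
  have hconj' : ∀ g : G, ∀ x ∈ D, g⁻¹ * x * g ∈ D := by
    intro g x hx
    have := hconj g⁻¹ x hx
    rwa [inv_inv] at this
  have hcomm_iff : ∀ g y : G, Commute (g * d * g⁻¹) y ↔ Commute d (g⁻¹ * y * g) := by
    intro g y
    have h1 : y = g * (g⁻¹ * y * g) * g⁻¹ := by group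
    conv_lhs => rw [h1]
    exact Commute.conj_iff g
  have hcomm_iff2 : ∀ g v y : G, Commute v y ↔ Commute (g⁻¹ * v * g) (g⁻¹ * y * g) := by
    intro g v y
    have := Commute.conj_iff (a := v) (b := y) g⁻¹
    rw [inv_inv] at this
    exact this.symm
  -- the commuting set of d
  obtain ⟨p, q, hpq, hC⟩ := Set.ncard_eq_two.mp hm
  have hdC : d ∈ {y : G | y ∈ D ∧ Commute d y} := ⟨hd, Commute.refl d⟩
  have huniq_d : ∀ y ∈ D, ∀ y' ∈ D, Commute d y → Commute d y' → y ≠ d → y' ≠ d → y = y' := by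
    intro y hy y' hy' hc hc' hne hne'
    have h1 : y ∈ ({p, q} : Set G) := by rw [← hC]; exact ⟨hy, hc⟩
    have h2 : y' ∈ ({p, q} : Set G) := by rw [← hC]; exact ⟨hy', hc'⟩
    have h3 : d ∈ ({p, q} : Set G) := by rw [← hC]; exact hdC
    simp only [Set.mem_insert_iff, Set.mem_singleton_iff] at h1 h2 h3
    rcases h3 with rfl | rfl
    · rcases h1 with rfl | rfl
      · exact absurd rfl hne
      · rcases h2 with rfl | rfl
        · exact absurd rfl hne'
        · rfl
    · rcases h1 with rfl | rfl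
      · rcases h2 with rfl | rfl
        · rfl
        · exact absurd rfl hne'
      · exact absurd rfl hne
  have hsame_d : ∀ v ∈ D, Commute d v → ∀ y ∈ D, (Commute v y ↔ Commute d y) := by
    intro v hv hc y hy
    have : v ∈ {v : G | v ∈ D ∧ ∀ e ∈ D, Commute v e ↔ Commute d e} := by
      rw [← hV]; exact ⟨hv, hc⟩
    exact this.2 y hy
  have hpart_d : ∃ d' ∈ D, d' ≠ d ∧ Commute d d' := by
    have hp : p ∈ {y : G | y ∈ D ∧ Commute d y} := by rw [hC]; simp
    have hq : q ∈ {y : G | y ∈ D ∧ Commute d y} := by rw [hC]; simp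
    by_cases h : p = d
    · exact ⟨q, hq.1, fun h' => hpq (h.trans h'.symm), hq.2⟩
    · exact ⟨p, hp.1, h, hp.2⟩
  -- transfer to every member of D
  have huniq : ∀ e ∈ D, ∀ y ∈ D, ∀ y' ∈ D, Commute e y → Commute e y' → y ≠ e → y' ≠ e → y = y' := by
    intro e he y hy y' hy' hc hc' hne hne'
    obtain ⟨g, rfl⟩ := hconjd e he
    have h := huniq_d (g⁻¹ * y * g) (hconj' g y hy) (g⁻¹ * y' * g) (hconj' g y' hy')
      ((hcomm_iff g y).mp hc) ((hcomm_iff g y').mp hc')
      (fun h => hne (by rw [← h]; group)) (fun h => hne' (by rw [← h]; group))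
    have : g * (g⁻¹ * y * g) * g⁻¹ = g * (g⁻¹ * y' * g) * g⁻¹ := by rw [h]
    simpa [mul_assoc] using this
  have hsame : ∀ e ∈ D, ∀ v ∈ D, Commute e v → ∀ y ∈ D, (Commute v y ↔ Commute e y) := by
    intro e he v hv hc y hy
    obtain ⟨g, rfl⟩ := hconjd e he
    rw [hcomm_iff g y, hcomm_iff2 g v y]
    exact hsame_d _ (hconj' g v hv) ((hcomm_iff g v).mp hc) _ (hconj' g y hy)
  have hpart : ∀ e ∈ D, ∃ e' ∈ D, e' ≠ e ∧ Commute e e' := by
    intro e he
    obtain ⟨g, rfl⟩ := hconjd e he
    obtain ⟨d', hd', hne, hc⟩ := hpart_d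
    refine ⟨g * d' * g⁻¹, hconj g d' hd', ?_, (Commute.conj_iff g).mpr hc⟩
    intro h
    apply hne
    have : g⁻¹ * (g * d' * g⁻¹) * g = g⁻¹ * (g * d * g⁻¹) * g := by rw [h]
    simpa [mul_assoc] using this
  -- some member of D does not commute with d
  have hexb : ∃ b ∈ D, ¬ Commute d b := by
    by_contra hall
    push Not at hall
    have hcen : ∀ g : G, g * d = d * g := by
      intro g
      have hle : Subgroup.closure D ≤ Subgroup.centralizer ({d} : Set G) := by
        rw [Subgroup.closure_le]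
        intro x hx
        rw [SetLike.mem_coe, Subgroup.mem_centralizer_iff]
        intro y hy
        rw [Set.mem_singleton_iff] at hy
        rw [hy]
        exact (hall x hx).eq
      have hg : g ∈ Subgroup.centralizer ({d} : Set G) := hle (by rw [hgen]; trivial)
      rw [Subgroup.mem_centralizer_iff] at hg
      exact (hg d rfl).symm
    have hall' : ∀ e ∈ D, e = d := by
      intro e he
      obtain ⟨g, rfl⟩ := hconjd e he
      rw [hcen g, mul_assoc, mul_inv_cancel, mul_one]
    obtain ⟨a, ha, b, hb, hab⟩ := hD2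
    exact hab ((hall' a ha).trans (hall' b hb).symm)
  obtain ⟨b, hb, hdb⟩ := hexb
  obtain ⟨d', hd', hne, hc⟩ := hpart_d
  have hbd' : ¬ Commute b d' := by
    intro h
    exact hdb ((hsame d hd d' hd' hc b hb).mp h.symm)
  obtain ⟨φ, hinj, -, -, -, hmem⟩ := Cfsg.Agent.Helper4.ThreeTransS4.string_hom hset hconj hd hb hd'
    hne.symm hc hdb hbd'
  have hsurj : Function.Surjective φ := by
    rw [← MonoidHom.range_eq_top, eq_top_iff, ← hgen, Subgroup.closure_le]
    intro e he
    obtain ⟨i, j, -, rfl⟩ := Cfsg.Agent.Helper4.ThreeTransS4.mem_swaps hset hconj huniq hsame hpart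
      φ hinj hmem he
    exact ⟨_, rfl⟩
  exact ⟨(MulEquiv.ofBijective φ ⟨hinj, hsurj⟩).symm⟩

end Cfsg.Agent.S5355
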