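import Cfsg.Statements.S5356
import Mathlib
import Cfsg.Agent.Helper4.InvSylowD
import Cfsg.Agent.S5349

set_option autoImplicit false
open Cfsg

namespace Cfsg.Agent.S5356

/-- Let D be a conjugacy class of 3-transpositions generating the finite group G, with at least two members, and d a member of D such that every member of D commuting with d commutes with exactly the same members of D as d. Then there is a Sylow 3-subgroup P of G normalized by d such that G is generated by d, P and the largest normal 2-subgroup of G. -/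
theorem result {G : Type*} [Group G] [Finite G] {D : Set G} (hD : Cfsg.IsThreeTranspositionClass D) (hD2 : ∃ a ∈ D, ∃ b ∈ D, a ≠ b) {d : G} (hd : d ∈ D) (hV : {y : G | y ∈ D ∧ Commute d y} = {v : G | v ∈ D ∧ ∀ e ∈ D, Commute v e ↔ Commute d e}) : ∃ P : Sylow 3 G, d ∈ Subgroup.normalizer (P : Set G) ∧ Subgroup.zpowers d ⊔ (P : Subgroup G) ⊔ Cfsg.pCore 2 G = ⊤ := by
  classical
  have hDc := hD
  obtain ⟨hset, ⟨d₀, hd₀, hDeq⟩, hgen⟩ := hD
  have hmemD : ∀ x, x ∈ D ↔ IsConj d₀ x := fun x => by rw [hDeq]; rfl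
  have hconj : ∀ g : G, ∀ x ∈ D, g * x * g⁻¹ ∈ D := by
    intro g x hx
    rw [hmemD] at hx ⊢
    exact hx.trans (isConj_iff.mpr ⟨g, rfl⟩)
  have hconjd : ∀ d ∈ D, ∀ e ∈ D, ∃ g : G, g * d * g⁻¹ = e := by
    intro d hd e he
    rw [hmemD] at he hd
    exact isConj_iff.mp (hd.symm.trans he)
  apply Cfsg.Agent.Helper4.InvSylow.exists_invariant_sylow hset hconj hgen hconjd ?_ hd
  intro a ha b hb hab
  obtain ⟨g, rfl⟩ := hconjd d hd a ha
  have hb' : g⁻¹ * b * g ∈ D := by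
    have := hconj g⁻¹ b hb
    rwa [inv_inv] at this
  have hdb' : Commute d (g⁻¹ * b * g) :=
    (Cfsg.Agent.Helper4.ThreeTransO2.commute_conj_iff g d b).mp hab
  have h1 : g⁻¹ * b * g ∈ {y : G | y ∈ D ∧ Commute d y} := ⟨hb', hdb'⟩
  rw [hV, (Cfsg.Agent.S5349.result hDc hD2 hd).1] at h1
  have h2 : d⁻¹ * (g⁻¹ * b * g) ∈ Cfsg.pCore 2 G := h1.2
  have e : (g * d * g⁻¹)⁻¹ * b = g * (d⁻¹ * (g⁻¹ * b * g)) * g⁻¹ := by group
  rw [e]
  exact (Cfsg.Agent.Helper14.pCore_normal 2).conj_mem _ h2 g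

end Cfsg.Agent.S5356
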