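import Cfsg.Statements.S5358
import Cfsg.Agent.Helper28.Quad

set_option autoImplicit false
open scoped MatrixGroups
open Cfsg

namespace Cfsg.Agent.S5358

/-- Let Q be a non-degenerate quadratic form on the n-dimensional coordinate space over the field with three elements and u, v vectors of the same non-zero norm Q(u) = Q(v) spanning different lines (v ≠ u and v ≠ −u). Then the reflection matrices of u and v commute if and only if u and v are orthogonal for the polar form of Q. -/
theorem result (n : ℕ) (Q : QuadraticForm (ZMod 3) (Fin n → ZMod 3)) (hQ : (QuadraticMap.polarBilin Q).Nondegenerate) (u v : Fin n → ZMod 3) (hu : Q u ≠ 0) (huv : Q u = Q v) (h1 : v ≠ u) (h2 : v ≠ -u) : Commute (Cfsg.reflectionMatrix (⇑Q) u) (Cfsg.reflectionMatrix (⇑Q) v) ↔ QuadraticMap.polar (⇑Q) u v = 0 := by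
  open Cfsg.Agent.Helper28 Matrix in
  have hav : (Q v)⁻¹ = (Q u)⁻¹ := by rw [← huv]
  have ha0 : (Q u)⁻¹ ≠ 0 := inv_ne_zero hu
  have key : ∀ x : Fin n → ZMod 3,
      (Cfsg.reflectionMatrix (⇑Q) u * Cfsg.reflectionMatrix (⇑Q) v) *ᵥ x -
        (Cfsg.reflectionMatrix (⇑Q) v * Cfsg.reflectionMatrix (⇑Q) u) *ᵥ x =
      (((Q u)⁻¹) ^ 2 * QuadraticMap.polar (⇑Q) u v) •
        (QuadraticMap.polar (⇑Q) v x • u - QuadraticMap.polar (⇑Q) u x • v) := by
    intro x
    rw [← Matrix.mulVec_mulVec, ← Matrix.mulVec_mulVec, reflectionMatrix_mulVec,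
      reflectionMatrix_mulVec, reflectionMatrix_mulVec, reflectionMatrix_mulVec]
    simp only [QuadraticMap.polar_sub_right, QuadraticMap.polar_smul_right, hav]
    rw [QuadraticMap.polar_comm (⇑Q) v u]
    ext i
    simp only [Pi.sub_apply, Pi.smul_apply, smul_eq_mul]
    ring
  constructor
  · intro hc
    by_contra hne
    have hu0 : u ≠ 0 := by
      rintro rfl
      exact hu (by simp)
    obtain ⟨x, hx⟩ : ∃ x, QuadraticMap.polar (⇑Q) u x ≠ 0 := by
      by_contra h
      push Not at h
      exact hu0 (hQ.1 u (fun y => by simpa using h y))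
    have h1' := key x
    rw [hc.eq, sub_self] at h1'
    have hcoef : ((Q u)⁻¹) ^ 2 * QuadraticMap.polar (⇑Q) u v ≠ 0 :=
      mul_ne_zero (pow_ne_zero 2 ha0) hne
    have h3 : QuadraticMap.polar (⇑Q) v x • u - QuadraticMap.polar (⇑Q) u x • v = 0 := by
      rcases smul_eq_zero.mp h1'.symm with h | h
      · exact absurd h hcoef
      · exact h
    have h4 : v = ((QuadraticMap.polar (⇑Q) u x)⁻¹ * QuadraticMap.polar (⇑Q) v x) • u := by
      have h5 : QuadraticMap.polar (⇑Q) u x • v = QuadraticMap.polar (⇑Q) v x • u :=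
        (sub_eq_zero.mp h3).symm
      rw [mul_smul, ← h5, smul_smul, inv_mul_cancel₀ hx, one_smul]
    set t := (QuadraticMap.polar (⇑Q) u x)⁻¹ * QuadraticMap.polar (⇑Q) v x with ht
    have h6 : Q v = t * t * Q u := by
      rw [h4, QuadraticMap.map_smul, smul_eq_mul]
    rw [← huv] at h6
    have h7 : t * t = 1 := by
      have : (t * t - 1) * Q u = 0 := by rw [sub_mul, ← h6, one_mul, sub_self]
      rcases mul_eq_zero.mp this with h | h
      · exact sub_eq_zero.mp h
      · exact absurd h hu
    rcases mul_self_eq_one_iff.mp h7 with h | h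
    · apply h1
      rw [h4, h, one_smul]
    · apply h2
      rw [h4, h, neg_one_smul]
  · intro h0
    show _ = _
    apply Matrix.toLin'.injective
    apply LinearMap.ext
    intro x
    have := key x
    rw [h0, mul_zero, zero_smul, sub_eq_zero] at this
    simpa using this

end Cfsg.Agent.S5358
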