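import Cfsg.Statements.S5360
import Mathlib
import Cfsg.Agent.Helper4.ReflF3D
import Cfsg.Agent.Helper4.ThreeTransPrimD
import Cfsg.Agent.S5352
import Cfsg.Agent.S5353

set_option autoImplicit false
open scoped MatrixGroups
open Cfsg

namespace Cfsg.Agent.S5360

/-- Let Q be a non-degenerate quadratic form on the n-dimensional coordinate space over the field with three elements, n ≥ 5, c a non-zero scalar, and R the subgroup of the isometry group generated by the reflections of norm c. Then the commutator subgroup of R is quasisimple of index at most 2, the generalized Fitting subgroup of R is the product of the centre and the commutator subgroup, and R acts primitively by conjugation on its reflections of norm c. -/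
theorem result (n : ℕ) (hn : 5 ≤ n) (Q : QuadraticForm (ZMod 3) (Fin n → ZMod 3)) (hQ : (QuadraticMap.polarBilin Q).Nondegenerate) (c : ZMod 3) (hc : c ≠ 0) : Cfsg.IsQuasisimple (commutator ↥(Cfsg.reflectionSubgroup (⇑Q) c)) ∧ (commutator ↥(Cfsg.reflectionSubgroup (⇑Q) c)).index ≤ 2 ∧ Cfsg.generalizedFittingSubgroup ↥(Cfsg.reflectionSubgroup (⇑Q) c) = Subgroup.center ↥(Cfsg.reflectionSubgroup (⇑Q) c) ⊔ commutator ↥(Cfsg.reflectionSubgroup (⇑Q) c) ∧ Cfsg.IsPrimitiveUnderConj {g : ↥(Cfsg.reflectionSubgroup (⇑Q) c) | (g : ↥(Cfsg.isometryGroup (ZMod 3) (⇑Q))) ∈ Cfsg.reflectionsOfNorm (⇑Q) c} := by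
  classical
  have hDc : Cfsg.IsThreeTranspositionClass (Cfsg.Agent.Helper4.ReflF3.reflClass Q c) :=
    Cfsg.Agent.Helper4.ReflF3.main Q hc hn hQ
  have hD2 := Cfsg.Agent.Helper4.ReflF3.exists_two Q hc hn hQ
  have hV := Cfsg.Agent.Helper4.ReflF3.V_trivial Q hc hn hQ
  have hW := Cfsg.Agent.Helper4.ReflF3.W_trivial Q hc hn hQ
  have hconn := Cfsg.Agent.Helper4.ReflF3.commutingGraph_connected Q hc hn hQ
  have hgen : Subgroup.closure (Cfsg.Agent.Helper4.ReflF3.reflClass Q c) = ⊤ := hDc.2.2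
  have hmemD : ∀ (g d : ↥(Cfsg.reflectionSubgroup (⇑Q) c)),
      d ∈ Cfsg.Agent.Helper4.ReflF3.reflClass Q c →
      g * d * g⁻¹ ∈ Cfsg.Agent.Helper4.ReflF3.reflClass Q c := by
    intro g d hd
    obtain ⟨-, ⟨d₀, hd₀, hDeq⟩, -⟩ := hDc
    have hmem : ∀ x, x ∈ Cfsg.Agent.Helper4.ReflF3.reflClass Q c ↔ IsConj d₀ x :=
      fun x => by rw [hDeq]; rfl
    rw [hmem] at hd ⊢
    exact hd.trans (isConj_iff.mpr ⟨g, rfl⟩)
  have h2 : Cfsg.pCore 2 ↥(Cfsg.reflectionSubgroup (⇑Q) c) ≤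
      Subgroup.center ↥(Cfsg.reflectionSubgroup (⇑Q) c) := by
    apply Cfsg.Agent.Helper4.ThreeTransPrim.le_center_of_forall_conj hgen
    intro g hg d hd
    have h1 := (Cfsg.Agent.S5349.result hDc hD2 hd).2
    have h4 : g * d * g⁻¹ ∈ {v : ↥(Cfsg.reflectionSubgroup (⇑Q) c) |
        ∃ g ∈ Cfsg.pCore 2 ↥(Cfsg.reflectionSubgroup (⇑Q) c), v = g * d * g⁻¹} := ⟨g, hg, rfl⟩
    rw [← h1] at h4
    exact hV _ h4.1 d hd h4.2
  have h3 : Cfsg.pCore 3 ↥(Cfsg.reflectionSubgroup (⇑Q) c) ≤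
      Subgroup.center ↥(Cfsg.reflectionSubgroup (⇑Q) c) := by
    apply Cfsg.Agent.Helper4.ThreeTransPrim.le_center_of_forall_conj hgen
    intro g hg d hd
    have h1 := (Cfsg.Agent.S5350.result hDc hD2 hd).2
    have h4 : g * d * g⁻¹ ∈ {w : ↥(Cfsg.reflectionSubgroup (⇑Q) c) |
        ∃ g ∈ Cfsg.pCore 3 ↥(Cfsg.reflectionSubgroup (⇑Q) c), w = g * d * g⁻¹} := ⟨g, hg, rfl⟩
    rw [← h1] at h4
    exact (hW d hd _ h4.1 h4.2).symm
  obtain ⟨L, hLn, hL, hF, -⟩ := Cfsg.Agent.S5352.result hDc hD2 h2 h3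
  haveI := hLn
  have h53 := Cfsg.Agent.S5353.result hDc hD2 h2 h3 L hL hF
  have hidx := h53.2 hconn
  have hprim := h53.1 hidx
  have hLc : Cfsg.IsComponent L := ⟨hLn.isSubnormal, hL⟩
  have hperf : ⁅L, L⁆ = L := Cfsg.Agent.Helper7.IsComponent.commutator_eq hLc
  have hcomm : commutator ↥(Cfsg.reflectionSubgroup (⇑Q) c) = L := by
    apply le_antisymm
    · exact Cfsg.Agent.Helper4.ThreeTransPrim.commutator_le_of_index_le_two hidx
    · rw [← hperf, commutator_def]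
      exact Subgroup.commutator_mono le_top le_top
  rw [hcomm]
  refine ⟨hL, hidx, ?_, hprim⟩
  rw [sup_comm]
  exact hF

end Cfsg.Agent.S5360
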