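import Cfsg.Statements.S5361
import Mathlib
import Cfsg.Agent.Helper4.ThreeTransPrimD
import Cfsg.Agent.S5352
import Cfsg.Agent.S5353

set_option autoImplicit false
open Cfsg

namespace Cfsg.Agent.S5361

/-- Let D be a conjugacy class of 3-transpositions generating the finite group G, and suppose the centre of G is trivial and some two different members of D commute. Then the following are equivalent: (1) the commutator subgroup of G is simple (possibly of prime order); (2) G acts primitively on D by conjugation; (3) the largest normal 2-subgroup and the largest normal 3-subgroup of G are trivial and the commuting graph of D is connected. -/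
theorem result {G : Type*} [Group G] [Finite G] {D : Set G} (hD : Cfsg.IsThreeTranspositionClass D) (hZ : Subgroup.center G = ⊥) (hw : ∃ a ∈ D, ∃ b ∈ D, a ≠ b ∧ Commute a b) : (IsSimpleGroup (commutator G) ↔ Cfsg.IsPrimitiveUnderConj D) ∧ (Cfsg.IsPrimitiveUnderConj D ↔ (Cfsg.pCore 2 G = ⊥ ∧ Cfsg.pCore 3 G = ⊥ ∧ (Cfsg.commutingGraph D).Connected)) := by
  classical
  have hDc := hD
  have hD2 : ∃ a ∈ D, ∃ b ∈ D, a ≠ b := by
    obtain ⟨a, ha, b, hb, hab, -⟩ := hw
    exact ⟨a, ha, b, hb, hab⟩
  obtain ⟨hset, ⟨d₀, hd₀, hDeq⟩, hgen⟩ := hD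
  have hmemD : ∀ x, x ∈ D ↔ IsConj d₀ x := fun x => by rw [hDeq]; rfl
  have hconj : ∀ g : G, ∀ x ∈ D, g * x * g⁻¹ ∈ D := by
    intro g x hx
    rw [hmemD] at hx ⊢
    exact hx.trans (isConj_iff.mpr ⟨g, rfl⟩)
  have hconjd : ∀ d ∈ D, ∀ e ∈ D, ∃ g : G, g * d * g⁻¹ = e := by
    intro d hd e he
    rw [hmemD] at he hd
    exact isConj_iff.mp (hd.symm.trans he)
  -- primitive implies (3)
  have hP3 : Cfsg.IsPrimitiveUnderConj D →
      (Cfsg.pCore 2 G = ⊥ ∧ Cfsg.pCore 3 G = ⊥ ∧ (Cfsg.commutingGraph D).Connected) := by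
    intro hprim
    refine ⟨?_, ?_, Cfsg.Agent.Helper4.ThreeTransPrim.connected_of_primitive hconj hw hprim⟩
    · have := Cfsg.Agent.Helper4.ThreeTransPrim.pCore_two_le_center_of_primitive hDc hD2 hprim
      rw [hZ] at this
      exact le_bot_iff.mp this
    · have := Cfsg.Agent.Helper4.ThreeTransPrim.pCore_three_le_center_of_primitive hDc hw hprim
      rw [hZ] at this
      exact le_bot_iff.mp this
  -- structure when the cores are trivial
  have hkey : Cfsg.pCore 2 G = ⊥ → Cfsg.pCore 3 G = ⊥ → ∃ L : Subgroup G, L.Normal ∧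
      Cfsg.IsQuasisimple L ∧ Cfsg.generalizedFittingSubgroup G = L ⊔ Subgroup.center G ∧
      Cfsg.fittingSubgroup G = Subgroup.center G ∧
      (L.index ≤ 2 → Cfsg.IsPrimitiveUnderConj D) ∧
      ((Cfsg.commutingGraph D).Connected → L.index ≤ 2) := by
    intro h2 h3
    have h2' : Cfsg.pCore 2 G ≤ Subgroup.center G := by rw [h2]; exact bot_le
    have h3' : Cfsg.pCore 3 G ≤ Subgroup.center G := by rw [h3]; exact bot_le
    obtain ⟨L, hLn, hL, hF, -⟩ := Cfsg.Agent.S5352.result hDc hD2 h2' h3'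
    haveI := hLn
    have h := Cfsg.Agent.S5353.result hDc hD2 h2' h3' L hL hF
    exact ⟨L, hLn, hL, hF,
      Cfsg.Agent.Helper4.ThreeTransPrim.fitting_eq_center hDc hD2 h2' h3', h.1, h.2⟩
  have h3P : (Cfsg.pCore 2 G = ⊥ ∧ Cfsg.pCore 3 G = ⊥ ∧ (Cfsg.commutingGraph D).Connected) →
      Cfsg.IsPrimitiveUnderConj D := by
    rintro ⟨h2, h3, hconn⟩
    obtain ⟨L, hLn, hL, hF, hFit, hA, hB⟩ := hkey h2 h3
    exact hA (hB hconn)
  obtain ⟨d, hd, -⟩ := hD2
  have hSidx : (commutator G).index ≤ 2 :=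
    Cfsg.Agent.Helper4.ThreeTransPrim.commutator_index_le_two hset hgen hconjd hd
  refine ⟨⟨?_, ?_⟩, ⟨hP3, h3P⟩⟩
  · -- simple commutator subgroup implies primitive
    intro hS
    have hnc := Cfsg.Agent.Helper4.ThreeTransPrim.not_comm_of_simple_commutator hset hconjd hZ hw hS
    haveI : Fact (Nat.Prime 2) := ⟨Nat.prime_two⟩
    haveI : Fact (Nat.Prime 3) := ⟨Nat.prime_three⟩
    have h2 := Cfsg.Agent.Helper4.ThreeTransPrim.pCore_eq_bot_of_simple_commutator hZ hS hnc 2
    have h3 := Cfsg.Agent.Helper4.ThreeTransPrim.pCore_eq_bot_of_simple_commutator hZ hS hnc 3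
    obtain ⟨L, hLn, hL, hF, hFit, hA, hB⟩ := hkey h2 h3
    haveI := hLn
    haveI := hS
    have hLc : Cfsg.IsComponent L := ⟨hLn.isSubnormal, hL⟩
    have hperf : ⁅L, L⁆ = L := Cfsg.Agent.Helper7.IsComponent.commutator_eq hLc
    have hLS : L ≤ commutator G := by
      rw [← hperf, commutator_def]
      exact Subgroup.commutator_mono le_top le_top
    have hnorm : (L.subgroupOf (commutator G)).Normal := inferInstance
    apply hA
    rcases hnorm.eq_bot_or_eq_top with h | h
    · exfalso
      rw [Subgroup.subgroupOf_eq_bot, disjoint_iff, inf_eq_left.mpr hLS] at h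
      exact Cfsg.Agent.Helper7.IsComponent.ne_bot hLc h
    · rw [Subgroup.subgroupOf_eq_top] at h
      have h0 : (commutator G).index ≠ 0 := Subgroup.index_ne_zero_of_finite
      exact (Nat.le_of_dvd (Nat.pos_of_ne_zero h0) (Subgroup.index_dvd_of_le h)).trans hSidx
  · -- primitive implies simple commutator subgroup
    intro hprim
    obtain ⟨h2, h3, hconn⟩ := hP3 hprim
    obtain ⟨L, hLn, hL, hF, hFit, hA, hB⟩ := hkey h2 h3
    haveI := hLn
    have hidx := hB hconn
    have hLc : Cfsg.IsComponent L := ⟨hLn.isSubnormal, hL⟩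
    have hperf : ⁅L, L⁆ = L := Cfsg.Agent.Helper7.IsComponent.commutator_eq hLc
    have hcomm : commutator G = L := by
      apply le_antisymm
      · exact Cfsg.Agent.Helper4.ThreeTransPrim.commutator_le_of_index_le_two hidx
      · rw [← hperf, commutator_def]
        exact Subgroup.commutator_mono le_top le_top
    rw [hcomm]
    apply Cfsg.Agent.Helper4.ThreeTransPrim.isSimpleGroup_of_center_eq_bot hL
    have hC := Cfsg.Agent.Helper4.ThreeTransPrim.centralizer_le_center hF hFit
    rw [hZ] at hC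
    rw [eq_bot_iff]
    intro z hz
    rw [Subgroup.mem_bot]
    have hz' : (z : G) ∈ Subgroup.centralizer (L : Set G) := by
      rw [Subgroup.mem_centralizer_iff]
      intro y hy
      rw [Subgroup.mem_center_iff] at hz
      exact congrArg Subtype.val (hz ⟨y, hy⟩)
    have := hC hz'
    rw [Subgroup.mem_bot] at this
    exact Subtype.ext this

end Cfsg.Agent.S5361
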