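import Cfsg.Statements.S5363


set_option autoImplicit false
open Cfsg

namespace Cfsg.Agent.S5363

theorem sq_of_order_two {G : Type*} [Group G] {d : G} (h : orderOf d = 2) : d * d = 1 := by
  have := pow_orderOf_eq_one d
  rwa [h, sq] at this

theorem inv_of_order_two {G : Type*} [Group G] {d : G} (h : orderOf d = 2) : d⁻¹ = d :=
  inv_eq_of_mul_eq_one_right (sq_of_order_two h)

/-- for involutions `a`, `y` with `(a y)` of odd order `2k+1`, `(y a)^(k+1)` conjugates `a` to `y` -/
theorem conj_of_odd {G : Type*} [Group G] {a y : G} (ha : a * a = 1) (hy : y * y = 1) (k : ℕ)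
    (hk : (y * a) ^ (2 * k + 1) = 1) :
    (y * a) ^ (k + 1) * a * ((y * a) ^ (k + 1))⁻¹ = y := by
  have hai : a⁻¹ = a := inv_eq_of_mul_eq_one_right ha
  have hyi : y⁻¹ = y := inv_eq_of_mul_eq_one_right hy
  have hs : SemiconjBy a (y * a)⁻¹ (y * a) := by
    show a * (y * a)⁻¹ = y * a * a
    rw [mul_inv_rev, hai, hyi, ← mul_assoc, ha, one_mul, mul_assoc, ha, mul_one]
  have h1 := hs.pow_right (k + 1)
  have h2 : a * ((y * a) ^ (k + 1))⁻¹ = (y * a) ^ (k + 1) * a := by
    rw [← inv_pow]
    exact h1
  rw [mul_assoc, h2, ← mul_assoc, ← pow_add]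
  have e : k + 1 + (k + 1) = (2 * k + 1) + 1 := by ring
  rw [e, pow_succ, hk, one_mul, mul_assoc, ha, mul_one]


/-- Let D be a conjugation-invariant set of involutions of a finite group G. Then every product of two members of D has odd order or order 2 if and only if, for every a in D and every b in D different from a and commuting with a, the members of D commuting with a b are exactly those commuting with both a and b. -/
theorem result {G : Type*} [Group G] [Finite G] {D : Set G} (hinv : ∀ d ∈ D, orderOf d = 2) (hconj : ∀ g : G, ∀ d ∈ D, g * d * g⁻¹ ∈ D) : (∀ a ∈ D, ∀ b ∈ D, Odd (orderOf (a * b)) ∨ orderOf (a * b) = 2) ↔ ∀ a ∈ D, ∀ b ∈ D, b ≠ a → Commute a b → {y : G | y ∈ D ∧ Commute (a * b) y} = {y : G | y ∈ D ∧ Commute a y} ∩ {y : G | y ∈ D ∧ Commute b y} := by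
  have hsq : ∀ d ∈ D, d * d = 1 := fun d hd => sq_of_order_two (hinv d hd)
  have hne1 : ∀ d ∈ D, d ≠ 1 := by
    intro d hd h
    have := hinv d hd
    rw [h, orderOf_one] at this
    omega
  constructor
  · intro hA a ha b hb hne hab
    have ha2 := hsq a ha
    have hb2 := hsq b hb
    ext y
    simp only [Set.mem_ofPred_eq, Set.mem_inter_iff]
    constructor
    · rintro ⟨hy, hzy⟩
      have hy2 := hsq y hy
      suffices h : Commute a y by
        refine ⟨⟨hy, h⟩, hy, ?_⟩
        have e : b = a * (a * b) := by rw [← mul_assoc, ha2, one_mul]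
        rw [e]
        exact h.mul_left hzy
      -- z = a * b is an involution commuting with a
      have hza : Commute (a * b) a := (Commute.refl a).mul_left hab.symm
      have hz2 : (a * b) ^ 2 = 1 := by rw [hab.mul_pow, sq, sq, ha2, hb2, one_mul]
      have hz1 : a * b ≠ 1 := by
        intro h
        apply hne
        have : b = a⁻¹ := (inv_eq_of_mul_eq_one_right h).symm
        rw [this, inv_of_order_two (hinv a ha)]
      have : Fact (Nat.Prime 2) := ⟨Nat.prime_two⟩
      have hzord : orderOf (a * b) = 2 := orderOf_eq_prime hz2 hz1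
      rcases hA a ha y hy with hodd | h2
      · by_contra hcomm
        obtain ⟨k, hk⟩ := hodd
        have hrk : (y * a) ^ (2 * k + 1) = 1 := by
          have e : y * a = a * (a * y) * a⁻¹ := by
            rw [inv_of_order_two (hinv a ha), ← mul_assoc a a y, ha2, one_mul]
          have hp : (a * y) ^ (2 * k + 1) = 1 := by
            rw [← hk]
            exact pow_orderOf_eq_one _
          rw [e, conj_pow, hp, mul_one, mul_inv_cancel]
        have hg := conj_of_odd ha2 hy2 k hrk
        have hzg : Commute (a * b) ((y * a) ^ (k + 1)) := (hzy.mul_right hza).pow_right (k + 1)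
        have hyz : y * (a * b) ∈ D := by
          have h1 := hconj ((y * a) ^ (k + 1)) b hb
          have e : (y * a) ^ (k + 1) * b * ((y * a) ^ (k + 1))⁻¹ = y * (a * b) := by
            have eb : b = a * (a * b) := by rw [← mul_assoc, ha2, one_mul]
            calc (y * a) ^ (k + 1) * b * ((y * a) ^ (k + 1))⁻¹
                = (y * a) ^ (k + 1) * (a * (a * b)) * ((y * a) ^ (k + 1))⁻¹ := by rw [← eb]
              _ = (y * a) ^ (k + 1) * a * ((a * b) * ((y * a) ^ (k + 1))⁻¹) := by
                  simp only [mul_assoc]
              _ = (y * a) ^ (k + 1) * a * (((y * a) ^ (k + 1))⁻¹ * (a * b)) := by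
                  rw [hzg.inv_right.eq]
              _ = ((y * a) ^ (k + 1) * a * ((y * a) ^ (k + 1))⁻¹) * (a * b) := by
                  simp only [mul_assoc]
              _ = y * (a * b) := by rw [hg]
          rwa [e] at h1
        have hc : Commute (a * y) (a * b) := hza.symm.mul_left hzy.symm
        have hord : orderOf (a * (y * (a * b))) = orderOf (a * y) * 2 := by
          rw [← mul_assoc, hc.orderOf_mul_eq_mul_orderOf_of_coprime, hzord]
          rw [hzord, hk]
          exact (Nat.coprime_mul_left_add_left 1 2 k).mpr (Nat.coprime_one_left 2)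
        rcases hA a ha _ hyz with h | h
        · rw [hord] at h
          exact (Nat.not_odd_iff_even.mpr (even_two.mul_left _)) h
        · rw [hord] at h
          have h1 : orderOf (a * y) = 1 := by omega
          rw [orderOf_eq_one_iff] at h1
          have : y = a⁻¹ := (inv_eq_of_mul_eq_one_right h1).symm
          rw [this, inv_of_order_two (hinv a ha)] at hcomm
          exact hcomm (Commute.refl a)
      · have h3 : (a * y) * (a * y) = 1 := sq_of_order_two h2
        show a * y = y * a
        have h4 : a * y = (a * y)⁻¹ := (inv_eq_of_mul_eq_one_right h3).symm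
        rw [h4, mul_inv_rev, inv_of_order_two (hinv a ha), inv_of_order_two (hinv y hy)]
    · rintro ⟨⟨hy, hay⟩, -, hby⟩
      exact ⟨hy, hay.mul_left hby⟩
  · intro hB a ha b hb
    have ha2 := hsq a ha
    have hb2 := hsq b hb
    have hai := inv_of_order_two (hinv a ha)
    have hbi := inv_of_order_two (hinv b hb)
    rcases Nat.even_or_odd (orderOf (a * b)) with he | ho
    · right
      obtain ⟨m, hm⟩ := he
      have hn0 : 0 < orderOf (a * b) := orderOf_pos _
      have hm0 : 0 < m := by omega
      have hw2 : (a * b) ^ m * (a * b) ^ m = 1 := by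
        rw [← pow_add, ← hm]
        exact pow_orderOf_eq_one _
      have hw1 : (a * b) ^ m ≠ 1 := by
        intro h
        have h1 := orderOf_dvd_of_pow_eq_one h
        have h2 := Nat.le_of_dvd hm0 h1
        omega
      have hwi : ((a * b) ^ m)⁻¹ = (a * b) ^ m := inv_eq_of_mul_eq_one_right hw2
      have hsa : SemiconjBy a (a * b) (a * b)⁻¹ := by
        show a * (a * b) = (a * b)⁻¹ * a
        rw [mul_inv_rev, hai, hbi, ← mul_assoc, ha2, one_mul, mul_assoc, ha2, mul_one]
      have hsb : SemiconjBy b (a * b) (a * b)⁻¹ := by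
        show b * (a * b) = (a * b)⁻¹ * b
        rw [mul_inv_rev, hai, hbi, mul_assoc]
      have hwa : Commute a ((a * b) ^ m) := by
        have := hsa.pow_right m
        rw [inv_pow, hwi] at this
        exact this
      have hwb : Commute b ((a * b) ^ m) := by
        have := hsb.pow_right m
        rw [inv_pow, hwi] at this
        exact this
      have hawD : a * (a * b) ^ m ∈ D := by
        rcases Nat.even_or_odd m with ⟨j, hj⟩ | ⟨j, hj⟩
        · have h1 := hconj (((a * b)⁻¹) ^ j) a ha
          have h2 : ((a * b)⁻¹) ^ j * a = a * (a * b) ^ j := (hsa.pow_right j).eq.symm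
          have e : ((a * b)⁻¹) ^ j * a * (((a * b)⁻¹) ^ j)⁻¹ = a * (a * b) ^ m := by
            rw [h2, inv_pow, inv_inv, mul_assoc, ← pow_add, ← hj]
          rwa [e] at h1
        · have h1 := hconj (((a * b)⁻¹) ^ j) b hb
          have h2 : ((a * b)⁻¹) ^ j * a = a * (a * b) ^ j := (hsa.pow_right j).eq.symm
          have eb : b = a * (a * b) := by rw [← mul_assoc, ha2, one_mul]
          have e : ((a * b)⁻¹) ^ j * b * (((a * b)⁻¹) ^ j)⁻¹ = a * (a * b) ^ m := by
            rw [inv_pow, inv_inv]
            calc ((a * b) ^ j)⁻¹ * b * (a * b) ^ j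
                = ((a * b) ^ j)⁻¹ * (a * (a * b)) * (a * b) ^ j := by rw [← eb]
              _ = (((a * b) ^ j)⁻¹ * a) * ((a * b) * (a * b) ^ j) := by simp only [mul_assoc]
              _ = (a * (a * b) ^ j) * ((a * b) * (a * b) ^ j) := by rw [← inv_pow, h2]
              _ = a * ((a * b) ^ j * (a * b) ^ 1 * (a * b) ^ j) := by
                  rw [pow_one]; simp only [mul_assoc]
              _ = a * (a * b) ^ m := by rw [← pow_add, ← pow_add, hj]; congr 2; ring
          rwa [e] at h1
      have hne : a * (a * b) ^ m ≠ a := by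
        intro h
        exact hw1 (mul_eq_left.mp h)
      have hcomm : Commute a (a * (a * b) ^ m) := (Commute.refl a).mul_right hwa
      have hset := hB a ha _ hawD hne hcomm
      have hbL : b ∈ {y : G | y ∈ D ∧ Commute (a * (a * (a * b) ^ m)) y} := by
        refine ⟨hb, ?_⟩
        rw [← mul_assoc, ha2, one_mul]
        exact hwb.symm
      rw [hset] at hbL
      have hab : Commute a b := hbL.1.2
      have h2 : (a * b) ^ 2 = 1 := by rw [hab.mul_pow, sq, sq, ha2, hb2, one_mul]
      have h3 := orderOf_dvd_of_pow_eq_one h2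
      have h4 := Nat.le_of_dvd (by norm_num) h3
      omega
    · left
      exact ho

end Cfsg.Agent.S5363
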