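import Cfsg.Statements.S5364
-- import your own Cfsg.Agent.* helpers here

set_option autoImplicit false
open Cfsg

namespace Cfsg.Agent.S5364

/-- Let D be a conjugation-invariant set of involutions of a finite group G and t an involution in the centre of G such that d t does not lie in D for any d in D. If the images of the members of D in G modulo the subgroup generated by t satisfy the 3-transposition order conditions (each has order 2 and any two have product of order at most 3), then so do the members of D. -/
theorem result {G : Type*} [Group G] [Finite G] {D : Set G} (hinv : ∀ d ∈ D, orderOf d = 2) (hconj : ∀ g : G, ∀ d ∈ D, g * d * g⁻¹ ∈ D) (t : G) (ht : orderOf t = 2) (htZ : t ∈ Subgroup.center G) (hDt : ∀ d ∈ D, d * t ∉ D) [(Subgroup.zpowers t).Normal] (himg : Cfsg.IsThreeTranspositionSet ((QuotientGroup.mk : G → G ⧸ Subgroup.zpowers t) '' D)) : Cfsg.IsThreeTranspositionSet D := by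
  refine ⟨hinv, ?_⟩
  intro d hd e he
  have hd2 : d * d = 1 := by
    have := pow_orderOf_eq_one d
    rw [hinv d hd, pow_two] at this
    exact this
  have he2 : e * e = 1 := by
    have := pow_orderOf_eq_one e
    rw [hinv e he, pow_two] at this
    exact this
  have ht2 : t * t = 1 := by
    have := pow_orderOf_eq_one t
    rw [ht, pow_two] at this
    exact this
  have hdinv : d⁻¹ = d := inv_eq_of_mul_eq_one_right hd2
  have heinv : e⁻¹ = e := inv_eq_of_mul_eq_one_right he2
  have htc : ∀ x : G, x * t = t * x := fun x => (Subgroup.mem_center_iff.mp htZ x)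
  -- elements of zpowers t
  have hz : ∀ x : G, x ∈ Subgroup.zpowers t → x = 1 ∨ x = t := by
    intro x hx
    obtain ⟨k, rfl⟩ := Subgroup.mem_zpowers_iff.mp hx
    rcases Int.even_or_odd k with ⟨m, rfl⟩ | ⟨m, rfl⟩
    · left
      rw [← two_mul, zpow_mul, zpow_two, ht2, one_zpow]
    · right
      rw [zpow_add, zpow_mul, zpow_two, ht2, one_zpow, one_mul, zpow_one]
  have hded : d * e * d ∈ D := by
    have := hconj d e he
    rwa [hdinv] at this
  have hede : e * d * e ∈ D := by
    have := hconj e d hd
    rwa [heinv] at this
  have hq := himg.2 _ ⟨d, hd, rfl⟩ _ ⟨e, he, rfl⟩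
  rcases hq with h | h
  · left
    have h1 : ((d * e) ^ 2 : G) ∈ Subgroup.zpowers t := by
      rw [← QuotientGroup.eq_one_iff]
      exact h
    rcases hz _ h1 with h2 | h2
    · exact h2
    · exfalso
      apply hDt e he
      have h3 : d * e * d = e * t := by
        have h4 : d * e * d * e = t := by
          rw [← h2, pow_two]; group
        calc d * e * d = (d * e * d * e) * e⁻¹ := by group
          _ = t * e := by rw [h4, heinv]
          _ = e * t := (htc e).symm
      rw [← h3]
      exact hded
  · right
    have h1 : ((d * e) ^ 3 : G) ∈ Subgroup.zpowers t := by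
      rw [← QuotientGroup.eq_one_iff]
      exact h
    rcases hz _ h1 with h2 | h2
    · exact h2
    · exfalso
      apply hDt (d * e * d) hded
      have h4 : (d * e * d) * (e * d * e) = t := by
        rw [← h2, pow_three]; group
      have h5 : (d * e * d) * (d * e * d) = 1 := by
        calc (d * e * d) * (d * e * d) = d * e * (d * d) * e * d := by group
          _ = 1 := by rw [hd2, mul_one, mul_assoc d e e, he2, mul_one, hd2]
      have h6 : d * e * d * t = e * d * e := by
        calc d * e * d * t = d * e * d * ((d * e * d) * (e * d * e)) := by rw [h4]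
          _ = ((d * e * d) * (d * e * d)) * (e * d * e) := by group
          _ = e * d * e := by rw [h5, one_mul]
      rw [h6]
      exact hede

end Cfsg.Agent.S5364
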