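import Cfsg.Statements.S5395
import Mathlib
import Cfsg.Agent.Helper9.Extraspecial

set_option autoImplicit false
open Cfsg

namespace Cfsg.Agent.S5395
open scoped Pointwise commutatorElement

theorem aux {E : Type*} [Group E] [Finite E] {H : Type*} [Group H] [Finite H]
    (hE : Cfsg.IsExtraspecial 2 E) (φ : E ≃* E)
    (hφ : ∀ x : E, φ x * x⁻¹ ∈ Subgroup.center E) (i : E →* H) (hi : Function.Injective i)
    (t : H) (hconj : ∀ x : E, t * i x * t⁻¹ = i (φ x)) :
    ∃ g : E, ∀ x : E, φ x = g * x * g⁻¹ := by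
  classical
  obtain ⟨⟨hP, hfrat, hcomm⟩, hZ2⟩ := hE
  have : Fact (Nat.Prime 2) := ⟨Nat.prime_two⟩
  let Q : Subgroup H := i.range
  have hZQ : (Subgroup.centralizer (Q : Set H) ⊓ Q : Subgroup H) = (Subgroup.center E).map i := by
    ext h
    constructor
    · intro hh
      obtain ⟨h1, h2⟩ := Subgroup.mem_inf.mp hh
      obtain ⟨y, rfl⟩ := h2
      refine ⟨y, ?_, rfl⟩
      change y ∈ Subgroup.center E
      rw [Subgroup.mem_center_iff]
      intro x
      apply hi
      rw [map_mul, map_mul]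
      exact h1 (i x) ⟨x, rfl⟩
    · rintro ⟨z, hz, rfl⟩
      refine Subgroup.mem_inf.mpr ⟨?_, ⟨z, rfl⟩⟩
      rintro _ ⟨x, rfl⟩
      rw [← map_mul, ← map_mul, (Subgroup.mem_center_iff.mp hz x)]
  have hcardZ : Nat.card (Subgroup.centralizer (Q : Set H) ⊓ Q : Subgroup H) = 2 := by
    rw [hZQ, Subgroup.card_map_of_injective hi, hZ2]
  have hQQ : ∀ a ∈ Q, ∀ b ∈ Q, ⁅a, b⁆ ∈ (Subgroup.centralizer (Q : Set H) ⊓ Q : Subgroup H) := by
    rintro _ ⟨x, rfl⟩ _ ⟨y, rfl⟩
    rw [hZQ, ← map_commutatorElement]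
    refine ⟨⁅x, y⁆, ?_, rfl⟩
    change ⁅x, y⁆ ∈ Subgroup.center E
    rw [← hcomm, commutator_def]
    exact Subgroup.commutator_mem_commutator (Subgroup.mem_top _) (Subgroup.mem_top _)
  -- automorphisms fix the centre pointwise
  have hfix : ∀ (z : E), z ∈ Subgroup.center E → φ z = z := by
    intro z hz
    by_cases hz1 : z = 1
    · rw [hz1, map_one]
    · have hψz : φ z ∈ Subgroup.center E := by
        rw [Subgroup.mem_center_iff]
        intro g
        have := Subgroup.mem_center_iff.mp hz (φ.symm g)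
        have h2 := congrArg φ this
        rw [map_mul, map_mul, MulEquiv.apply_symm_apply] at h2
        exact h2
      have hψz1 : φ z ≠ 1 := by
        intro h
        apply hz1
        have := congrArg φ.symm h
        rwa [MulEquiv.symm_apply_apply, map_one] at this
      exact Cfsg.Agent.Helper9.eq_of_card_eq_two hZ2 hψz hz hψz1 hz1
  have htZ : t ∈ Subgroup.centralizer
      ((Subgroup.centralizer (Q : Set H) ⊓ Q : Subgroup H) : Set H) := by
    rw [hZQ]
    rintro _ ⟨z, hz, rfl⟩
    have := hconj z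
    rw [hfix z hz] at this
    exact (mul_inv_eq_iff_eq_mul.mp this).symm
  have ht : ∀ q ∈ Q, ⁅t, q⁆ ∈
      (Subgroup.centralizer (Q : Set H) ⊓ Q : Subgroup H) := by
    rintro _ ⟨x, rfl⟩
    rw [hZQ, commutatorElement_def, hconj x, ← map_inv, ← map_mul]
    exact ⟨_, hφ x, rfl⟩
  have key := Cfsg.Agent.Helper9.mem_sup_centralizer_of_commutator_mem Q hcardZ hQQ
    t htZ ht
  have hmul : ((Q ⊔ Subgroup.centralizer (Q : Set H) : Subgroup H) : Set H) =
      (Q : Set H) * (Subgroup.centralizer (Q : Set H) : Set H) :=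
    Subgroup.coe_mul_of_right_le_normalizer_left Q _ (Subgroup.centralizer_le_normalizer _)
  have key' : t ∈ ((Q ⊔ Subgroup.centralizer (Q : Set H) : Subgroup H) : Set H) := key
  rw [hmul, Set.mem_mul] at key'
  obtain ⟨q, ⟨g, rfl⟩, c, hc, hqc⟩ := key'
  refine ⟨g, fun x => ?_⟩
  apply hi
  rw [← hconj x, ← hqc]
  have hcx : i x * c = c * i x := hc (i x) ⟨x, rfl⟩
  have : i g * c * i x * (i g * c)⁻¹ = i g * (c * i x) * c⁻¹ * (i g)⁻¹ := by group
  rw [this, ← hcx, map_mul, map_mul, map_inv]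
  group

/-- For a finite extraspecial 2-group E, an automorphism of E that induces the identity on E modulo its centre is inner (so these automorphisms form exactly the inner automorphism group, an elementary abelian 2-group of order |E|/2). -/
theorem result {E : Type*} [Group E] [Finite E] (hE : Cfsg.IsExtraspecial 2 E) (φ : E ≃* E) (hφ : ∀ x : E, φ x * x⁻¹ ∈ Subgroup.center E) : ∃ g : E, ∀ x : E, φ x = g * x * g⁻¹ := by
  have : Finite (E ⋊[MonoidHom.id (MulAut E)] MulAut E) :=
    Finite.of_equiv _ SemidirectProduct.equivProd.symm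
  refine aux hE φ hφ (SemidirectProduct.inl : E →* E ⋊[MonoidHom.id (MulAut E)] MulAut E)
    SemidirectProduct.inl_injective (SemidirectProduct.inr φ) ?_
  intro x
  rw [← map_inv]
  exact (SemidirectProduct.inl_aut φ x).symm

end Cfsg.Agent.S5395
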