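import Cfsg.Statements.S5426
import Cfsg.Agent.Helper27.LES6

set_option autoImplicit false
open Cfsg

namespace Cfsg.Agent.S5426

/-- Let Q be a large extraspecial 2-subgroup of the finite group G (extraspecial; centralizer equal to its centre; normal in the centralizer of its centre; normalizing no non-trivial subgroup of odd order) with centre generated by z, and let M be the normal closure of z in G. Then one of the following holds: Q is normal in G; or M is abelian and the generalized Fitting subgroup of G is its largest normal 2-subgroup; or M is the generalized Fitting subgroup of G and is a non-abelian simple group; or M is the generalized Fitting subgroup of G and is the direct product of a non-abelian simple subgroup L and its conjugate u L u⁻¹ by some u in Q (the two meet trivially and commute elementwise), with z = z₁ (u z₁ u⁻¹) for some z₁ in L whose centralizer in L is a Sylow 2-subgroup of L with Frattini subgroup inside the subgroup generated by z₁, and Q is not the largest normal 2-subgroup of the centralizer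 of z. -/
theorem result {G : Type*} [Group G] [Finite G] (Q : Subgroup G) (hQ : Cfsg.IsLargeExtraspecial Q) (z : G) (hz : ((Subgroup.center ↥Q).map Q.subtype) = Subgroup.zpowers z) (M : Subgroup G) (hM : M = Subgroup.normalClosure ({z} : Set G)) : Q.Normal ∨ (IsMulCommutative ↥M ∧ Cfsg.generalizedFittingSubgroup G = Cfsg.pCore 2 G) ∨ (M = Cfsg.generalizedFittingSubgroup G ∧ IsSimpleGroup ↥M ∧ ¬ IsMulCommutative ↥M) ∨ (M = Cfsg.generalizedFittingSubgroup G ∧ ∃ (L : Subgroup G) (u : G), u ∈ Q ∧ IsSimpleGroup ↥L ∧ ¬ IsMulCommutative ↥L ∧ L ⊓ (L).map (MulAut.conj u).toMonoidHom = ⊥ ∧ (∀ x ∈ L, ∀ y ∈ (L).map (MulAut.conj u).toMonoidHom, x * y = y * x) ∧ L ⊔ (L).map (MulAut.conj u).toMonoidHom = M ∧ ∃ z₁ ∈ L, z = z₁ * (u * z₁ * u⁻¹) ∧ (∃ R : Sylow 2 ↥L, (R : Subgroup ↥L) = (Subgroup.centralizer ({z₁} : Set G)).subgroupOf L ∧ (frattini ↥(R : Subgroup ↥L)).map ((L.subtype).comp (R : Subgroup ↥L).subtype) ≤ Subgroup.zpowers z₁) ∧ Q ≠ (Cfsg.pCore 2 ↥(Subgroup.centralizer ({z} : Set G))).map (Subgroup.centralizer ({z} : Set G)).subtype)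 := by
  classical
  have h : Cfsg.Agent.Helper27.LES.LQ Q z := Cfsg.Agent.Helper27.LES.LQ.of_large hQ hz
  by_cases hR : Cfsg.pCore 2 G = ⊥
  · have hF : Cfsg.fittingSubgroup G = ⊥ := by rw [h.fitting_eq, hR]
    obtain ⟨L, hL⟩ := h.exists_component hF
    have hM' : M = Cfsg.layer G := by rw [hM]; exact h.normalClosure_eq_layer hF hL
    have hFs : Cfsg.generalizedFittingSubgroup G = Cfsg.layer G := by
      unfold Cfsg.generalizedFittingSubgroup
      rw [hF, sup_bot_eq]
    by_cases h1 : ∀ q ∈ Q, L.map (Cfsg.Agent.Helper14.cj q) = L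
    · right; right; left
      have hML : M = L := by
        rw [hM', h.layer_eq_orb hL]
        apply le_antisymm
        · apply iSup_le
          intro q
          rw [h1 q q.2]
        · exact Cfsg.Agent.Helper27.LES.le_orb
      refine ⟨by rw [hFs, hM'], ?_, ?_⟩
      · rw [hML]; exact Cfsg.Agent.Helper27.LES.isSimpleGroup_of_component hF hL
      · rw [hML]; exact Cfsg.Agent.Helper7.IsQuasisimple.not_isMulCommutative hL.2
    · push Not at h1
      obtain ⟨u, hu, hLu⟩ := h1
      obtain ⟨z₁, hz₁, d, hd, hzd⟩ := h.exists_decomp hL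
      by_cases h2 : ∀ q ∈ Q, L.map (Cfsg.Agent.Helper14.cj q) = L ∨
          L.map (Cfsg.Agent.Helper14.cj q) = L.map (Cfsg.Agent.Helper14.cj u)
      · right; right; right
        have hoth := Cfsg.Agent.Helper27.LES.oth_eq hu hLu h2
        have hdeq := h.d_eq hF hL hz₁ hd hzd hu hLu h2
        refine ⟨by rw [hFs, hM'], L, u, hu,
          Cfsg.Agent.Helper27.LES.isSimpleGroup_of_component hF hL,
          Cfsg.Agent.Helper7.IsQuasisimple.not_isMulCommutative hL.2, ?_, ?_, ?_, z₁, hz₁, ?_, ?_, ?_⟩
        · rw [eq_bot_iff, ← Cfsg.Agent.Helper27.LES.comp_inf_centralizer hF hL]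
          apply inf_le_inf_left
          have := Cfsg.Agent.Helper27.LES.oth_le_centralizer (Q := Q) hL
          rw [hoth] at this
          exact this
        · intro x hx y hy
          exact Cfsg.Agent.Helper27.LES.comm_oth (Q := Q) hL hx (by rw [hoth]; exact hy)
        · rw [hM', h.layer_eq_orb hL, Cfsg.Agent.Helper27.LES.orb_eq_sup, hoth]
        · rw [hzd, hdeq]
        · obtain ⟨R, hRR⟩ := h.exists_sylow hF hL hz₁ hd hzd hu hLu h2
          exact ⟨R, hRR, h.frattini_le hF hL hz₁ hd hzd hu hLu h2 (R : Subgroup ↥L) hRR⟩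
        · exact h.ne_pCore hF hL hz₁ hd hzd hu hLu h2
      · exfalso
        push Not at h2
        obtain ⟨v, hv, hLv, huv⟩ := h2
        exact Cfsg.Agent.Helper27.LES.false_of_small hL hz₁
          (fun x hx hxz => h.small_of_three hF hL hz₁ hd hzd hu hv hLu hLv huv hx hxz)
  · right; left
    rw [hM]
    exact h.case_two_core hR

end Cfsg.Agent.S5426
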