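import Mathlib
import Cfsg.Statements.S5430
import Cfsg.Agent.Helper3.LargePair5
import Cfsg.Agent.S5431

set_option linter.style.haveILetI false

set_option autoImplicit false
open Cfsg

namespace Cfsg.Agent.S5430

open Cfsg.Agent.Helper3 Cfsg.Agent.Helper3.LargeES Cfsg.Agent.Helper3.LargePair

/-- Let Q be a large extraspecial 2-subgroup of the finite group G (extraspecial; centralizer equal to its centre; normal in the centralizer of its centre; normalizing no non-trivial subgroup of odd order) with centre generated by z, an involution, of width w ≥ 2 (order 2^(2w+1)); let g be an element outside the centralizer H of z with g z g⁻¹ in Q; write V for the subgroup generated by z and g z g⁻¹, X for the subgroup generated by Q and g Q g⁻¹, R for the subgroup generated by the centralizer of z in g Q g⁻¹ and the centralizer of g z g⁻¹ in Q, and E for the intersection of Q and g Q g⁻¹. Then R is the centralizer of V in X and is the largest normal 2-subgroup of X, and X/R is isomorphic to the symmetric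 group of degree 3; moreover the normalizer of V is the product of X and the centralizer of V in H, X is normal in it, and modulo R it is the direct product of X/R and of the centralizer of V in H modulo R. -/
theorem result {G : Type*} [Group G] [Finite G] (Q : Subgroup G) (hQ : Cfsg.IsLargeExtraspecial Q) (z : G) (hz : ((Subgroup.center ↥Q).map Q.subtype) = Subgroup.zpowers z) (hz2 : orderOf z = 2) (w : ℕ) (hw : 2 ≤ w) (hcard : Nat.card ↥Q = 2 ^ (2 * w + 1)) (g : G) (hgH : g ∉ Subgroup.centralizer ({z} : Set G)) (hgQ : g * z * g⁻¹ ∈ Q) (V X R E : Subgroup G) (hV : V = Subgroup.closure ({z, g * z * g⁻¹} : Set G)) (hX : X = Q ⊔ (Q).map (MulAut.conj g).toMonoidHom) (hR : R = ((Q).map (MulAut.conj g).toMonoidHom ⊓ Subgroup.centralizer ({z} : Set G)) ⊔ (Q ⊓ Subgroup.centralizer ({g * z * g⁻¹} : Set G))) (hE : E = Q ⊓ (Q).map (MulAut.conj g).toMonoidHom) : R = X ⊓ Subgroup.centralizer (V : Set G) ∧ R = (Cfsg.pCore 2 ↥X).map X.subtype ∧ (∃ h : (R.subgroupOf X).Normal, Nonempty (↥X ⧸ R.subgroupOf X ≃*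 Equiv.Perm (Fin 3))) ∧ Subgroup.normalizer (V : Set G) = X ⊔ (Subgroup.centralizer ({z} : Set G) ⊓ Subgroup.centralizer (V : Set G)) ∧ (∀ y ∈ Subgroup.normalizer (V : Set G), ∀ x ∈ X, y * x * y⁻¹ ∈ X) ∧ R ≤ Subgroup.centralizer ({z} : Set G) ⊓ Subgroup.centralizer (V : Set G) ∧ (∀ x ∈ X, ∀ c ∈ Subgroup.centralizer ({z} : Set G) ⊓ Subgroup.centralizer (V : Set G), x * c * x⁻¹ * c⁻¹ ∈ R) ∧ X ⊓ (Subgroup.centralizer ({z} : Set G) ⊓ Subgroup.centralizer (V : Set G)) = R := by
  have hp := Cfsg.Agent.S5431.pair_of Q hQ z hz hz2 g hgH hgQ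
  have h : PairG Q (Q.map (MulAut.conj g).toMonoidHom) z (g * z * g⁻¹) g :=
    { toPair := hp, ag := rfl, Pg := fun q hq => ⟨q, hq, rfl⟩ }
  subst hV hX hR hE
  have hCC : ∀ K : Subgroup G, K ⊓ (Subgroup.centralizer ({z} : Set G) ⊓
      Subgroup.centralizer ((Subgroup.closure ({z, g * z * g⁻¹} : Set G) : Subgroup G) : Set G)) =
      K ⊓ Subgroup.centralizer ((Subgroup.closure ({z, g * z * g⁻¹} : Set G) : Subgroup G) :
        Set G) := by
    intro K
    congr 1
    apply inf_eq_right.mpr
    intro c hc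
    exact Subgroup.mem_centralizer_singleton_iff.mpr (hp.mem_centralizer_V.mp hc).1
  refine ⟨h.X_inf_CV.symm, h.R_eq_pCore, h.quot_S3, hp.normalizer_V_eq, ?_, ?_, ?_, ?_⟩
  · intro y hy x hx
    exact hp.normalizer_V_conj_X hy hx
  · intro r hr
    have hc := hp.R_le_CV hr
    exact ⟨Subgroup.mem_centralizer_singleton_iff.mpr (hp.mem_centralizer_V.mp hc).1, hc⟩
  · rintro x hx c ⟨-, hc⟩
    obtain ⟨h1, h2⟩ := hp.mem_centralizer_V.mp hc
    exact hp.comm_X_cv_mem h1 h2 hx
  · rw [hCC]
    exact h.X_inf_CV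

end Cfsg.Agent.S5430
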