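import Mathlib
import Cfsg.Statements.S5433

set_option autoImplicit false
open Cfsg

namespace Cfsg.Agent.S5433

theorem result {G : Type*} [Group G] [Finite G] (Q : Subgroup G) (hQ : Cfsg.IsLargeExtraspecial Q) (L : Subgroup G) [L.Normal] (hQL : Q ≤ L) : L ⊔ Subgroup.normalizer (Q : Set G) = ⊤ := by
  have : Fact (Nat.Prime 2) := ⟨Nat.prime_two⟩
  obtain ⟨hES, hC, hN, _⟩ := hQ
  have hQp : IsPGroup 2 Q := hES.1.1
  have hZ2 : Nat.card (Subgroup.center ↥Q) = 2 := hES.2
  -- the generator z of Z(Q)
  obtain ⟨z, hzZ, hz1, hzall⟩ : ∃ z : G, z ∈ (Subgroup.center ↥Q).map Q.subtype ∧ z ≠ 1 ∧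
      ∀ w ∈ (Subgroup.center ↥Q).map Q.subtype, w = 1 ∨ w = z := by
    obtain ⟨x, y, hxy, huniv⟩ := Nat.card_eq_two_iff.mp hZ2
    have hall : ∀ w : Subgroup.center ↥Q, w = x ∨ w = y := by
      intro w
      have : w ∈ ({x, y} : Set (Subgroup.center ↥Q)) := by rw [huniv]; trivial
      simpa using this
    -- one of x, y is 1
    rcases hall 1 with h1 | h1
    · refine ⟨((y : ↥Q) : G), ⟨(y : ↥Q), y.2, rfl⟩, ?_, ?_⟩
      · intro hy
        apply hxy
        rw [← h1]
        ext
        exact hy.symm
      · rintro w ⟨w', hw', rfl⟩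
        rcases hall ⟨w', hw'⟩ with h | h
        · left
          rw [← h1] at h
          have := congrArg (fun t : Subgroup.center ↥Q => ((t : ↥Q) : G)) h
          simpa using this
        · right
          have := congrArg (fun t : Subgroup.center ↥Q => ((t : ↥Q) : G)) h
          simpa using this
    · refine ⟨((x : ↥Q) : G), ⟨(x : ↥Q), x.2, rfl⟩, ?_, ?_⟩
      · intro hx
        apply hxy
        rw [← h1]
        ext
        exact hx
      · rintro w ⟨w', hw', rfl⟩
        rcases hall ⟨w', hw'⟩ with h | h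
        · right
          have := congrArg (fun t : Subgroup.center ↥Q => ((t : ↥Q) : G)) h
          simpa using this
        · left
          rw [← h1] at h
          have := congrArg (fun t : Subgroup.center ↥Q => ((t : ↥Q) : G)) h
          simpa using this
  have hzQ : z ∈ Q := by
    obtain ⟨w, _, rfl⟩ := hzZ
    exact w.2
  -- Sylow 2-subgroup T of L containing Q
  have hQ'p : IsPGroup 2 (Q.subgroupOf L) :=
    hQp.of_equiv (Subgroup.subgroupOfEquivOfLe hQL).symm
  obtain ⟨T, hQT⟩ := hQ'p.exists_le_sylow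
  have hFr := Sylow.normalizer_sup_eq_top T
  set T' : Subgroup G := (T : Subgroup L).map L.subtype with hT'
  have hQT' : Q ≤ T' := by
    intro q hq
    refine ⟨⟨q, hQL hq⟩, hQT ?_, rfl⟩
    rw [Subgroup.mem_subgroupOf]
    exact hq
  have hT'p : IsPGroup 2 T' := T.isPGroup'.map _
  -- elements of T' central in T' are 1 or z
  have hcenT : ∀ t ∈ T', (∀ s ∈ T', s * t = t * s) → t = 1 ∨ t = z := by
    intro t _ hts
    apply hzall
    rw [← hC, Subgroup.mem_centralizer_iff]
    intro q hq
    exact hts q (hQT' hq)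
  -- z is central in T'
  have hzcen : ∀ s ∈ T', s * z = z * s := by
    have hnt : Nontrivial T' := ⟨⟨⟨z, hQT' hzQ⟩, 1, fun h => hz1 (congrArg Subtype.val h)⟩⟩
    have hfin : Finite T' := inferInstance
    have := hT'p.center_nontrivial
    obtain ⟨t, ht1⟩ := exists_ne (1 : Subgroup.center T')
    have htc : ∀ s ∈ T', s * ((t : T') : G) = ((t : T') : G) * s := by
      intro s hs
      have := Subgroup.mem_center_iff.mp t.2 ⟨s, hs⟩
      exact congrArg Subtype.val this
    rcases hcenT ((t : T') : G) (t : T').2 htc with h | h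
    · exfalso
      apply ht1
      ext
      simpa using h
    · rw [← h]; exact htc
  -- normalizer of T' inside normalizer of Q
  have hNT : Subgroup.normalizer (T' : Set G) ≤ Subgroup.normalizer (Q : Set G) := by
    intro n hn
    apply hN
    have hnz : n * z * n⁻¹ = z := by
      have h1 : n * z * n⁻¹ ∈ T' := (Subgroup.mem_normalizer_iff.mp hn z).mp (hQT' hzQ)
      have h2 : ∀ s ∈ T', s * (n * z * n⁻¹) = (n * z * n⁻¹) * s := by
        intro s hs
        have hs' : n⁻¹ * s * n ∈ T' := by
          have := (Subgroup.mem_normalizer_iff.mp (Subgroup.inv_mem _ hn) s).mp hs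
          simpa using this
        have h3 := hzcen _ hs'
        calc s * (n * z * n⁻¹) = n * ((n⁻¹ * s * n) * z) * n⁻¹ := by group
          _ = n * (z * (n⁻¹ * s * n)) * n⁻¹ := by rw [h3]
          _ = (n * z * n⁻¹) * s := by group
      rcases hcenT _ h1 h2 with h | h
      · exfalso
        apply hz1
        have : z = n⁻¹ * (n * z * n⁻¹) * n := by group
        rw [this, h]; group
      · exact h
    rw [Subgroup.mem_centralizer_iff]
    intro w hw
    rcases hzall w hw with h | h
    · rw [h, one_mul, mul_one]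
    · rw [h]
      calc z * n = (n * z * n⁻¹) * n := by rw [hnz]
        _ = n * z := by group
  rw [eq_top_iff, ← hFr]
  apply sup_le
  · exact le_trans hNT le_sup_right
  · exact le_sup_left

end Cfsg.Agent.S5433
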