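import Mathlib
import Cfsg.Statements.S5434
import Cfsg.Agent.S4416
import Cfsg.Agent.S5396
import Cfsg.Agent.Lead.Coprime3

set_option autoImplicit false
set_option linter.style.haveILetI false
open Cfsg

namespace Cfsg.Agent.S5434

open Cfsg.Agent.Helper3 Cfsg.Agent.Helper3.ES2
open scoped commutatorElement

variable {G : Type*} [Group G]

/-- Elementwise data of an extraspecial 2-subgroup `Q` of `G` with central involution `z`. -/
structure SubES2 (Q : Subgroup G) (z : G) : Prop where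
  mem : z ∈ Q
  ne_one : z ≠ 1
  central : ∀ q ∈ Q, q * z = z * q
  center_sub : ∀ q ∈ Q, (∀ r ∈ Q, q * r = r * q) → q = 1 ∨ q = z
  sq : ∀ q ∈ Q, q ^ 2 = 1 ∨ q ^ 2 = z
  comm : ∀ q ∈ Q, ∀ r ∈ Q, q * r = r * q ∨ q * r = r * q * z

theorem subES2_of_es2 {Q : Subgroup G} {zq : Q} (h : ES2 Q zq) : SubES2 Q (zq : G) := by
  refine ⟨zq.2, fun hh => h.ne_one (Subtype.ext hh), ?_, ?_, ?_, ?_⟩
  · intro q hq
    exact congrArg Subtype.val (h.central ⟨q, hq⟩)
  · intro q hq hc
    have := h.center_sub ⟨q, hq⟩ (fun r => Subtype.ext (hc r.1 r.2))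
    rcases this with h1 | h1
    · exact Or.inl (congrArg Subtype.val h1)
    · exact Or.inr (congrArg Subtype.val h1)
  · intro q hq
    rcases h.sq ⟨q, hq⟩ with h1 | h1
    · exact Or.inl (congrArg Subtype.val h1)
    · exact Or.inr (congrArg Subtype.val h1)
  · intro q hq r hr
    rcases h.comm ⟨q, hq⟩ ⟨r, hr⟩ with h1 | h1
    · exact Or.inl (congrArg Subtype.val h1)
    · exact Or.inr (congrArg Subtype.val h1)

/-- a subgroup `R ≤ Q` containing `z` whose "centre" is `{1, z}` and which is nonabelian is ES2 -/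
theorem es2_of_sub {Q R : Subgroup G} {z : G} (h : SubES2 Q z) (hRQ : R ≤ Q) (hzR : z ∈ R)
    (hcs : ∀ r ∈ R, (∀ s ∈ R, r * s = s * r) → r = 1 ∨ r = z)
    (hnab : ∃ r ∈ R, ∃ s ∈ R, r * s ≠ s * r) : ES2 R ⟨z, hzR⟩ := by
  refine ⟨fun hh => h.ne_one (congrArg Subtype.val hh),
    fun g => Subtype.ext (h.central g.1 (hRQ g.2)), ?_, ?_, ?_, ?_⟩
  · intro g hg
    rcases hcs g.1 g.2 (fun s hs => congrArg Subtype.val (hg ⟨s, hs⟩)) with h1 | h1
    · exact Or.inl (Subtype.ext h1)
    · exact Or.inr (Subtype.ext h1)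
  · intro g
    rcases h.sq g.1 (hRQ g.2) with h1 | h1
    · exact Or.inl (Subtype.ext (by simpa using h1))
    · exact Or.inr (Subtype.ext (by simpa using h1))
  · intro g k
    rcases h.comm g.1 (hRQ g.2) k.1 (hRQ k.2) with h1 | h1
    · exact Or.inl (Subtype.ext (by simpa using h1))
    · exact Or.inr (Subtype.ext (by simpa using h1))
  · obtain ⟨r, hr, s, hs, hrs⟩ := hnab
    exact ⟨⟨r, hr⟩, ⟨s, hs⟩, fun hh => hrs (congrArg Subtype.val hh)⟩

theorem SubES2.commutator_cases {Q : Subgroup G} {z : G} (h : SubES2 Q z) {q r : G} (hq : q ∈ Q)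
    (hr : r ∈ Q) : ⁅q, r⁆ = 1 ∨ ⁅q, r⁆ = z := by
  rw [commutatorElement_def]
  rcases h.comm q hq r hr with h1 | h1
  · left
    rw [h1]; group
  · right
    rw [h1]
    have hq' := h.central q⁻¹ (Q.inv_mem hq)
    have hr' := h.central r⁻¹ (Q.inv_mem hr)
    calc r * q * z * q⁻¹ * r⁻¹ = r * q * (z * q⁻¹) * r⁻¹ := by group
      _ = r * q * (q⁻¹ * z) * r⁻¹ := by rw [hq']
      _ = r * (z * r⁻¹) := by group
      _ = r * (r⁻¹ * z) := by rw [hr']
      _ = z := by group

theorem result {G : Type*} [Group G] [Finite G] (Q : Subgroup G) (hQ : Cfsg.IsLargeExtraspecial Q) (A : Subgroup G) (hA : A ≤ Subgroup.normalizer (Q : Set G)) (hAodd : Odd (Nat.card ↥A)) (hA1 : A ≠ ⊥) : (Q ⊓ Subgroup.centralizer (A : Set G)) ⊔ ⁅Q, A⁆ = Q ∧ (∀ x ∈ Q ⊓ Subgroup.centralizer (A : Set G), ∀ y ∈ ⁅Q, A⁆, x * y = y * x) ∧ Cfsg.IsExtraspecial 2 ↥⁅Q, A⁆ ∧ (Q ⊓ Subgroup.centralizer (A : Set G) = ((Subgroup.center ↥Q).map Q.subtype) ∨ Cfsg.IsExtraspecial 2 ↥(Q ⊓ Subgroup.centralizer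 (A : Set G))) := by
  haveI : Fact (Nat.Prime 2) := ⟨Nat.prime_two⟩
  obtain ⟨hex, hCQ, -, -⟩ := hQ
  obtain ⟨zq, hzq⟩ := Cfsg.Agent.S4416.exists_es2 Q hex
  have hs := subES2_of_es2 hzq
  set z : G := (zq : G) with hz
  have hzz : z * z = 1 := congrArg Subtype.val hzq.zz
  have hZs : ∀ g : G, g ∈ (Subgroup.center Q).map Q.subtype ↔ g = 1 ∨ g = z := by
    intro g
    constructor
    · rintro ⟨q, hq, rfl⟩
      have := hzq.center_sub q (fun r => (Subgroup.mem_center_iff.mp hq r).symm)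
      rcases this with h1 | h1
      · left; rw [h1]; rfl
      · right; rw [h1]; rfl
    · rintro (rfl | rfl)
      · exact one_mem _
      · exact ⟨zq, Subgroup.mem_center_iff.mpr (fun r => hzq.central r), rfl⟩
  have hQp : IsPGroup 2 Q := hex.1.1
  have hcop : (Nat.card A).Coprime (Nat.card Q) := by
    obtain ⟨k, hk⟩ := IsPGroup.iff_card.mp hQp
    rw [hk]
    exact Nat.Coprime.pow_right k (Nat.coprime_two_right.mpr hAodd)
  have hsolv : Group.IsSolvable A ∨ Group.IsSolvable Q := Or.inr (by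
    haveI : Group.IsNilpotent Q := hQp.isNilpotent
    infer_instance)
  have h1 := Cfsg.Agent.Lead.coprime_commutator_sup_centralizer A Q hA hcop hsolv
  have h2 := Cfsg.Agent.Lead.coprime_commutator_commutator A Q hA hcop hsolv
  have hRQ : ⁅Q, A⁆ ≤ Q := Cfsg.Agent.Lead.commutator_le_of_le_normalizer hA
  -- `A` centralizes `z`
  have hAz : ∀ a ∈ A, a * z = z * a := by
    intro a ha
    have hn := hA ha
    have hmem : a * z * a⁻¹ ∈ Q := (Subgroup.mem_normalizer_iff.mp hn z).mp hs.mem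
    have hcen : ∀ r ∈ Q, (a * z * a⁻¹) * r = r * (a * z * a⁻¹) := by
      intro r hr
      have hr' : a⁻¹ * r * a ∈ Q := by
        have := (Subgroup.mem_normalizer_iff.mp (Subgroup.inv_mem _ hn) r).mp hr
        simpa using this
      have := hs.central _ hr'
      calc a * z * a⁻¹ * r = a * (z * (a⁻¹ * r * a)) * a⁻¹ := by group
        _ = a * ((a⁻¹ * r * a) * z) * a⁻¹ := by rw [this]
        _ = r * (a * z * a⁻¹) := by group
    rcases hs.center_sub _ hmem hcen with h3 | h3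
    · exfalso
      apply hs.ne_one
      have : z = a⁻¹ * (a * z * a⁻¹) * a := by group
      rw [this, h3]; group
    · calc a * z = (a * z * a⁻¹) * a := by group
        _ = z * a := by rw [h3]
  have hzcentA : z ∈ Subgroup.centralizer (A : Set G) := by
    rw [Subgroup.mem_centralizer_iff]
    exact hAz
  -- three subgroups lemma
  have hRC : ⁅⁅Q, A⁆, Q ⊓ Subgroup.centralizer (A : Set G)⁆ = ⊥ := by
    apply Subgroup.commutator_commutator_eq_bot_of_rotate
    · have : ⁅A, Q ⊓ Subgroup.centralizer (A : Set G)⁆ = ⊥ := by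
        rw [Subgroup.commutator_eq_bot_iff_le_centralizer]
        intro a ha
        rw [Subgroup.mem_centralizer_iff]
        intro c hc
        exact (Subgroup.mem_centralizer_iff.mp hc.2 a ha).symm
      rw [this]
      exact Subgroup.commutator_bot_left _
    · rw [Subgroup.commutator_eq_bot_iff_le_centralizer, Subgroup.commutator_le]
      intro c hc q hq
      rcases hs.commutator_cases hc.1 hq with h3 | h3
      · rw [h3]; exact one_mem _
      · rw [h3]; exact hzcentA
  have hcommCR : ∀ x ∈ Q ⊓ Subgroup.centralizer (A : Set G), ∀ y ∈ ⁅Q, A⁆, x * y = y * x := by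
    intro x hx y hy
    have : ⁅y, x⁆ ∈ ⁅⁅Q, A⁆, Q ⊓ Subgroup.centralizer (A : Set G)⁆ :=
      Subgroup.commutator_mem_commutator hy hx
    rw [hRC, Subgroup.mem_bot, commutatorElement_eq_one_iff_mul_comm] at this
    exact this.symm
  -- commuting with both factors means central in `Q`
  have hboth : ∀ g : G, (∀ c ∈ Q ⊓ Subgroup.centralizer (A : Set G), g * c = c * g) →
      (∀ r ∈ ⁅Q, A⁆, g * r = r * g) → ∀ q ∈ Q, g * q = q * g := by
    intro g hgc hgr q hq
    have hle : ⁅Q, A⁆ ⊔ (Q ⊓ Subgroup.centralizer (A : Set G)) ≤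
        Subgroup.centralizer ({g} : Set G) := by
      apply sup_le
      · intro r hr
        rw [Subgroup.mem_centralizer_iff]
        intro k hk
        rw [Set.mem_singleton_iff] at hk
        subst hk
        exact hgr r hr
      · intro c hc
        rw [Subgroup.mem_centralizer_iff]
        intro k hk
        rw [Set.mem_singleton_iff] at hk
        subst hk
        exact hgc c hc
    rw [h1] at hle
    have := Subgroup.mem_centralizer_iff.mp (hle hq) g rfl
    exact this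
  have hcsR : ∀ r ∈ ⁅Q, A⁆, (∀ s ∈ ⁅Q, A⁆, r * s = s * r) → r = 1 ∨ r = z := by
    intro r hr hrs
    apply hs.center_sub r (hRQ hr)
    exact hboth r (fun c hc => (hcommCR c hc r hr).symm) hrs
  have hcsC : ∀ c ∈ Q ⊓ Subgroup.centralizer (A : Set G),
      (∀ s ∈ Q ⊓ Subgroup.centralizer (A : Set G), c * s = s * c) → c = 1 ∨ c = z := by
    intro c hc hcs
    apply hs.center_sub c hc.1
    exact hboth c hcs (fun r hr => hcommCR c hc r hr)
  -- `[Q, A]` is nonabelian
  have hnabR : ∃ r ∈ ⁅Q, A⁆, ∃ s ∈ ⁅Q, A⁆, r * s ≠ s * r := by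
    by_contra hcon
    push Not at hcon
    have hRZ : ∀ r ∈ ⁅Q, A⁆, r = 1 ∨ r = z := fun r hr => hcsR r hr (fun s hs' => hcon r hr s hs')
    have hRcent : ⁅Q, A⁆ ≤ Subgroup.centralizer (A : Set G) := by
      intro r hr
      rcases hRZ r hr with rfl | rfl
      · exact one_mem _
      · exact hzcentA
    have hbot : ⁅Q, A⁆ = ⊥ := by
      rw [← h2]
      exact Subgroup.commutator_eq_bot_iff_le_centralizer.mpr hRcent
    have hQA : Q ≤ Subgroup.centralizer (A : Set G) :=
      Subgroup.commutator_eq_bot_iff_le_centralizer.mp hbot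
    have hAQ : A ≤ Subgroup.centralizer (Q : Set G) := by
      intro a ha
      rw [Subgroup.mem_centralizer_iff]
      intro q hq
      exact (Subgroup.mem_centralizer_iff.mp (hQA hq) a ha).symm
    rw [hCQ] at hAQ
    apply hA1
    rw [eq_bot_iff]
    intro a ha
    rcases (hZs a).mp (hAQ ha) with h3 | h3
    · exact Subgroup.mem_bot.mpr h3
    · exfalso
      have ho : orderOf z = 2 := orderOf_eq_prime (by rw [pow_two]; exact hzz) hs.ne_one
      have hd : orderOf (⟨z, h3 ▸ ha⟩ : A) ∣ Nat.card A := orderOf_dvd_natCard _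
      rw [Subgroup.orderOf_mk, ho] at hd
      exact (Nat.not_even_iff_odd.mpr hAodd) (even_iff_two_dvd.mpr hd)
  have hzR : z ∈ ⁅Q, A⁆ := by
    obtain ⟨r, hr, s, hs', hrs⟩ := hnabR
    rcases hs.comm r (hRQ hr) s (hRQ hs') with h3 | h3
    · exact absurd h3 hrs
    · have : z = (s * r)⁻¹ * (r * s) := by rw [h3]; group
      rw [this]
      exact mul_mem (inv_mem (mul_mem hs' hr)) (mul_mem hr hs')
  have hESR : ES2 (↥(⁅Q, A⁆ : Subgroup G)) ⟨z, hzR⟩ := es2_of_sub hs hRQ hzR hcsR hnabR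
  have hzC : z ∈ Q ⊓ Subgroup.centralizer (A : Set G) := ⟨hs.mem, hzcentA⟩
  refine ⟨by rw [sup_comm]; exact h1, hcommCR,
    Cfsg.Agent.S5396.isExtraspecial_of_es2 hESR, ?_⟩
  by_cases hCZ : Q ⊓ Subgroup.centralizer (A : Set G) ≤ (Subgroup.center Q).map Q.subtype
  · left
    apply le_antisymm hCZ
    intro g hg
    rcases (hZs g).mp hg with rfl | rfl
    · exact one_mem _
    · exact hzC
  · right
    obtain ⟨c, hc, hcZ⟩ := SetLike.not_le_iff_exists.mp hCZ
    have hnabC : ∃ r ∈ Q ⊓ Subgroup.centralizer (A : Set G),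
        ∃ s ∈ Q ⊓ Subgroup.centralizer (A : Set G), r * s ≠ s * r := by
      by_contra hcon
      push Not at hcon
      exact hcZ ((hZs c).mpr (hcsC c hc (fun s hs' => hcon c hc s hs')))
    exact Cfsg.Agent.S5396.isExtraspecial_of_es2 (es2_of_sub hs inf_le_left hzC hcsC hnabC)

end Cfsg.Agent.S5434
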