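import Mathlib
import Cfsg.Statements.S5435
import Cfsg.Agent.S4216
import Cfsg.Agent.Helper1.PGroup
import Cfsg.Agent.Helper10.ThompsonExt
import Cfsg.Agent.Helper11.Transfer
import Cfsg.Agent.Helper18.SuborbitTwo

set_option autoImplicit false
set_option linter.style.haveILetI false
open Cfsg
open scoped commutatorElement

namespace Cfsg.Agent.S5435

section aux
variable {L : Type*} [Group L]

/-- simple nonabelian: homs into commutative groups are trivial -/
theorem hom_trivial [IsSimpleGroup L] (hL : ¬ IsMulCommutative L) {A : Type*} [Group A]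
    (hA : ∀ a b : A, a * b = b * a) (f : L →* A) (x : L) : f x = 1 := by
  rcases f.normal_ker.eq_bot_or_eq_top with h | h
  · exfalso
    apply hL
    refine ⟨⟨fun a b => ?_⟩⟩
    have hinj : Function.Injective f := (MonoidHom.ker_eq_bot_iff f).mp h
    apply hinj
    rw [map_mul, map_mul, hA]
  · have : x ∈ f.ker := by rw [h]; trivial
    exact this

theorem mem_zp {z : L} (hzz : z * z = 1) (x : L) :
    x ∈ Subgroup.zpowers z ↔ x = 1 ∨ x = z := by
  constructor
  · rintro ⟨k, rfl⟩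
    beta_reduce
    rcases Int.even_or_odd' k with ⟨m, rfl | rfl⟩
    · left; rw [zpow_mul, zpow_two, hzz, one_zpow]
    · right; rw [zpow_add, zpow_one, zpow_mul, zpow_two, hzz, one_zpow, one_mul]
  · rintro (rfl | rfl)
    · exact Subgroup.one_mem _
    · exact Subgroup.mem_zpowers _

/-- two Sylow subgroups inside `H` are conjugate in `H` -/
theorem sylow_conj_in [Finite L] {p : ℕ} [Fact p.Prime] (P Q : Sylow p L) (H : Subgroup L)
    (hP : (P : Subgroup L) ≤ H) (hQ : (Q : Subgroup L) ≤ H) :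
    ∃ h ∈ H, ∀ x ∈ (Q : Subgroup L), h * x * h⁻¹ ∈ (P : Subgroup L) := by
  obtain ⟨h, hh⟩ := MulAction.exists_smul_eq ↥H (Q.subtype hQ) (P.subtype hP)
  refine ⟨h, h.2, ?_⟩
  intro x hx
  have h1 : (⟨x, hQ hx⟩ : ↥H) ∈ (Q.subtype hQ : Subgroup ↥H) := by
    rw [Sylow.coe_subtype]; exact hx
  have h2 : MulAut.conj h • (⟨x, hQ hx⟩ : ↥H) ∈ ((h • Q.subtype hQ : Sylow p ↥H) : Subgroup ↥H) := by
    rw [Sylow.coe_subgroup_smul]
    exact Subgroup.smul_mem_pointwise_smul _ _ _ h1
  rw [hh] at h2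
  have h3 : (MulAut.conj h • (⟨x, hQ hx⟩ : ↥H) : ↥H) ∈ (P.subtype hP : Subgroup ↥H) := h2
  rw [Sylow.coe_subtype, Subgroup.mem_subgroupOf] at h3
  simpa [MulAut.smul_def] using h3

/-- the configuration: `R = C(z)`, squares and commutators of `R` lie in `⟨z⟩` -/
structure Setup (R : Subgroup L) (z : L) : Prop where
  zz : z * z = 1
  z1 : z ≠ 1
  memR : ∀ x, x ∈ R ↔ x * z = z * x
  sq : ∀ x ∈ R, x * x = 1 ∨ x * x = z
  comm : ∀ x ∈ R, ∀ y ∈ R, x * y * x⁻¹ * y⁻¹ = 1 ∨ x * y * x⁻¹ * y⁻¹ = z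

namespace Setup

variable {R : Subgroup L} {z : L}

theorem conj_mem (h : Setup R z) (g : L) {x : L}
    (hx : x * (g * z * g⁻¹) = (g * z * g⁻¹) * x) : g⁻¹ * x * g ∈ R := by
  rw [h.memR]
  calc g⁻¹ * x * g * z = g⁻¹ * (x * (g * z * g⁻¹)) * g := by group
    _ = g⁻¹ * ((g * z * g⁻¹) * x) * g := by rw [hx]
    _ = z * (g⁻¹ * x * g) := by group

theorem conj_sq (h : Setup R z) (g : L) {x : L}
    (hx : x * (g * z * g⁻¹) = (g * z * g⁻¹) * x) : x * x = 1 ∨ x * x = g * z * g⁻¹ := by
  rcases h.sq _ (h.conj_mem g hx) with h1 | h1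
  · left
    calc x * x = g * ((g⁻¹ * x * g) * (g⁻¹ * x * g)) * g⁻¹ := by group
      _ = 1 := by rw [h1]; group
  · right
    calc x * x = g * ((g⁻¹ * x * g) * (g⁻¹ * x * g)) * g⁻¹ := by group
      _ = g * z * g⁻¹ := by rw [h1]

theorem conj_comm (h : Setup R z) (g : L) {x y : L}
    (hx : x * (g * z * g⁻¹) = (g * z * g⁻¹) * x) (hy : y * (g * z * g⁻¹) = (g * z * g⁻¹) * y) :
    x * y * x⁻¹ * y⁻¹ = 1 ∨ x * y * x⁻¹ * y⁻¹ = g * z * g⁻¹ := by
  rcases h.comm _ (h.conj_mem g hx) _ (h.conj_mem g hy) with h1 | h1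
  · left
    calc x * y * x⁻¹ * y⁻¹ = g * ((g⁻¹ * x * g) * (g⁻¹ * y * g) * (g⁻¹ * x * g)⁻¹ *
          (g⁻¹ * y * g)⁻¹) * g⁻¹ := by group
      _ = 1 := by rw [h1]; group
  · right
    calc x * y * x⁻¹ * y⁻¹ = g * ((g⁻¹ * x * g) * (g⁻¹ * y * g) * (g⁻¹ * x * g)⁻¹ *
          (g⁻¹ * y * g)⁻¹) * g⁻¹ := by group
      _ = g * z * g⁻¹ := by rw [h1]

/-- elements of `R ∩ C(u)`, `u = z^g ≠ z`, are involutions -/
theorem inter_sq (h : Setup R z) {g : L} (hne : g * z * g⁻¹ ≠ z) {x : L} (hxR : x ∈ R)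
    (hxu : x * (g * z * g⁻¹) = (g * z * g⁻¹) * x) : x * x = 1 := by
  rcases h.sq x hxR with h1 | h1
  · exact h1
  rcases h.conj_sq g hxu with h2 | h2
  · exact h2
  · exact absurd (h2.symm.trans h1) hne

/-- elements of `R ∩ C(u)`, `u = z^g ≠ z`, commute -/
theorem inter_comm (h : Setup R z) {g : L} (hne : g * z * g⁻¹ ≠ z) {x y : L} (hxR : x ∈ R)
    (hxu : x * (g * z * g⁻¹) = (g * z * g⁻¹) * x) (hyR : y ∈ R)
    (hyu : y * (g * z * g⁻¹) = (g * z * g⁻¹) * y) : x * y = y * x := by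
  have key : x * y * x⁻¹ * y⁻¹ = 1 := by
    rcases h.comm x hxR y hyR with h1 | h1
    · exact h1
    rcases h.conj_comm g hxu hyu with h2 | h2
    · exact h2
    · exact absurd (h2.symm.trans h1) hne
  calc x * y = (x * y * x⁻¹ * y⁻¹) * y * x := by group
    _ = y * x := by rw [key, one_mul]

/-- index two -/
theorem idx2 (h : Setup R z) {a b x : L} (haR : a ∈ R) (hba : b * a * b⁻¹ * a⁻¹ = z)
    (hxR : x ∈ R) : x * a = a * x ∨ (b⁻¹ * x) * a = a * (b⁻¹ * x) := by
  rcases h.comm x hxR a haR with h1 | h1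
  · left
    calc x * a = (x * a * x⁻¹ * a⁻¹) * a * x := by group
      _ = a * x := by rw [h1, one_mul]
  · right
    have hx : x * a = z * a * x := by
      calc x * a = (x * a * x⁻¹ * a⁻¹) * a * x := by group
        _ = z * a * x := by rw [h1]
    have hb : b * a = z * a * b := by
      calc b * a = (b * a * b⁻¹ * a⁻¹) * a * b := by group
        _ = z * a * b := by rw [hba]
    calc b⁻¹ * x * a = b⁻¹ * (x * a) := by group
      _ = b⁻¹ * (z * a * x) := by rw [hx]
      _ = b⁻¹ * (z * a * b) * b⁻¹ * x := by group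
      _ = b⁻¹ * (b * a) * b⁻¹ * x := by rw [hb]
      _ = a * (b⁻¹ * x) := by group

/-- decomposition `R = ⟨u, v⟩ C_R(⟨u, v⟩)` -/
theorem decomp (h : Setup R z) {u v : L} (huR : u ∈ R) (hvR : v ∈ R)
    (huv : u * v * u⁻¹ * v⁻¹ = z) {x : L} (hxR : x ∈ R) :
    ∃ d ∈ Subgroup.closure ({u, v} : Set L), ∃ c ∈ R, c * u = u * c ∧ c * v = v * c ∧
      x = d * c := by
  have hu : u ∈ Subgroup.closure ({u, v} : Set L) := Subgroup.subset_closure (by simp)
  have hv : v ∈ Subgroup.closure ({u, v} : Set L) := Subgroup.subset_closure (by simp)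
  have hvu : v * u * v⁻¹ * u⁻¹ = z := by
    have : v * u * v⁻¹ * u⁻¹ = (u * v * u⁻¹ * v⁻¹)⁻¹ := by group
    rw [this, huv]
    exact inv_eq_of_mul_eq_one_left h.zz
  -- first step
  obtain ⟨d1, hd1, y, hyR, hyu, hxy⟩ : ∃ d1 ∈ Subgroup.closure ({u, v} : Set L), ∃ y ∈ R,
      y * u = u * y ∧ x = d1 * y := by
    rcases h.idx2 huR hvu hxR with h1 | h1
    · exact ⟨1, Subgroup.one_mem _, x, hxR, h1, by simp⟩
    · exact ⟨v, hv, v⁻¹ * x, R.mul_mem (R.inv_mem hvR) hxR, h1, by group⟩
  rcases h.idx2 hvR huv hyR with h1 | h1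
  · exact ⟨d1, hd1, y, hyR, hyu, h1, hxy⟩
  · refine ⟨d1 * u, Subgroup.mul_mem _ hd1 hu, u⁻¹ * y, R.mul_mem (R.inv_mem huR) hyR, ?_, h1, ?_⟩
    · calc u⁻¹ * y * u = u⁻¹ * (y * u) := by group
        _ = u⁻¹ * (u * y) := by rw [hyu]
        _ = u * (u⁻¹ * y) := by group
    · rw [hxy]; group

end Setup

/-- conjugation into a finite subgroup is normalization -/
theorem mem_normalizer_of_conj [Finite L] (H : Subgroup L) (g : L)
    (h : ∀ x ∈ H, g * x * g⁻¹ ∈ H) : g ∈ Subgroup.normalizer (H : Set L) := by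
  have heq : H.map (MulAut.conj g).toMonoidHom = H := by
    apply Subgroup.eq_of_le_of_card_ge
    · rintro _ ⟨x, hx, rfl⟩; exact h x hx
    · rw [Subgroup.card_map_of_injective (MulAut.conj g).injective]
  rw [Subgroup.mem_normalizer_iff]
  intro x
  constructor
  · exact h x
  · intro hx
    rw [← heq] at hx
    obtain ⟨w, hw, hwx⟩ := hx
    have : w = x := by simpa [MulAut.conj_apply] using hwx
    rwa [← this]

/-- Thompson transfer + Burnside fusion: a central involution of `R` outside `Φ(R)` cannot exist -/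
theorem central_invol_mem [Finite L] [IsSimpleGroup L] (hL : ¬ IsMulCommutative L)
    (R : Sylow 2 L)
    (hN : Subgroup.normalizer ((R : Subgroup L) : Set L) ≤ (R : Subgroup L))
    {c : L} (hcR : c ∈ (R : Subgroup L)) (hcc : c * c = 1)
    (hcen : ∀ x ∈ (R : Subgroup L), c * x = x * c) :
    (⟨c, hcR⟩ : ↥(R : Subgroup L)) ∈ frattini ↥(R : Subgroup L) := by
  by_contra hcΦ
  have hc1 : c ≠ 1 := by
    rintro rfl
    exact hcΦ (Subgroup.one_mem _)
  rw [Cfsg.Agent.Helper1.mem_frattini_iff] at hcΦ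
  push Not at hcΦ
  obtain ⟨M, hM, hcM⟩ := hcΦ
  have hR2 : IsPGroup 2 ↥(R : Subgroup L) := R.isPGroup'
  obtain ⟨T, hT⟩ : ∃ T : Subgroup L, T = M.map (R : Subgroup L).subtype := ⟨_, rfl⟩
  have hTS : T ≤ (R : Subgroup L) := by rw [hT]; exact Subgroup.map_subtype_le M
  have hTM : T.subgroupOf (R : Subgroup L) = M := by
    rw [hT]
    exact Subgroup.comap_map_eq_self_of_injective (Subgroup.subtype_injective _) M
  have hM' : IsCoatom (T.subgroupOf (R : Subgroup L)) := by rw [hTM]; exact hM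
  haveI hTn : (T.subgroupOf (R : Subgroup L)).Normal :=
    Cfsg.Agent.Helper1.IsPGroup.coatom_normal hR2 hM'
  have hcardQ : Nat.card (↥(R : Subgroup L) ⧸ T.subgroupOf (R : Subgroup L)) = 2 :=
    Cfsg.Agent.Helper1.IsPGroup.coatom_card_quotient hR2 hM'
  have hcyc : IsCyclic (↥(R : Subgroup L) ⧸ T.subgroupOf (R : Subgroup L)) :=
    isCyclic_of_prime_card (p := 2) hcardQ
  have htriv : ∀ f : L →* (↥(R : Subgroup L) ⧸ T.subgroupOf (R : Subgroup L)), ∀ x : L,
      f x = 1 := by
    intro f x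
    apply hom_trivial hL _ f x
    intro a b
    letI := hcyc.commGroup
    exact mul_comm a b
  have hc2 : orderOf c = 2 := orderOf_eq_prime (by rw [pow_two]; exact hcc) hc1
  have hcT : c ∉ T := by
    rw [hT]
    rintro ⟨m, hm, hmc⟩
    apply hcM
    have : m = ⟨c, hcR⟩ := Subtype.ext hmc
    rwa [← this]
  obtain ⟨g, hgT, hgodd⟩ :=
    Cfsg.Agent.Helper10.thompson_extremal_exists R T hTS hcyc htriv c hc2 hcR hcT
  obtain ⟨c', hc'⟩ : ∃ c' : L, c' = g * c * g⁻¹ := ⟨_, rfl⟩
  rw [← hc'] at hgT hgodd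
  -- `R ≤ C(c')`
  have hRc : (R : Subgroup L) ≤ Subgroup.centralizer ({c} : Set L) := fun x hx =>
    Subgroup.mem_centralizer_singleton_iff.mpr (hcen x hx).symm
  have hCmap : Subgroup.centralizer ({c'} : Set L) =
      (Subgroup.centralizer ({c} : Set L)).map (MulAut.conj g).toMonoidHom := by
    ext x
    rw [Subgroup.mem_centralizer_singleton_iff, hc']
    constructor
    · intro hx
      refine ⟨g⁻¹ * x * g, Subgroup.mem_centralizer_singleton_iff.mpr ?_,
        by simp [MulAut.conj_apply]; group⟩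
      calc g⁻¹ * x * g * c = g⁻¹ * (x * (g * c * g⁻¹)) * g := by group
        _ = g⁻¹ * ((g * c * g⁻¹) * x) * g := by rw [hx]
        _ = c * (g⁻¹ * x * g) := by group
    · rintro ⟨y, hy', rfl⟩
      have hy := Subgroup.mem_centralizer_singleton_iff.mp hy'
      show g * y * g⁻¹ * (g * c * g⁻¹) = g * c * g⁻¹ * (g * y * g⁻¹)
      calc g * y * g⁻¹ * (g * c * g⁻¹) = g * (y * c) * g⁻¹ := by group
        _ = g * (c * y) * g⁻¹ := by rw [hy]
        _ = g * c * g⁻¹ * (g * y * g⁻¹) := by group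
  have hcardC : Nat.card ↥(Subgroup.centralizer ({c'} : Set L)) =
      Nat.card ↥(Subgroup.centralizer ({c} : Set L)) := by
    rw [hCmap]
    exact Subgroup.card_map_of_injective (MulAut.conj g).injective
  have hdvd : Nat.card ↥(R : Subgroup L) ∣ Nat.card ↥(Subgroup.centralizer ({c'} : Set L)) := by
    rw [hcardC]; exact Subgroup.card_dvd_of_le hRc
  have hRC : (R : Subgroup L) ≤ Subgroup.centralizer ({c'} : Set L) := by
    have hmul : Nat.card ↥((R : Subgroup L) ⊓ Subgroup.centralizer ({c'} : Set L)) *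
        ((R : Subgroup L) ⊓ Subgroup.centralizer ({c'} : Set L)).relIndex
          (Subgroup.centralizer ({c'} : Set L)) =
        Nat.card ↥(Subgroup.centralizer ({c'} : Set L)) := by
      rw [Subgroup.relIndex, ← Subgroup.card_mul_index
        (((R : Subgroup L) ⊓ Subgroup.centralizer ({c'} : Set L)).subgroupOf
          (Subgroup.centralizer ({c'} : Set L)))]
      congr 1
      exact (Nat.card_congr (Subgroup.subgroupOfEquivOfLe inf_le_right).toEquiv).symm
    obtain ⟨a, ha⟩ := IsPGroup.iff_card.mp hR2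
    have hcop : Nat.Coprime (Nat.card ↥(R : Subgroup L))
        (((R : Subgroup L) ⊓ Subgroup.centralizer ({c'} : Set L)).relIndex
          (Subgroup.centralizer ({c'} : Set L))) := by
      rw [ha]
      apply Nat.Coprime.pow_left
      exact (Nat.Prime.coprime_iff_not_dvd Nat.prime_two).mpr hgodd
    have hdvd2 : Nat.card ↥(R : Subgroup L) ∣
        Nat.card ↥((R : Subgroup L) ⊓ Subgroup.centralizer ({c'} : Set L)) := by
      apply hcop.dvd_of_dvd_mul_right
      rw [hmul]; exact hdvd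
    have heq : (R : Subgroup L) ⊓ Subgroup.centralizer ({c'} : Set L) = (R : Subgroup L) :=
      Subgroup.eq_of_le_of_card_ge inf_le_left (Nat.le_of_dvd Nat.card_pos hdvd2)
    rw [← heq]; exact inf_le_right
  -- Burnside
  have hgRC : ((g • R : Sylow 2 L) : Subgroup L) ≤ Subgroup.centralizer ({c'} : Set L) := by
    intro x hx
    rw [Sylow.coe_subgroup_smul, Subgroup.mem_smul_pointwise_iff_exists] at hx
    obtain ⟨y, hy, rfl⟩ := hx
    rw [hCmap]
    exact ⟨y, hRc hy, rfl⟩
  obtain ⟨h, hh, hconj⟩ := sylow_conj_in R (g • R) _ hRC hgRC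
  have hn : h * g ∈ Subgroup.normalizer ((R : Subgroup L) : Set L) := by
    apply mem_normalizer_of_conj
    intro x hx
    have h1 : g * x * g⁻¹ ∈ ((g • R : Sylow 2 L) : Subgroup L) := by
      rw [Sylow.coe_subgroup_smul]
      exact Subgroup.smul_mem_pointwise_smul x (MulAut.conj g) _ hx
    have h2 := hconj _ h1
    have : h * g * x * (h * g)⁻¹ = h * (g * x * g⁻¹) * h⁻¹ := by group
    rw [this]; exact h2
  have hnR := hN hn
  have e1 : (h * g) * c * (h * g)⁻¹ = c := by
    rw [← hcen _ hnR]; group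
  have e2 : (h * g) * c * (h * g)⁻¹ = c' := by
    rw [Subgroup.mem_centralizer_singleton_iff] at hh
    calc (h * g) * c * (h * g)⁻¹ = h * (g * c * g⁻¹) * h⁻¹ := by group
      _ = h * c' * h⁻¹ := by rw [hc']
      _ = c' * h * h⁻¹ := by rw [hh]
      _ = c' := by group
  apply hcT
  rw [← e1, e2]
  exact hgT

end aux

/-- Let L be a finite non-abelian simple group with an involution z whose centralizer R is a Sylow 2-subgroup of L whose Frattini subgroup is the subgroup generated by z. Then R is dihedral of order 8. -/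
theorem result {L : Type*} [Group L] [Finite L] [IsSimpleGroup L] (hL : ¬ IsMulCommutative L) (z : L) (hz : orderOf z = 2) (R : Sylow 2 L) (hR : (R : Subgroup L) = Subgroup.centralizer ({z} : Set L)) (hΦ : (frattini ↥(R : Subgroup L)).map (R : Subgroup L).subtype = Subgroup.zpowers z) : Nonempty (↥(R : Subgroup L) ≃* DihedralGroup 4) := by
  classical
  have hz1 : z ≠ 1 := by
    intro h1
    rw [h1, orderOf_one] at hz
    exact absurd hz (by norm_num)
  have hzz : z * z = 1 := by
    have := pow_orderOf_eq_one z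
    rwa [hz, pow_two] at this
  have hmemR : ∀ x, x ∈ (R : Subgroup L) ↔ x * z = z * x := by
    intro x
    rw [hR, Subgroup.mem_centralizer_singleton_iff]
  have hzR : z ∈ (R : Subgroup L) := (hmemR z).mpr rfl
  have hR2 : IsPGroup 2 ↥(R : Subgroup L) := R.isPGroup'
  have hmemΦ : ∀ x : ↥(R : Subgroup L), x ∈ frattini ↥(R : Subgroup L) →
      (x : L) = 1 ∨ (x : L) = z := by
    intro x hx
    have : (x : L) ∈ (frattini ↥(R : Subgroup L)).map (R : Subgroup L).subtype := ⟨x, hx, rfl⟩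
    rw [hΦ] at this
    exact (mem_zp hzz _).mp this
  have hsq : ∀ x ∈ (R : Subgroup L), x * x = 1 ∨ x * x = z := by
    intro x hx
    have h1 := Cfsg.Agent.Helper1.IsPGroup.pow_mem_frattini hR2 (⟨x, hx⟩ : ↥(R : Subgroup L))
    have h2 := hmemΦ _ h1
    simpa [pow_two] using h2
  have hcomm : ∀ x ∈ (R : Subgroup L), ∀ y ∈ (R : Subgroup L),
      x * y * x⁻¹ * y⁻¹ = 1 ∨ x * y * x⁻¹ * y⁻¹ = z := by
    intro x hx y hy
    have h1 : ⁅(⟨x, hx⟩ : ↥(R : Subgroup L)), ⟨y, hy⟩⁆ ∈ frattini ↥(R : Subgroup L) := by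
      apply Cfsg.Agent.Helper1.IsPGroup.commutator_le_frattini hR2
      rw [commutator_def]
      exact Subgroup.commutator_mem_commutator (Subgroup.mem_top _) (Subgroup.mem_top _)
    have h2 := hmemΦ _ h1
    simpa [commutatorElement_def] using h2
  have hS : Setup (R : Subgroup L) z := ⟨hzz, hz1, hmemR, hsq, hcomm⟩
  -- `N(R) ≤ R`
  have hN : Subgroup.normalizer ((R : Subgroup L) : Set L) ≤ (R : Subgroup L) := by
    intro n hn
    rw [hmemR]
    obtain ⟨φ, hφ⟩ : ∃ φ : MulAut ↥(R : Subgroup L),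
        φ = (R : Subgroup L).normalizerMonoidHom ⟨n, hn⟩ := ⟨_, rfl⟩
    have hzΦ : (⟨z, hzR⟩ : ↥(R : Subgroup L)) ∈ frattini ↥(R : Subgroup L) := by
      have : z ∈ (frattini ↥(R : Subgroup L)).map (R : Subgroup L).subtype := by
        rw [hΦ]; exact Subgroup.mem_zpowers z
      obtain ⟨w, hw, hwz⟩ := this
      have : w = ⟨z, hzR⟩ := Subtype.ext hwz
      rwa [← this]
    have hchar : (frattini ↥(R : Subgroup L)).Characteristic := frattini_characteristic
    have h1 : φ ⟨z, hzR⟩ ∈ frattini ↥(R : Subgroup L) := by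
      have := Subgroup.characteristic_iff_map_eq.mp hchar φ
      rw [← this]
      exact ⟨_, hzΦ, rfl⟩
    have h2 : ((φ ⟨z, hzR⟩ : ↥(R : Subgroup L)) : L) = n * z * n⁻¹ := by
      rw [hφ]; rfl
    rcases hmemΦ _ h1 with h3 | h3
    · exfalso
      rw [h2] at h3
      apply hz1
      calc z = n⁻¹ * (n * z * n⁻¹) * n := by group
        _ = 1 := by rw [h3]; group
    · rw [h2] at h3
      calc n * z = (n * z * n⁻¹) * n := by group
        _ = z * n := by rw [h3]
  -- `R` is nonabelian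
  have h2dvd : 2 ∣ Nat.card L := by rw [← hz]; exact orderOf_dvd_natCard z
  have hnab : ∃ x ∈ (R : Subgroup L), ∃ y ∈ (R : Subgroup L), x * y ≠ y * x := by
    by_contra hcon
    push Not at hcon
    apply Cfsg.Agent.Helper11.simple_not_normalizer_le_centralizer hL 2 R h2dvd
    intro n hn
    rw [Subgroup.mem_centralizer_iff]
    intro x hx
    exact hcon x hx n (hN hn)
  -- Grün's first theorem
  have hcomm_top : commutator L = ⊤ := by
    rcases (inferInstance : (commutator L).Normal).eq_bot_or_eq_top with h | h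
    · exfalso
      apply hL
      refine ⟨⟨fun a b => ?_⟩⟩
      have : ⁅a, b⁆ ∈ commutator L := by
        rw [commutator_def]
        exact Subgroup.commutator_mem_commutator (Subgroup.mem_top a) (Subgroup.mem_top b)
      rw [h, Subgroup.mem_bot, commutatorElement_eq_one_iff_mul_comm] at this
      exact this
    · exact h
  have hG := Cfsg.Agent.S4216.result R
  rw [hcomm_top, inf_top_eq] at hG
  obtain ⟨S, hSdef⟩ : ∃ S : Set L, S = {x | x ∈ (R : Subgroup L) ∧ ∃ g : L, x = g * z * g⁻¹} :=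
    ⟨_, rfl⟩
  have hzS : z ∈ S := by rw [hSdef]; exact ⟨hzR, 1, by simp⟩
  have hRW : (R : Subgroup L) ≤ Subgroup.closure S := by
    have hRRz : ⁅(R : Subgroup L), (R : Subgroup L)⁆ ≤ Subgroup.zpowers z := by
      rw [Subgroup.commutator_le]
      intro x hx y hy
      rw [mem_zp hzz, commutatorElement_def]
      exact hcomm x hx y hy
    refine hG.le.trans ?_
    apply sup_le
    · rintro x ⟨-, hx⟩
      have : x ∈ ⁅(R : Subgroup L), (R : Subgroup L)⁆ := Subgroup.commutator_mono hN hN hx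
      rcases (mem_zp hzz x).mp (hRRz this) with rfl | rfl
      · exact Subgroup.one_mem _
      · exact Subgroup.subset_closure hzS
    · apply iSup_le
      rintro g x ⟨hxR, hx⟩
      obtain ⟨y, hy, rfl⟩ := hx
      rcases (mem_zp hzz y).mp (hRRz hy) with rfl | rfl
      · rw [map_one]; exact Subgroup.one_mem _
      · apply Subgroup.subset_closure
        rw [hSdef]
        exact ⟨hxR, g, rfl⟩
  have hSR : ∀ s ∈ S, s ∈ (R : Subgroup L) := by
    intro s hs
    rw [hSdef] at hs
    exact hs.1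
  -- two non-commuting conjugates of `z` in `R`
  have hex : ∃ u ∈ S, ∃ v ∈ S, u * v ≠ v * u := by
    by_contra hcon
    push Not at hcon
    obtain ⟨x, hx, y, hy, hxy⟩ := hnab
    apply hxy
    have h1 : ∀ s ∈ S, Subgroup.closure S ≤ Subgroup.centralizer {s} := by
      intro s hs
      rw [Subgroup.closure_le]
      intro t ht
      exact Subgroup.mem_centralizer_singleton_iff.mpr (hcon t ht s hs)
    have h2 : ∀ w ∈ Subgroup.closure S, Subgroup.closure S ≤ Subgroup.centralizer {w} := by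
      intro w hw
      rw [Subgroup.closure_le]
      intro t ht
      exact Subgroup.mem_centralizer_singleton_iff.mpr
        (Subgroup.mem_centralizer_singleton_iff.mp (h1 t ht hw)).symm
    exact Subgroup.mem_centralizer_singleton_iff.mp (h2 y (hRW hy) (hRW hx))
  obtain ⟨u, hu, v, hv, huv⟩ := hex
  have huR := hSR u hu
  have hvR := hSR v hv
  rw [hSdef] at hu hv
  obtain ⟨-, g, hug⟩ := hu
  obtain ⟨-, g', hvg⟩ := hv
  have hunez : g * z * g⁻¹ ≠ z := by
    intro hh
    apply huv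
    rw [hug, hh]
    exact ((hmemR v).mp hvR).symm
  have huu : u * u = 1 := by
    rw [hug]
    calc g * z * g⁻¹ * (g * z * g⁻¹) = g * (z * z) * g⁻¹ := by group
      _ = 1 := by rw [hzz]; group
  have hvv : v * v = 1 := by
    rw [hvg]
    calc g' * z * g'⁻¹ * (g' * z * g'⁻¹) = g' * (z * z) * g'⁻¹ := by group
      _ = 1 := by rw [hzz]; group
  have huinv : u⁻¹ = u := inv_eq_of_mul_eq_one_left huu
  have hvinv : v⁻¹ = v := inv_eq_of_mul_eq_one_left hvv
  have hcuv : u * v * u⁻¹ * v⁻¹ = z := by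
    rcases hcomm u huR v hvR with h1 | h1
    · exfalso
      apply huv
      calc u * v = (u * v * u⁻¹ * v⁻¹) * v * u := by group
        _ = v * u := by rw [h1, one_mul]
    · exact h1
  -- the centralizer of `⟨u, v⟩` in `R` is `⟨z⟩`
  have hcent : ∀ c ∈ (R : Subgroup L), c * u = u * c → c * v = v * c → c = 1 ∨ c = z := by
    intro c hcR hcu hcv
    have hcu' : c * (g * z * g⁻¹) = (g * z * g⁻¹) * c := by rw [← hug]; exact hcu
    have hcc : c * c = 1 := hS.inter_sq hunez hcR hcu'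
    have hcen : ∀ x ∈ (R : Subgroup L), c * x = x * c := by
      intro x hx
      obtain ⟨d, hd, c2, hc2R, hc2u, hc2v, rfl⟩ := hS.decomp huR hvR hcuv hx
      have hc2u' : c2 * (g * z * g⁻¹) = (g * z * g⁻¹) * c2 := by rw [← hug]; exact hc2u
      have h1 : c * c2 = c2 * c := hS.inter_comm hunez hcR hcu' hc2R hc2u'
      have h2 : c * d = d * c := by
        have hle : Subgroup.closure ({u, v} : Set L) ≤ Subgroup.centralizer {c} := by
          rw [Subgroup.closure_le]
          rintro t (rfl | ht)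
          · exact Subgroup.mem_centralizer_singleton_iff.mpr hcu.symm
          · rw [Set.mem_singleton_iff.mp ht]
            exact Subgroup.mem_centralizer_singleton_iff.mpr hcv.symm
        exact (Subgroup.mem_centralizer_singleton_iff.mp (hle hd)).symm
      calc c * (d * c2) = (c * d) * c2 := by group
        _ = d * (c * c2) := by rw [h2]; group
        _ = d * c2 * c := by rw [h1]; group
    exact hmemΦ _ (central_invol_mem hL R hN hcR hcc hcen)
  -- `R = ⟨u, v⟩`
  have hzuv : z ∈ Subgroup.closure ({u, v} : Set L) := by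
    have hu' : u ∈ Subgroup.closure ({u, v} : Set L) := Subgroup.subset_closure (by simp)
    have hv' : v ∈ Subgroup.closure ({u, v} : Set L) := Subgroup.subset_closure (by simp)
    rw [← hcuv]
    exact Subgroup.mul_mem _ (Subgroup.mul_mem _ (Subgroup.mul_mem _ hu' hv')
      (Subgroup.inv_mem _ hu')) (Subgroup.inv_mem _ hv')
  have hRuv : ∀ x ∈ (R : Subgroup L), x ∈ Subgroup.closure ({u, v} : Set L) := by
    intro x hx
    obtain ⟨d, hd, c, hcR, hcu, hcv, rfl⟩ := hS.decomp huR hvR hcuv hx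
    rcases hcent c hcR hcu hcv with rfl | rfl
    · rw [mul_one]; exact hd
    · exact Subgroup.mul_mem _ hd hzuv
  -- the dihedral group
  obtain ⟨u', hu'⟩ : ∃ u' : ↥(R : Subgroup L), u' = ⟨u, huR⟩ := ⟨_, rfl⟩
  obtain ⟨v', hv'⟩ : ∃ v' : ↥(R : Subgroup L), v' = ⟨v, hvR⟩ := ⟨_, rfl⟩
  have hu'u : (u' : L) = u := by rw [hu']
  have hv'v : (v' : L) = v := by rw [hv']
  have hu'2 : u' * u' = 1 := Subtype.ext (by rw [Subgroup.coe_mul, hu'u]; exact huu)
  have hv'2 : v' * v' = 1 := Subtype.ext (by rw [Subgroup.coe_mul, hv'v]; exact hvv)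
  have hu'1 : u' ≠ 1 := by
    intro hh
    apply huv
    have : u = 1 := by rw [← hu'u, hh]; rfl
    rw [this]; simp
  have hv'1 : v' ≠ 1 := by
    intro hh
    apply huv
    have : v = 1 := by rw [← hv'v, hh]; rfl
    rw [this]; simp
  have hgen : Subgroup.closure ({u', v'} : Set ↥(R : Subgroup L)) = ⊤ := by
    rw [eq_top_iff]
    intro t _
    have h1 : (Subgroup.closure ({u', v'} : Set ↥(R : Subgroup L))).map
        (R : Subgroup L).subtype = Subgroup.closure ({u, v} : Set L) := by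
      rw [MonoidHom.map_closure]
      congr 1
      rw [Set.image_pair]
      simp [hu'u, hv'v]
    have h2 : (t : L) ∈ (Subgroup.closure ({u', v'} : Set ↥(R : Subgroup L))).map
        (R : Subgroup L).subtype := by
      rw [h1]; exact hRuv _ t.2
    obtain ⟨w, hw, hwt⟩ := h2
    have : w = t := Subtype.ext hwt
    rwa [← this]
  have hord : orderOf (u' * v') = 4 := by
    have huvz : (u * v) ^ 2 = z := by
      rw [pow_two]
      calc u * v * (u * v) = u * v * u⁻¹ * v⁻¹ := by rw [huinv, hvinv]; group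
        _ = z := hcuv
    have h1 : ¬ (u' * v') ^ 2 ^ 1 = 1 := by
      intro hh
      apply hz1
      have := congrArg (Subtype.val) hh
      rw [pow_one, Subgroup.coe_pow, Subgroup.coe_mul, hu'u, hv'v, huvz] at this
      exact this
    have h2 : (u' * v') ^ 2 ^ (1 + 1) = 1 := by
      apply Subtype.ext
      rw [Subgroup.coe_pow, Subgroup.coe_mul, hu'u, hv'v]
      show (u * v) ^ (2 * 2) = 1
      rw [pow_mul, huvz, pow_two, hzz]
    have := orderOf_eq_prime_pow h1 h2
    rw [this]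
    norm_num
  obtain ⟨e⟩ := Cfsg.Agent.Helper18.dihedral_of_closure_eq_top hu'2 hv'2 hu'1 hv'1 hgen
  rw [hord] at e
  exact ⟨e⟩

end Cfsg.Agent.S5435
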