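import Mathlib
import Cfsg.Statements.S5436
import Cfsg.Agent.Helper3.LargeSimple
import Cfsg.Agent.Helper3.ExtraspecialEquiv
import Cfsg.Agent.S5427
import Cfsg.Agent.S5422

set_option autoImplicit false
set_option linter.style.haveILetI false
open Cfsg

namespace Cfsg.Agent.S5436

section aux

open Cfsg.Agent.Helper3.ExtraspecialEquiv

/-- generation of `H` by conjugates of `z` -/
theorem gen_aux {G : Type*} [Group G] (H : Subgroup G) (z : G) (Q : Subgroup ↥H) [hQn : Q.Normal]
    (hsimp : IsSimpleGroup (↥H ⧸ Q))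
    (hirr : ∀ W : Subgroup ↥H, W.Normal → W ≤ Q →
      (W = Q ∨ ∀ x ∈ W, (x : G) ∈ Subgroup.zpowers z))
    (hwcl : Subgroup.closure {x : ↥H | IsConj z (x : G)} ≠ Q)
    (a : ↥H) (haQ : a ∈ Q) (hac : IsConj z (a : G)) (haz : (a : G) ∉ Subgroup.zpowers z) :
    H ≤ Subgroup.normalClosure ({z} : Set G) := by
  intro h hh
  have hconj : ∀ (n s : ↥H), IsConj z (s : G) → IsConj z ((n * s * n⁻¹ : ↥H) : G) := by
    intro n s hs
    obtain ⟨c, hc⟩ := isConj_iff.mp hs
    rw [isConj_iff]
    refine ⟨(n : G) * c, ?_⟩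
    show (n : G) * c * z * ((n : G) * c)⁻¹ = (n : G) * (s : G) * (n : G)⁻¹
    rw [← hc]; group
  have hWn : (Subgroup.closure {x : ↥H | IsConj z (x : G) ∧ x ∈ Q}).Normal := by
    apply closure_normal_of_conj
    rintro n s ⟨hs1, hs2⟩
    exact ⟨hconj n s hs1, hQn.conj_mem s hs2 n⟩
  have hWQ : Subgroup.closure {x : ↥H | IsConj z (x : G) ∧ x ∈ Q} ≤ Q := by
    rw [Subgroup.closure_le]
    rintro x ⟨_, hx⟩
    exact hx
  have hW : Subgroup.closure {x : ↥H | IsConj z (x : G) ∧ x ∈ Q} = Q := by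
    rcases hirr _ hWn hWQ with h1 | h1
    · exact h1
    · exfalso
      exact haz (h1 a (Subgroup.subset_closure ⟨hac, haQ⟩))
  have hXn : (Subgroup.closure {x : ↥H | IsConj z (x : G)}).Normal := by
    apply closure_normal_of_conj
    intro n s hs
    exact hconj n s hs
  have hQX : Q ≤ Subgroup.closure {x : ↥H | IsConj z (x : G)} := by
    rw [← hW]
    exact Subgroup.closure_mono (fun x hx => hx.1)
  have hXtop : Subgroup.closure {x : ↥H | IsConj z (x : G)} = ⊤ := by
    have hmapn : ((Subgroup.closure {x : ↥H | IsConj z (x : G)}).map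
        (QuotientGroup.mk' Q)).Normal := hXn.map _ (QuotientGroup.mk'_surjective Q)
    rcases hsimp.eq_bot_or_eq_top_of_normal _ hmapn with h1 | h1
    · exfalso
      apply hwcl
      apply le_antisymm _ hQX
      intro x hx
      have h2 : QuotientGroup.mk' Q x ∈ (Subgroup.closure {x : ↥H | IsConj z (x : G)}).map
          (QuotientGroup.mk' Q) := Subgroup.mem_map_of_mem _ hx
      rw [h1, Subgroup.mem_bot] at h2
      exact (QuotientGroup.eq_one_iff x).mp h2
    · rw [eq_top_iff]
      intro x _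
      have h2 : QuotientGroup.mk' Q x ∈ (Subgroup.closure {x : ↥H | IsConj z (x : G)}).map
          (QuotientGroup.mk' Q) := by rw [h1]; trivial
      obtain ⟨y, hy, hyx⟩ := h2
      have h3 : y⁻¹ * x ∈ Q := QuotientGroup.eq.mp hyx
      have h4 : x = y * (y⁻¹ * x) := by group
      rw [h4]
      exact Subgroup.mul_mem _ hy (hQX h3)
  have hmem : (⟨h, hh⟩ : ↥H) ∈ Subgroup.closure {x : ↥H | IsConj z (x : G)} := by
    rw [hXtop]; trivial
  have hle : Subgroup.closure {x : ↥H | IsConj z (x : G)} ≤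
      (Subgroup.normalClosure ({z} : Set G)).comap H.subtype := by
    rw [Subgroup.closure_le]
    intro x hx
    obtain ⟨c, hc⟩ := isConj_iff.mp hx
    show (x : G) ∈ Subgroup.normalClosure ({z} : Set G)
    rw [← hc]
    exact Subgroup.normalClosure_normal.conj_mem z
      (Subgroup.subset_normalClosure (Set.mem_singleton z)) c
  exact hle hmem

end aux

/-- Let z be an involution of the finite group G with centralizer H whose generalized Fitting subgroup Q is extraspecial of width at least 2 (order 2^(2w+1), w ≥ 2); suppose some conjugate of z other than z lies in Q, H/Q is a non-abelian simple group, H acts irreducibly by conjugation on Q modulo the subgroup generated by z (the only H-invariant subgroups of Q containing z are that subgroup and Q), and Q is not the subgroup generated by the conjugates of z lying in H. Then G is simple. -/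
theorem result {G : Type*} [Group G] [Finite G] (z : G) (hz : orderOf z = 2) (Q : Subgroup (Subgroup.centralizer ({z} : Set G))) [Q.Normal] (hF : Cfsg.generalizedFittingSubgroup ↥(Subgroup.centralizer ({z} : Set G)) = Q) (hQ : Cfsg.IsExtraspecial 2 ↥Q) (w : ℕ) (hw : 2 ≤ w) (hcard : Nat.card ↥Q = 2 ^ (2 * w + 1)) (hnwc : ∃ g : G, (∃ hq : g * z * g⁻¹ ∈ Subgroup.centralizer ({z} : Set G), (⟨g * z * g⁻¹, hq⟩ : Subgroup.centralizer ({z} : Set G)) ∈ Q) ∧ g * z * g⁻¹ ≠ z) (hsimp : IsSimpleGroup (↥(Subgroup.centralizer ({z} : Set G)) ⧸ Q)) (hna : ¬ IsMulCommutative (↥(Subgroup.centralizer ({z} : Set G)) ⧸ Q)) (hirr : ∀ W : Subgroup (Subgroup.centralizer ({z} : Set G)), W.Normal → W ≤ Q → (W = Q ∨ ∀ x ∈ W, (x : G) ∈ Subgroup.zpowers z)) (hwcl : Subgroup.closure {x : Subgroup.centralizer ({z} : Set G) | IsConj z (x : G)} ≠ Q) : IsSimpleGroup G := by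
  have hz1 : z ≠ 1 := by
    intro h1
    rw [h1, orderOf_one] at hz
    exact absurd hz (by norm_num)
  have hzz : z * z = 1 := by
    have := pow_orderOf_eq_one z
    rwa [hz, pow_two] at this
  have hzp : ∀ x ∈ Subgroup.zpowers z, x = 1 ∨ x = z := by
    intro x hx
    obtain ⟨n, rfl⟩ := Subgroup.mem_zpowers_iff.mp hx
    rcases Int.even_or_odd' n with ⟨m, hm | hm⟩
    · left
      rw [hm, zpow_mul, zpow_two, hzz, one_zpow]
    · right
      rw [hm, zpow_add, zpow_mul, zpow_two, hzz, one_zpow, one_mul, zpow_one]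
  obtain ⟨g, ⟨hq, hgQ⟩, hgz⟩ := hnwc
  have hgnz : g * z * g⁻¹ ∉ Subgroup.zpowers z := by
    intro h1
    rcases hzp _ h1 with h2 | h2
    · apply hz1
      have : z = g⁻¹ * (g * z * g⁻¹) * g := by group
      rw [this, h2]; group
    · exact hgz h2
  have hQC' : Q.map (Subgroup.centralizer ({z} : Set G)).subtype ≤
      Subgroup.centralizer ({z} : Set G) := Subgroup.map_subtype_le Q
  have hF' : (Cfsg.generalizedFittingSubgroup ↥(Subgroup.centralizer ({z} : Set G))).map
      (Subgroup.centralizer ({z} : Set G)).subtype =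
      Q.map (Subgroup.centralizer ({z} : Set G)).subtype := by rw [hF]
  have hQ' : Cfsg.IsExtraspecial 2 ↥(Q.map (Subgroup.centralizer ({z} : Set G)).subtype) :=
    Cfsg.Agent.Helper3.ExtraspecialEquiv.isExtraspecial_of_mulEquiv
      (Q.equivMapOfInjective _ (Subgroup.subtype_injective _)) hQ
  have hcard' : Nat.card ↥(Q.map (Subgroup.centralizer ({z} : Set G)).subtype) =
      2 ^ (2 * w + 1) := by
    rw [← hcard]
    exact (Nat.card_congr (Q.equivMapOfInjective _ (Subgroup.subtype_injective _)).toEquiv).symm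
  obtain ⟨hzQ, hL2, hZz, hL3⟩ := Cfsg.Agent.S5427.bridge z hz _ hQC' hF' hQ'
  have hgQ' : g * z * g⁻¹ ∈ Q.map (Subgroup.centralizer ({z} : Set G)).subtype :=
    ⟨_, hgQ, rfl⟩
  have hLarge : Cfsg.IsLargeExtraspecial (Q.map (Subgroup.centralizer ({z} : Set G)).subtype) := by
    refine (Cfsg.Agent.S5422.result _ hQ' hL2 hL3 w hw hcard' g ?_ ?_).2.2
    · intro hk
      rw [hZz] at hk
      have h1 : g * z * g⁻¹ ∈ Subgroup.zpowers z :=
        (Subgroup.mem_normalizer_iff.mp hk z).mp (Subgroup.mem_zpowers z)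
      exact hgnz h1
    · rw [hZz]
      rintro _ ⟨x, hx, rfl⟩
      rcases hzp x hx with h1 | h1
      · rw [h1, map_one]; exact Subgroup.one_mem _
      · rw [h1]; exact hgQ'
  apply Cfsg.Agent.Helper3.LargeSimple.isSimpleGroup_of_large _ hLarge z hZz
  exact gen_aux (Subgroup.centralizer ({z} : Set G)) z Q hsimp hirr hwcl ⟨g * z * g⁻¹, hq⟩ hgQ
    (isConj_iff.mpr ⟨g, rfl⟩) hgnz

end Cfsg.Agent.S5436
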