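import Mathlib
import Cfsg.Statements.S5437

set_option autoImplicit false
open Cfsg

namespace Cfsg.Agent.S5437

theorem mem_map_conj {G : Type*} [Group G] (H : Subgroup G) (g x : G) :
    x ∈ H.map (MulAut.conj g).toMonoidHom ↔ g⁻¹ * x * g ∈ H := by
  constructor
  · rintro ⟨y, hy, rfl⟩
    have : g⁻¹ * ((MulAut.conj g).toMonoidHom y) * g = y := by
      simp [MulAut.conj_apply, mul_assoc]
    rw [this]; exact hy
  · intro h
    refine ⟨g⁻¹ * x * g, h, ?_⟩
    simp [MulAut.conj_apply, mul_assoc]

theorem smul_mk_eq_iff {G : Type*} [Group G] (H : Subgroup G) (x g : G) :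
    x • (g : G ⧸ H) = (g : G ⧸ H) ↔ g⁻¹ * x * g ∈ H := by
  rw [MulAction.Quotient.smul_mk, QuotientGroup.eq]
  constructor
  · intro h
    have := H.inv_mem h
    simpa [mul_assoc] using this
  · intro h
    have := H.inv_mem h
    simpa [mul_assoc] using this

/-- Let I be a set of involutions of the finite group G closed under conjugation, and H a subgroup of G. The following are equivalent: (1) for every member x of I lying in H, the conjugates of x lying in H form a single H-class and the centralizer of x lies in H; (2) for every g outside H, no member of I lies in both H and g H g⁻¹; (3) every member of I lying in H fixes exactly one coset in the action of G on the cosets of H. -/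
theorem result {G : Type*} [Group G] [Finite G] (I : Set G) (hI : ∀ x ∈ I, orderOf x = 2) (hIc : ∀ g : G, ∀ x ∈ I, g * x * g⁻¹ ∈ I) (H : Subgroup G) : ((∀ x ∈ I, x ∈ H → (∀ g : G, g * x * g⁻¹ ∈ H → ∃ h ∈ H, h * x * h⁻¹ = g * x * g⁻¹) ∧ Subgroup.centralizer ({x} : Set G) ≤ H) ↔ (∀ g : G, g ∉ H → ∀ x ∈ I, ¬ (x ∈ H ∧ x ∈ (H : Subgroup G).map (MulAut.conj g).toMonoidHom))) ∧ ((∀ g : G, g ∉ H → ∀ x ∈ I, ¬ (x ∈ H ∧ x ∈ (H : Subgroup G).map (MulAut.conj g).toMonoidHom)) ↔ ∀ x ∈ I, x ∈ H → ∃! c : G ⧸ H, x • c = c) := by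
  refine ⟨⟨?_, ?_⟩, ⟨?_, ?_⟩⟩
  · -- (A) → (B)
    intro hA g hg x hxI ⟨hxH, hxg⟩
    rw [mem_map_conj] at hxg
    obtain ⟨hfus, hcent⟩ := hA x hxI hxH
    obtain ⟨h, hhH, hh⟩ := hfus g⁻¹ (by simpa using hxg)
    apply hg
    have hgh : g * h ∈ Subgroup.centralizer ({x} : Set G) := by
      rw [Subgroup.mem_centralizer_iff]
      intro y hy
      rw [Set.mem_singleton_iff] at hy
      subst hy
      have e : g * (h * y * h⁻¹) * g⁻¹ = y := by
        rw [hh]; group
      calc y * (g * h) = (g * (h * y * h⁻¹) * g⁻¹) * (g * h) := by rw [e]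
        _ = g * h * y := by group
    have := hcent hgh
    have h2 : g = (g * h) * h⁻¹ := by group
    rw [h2]
    exact H.mul_mem this (H.inv_mem hhH)
  · -- (B) → (A)
    intro hB x hxI hxH
    constructor
    · intro g hgx
      refine ⟨g, ?_, rfl⟩
      by_contra hg
      apply hB g hg (g * x * g⁻¹) (hIc g x hxI)
      refine ⟨hgx, ?_⟩
      rw [mem_map_conj]
      have : g⁻¹ * (g * x * g⁻¹) * g = x := by group
      rw [this]; exact hxH
    · intro c hc
      rw [Subgroup.mem_centralizer_iff] at hc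
      have hc' := hc x (Set.mem_singleton x)
      by_contra hcH
      apply hB c hcH x hxI
      refine ⟨hxH, ?_⟩
      rw [mem_map_conj]
      have : c⁻¹ * x * c = x := by
        rw [mul_assoc, hc']; group
      rw [this]; exact hxH
  · -- (B) → (C)
    intro hB x hxI hxH
    refine ⟨((1 : G) : G ⧸ H), ?_, ?_⟩
    · show x • ((1 : G) : G ⧸ H) = ((1 : G) : G ⧸ H)
      rw [smul_mk_eq_iff]
      simpa using hxH
    · intro c hc
      induction c using QuotientGroup.induction_on with
      | H g =>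
        have hc' : x • ((g : G) : G ⧸ H) = ((g : G) : G ⧸ H) := hc
        rw [smul_mk_eq_iff] at hc'
        have hgH : g ∈ H := by
          by_contra hg
          exact hB g hg x hxI ⟨hxH, (mem_map_conj H g x).mpr hc'⟩
        rw [QuotientGroup.eq]
        simpa using hgH
  · -- (C) → (B)
    intro hC g hg x hxI ⟨hxH, hxg⟩
    rw [mem_map_conj] at hxg
    obtain ⟨c, _, huniq⟩ := hC x hxI hxH
    have h1 : ((1 : G) : G ⧸ H) = c := by
      apply huniq
      show x • ((1 : G) : G ⧸ H) = ((1 : G) : G ⧸ H)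
      rw [smul_mk_eq_iff]
      simpa using hxH
    have h2 : ((g : G) : G ⧸ H) = c := by
      apply huniq
      show x • ((g : G) : G ⧸ H) = ((g : G) : G ⧸ H)
      rw [smul_mk_eq_iff]
      exact hxg
    have h3 : ((1 : G) : G ⧸ H) = ((g : G) : G ⧸ H) := h1.trans h2.symm
    rw [QuotientGroup.eq] at h3
    apply hg
    simpa using h3

end Cfsg.Agent.S5437
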