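import Mathlib
import Cfsg.Statements.S5438

set_option autoImplicit false
open Cfsg

namespace Cfsg.Agent.S5438

open Pointwise

theorem sylow_mem_smul {p : ℕ} {G : Type*} [Group G] (g : G) (P : Sylow p G) (x : G) :
    x ∈ g • P ↔ g⁻¹ * x * g ∈ P := by
  have h : x ∈ g • P ↔ x ∈ ((g • P : Sylow p G) : Subgroup G) := Iff.rfl
  rw [h, Sylow.coe_subgroup_smul, Subgroup.mem_pointwise_smul_iff_inv_smul_mem]
  simp only [MulAut.smul_def, MulAut.conj_inv_apply]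
  exact Iff.rfl

/-- the fixed-coset property for `w`: `a w a⁻¹ ∈ H → a ∈ H` -/
def FixP {G : Type*} [Group G] (H : Subgroup G) (w : G) : Prop :=
  ∀ a : G, a * w * a⁻¹ ∈ H → a ∈ H

theorem fixP_conj {G : Type*} [Group G] (H : Subgroup G) (w k : G) (hk : k ∈ H)
    (hw : FixP H w) : FixP H (k * w * k⁻¹) := by
  intro a ha
  have h1 : (a * k) * w * (a * k)⁻¹ ∈ H := by
    have : (a * k) * w * (a * k)⁻¹ = a * (k * w * k⁻¹) * a⁻¹ := by group
    rw [this]; exact ha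
  have h2 := hw _ h1
  have : a = (a * k) * k⁻¹ := by group
  rw [this]
  exact H.mul_mem h2 (H.inv_mem hk)

theorem centralizer_le_of_fixP {G : Type*} [Group G] (H : Subgroup G) (w : G) (hwH : w ∈ H)
    (hw : FixP H w) (c : G) (hc : c * w = w * c) : c ∈ H := by
  apply hw
  have : c * w * c⁻¹ = w := by rw [hc]; group
  rw [this]; exact hwH

theorem result {G : Type*} [Group G] [Finite G] (z : G) (hz : Cfsg.IsTwoCentralInvolution z) (H : Subgroup G) (hzH : z ∈ H) (hfix : ∀ g : G, g⁻¹ * z * g ∈ H → g ∈ H) : Odd H.index ∧ ∀ x ∈ H, (∃ k : ℕ, orderOf x = 2 ^ k) → ∀ g : G, g * x * g⁻¹ ∈ H → ∃ h ∈ H, h * x * h⁻¹ = g * x * g⁻¹ := by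
  have : Fact (Nat.Prime 2) := ⟨Nat.prime_two⟩
  obtain ⟨hz2, P, hzP, hzc⟩ := hz
  have hFz : FixP H z := by
    intro a ha
    have h1 : a⁻¹ ∈ H := by
      apply hfix
      simpa using ha
    simpa using H.inv_mem h1
  -- P ≤ H
  have hPH : (P : Subgroup G) ≤ H := by
    intro p hp
    exact centralizer_le_of_fixP H z hzH hFz p (hzc p hp)
  constructor
  · -- index odd
    have h1 : H.index ∣ (P : Subgroup G).index := Subgroup.index_dvd_of_le hPH
    have h2 : ¬ 2 ∣ (P : Subgroup G).index := P.not_dvd_index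
    rw [← Nat.not_even_iff_odd]
    intro he
    exact h2 (dvd_trans (even_iff_two_dvd.mp he) h1)
  -- Lemma B: a 2-subgroup containing an H-conjugate of z lies in H
  have lemB : ∀ (w : G), w ∈ H → FixP H w → ∀ T : Subgroup G, IsPGroup 2 T → w ∈ T → T ≤ H := by
    intro w hwH hFw T hT hwT
    obtain ⟨Q, hTQ⟩ := hT.exists_le_sylow
    obtain ⟨a, ha⟩ := MulAction.exists_smul_eq G P Q
    -- a z a⁻¹ is central in Q
    have hQ : ∀ q ∈ Q, a⁻¹ * q * a ∈ P := by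
      intro q hq
      rw [← ha] at hq
      exact (sylow_mem_smul a P q).mp hq
    have hcomm : (a * z * a⁻¹) * w = w * (a * z * a⁻¹) := by
      have h1 := hzc _ (hQ w (hTQ hwT))
      -- (a⁻¹ w a) z = z (a⁻¹ w a)
      calc (a * z * a⁻¹) * w = a * (z * (a⁻¹ * w * a)) * a⁻¹ := by group
        _ = a * ((a⁻¹ * w * a) * z) * a⁻¹ := by rw [h1]
        _ = w * (a * z * a⁻¹) := by group
    have h1 : a * z * a⁻¹ ∈ H := centralizer_le_of_fixP H w hwH hFw _ hcomm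
    have haH : a ∈ H := hFz a h1
    intro t ht
    have h2 := hPH (hQ t (hTQ ht))
    have : t = a * (a⁻¹ * t * a) * a⁻¹ := by group
    rw [this]
    exact H.mul_mem (H.mul_mem haH h2) (H.inv_mem haH)
  -- Lemma A: every 2-element of H is centralized by an H-conjugate of z
  have lemA : ∀ x ∈ H, (∃ k : ℕ, orderOf x = 2 ^ k) →
      ∃ w ∈ H, FixP H w ∧ orderOf w = 2 ∧ w * x = x * w := by
    intro x hxH ⟨k, hk⟩
    -- zpowers x is a 2-group; inside a Sylow Q = a • P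
    have hT : IsPGroup 2 (Subgroup.zpowers x) := by
      rw [IsPGroup.iff_card, Nat.card_zpowers]
      exact ⟨k, hk⟩
    -- work inside H
    let PH : Sylow 2 H := P.subtype hPH
    have hT' : IsPGroup 2 (Subgroup.zpowers (⟨x, hxH⟩ : H)) := by
      rw [IsPGroup.iff_card, Nat.card_zpowers]
      refine ⟨k, ?_⟩
      rw [← hk]
      exact (Subgroup.orderOf_mk x hxH)
    obtain ⟨Q, hTQ⟩ := hT'.exists_le_sylow
    obtain ⟨a, ha⟩ := MulAction.exists_smul_eq H PH Q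
    have hxQ : (⟨x, hxH⟩ : H) ∈ Q := hTQ (Subgroup.mem_zpowers _)
    rw [← ha] at hxQ
    have hx' := (sylow_mem_smul a PH (⟨x, hxH⟩ : H)).mp hxQ
    -- a⁻¹ x a ∈ P
    have hx'' : (a : G)⁻¹ * x * (a : G) ∈ P := by
      have h0 : a⁻¹ * (⟨x, hxH⟩ : H) * a ∈ ((P.subtype hPH : Sylow 2 H) : Subgroup H) := hx'
      rw [Sylow.coe_subtype, Subgroup.mem_subgroupOf] at h0
      have h1 : (a : G)⁻¹ * x * (a : G) ∈ (P : Subgroup G) := by simpa using h0
      exact h1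
    refine ⟨(a : G) * z * (a : G)⁻¹, H.mul_mem (H.mul_mem a.2 hzH) (H.inv_mem a.2),
      fixP_conj H z a a.2 hFz, ?_, ?_⟩
    · rw [← hz2]
      have : (a : G) * z * (a : G)⁻¹ = MulAut.conj (a : G) z := by simp [MulAut.conj_apply]
      rw [this]
      exact MulEquiv.orderOf_eq _ z
    · have h1 := hzc _ hx''
      calc (a : G) * z * (a : G)⁻¹ * x = (a : G) * (z * ((a : G)⁻¹ * x * (a : G))) * (a : G)⁻¹ := by group
        _ = (a : G) * (((a : G)⁻¹ * x * (a : G)) * z) * (a : G)⁻¹ := by rw [h1]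
        _ = x * ((a : G) * z * (a : G)⁻¹) := by group
  -- main
  intro x hxH hx2 g hgx
  obtain ⟨k, hk⟩ := hx2
  have hy2 : ∃ k : ℕ, orderOf (g * x * g⁻¹) = 2 ^ k := by
    refine ⟨k, ?_⟩
    rw [← hk]
    have : g * x * g⁻¹ = MulAut.conj g x := by simp [MulAut.conj_apply]
    rw [this]
    exact MulEquiv.orderOf_eq _ x
  obtain ⟨w1, hw1H, hFw1, hw1o, hw1x⟩ := lemA x hxH ⟨k, hk⟩
  obtain ⟨w2, hw2H, hFw2, hw2o, hw2y⟩ := lemA (g * x * g⁻¹) hgx hy2
  set y := g * x * g⁻¹ with hy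
  -- in C = centralizer of y
  let C : Subgroup G := Subgroup.centralizer ({y} : Set G)
  have hmemC : ∀ c : G, c ∈ C ↔ c * y = y * c := by
    intro c
    show c ∈ Subgroup.centralizer ({y} : Set G) ↔ _
    rw [Subgroup.mem_centralizer_iff]
    constructor
    · intro h; exact (h y rfl).symm
    · intro h m hm
      rw [Set.mem_singleton_iff] at hm
      subst hm
      exact h.symm
  have hw2C : w2 ∈ C := (hmemC w2).mpr hw2y
  have hw1C : g * w1 * g⁻¹ ∈ C := by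
    rw [hmemC]
    calc g * w1 * g⁻¹ * y = g * (w1 * x) * g⁻¹ := by rw [hy]; group
      _ = g * (x * w1) * g⁻¹ := by rw [hw1x]
      _ = y * (g * w1 * g⁻¹) := by rw [hy]; group
  have hp2 : IsPGroup 2 (Subgroup.zpowers (⟨w2, hw2C⟩ : C)) := by
    rw [IsPGroup.iff_card, Nat.card_zpowers]
    refine ⟨1, ?_⟩
    rw [pow_one, ← hw2o]
    exact Subgroup.orderOf_mk w2 hw2C
  have hp1 : IsPGroup 2 (Subgroup.zpowers (⟨g * w1 * g⁻¹, hw1C⟩ : C)) := by
    rw [IsPGroup.iff_card, Nat.card_zpowers]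
    refine ⟨1, ?_⟩
    rw [pow_one, ← hw1o, Subgroup.orderOf_mk]
    have : g * w1 * g⁻¹ = MulAut.conj g w1 := by simp [MulAut.conj_apply]
    rw [this]
    exact MulEquiv.orderOf_eq _ w1
  obtain ⟨T2, hT2⟩ := hp2.exists_le_sylow
  obtain ⟨T1, hT1⟩ := hp1.exists_le_sylow
  obtain ⟨c, hc⟩ := MulAction.exists_smul_eq C T1 T2
  have h1 : (⟨g * w1 * g⁻¹, hw1C⟩ : C) ∈ T1 := hT1 (Subgroup.mem_zpowers _)
  have h2 : (⟨w2, hw2C⟩ : C) ∈ T2 := hT2 (Subgroup.mem_zpowers _)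
  have h3 : c * (⟨g * w1 * g⁻¹, hw1C⟩ : C) * c⁻¹ ∈ T2 := by
    rw [← hc, sylow_mem_smul]
    have : c⁻¹ * (c * (⟨g * w1 * g⁻¹, hw1C⟩ : C) * c⁻¹) * c = ⟨g * w1 * g⁻¹, hw1C⟩ := by group
    rw [this]; exact h1
  -- the image of T2 in G
  have hTG : IsPGroup 2 ((T2 : Subgroup C).map C.subtype) := T2.isPGroup'.map _
  have hT2H : (T2 : Subgroup C).map C.subtype ≤ H :=
    lemB w2 hw2H hFw2 _ hTG ⟨⟨w2, hw2C⟩, h2, rfl⟩
  have h4 : ((c : G) * g) * w1 * ((c : G) * g)⁻¹ ∈ H := by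
    apply hT2H
    refine ⟨_, h3, ?_⟩
    simp only [Subgroup.coe_subtype, Subgroup.coe_mul, Subgroup.coe_inv]
    group
  have h5 : (c : G) * g ∈ H := hFw1 _ h4
  refine ⟨(c : G) * g, h5, ?_⟩
  have hcy : (c : G) * y = y * (c : G) := (hmemC c).mp c.2
  calc (c : G) * g * x * ((c : G) * g)⁻¹ = (c : G) * y * (c : G)⁻¹ := by rw [hy]; group
    _ = y := by rw [hcy]; group

end Cfsg.Agent.S5438
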