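import Mathlib
import Cfsg.Statements.S5439
import Cfsg.Agent.Helper2.Invol
import Cfsg.Agent.S0208

set_option autoImplicit false
open Cfsg

namespace Cfsg.Agent.S5439

open Cfsg.Agent.Helper2

theorem smul_mk_eq_iff {G : Type*} [Group G] (H : Subgroup G) (x g : G) :
    x • (g : G ⧸ H) = (g : G ⧸ H) ↔ g⁻¹ * x * g ∈ H := by
  rw [MulAction.Quotient.smul_mk, QuotientGroup.eq]
  constructor
  · intro h
    have := H.inv_mem h
    simpa [mul_assoc] using this
  · intro h
    have := H.inv_mem h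
    simpa [mul_assoc] using this

theorem orderOf_conj' {G : Type*} [Group G] (g x : G) : orderOf (g * x * g⁻¹) = orderOf x := by
  have : g * x * g⁻¹ = MulAut.conj g x := by simp [MulAut.conj_apply]
  rw [this]
  exact MulEquiv.orderOf_eq _ x

/-- `z * a` is conjugate to `a` or `b`, where `z = (ab)^m` -/
theorem half_mul_conj {G : Type*} [Group G] (a b : G) (ha : a * a = 1) (hb : b * b = 1) (m : ℕ) :
    IsConj a ((a * b) ^ m * a) ∨ IsConj b ((a * b) ^ m * a) := by
  have hainv : a⁻¹ = a := inv_eq_of_mul_eq_one_right ha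
  rcases Nat.even_or_odd' m with ⟨j, rfl | rfl⟩
  · left
    rw [isConj_iff]
    refine ⟨(a * b) ^ (j : ℤ), ?_⟩
    rw [invol_conj_by_zpow ha hb, ← zpow_natCast]
    push_cast
    rfl
  · right
    rw [isConj_iff]
    refine ⟨(a * b) ^ (j : ℤ) * a, ?_⟩
    have h1 : a * (a * b) ^ (-(j : ℤ)) = (a * b) ^ (j : ℤ) * a := by
      rw [invol_mul_zpow ha hb, neg_neg]
    calc (a * b) ^ (j : ℤ) * a * b * ((a * b) ^ (j : ℤ) * a)⁻¹
        = (a * b) ^ (j : ℤ) * (a * b) * (a * (a * b) ^ (-(j : ℤ))) := by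
          rw [mul_inv_rev, hainv, zpow_neg]; group
      _ = (a * b) ^ (j : ℤ) * (a * b) * ((a * b) ^ (j : ℤ) * a) := by rw [h1]
      _ = (a * b) ^ (2 * j + 1) * a := by
          rw [← zpow_natCast (a * b) (2 * j + 1)]
          push_cast
          rw [← mul_assoc, ← zpow_add_one, ← zpow_add]
          congr 2
          ring

theorem result {G : Type*} [Group G] [Finite G] (I J : Set G) (a₀ b₀ : G) (ha₀ : orderOf a₀ = 2) (hb₀ : orderOf b₀ = 2) (hI : I = {x | IsConj a₀ x}) (hJ : J = {x | IsConj b₀ x}) (hIJ : I ≠ J) (H : Subgroup G) (hfix : ∀ x ∈ I ∪ J, ∃! c : G ⧸ H, x • c = c) (hcent : ∀ a ∈ I, a ∈ H → ∀ b ∈ I ∪ J, b ∈ H → a ≠ b → a * b = b * a → Subgroup.centralizer ({a * b} : Set G) ≤ H) : H = ⊤ := by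
  by_contra hH
  obtain ⟨g', hg'⟩ : ∃ g' : G, g' ∉ H := by
    by_contra hcon
    push Not at hcon
    exact hH (eq_top_iff.mpr fun x _ => hcon x)
  have ha₀I : a₀ ∈ I := by rw [hI]; exact IsConj.refl a₀
  have hb₀J : b₀ ∈ J := by rw [hJ]; exact IsConj.refl b₀
  -- conjugation closure
  have hIconj : ∀ x ∈ I, ∀ g : G, g * x * g⁻¹ ∈ I := by
    intro x hx g
    rw [hI] at hx ⊢
    exact IsConj.trans hx (isConj_iff.mpr ⟨g, rfl⟩)
  have hJconj : ∀ x ∈ J, ∀ g : G, g * x * g⁻¹ ∈ J := by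
    intro x hx g
    rw [hJ] at hx ⊢
    exact IsConj.trans hx (isConj_iff.mpr ⟨g, rfl⟩)
  -- elements of (I ∪ J) ∩ H fix only the trivial coset; centralizers inside H
  have hcentH : ∀ x ∈ I ∪ J, x ∈ H → ∀ c : G, c * x = x * c → c ∈ H := by
    intro x hx hxH c hc
    obtain ⟨d, _, huniq⟩ := hfix x hx
    have h1 : ((1 : G) : G ⧸ H) = d := by
      apply huniq
      show x • ((1 : G) : G ⧸ H) = ((1 : G) : G ⧸ H)
      rw [smul_mk_eq_iff]
      simpa using hxH
    have h2 : ((c : G) : G ⧸ H) = d := by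
      apply huniq
      show x • ((c : G) : G ⧸ H) = ((c : G) : G ⧸ H)
      rw [smul_mk_eq_iff]
      have : c⁻¹ * x * c = x := by
        rw [mul_assoc, ← hc]; group
      rw [this]; exact hxH
    have h3 : ((1 : G) : G ⧸ H) = ((c : G) : G ⧸ H) := h1.trans h2.symm
    rw [QuotientGroup.eq] at h3
    simpa using h3
  -- a ∈ I ∩ H
  obtain ⟨a, haI, haH⟩ : ∃ a ∈ I, a ∈ H := by
    obtain ⟨c, hc, _⟩ := hfix a₀ (Or.inl ha₀I)
    induction c using QuotientGroup.induction_on with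
    | H g₀ =>
      have hc' : a₀ • ((g₀ : G) : G ⧸ H) = ((g₀ : G) : G ⧸ H) := hc
      rw [smul_mk_eq_iff] at hc'
      refine ⟨g₀⁻¹ * a₀ * g₀, ?_, hc'⟩
      have := hIconj a₀ ha₀I g₀⁻¹
      simpa using this
  -- b ∈ J, b ∉ H
  obtain ⟨b, hbJ, hbH⟩ : ∃ b ∈ J, b ∉ H := by
    obtain ⟨c, hc, _⟩ := hfix b₀ (Or.inr hb₀J)
    induction c using QuotientGroup.induction_on with
    | H g₁ =>
      have hc' : b₀ • ((g₁ : G) : G ⧸ H) = ((g₁ : G) : G ⧸ H) := hc
      rw [smul_mk_eq_iff] at hc'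
      refine ⟨(g' * g₁⁻¹) * b₀ * (g' * g₁⁻¹)⁻¹, hJconj b₀ hb₀J _, ?_⟩
      intro hbH
      set b := (g' * g₁⁻¹) * b₀ * (g' * g₁⁻¹)⁻¹ with hb
      have hbIJ : b ∈ I ∪ J := Or.inr (hJconj b₀ hb₀J _)
      obtain ⟨d, _, huniq⟩ := hfix b hbIJ
      have h1 : ((1 : G) : G ⧸ H) = d := by
        apply huniq
        show b • ((1 : G) : G ⧸ H) = ((1 : G) : G ⧸ H)
        rw [smul_mk_eq_iff]
        simpa using hbH
      have h2 : ((g' : G) : G ⧸ H) = d := by
        apply huniq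
        show b • ((g' : G) : G ⧸ H) = ((g' : G) : G ⧸ H)
        rw [smul_mk_eq_iff]
        have : g'⁻¹ * b * g' = g₁⁻¹ * b₀ * g₁ := by
          rw [hb]; group
        rw [this]; exact hc'
      have h3 : ((1 : G) : G ⧸ H) = ((g' : G) : G ⧸ H) := h1.trans h2.symm
      rw [QuotientGroup.eq] at h3
      apply hg'
      simpa using h3
  -- a, b not conjugate
  have hnc : ¬ IsConj a b := by
    intro hab
    apply hIJ
    rw [hI] at haI
    rw [hJ] at hbJ
    have h0 : IsConj a₀ b₀ := (IsConj.trans haI hab).trans hbJ.symm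
    rw [hI, hJ]
    ext x
    show IsConj a₀ x ↔ IsConj b₀ x
    exact ⟨fun h => IsConj.trans h0.symm h, fun h => IsConj.trans h0 h⟩
  have hao : orderOf a = 2 := by
    rw [hI] at haI
    obtain ⟨g, hg⟩ := isConj_iff.mp haI
    rw [← hg, orderOf_conj', ha₀]
  have hbo : orderOf b = 2 := by
    rw [hJ] at hbJ
    obtain ⟨g, hg⟩ := isConj_iff.mp hbJ
    rw [← hg, orderOf_conj', hb₀]
  have ha2 := mul_self_of_orderOf_two hao
  have hb2 := mul_self_of_orderOf_two hbo
  have hpos : 0 < orderOf (a * b) := orderOf_pos _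
  have heven : Even (orderOf (a * b)) := by
    by_contra hodd
    rw [Nat.not_even_iff_odd] at hodd
    obtain ⟨d, _, hd⟩ := Cfsg.Agent.S0208.result a b hao hbo hodd
    exact hnc (isConj_iff.mpr ⟨d, hd⟩)
  obtain ⟨hzo, hza, hzb⟩ := invol_half_pow ha2 hb2 hpos heven
  set z := (a * b) ^ (orderOf (a * b) / 2) with hz
  have hz1 : z ≠ 1 := ne_one_of_orderOf_two hzo
  -- w = z * a
  have hwIJ : z * a ∈ I ∪ J := by
    rcases half_mul_conj a b ha2 hb2 (orderOf (a * b) / 2) with h | h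
    · left
      rw [hI] at haI ⊢
      exact IsConj.trans haI h
    · right
      rw [hJ] at hbJ ⊢
      exact IsConj.trans hbJ h
  have hwa : a ≠ z * a := by
    intro h
    apply hz1
    have : z * a = 1 * a := by rw [one_mul]; exact h.symm
    exact mul_right_cancel this
  have hcomm : a * (z * a) = (z * a) * a := by
    rw [← mul_assoc, ← hza.eq]
  have hwH : z * a ∈ H := by
    apply hcentH a (Or.inl haI) haH
    exact hcomm.symm
  have hle := hcent a haI haH (z * a) hwIJ hwH hwa hcomm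
  have haw : a * (z * a) = z := by
    rw [← mul_assoc, ← hza.eq, mul_assoc, ha2, mul_one]
  rw [haw] at hle
  apply hbH
  apply hle
  rw [Subgroup.mem_centralizer_iff]
  intro y hy
  rw [Set.mem_singleton_iff] at hy
  subst hy
  exact hzb.eq

end Cfsg.Agent.S5439
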