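import Cfsg.Statements.S5459

set_option autoImplicit false
open Cfsg

namespace Cfsg.Agent.S5459

open Subgroup
open scoped commutatorElement

section aux
variable {G : Type*} [Group G]

theorem mem_conj_iff {d x : G} : x ∈ conjugatesOf d ↔ ∃ c, c * d * c⁻¹ = x := isConj_iff

/-- conjugation as a graph endomorphism of the commuting graph on a conjugacy class. -/
def conjHom (d g : G) :
    Cfsg.commutingGraph (conjugatesOf d) →g Cfsg.commutingGraph (conjugatesOf d) where
  toFun x := ⟨g * x.1 * g⁻¹, by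
    have hx := x.2
    rw [mem_conj_iff] at hx ⊢
    obtain ⟨c, hc⟩ := hx
    exact ⟨g * c, by rw [← hc]; group⟩⟩
  map_rel' := by
    intro a b hab
    unfold Cfsg.commutingGraph at hab ⊢
    rw [SimpleGraph.fromRel_adj] at hab ⊢
    obtain ⟨hne, hcomm⟩ := hab
    refine ⟨?_, ?_⟩
    · intro h
      apply hne
      have h1 : g * a.1 * g⁻¹ = g * b.1 * g⁻¹ := congrArg Subtype.val h
      exact Subtype.ext (mul_left_cancel (mul_right_cancel h1))
    · have hc : Commute (a : G) (b : G) := hcomm.elim id Commute.symm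
      left
      change Commute (g * a.1 * g⁻¹) (g * b.1 * g⁻¹)
      have := hc.eq
      unfold Commute SemiconjBy
      calc g * a.1 * g⁻¹ * (g * b.1 * g⁻¹) = g * (a.1 * b.1) * g⁻¹ := by group
        _ = g * (b.1 * a.1) * g⁻¹ := by rw [this]
        _ = g * b.1 * g⁻¹ * (g * a.1 * g⁻¹) := by group

@[simp] theorem conjHom_coe (d g : G) (x : conjugatesOf d) :
    ((conjHom d g x : conjugatesOf d) : G) = g * x.1 * g⁻¹ := rfl

theorem comm_left_of_central {u a y : G} (h : u * (a * y * a⁻¹) = (a * y * a⁻¹) * u) :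
    ⁅u * a, y⁆ = ⁅a, y⁆ := by
  rw [commutatorElement_def, commutatorElement_def]
  calc u * a * y * (u * a)⁻¹ * y⁻¹ = (u * (a * y * a⁻¹)) * u⁻¹ * y⁻¹ := by group
    _ = a * y * a⁻¹ * y⁻¹ := by rw [h]; group

end aux

/-- Let G be a finite group with a quasisimple normal subgroup L and an involution d such that G is generated by L and d, the centre of L has odd order, and d inverts every element of the centre of L. If the commuting graph on the conjugacy class of the image of d in G modulo the centre of L is connected, then the commuting graph on the conjugacy class of d is connected. -/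
theorem result {G : Type*} [Group G] [Finite G] (L : Subgroup G) [L.Normal] (hL : Cfsg.IsQuasisimple ↥L) (d : G) (hd : orderOf d = 2) (hgen : L ⊔ Subgroup.zpowers d = ⊤) (hodd : Odd (Nat.card ↥(Subgroup.center ↥L))) (hinv : ∀ c ∈ (Subgroup.center ↥L).map L.subtype, d * c * d⁻¹ = c⁻¹) [hn : ((Subgroup.center ↥L).map L.subtype).Normal] (hconn : (Cfsg.commutingGraph (conjugatesOf (QuotientGroup.mk d : G ⧸ (Subgroup.center ↥L).map L.subtype))).Connected) : (Cfsg.commutingGraph (conjugatesOf d)).Connected := by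
  classical
  set Z : Subgroup G := (Subgroup.center ↥L).map L.subtype with hZ
  set φ := QuotientGroup.mk' Z with hφ
  have hsurj : Function.Surjective φ := QuotientGroup.mk'_surjective Z
  have hZL : Z ≤ L := Subgroup.map_subtype_le _
  have hZcent : ∀ u ∈ Z, ∀ a ∈ L, u * a = a * u := by
    rintro _ ⟨z, hz, rfl⟩ a ha
    have := Subgroup.mem_center_iff.mp hz ⟨a, ha⟩
    exact (congrArg Subtype.val this).symm
  have hsqrt : ∀ z ∈ Z, ∃ w ∈ Z, w * w = z := by
    intro z hz
    have hcard : Nat.card Z = Nat.card (Subgroup.center ↥L) :=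
      Subgroup.card_map_of_injective L.subtype_injective
    obtain ⟨m, hm⟩ := hodd
    refine ⟨z ^ (m + 1), Z.pow_mem hz _, ?_⟩
    have h1 : z ^ Nat.card Z = 1 := by
      have h := pow_card_eq_one' (G := Z) (x := ⟨z, hz⟩)
      have h' : ((⟨z, hz⟩ : Z) ^ Nat.card Z : Z).1 = (1 : Z).1 := by rw [h]
      rw [Subgroup.coe_pow] at h'
      exact h'
    rw [← pow_add]
    have : m + 1 + (m + 1) = Nat.card Z + 1 := by omega
    rw [this, pow_succ, h1, one_mul]
  have hinvD : ∀ e ∈ conjugatesOf d, ∀ w ∈ Z, e * w * e⁻¹ = w⁻¹ := by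
    intro e he w hw
    obtain ⟨c, rfl⟩ := mem_conj_iff.mp he
    have hw' : c⁻¹ * w * c ∈ Z := by simpa using hn.conj_mem w hw c⁻¹
    have := hinv _ hw'
    calc c * d * c⁻¹ * w * (c * d * c⁻¹)⁻¹ = c * (d * (c⁻¹ * w * c) * d⁻¹) * c⁻¹ := by group
      _ = c * (c⁻¹ * w * c)⁻¹ * c⁻¹ := by rw [this]
      _ = w⁻¹ := by group
  have hxz : ∀ x ∈ conjugatesOf d, ∀ z ∈ Z, ∃ u ∈ Z, x * z = u * x * u⁻¹ := by
    intro x hx z hz
    obtain ⟨u, hu, huu⟩ := hsqrt z⁻¹ (Z.inv_mem hz)
    refine ⟨u, hu, ?_⟩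
    have h1 := hinvD x hx u⁻¹ (Z.inv_mem hu)
    rw [inv_inv] at h1
    have h2 := hinvD x hx z hz
    calc x * z = (x * z * x⁻¹) * x := by group
      _ = z⁻¹ * x := by rw [h2]
      _ = u * u * x := by rw [huu]
      _ = u * (x * u⁻¹ * x⁻¹) * x := by rw [h1]
      _ = u * x * u⁻¹ := by group
  set Γ := Cfsg.commutingGraph (conjugatesOf d) with hΓ
  set d0 : conjugatesOf d := ⟨d, mem_conjugatesOf_self⟩ with hd0
  have hreach_conj : ∀ (g : G) (a b : conjugatesOf d), Γ.Reachable a b →
      Γ.Reachable (conjHom d g a) (conjHom d g b) := fun g a b h => h.map (conjHom d g)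
  let S : Subgroup G :=
    { carrier := {g | Γ.Reachable d0 (conjHom d g d0)}
      one_mem' := by
        change Γ.Reachable d0 (conjHom d 1 d0)
        have : conjHom d 1 d0 = d0 := Subtype.ext (by simp)
        rw [this]
      mul_mem' := by
        intro g h hg hh
        have h2 := hreach_conj g _ _ hh
        have : conjHom d g (conjHom d h d0) = conjHom d (g * h) d0 :=
          Subtype.ext (by simp only [conjHom_coe]; group)
        rw [this] at h2
        exact hg.trans h2
      inv_mem' := by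
        intro g hg
        have h2 := hreach_conj g⁻¹ _ _ hg
        have : conjHom d g⁻¹ (conjHom d g d0) = d0 :=
          Subtype.ext (by simp only [conjHom_coe]; group)
        rw [this] at h2
        exact h2.symm }
  have hS : ∀ g : G, g ∈ S ↔ Γ.Reachable d0 (conjHom d g d0) := fun g => Iff.rfl
  -- d ∈ S
  have hdS : d ∈ S := by
    rw [hS]
    have : conjHom d d d0 = d0 := Subtype.ext (by simp [hd0])
    rw [this]
  -- lifting
  set Γb := Cfsg.commutingGraph (conjugatesOf (φ d)) with hΓb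
  set db0 : conjugatesOf (φ d) := ⟨φ d, mem_conjugatesOf_self⟩ with hdb0
  have hlift : ∀ eb : conjugatesOf (φ d), Γb.Reachable db0 eb →
      ∃ e : conjugatesOf d, φ e.1 = eb.1 ∧ Γ.Reachable d0 e := by
    intro eb h
    rw [SimpleGraph.reachable_iff_reflTransGen] at h
    induction h with
    | refl => exact ⟨d0, rfl, SimpleGraph.Reachable.refl _⟩
    | tail hab hbc ih =>
      rename_i bb cb
      obtain ⟨e, he, hre⟩ := ih
      rw [hΓb] at hbc
      unfold Cfsg.commutingGraph at hbc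
      rw [SimpleGraph.fromRel_adj] at hbc
      obtain ⟨hne, hcomm⟩ := hbc
      have hcomm' : Commute (bb : G ⧸ Z) (cb : G ⧸ Z) := hcomm.elim id Commute.symm
      obtain ⟨ab, hab'⟩ := mem_conj_iff.mp cb.2
      obtain ⟨a, rfl⟩ := hsurj ab
      obtain ⟨x, hx⟩ : ∃ x, x = a * d * a⁻¹ := ⟨_, rfl⟩
      have hxD : x ∈ conjugatesOf d := mem_conj_iff.mpr ⟨a, hx.symm⟩
      have hφx : φ x = cb.1 := by rw [hx, map_mul, map_mul, map_inv, hab']
      have hz' : x⁻¹ * (e.1 * x * e.1⁻¹) ∈ Z := by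
        rw [← QuotientGroup.eq]
        change φ x = φ (e.1 * x * e.1⁻¹)
        rw [map_mul, map_mul, map_inv, he, hφx]
        have := hcomm'.eq
        rw [this]; group
      obtain ⟨w, hw, hww⟩ := hsqrt _ hz'
      have hew := hinvD e.1 e.2 w hw
      obtain ⟨u, hu, hxu⟩ := hxz x hxD w hw
      have he'D : x * w ∈ conjugatesOf d := by
        rw [hxu, hx]
        exact mem_conj_iff.mpr ⟨u * a, by group⟩
      have hφe' : φ (x * w) = cb.1 := by
        have hφw : φ w = 1 := (QuotientGroup.eq_one_iff w).mpr hw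
        rw [map_mul, hφw, mul_one, hφx]
      have hcomm2 : Commute e.1 (x * w) := by
        unfold Commute SemiconjBy
        have h1 : e.1 * x * e.1⁻¹ = x * (w * w) := by rw [hww]; group
        calc e.1 * (x * w) = (e.1 * x * e.1⁻¹) * (e.1 * w * e.1⁻¹) * e.1 := by group
          _ = x * (w * w) * w⁻¹ * e.1 := by rw [h1, hew]
          _ = x * w * e.1 := by group
      refine ⟨⟨x * w, he'D⟩, hφe', hre.trans (SimpleGraph.Adj.reachable ?_)⟩
      rw [hΓ]
      unfold Cfsg.commutingGraph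
      rw [SimpleGraph.fromRel_adj]
      refine ⟨?_, Or.inl hcomm2⟩
      intro heq
      apply hne
      apply Subtype.ext
      rw [← he, ← hφe']
      exact congrArg (fun t : conjugatesOf d => φ t.1) heq
  -- S Z = G
  have hSZ : ∀ g : G, ∃ u ∈ Z, u * g ∈ S := by
    intro g
    have hmem : φ (g * d * g⁻¹) ∈ conjugatesOf (φ d) :=
      mem_conj_iff.mpr ⟨φ g, by rw [map_mul, map_mul, map_inv]⟩
    obtain ⟨e, he, hre⟩ := hlift ⟨φ (g * d * g⁻¹), hmem⟩ (hconn.preconnected _ _)
    have hz1 : (g * d * g⁻¹)⁻¹ * e.1 ∈ Z := by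
      rw [← QuotientGroup.eq]
      exact he.symm
    obtain ⟨u, hu, hxu⟩ := hxz (g * d * g⁻¹) (mem_conj_iff.mpr ⟨g, rfl⟩) _ hz1
    refine ⟨u, hu, ?_⟩
    rw [hS]
    have : conjHom d (u * g) d0 = e := by
      apply Subtype.ext
      simp only [conjHom_coe, hd0]
      have : e.1 = (g * d * g⁻¹) * ((g * d * g⁻¹)⁻¹ * e.1) := by group
      rw [this, hxu]; group
    rw [this]; exact hre
  -- L ≤ S
  have hLS : L ≤ S := by
    have hperf : ⁅L, L⁆ = L := Subgroup.isPerfect_iff.mp hL.1
    rw [← hperf, Subgroup.commutator_le]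
    intro a ha b hb
    obtain ⟨u₁, hu₁, h1⟩ := hSZ a
    obtain ⟨u₂, hu₂, h2⟩ := hSZ b
    have e1 : ⁅u₁ * a, u₂ * b⁆ = ⁅a, u₂ * b⁆ := by
      apply comm_left_of_central
      apply hZcent u₁ hu₁
      exact L.mul_mem (L.mul_mem ha (L.mul_mem (hZL hu₂) hb)) (L.inv_mem ha)
    have e2 : ⁅u₂ * b, a⁆ = ⁅b, a⁆ := by
      apply comm_left_of_central
      apply hZcent u₂ hu₂
      exact L.mul_mem (L.mul_mem hb ha) (L.inv_mem hb)
    have e3 : ⁅a, u₂ * b⁆ = ⁅a, b⁆ := by
      rw [← commutatorElement_inv, e2, commutatorElement_inv]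
    have : ⁅a, b⁆ = ⁅u₁ * a, u₂ * b⁆ := by rw [e1, e3]
    rw [this]
    exact S.mul_mem (S.mul_mem (S.mul_mem h1 h2) (S.inv_mem h1)) (S.inv_mem h2)
  have hStop : S = ⊤ := by
    rw [eq_top_iff, ← hgen]
    refine sup_le hLS ?_
    rw [Subgroup.zpowers_le]
    exact hdS
  have hall : ∀ x : conjugatesOf d, Γ.Reachable d0 x := by
    intro x
    obtain ⟨c, hc⟩ := mem_conj_iff.mp x.2
    have hcS : c ∈ S := by rw [hStop]; exact Subgroup.mem_top c
    rw [hS] at hcS
    have : conjHom d c d0 = x := Subtype.ext (by simp only [conjHom_coe, hd0]; exact hc)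
    rw [this] at hcS
    exact hcS
  haveI : Nonempty ↑(conjugatesOf d) := ⟨d0⟩
  exact ⟨fun a b => (hall a).symm.trans (hall b)⟩

end Cfsg.Agent.S5459
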