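import Cfsg.Statements.S5541
import Mathlib

set_option autoImplicit false
open Cfsg

namespace Cfsg.Agent.S5541

/-- Let ρ be a representation of a group H on a finite-dimensional real vector space U whose only ρ-invariant subspaces are the zero subspace and U, and suppose U carries a non-zero ρ-invariant symmetric bilinear form. Then the following are equivalent: (1) there is a non-zero ρ-equivariant commutative bilinear product on U of which every ρ-equivariant bilinear product is a scalar multiple; (2) there is a non-zero ρ-invariant trilinear form on U that is symmetric under all permutations of its arguments and of which every ρ-invariant trilinear form is a scalar multiple. -/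
theorem result {H : Type*} [Group H] {U : Type*} [AddCommGroup U] [Module ℝ U] [FiniteDimensional ℝ U] (ρ : Representation ℝ H U) (hirr : ∀ W : Submodule ℝ U, (∀ g : H, W.map (ρ g) ≤ W) → W = ⊥ ∨ W = ⊤) (B : LinearMap.BilinForm ℝ U) (hB0 : B ≠ 0) (hBs : ∀ u v, B u v = B v u) (hBi : ∀ (g : H) (u v : U), B (ρ g u) (ρ g v) = B u v) : (∃ m : U →ₗ[ℝ] U →ₗ[ℝ] U, m ≠ 0 ∧ (∀ u v, m u v = m v u) ∧ (∀ (g : H) (u v : U), m (ρ g u) (ρ g v) = ρ g (m u v)) ∧ ∀ m' : U →ₗ[ℝ] U →ₗ[ℝ] U, (∀ (g : H) (u v : U), m' (ρ g u) (ρ g v) = ρ g (m' u v)) → ∃ c : ℝ, m' = c • m) ↔ (∃ t : U →ₗ[ℝ] U →ₗ[ℝ] U →ₗ[ℝ] ℝ, t ≠ 0 ∧ (∀ u v w, t u v w = t v u w ∧ t u v w = t u w v) ∧ (∀ (g : H) (u v w : U), t (ρ g u) (ρ g v) (ρ g w) = t u v w) ∧ ∀ t' : U →ₗ[ℝ] U →ₗ[ℝ] U →ₗ[ℝ] ℝ, (∀ (g : H) (u v w : U), t' (ρ g u) (ρ g v) (ρ g w) = t' u v w) → ∃ c : ℝ, t' = c • t) := by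
  classical
  -- inverse action
  have hinv : ∀ (g : H) (v : U), ρ g (ρ g⁻¹ v) = v := by
    intro g v
    rw [← Module.End.mul_apply, ← map_mul, mul_inv_cancel, map_one, Module.End.one_apply]
  -- the radical is invariant, hence trivial
  have hsepL : ∀ x : U, (∀ y, B x y = 0) → x = 0 := by
    set R : Submodule ℝ U := LinearMap.ker B with hR
    have hRmem : ∀ x, x ∈ R ↔ ∀ y, B x y = 0 := by
      intro x
      rw [hR, LinearMap.mem_ker]
      constructor
      · intro h y; rw [h]; rfl
      · intro h; ext y; exact h y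
    have hRinv : ∀ g : H, R.map (ρ g) ≤ R := by
      intro g x hx
      obtain ⟨x0, hx0, rfl⟩ := Submodule.mem_map.mp hx
      rw [hRmem] at hx0 ⊢
      intro y
      rw [← hinv g y, hBi]
      exact hx0 _
    rcases hirr R hRinv with h | h
    · intro x hx
      have : x ∈ R := (hRmem x).mpr hx
      rw [h] at this
      exact (Submodule.mem_bot ℝ).mp this
    · exfalso
      apply hB0
      ext x y
      have : x ∈ R := by rw [h]; trivial
      exact (hRmem x).mp this y
  have hnd : B.Nondegenerate := by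
    refine ⟨hsepL, ?_⟩
    intro y hy
    apply hsepL
    intro x
    rw [hBs]; exact hy x
  have hext : ∀ x y : U, (∀ w, B x w = B y w) → x = y := by
    intro x y h
    have : x - y = 0 := by
      apply hsepL
      intro w
      rw [map_sub, LinearMap.sub_apply, h w, sub_self]
    exact sub_eq_zero.mp this
  -- the two correspondences
  let toT : (U →ₗ[ℝ] U →ₗ[ℝ] U) → (U →ₗ[ℝ] U →ₗ[ℝ] U →ₗ[ℝ] ℝ) := fun m => m.compr₂ B
  let toM : (U →ₗ[ℝ] U →ₗ[ℝ] U →ₗ[ℝ] ℝ) → (U →ₗ[ℝ] U →ₗ[ℝ] U) := fun t =>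
    t.compr₂ ((B.toDual hnd).symm : Module.Dual ℝ U →ₗ[ℝ] U)
  have htoT : ∀ m u v w, toT m u v w = B (m u v) w := fun m u v w => rfl
  have htoM : ∀ t u v w, B (toM t u v) w = t u v w := by
    intro t u v w
    change B ((B.toDual hnd).symm (t u v)) w = t u v w
    exact LinearMap.BilinForm.apply_toDual_symm_apply (t u v) w
  have hTinv : ∀ m : U →ₗ[ℝ] U →ₗ[ℝ] U, (∀ (g : H) (u v : U), m (ρ g u) (ρ g v) = ρ g (m u v)) →
      ∀ (g : H) (u v w : U), toT m (ρ g u) (ρ g v) (ρ g w) = toT m u v w := by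
    intro m hm g u v w
    rw [htoT, htoT, hm, hBi]
  have hMeq : ∀ t : U →ₗ[ℝ] U →ₗ[ℝ] U →ₗ[ℝ] ℝ,
      (∀ (g : H) (u v w : U), t (ρ g u) (ρ g v) (ρ g w) = t u v w) →
      ∀ (g : H) (u v : U), toM t (ρ g u) (ρ g v) = ρ g (toM t u v) := by
    intro t ht g u v
    apply hext
    intro w
    rw [htoM]
    have h1 : t (ρ g u) (ρ g v) w = t u v (ρ g⁻¹ w) := by
      rw [← ht g u v (ρ g⁻¹ w), hinv]
    have h2 : B (ρ g (toM t u v)) w = B (toM t u v) (ρ g⁻¹ w) := by
      rw [← hBi g (toM t u v) (ρ g⁻¹ w), hinv]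
    rw [h1, h2, htoM]
  constructor
  · rintro ⟨m, hm0, hmc, hme, hmu⟩
    have ht0 : toT m ≠ 0 := by
      intro h
      apply hm0
      ext u v
      apply hext
      intro w
      rw [← htoT, h]
      simp
    have htu : ∀ t' : U →ₗ[ℝ] U →ₗ[ℝ] U →ₗ[ℝ] ℝ,
        (∀ (g : H) (u v w : U), t' (ρ g u) (ρ g v) (ρ g w) = t' u v w) → ∃ c : ℝ, t' = c • toT m := by
      intro t' ht'
      obtain ⟨c, hc⟩ := hmu (toM t') (hMeq t' ht')
      refine ⟨c, ?_⟩
      ext u v w
      rw [← htoM t' u v w, hc]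
      simp only [LinearMap.smul_apply, smul_eq_mul, map_smul]
      rw [htoT]
    have hs1 : ∀ u v w, toT m u v w = toT m v u w := by
      intro u v w
      rw [htoT, htoT, hmc]
    refine ⟨toT m, ht0, ?_, hTinv m hme, htu⟩
    -- symmetry in the last two arguments
    set t := toT m with ht
    let t'' : U →ₗ[ℝ] U →ₗ[ℝ] U →ₗ[ℝ] ℝ := (LinearMap.lflip (R := ℝ) (M := U) (N := U) (P := ℝ)).comp t
    have ht'' : ∀ u v w, t'' u v w = t u w v := fun u v w => rfl
    obtain ⟨c, hc⟩ := htu t'' (by
      intro g u v w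
      rw [ht'', ht'', hTinv m hme])
    have hc' : ∀ u v w, t u w v = c * t u v w := by
      intro u v w
      rw [← ht'', hc]
      simp
    obtain ⟨u0, v0, w0, h0⟩ : ∃ u v w, t u v w ≠ 0 := by
      by_contra hall
      push Not at hall
      apply ht0
      ext u v w
      exact hall u v w
    have hcc : c * c = 1 := by
      have h1 := hc' u0 v0 w0
      have h2 := hc' u0 w0 v0
      rw [h1] at h2
      have : (c * c - 1) * t u0 v0 w0 = 0 := by linear_combination -h2
      rcases mul_eq_zero.mp this with h | h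
      · linarith
      · exact absurd h h0
    have hcs : c = 1 ∨ c = -1 := by
      have : (c - 1) * (c + 1) = 0 := by linear_combination hcc
      rcases mul_eq_zero.mp this with h | h
      · left; linarith
      · right; linarith
    rcases hcs with rfl | rfl
    · intro u v w
      refine ⟨hs1 u v w, ?_⟩
      have := hc' u v w
      rw [one_mul] at this
      exact this.symm
    · exfalso
      apply h0
      have a1 : ∀ x y z, t x y z = -t x z y := by
        intro x y z
        have := hc' x y z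
        linarith
      have e1 := a1 u0 v0 w0
      have e2 := hs1 u0 w0 v0
      have e3 := a1 w0 u0 v0
      have e4 := hs1 w0 v0 u0
      have e5 := a1 v0 w0 u0
      have e6 := hs1 v0 u0 w0
      linarith
  · rintro ⟨t, ht0, hts, hti, htu⟩
    have hm0 : toM t ≠ 0 := by
      intro h
      apply ht0
      ext u v w
      rw [← htoM, h]
      simp
    refine ⟨toM t, hm0, ?_, hMeq t hti, ?_⟩
    · intro u v
      apply hext
      intro w
      rw [htoM, htoM]
      exact (hts u v w).1
    · intro m' hm'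
      obtain ⟨c, hc⟩ := htu (toT m') (hTinv m' hm')
      refine ⟨c, ?_⟩
      ext u v
      apply hext
      intro w
      rw [← htoT, hc]
      simp only [LinearMap.smul_apply, smul_eq_mul, map_smul]
      rw [htoM]

end Cfsg.Agent.S5541
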