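import Cfsg.Statements.S5543
import Mathlib
import Cfsg.Agent.Helper4.Majorana

set_option autoImplicit false
open Cfsg

namespace Cfsg.Agent.S5543

section Aux

open Cfsg.Agent.Helper4.Majorana

variable {V : Type*} [AddCommGroup V] [Module ℝ V]
variable {mul : V →ₗ[ℝ] V →ₗ[ℝ] V} {B : LinearMap.BilinForm ℝ V}
variable {X : Subgroup (V ≃ₗ[ℝ] V)} {ax : (V ≃ₗ[ℝ] V) → V}

theorem mul_cancel_left' (hX : ∀ x ∈ X, x * x = 1) {u : V ≃ₗ[ℝ] V} (hu : u ∈ X) (w : V ≃ₗ[ℝ] V) :
    u * (u * w) = w := by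
  rw [← mul_assoc, hX u hu, one_mul]

theorem comm_of_sq (hX : ∀ x ∈ X, x * x = 1) {u w : V ≃ₗ[ℝ] V} (hu : u ∈ X) (hw : w ∈ X) :
    u * w = w * u := by
  have h1 := hX (u * w) (X.mul_mem hu hw)
  have h2 : u * w = (u * w)⁻¹ := eq_inv_of_mul_eq_one_left h1
  rw [h2, mul_inv_rev, inv_eq_of_mul_eq_one_left (hX u hu), inv_eq_of_mul_eq_one_left (hX w hw)]

theorem mul_ne_one (hX : ∀ x ∈ X, x * x = 1) {u w : V ≃ₗ[ℝ] V} (hu : u ∈ X) (huw : u ≠ w) :
    u * w ≠ 1 := by
  intro h
  apply huw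
  have := mul_cancel_left' hX hu w
  rw [h, mul_one] at this
  exact this

theorem ne_mul_self {u w : V ≃ₗ[ℝ] V} (hw1 : w ≠ 1) : u ≠ u * w := by
  intro h
  apply hw1
  have : u * 1 = u * w := by rw [mul_one]; exact h
  exact (mul_left_cancel this).symm

/-- Any two distinct axes have inner product `1/8`. -/
theorem inner_eq (hV : Cfsg.Axial.IsMajoranaAmbient mul B) (hX : ∀ x ∈ X, x * x = 1)
    (hax : ∀ x ∈ X, x ≠ 1 → Cfsg.Axial.IsMajoranaPair mul B x (ax x))
    (h1 : ∀ x ∈ X, x ≠ 1 → B (ax x) (ax x) = 1)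
    (h2A : ∀ x ∈ X, ∀ y ∈ X, x ≠ 1 → y ≠ 1 → x ≠ y →
      mul (ax x) (ax y) = (1 / 8 : ℝ) • (ax x + ax y - ax (x * y)))
    {u w : V ≃ₗ[ℝ] V} (hu : u ∈ X) (hw : w ∈ X) (hu1 : u ≠ 1) (hw1 : w ≠ 1) (huw : u ≠ w) :
    B (ax u) (ax w) = 1 / 8 := by
  have hcomm : ∀ a b, mul a b = mul b a := hV.1
  have hsymm : ∀ a b, B a b = B b a := hV.2.1
  have hass : ∀ a b c : V, B a (mul b c) = B (mul a b) c := hV.2.2.2.1
  have haa : mul (ax u) (ax u) = ax u := mul_self (hax u hu hu1)
  -- general computation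
  have gen : ∀ w' ∈ X, w' ≠ 1 → u ≠ w' →
      B (ax u) (ax w') = (1 / 8 : ℝ) * (1 + B (ax u) (ax w') - B (ax u) (ax (u * w'))) := by
    intro w' hw' hw'1 huw'
    have e1 : B (mul (ax u) (ax w')) (ax u) = B (ax u) (ax w') := by
      rw [← hass, hcomm (ax w') (ax u), hass, haa]
    rw [h2A u hu w' hw' hu1 hw'1 huw'] at e1
    simp only [map_add, map_sub, map_smul, LinearMap.add_apply, LinearMap.sub_apply,
      LinearMap.smul_apply, smul_eq_mul] at e1
    rw [h1 u hu hu1, hsymm (ax w') (ax u), hsymm (ax (u * w')) (ax u)] at e1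
    linarith
  have g1 := gen w hw hw1 huw
  have g2 := gen (u * w) (X.mul_mem hu hw) (mul_ne_one hX hu huw) (ne_mul_self hw1)
  rw [mul_cancel_left' hX hu w] at g2
  linarith

/-- `a_w - a_{uw}` is a `1/4`-eigenvector of `a_u`. -/
theorem quarter_eigen (hX : ∀ x ∈ X, x * x = 1)
    (h2A : ∀ x ∈ X, ∀ y ∈ X, x ≠ 1 → y ≠ 1 → x ≠ y →
      mul (ax x) (ax y) = (1 / 8 : ℝ) • (ax x + ax y - ax (x * y)))
    {u w : V ≃ₗ[ℝ] V} (hu : u ∈ X) (hw : w ∈ X) (hu1 : u ≠ 1) (hw1 : w ≠ 1) (huw : u ≠ w) :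
    mul (ax u) (ax w - ax (u * w)) = (1 / 4 : ℝ) • (ax w - ax (u * w)) := by
  have e1 := h2A u hu w hw hu1 hw1 huw
  have e2 := h2A u hu (u * w) (X.mul_mem hu hw) hu1 (mul_ne_one hX hu huw) (ne_mul_self hw1)
  rw [mul_cancel_left' hX hu w] at e2
  rw [map_sub, e1, e2]
  module

end Aux

/-- Let V be a finite-dimensional real vector space with a commutative bilinear product and a positive-definite symmetric bilinear form that associates with the product and satisfies the Norton inequality (the Majorana setting of the definitions). Let X be a group of linear automorphisms of V in which every element squares to the identity, and suppose every non-identity element x of X is a Majorana involution with an axial vector a(x) of squared length 1, such that for any two distinct non-identity x, y the product a(x) ∘ a(y) equals (1/8)(a(x) + a(y) − a(xy)) (the dihedral subalgebra of type 2A whose third axis belongs to the involution xy). Then X has order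 at most 4. -/
theorem result {V : Type*} [AddCommGroup V] [Module ℝ V] [FiniteDimensional ℝ V] (mul : V →ₗ[ℝ] V →ₗ[ℝ] V) (B : LinearMap.BilinForm ℝ V) (hV : Cfsg.Axial.IsMajoranaAmbient mul B) (X : Subgroup (V ≃ₗ[ℝ] V)) (hX : ∀ x ∈ X, x * x = 1) (ax : (V ≃ₗ[ℝ] V) → V) (hax : ∀ x ∈ X, x ≠ 1 → Cfsg.Axial.IsMajoranaPair mul B x (ax x)) (h1 : ∀ x ∈ X, x ≠ 1 → B (ax x) (ax x) = 1) (h2A : ∀ x ∈ X, ∀ y ∈ X, x ≠ 1 → y ≠ 1 → x ≠ y → mul (ax x) (ax y) = (1 / 8 : ℝ) • (ax x + ax y - ax (x * y))) : Nat.card ↥X ≤ 4 := by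
  classical
  by_contra hcard
  push Not at hcard
  have : Finite ↥X := Nat.finite_of_card_ne_zero (by omega)
  have : Fintype ↥X := Fintype.ofFinite ↥X
  rw [Nat.card_eq_fintype_card] at hcard
  -- an element outside any four given ones
  have hex : ∀ F : Finset ↥X, F.card ≤ 4 → ∃ z : ↥X, z ∉ F := by
    intro F hF
    by_contra hall
    push Not at hall
    have : F = Finset.univ := Finset.eq_univ_iff_forall.mpr hall
    rw [this, Finset.card_univ] at hF
    omega
  obtain ⟨x, hx⟩ := hex {1} (by simp)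
  obtain ⟨y, hy⟩ := hex {1, x} (Finset.card_le_two.trans (by norm_num))
  obtain ⟨z, hz⟩ := hex {1, x, y, x * y} (Finset.card_le_four)
  simp only [Finset.mem_insert, Finset.mem_singleton, not_or] at hx hy hz
  obtain ⟨hy1, hyx⟩ := hy
  obtain ⟨hz1, hzx, hzy, hzxy⟩ := hz
  -- pass to the ambient group
  obtain ⟨x, hxX⟩ := x
  obtain ⟨y, hyX⟩ := y
  obtain ⟨z, hzX⟩ := z
  have hx1 : x ≠ 1 := fun h => hx (Subtype.ext h)
  have hy1 : y ≠ 1 := fun h => hy1 (Subtype.ext h)
  have hz1 : z ≠ 1 := fun h => hz1 (Subtype.ext h)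
  have hyx : y ≠ x := fun h => hyx (Subtype.ext h)
  have hzx : z ≠ x := fun h => hzx (Subtype.ext h)
  have hzy : z ≠ y := fun h => hzy (Subtype.ext h)
  have hzxy : z ≠ x * y := fun h => hzxy (Subtype.ext h)
  have hxyX : x * y ∈ X := X.mul_mem hxX hyX
  have hxzX : x * z ∈ X := X.mul_mem hxX hzX
  have hyzX : y * z ∈ X := X.mul_mem hyX hzX
  have hcomm : ∀ a b, mul a b = mul b a := hV.1
  -- group identities
  have c1 : y * (x * z) = x * (y * z) := by
    rw [← mul_assoc, comm_of_sq hX hyX hxX, mul_assoc]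
  have c2 : x * y * z = x * (y * z) := mul_assoc _ _ _
  have c3 : x * y * (x * z) = y * z := by
    rw [comm_of_sq hX hxX hyX, mul_assoc, mul_cancel_left' hX hxX]
  -- distinctness
  have d1 : y ≠ x * z := by
    intro h
    apply hzxy
    rw [h, mul_cancel_left' hX hxX]
  have d2 : x * y ≠ x * z := fun h => hzy (mul_left_cancel h).symm
  have d3 : x ≠ y * z := by
    intro h
    apply hzxy
    rw [h, comm_of_sq hX hyX hzX, mul_assoc, hX y hyX, mul_one]
  have hxy1 : x * y ≠ 1 := mul_ne_one hX hxX hyx.symm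
  have hxz1 : x * z ≠ 1 := mul_ne_one hX hxX hzx.symm
  have hyz1 : y * z ≠ 1 := mul_ne_one hX hyX hzy.symm
  -- the two 1/4-eigenvectors and their product
  have ev := quarter_eigen hX h2A hxX hyX hx1 hy1 hyx.symm
  have ew := quarter_eigen hX h2A hxX hzX hx1 hz1 hzx.symm
  have eT := quarter_eigen hX h2A hxX hyzX hx1 hyz1 d3
  have hprod : mul (ax y - ax (x * y)) (ax z - ax (x * z)) =
      (-(1 / 4) : ℝ) • (ax (y * z) - ax (x * (y * z))) := by
    have p1 := h2A y hyX z hzX hy1 hz1 hzy.symm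
    have p2 := h2A y hyX (x * z) hxzX hy1 hxz1 d1
    have p3 := h2A (x * y) hxyX z hzX hxy1 hz1 hzxy.symm
    have p4 := h2A (x * y) hxyX (x * z) hxzX hxy1 hxz1 d2
    rw [c1] at p2
    rw [c2] at p3
    rw [c3] at p4
    simp only [map_sub, LinearMap.sub_apply]
    rw [p1, p2, p3, p4]
    module
  obtain ⟨κ, z0, hκ, hz0⟩ := Cfsg.Agent.Helper4.Majorana.fusion44 (hax x hxX hx1) ev ew
  rw [hprod] at hκ
  obtain ⟨T, hT⟩ : ∃ T : V, T = ax (y * z) - ax (x * (y * z)) := ⟨_, rfl⟩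
  rw [← hT] at hκ eT
  have haa : mul (ax x) (ax x) = ax x := Cfsg.Agent.Helper4.Majorana.mul_self (hax x hxX hx1)
  have k1 : (-(1 / 16) : ℝ) • T = κ • ax x := by
    have := congrArg (mul (ax x)) hκ
    simp only [map_add, map_smul] at this
    rw [eT, haa, hz0] at this
    linear_combination (norm := module) (1 / 1 : ℝ) • this
  have k2 : (-(1 / 64) : ℝ) • T = κ • ax x := by
    have := congrArg (mul (ax x)) k1
    simp only [map_smul] at this
    rw [eT, haa] at this
    linear_combination (norm := module) (1 / 1 : ℝ) • this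
  have hT0 : T = 0 := by
    linear_combination (norm := module) (-(64 / 3) : ℝ) • k1 + (64 / 3 : ℝ) • k2
  have heq : ax (y * z) = ax (x * (y * z)) := by
    rw [hT] at hT0
    exact sub_eq_zero.mp hT0
  have hin := inner_eq hV hX hax h1 h2A hyzX (X.mul_mem hxX hyzX) hyz1
    (mul_ne_one hX hxX d3) (fun h => hx1 (by
      have : 1 * (y * z) = x * (y * z) := by rw [one_mul]; exact h
      exact (mul_right_cancel this).symm))
  rw [← heq, h1 _ hyzX hyz1] at hin
  norm_num at hin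

end Cfsg.Agent.S5543
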