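import Cfsg.Statements.S5545
import Mathlib
import Cfsg.Agent.Helper4.Majorana

set_option autoImplicit false
open Cfsg

namespace Cfsg.Agent.S5545

/-- Let V be a finite-dimensional real vector space with a commutative bilinear product and a positive-definite symmetric bilinear form that associates with the product and satisfies the Norton inequality (the Majorana setting of the definitions). Let μ₀, μ₁ be commuting Majorana involutions with distinct axial vectors a₀ ≠ a₁ of squared length 1, each involution having no other axial vector. Then either a₀ and a₁ are orthogonal with a₀ ∘ a₁ = 0 (type 2B), or their inner product is 1/8 and, with a₂ = a₀ + a₁ − 8 a₀ ∘ a₁, the vector a₂ is an idempotent and a₀ ∘ a₂ = (1/8)(a₀ + a₂ − a₁), a₁ ∘ a₂ = (1/8)(a₁ + a₂ − a₀) (type 2A: the three idempotents span a subalgebra with aᵢ ∘ aⱼ = (1/8)(aᵢ + aⱼ − aₖ)). -/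
theorem result {V : Type*} [AddCommGroup V] [Module ℝ V] [FiniteDimensional ℝ V] (mul : V →ₗ[ℝ] V →ₗ[ℝ] V) (B : LinearMap.BilinForm ℝ V) (hV : Cfsg.Axial.IsMajoranaAmbient mul B) (μ₀ μ₁ : V ≃ₗ[ℝ] V) (a₀ a₁ : V) (h₀ : Cfsg.Axial.IsMajoranaPair mul B μ₀ a₀) (h₁ : Cfsg.Axial.IsMajoranaPair mul B μ₁ a₁) (hu₀ : ∀ a : V, Cfsg.Axial.IsMajoranaPair mul B μ₀ a → a = a₀) (hu₁ : ∀ a : V, Cfsg.Axial.IsMajoranaPair mul B μ₁ a → a = a₁) (hn₀ : B a₀ a₀ = 1) (hn₁ : B a₁ a₁ = 1) (hc : μ₀ * μ₁ = μ₁ * μ₀) (hne : a₀ ≠ a₁) : (B a₀ a₁ = 0 ∧ mul a₀ a₁ = 0) ∨ (B a₀ a₁ = 1 / 8 ∧ mul (a₀ + a₁ - (8 : ℝ) • mul a₀ a₁) (a₀ + a₁ - (8 : ℝ) • mul a₀ a₁) = a₀ + a₁ - (8 : ℝ) • mul a₀ a₁ ∧ mul a₀ (a₀ + a₁ - (8 : ℝ) • mul a₀ a₁) = (1 / 8 : ℝ) • (a₀ + (a₀ + a₁ - (8 : ℝ) • mul a₀ a₁) - a₁) ∧ mul a₁ (a₀ + a₁ - (8 : ℝ) • mul a₀ a₁) = (1 / 8 : ℝ) • (a₁ + (a₀ + a₁ - (8 : ℝ) • mul a₀ a₁) - a₀)) := by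
  have hcomm : ∀ u v, mul u v = mul v u := hV.1
  have hsymm : ∀ u v, B u v = B v u := hV.2.1
  have hpos : ∀ u : V, u ≠ 0 → 0 < B u u := hV.2.2.1
  -- each involution fixes the other axis
  have hfix01 : μ₀ a₁ = a₁ := by
    have h := Cfsg.Agent.Helper4.Majorana.transport h₁ μ₀ h₀.1 h₀.2.1
    have e : μ₀ * μ₁ * μ₀⁻¹ = μ₁ := by rw [hc, mul_inv_cancel_right]
    rw [e] at h
    exact hu₁ _ h
  have hfix10 : μ₁ a₀ = a₀ := by
    have h := Cfsg.Agent.Helper4.Majorana.transport h₀ μ₁ h₁.1 h₁.2.1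
    have e : μ₁ * μ₀ * μ₁⁻¹ = μ₀ := by rw [← hc, mul_inv_cancel_right]
    rw [e] at h
    exact hu₀ _ h
  have haa0 : mul a₀ a₀ = a₀ := Cfsg.Agent.Helper4.Majorana.mul_self h₀
  have haa1 : mul a₁ a₁ = a₁ := Cfsg.Agent.Helper4.Majorana.mul_self h₁
  obtain ⟨v0, v4, hdec, hv0, hv4, hv04, hBv4⟩ :=
    Cfsg.Agent.Helper4.Majorana.key hV h₀ hn₀ haa1 hfix01
  obtain ⟨w0, w4, hdec', hw0, hw4, hw04, hBw4⟩ :=
    Cfsg.Agent.Helper4.Majorana.key hV h₁ hn₁ haa0 hfix10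
  rw [hsymm a₁ a₀] at hdec' hw04 hBw4
  obtain ⟨l, hl⟩ : ∃ l : ℝ, l = B a₀ a₁ := ⟨_, rfl⟩
  rw [← hl] at hdec hv04 hBv4 hdec' hw04 hBw4
  obtain ⟨s, hs⟩ : ∃ s : V, s = mul a₀ a₁ := ⟨_, rfl⟩
  have hs01 : mul a₀ a₁ = s := hs.symm
  have hs10 : mul a₁ a₀ = s := by rw [hcomm]; exact hs01
  -- s in terms of the components
  have hsv : s = l • a₀ + (1 / 4 : ℝ) • v4 := by
    have h1 : mul a₀ a₁ = mul a₀ (l • a₀ + v0 + v4) := by rw [← hdec]
    simp only [map_add, map_smul] at h1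
    rw [haa0, hv0, hv4, hs01] at h1
    rw [h1]; module
  have hsw : s = l • a₁ + (1 / 4 : ℝ) • w4 := by
    have h1 : mul a₁ a₀ = mul a₁ (l • a₁ + w0 + w4) := by rw [← hdec']
    simp only [map_add, map_smul] at h1
    rw [haa1, hw0, hw4, hs10] at h1
    rw [h1]; module
  have ev4 : v4 = (4 : ℝ) • s - (4 * l) • a₀ := by
    linear_combination (norm := module) (-4 : ℝ) • hsv
  have ew4 : w4 = (4 : ℝ) • s - (4 * l) • a₁ := by
    linear_combination (norm := module) (-4 : ℝ) • hsw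
  have ev0 : v0 = a₁ + (3 * l) • a₀ - (4 : ℝ) • s := by
    linear_combination (norm := module) (-1 : ℝ) • hdec + (4 : ℝ) • hsv
  have ew0 : w0 = a₀ + (3 * l) • a₁ - (4 : ℝ) • s := by
    linear_combination (norm := module) (-1 : ℝ) • hdec' + (4 : ℝ) • hsw
  -- the products a₀ s and a₁ s
  have has0 : mul a₀ s = (1 / 4 : ℝ) • s + (3 / 4 * l) • a₀ := by
    have h1 := hv4
    rw [ev4] at h1
    simp only [map_sub, map_smul] at h1
    rw [haa0] at h1
    linear_combination (norm := module) (1 / 4 : ℝ) • h1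
  have has1 : mul a₁ s = (1 / 4 : ℝ) • s + (3 / 4 * l) • a₁ := by
    have h1 := hw4
    rw [ew4] at h1
    simp only [map_sub, map_smul] at h1
    rw [haa1] at h1
    linear_combination (norm := module) (1 / 4 : ℝ) • h1
  have hsa0 : mul s a₀ = (1 / 4 : ℝ) • s + (3 / 4 * l) • a₀ := by rw [hcomm]; exact has0
  have hsa1 : mul s a₁ = (1 / 4 : ℝ) • s + (3 / 4 * l) • a₁ := by rw [hcomm]; exact has1
  -- the square of s, computed in two ways
  have hss0 : (16 : ℝ) • mul s s = (4 * l - 1) • s + (3 * l) • a₁ + (8 * l ^ 2 + 2 * l) • a₀ := by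
    have h1 := hv04
    rw [ev0, ev4] at h1
    simp only [map_sub, map_add, map_smul, LinearMap.sub_apply, LinearMap.add_apply,
      LinearMap.smul_apply] at h1
    rw [haa0, hs10, has0, has1, hsa0] at h1
    linear_combination (norm := module) (-1 : ℝ) • h1
  have hss1 : (16 : ℝ) • mul s s = (4 * l - 1) • s + (3 * l) • a₀ + (8 * l ^ 2 + 2 * l) • a₁ := by
    have h1 := hw04
    rw [ew0, ew4] at h1
    simp only [map_sub, map_add, map_smul, LinearMap.sub_apply, LinearMap.add_apply,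
      LinearMap.smul_apply] at h1
    rw [haa1, hs01, has0, has1, hsa1] at h1
    linear_combination (norm := module) (-1 : ℝ) • h1
  have hlam : (8 * l ^ 2 - l) • (a₀ - a₁) = 0 := by
    linear_combination (norm := module) (1 / 1 : ℝ) • hss1 - (1 / 1 : ℝ) • hss0
  have hl2 : l * (8 * l - 1) = 0 := by
    rcases smul_eq_zero.mp hlam with h1 | h1
    · linear_combination h1
    · exact absurd (sub_eq_zero.mp h1) hne
  rcases mul_eq_zero.mp hl2 with hl0 | hl8
  · left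
    refine ⟨by rw [← hl]; exact hl0, ?_⟩
    have hv4z : v4 = 0 := by
      by_contra hv4ne
      have := hpos v4 hv4ne
      rw [hBv4, hl0] at this
      norm_num at this
    rw [hs01, hsv, hl0, hv4z]
    simp
  · right
    have hl8' : l = 1 / 8 := by linarith
    rw [hl8'] at has0 has1 hsa0 hsa1 hss0
    refine ⟨by rw [← hl]; exact hl8', ?_, ?_, ?_⟩
    · rw [hs01]
      simp only [map_sub, map_add, map_smul, LinearMap.sub_apply, LinearMap.add_apply,
        LinearMap.smul_apply]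
      rw [haa0, haa1, hs01, hs10, has0, has1, hsa0, hsa1]
      linear_combination (norm := module) (4 : ℝ) • hss0
    · rw [hs01]
      simp only [map_sub, map_add, map_smul]
      rw [haa0, hs01, has0]
      module
    · rw [hs01]
      simp only [map_sub, map_add, map_smul]
      rw [haa1, hs10, has1]
      module

end Cfsg.Agent.S5545
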