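import Cfsg.Statements.S5550
import Cfsg.Agent.Helper27.GolayCosets
import Cfsg.Agent.Helper27.GolayIrred

set_option autoImplicit false
open Cfsg

namespace Cfsg.Agent.S5550

/-- Let u be a word of the length-24 binary Golay code of the definitions (possibly zero or all-ones) and w any binary word of length 24 outside the code. Then some automorphism of the code (a coordinate permutation preserving it) fixes u but moves w to a word not congruent to w modulo the code: the stabilizer of a codeword fixes no non-zero element of the quotient of the space of all words by the code. -/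
theorem result (u : (Cfsg.GolayPt → ZMod 2)) (hu : u ∈ Cfsg.golayCode) (w : (Cfsg.GolayPt → ZMod 2)) (hw : w ∉ Cfsg.golayCode) : ∃ σ ∈ Cfsg.M24, (fun p => u (σ.symm p)) = u ∧ (fun p => w (σ.symm p)) - w ∉ Cfsg.golayCode := by
  have hone : (1 : Cfsg.GolayPt → ZMod 2) ∈ Cfsg.golayCode := by
    rw [Cfsg.Agent.Helper27.one_eq]
    exact Cfsg.Agent.Helper27.decW_gens_mem _ (by simp [Cfsg.Agent.Helper27.gensL])
  have hwt1 : hammingNorm (u + 1) + hammingNorm u = 24 := by
    have h1 := Cfsg.Agent.Helper27.card_symmDiff_add (Cfsg.support₂ u) (Cfsg.support₂ (1 : Cfsg.GolayPt → ZMod 2))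
    rw [← Cfsg.Agent.Helper27.support₂_add, Cfsg.Agent.Helper27.support₂_one, Finset.inter_univ,
      Cfsg.Agent.Helper27.card_support_eq_hammingNorm, Cfsg.Agent.Helper27.card_support_eq_hammingNorm] at h1
    have h2 : (Finset.univ : Finset Cfsg.GolayPt).card = 24 := by decide
    omega
  have hact1 : ∀ k : Equiv.Perm Cfsg.GolayPt, Cfsg.Agent.Helper27.actW k (1 : Cfsg.GolayPt → ZMod 2) = 1 := fun k => rfl
  have huu : u = (u + 1) + 1 := by
    funext p
    simp only [Pi.add_apply, Pi.one_apply]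
    rw [add_assoc, CharTwo.add_self_eq_zero, add_zero]
  rcases Cfsg.Agent.Helper27.golay_weights hu with h | h | h | h | h
  · have h0 : u = 0 := hammingNorm_eq_zero.mp h
    exact Cfsg.Agent.Helper27.coset_moved_of_conj Cfsg.Agent.Helper27.check_M24_zero (Subgroup.one_mem _)
      (by rw [Cfsg.Agent.Helper27.actW_one, h0, Cfsg.Agent.Helper27.decW_zero]) hw
  · have ho : Cfsg.support₂ u ∈ Cfsg.octads := ⟨⟨u, hu, rfl⟩, h⟩
    obtain ⟨k, hk, hko⟩ := Cfsg.Agent.Helper27.M24_octad_transitive _ _ ho Cfsg.Agent.Helper27.oct0_mem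
    exact Cfsg.Agent.Helper27.coset_moved_of_conj Cfsg.Agent.Helper27.check_oct hk
      (Cfsg.Agent.Helper27.actW_eq_of_smul_support hko) hw
  · have hd : Cfsg.support₂ u ∈ Cfsg.dodecads := ⟨⟨u, hu, rfl⟩, h⟩
    obtain ⟨k, hk, hkd⟩ := Cfsg.Agent.Helper27.exists_smul_eq_dod0 hd
    exact Cfsg.Agent.Helper27.coset_moved_of_conj Cfsg.Agent.Helper27.check_dod hk
      (Cfsg.Agent.Helper27.actW_eq_of_smul_support hkd) hw
  · have hu1 : u + 1 ∈ Cfsg.golayCode := Cfsg.golayCode.add_mem hu hone
    have ho : Cfsg.support₂ (u + 1) ∈ Cfsg.octads := ⟨⟨u + 1, hu1, rfl⟩, by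
      rw [Cfsg.Agent.Helper27.card_support_eq_hammingNorm]; omega⟩
    obtain ⟨k, hk, hko⟩ := Cfsg.Agent.Helper27.M24_octad_transitive _ _ ho Cfsg.Agent.Helper27.oct0_mem
    have h1 := Cfsg.Agent.Helper27.actW_eq_of_smul_support hko
    have h2 : Cfsg.Agent.Helper27.actW k u =
        Cfsg.Agent.Helper27.decW (Cfsg.Agent.Helper27.onesMask ^^^ Cfsg.Agent.Helper27.oct0) := by
      conv_lhs => rw [huu]
      rw [Cfsg.Agent.Helper27.actW_add, h1, hact1, Cfsg.Agent.Helper27.one_eq, ← Cfsg.Agent.Helper27.decW_xor,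
        Nat.xor_comm]
    exact Cfsg.Agent.Helper27.coset_moved_of_conj Cfsg.Agent.Helper27.check_cooct hk h2 hw
  · have h0 : u + 1 = 0 := hammingNorm_eq_zero.mp (by omega)
    have h1 : u = 1 := by
      rw [huu, h0, zero_add]
    exact Cfsg.Agent.Helper27.coset_moved_of_conj Cfsg.Agent.Helper27.check_M24_ones (Subgroup.one_mem _)
      (by rw [Cfsg.Agent.Helper27.actW_one, h1, Cfsg.Agent.Helper27.one_eq]) hw

end Cfsg.Agent.S5550
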