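import Cfsg.Statements.S5551
import Cfsg.Agent.Helper27.Leech

set_option autoImplicit false
open Cfsg

namespace Cfsg.Agent.S5551

/-- In the Leech lattice of the definitions (integer coordinates, minimal squared length 32), let v and w be non-zero lattice vectors of squared length at most 64 that are congruent modulo twice the lattice. Then they have the same squared length, and if that length is less than 64 then w = v or w = −v. (So a class that contains a non-zero vector of squared length at most 64 has a well-defined type 2, 3 or 4, and a class of type 2 or 3 contains no such vector other than v and −v.) -/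
theorem result (v w : Cfsg.GolayPt → ℤ) (hv : v ∈ Cfsg.leechLattice) (hw : w ∈ Cfsg.leechLattice) (hv0 : v ≠ 0) (hw0 : w ≠ 0) (hvn : Cfsg.sqNorm v ≤ 64) (hwn : Cfsg.sqNorm w ≤ 64) (hc : ∃ z ∈ Cfsg.leechLattice, v - w = 2 • z) : Cfsg.sqNorm v = Cfsg.sqNorm w ∧ (Cfsg.sqNorm v < 64 → w = v ∨ w = -v) := by
  obtain ⟨z, hz, hvw⟩ := hc
  have hpar : Cfsg.sqNorm (v + w) + Cfsg.sqNorm (v - w) = 2 * Cfsg.sqNorm v + 2 * Cfsg.sqNorm w := by
    simp only [Cfsg.sqNorm, Pi.add_apply, Pi.sub_apply, ← Finset.sum_add_distrib, Finset.mul_sum]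
    apply Finset.sum_congr rfl
    intro i _
    ring
  have hsq2 : ∀ u : Cfsg.GolayPt → ℤ, Cfsg.sqNorm (2 • u) = 4 * Cfsg.sqNorm u := by
    intro u
    simp only [Cfsg.sqNorm, Pi.smul_apply, Finset.mul_sum]
    apply Finset.sum_congr rfl
    intro i _
    ring
  by_cases h1 : w = v
  · subst h1
    exact ⟨rfl, fun _ => Or.inl rfl⟩
  by_cases h2 : w = -v
  · subst h2
    refine ⟨?_, fun _ => Or.inr rfl⟩
    simp [Cfsg.sqNorm]
  -- both v - w and v + w are twice nonzero lattice vectors
  have hz0 : z ≠ 0 := by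
    rintro rfl
    apply h1
    have : v - w = 0 := by rw [hvw]; simp
    exact (sub_eq_zero.mp this).symm
  have hzw : z + w ∈ Cfsg.leechLattice := Cfsg.leechLattice.add_mem hz hw
  have hvw' : v + w = 2 • (z + w) := by
    have : v = 2 • z + w := by rw [← hvw]; abel
    rw [this]; simp only [smul_add, two_smul]; abel
  have hzw0 : z + w ≠ 0 := by
    intro h
    apply h2
    have : v + w = 0 := by rw [hvw', h]; simp
    exact (eq_neg_of_add_eq_zero_right this)
  have hA := Cfsg.Agent.Helper27.sqNorm_ge hz hz0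
  have hB := Cfsg.Agent.Helper27.sqNorm_ge hzw hzw0
  rw [hvw, hvw', hsq2, hsq2] at hpar
  have hv64 : Cfsg.sqNorm v = 64 := by omega
  have hw64 : Cfsg.sqNorm w = 64 := by omega
  exact ⟨by rw [hv64, hw64], fun h => by omega⟩

end Cfsg.Agent.S5551
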