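import Cfsg.Statements.S5555
import Mathlib
import Cfsg.Agent.Helper4.TTComplement
import Cfsg.Agent.Helper4.SU32Inv

set_option autoImplicit false
open Cfsg

namespace Cfsg.Agent.S5555

/-- Let G be a finite group generated by a conjugacy class D of 3-transpositions, with trivial centre and with generalized Fitting subgroup F*(G) = O₂(G) (so the Fitting subgroup is O₂(G) too). If G/O₂(G) is isomorphic to the derived group of SU₃(2) (the group of order 54 generated by nine 3-transpositions), then O₂(G) has a complement in G. -/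
theorem result {G : Type*} [Group G] [Finite G] {D : Set G} (hD : Cfsg.IsThreeTranspositionClass D)
    (hZ : Subgroup.center G = ⊥) (hF : Cfsg.generalizedFittingSubgroup G = Cfsg.pCore 2 G)
    (hq : ∃ (F : Type) (_ : Field F) (_ : Fintype F), Fintype.card F = 4 ∧ Nonempty (G ⧸ Cfsg.pCore 2 G ≃* ↥(commutator ↥(Cfsg.SU 3 F 2)))) :
    ∃ K : Subgroup G, (Cfsg.pCore 2 G).IsComplement' K := by
  classical
  obtain ⟨hset, ⟨d₀, hd₀, hDeq⟩, hgen⟩ := hD
  have hmemD : ∀ x, x ∈ D ↔ IsConj d₀ x := fun x => by rw [hDeq]; rfl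
  have hconj : ∀ g : G, ∀ x ∈ D, g * x * g⁻¹ ∈ D := by
    intro g x hx
    rw [hmemD] at hx ⊢
    exact hx.trans (isConj_iff.mpr ⟨g, rfl⟩)
  have hconjd : ∀ d ∈ D, ∀ e ∈ D, ∃ g : G, g * d * g⁻¹ = e := by
    intro d hd e he
    rw [hmemD] at he hd
    exact isConj_iff.mp (hd.symm.trans he)
  obtain ⟨F, _, _, hF4, ⟨e⟩⟩ := hq
  refine Cfsg.Agent.Helper4.InvSylow.exists_complement hset hconj hgen hconjd e ?_ hd₀
  intro x y hx hy hx1 hy1 hxy
  apply Subtype.ext
  apply Cfsg.Agent.Helper4.SU32Inv.commuting_involutions_eq hF4 x.1 y.1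
  · exact congrArg Subtype.val hx
  · exact congrArg Subtype.val hy
  · intro h
    exact hx1 (Subtype.ext h)
  · intro h
    exact hy1 (Subtype.ext h)
  · exact congrArg Subtype.val hxy

end Cfsg.Agent.S5555
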