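import Mathlib
import Cfsg.Statements.S5562
import Cfsg.Agent.Helper2.Invol

set_option autoImplicit false
open Cfsg

namespace Cfsg.Agent.S5562

open Cfsg.Agent.Helper2

theorem orderOf_conj' {G : Type*} [Group G] (g x : G) : orderOf (g * x * g⁻¹) = orderOf x := by
  have : g * x * g⁻¹ = MulAut.conj g x := by simp [MulAut.conj_apply]
  rw [this]
  exact MulEquiv.orderOf_eq _ x

theorem mem_conjugatesOf_iff' {G : Type*} [Group G] (a b : G) :
    b ∈ conjugatesOf a ↔ IsConj a b := Iff.rfl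

theorem result {G : Type*} [Group G] [Finite G] (d : G) (hd : orderOf d = 2)
    (hodd : ∀ a ∈ conjugatesOf d, ∀ b ∈ conjugatesOf d, Odd (orderOf (a * b)))
    (x : G) (hx : orderOf x = 2) :
    ∀ e ∈ conjugatesOf d,
      ∃! a : G, a ∈ conjugatesOf d ∧ Commute a x ∧ Commute e (a * x) := by
  intro e he
  have hx2 : x * x = 1 := mul_self_of_orderOf_two hx
  have hxinv : x⁻¹ = x := inv_eq_self_of_orderOf_two hx
  have hinvol : ∀ a ∈ conjugatesOf d, a * a = 1 := by
    intro a ha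
    rw [mem_conjugatesOf_iff'] at ha
    obtain ⟨g, hg⟩ := isConj_iff.mp ha
    apply mul_self_of_orderOf_two
    rw [← hg, orderOf_conj', hd]
  have he2 : e * e = 1 := hinvol e he
  have heinv : e⁻¹ = e := inv_eq_of_mul_eq_one_right he2
  have hf : x * e * x⁻¹ ∈ conjugatesOf d := by
    rw [mem_conjugatesOf_iff'] at he ⊢
    exact IsConj.trans he (isConj_iff.mpr ⟨x, rfl⟩)
  set f := x * e * x⁻¹ with hfdef
  have hf2 : f * f = 1 := hinvol f hf
  have hfinv : f⁻¹ = f := inv_eq_of_mul_eq_one_right hf2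
  set r := e * f with hr
  obtain ⟨k, hk⟩ := hodd e he f hf
  have hrm : r ^ ((2 * k + 1 : ℕ) : ℤ) = 1 := by
    rw [zpow_natCast, ← hk]; exact pow_orderOf_eq_one r
  have hrm' : r ^ (2 * (k : ℤ) + 1) = 1 := by
    have : ((2 * k + 1 : ℕ) : ℤ) = 2 * (k : ℤ) + 1 := by push_cast; ring
    rw [← this]; exact hrm
  -- basic relations
  have h_er : ∀ j : ℤ, e * r ^ j = r ^ (-j) * e := fun j => invol_mul_zpow he2 hf2 j
  have hrinv : r⁻¹ = f * e := by rw [hr, mul_inv_rev, heinv, hfinv]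
  have hxfx : x * f * x⁻¹ = e := by
    rw [hfdef, hxinv]
    calc x * (x * e * x) * x = (x * x) * e * (x * x) := by group
      _ = e := by rw [hx2, one_mul, mul_one]
  have hxr : x * r * x⁻¹ = r⁻¹ := by
    rw [hrinv]
    calc x * r * x⁻¹ = (x * e * x⁻¹) * (x * f * x⁻¹) := by rw [hr]; group
      _ = f * e := by rw [hxfx]
  have hxrj : ∀ j : ℤ, x * r ^ j * x⁻¹ = r ^ (-j) := by
    intro j
    rw [← conj_zpow, hxr, inv_zpow, zpow_neg]
  have hf_eq : f = r⁻¹ * e := by rw [hrinv, mul_assoc, he2, mul_one]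
  -- the element a
  let a : G := r ^ (k : ℤ) * e
  have ha_conj : a ∈ conjugatesOf d := by
    rw [mem_conjugatesOf_iff'] at he ⊢
    refine IsConj.trans he (isConj_iff.mpr ⟨r ^ ((k : ℤ) * (k + 1)), ?_⟩)
    rw [invol_conj_by_zpow he2 hf2]
    show r ^ (2 * ((k : ℤ) * (k + 1))) * e = r ^ (k : ℤ) * e
    congr 1
    have : 2 * ((k : ℤ) * (k + 1)) = k + (2 * (k : ℤ) + 1) * k := by ring
    rw [this, zpow_add, zpow_mul, hrm', one_zpow, mul_one]
  have ha2 : a * a = 1 := hinvol a ha_conj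
  have hainv : a⁻¹ = a := inv_eq_of_mul_eq_one_right ha2
  have hax : Commute a x := by
    show a * x = x * a
    have h1 : x * a * x⁻¹ = a := by
      calc x * a * x⁻¹ = (x * r ^ (k : ℤ) * x⁻¹) * (x * e * x⁻¹) := by
            show x * (r ^ (k : ℤ) * e) * x⁻¹ = _
            group
        _ = r ^ (-(k : ℤ)) * (r⁻¹ * e) := by rw [hxrj, ← hfdef, hf_eq]
        _ = r ^ (-(k : ℤ) - 1) * e := by
            rw [← mul_assoc, ← zpow_neg_one, ← zpow_add]
            rfl
        _ = r ^ (k : ℤ) * e := by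
            congr 1
            have : (k : ℤ) = (-(k : ℤ) - 1) + (2 * (k : ℤ) + 1) := by ring
            conv_rhs => rw [this, zpow_add, hrm', mul_one]
    calc a * x = (x * a * x⁻¹) * x := by rw [h1]
      _ = x * a := by group
  have heax : Commute e (a * x) := by
    show e * (a * x) = (a * x) * e
    have h1 : a * f * a⁻¹ = e := by
      have h2 : e * f * e = r * e := by rw [hr]
      calc a * f * a⁻¹ = r ^ (k : ℤ) * (e * f * e) * (r ^ (k : ℤ))⁻¹ := by
            show (r ^ (k : ℤ) * e) * f * (r ^ (k : ℤ) * e)⁻¹ = _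
            rw [mul_inv_rev, heinv]; group
        _ = r ^ (k : ℤ) * r * (e * r ^ (-(k : ℤ))) := by
            rw [h2, zpow_neg]; group
        _ = r ^ (k : ℤ) * r * (r ^ (k : ℤ) * e) := by rw [h_er, neg_neg]
        _ = r ^ (2 * (k : ℤ) + 1) * e := by
            rw [← mul_assoc]
            congr 1
            rw [← zpow_add_one, ← zpow_add]
            congr 1
            ring
        _ = e := by rw [hrm', one_mul]
    have h3 : (a * x) * e * (a * x)⁻¹ = e := by
      calc (a * x) * e * (a * x)⁻¹ = a * (x * e * x⁻¹) * a⁻¹ := by group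
        _ = e := by rw [← hfdef, h1]
    calc e * (a * x) = ((a * x) * e * (a * x)⁻¹) * (a * x) := by rw [h3]
      _ = (a * x) * e := by group
  refine ⟨a, ⟨ha_conj, hax, heax⟩, ?_⟩
  -- uniqueness
  rintro a' ⟨ha', ha'x, hea'⟩
  have ha'2 : a' * a' = 1 := hinvol a' ha'
  have ha'inv : a'⁻¹ = a' := inv_eq_of_mul_eq_one_right ha'2
  have h1 : a' * e * a' = f := by
    have h2 : e * (a' * x) = (a' * x) * e := hea'
    calc a' * e * a' = a' * (e * (a' * x)) * x⁻¹ := by group
      _ = a' * ((a' * x) * e) * x⁻¹ := by rw [h2]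
      _ = (a' * a') * (x * e * x⁻¹) := by group
      _ = f := by rw [ha'2, one_mul]
  set s := e * a' with hs
  have hs2 : s ^ 2 = r := by
    rw [hs, hr, pow_two, ← h1]; group
  obtain ⟨k', hk'⟩ := hodd e he a' ha'
  have hord : orderOf r = orderOf s := by
    rw [← hs2, orderOf_pow, hk']
    have : Nat.gcd (2 * k' + 1) 2 = 1 := by
      rw [Nat.gcd_comm]
      exact (Nat.coprime_two_left.mpr ⟨k', rfl⟩)
    rw [this, Nat.div_one]
  have hkk : k' = k := by
    rw [hk, hk'] at hord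
    omega
  have hs_eq : s = r ^ (k + 1) := by
    rw [← hs2, ← pow_mul]
    have : 2 * (k + 1) = orderOf s + 1 := by rw [hk', hkk]; ring
    rw [this, pow_succ, pow_orderOf_eq_one, one_mul]
  have ha'_eq : a' = e * s := by rw [hs, ← mul_assoc, he2, one_mul]
  rw [ha'_eq, hs_eq]
  show e * r ^ (k + 1) = r ^ (k : ℤ) * e
  rw [← zpow_natCast, h_er]
  congr 1
  have : (k : ℤ) = -((k + 1 : ℕ) : ℤ) + (2 * (k : ℤ) + 1) := by push_cast; ring
  conv_rhs => rw [this, zpow_add, hrm', mul_one]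

end Cfsg.Agent.S5562
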