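import Mathlib
import Cfsg.Statements.S5592
import Cfsg.Agent.Helper27.Leech

set_option autoImplicit false

namespace Cfsg.Agent.S5592

open Cfsg Cfsg.Agent.Helper27

theorem sqNorm_two_smul (z : GolayPt → ℤ) : sqNorm (2 • z) = 4 * sqNorm z := by
  simp only [sqNorm, Pi.smul_apply, Finset.mul_sum]
  apply Finset.sum_congr rfl
  intro i _
  ring

theorem parallelogram (x y : GolayPt → ℤ) :
    sqNorm (x + y) + sqNorm (x - y) = 2 * sqNorm x + 2 * sqNorm y := by
  simp only [sqNorm, Pi.add_apply, Pi.sub_apply, Finset.mul_sum, ← Finset.sum_add_distrib]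
  apply Finset.sum_congr rfl
  intro i _
  ring

theorem sqNorm_add_sub (x y : GolayPt → ℤ) :
    sqNorm (x + y) - sqNorm (x - y) = 4 * dotInt x y := by
  simp only [sqNorm, dotInt, Pi.add_apply, Pi.sub_apply, Finset.mul_sum, ← Finset.sum_sub_distrib]
  apply Finset.sum_congr rfl
  intro i _
  ring

theorem result (x y : Cfsg.GolayPt → ℤ) (hx : x ∈ Cfsg.leechLattice) (hy : y ∈ Cfsg.leechLattice) (hxy : x ≠ y) (hxn : Cfsg.sqNorm x ≤ 64) (hyn : Cfsg.sqNorm y ≤ 64) (hc : (∃ z ∈ Cfsg.leechLattice, x - y = 2 • z)) :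
    x = -y ∨ (Cfsg.sqNorm x = 64 ∧ Cfsg.sqNorm y = 64 ∧ Cfsg.dotInt x y = 0) := by
  obtain ⟨z, hz, hxyz⟩ := hc
  by_cases hsum : x + y = 0
  · left
    exact eq_neg_of_add_eq_zero_left hsum
  · right
    have hz0 : z ≠ 0 := by
      rintro rfl
      rw [smul_zero] at hxyz
      exact hxy (sub_eq_zero.mp hxyz)
    have h1 : 32 ≤ sqNorm z := sqNorm_ge hz hz0
    have h2 : sqNorm (x - y) = 4 * sqNorm z := by rw [hxyz, sqNorm_two_smul]
    -- x + y = 2 (z + y)
    have hzy : z + y ∈ leechLattice := leechLattice.add_mem hz hy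
    have hxy2 : x + y = 2 • (z + y) := by
      have : x = 2 • z + y := by rw [← hxyz]; abel
      rw [this, smul_add]
      abel
    have hzy0 : z + y ≠ 0 := by
      intro h
      rw [h, smul_zero] at hxy2
      exact hsum hxy2
    have h3 : 32 ≤ sqNorm (z + y) := sqNorm_ge hzy hzy0
    have h4 : sqNorm (x + y) = 4 * sqNorm (z + y) := by rw [hxy2, sqNorm_two_smul]
    have h5 := parallelogram x y
    have h6 := sqNorm_add_sub x y
    refine ⟨by omega, by omega, by omega⟩

end Cfsg.Agent.S5592
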