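import Mathlib
import Cfsg.Statements.S5595
import Cfsg.Agent.Helper3.LargeES2

set_option autoImplicit false
set_option linter.style.haveILetI false
open Cfsg

namespace Cfsg.Agent.S5595

open Cfsg.Agent.Helper3 Cfsg.Agent.Helper3.LargeES

theorem centralizer_singleton_map_conj' {G : Type*} [Group G] (y g : G) :
    (Subgroup.centralizer ({y} : Set G)).map (MulAut.conj g).toMonoidHom =
      Subgroup.centralizer ({g * y * g⁻¹} : Set G) := by
  ext x
  simp only [Subgroup.mem_map, MulEquiv.coe_toMonoidHom, MulAut.conj_apply,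
    Subgroup.mem_centralizer_singleton_iff]
  constructor
  · rintro ⟨c, hc, rfl⟩
    calc g * c * g⁻¹ * (g * y * g⁻¹) = g * (c * y) * g⁻¹ := by group
      _ = g * (y * c) * g⁻¹ := by rw [hc]
      _ = g * y * g⁻¹ * (g * c * g⁻¹) := by group
  · intro hx
    refine ⟨g⁻¹ * x * g, ?_, by group⟩
    calc g⁻¹ * x * g * y = g⁻¹ * (x * (g * y * g⁻¹)) * g := by group
      _ = g⁻¹ * ((g * y * g⁻¹) * x) * g := by rw [hx]
      _ = y * (g⁻¹ * x * g) := by group

/-- Setting: `z` is an involution of the finite group `G`; for each element `x`, `Q x` denotes the largest normal 2-subgroup of the centralizer of `x`; `Q z` is extraspecial and contains its own centralizer in `G` (a large extraspecial 2-subgroup in this sense). Call the conjugates of `z` singular, and say that singular `x` is orthogonal to singular `y` when `x ∈ Q y`. Then orthogonality is symmetric: if a conjugate `x` of `z` lies in `Q z`, then `z` lies in `Q x`. -/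
theorem result {G : Type*} [Group G] [Finite G]
    (Q : G → Subgroup G)
    (hQ : ∀ x : G, Q x = (Cfsg.pCore 2 ↥(Subgroup.centralizer ({x} : Set G))).map (Subgroup.centralizer ({x} : Set G)).subtype)
    (z : G) (hz : orderOf z = 2) (hE : Cfsg.IsExtraspecial 2 ↥(Q z))
    (hC : Subgroup.centralizer ((Q z : Subgroup G) : Set G) ≤ Q z)
    (g : G) (hx : g * z * g⁻¹ ∈ Q z) : z ∈ Q (g * z * g⁻¹) := by
  haveI : Fact (Nat.Prime 2) := ⟨Nat.prime_two⟩
  have hz1 : z ≠ 1 := by
    intro h1
    rw [h1, orderOf_one] at hz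
    exact absurd hz (by norm_num)
  have hQz : Q z = Cfsg.pCoreOf 2 (Subgroup.centralizer ({z} : Set G)) := hQ z
  have hQle : Q z ≤ Subgroup.centralizer ({z} : Set G) := by
    rw [hQz]; exact Cfsg.Agent.Helper14.pCoreOf_le 2 _
  have hzcomm : ∀ q ∈ Q z, z * q = q * z := fun q hq =>
    (Subgroup.mem_centralizer_singleton_iff.mp (hQle hq)).symm
  have hzQ : z ∈ Q z := by
    apply hC
    rw [Subgroup.mem_centralizer_iff]
    intro q hq
    exact (hzcomm q hq).symm
  obtain ⟨zq, hzq, hZs⟩ := exists_es2_sub hE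
  have hzcen : z ∈ (Subgroup.center ↥(Q z)).map (Q z).subtype :=
    ⟨⟨z, hzQ⟩, Subgroup.mem_center_iff.mpr (fun r => Subtype.ext (hzcomm r.1 r.2).symm), rfl⟩
  have hzeq : z = (zq : G) := by
    rcases (hZs z).mp hzcen with h1 | h1
    · exact absurd h1 hz1
    · exact h1
  by_cases hgz : g * z * g⁻¹ = z
  · rw [hgz]; exact hzQ
  · have hC' : ∀ x : G, (∀ q ∈ Q z, x * q = q * x) → x = 1 ∨ x = (zq : G) := by
      intro x hx
      have hxQ : x ∈ Q z :=
        hC (Subgroup.mem_centralizer_iff.mpr (fun q hq => (hx q hq).symm))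
      have : x ∈ (Subgroup.center ↥(Q z)).map (Q z).subtype :=
        ⟨⟨x, hxQ⟩, Subgroup.mem_center_iff.mpr (fun r => Subtype.ext (hx r.1 r.2).symm), rfl⟩
      exact (hZs x).mp this
    have hN' : ∀ x : G, x * (zq : G) = zq * x → ∀ q ∈ Q z, x * q * x⁻¹ ∈ Q z := by
      intro x hx q hq
      have hxC : x ∈ Subgroup.centralizer ({z} : Set G) :=
        Subgroup.mem_centralizer_singleton_iff.mpr (by rw [hzeq]; exact hx)
      have := Cfsg.Agent.Helper14.le_normalizer_pCoreOf 2 (Subgroup.centralizer ({z} : Set G)) hxC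
      rw [← hQz] at this
      exact (Subgroup.mem_normalizer_iff.mp this q).mp hq
    obtain ⟨q, hq, hgq⟩ := mem_conj_of_conj_mem hzq hC' hN' g (by rw [← hzeq]; exact hgz)
      (by rw [← hzeq]; exact hx)
    have hconj : Q (g * z * g⁻¹) = (Q z).map (MulAut.conj g).toMonoidHom := by
      have h1 : Q (g * z * g⁻¹) =
          Cfsg.pCoreOf 2 (Subgroup.centralizer ({g * z * g⁻¹} : Set G)) := hQ _
      rw [h1, ← centralizer_singleton_map_conj', Cfsg.Agent.Helper14.pCoreOf_map_conj, ← hQz]
    rw [hconj]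
    refine ⟨q, hq, ?_⟩
    rw [hzeq, ← hgq]
    rfl

end Cfsg.Agent.S5595
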