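import Cfsg.Statements.S5601
import Cfsg.Agent.Helper27.M24Sub3

set_option autoImplicit false
open scoped Pointwise
open Cfsg

namespace Cfsg.Agent.S5601

/-- The group of the length-24 code has exactly two conjugacy classes of subgroups of order 3: a subgroup of order 3 fixes either exactly 6 of the 24 points or none of them, both cases occur, and two subgroups of order 3 with the same number of fixed points are conjugate. -/
theorem result : (∀ X : Subgroup ↥Cfsg.M24, Nat.card X = 3 → {p : Cfsg.GolayPt | ∀ x ∈ X, ((x : ↥Cfsg.M24) : Equiv.Perm Cfsg.GolayPt) p = p}.ncard = 6 ∨ {p : Cfsg.GolayPt | ∀ x ∈ X, ((x : ↥Cfsg.M24) : Equiv.Perm Cfsg.GolayPt) p = p}.ncard = 0) ∧ (∃ X : Subgroup ↥Cfsg.M24, Nat.card X = 3 ∧ {p : Cfsg.GolayPt | ∀ x ∈ X, ((x : ↥Cfsg.M24) : Equiv.Perm Cfsg.GolayPt) p = p}.ncard = 6) ∧ (∃ X : Subgroup ↥Cfsg.M24, Nat.card X = 3 ∧ {p : Cfsg.GolayPt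 | ∀ x ∈ X, ((x : ↥Cfsg.M24) : Equiv.Perm Cfsg.GolayPt) p = p}.ncard = 0) ∧ ∀ X Y : Subgroup ↥Cfsg.M24, Nat.card X = 3 → Nat.card Y = 3 → {p : Cfsg.GolayPt | ∀ x ∈ X, ((x : ↥Cfsg.M24) : Equiv.Perm Cfsg.GolayPt) p = p}.ncard = {p : Cfsg.GolayPt | ∀ x ∈ Y, ((x : ↥Cfsg.M24) : Equiv.Perm Cfsg.GolayPt) p = p}.ncard → ∃ k : ↥Cfsg.M24, MulAut.conj k • X = Y := by
  have hp3 : Fact (Nat.Prime 3) := ⟨Nat.prime_three⟩
  -- a subgroup of order 3 is generated by an element conjugate to one of the two representatives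
  have key : ∀ X : Subgroup ↥Cfsg.M24, Nat.card X = 3 → ∃ x : ↥Cfsg.M24, X = Subgroup.zpowers x ∧
      (({p : Cfsg.GolayPt | ∀ x ∈ X, ((x : ↥Cfsg.M24) : Equiv.Perm Cfsg.GolayPt) p = p}.ncard = 6 ∧
          ∃ k : ↥Cfsg.M24, k * x * k⁻¹ = ⟨Cfsg.Agent.Helper27.wA, Cfsg.Agent.Helper27.wA_mem⟩) ∨
       ({p : Cfsg.GolayPt | ∀ x ∈ X, ((x : ↥Cfsg.M24) : Equiv.Perm Cfsg.GolayPt) p = p}.ncard = 0 ∧
          ∃ k : ↥Cfsg.M24, k * x * k⁻¹ = ⟨Cfsg.Agent.Helper27.wB, Cfsg.Agent.Helper27.wB_mem⟩)) := by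
    intro X hX
    obtain ⟨x, hord, rfl⟩ := Cfsg.Agent.Helper27.exists_gen_of_card_prime X hX
    refine ⟨x, rfl, ?_⟩
    rw [Cfsg.Agent.Helper27.zpowers_fixed_ncard]
    have hord' : orderOf (x : Equiv.Perm Cfsg.GolayPt) = 3 := by rw [Subgroup.orderOf_coe, hord]
    rcases Cfsg.Agent.Helper27.three_class_fixed x.2 hord' with ⟨h1, k, hk, e⟩ | ⟨h1, k, hk, e⟩
    · left
      exact ⟨h1, ⟨k, hk⟩, Subtype.ext e⟩
    · right
      exact ⟨h1, ⟨k, hk⟩, Subtype.ext e⟩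
  have hcardA : Nat.card (Subgroup.zpowers (⟨Cfsg.Agent.Helper27.wA, Cfsg.Agent.Helper27.wA_mem⟩ : ↥Cfsg.M24)) = 3 := by
    rw [Nat.card_zpowers, ← Subgroup.orderOf_coe]
    exact Cfsg.Agent.Helper27.wA_order
  have hcardB : Nat.card (Subgroup.zpowers (⟨Cfsg.Agent.Helper27.wB, Cfsg.Agent.Helper27.wB_mem⟩ : ↥Cfsg.M24)) = 3 := by
    rw [Nat.card_zpowers, ← Subgroup.orderOf_coe]
    exact Cfsg.Agent.Helper27.wB_order
  refine ⟨?_, ?_, ?_, ?_⟩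
  · intro X hX
    obtain ⟨x, -, h | h⟩ := key X hX
    · exact Or.inl h.1
    · exact Or.inr h.1
  · refine ⟨_, hcardA, ?_⟩
    rw [Cfsg.Agent.Helper27.zpowers_fixed_ncard]
    exact Cfsg.Agent.Helper27.wA_fixed_card
  · refine ⟨_, hcardB, ?_⟩
    rw [Cfsg.Agent.Helper27.zpowers_fixed_ncard]
    exact Cfsg.Agent.Helper27.wB_fixed_card
  · intro X Y hX hY hfix
    have conj : ∀ {x y z k k' : ↥Cfsg.M24}, k * x * k⁻¹ = z → k' * y * k'⁻¹ = z →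
        ∃ k'' : ↥Cfsg.M24, MulAut.conj k'' • Subgroup.zpowers x = Subgroup.zpowers y := by
      intro x y z k k' e1 e2
      refine ⟨k'⁻¹ * k, ?_⟩
      rw [Cfsg.Agent.Helper27.conj_smul_zpowers]
      congr 1
      have : k'⁻¹ * k * x * (k'⁻¹ * k)⁻¹ = k'⁻¹ * (k * x * k⁻¹) * k' := by group
      rw [this, e1, ← e2]; group
    obtain ⟨x, rfl, hx⟩ := key X hX
    obtain ⟨y, rfl, hy⟩ := key Y hY
    rcases hx with ⟨hx1, k, e1⟩ | ⟨hx1, k, e1⟩ <;> rcases hy with ⟨hy1, k', e2⟩ | ⟨hy1, k', e2⟩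
    · exact conj e1 e2
    · rw [hx1, hy1] at hfix
      exact absurd hfix (by norm_num)
    · rw [hx1, hy1] at hfix
      exact absurd hfix (by norm_num)
    · exact conj e1 e2

end Cfsg.Agent.S5601
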