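import Cfsg.Statements.S5604
import Cfsg.Agent.Helper27.M24SevenNorm
import Cfsg.Agent.Helper27.SylowConj
import Cfsg.Agent.Helper27.M24Order

set_option autoImplicit false
open scoped Pointwise
open Cfsg

namespace Cfsg.Agent.S5604

/-- For a subgroup S of order 7 of the group of the length-24 code (a Sylow 7-subgroup): the normaliser of S has order 126, the centraliser of S has order 42 and is non-abelian, and the whole normaliser leaves some trio invariant. (These are the orders of a Frobenius group of order 21 times a symmetric group of degree 3; the isomorphism type itself is not asserted here.) -/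
theorem result (S : Subgroup ↥Cfsg.M24) (hS : Nat.card S = 7) : Nat.card ↥(Subgroup.normalizer (S : Set ↥Cfsg.M24)) = 126 ∧ Nat.card ↥(Subgroup.centralizer (S : Set ↥Cfsg.M24)) = 42 ∧ (∃ x ∈ Subgroup.centralizer (S : Set ↥Cfsg.M24), ∃ y ∈ Subgroup.centralizer (S : Set ↥Cfsg.M24), x * y ≠ y * x) ∧ ∃ T ∈ Cfsg.trios, ∀ n ∈ Subgroup.normalizer (S : Set ↥Cfsg.M24), ((n : ↥Cfsg.M24) : Equiv.Perm Cfsg.GolayPt) • T = T := by
  have hp : Fact (Nat.Prime 7) := ⟨by norm_num⟩
  have hfin : Finite ↥Cfsg.M24 := Nat.finite_of_card_ne_zero (by rw [Helper27.card_M24]; norm_num)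
  have hS0 : Nat.card (Subgroup.zpowers Helper27.y0) = 7 ^ 1 := by
    rw [Nat.card_zpowers, Helper27.y0_order]; norm_num
  obtain ⟨g, rfl⟩ := Helper27.exists_conj_of_card_eq (p := 7) (k := 1) S (Subgroup.zpowers Helper27.y0)
    (by rw [hS]; norm_num) hS0 (by rw [Helper27.card_M24]; norm_num)
  refine ⟨?_, ?_, ?_, ?_⟩
  · rw [Helper27.card_normalizer_map_conj, Helper27.card_norm_y0]
  · rw [Helper27.card_centralizer_map_conj, Helper27.card_cent_y0]
  · obtain ⟨x, hx, y, hy, hxy⟩ := Helper27.cent_y0_nonabelian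
    refine ⟨g * x * g⁻¹, ?_, g * y * g⁻¹, ?_, ?_⟩
    · rw [Helper27.mem_centralizer_map_conj]
      have : g⁻¹ * (g * x * g⁻¹) * g = x := by group
      rw [this]; exact hx
    · rw [Helper27.mem_centralizer_map_conj]
      have : g⁻¹ * (g * y * g⁻¹) * g = y := by group
      rw [this]; exact hy
    · intro h
      apply hxy
      have h1 : g⁻¹ * (g * x * g⁻¹ * (g * y * g⁻¹)) * g = g⁻¹ * (g * y * g⁻¹ * (g * x * g⁻¹)) * g := by rw [h]
      have h2 : g⁻¹ * (g * x * g⁻¹ * (g * y * g⁻¹)) * g = x * y := by group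
      have h3 : g⁻¹ * (g * y * g⁻¹ * (g * x * g⁻¹)) * g = y * x := by group
      rw [← h2, ← h3, h1]
  · refine ⟨(g : Equiv.Perm Cfsg.GolayPt) • Helper27.famOf Helper27.trio7,
      Helper27.smul_mem_trios g.2 Helper27.trio7_mem, ?_⟩
    intro n hn
    rw [Helper27.mem_normalizer_map_conj] at hn
    have := Helper27.trio7_inv _ hn
    rw [Subgroup.coe_mul, Subgroup.coe_mul, Subgroup.coe_inv, mul_smul, mul_smul, inv_smul_eq_iff] at this
    exact this

end Cfsg.Agent.S5604
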