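import Cfsg.Statements.S5605
import Cfsg.Agent.Helper27.FamCountReps

set_option autoImplicit false
open scoped Pointwise
open Cfsg

namespace Cfsg.Agent.S5605

/-- An involution of the group of the length-24 code with exactly 8 fixed points maps to themselves exactly 71 octads, exactly 99 trios and exactly 91 sextets. -/
theorem result (g : Equiv.Perm Cfsg.GolayPt) (hg : g ∈ Cfsg.M24) (h₂ : orderOf g = 2) (h₈ : (Finset.univ.filter fun p => g p = p).card = 8) : {o : Finset Cfsg.GolayPt | o ∈ Cfsg.octads ∧ g • o = o}.ncard = 71 ∧ {T : Finset (Finset Cfsg.GolayPt) | T ∈ Cfsg.trios ∧ g • T = T}.ncard = 99 ∧ {S : Finset (Finset Cfsg.GolayPt) | S ∈ Cfsg.sextets ∧ g • S = S}.ncard = 91 := by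
  rcases Cfsg.Agent.Helper27.invol_class hg h₂ with ⟨hfpf, -⟩ | ⟨-, k, hk, e⟩
  · exfalso
    have : (Finset.univ.filter fun p => g p = p) = ∅ := by
      rw [Finset.filter_eq_empty_iff]
      intro p _
      exact hfpf p
    rw [this] at h₈
    simp at h₈
  · rw [Cfsg.Agent.Helper27.octads_ncard_conj hk g, Cfsg.Agent.Helper27.trios_ncard_conj hk g,
      Cfsg.Agent.Helper27.sextets_ncard_conj hk g, e]
    exact ⟨Cfsg.Agent.Helper27.zA_octads, Cfsg.Agent.Helper27.zA_trios, Cfsg.Agent.Helper27.zA_sextets⟩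

end Cfsg.Agent.S5605
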