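import Cfsg.Statements.S5607
import Mathlib
import Cfsg.Agent.Helper17.M24CentB

set_option autoImplicit false
open scoped Pointwise
open Cfsg

namespace Cfsg.Agent.S5607

/-- For a fixed-point-free involution t of the group of the length-24 code: its centraliser in that group has order 7680, is transitive on the 24 points, and is contained, together with t, in the stabiliser of some sextet. -/
theorem result (t : Equiv.Perm Cfsg.GolayPt) (ht : t ∈ Cfsg.M24) (h₂ : orderOf t = 2) (h₀ : ∀ p, t p ≠ p) : Nat.card {c : Equiv.Perm Cfsg.GolayPt // c ∈ Cfsg.M24 ∧ c * t = t * c} = 7680 ∧ (∀ p q : Cfsg.GolayPt, ∃ c ∈ Cfsg.M24, c * t = t * c ∧ c p = q) ∧ ∃ S ∈ Cfsg.sextets, t • S = S ∧ ∀ c ∈ Cfsg.M24, c * t = t * c → c • S = S := by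
  have hk : ∃ k ∈ Cfsg.M24, k * t * k⁻¹ = Cfsg.Agent.Helper27.zB := by
    rcases Cfsg.Agent.Helper27.invol_class ht h₂ with ⟨-, h⟩ | ⟨h, -⟩
    · exact h
    · exfalso
      obtain ⟨p, hp⟩ := Cfsg.Agent.Helper27.octad_nonempty h
      exact h₀ p (Finset.mem_filter.mp hp).2
  obtain ⟨m, hm, hmt⟩ := Cfsg.Agent.Helper17.M24CentB.exists_conj_yB hk
  have key := Cfsg.Agent.Helper17.M24CentB.conj_mem_centM hm hmt
  refine ⟨?_, ?_, ?_⟩
  · rw [← Cfsg.Agent.Helper17.M24CentB.card_centM]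
    apply Nat.card_congr
    refine
      { toFun := fun c => ⟨m * c.1 * m⁻¹, (key c.1).mp c.2⟩
        invFun := fun d => ⟨m⁻¹ * d.1 * m, (key _).mpr (by
          have : m * (m⁻¹ * d.1 * m) * m⁻¹ = d.1 := by group
          rw [this]
          exact d.2)⟩
        left_inv := fun c => Subtype.ext (by
          show m⁻¹ * (m * c.1 * m⁻¹) * m = c.1
          group)
        right_inv := fun d => Subtype.ext (by
          show m * (m⁻¹ * d.1 * m) * m⁻¹ = d.1
          group) }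
  · intro p q
    obtain ⟨d, hd, hdpq⟩ := Cfsg.Agent.Helper17.M24CentB.centM_transitive (m p) (m q)
    have hd' : m * (m⁻¹ * d * m) * m⁻¹ ∈ Cfsg.Agent.Helper17.M24CentB.centM Cfsg.Agent.Helper17.M24CentB.yB := by
      have : m * (m⁻¹ * d * m) * m⁻¹ = d := by group
      rw [this]
      exact hd
    obtain ⟨h1, h2⟩ := (key _).mpr hd'
    refine ⟨m⁻¹ * d * m, h1, h2, ?_⟩
    simp only [Equiv.Perm.mul_apply]
    rw [hdpq]
    simp
  · have hS : ∀ c ∈ Cfsg.M24, c * t = t * c →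
        c • (m⁻¹ • Cfsg.Agent.Helper17.M24CentB.sext0) = m⁻¹ • Cfsg.Agent.Helper17.M24CentB.sext0 := by
      intro c hc hct
      have h1 : c • (m⁻¹ • Cfsg.Agent.Helper17.M24CentB.sext0) =
          m⁻¹ • ((m * c * m⁻¹) • Cfsg.Agent.Helper17.M24CentB.sext0) := by
        rw [smul_smul, smul_smul]
        congr 1
        group
      rw [h1, Cfsg.Agent.Helper17.M24CentB.centM_smul_sext0 ((key c).mp ⟨hc, hct⟩)]
    exact ⟨m⁻¹ • Cfsg.Agent.Helper17.M24CentB.sext0,
      Cfsg.Agent.Helper17.M24CentB.smul_sextet_mem (Cfsg.M24.inv_mem hm) Cfsg.Agent.Helper17.M24CentB.sext0_mem,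
      hS t ht rfl, hS⟩

end Cfsg.Agent.S5607
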