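import Mathlib
import Cfsg.Statements.S5609
import Cfsg.Agent.Helper22.GolayTrio

set_option autoImplicit false

namespace Cfsg.Agent.S5609

open Cfsg Cfsg.Agent.Helper27 Cfsg.Agent.Helper22.Design Cfsg.Agent.Helper22.GolayComb

/-- distinct octads meet in 0, 2 or 4 points -/
theorem inter_card {a b : Finset GolayPt} (ha : a ∈ octads) (hb : b ∈ octads) (hne : a ≠ b) :
    (a ∩ b).card = 0 ∨ (a ∩ b).card = 2 ∨ (a ∩ b).card = 4 := by
  have h1 := card_symmDiff_add a b
  rw [ha.2, hb.2] at h1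
  have h2 := supp_card (symmDiff_mem_supp ha.1 hb.1)
  have h5 : (a ∩ b).card < 5 := by
    by_contra h
    exact hne (octad_eq_of_inter ha hb (by omega))
  rcases h2 with h | h | h | h | h <;> omega

/-- two octads meeting in 4 points have a common disjoint octad -/
theorem exists_disjoint_both {a b : Finset GolayPt} (ha : a ∈ octads) (hb : b ∈ octads)
    (h4 : (a ∩ b).card = 4) : ∃ c ∈ octads, Disjoint a c ∧ Disjoint b c := by
  classical
  have hab : a ≠ b := by
    rintro rfl
    rw [Finset.inter_self, ha.2] at h4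
    omega
  set t := a ∩ b with ht
  have h5 := card_octThrough_tetrad h4
  have hat : a ∈ octThrough t := (mem_octThrough t a).mpr ⟨ha, Finset.inter_subset_left⟩
  have hbt : b ∈ octThrough t := (mem_octThrough t b).mpr ⟨hb, Finset.inter_subset_right⟩
  -- a third and a fourth octad through t
  have hc3 : ∃ c ∈ octThrough t, c ≠ a ∧ c ≠ b := by
    by_contra hcon
    push Not at hcon
    have hsub : octThrough t ⊆ {a, b} := by
      intro c hc
      rw [Finset.mem_insert, Finset.mem_singleton]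
      by_cases hca : c = a
      · exact Or.inl hca
      · exact Or.inr (hcon c hc hca)
    have := Finset.card_le_card hsub
    have h2 : ({a, b} : Finset (Finset GolayPt)).card ≤ 2 := Finset.card_le_two
    omega
  obtain ⟨c, hct, hca, hcb⟩ := hc3
  have hc4 : ∃ d ∈ octThrough t, d ≠ a ∧ d ≠ b ∧ d ≠ c := by
    by_contra hcon
    push Not at hcon
    have hsub : octThrough t ⊆ {a, b, c} := by
      intro d hd
      rw [Finset.mem_insert, Finset.mem_insert, Finset.mem_singleton]
      by_cases hda : d = a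
      · exact Or.inl hda
      · by_cases hdb : d = b
        · exact Or.inr (Or.inl hdb)
        · exact Or.inr (Or.inr (hcon d hd hda hdb))
    have := Finset.card_le_card hsub
    have h3 : ({a, b, c} : Finset (Finset GolayPt)).card ≤ 3 := Finset.card_le_three
    omega
  obtain ⟨d, hdt, hda, hdb, hdc⟩ := hc4
  rw [mem_octThrough] at hct hdt
  refine ⟨symmDiff c d, symmDiff_mem_octads_of_tetrad h4 hct.1 hdt.1 hct.2 hdt.2 hdc.symm, ?_, ?_⟩
  · have e1 := inter_eq_of_tetrad h4 ha hct.1 Finset.inter_subset_left hct.2 hca.symm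
    have e2 := inter_eq_of_tetrad h4 ha hdt.1 Finset.inter_subset_left hdt.2 hda.symm
    rw [Finset.disjoint_left]
    intro x hxa hx
    rw [Finset.mem_symmDiff] at hx
    rcases hx with ⟨hxc, hxd⟩ | ⟨hxd, hxc⟩
    · have : x ∈ a ∩ c := Finset.mem_inter.mpr ⟨hxa, hxc⟩
      rw [e1] at this
      exact hxd (hdt.2 this)
    · have : x ∈ a ∩ d := Finset.mem_inter.mpr ⟨hxa, hxd⟩
      rw [e2] at this
      exact hxc (hct.2 this)
  · have e1 := inter_eq_of_tetrad h4 hb hct.1 Finset.inter_subset_right hct.2 hcb.symm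
    have e2 := inter_eq_of_tetrad h4 hb hdt.1 Finset.inter_subset_right hdt.2 hdb.symm
    rw [Finset.disjoint_left]
    intro x hxb hx
    rw [Finset.mem_symmDiff] at hx
    rcases hx with ⟨hxc, hxd⟩ | ⟨hxd, hxc⟩
    · have : x ∈ b ∩ c := Finset.mem_inter.mpr ⟨hxb, hxc⟩
      rw [e1] at this
      exact hxd (hdt.2 this)
    · have : x ∈ b ∩ d := Finset.mem_inter.mpr ⟨hxb, hxd⟩
      rw [e2] at this
      exact hxc (hct.2 this)

/-- every octad has a disjoint octad -/
theorem exists_disjoint {a : Finset GolayPt} (ha : a ∈ octads) : ∃ c ∈ octads, Disjoint a c := by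
  have h := card_disjoint_octads ha
  have hpos : 0 < (Oct.filter (fun c => Disjoint a c)).card := by rw [h]; norm_num
  obtain ⟨c, hc⟩ := Finset.card_pos.mp hpos
  rw [Finset.mem_filter, mem_Oct] at hc
  exact ⟨c, hc.1, hc.2⟩

/-- if `a` meets `b` in two points and `c` is disjoint from `b`, then with `c' = (b ∪ c)ᶜ` the
six remaining points of `a` split as `2 + 4` or `4 + 2`. -/
theorem split_six {a b c : Finset GolayPt} (ha : a ∈ octads) (hb : b ∈ octads) (hc : c ∈ octads)
    (h2 : (a ∩ b).card = 2) (hd : Disjoint b c) :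
    ((a ∩ c).card = 2 ∧ (a ∩ (b ∪ c)ᶜ).card = 4) ∨ ((a ∩ c).card = 4 ∧ (a ∩ (b ∪ c)ᶜ).card = 2) := by
  classical
  have hc' := compl_union_mem_octads hb hc hd
  have hac : a ≠ c := by
    rintro rfl
    have : a ∩ b = ∅ := by
      rw [Finset.inter_comm]
      exact Finset.disjoint_iff_inter_eq_empty.mp hd
    rw [this] at h2
    simp at h2
  have hac' : a ≠ (b ∪ c)ᶜ := by
    intro h
    have : a ∩ b = ∅ := by
      rw [h]
      ext x
      simp only [Finset.mem_inter, Finset.mem_compl, Finset.mem_union, Finset.notMem_empty,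
        iff_false]
      tauto
    rw [this] at h2
    simp at h2
  -- a = (a∩b) ⊔ (a∩c) ⊔ (a∩c')
  have hsum : (a ∩ b).card + (a ∩ c).card + (a ∩ (b ∪ c)ᶜ).card = 8 := by
    rw [← ha.2]
    have h1 : a = (a ∩ (b ∪ c)) ∪ (a ∩ (b ∪ c)ᶜ) := by
      ext x
      simp only [Finset.mem_union, Finset.mem_inter, Finset.mem_compl]
      tauto
    have hdisj1 : Disjoint (a ∩ (b ∪ c)) (a ∩ (b ∪ c)ᶜ) := by
      rw [Finset.disjoint_left]
      intro x hx hx'
      simp only [Finset.mem_inter, Finset.mem_compl] at hx hx'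
      exact hx'.2 hx.2
    have h2' : a ∩ (b ∪ c) = (a ∩ b) ∪ (a ∩ c) := Finset.inter_union_distrib_left a b c
    have hdisj2 : Disjoint (a ∩ b) (a ∩ c) := by
      rw [Finset.disjoint_left]
      intro x hx hx'
      simp only [Finset.mem_inter] at hx hx'
      exact Finset.disjoint_left.mp hd hx.2 hx'.2
    conv_rhs => rw [h1]
    rw [Finset.card_union_of_disjoint hdisj1, h2', Finset.card_union_of_disjoint hdisj2]
  have e1 := inter_card ha hc hac
  have e2 := inter_card ha hc' hac'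
  rcases e1 with e1 | e1 | e1 <;> rcases e2 with e2 | e2 | e2 <;> omega

theorem adj_iff {a b : Finset GolayPt} (ha : a ∈ octads) (hb : b ∈ octads) :
    (blockGraph octads).Adj ⟨a, ha⟩ ⟨b, hb⟩ ↔ Disjoint a b := by
  unfold blockGraph
  rw [SimpleGraph.fromRel_adj]
  constructor
  · rintro ⟨_, h | h⟩
    · exact h
    · exact h.symm
  · intro h
    refine ⟨?_, Or.inl h⟩
    intro heq
    have : a = b := congrArg Subtype.val heq
    exact octad_ne_of_disjoint ha h this

theorem disjoint_iff_card {a b : Finset GolayPt} : Disjoint a b ↔ (a ∩ b).card = 0 := by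
  rw [Finset.card_eq_zero, Finset.disjoint_iff_inter_eq_empty]

/-- a walk of length three between octads meeting in two points -/
theorem exists_path3 {a b : Finset GolayPt} (ha : a ∈ octads) (hb : b ∈ octads)
    (h2 : (a ∩ b).card = 2) :
    ∃ c ∈ octads, ∃ d ∈ octads, Disjoint a c ∧ Disjoint c d ∧ Disjoint d b := by
  obtain ⟨e, he, hbe⟩ := exists_disjoint hb
  rcases split_six ha hb he h2 hbe with ⟨_, h4⟩ | ⟨h4, _⟩
  · -- use e' = (b ∪ e)ᶜ
    have he' := compl_union_mem_octads hb he hbe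
    obtain ⟨c, hc, hac, hec⟩ := exists_disjoint_both ha he' h4
    refine ⟨c, hc, _, he', hac, hec.symm, ?_⟩
    rw [Finset.disjoint_left]
    intro x hx hxb
    rw [Finset.mem_compl, Finset.mem_union] at hx
    exact hx (Or.inl hxb)
  · obtain ⟨c, hc, hac, hec⟩ := exists_disjoint_both ha he h4
    exact ⟨c, hc, e, he, hac, hec.symm, hbe.symm⟩

theorem reachable {a b : Finset GolayPt} (ha : a ∈ octads) (hb : b ∈ octads) :
    (blockGraph octads).Reachable ⟨a, ha⟩ ⟨b, hb⟩ := by
  by_cases hab : a = b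
  · subst hab
    exact SimpleGraph.Reachable.refl _
  rcases inter_card ha hb hab with h | h | h
  · exact ((adj_iff ha hb).mpr (disjoint_iff_card.mpr h)).reachable
  · obtain ⟨c, hc, d, hd, h1, h2, h3⟩ := exists_path3 ha hb h
    exact (((adj_iff ha hc).mpr h1).reachable.trans ((adj_iff hc hd).mpr h2).reachable).trans
      ((adj_iff hd hb).mpr h3).reachable
  · obtain ⟨c, hc, h1, h2⟩ := exists_disjoint_both ha hb h
    exact ((adj_iff ha hc).mpr h1).reachable.trans ((adj_iff hc hb).mpr h2.symm).reachable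

theorem result (o o' : Finset Cfsg.GolayPt) (ho : o ∈ Cfsg.octads) (ho' : o' ∈ Cfsg.octads) (hne : o ≠ o') : (Cfsg.blockGraph Cfsg.octads).Connected ∧ ((Cfsg.blockGraph Cfsg.octads).dist ⟨o, ho⟩ ⟨o', ho'⟩ = 1 ↔ (o ∩ o').card = 0) ∧ ((Cfsg.blockGraph Cfsg.octads).dist ⟨o, ho⟩ ⟨o', ho'⟩ = 2 ↔ (o ∩ o').card = 4) ∧ ((Cfsg.blockGraph Cfsg.octads).dist ⟨o, ho⟩ ⟨o', ho'⟩ = 3 ↔ (o ∩ o').card = 2) := by
  classical
  have hconn : (blockGraph octads).Connected := by
    have : Nonempty ↥octads := ⟨⟨o, ho⟩⟩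
    rw [SimpleGraph.connected_iff]
    refine ⟨?_, inferInstance⟩
    rintro ⟨a, ha⟩ ⟨b, hb⟩
    exact reachable ha hb
  have hreach := reachable ho ho'
  have hne' : (⟨o, ho⟩ : ↥octads) ≠ ⟨o', ho'⟩ := fun h => hne (congrArg Subtype.val h)
  have hcoe := hreach.coe_dist_eq_edist
  have h1 : (blockGraph octads).dist ⟨o, ho⟩ ⟨o', ho'⟩ = 1 ↔ (o ∩ o').card = 0 := by
    rw [SimpleGraph.dist_eq_one_iff_adj, adj_iff, disjoint_iff_card]
  have h2 : (blockGraph octads).dist ⟨o, ho⟩ ⟨o', ho'⟩ = 2 ↔ (o ∩ o').card = 4 := by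
    have e : (blockGraph octads).dist ⟨o, ho⟩ ⟨o', ho'⟩ = 2 ↔
        (blockGraph octads).edist ⟨o, ho⟩ ⟨o', ho'⟩ = 2 := by
      rw [← hcoe]
      exact_mod_cast Iff.rfl
    rw [e, SimpleGraph.edist_eq_two_iff]
    constructor
    · rintro ⟨_, hnadj, ⟨⟨c, hc⟩, hcn⟩⟩
      rw [SimpleGraph.mem_commonNeighbors, adj_iff, adj_iff] at hcn
      rw [adj_iff, disjoint_iff_card] at hnadj
      rcases inter_card ho ho' hne with h | h | h
      · exact absurd h hnadj
      · exfalso
        rcases split_six ho ho' hc h hcn.2 with ⟨h', _⟩ | ⟨h', _⟩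
        · rw [disjoint_iff_card.mp hcn.1] at h'; omega
        · rw [disjoint_iff_card.mp hcn.1] at h'; omega
      · exact h
    · intro h4
      refine ⟨hne', ?_, ?_⟩
      · rw [adj_iff, disjoint_iff_card]; omega
      · obtain ⟨c, hc, hd1, hd2⟩ := exists_disjoint_both ho ho' h4
        refine ⟨⟨c, hc⟩, ?_⟩
        rw [SimpleGraph.mem_commonNeighbors, adj_iff, adj_iff]
        exact ⟨hd1, hd2⟩
  refine ⟨hconn, h1, h2, ?_⟩
  constructor
  · intro h3
    rcases inter_card ho ho' hne with h | h | h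
    · rw [h1.mpr h] at h3; omega
    · exact h
    · rw [h2.mpr h] at h3; omega
  · intro h
    obtain ⟨c, hc, d, hd, e1, e2, e3⟩ := exists_path3 ho ho' h
    have hle : (blockGraph octads).dist ⟨o, ho⟩ ⟨o', ho'⟩ ≤ 3 := by
      have w : (blockGraph octads).Walk ⟨o, ho⟩ ⟨o', ho'⟩ :=
        SimpleGraph.Walk.cons ((adj_iff ho hc).mpr e1)
          (SimpleGraph.Walk.cons ((adj_iff hc hd).mpr e2)
            (SimpleGraph.Walk.cons ((adj_iff hd ho').mpr e3) SimpleGraph.Walk.nil))
      have := SimpleGraph.dist_le (SimpleGraph.Walk.cons ((adj_iff ho hc).mpr e1)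
          (SimpleGraph.Walk.cons ((adj_iff hc hd).mpr e2)
            (SimpleGraph.Walk.cons ((adj_iff hd ho').mpr e3) SimpleGraph.Walk.nil)))
      simpa using this
    have h0 : (blockGraph octads).dist ⟨o, ho⟩ ⟨o', ho'⟩ ≠ 0 := by
      rw [hreach.dist_eq_zero_iff.ne]
      exact hne'
    have hn1 : (blockGraph octads).dist ⟨o, ho⟩ ⟨o', ho'⟩ ≠ 1 := by
      rw [Ne, h1]; omega
    have hn2 : (blockGraph octads).dist ⟨o, ho⟩ ⟨o', ho'⟩ ≠ 2 := by
      rw [Ne, h2]; omega
    omega

end Cfsg.Agent.S5609
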