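import Cfsg.Statements.S5610
import Cfsg.Agent.Helper22.OctTrioCert
import Cfsg.Agent.Helper22.OctSextCert
import Cfsg.Agent.Helper22.TrioStd
import Cfsg.Agent.Helper22.SextetStd

set_option autoImplicit false
open scoped Pointwise
open Cfsg Cfsg.Agent.Helper27 Cfsg.Agent.Helper22 Cfsg.Agent.Helper22.OctList Cfsg.Agent.Helper22.TrioList Cfsg.Agent.Helper22.SextetCode Cfsg.Agent.Helper22.TrioRef Cfsg.Agent.Helper22.StabOrbits Cfsg.Agent.Helper22.OrbitOct

namespace Cfsg.Agent.S5610

/-- the standard octad -/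
def A0 : Finset GolayPt := maskSet oct5

theorem certSoundOct : CertSound (stabIn A0) cert8 := by
  intro T hv h
  have := certSound8 T hv h
  rw [mem_stabP] at this
  rw [mem_stabIn]
  exact this

theorem hφ (m : ℕ) : (maskSet m ∩ A0).card ^ 2 = popc 24 (m &&& oct5) ^ 2 := by
  rw [A0, Flag.card_inter_maskSet]

theorem hqT : ∀ c ∈ trioL, invP A0 (TrioCode.dec c) = OctTrioCert.invM c := fun _ hc =>
  TrioCode.sum_dec hc (fun u => (u ∩ A0).card ^ 2) OctTrioCert.psiM hφ

theorem hqS : ∀ n ∈ canonL, invP A0 (SextetCode.dec n) = OctSextCert.invM n := fun _ hn =>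
  SextetCode.sum_dec hn (fun u => (u ∩ A0).card ^ 2) OctSextCert.psiM hφ

theorem svals_ok : OctSextCert.invL.all (fun v => [32, 16, 14].contains v) = true := by decide +kernel

/-- The stabiliser of an octad in the group of the length-24 code has exactly three orbits on the 3795 trios, of sizes 15, 420 and 3360, and exactly three orbits on the 1771 sextets, of sizes 35, 840 and 896. -/
theorem result (o : Finset Cfsg.GolayPt) (ho : o ∈ Cfsg.octads) : (∃ X₁ ∈ Cfsg.trios, ∃ X₂ ∈ Cfsg.trios, ∃ X₃ ∈ Cfsg.trios, (MulAction.orbit ↥(MulAction.stabilizer Cfsg.M24 o) X₁).ncard = 15 ∧ (MulAction.orbit ↥(MulAction.stabilizer Cfsg.M24 o) X₂).ncard = 420 ∧ (MulAction.orbit ↥(MulAction.stabilizer Cfsg.M24 o) X₃).ncard = 3360 ∧ Cfsg.trios = MulAction.orbit ↥(MulAction.stabilizer Cfsg.M24 o) X₁ ∪ MulAction.orbit ↥(MulAction.stabilizer Cfsg.M24 o) X₂ ∪ MulAction.orbit ↥(MulAction.stabilizer Cfsg.M24 o) X₃) ∧ (∃ Y₁ ∈ Cfsg.sextets, ∃ Y₂ ∈ Cfsg.sextets, ∃ Y₃ ∈ Cfsg.sextets, (MulAction.orbit ↥(MulAction.stabilizer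 Cfsg.M24 o) Y₁).ncard = 35 ∧ (MulAction.orbit ↥(MulAction.stabilizer Cfsg.M24 o) Y₂).ncard = 840 ∧ (MulAction.orbit ↥(MulAction.stabilizer Cfsg.M24 o) Y₃).ncard = 896 ∧ Cfsg.sextets = MulAction.orbit ↥(MulAction.stabilizer Cfsg.M24 o) Y₁ ∪ MulAction.orbit ↥(MulAction.stabilizer Cfsg.M24 o) Y₂ ∪ MulAction.orbit ↥(MulAction.stabilizer Cfsg.M24 o) Y₃) := by
  classical
  obtain ⟨g0, hg0, hA⟩ := M24_octad_transitive o (maskSet oct5) ho Flag.maskSet_oct5_mem
  have hA' : g0 • o = A0 := hA
  constructor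
  · -- trios
    have hstd : ∀ X ∈ trios, ∀ Y ∈ trios, invP A0 X = invP A0 Y → ∃ k ∈ stabIn A0, k • X = Y := by
      intro X hX Y hY hXY
      have hv := TrioStd.std_vals invP A0 OctTrioCert.invM hqT OctTrioCert.invL_ok OctTrioCert.vals_ok hX
      simp only [List.mem_cons, List.not_mem_nil, or_false] at hv
      rcases hv with h | h | h
      · exact TrioStd.std_orbit invP invP_smul A0 OctTrioCert.invM hqT OctTrioCert.invL_ok certSoundOct
          OctTrioCert.desc64 hX hY h (hXY ▸ h)
      · exact TrioStd.std_orbit invP invP_smul A0 OctTrioCert.invM hqT OctTrioCert.invL_ok certSoundOct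
          OctTrioCert.desc32 hX hY h (hXY ▸ h)
      · exact TrioStd.std_orbit invP invP_smul A0 OctTrioCert.invM hqT OctTrioCert.invL_ok certSoundOct
          OctTrioCert.desc24 hX hY h (hXY ▸ h)
    have htrans := trans_general trios trios_invariant invP invP_smul hg0 hA' hstd
    have hcount : ∀ v : ℕ, {X | X ∈ trios ∧ invP o X = v}.ncard = OctTrioCert.invL.count v := by
      intro v
      rw [count_general trios trios_invariant invP invP_smul hg0 hA' v,
        TrioStd.std_count invP A0 OctTrioCert.invM hqT OctTrioCert.invL_ok v]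
    obtain ⟨X₁, hX₁, ho₁, hn₁⟩ := exists_orbit trios trios_invariant invP invP_smul htrans 64 15
      (by rw [hcount, OctTrioCert.cnt64]) (by norm_num)
    obtain ⟨X₂, hX₂, ho₂, hn₂⟩ := exists_orbit trios trios_invariant invP invP_smul htrans 32 420
      (by rw [hcount, OctTrioCert.cnt32]) (by norm_num)
    obtain ⟨X₃, hX₃, ho₃, hn₃⟩ := exists_orbit trios trios_invariant invP invP_smul htrans 24 3360
      (by rw [hcount, OctTrioCert.cnt24]) (by norm_num)
    refine ⟨X₁, hX₁, X₂, hX₂, X₃, hX₃, hn₁, hn₂, hn₃, ?_⟩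
    rw [ho₁, ho₂, ho₃]
    ext X
    simp only [Set.mem_union, Set.mem_ofPred_eq]
    constructor
    · intro hX
      have hv := TrioStd.std_vals invP A0 OctTrioCert.invM hqT OctTrioCert.invL_ok OctTrioCert.vals_ok
        (smul_trio_mem hg0 hX)
      rw [← hA', invP_smul] at hv
      simp only [List.mem_cons, List.not_mem_nil, or_false] at hv
      rcases hv with h | h | h
      · exact Or.inl (Or.inl ⟨hX, h⟩)
      · exact Or.inl (Or.inr ⟨hX, h⟩)
      · exact Or.inr ⟨hX, h⟩
    · rintro ((h | h) | h) <;> exact h.1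
  · -- sextets
    have hstd : ∀ X ∈ sextets, ∀ Y ∈ sextets, invP A0 X = invP A0 Y → ∃ k ∈ stabIn A0, k • X = Y := by
      intro X hX Y hY hXY
      have hv := SextetStd.std_vals invP A0 OctSextCert.invM hqS OctSextCert.invL_ok svals_ok hX
      simp only [List.mem_cons, List.not_mem_nil, or_false] at hv
      rcases hv with h | h | h
      · exact SextetStd.std_orbit invP invP_smul A0 OctSextCert.invM hqS OctSextCert.invL_ok certSoundOct
          OctSextCert.desc32 hX hY h (hXY ▸ h)
      · exact SextetStd.std_orbit invP invP_smul A0 OctSextCert.invM hqS OctSextCert.invL_ok certSoundOct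
          OctSextCert.desc16 hX hY h (hXY ▸ h)
      · exact SextetStd.std_orbit invP invP_smul A0 OctSextCert.invM hqS OctSextCert.invL_ok certSoundOct
          OctSextCert.desc14 hX hY h (hXY ▸ h)
    have htrans := trans_general sextets SextetStd.sextets_invariant invP invP_smul hg0 hA' hstd
    have hcount : ∀ v : ℕ, {X | X ∈ sextets ∧ invP o X = v}.ncard = OctSextCert.invL.count v := by
      intro v
      rw [count_general sextets SextetStd.sextets_invariant invP invP_smul hg0 hA' v,
        SextetStd.std_count invP A0 OctSextCert.invM hqS OctSextCert.invL_ok v]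
    obtain ⟨Y₁, hY₁, ho₁, hn₁⟩ := exists_orbit sextets SextetStd.sextets_invariant invP invP_smul htrans 32 35
      (by rw [hcount, OctSextCert.cnt32]) (by norm_num)
    obtain ⟨Y₂, hY₂, ho₂, hn₂⟩ := exists_orbit sextets SextetStd.sextets_invariant invP invP_smul htrans 16 840
      (by rw [hcount, OctSextCert.cnt16]) (by norm_num)
    obtain ⟨Y₃, hY₃, ho₃, hn₃⟩ := exists_orbit sextets SextetStd.sextets_invariant invP invP_smul htrans 14 896
      (by rw [hcount, OctSextCert.cnt14]) (by norm_num)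
    refine ⟨Y₁, hY₁, Y₂, hY₂, Y₃, hY₃, hn₁, hn₂, hn₃, ?_⟩
    rw [ho₁, ho₂, ho₃]
    ext X
    simp only [Set.mem_union, Set.mem_ofPred_eq]
    constructor
    · intro hX
      have hv := SextetStd.std_vals invP A0 OctSextCert.invM hqS OctSextCert.invL_ok svals_ok
        (smul_sextet_mem hg0 hX)
      rw [← hA', invP_smul] at hv
      simp only [List.mem_cons, List.not_mem_nil, or_false] at hv
      rcases hv with h | h | h
      · exact Or.inl (Or.inl ⟨hX, h⟩)
      · exact Or.inl (Or.inr ⟨hX, h⟩)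
      · exact Or.inr ⟨hX, h⟩
    · rintro ((h | h) | h) <;> exact h.1

end Cfsg.Agent.S5610
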