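import Cfsg.Statements.S5611
import Cfsg.Agent.Helper22.SextOctCert
import Cfsg.Agent.Helper22.SextTrioCert
import Cfsg.Agent.Helper22.TrioStd
import Cfsg.Agent.Helper22.InvTO

set_option autoImplicit false
open scoped Pointwise
open Cfsg Cfsg.Agent.Helper27 Cfsg.Agent.Helper22 Cfsg.Agent.Helper22.TrioList Cfsg.Agent.Helper22.SextetRef Cfsg.Agent.Helper22.TrioRef Cfsg.Agent.Helper22.StabOrbits

namespace Cfsg.Agent.S5611

theorem hφ (m : ℕ) : invTO S0 (maskSet m) = SextOctCert.invM m := by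
  rw [invTO, SextOctCert.invM]
  exact SextetRef.hφ m

theorem hqT : ∀ c ∈ trioL, invS S0 (TrioCode.dec c) = SextTrioCert.invM c := fun _ hc =>
  TrioCode.sum_dec hc (invTO S0) SextTrioCert.phiM hφ

/-- The stabiliser of a sextet in the group of the length-24 code has exactly three orbits on the 759 octads, of sizes 15, 360 and 384, and exactly four orbits on the 3795 trios, of sizes 15, 180, 720 and 2880. -/
theorem result (S : Finset (Finset Cfsg.GolayPt)) (hS : S ∈ Cfsg.sextets) : (∃ X₁ ∈ Cfsg.octads, ∃ X₂ ∈ Cfsg.octads, ∃ X₃ ∈ Cfsg.octads, (MulAction.orbit ↥(MulAction.stabilizer Cfsg.M24 S) X₁).ncard = 15 ∧ (MulAction.orbit ↥(MulAction.stabilizer Cfsg.M24 S) X₂).ncard = 360 ∧ (MulAction.orbit ↥(MulAction.stabilizer Cfsg.M24 S) X₃).ncard = 384 ∧ Cfsg.octads = MulAction.orbit ↥(MulAction.stabilizer Cfsg.M24 S) X₁ ∪ MulAction.orbit ↥(MulAction.stabilizer Cfsg.M24 S) X₂ ∪ MulAction.orbit ↥(MulAction.stabilizer Cfsg.M24 S) X₃) ∧ (∃ Y₁ ∈ Cfsg.trios, ∃ Y₂ ∈ Cfsg.trios, ∃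 Y₃ ∈ Cfsg.trios, ∃ Y₄ ∈ Cfsg.trios, (MulAction.orbit ↥(MulAction.stabilizer Cfsg.M24 S) Y₁).ncard = 15 ∧ (MulAction.orbit ↥(MulAction.stabilizer Cfsg.M24 S) Y₂).ncard = 180 ∧ (MulAction.orbit ↥(MulAction.stabilizer Cfsg.M24 S) Y₃).ncard = 720 ∧ (MulAction.orbit ↥(MulAction.stabilizer Cfsg.M24 S) Y₄).ncard = 2880 ∧ Cfsg.trios = MulAction.orbit ↥(MulAction.stabilizer Cfsg.M24 S) Y₁ ∪ MulAction.orbit ↥(MulAction.stabilizer Cfsg.M24 S) Y₂ ∪ MulAction.orbit ↥(MulAction.stabilizer Cfsg.M24 S) Y₃ ∪ MulAction.orbit ↥(MulAction.stabilizer Cfsg.M24 S) Y₄) := by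
  classical
  obtain ⟨g0, hg0, hA⟩ := exists_smul_eq_S0 hS
  constructor
  · -- octads
    have hstd : ∀ X ∈ octads, ∀ Y ∈ octads, invTO S0 X = invTO S0 Y → ∃ k ∈ stabIn S0, k • X = Y := by
      intro X hX Y hY hXY
      have hv := OctadStd.std_vals invTO S0 SextOctCert.invM hφ SextOctCert.ovals_ok hX
      simp only [List.mem_cons, List.not_mem_nil, or_false] at hv
      rcases hv with h | h | h
      · exact OctadStd.std_orbit invTO S0 SextOctCert.invM hφ certSoundSext SextOctCert.odesc32 hX hY h (hXY ▸ h)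
      · exact OctadStd.std_orbit invTO S0 SextOctCert.invM hφ certSoundSext SextOctCert.odesc16 hX hY h (hXY ▸ h)
      · exact OctadStd.std_orbit invTO S0 SextOctCert.invM hφ certSoundSext SextOctCert.odesc14 hX hY h (hXY ▸ h)
    have htrans := trans_general octads OctadStd.octads_invariant invTO invTO_smul hg0 hA hstd
    have hcount : ∀ v : ℕ, {X | X ∈ octads ∧ invTO S X = v}.ncard =
        countBelow (fun k => OctadStd.clsP SextOctCert.invM v (cw k)) 4096 := by
      intro v
      rw [count_general octads OctadStd.octads_invariant invTO invTO_smul hg0 hA v,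
        OctadStd.std_count invTO S0 SextOctCert.invM hφ v]
    obtain ⟨X₁, hX₁, ho₁, hn₁⟩ := exists_orbit octads OctadStd.octads_invariant invTO invTO_smul htrans 32 15
      (by rw [hcount, SextOctCert.ocnt32]) (by norm_num)
    obtain ⟨X₂, hX₂, ho₂, hn₂⟩ := exists_orbit octads OctadStd.octads_invariant invTO invTO_smul htrans 16 360
      (by rw [hcount, SextOctCert.ocnt16]) (by norm_num)
    obtain ⟨X₃, hX₃, ho₃, hn₃⟩ := exists_orbit octads OctadStd.octads_invariant invTO invTO_smul htrans 14 384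
      (by rw [hcount, SextOctCert.ocnt14]) (by norm_num)
    refine ⟨X₁, hX₁, X₂, hX₂, X₃, hX₃, hn₁, hn₂, hn₃, ?_⟩
    rw [ho₁, ho₂, ho₃]
    ext X
    simp only [Set.mem_union, Set.mem_ofPred_eq]
    constructor
    · intro hX
      have hv := OctadStd.std_vals invTO S0 SextOctCert.invM hφ SextOctCert.ovals_ok
        (OctadStd.octads_invariant g0 hg0 X hX)
      rw [← hA, invTO_smul] at hv
      simp only [List.mem_cons, List.not_mem_nil, or_false] at hv
      rcases hv with h | h | h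
      · exact Or.inl (Or.inl ⟨hX, h⟩)
      · exact Or.inl (Or.inr ⟨hX, h⟩)
      · exact Or.inr ⟨hX, h⟩
    · rintro ((h | h) | h) <;> exact h.1
  · -- trios
    have hstd : ∀ X ∈ trios, ∀ Y ∈ trios, invS S0 X = invS S0 Y → ∃ k ∈ stabIn S0, k • X = Y := by
      intro X hX Y hY hXY
      have hv := TrioStd.std_vals invS S0 SextTrioCert.invM hqT SextTrioCert.invL_ok SextTrioCert.vals_ok hX
      simp only [List.mem_cons, List.not_mem_nil, or_false] at hv
      rcases hv with h | h | h | h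
      · exact TrioStd.std_orbit invS invS_smul S0 SextTrioCert.invM hqT SextTrioCert.invL_ok certSoundSext
          SextTrioCert.desc96 hX hY h (hXY ▸ h)
      · exact TrioStd.std_orbit invS invS_smul S0 SextTrioCert.invM hqT SextTrioCert.invL_ok certSoundSext
          SextTrioCert.desc64 hX hY h (hXY ▸ h)
      · exact TrioStd.std_orbit invS invS_smul S0 SextTrioCert.invM hqT SextTrioCert.invL_ok certSoundSext
          SextTrioCert.desc48 hX hY h (hXY ▸ h)
      · exact TrioStd.std_orbit invS invS_smul S0 SextTrioCert.invM hqT SextTrioCert.invL_ok certSoundSext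
          SextTrioCert.desc44 hX hY h (hXY ▸ h)
    have htrans := trans_general trios trios_invariant invS invS_smul hg0 hA hstd
    have hcount : ∀ v : ℕ, {X | X ∈ trios ∧ invS S X = v}.ncard = SextTrioCert.invL.count v := by
      intro v
      rw [count_general trios trios_invariant invS invS_smul hg0 hA v,
        TrioStd.std_count invS S0 SextTrioCert.invM hqT SextTrioCert.invL_ok v]
    obtain ⟨Y₁, hY₁, ho₁, hn₁⟩ := exists_orbit trios trios_invariant invS invS_smul htrans 96 15
      (by rw [hcount, SextTrioCert.cnt96]) (by norm_num)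
    obtain ⟨Y₂, hY₂, ho₂, hn₂⟩ := exists_orbit trios trios_invariant invS invS_smul htrans 64 180
      (by rw [hcount, SextTrioCert.cnt64]) (by norm_num)
    obtain ⟨Y₃, hY₃, ho₃, hn₃⟩ := exists_orbit trios trios_invariant invS invS_smul htrans 48 720
      (by rw [hcount, SextTrioCert.cnt48]) (by norm_num)
    obtain ⟨Y₄, hY₄, ho₄, hn₄⟩ := exists_orbit trios trios_invariant invS invS_smul htrans 44 2880
      (by rw [hcount, SextTrioCert.cnt44]) (by norm_num)
    refine ⟨Y₁, hY₁, Y₂, hY₂, Y₃, hY₃, Y₄, hY₄, hn₁, hn₂, hn₃, hn₄, ?_⟩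
    rw [ho₁, ho₂, ho₃, ho₄]
    ext X
    simp only [Set.mem_union, Set.mem_ofPred_eq]
    constructor
    · intro hX
      have hv := TrioStd.std_vals invS S0 SextTrioCert.invM hqT SextTrioCert.invL_ok SextTrioCert.vals_ok
        (smul_trio_mem hg0 hX)
      rw [← hA, invS_smul] at hv
      simp only [List.mem_cons, List.not_mem_nil, or_false] at hv
      rcases hv with h | h | h | h
      · exact Or.inl (Or.inl (Or.inl ⟨hX, h⟩))
      · exact Or.inl (Or.inl (Or.inr ⟨hX, h⟩))
      · exact Or.inl (Or.inr ⟨hX, h⟩)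
      · exact Or.inr ⟨hX, h⟩
    · rintro (((h | h) | h) | h) <;> exact h.1

end Cfsg.Agent.S5611
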