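import Cfsg.Statements.S5612
import Cfsg.Agent.Helper22.TrioOctCert
import Cfsg.Agent.Helper22.TrioSextCert
import Cfsg.Agent.Helper22.SextetStd
import Cfsg.Agent.Helper22.InvTO

set_option autoImplicit false
open scoped Pointwise
open Cfsg Cfsg.Agent.Helper27 Cfsg.Agent.Helper22 Cfsg.Agent.Helper22.OctList Cfsg.Agent.Helper22.SextetCode Cfsg.Agent.Helper22.TrioRef Cfsg.Agent.Helper22.StabOrbits Cfsg.Agent.Helper22.SextetStd

namespace Cfsg.Agent.S5612

theorem hφ (m : ℕ) : invTO T0 (maskSet m) = TrioOctCert.invM m := by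
  rw [invTO, sum_T0, TrioOctCert.invM]
  simp only [Flag.card_inter_maskSet]

theorem hqS : ∀ n ∈ canonL, invS T0 (dec n) = TrioSextCert.invM n := fun n hn =>
  sum_dec hn (invTO T0) (fun m => popc 24 (m &&& 5279) ^ 2 + (popc 24 (m &&& 1009728) ^ 2 +
    popc 24 (m &&& 15762208) ^ 2)) hφ

theorem svals_ok : TrioSextCert.invL.all (fun v => [96, 64, 48, 44].contains v) = true := by decide +kernel

/-- The stabiliser of a trio in the group of the length-24 code has exactly three orbits on the 759 octads, of sizes 3, 84 and 672, and exactly four orbits on the 1771 sextets, of sizes 7, 84, 336 and 1344. -/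
theorem result (T : Finset (Finset Cfsg.GolayPt)) (hT : T ∈ Cfsg.trios) : (∃ X₁ ∈ Cfsg.octads, ∃ X₂ ∈ Cfsg.octads, ∃ X₃ ∈ Cfsg.octads, (MulAction.orbit ↥(MulAction.stabilizer Cfsg.M24 T) X₁).ncard = 3 ∧ (MulAction.orbit ↥(MulAction.stabilizer Cfsg.M24 T) X₂).ncard = 84 ∧ (MulAction.orbit ↥(MulAction.stabilizer Cfsg.M24 T) X₃).ncard = 672 ∧ Cfsg.octads = MulAction.orbit ↥(MulAction.stabilizer Cfsg.M24 T) X₁ ∪ MulAction.orbit ↥(MulAction.stabilizer Cfsg.M24 T) X₂ ∪ MulAction.orbit ↥(MulAction.stabilizer Cfsg.M24 T) X₃) ∧ (∃ Y₁ ∈ Cfsg.sextets, ∃ Y₂ ∈ Cfsg.sextets, ∃ Y₃ ∈ Cfsg.sextets, ∃ Y₄ ∈ Cfsg.sextets, (MulAction.orbit ↥(MulAction.stabilizer Cfsg.M24 T) Y₁).ncard = 7 ∧ (MulAction.orbit ↥(MulAction.stabilizer Cfsg.M24 T) Y₂).ncard = 84 ∧ (MulAction.orbit ↥(MulAction.stabilizer Cfsg.M24 T) Y₃).ncard = 336 ∧ (MulAction.orbit ↥(MulAction.stabilizer Cfsg.M24 T) Y₄).ncard = 1344 ∧ Cfsg.sextets = MulAction.orbit ↥(MulAction.stabilizer Cfsg.M24 T) Y₁ ∪ MulAction.orbit ↥(MulAction.stabilizer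 Cfsg.M24 T) Y₂ ∪ MulAction.orbit ↥(MulAction.stabilizer Cfsg.M24 T) Y₃ ∪ MulAction.orbit ↥(MulAction.stabilizer Cfsg.M24 T) Y₄) := by
  classical
  obtain ⟨g0, hg0, hA⟩ := exists_smul_eq_T0 hT
  constructor
  · -- octads
    have hstd : ∀ X ∈ octads, ∀ Y ∈ octads, invTO T0 X = invTO T0 Y → ∃ k ∈ stabIn T0, k • X = Y := by
      intro X hX Y hY hXY
      have hv := OctadStd.std_vals invTO T0 TrioOctCert.invM hφ TrioOctCert.ovals_ok hX
      simp only [List.mem_cons, List.not_mem_nil, or_false] at hv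
      rcases hv with h | h | h
      · exact OctadStd.std_orbit invTO T0 TrioOctCert.invM hφ certSoundTrio TrioOctCert.odesc64 hX hY h (hXY ▸ h)
      · exact OctadStd.std_orbit invTO T0 TrioOctCert.invM hφ certSoundTrio TrioOctCert.odesc32 hX hY h (hXY ▸ h)
      · exact OctadStd.std_orbit invTO T0 TrioOctCert.invM hφ certSoundTrio TrioOctCert.odesc24 hX hY h (hXY ▸ h)
    have htrans := trans_general octads OctadStd.octads_invariant invTO invTO_smul hg0 hA hstd
    have hcount : ∀ v : ℕ, {X | X ∈ octads ∧ invTO T X = v}.ncard =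
        countBelow (fun k => OctadStd.clsP TrioOctCert.invM v (cw k)) 4096 := by
      intro v
      rw [count_general octads OctadStd.octads_invariant invTO invTO_smul hg0 hA v,
        OctadStd.std_count invTO T0 TrioOctCert.invM hφ v]
    obtain ⟨X₁, hX₁, ho₁, hn₁⟩ := exists_orbit octads OctadStd.octads_invariant invTO invTO_smul htrans 64 3
      (by rw [hcount, TrioOctCert.ocnt64]) (by norm_num)
    obtain ⟨X₂, hX₂, ho₂, hn₂⟩ := exists_orbit octads OctadStd.octads_invariant invTO invTO_smul htrans 32 84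
      (by rw [hcount, TrioOctCert.ocnt32]) (by norm_num)
    obtain ⟨X₃, hX₃, ho₃, hn₃⟩ := exists_orbit octads OctadStd.octads_invariant invTO invTO_smul htrans 24 672
      (by rw [hcount, TrioOctCert.ocnt24]) (by norm_num)
    refine ⟨X₁, hX₁, X₂, hX₂, X₃, hX₃, hn₁, hn₂, hn₃, ?_⟩
    rw [ho₁, ho₂, ho₃]
    ext X
    simp only [Set.mem_union, Set.mem_ofPred_eq]
    constructor
    · intro hX
      have hv := OctadStd.std_vals invTO T0 TrioOctCert.invM hφ TrioOctCert.ovals_ok
        (OctadStd.octads_invariant g0 hg0 X hX)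
      rw [← hA, invTO_smul] at hv
      simp only [List.mem_cons, List.not_mem_nil, or_false] at hv
      rcases hv with h | h | h
      · exact Or.inl (Or.inl ⟨hX, h⟩)
      · exact Or.inl (Or.inr ⟨hX, h⟩)
      · exact Or.inr ⟨hX, h⟩
    · rintro ((h | h) | h) <;> exact h.1
  · -- sextets
    have hstd : ∀ X ∈ sextets, ∀ Y ∈ sextets, invS T0 X = invS T0 Y → ∃ k ∈ stabIn T0, k • X = Y := by
      intro X hX Y hY hXY
      have hv := std_vals invS T0 TrioSextCert.invM hqS TrioSextCert.invL_ok svals_ok hX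
      simp only [List.mem_cons, List.not_mem_nil, or_false] at hv
      rcases hv with h | h | h | h
      · exact std_orbit invS invS_smul T0 TrioSextCert.invM hqS TrioSextCert.invL_ok certSoundTrio
          TrioSextCert.desc96 hX hY h (hXY ▸ h)
      · exact std_orbit invS invS_smul T0 TrioSextCert.invM hqS TrioSextCert.invL_ok certSoundTrio
          TrioSextCert.desc64 hX hY h (hXY ▸ h)
      · exact std_orbit invS invS_smul T0 TrioSextCert.invM hqS TrioSextCert.invL_ok certSoundTrio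
          TrioSextCert.desc48 hX hY h (hXY ▸ h)
      · exact std_orbit invS invS_smul T0 TrioSextCert.invM hqS TrioSextCert.invL_ok certSoundTrio
          TrioSextCert.desc44 hX hY h (hXY ▸ h)
    have htrans := trans_general sextets sextets_invariant invS invS_smul hg0 hA hstd
    have hcount : ∀ v : ℕ, {X | X ∈ sextets ∧ invS T X = v}.ncard = TrioSextCert.invL.count v := by
      intro v
      rw [count_general sextets sextets_invariant invS invS_smul hg0 hA v,
        std_count invS T0 TrioSextCert.invM hqS TrioSextCert.invL_ok v]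
    obtain ⟨Y₁, hY₁, ho₁, hn₁⟩ := exists_orbit sextets sextets_invariant invS invS_smul htrans 96 7
      (by rw [hcount, TrioSextCert.cnt96]) (by norm_num)
    obtain ⟨Y₂, hY₂, ho₂, hn₂⟩ := exists_orbit sextets sextets_invariant invS invS_smul htrans 64 84
      (by rw [hcount, TrioSextCert.cnt64]) (by norm_num)
    obtain ⟨Y₃, hY₃, ho₃, hn₃⟩ := exists_orbit sextets sextets_invariant invS invS_smul htrans 48 336
      (by rw [hcount, TrioSextCert.cnt48]) (by norm_num)
    obtain ⟨Y₄, hY₄, ho₄, hn₄⟩ := exists_orbit sextets sextets_invariant invS invS_smul htrans 44 1344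
      (by rw [hcount, TrioSextCert.cnt44]) (by norm_num)
    refine ⟨Y₁, hY₁, Y₂, hY₂, Y₃, hY₃, Y₄, hY₄, hn₁, hn₂, hn₃, hn₄, ?_⟩
    rw [ho₁, ho₂, ho₃, ho₄]
    ext X
    simp only [Set.mem_union, Set.mem_ofPred_eq]
    constructor
    · intro hX
      have hv := std_vals invS T0 TrioSextCert.invM hqS TrioSextCert.invL_ok svals_ok (smul_sextet_mem hg0 hX)
      rw [← hA, invS_smul] at hv
      simp only [List.mem_cons, List.not_mem_nil, or_false] at hv
      rcases hv with h | h | h | h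
      · exact Or.inl (Or.inl (Or.inl ⟨hX, h⟩))
      · exact Or.inl (Or.inl (Or.inr ⟨hX, h⟩))
      · exact Or.inl (Or.inr ⟨hX, h⟩)
      · exact Or.inr ⟨hX, h⟩
    · rintro (((h | h) | h) | h) <;> exact h.1

end Cfsg.Agent.S5612
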