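import Cfsg.Statements.S5616
import Cfsg.Agent.Helper22.SextetTriadCert
import Cfsg.Agent.Helper22.KSets

set_option autoImplicit false
open scoped Pointwise
open Cfsg Cfsg.Agent.Helper27 Cfsg.Agent.Helper22 Cfsg.Agent.Helper22.Flag Cfsg.Agent.Helper22.KSets Cfsg.Agent.Helper22.OctList Cfsg.Agent.Helper22.SextetCode Cfsg.Agent.Helper22.SextetTriadCert

namespace Cfsg.Agent.S5616

/-- number of tetrads of a family meeting a set -/
def mc (Y : Finset GolayPt) (X : Finset (Finset GolayPt)) : ℕ := (X.filter fun t => (t ∩ Y).Nonempty).card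

theorem mc_eq_sum (Y : Finset GolayPt) (X : Finset (Finset GolayPt)) :
    mc Y X = X.sum (fun t => if (t ∩ Y).Nonempty then 1 else 0) := Finset.card_filter _ _

theorem mc_smul (g : Equiv.Perm GolayPt) (Y : Finset GolayPt) (X : Finset (Finset GolayPt)) :
    mc (g • Y) (g • X) = mc Y X := by
  rw [mc_eq_sum, mc_eq_sum, sum_smul]
  apply Finset.sum_congr rfl
  intro t _
  rw [← Finset.smul_finset_inter]
  have : (g • (t ∩ Y)).Nonempty ↔ (t ∩ Y).Nonempty := by
    rw [← Finset.card_pos, ← Finset.card_pos, Finset.card_smul_finset]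
  simp only [this]

theorem mc_dec {n : ℕ} (hn : n ∈ canonL) : mc (maskSet 7) (dec n) = invM n := by
  rw [mc_eq_sum, invM]
  apply sum_dec hn
  intro m
  have hne : (maskSet m ∩ maskSet 7).Nonempty ↔ 0 < popc 24 (m &&& 7) := by
    rw [← maskSet_and, ← Finset.card_pos, card_maskSet]
  by_cases h : popc 24 (m &&& 7) = 0
  · have h1 : ¬ (maskSet m ∩ maskSet 7).Nonempty := by rw [hne, h]; exact lt_irrefl 0
    simp [h, h1]
  · have h1 : (maskSet m ∩ maskSet 7).Nonempty := by rw [hne]; exact Nat.pos_of_ne_zero h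
    simp [h, h1]

theorem hfix0 : ∀ f ∈ ([] : List ℕ), f < 24 := by decide

theorem flag_le : flagH 7 [] ≤ M24 := fun g hg => ((mem_flagH hfix0 g).mp hg).1

theorem orbit_std {j : ℕ} {gens : List (List ℕ)} {dmin : ℕ}
    (h : sextDescOK (certF 7 []) gens (clsOf invL j) dmin = true) {X X' : Finset (Finset GolayPt)}
    (hX : X ∈ sextets) (hX' : X' ∈ sextets) (hj : mc (maskSet 7) X = j) (hj' : mc (maskSet 7) X' = j) :
    ∃ g ∈ flagH 7 [], g • X = X' := by
  refine sext_orbit (certSoundF 7 hfix0) flag_le (q := fun n => invM n == j) (fun X => mc (maskSet 7) X = j)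
    ?_ ?_ ?_ h hX hX' hj hj'
  · intro g hg X _ hQ
    obtain ⟨_, hg7, _⟩ := (mem_flagH hfix0 g).mp hg
    have := mc_smul g (maskSet 7) X
    rw [hg7] at this
    rw [this, hQ]
  · intro n hn
    rw [mc_dec hn, beq_iff_eq]
  · intro n hn hq
    rw [beq_iff_eq] at hq
    exact mem_clsOf invL_ok hn hq

theorem vals_ok : invL.all (fun v => v == 1 || v == 2 || v == 3) = true := by decide +kernel

theorem mc_cases {X : Finset (Finset GolayPt)} (hX : X ∈ sextets) :
    mc (maskSet 7) X = 1 ∨ mc (maskSet 7) X = 2 ∨ mc (maskSet 7) X = 3 := by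
  obtain ⟨n, hn, rfl⟩ := exists_code hX
  rw [mc_dec hn]
  have h1 : invM n ∈ invL := by rw [← invL_ok]; exact List.mem_map_of_mem hn
  have := List.all_eq_true.mp vals_ok _ h1
  simp only [Bool.or_eq_true, beq_iff_eq] at this
  tauto

/-- Let Y be a set of 3 of the 24 points. The sextets of the length-24 code whose tetrads meeting Y number 1, 2 or 3 are respectively 21, 630 and 1120 in number, and two sextets with the same number of tetrads meeting Y are conjugate under the setwise stabiliser of Y in the code's group. -/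
theorem result (Y : Finset Cfsg.GolayPt) (hY : Y.card = 3) : {S : Finset (Finset Cfsg.GolayPt) | S ∈ Cfsg.sextets ∧ (S.filter fun t => (t ∩ Y).Nonempty).card = 1}.ncard = 21 ∧ {S : Finset (Finset Cfsg.GolayPt) | S ∈ Cfsg.sextets ∧ (S.filter fun t => (t ∩ Y).Nonempty).card = 2}.ncard = 630 ∧ {S : Finset (Finset Cfsg.GolayPt) | S ∈ Cfsg.sextets ∧ (S.filter fun t => (t ∩ Y).Nonempty).card = 3}.ncard = 1120 ∧ ∀ S S' : Finset (Finset Cfsg.GolayPt), S ∈ Cfsg.sextets → S' ∈ Cfsg.sextets → (S.filter fun t => (t ∩ Y).Nonempty).card = (S'.filter fun t => (t ∩ Y).Nonempty).card → ∃ g ∈ Cfsg.M24, g • Y = Y ∧ g • S = S' := by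
  classical
  obtain ⟨g0, hg0, -, hg0Y⟩ := exists_M24_venn ∅ Y (maskSet 7)
    (by rw [hY, card_maskSet]; decide) (by simp) (by simp [hY])
  have hmc : ∀ X : Finset (Finset GolayPt), (X.filter fun t => (t ∩ Y).Nonempty).card = mc (maskSet 7) (g0 • X) := by
    intro X
    rw [← hg0Y, mc_smul]
    rfl
  have hcount : ∀ j : ℕ, {S : Finset (Finset Cfsg.GolayPt) | S ∈ Cfsg.sextets ∧
      (S.filter fun t => (t ∩ Y).Nonempty).card = j}.ncard = invL.count j := by
    intro j
    rw [← countP_eq_count invL_ok j, ← ncard_sextets (fun X => mc (maskSet 7) X = j) (fun n => invM n == j)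
      (fun n hn => by rw [mc_dec hn, beq_iff_eq])]
    apply ncard_smul_set' g0
    intro X
    simp only [Set.mem_ofPred_eq]
    rw [hmc X, sextets_smul_iff hg0]
  refine ⟨by rw [hcount, cnt1], by rw [hcount, cnt2], by rw [hcount, cnt3], ?_⟩
  intro S S' hS hS' hSS'
  rw [hmc S, hmc S'] at hSS'
  have hX := smul_sextet_mem hg0 hS
  have hX' := smul_sextet_mem hg0 hS'
  have key : ∃ k ∈ flagH 7 [], k • (g0 • S) = g0 • S' := by
    rcases mc_cases hX with h | h | h
    · exact orbit_std desc1 hX hX' h (hSS' ▸ h)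
    · exact orbit_std desc2 hX hX' h (hSS' ▸ h)
    · exact orbit_std desc3 hX hX' h (hSS' ▸ h)
  obtain ⟨k, hk, hkX⟩ := key
  obtain ⟨hkM, hk7, _⟩ := (mem_flagH hfix0 k).mp hk
  refine ⟨g0⁻¹ * k * g0, M24.mul_mem (M24.mul_mem (M24.inv_mem hg0) hkM) hg0, ?_, ?_⟩
  · rw [mul_smul, mul_smul, hg0Y, hk7, ← hg0Y, inv_smul_smul]
  · rw [mul_smul, mul_smul, hkX, inv_smul_smul]

end Cfsg.Agent.S5616
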