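import Cfsg.Statements.S5617
import Cfsg.Agent.Helper22.SextetDodCert
import Cfsg.Agent.Helper22.SextetStd

set_option autoImplicit false
open scoped Pointwise
open Cfsg Cfsg.Agent.Helper27 Cfsg.Agent.Helper22 Cfsg.Agent.Helper22.Flag Cfsg.Agent.Helper22.OctList Cfsg.Agent.Helper22.SextetCode Cfsg.Agent.Helper22.SextetDodCert Cfsg.Agent.Helper22.DodPair Cfsg.Agent.Helper22.StabOrbits Cfsg.Agent.Helper22.SextetStd

namespace Cfsg.Agent.S5617

/-- the standard pair of dodecads -/
def A0 : Finset (Finset GolayPt) := pair (maskSet dod0)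

theorem pt0_mem : pt 0 ∈ maskSet dod0 := by
  rw [pt_mem_maskSet (by norm_num)]; decide

theorem hq : ∀ n ∈ canonL, invS A0 (dec n) = invM n := by
  intro n hn
  rw [invS, invM]
  apply sum_dec hn
  intro m
  have hne : maskSet dod0 ≠ Finset.univ \ maskSet dod0 := by
    intro h
    have h1 := pt0_mem
    rw [h, Finset.mem_sdiff] at h1
    exact h1.2 pt0_mem
  rw [A0, pair, Finset.sum_pair hne, ← maskSet_dodC, card_inter_maskSet, card_inter_maskSet]

theorem vals_ok : invL.all (fun v => [48, 60, 64].contains v) = true := by decide +kernel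

/-- The setwise stabiliser, in the group of the length-24 code, of a complementary pair of dodecads has exactly three orbits on the 1771 sextets, of sizes 396, 495 and 880. -/
theorem result (d : Finset Cfsg.GolayPt) (hd : d ∈ Cfsg.dodecads) : ∃ X₁ ∈ Cfsg.sextets, ∃ X₂ ∈ Cfsg.sextets, ∃ X₃ ∈ Cfsg.sextets, (MulAction.orbit ↥(MulAction.stabilizer Cfsg.M24 ({d, Finset.univ \ d} : Finset (Finset Cfsg.GolayPt))) X₁).ncard = 396 ∧ (MulAction.orbit ↥(MulAction.stabilizer Cfsg.M24 ({d, Finset.univ \ d} : Finset (Finset Cfsg.GolayPt))) X₂).ncard = 495 ∧ (MulAction.orbit ↥(MulAction.stabilizer Cfsg.M24 ({d, Finset.univ \ d} : Finset (Finset Cfsg.GolayPt))) X₃).ncard = 880 ∧ Cfsg.sextets = MulAction.orbit ↥(MulAction.stabilizer Cfsg.M24 ({d, Finset.univ \ d} : Finset (Finset Cfsg.GolayPt))) X₁ ∪ MulAction.orbit ↥(MulAction.stabilizer Cfsg.M24 ({d, Finset.univ \ d} : Finset (Finset Cfsg.GolayPt))) X₂ ∪ MulAction.orbit ↥(MulAction.stabilizer Cfsg.M24 ({d, Finset.univ \ d} : Finset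 (Finset Cfsg.GolayPt))) X₃ := by
  classical
  obtain ⟨g0, hg0, hg0d⟩ := exists_smul_eq_dod0 hd
  have hA : g0 • pair d = A0 := by rw [smul_pair, hg0d]; rfl
  have hstd : ∀ X ∈ sextets, ∀ Y ∈ sextets, invS A0 X = invS A0 Y → ∃ k ∈ stabIn A0, k • X = Y := by
    intro X hX Y hY hXY
    have hv := std_vals invS A0 invM hq invL_ok vals_ok hX
    simp only [List.mem_cons, List.not_mem_nil, or_false] at hv
    rcases hv with h | h | h
    · exact std_orbit invS invS_smul A0 invM hq invL_ok certSoundPair desc48 hX hY h (hXY ▸ h)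
    · exact std_orbit invS invS_smul A0 invM hq invL_ok certSoundPair desc60 hX hY h (hXY ▸ h)
    · exact std_orbit invS invS_smul A0 invM hq invL_ok certSoundPair desc64 hX hY h (hXY ▸ h)
  have htrans := trans_general sextets sextets_invariant invS invS_smul hg0 hA hstd
  have hcount : ∀ v : ℕ, {X | X ∈ sextets ∧ invS (pair d) X = v}.ncard = invL.count v := by
    intro v
    rw [count_general sextets sextets_invariant invS invS_smul hg0 hA v, std_count invS A0 invM hq invL_ok v]
  obtain ⟨X₁, hX₁, ho₁, hn₁⟩ := exists_orbit sextets sextets_invariant invS invS_smul htrans 48 396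
    (by rw [hcount, cnt48]) (by norm_num)
  obtain ⟨X₂, hX₂, ho₂, hn₂⟩ := exists_orbit sextets sextets_invariant invS invS_smul htrans 64 495
    (by rw [hcount, cnt64]) (by norm_num)
  obtain ⟨X₃, hX₃, ho₃, hn₃⟩ := exists_orbit sextets sextets_invariant invS invS_smul htrans 60 880
    (by rw [hcount, cnt60]) (by norm_num)
  refine ⟨X₁, hX₁, X₂, hX₂, X₃, hX₃, hn₁, hn₂, hn₃, ?_⟩
  have e1 : MulAction.orbit ↥(MulAction.stabilizer Cfsg.M24 ({d, Finset.univ \ d} : Finset (Finset Cfsg.GolayPt))) X₁ =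
      {Y | Y ∈ sextets ∧ invS (pair d) Y = 48} := ho₁
  have e2 : MulAction.orbit ↥(MulAction.stabilizer Cfsg.M24 ({d, Finset.univ \ d} : Finset (Finset Cfsg.GolayPt))) X₂ =
      {Y | Y ∈ sextets ∧ invS (pair d) Y = 64} := ho₂
  have e3 : MulAction.orbit ↥(MulAction.stabilizer Cfsg.M24 ({d, Finset.univ \ d} : Finset (Finset Cfsg.GolayPt))) X₃ =
      {Y | Y ∈ sextets ∧ invS (pair d) Y = 60} := ho₃
  rw [e1, e2, e3]
  ext X
  simp only [Set.mem_union, Set.mem_ofPred_eq]
  constructor
  · intro hX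
    have hv := std_vals invS A0 invM hq invL_ok vals_ok (smul_sextet_mem hg0 hX)
    rw [← hA, invS_smul] at hv
    simp only [List.mem_cons, List.not_mem_nil, or_false] at hv
    rcases hv with h | h | h
    · exact Or.inl (Or.inl ⟨hX, h⟩)
    · exact Or.inr ⟨hX, h⟩
    · exact Or.inl (Or.inr ⟨hX, h⟩)
  · rintro ((h | h) | h) <;> exact h.1

end Cfsg.Agent.S5617
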