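import Mathlib
import Cfsg.Statements.S5624
import Cfsg.Agent.Helper28.Golay2

set_option autoImplicit false

namespace Cfsg.Agent.S5624

open Cfsg.Agent.Helper28.Golay

theorem result (C : Submodule (ZMod 2) (Fin 24 → ZMod 2)) (hdim : Module.finrank (ZMod 2) C = 12) (horth : ∀ v ∈ C, ∀ w ∈ C, ∑ i, v i * w i = 0) (hmin : ∀ w ∈ C, w ≠ 0 → 8 ≤ hammingNorm w) : Submodule.span (ZMod 2) {w : Fin 24 → ZMod 2 | w ∈ C ∧ hammingNorm w = 8} = C := by
  classical
  apply le_antisymm
  · rw [Submodule.span_le]
    intro w hw
    exact hw.1
  · have key : ∀ k : ℕ, ∀ c ∈ C, hammingNorm c ≤ k →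
        c ∈ Submodule.span (ZMod 2) {w : Fin 24 → ZMod 2 | w ∈ C ∧ hammingNorm w = 8} := by
      intro k
      induction k using Nat.strong_induction_on with
      | _ k ih =>
        intro c hc hk
        by_cases h0 : c = 0
        · rw [h0]; exact Submodule.zero_mem _
        · have h8 := hmin c hc h0
          rw [hammingNorm_eq] at h8
          obtain ⟨T, hTs, hT⟩ := Finset.exists_subset_card_eq (s := supp c) (n := 5) (by omega)
          obtain ⟨o, ho, hwo, hTo⟩ := octad_exists C hdim hmin T hT
          have hlt : hammingNorm (c - o) < hammingNorm c := by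
            have := wt_sub c o
            have hsub : T ⊆ supp c ∩ supp o := Finset.subset_inter hTs hTo
            have := Finset.card_le_card hsub
            omega
          have hmem := ih (hammingNorm (c - o)) (by omega) (c - o) (C.sub_mem hc ho) le_rfl
          have ho' : o ∈ Submodule.span (ZMod 2) {w : Fin 24 → ZMod 2 | w ∈ C ∧ hammingNorm w = 8} :=
            Submodule.subset_span ⟨ho, hwo⟩
          have := Submodule.add_mem _ hmem ho'
          rwa [sub_add_cancel] at this
    intro c hc
    exact key _ c hc le_rfl

end Cfsg.Agent.S5624
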