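import Mathlib
import Cfsg.Statements.S5621
import Cfsg.Agent.S5624

set_option autoImplicit false

namespace Cfsg.Agent.S5621

open Cfsg.Agent.Helper28.Golay

theorem inter_even (x y : Fin 24 → ZMod 2) (h : ∑ i, x i * y i = 0) :
    2 ∣ (supp x ∩ supp y).card := by
  classical
  have h1 : ∑ i, x i * y i = ((supp x ∩ supp y).card : ZMod 2) := by
    rw [Finset.card_eq_sum_ones, Nat.cast_sum, ← Finset.sum_filter_add_sum_filter_not Finset.univ
      (fun i => i ∈ supp x ∩ supp y)]
    have hz : ∑ i ∈ Finset.univ.filter (fun i => ¬ i ∈ supp x ∩ supp y), x i * y i = 0 := by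
      apply Finset.sum_eq_zero
      intro i hi
      simp only [Finset.mem_filter, Finset.mem_univ, true_and, Finset.mem_inter, mem_supp,
        not_and_or, not_not] at hi
      rcases hi with hi | hi <;> simp [hi]
    rw [hz, add_zero]
    have he : Finset.univ.filter (fun i => i ∈ supp x ∩ supp y) = supp x ∩ supp y := by
      ext i; simp
    rw [he]
    apply Finset.sum_congr rfl
    intro i hi
    rw [Finset.mem_inter, mem_supp, mem_supp] at hi
    rcases zmod2_cases (x i) with hx | hx
    · exact absurd hx hi.1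
    · rcases zmod2_cases (y i) with hy | hy
      · exact absurd hy hi.2
      · rw [hx, hy]; simp
  rw [h1] at h
  exact (ZMod.natCast_eq_zero_iff _ 2).mp h

theorem result (C : Submodule (ZMod 2) (Fin 24 → ZMod 2)) (hdim : Module.finrank (ZMod 2) C = 12) (horth : ∀ v ∈ C, ∀ w ∈ C, ∑ i, v i * w i = 0) (hmin : ∀ w ∈ C, w ≠ 0 → 8 ≤ hammingNorm w) : ∀ w ∈ C, 4 ∣ hammingNorm w := by
  classical
  intro w hw
  have hspan := Cfsg.Agent.S5624.result C hdim horth hmin
  rw [← hspan] at hw
  have key : w ∈ C ∧ 4 ∣ hammingNorm w := by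
    induction hw using Submodule.span_induction with
    | mem x hx => exact ⟨hx.1, by rw [hx.2]; norm_num⟩
    | zero => exact ⟨C.zero_mem, by simp⟩
    | add x y _ _ hx hy =>
      refine ⟨C.add_mem hx.1 hy.1, ?_⟩
      have hneg : x + y = x - y := by
        funext i
        simp only [Pi.add_apply, Pi.sub_apply]
        rcases zmod2_cases (y i) with h | h <;> rw [h] <;> rcases zmod2_cases (x i) with h' | h' <;>
          rw [h'] <;> decide
      rw [hneg]
      have h1 := wt_sub x y
      obtain ⟨a, ha⟩ := inter_even x y (horth x hx.1 y hy.1)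
      obtain ⟨b, hb⟩ := hx.2
      obtain ⟨c, hc⟩ := hy.2
      omega
    | smul a x _ hx =>
      rcases zmod2_cases a with h | h
      · rw [h, zero_smul]; exact ⟨C.zero_mem, by simp⟩
      · rw [h, one_smul]; exact hx
  exact key.2

end Cfsg.Agent.S5621
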