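import Mathlib
import Cfsg.Statements.S5622
import Cfsg.Agent.Helper28.Golay2

set_option autoImplicit false

namespace Cfsg.Agent.S5622

open Cfsg.Agent.Helper28.Golay

theorem support₂_eq (u : Fin 24 → ZMod 2) : Cfsg.support₂ u = supp u := by
  unfold Cfsg.support₂ supp
  rfl

theorem result (C : Submodule (ZMod 2) (Fin 24 → ZMod 2)) (hdim : Module.finrank (ZMod 2) C = 12) (horth : ∀ v ∈ C, ∀ w ∈ C, ∑ i, v i * w i = 0) (hmin : ∀ w ∈ C, w ≠ 0 → 8 ≤ hammingNorm w) : (∃ w ∈ C, hammingNorm w = 8) ∧ Cfsg.IsSteinerSystem 5 8 (Cfsg.wordsOfWeight (C : Set (Fin 24 → ZMod 2)) 8) := by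
  classical
  constructor
  · obtain ⟨T, _, hT⟩ := Finset.exists_subset_card_eq (s := (Finset.univ : Finset (Fin 24))) (n := 5)
      (by simp)
    obtain ⟨c, hc, hw, _⟩ := octad_exists C hdim hmin T hT
    exact ⟨c, hc, hw⟩
  · refine ⟨fun b hb => hb.2, ?_⟩
    intro T hT
    obtain ⟨c, hc, hw, hTc⟩ := octad_exists C hdim hmin T hT
    refine ⟨supp c, ⟨⟨⟨c, hc, support₂_eq c⟩, by rw [← hammingNorm_eq, hw]⟩, hTc⟩, ?_⟩
    rintro b ⟨⟨⟨c', hc', rfl⟩, hbcard⟩, hTb⟩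
    rw [support₂_eq] at hbcard hTb ⊢
    have hw' : hammingNorm c' = 8 := by rw [hammingNorm_eq, hbcard]
    rw [octad_unique C hmin c' c hc' hc hw' hw T hT hTb hTc]

end Cfsg.Agent.S5622
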