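import Mathlib
import Cfsg.Statements.S5623
import Cfsg.Agent.Helper28.Golay

set_option autoImplicit false

namespace Cfsg.Agent.S5623

open Cfsg.Agent.Helper28.Golay

theorem result (C : Submodule (ZMod 2) (Fin 24 → ZMod 2)) (hdim : Module.finrank (ZMod 2) C = 12) (horth : ∀ v ∈ C, ∀ w ∈ C, ∑ i, v i * w i = 0) (hmin : ∀ w ∈ C, w ≠ 0 → 8 ≤ hammingNorm w) (w : Fin 24 → ZMod 2) : (∃ u : Fin 24 → ZMod 2, {u : Fin 24 → ZMod 2 | u - w ∈ C ∧ hammingNorm u ≤ 4} = {u} ∧ hammingNorm u ≤ 3) ∨ ({u : Fin 24 → ZMod 2 | u - w ∈ C ∧ hammingNorm u ≤ 4}.ncard = 6 ∧ ∀ u ∈ {u : Fin 24 → ZMod 2 | u - w ∈ C ∧ hammingNorm u ≤ 4}, hammingNorm u = 4 ∧ ∀ u' ∈ {u : Fin 24 → ZMod 2 | u - w ∈ C ∧ hammingNorm u ≤ 4}, u ≠ u' → Disjoint (Finset.univ.filter fun i => u i ≠ 0) (Finset.univ.filter fun i => u' i ≠ 0)) := by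
  classical
  have hT : ∀ u : Fin 24 → ZMod 2, u ∈ {u : Fin 24 → ZMod 2 | u - w ∈ C ∧ hammingNorm u ≤ 4} ↔
      u ∈ S3 C w ∨ u ∈ S4 C w := by
    intro u
    rw [mem_S3, mem_S4, Set.mem_setOf_eq]
    constructor
    · rintro ⟨h1, h2⟩
      rcases Nat.lt_or_ge (hammingNorm u) 4 with h | h
      · left; exact ⟨by omega, h1⟩
      · right; exact ⟨by omega, h1⟩
    · rintro (⟨h1, h2⟩ | ⟨h1, h2⟩)
      · exact ⟨h2, by omega⟩
      · exact ⟨h2, by omega⟩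
  rcases coset_structure C hdim hmin w with ⟨h3, h4⟩ | ⟨h3, h4⟩
  · left
    obtain ⟨a, ha⟩ := Finset.card_eq_one.mp h3
    have h4' : S4 C w = ∅ := Finset.card_eq_zero.mp h4
    refine ⟨a, ?_, ?_⟩
    · ext u
      rw [hT, ha, h4']
      simp
    · have : a ∈ S3 C w := by rw [ha]; exact Finset.mem_singleton_self a
      exact ((mem_S3 C w a).mp this).1
  · right
    have h3' : S3 C w = ∅ := Finset.card_eq_zero.mp h3
    have hTS : {u : Fin 24 → ZMod 2 | u - w ∈ C ∧ hammingNorm u ≤ 4} = ↑(S4 C w) := by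
      ext u
      rw [hT, h3']
      simp
    rw [hTS]
    refine ⟨by rw [Set.ncard_coe_finset, h4], ?_⟩
    intro u hu
    rw [Finset.mem_coe, mem_S4] at hu
    refine ⟨hu.1, ?_⟩
    intro u' hu' hne
    rw [Finset.mem_coe, mem_S4] at hu'
    have := (lemmaA C hmin u u' (sub_mem_of_coset C hu.2 hu'.2) hne (by omega) (by omega)).2.2
    exact this

end Cfsg.Agent.S5623
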