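import Mathlib
import Cfsg.Statements.S5625
import Cfsg.Agent.Helper22.Steiner

set_option autoImplicit false

namespace Cfsg.Agent.S5625

open Cfsg.Agent.Helper22.Design

theorem count_j (α : Type*) [Fintype α] [DecidableEq α] (hα : Fintype.card α = 24) (B : Set (Finset α))
    (hB : Cfsg.IsSteinerSystem 5 8 B) (Y : Finset α) (hY : Y.card = 3) (j : ℕ) (hj : j ≤ 3) :
    {b : Finset α | b ∈ B ∧ (b ∩ Y).card = j}.ncard = Nat.choose 3 j * tri c5824 (3 - j) 3 j := by
  rw [ncard_eq_card_filter]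
  have hc : ∀ T ⊆ Y, cnt (toFin B) T = c5824 T.card := by
    intro T hT
    have h3 : T.card ≤ 3 := hY ▸ Finset.card_le_card hT
    interval_cases h : T.card
    · exact lam0_5824 hα hB T h
    · exact lam1_5824 hα hB T h
    · exact lam2_5824 hα hB T h
    · exact lam3_5824 hα hB T h
  rw [Finset.card_eq_sum_card_fiberwise (f := fun b => b ∩ Y) (t := Y.powersetCard j)]
  · have hterm : ∀ S ∈ Y.powersetCard j,
        (Finset.filter (fun b => b ∩ Y = S) ((toFin B).filter (fun b => (b ∩ Y).card = j))).card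
        = tri c5824 (3 - j) 3 j := by
      intro S hS
      rw [Finset.mem_powersetCard] at hS
      have := meet_eq_tri (toFin B) Y c5824 hc (3 - j) Y S (Finset.Subset.refl Y) hS.1
        (by rw [hY, hS.2]; omega)
      rw [hY, hS.2] at this
      rw [← this]
      unfold meet
      refine congrArg Finset.card ?_
      ext b
      simp only [Finset.mem_filter]
      constructor
      · rintro ⟨⟨h1, _⟩, h3⟩
        exact ⟨h1, h3⟩
      · rintro ⟨h1, h3⟩
        exact ⟨⟨h1, by rw [h3, hS.2]⟩, h3⟩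
    rw [Finset.sum_congr rfl hterm, Finset.sum_const, Finset.card_powersetCard, hY, smul_eq_mul]
  · intro b hb
    rw [Finset.mem_coe, Finset.mem_filter] at hb
    rw [Finset.mem_coe, Finset.mem_powersetCard]
    exact ⟨Finset.inter_subset_right, hb.2⟩

theorem result (α : Type*) [Fintype α] [DecidableEq α] (hα : Fintype.card α = 24) (B : Set (Finset α)) (hB : Cfsg.IsSteinerSystem 5 8 B) (Y : Finset α) (hY : Y.card = 3) : {b : Finset α | b ∈ B ∧ (b ∩ Y).card = 3}.ncard = 21 ∧ {b : Finset α | b ∈ B ∧ (b ∩ Y).card = 2}.ncard = 168 ∧ {b : Finset α | b ∈ B ∧ (b ∩ Y).card = 1}.ncard = 360 ∧ {b : Finset α | b ∈ B ∧ (b ∩ Y).card = 0}.ncard = 210 := by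
  refine ⟨?_, ?_, ?_, ?_⟩
  · rw [count_j α hα B hB Y hY 3 le_rfl]; decide
  · rw [count_j α hα B hB Y hY 2 (by norm_num)]; decide
  · rw [count_j α hα B hB Y hY 1 (by norm_num)]; decide
  · rw [count_j α hα B hB Y hY 0 (by norm_num)]; decide

end Cfsg.Agent.S5625
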