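import Mathlib
import Cfsg.Statements.S5632
import Cfsg.Agent.Helper28.Transv

set_option autoImplicit false

namespace Cfsg.Agent.S5632

open Cfsg.Agent.Helper28.Transv

theorem result {F : Type*} [Field F] [Fintype F] (n : ℕ) (W U : Submodule F (Fin n → F)) (hW0 : W ≠ ⊥) (hWU : W < U) (hdim : Module.finrank F W + Module.finrank F U = n) : ∃ K : Subgroup (Matrix.GeneralLinearGroup (Fin n) F), Cfsg.Geo.subspaceStabilizer W ⊓ Cfsg.Geo.subspaceStabilizer U ⊓ Cfsg.Geo.specialLinear (Fin n) F < K ∧ K < Cfsg.Geo.specialLinear (Fin n) F := by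
  classical
  have hWtop : W ≠ ⊤ := by
    rintro rfl
    exact not_top_lt hWU
  have hUtop : U ≠ ⊤ := by
    rintro rfl
    have h1 : Module.finrank F (⊤ : Submodule F (Fin n → F)) = n := by
      rw [finrank_top, Module.finrank_fin_fun]
    rw [h1] at hdim
    have : Module.finrank F W = 0 := by omega
    exact hW0 (Submodule.finrank_eq_zero.mp this)
  refine ⟨Cfsg.Geo.subspaceStabilizer W ⊓ Cfsg.Geo.specialLinear (Fin n) F, ?_, ?_⟩
  · apply lt_of_le_of_ne
    · intro g hg
      exact ⟨hg.1.1, hg.2⟩
    · intro heq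
      -- transvection fixing W, moving some u₀ ∈ U out of U
      obtain ⟨u₀, hu₀U, hu₀W⟩ := SetLike.exists_of_lt hWU
      obtain ⟨v, hv⟩ : ∃ v : Fin n → F, v ∉ U := by
        by_contra hcon
        push Not at hcon
        exact hUtop (Submodule.eq_top_iff'.mpr hcon)
      have hu₀P : u₀ ∉ W ⊔ Submodule.span F {v} := by
        intro hmem
        obtain ⟨w, hw, z, hz, hwz⟩ := Submodule.mem_sup.mp hmem
        obtain ⟨c, rfl⟩ := Submodule.mem_span_singleton.mp hz
        have hcv : c • v ∈ U := by
          have : c • v = u₀ - w := by rw [← hwz]; abel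
          rw [this]
          exact U.sub_mem hu₀U (hWU.le hw)
        by_cases hc : c = 0
        · subst hc
          rw [zero_smul, add_zero] at hwz
          exact hu₀W (hwz ▸ hw)
        · apply hv
          have := U.smul_mem c⁻¹ hcv
          rwa [smul_smul, inv_mul_cancel₀ hc, one_smul] at this
      obtain ⟨t, ht1, ht2, ht3⟩ := exists_transvection (W ⊔ Submodule.span F {v}) v u₀
        (Submodule.mem_sup_right (Submodule.mem_span_singleton_self v)) hu₀P
      have htW : t ∈ Cfsg.Geo.subspaceStabilizer W :=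
        mem_stab_of_fix W t (fun x hx => ht2 x (Submodule.mem_sup_left hx))
      have htU : t ∉ Cfsg.Geo.subspaceStabilizer U := by
        apply not_mem_stab U t u₀ hu₀U
        rw [ht3]
        intro hmem
        apply hv
        have := U.sub_mem hmem hu₀U
        simpa using this
      have hmem : t ∈ Cfsg.Geo.subspaceStabilizer W ⊓ Cfsg.Geo.specialLinear (Fin n) F := ⟨htW, ht1⟩
      rw [← heq] at hmem
      exact htU hmem.1.2
  · apply lt_of_le_of_ne
    · exact inf_le_right
    · intro heq
      obtain ⟨t, ht1, ht2⟩ := exists_sl_not_stab W hW0 hWtop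
      rw [← heq] at ht1
      exact ht2 ht1.1

end Cfsg.Agent.S5632
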