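import Mathlib
import Cfsg.Statements.S5633
import Cfsg.Agent.Helper28.Transv

set_option autoImplicit false

namespace Cfsg.Agent.S5633

open Cfsg.Agent.Helper28.Transv

theorem result {F : Type*} [Field F] [Fintype F] (n : ℕ) (W U : Submodule F (Fin n → F)) (hW0 : W ≠ ⊥) (hWU : W ⊓ U = ⊥) (hWU' : W ⊔ U = ⊤) (hdim : Module.finrank F W < Module.finrank F U) : ∃ K : Subgroup (Matrix.GeneralLinearGroup (Fin n) F), Cfsg.Geo.subspaceStabilizer W ⊓ Cfsg.Geo.subspaceStabilizer U ⊓ Cfsg.Geo.specialLinear (Fin n) F < K ∧ K < Cfsg.Geo.specialLinear (Fin n) F := by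
  classical
  have hU0 : U ≠ ⊥ := by
    rintro rfl
    rw [finrank_bot] at hdim
    omega
  have hWtop : W ≠ ⊤ := by
    rintro rfl
    rw [top_inf_eq] at hWU
    exact hU0 hWU
  refine ⟨Cfsg.Geo.subspaceStabilizer W ⊓ Cfsg.Geo.specialLinear (Fin n) F, ?_, ?_⟩
  · apply lt_of_le_of_ne
    · intro g hg
      exact ⟨hg.1.1, hg.2⟩
    · intro heq
      obtain ⟨v, hvW, hv0⟩ := (Submodule.ne_bot_iff W).mp hW0
      obtain ⟨u₀, hu₀U, hu₀0⟩ := (Submodule.ne_bot_iff U).mp hU0
      have hvU : v ∉ U := by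
        intro h
        have : v ∈ W ⊓ U := ⟨hvW, h⟩
        rw [hWU] at this
        exact hv0 ((Submodule.mem_bot F).mp this)
      have hu₀W : u₀ ∉ W := by
        intro h
        have : u₀ ∈ W ⊓ U := ⟨h, hu₀U⟩
        rw [hWU] at this
        exact hu₀0 ((Submodule.mem_bot F).mp this)
      obtain ⟨t, ht1, ht2, ht3⟩ := exists_transvection W v u₀ hvW hu₀W
      have htW : t ∈ Cfsg.Geo.subspaceStabilizer W := mem_stab_of_fix W t ht2
      have htU : t ∉ Cfsg.Geo.subspaceStabilizer U := by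
        apply not_mem_stab U t u₀ hu₀U
        rw [ht3]
        intro hmem
        apply hvU
        have := U.sub_mem hmem hu₀U
        simpa using this
      have hmem : t ∈ Cfsg.Geo.subspaceStabilizer W ⊓ Cfsg.Geo.specialLinear (Fin n) F := ⟨htW, ht1⟩
      rw [← heq] at hmem
      exact htU hmem.1.2
  · apply lt_of_le_of_ne
    · exact inf_le_right
    · intro heq
      obtain ⟨t, ht1, ht2⟩ := exists_sl_not_stab W hW0 hWtop
      rw [← heq] at ht1
      exact ht2 ht1.1

end Cfsg.Agent.S5633
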