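import Cfsg.Statements.S5644
import Cfsg.Agent.Helper28.OrthSim3

set_option autoImplicit false
open Cfsg

namespace Cfsg.Agent.S5644

/-- For a finite field F of odd order and n ≥ 13, let Q be a non-degenerate quadratic form on F^n (its polar form is non-degenerate). Then the elements of SL_n(F) that are similarities of Q (Q(gv) = c Q(v) for a non-zero scalar c depending on g) form a maximal subgroup of SL_n(F). -/
theorem result {F : Type*} [Field F] [Fintype F] (n : ℕ) (hn : 13 ≤ n) (hodd : Odd (Fintype.card F)) (Q : (Fin n → F) → F) (hQ : Cfsg.Geo.IsNondegenerateQuadraticForm Q) : Cfsg.Geo.IsMaximalIn (Cfsg.Geo.specialLinear (Fin n) F) (Cfsg.Geo.quadSimilarityGroup Q ⊓ Cfsg.Geo.specialLinear (Fin n) F) := by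
  classical
  have h2 : (2 : F) ≠ 0 := by
    intro h
    obtain ⟨p, hp⟩ := CharP.exists F
    have hp2 : p = 2 := by
      have : ((2 : ℕ) : F) = 0 := by exact_mod_cast h
      have hdvd := (CharP.cast_eq_zero_iff F p 2).mp this
      have hprime := CharP.char_is_prime F p
      exact (Nat.prime_dvd_prime_iff_eq hprime Nat.prime_two).mp hdvd
    subst hp2
    obtain ⟨k, hk⟩ := FiniteField.card F 2
    have hk' := hk.2
    rw [hk'] at hodd
    have hk0 : (k : ℕ) ≠ 0 := k.ne_zero
    exact (Nat.not_odd_iff_even.mpr (Nat.even_pow.mpr ⟨even_two, hk0⟩)) hodd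
  exact Cfsg.Agent.Helper28.OSim.osim_maximal (Q := Cfsg.Agent.Helper28.NM.ofFun Q hQ) h2
    (Cfsg.Agent.Helper28.NM.ofFun_nondeg Q hQ) (by omega)

end Cfsg.Agent.S5644
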