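import Cfsg.Statements.S5652
import Cfsg.Agent.Helper28.SpOMax

set_option autoImplicit false
open Cfsg

namespace Cfsg.Agent.S5652

/-- For a finite field F of characteristic two and m ≥ 7, let Q be a non-degenerate quadratic form on F^(2m) whose polar form is the standard alternating form. Then the elements of Sp_2m(F) that are similarities of Q (they are exactly the isometries of Q) form a maximal subgroup of Sp_2m(F). -/
theorem result {F : Type*} [Field F] [Fintype F] (m : ℕ) (hm : 7 ≤ m) (heven : ¬ Odd (Fintype.card F)) (Q : (Fin m ⊕ Fin m → F) → F) (hQ : Cfsg.Geo.IsNondegenerateQuadraticForm Q) (hpol : ∀ u v, QuadraticMap.polar Q u v = Cfsg.sympForm m F u v) : Cfsg.Geo.IsMaximalIn (Cfsg.spGL m F) (Cfsg.Geo.quadSimilarityGroup Q ⊓ Cfsg.spGL m F) := by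
  have h2 : (2 : F) = 0 := by
    have hev : Even (Fintype.card F) := Nat.not_odd_iff_even.mp heven
    have hdvd : 2 ∣ Fintype.card F := even_iff_two_dvd.mp hev
    obtain ⟨p, hp⟩ := CharP.exists F
    haveI := hp
    haveI : Fact p.Prime := ⟨CharP.char_is_prime F p⟩
    obtain ⟨n, hp', hn⟩ := FiniteField.card F p
    rw [hn] at hdvd
    have h3 : 2 ∣ p := Nat.Prime.dvd_of_dvd_pow Nat.prime_two hdvd
    have h4 : p = 2 := ((Nat.prime_dvd_prime_iff_eq Nat.prime_two hp').mp h3).symm
    subst h4
    exact_mod_cast CharP.cast_eq_zero F 2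
  exact Cfsg.Agent.Helper28.SOM.stab_maximal_O (by omega) Q hQ h2 hpol

end Cfsg.Agent.S5652
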