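import Cfsg.Statements.S5659
import Cfsg.Agent.Helper28.OSub7
import Cfsg.Agent.S0837

set_option autoImplicit false
open Cfsg

namespace Cfsg.Agent.S5659

/-- Let F be the field with q² elements, q odd, n ≥ 13, and F₀ the subfield with q elements. Let P be an invertible matrix such that the standard unitary form takes values in F₀ on the F₀-span of the columns of P (so it restricts to a non-degenerate symmetric bilinear form there). Then the elements of SU_n(q) lying in the subfield group of P form a maximal subgroup of SU_n(q). -/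
theorem result {F : Type*} [Field F] [Fintype F] (n q : ℕ) (hF : Fintype.card F = q ^ 2) (hn : 13 ≤ n) (hodd : Odd q) (F₀ : Subfield F) (hcard : Fintype.card F = Nat.card F₀ ^ 2) (P : Matrix.GeneralLinearGroup (Fin n) F) (hP : Cfsg.Geo.IsFormRationalStructure (Cfsg.hermForm n F q) F₀ 1 P) : Cfsg.Geo.IsMaximalIn (Cfsg.GU n F q ⊓ Cfsg.Geo.specialLinear (Fin n) F) (Cfsg.Geo.subfieldSubgroup F₀ P ⊓ (Cfsg.GU n F q ⊓ Cfsg.Geo.specialLinear (Fin n) F)) := by
  classical
  obtain ⟨σ, hσ, hσ2⟩ := Cfsg.Agent.Helper28.exists_frob hF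
  have hσid := Cfsg.Agent.S0837.frob_ne_id hF σ hσ
  let D0 : Cfsg.Agent.Helper2.SUGen.Frob F q := ⟨σ, hσ, hσ2, hσid⟩
  obtain ⟨θ, hθ0, hθs⟩ := Cfsg.Agent.Helper2.SUGen.exists_skew D0
  have h2 : (2 : F) ≠ 0 := by
    intro h2
    have hc : ringChar F = 2 := by
      have h3 : ((2 : ℕ) : F) = 0 := by exact_mod_cast h2
      have h4 := (ringChar.spec F 2).mp h3
      have hp : (ringChar F).Prime := CharP.char_is_prime F (ringChar F)
      exact (Nat.prime_dvd_prime_iff_eq hp Nat.prime_two).mp h4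
    have := FiniteField.even_card_of_char_two hc
    rw [hF] at this
    have h5 : Odd (q ^ 2) := hodd.pow
    rw [Nat.odd_iff] at h5
    omega
  have hsq : ∃ i : F, i * i = -1 := by
    have h1 : IsSquare (-1 : F) := by
      rw [FiniteField.isSquare_neg_one_iff, hF]
      obtain ⟨m, rfl⟩ := hodd
      have : (2 * m + 1) ^ 2 = 4 * (m * m + m) + 1 := by ring
      rw [this]
      omega
    obtain ⟨i, hi⟩ := h1
    exact ⟨i, hi.symm⟩
  have R : Cfsg.Agent.Helper28.OSub.RO D0 F₀ P θ := by
    refine ⟨Cfsg.Agent.Helper28.USub.fix_iff hF D0 F₀ hcard, ?_, h2, hθ0, hθs⟩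
    intro u v
    have := hP (fun i => ((u i : F₀) : F)) (fun i => ((v i : F₀) : F)) (fun i => (u i).2)
      (fun i => (v i).2)
    rwa [one_mul] at this
  exact Cfsg.Agent.Helper28.OSub.subfield_maximalO hF hn R hsq

end Cfsg.Agent.S5659
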