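-- Statement S5674: stabiliser of a totally singular subspace is maximal in Ω_{2m+1}(q), q odd.
import Cfsg.Statements.S5674
import Cfsg.Agent.Helper28.OrthMax2
import Cfsg.Agent.S0292
import Cfsg.Agent.S2614

set_option autoImplicit false
open Cfsg

namespace Cfsg.Agent.S5674

open Cfsg.Agent.Helper28.Sg Cfsg.Agent.Helper28.Spin Cfsg.Agent.S2614

/-- Let F be a finite field of odd order, m ≥ 6, Q the standard quadratic form x₀² + Σ x_i y_i on F^(2m+1) and Ω the commutator subgroup of its isometry group inside GL_(2m+1)(F). The elements of Ω stabilising a non-zero subspace on which Q vanishes form a maximal subgroup of Ω. -/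
theorem result {F : Type*} [Field F] [Fintype F] (hodd : Odd (Fintype.card F)) (m : ℕ) (hm : 6 ≤ m) (W : Submodule F (Unit ⊕ (Fin m ⊕ Fin m) → F)) (hW0 : W ≠ ⊥) (hW : Cfsg.Geo.IsTotallySingularQuad (Cfsg.quadFormOdd m F) W) : Cfsg.Geo.IsMaximalIn (Cfsg.Geo.omegaGL (Cfsg.quadFormOdd m F)) (Cfsg.Geo.subspaceStabilizer W ⊓ Cfsg.Geo.omegaGL (Cfsg.quadFormOdd m F)) := by
  classical
  have h2 : (2 : F) ≠ 0 := by
    apply Ring.two_ne_zero
    intro h
    rw [FiniteField.even_card_iff_char_two] at h
    rcases hodd with ⟨k, hk⟩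
    omega
  have hQ := Cfsg.Agent.S0292.QfOdd_nondeg h2 (F := F) m
  let a : Fin 3 → Unit ⊕ (Fin m ⊕ Fin m) := fun j => Sum.inr (Sum.inl (Fin.castLE (by omega) j))
  let b : Fin 3 → Unit ⊕ (Fin m ⊕ Fin m) := fun j => Sum.inr (Sum.inr (Fin.castLE (by omega) j))
  have hinj : Function.Injective (Sum.elim a b) := by
    intro x y h
    rcases x with x | x <;> rcases y with y | y <;>
      simp only [Sum.elim_inl, Sum.elim_inr, a, b, Sum.inl.injEq, Sum.inr.injEq, reduceCtorEq,
        Fin.castLE_inj] at h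
    · rw [h]
    · rw [h]
  let fr : Frame3 (QfOdd m F) := frameOf a b hinj (fun j => hypPair_odd m _)
  have key := Cfsg.Agent.Helper28.OM.stab_maximal hQ fr (hgen_odd h2 hQ) W hW0
    (fun w hw => by rw [QfOdd_coe]; exact hW w hw)
    (fun h => by
      exfalso
      simp only [Fintype.card_sum, Fintype.card_fin, Fintype.card_unit] at h
      omega)
  rw [QfOdd_coe] at key
  exact key

end Cfsg.Agent.S5674
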