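import Cfsg.Statements.S5675
import Cfsg.Agent.Helper28.NondegMax7
import Cfsg.Agent.S0292
import Cfsg.Agent.S2614

set_option autoImplicit false
open Cfsg

namespace Cfsg.Agent.S5675

/-- Let F be a finite field of odd order q, m ≥ 6, Q the standard quadratic form on F^(2m+1) and Ω the commutator subgroup of its isometry group. Let W be a non-zero subspace of even dimension on which the polar form of Q is non-degenerate; exclude the case q = 3, dim W = 2 with Q vanishing on some line of W (a plus-type plane). Then the elements of Ω stabilising W (equivalently, stabilising its orthogonal complement, of odd dimension) form a maximal subgroup of Ω. -/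
theorem result {F : Type*} [Field F] [Fintype F] (hodd : Odd (Fintype.card F)) (m : ℕ) (hm : 6 ≤ m) (W : Submodule F (Unit ⊕ (Fin m ⊕ Fin m) → F)) (hW0 : W ≠ ⊥) (hev : Even (Module.finrank F W)) (hW : Cfsg.Geo.IsNondegenerateOn (QuadraticMap.polar (Cfsg.quadFormOdd m F)) W) (hex : ¬ (Fintype.card F = 3 ∧ Module.finrank F W = 2 ∧ Cfsg.Geo.IsPlusTypeOn (Cfsg.quadFormOdd m F) W)) : Cfsg.Geo.IsMaximalIn (Cfsg.Geo.omegaGL (Cfsg.quadFormOdd m F)) (Cfsg.Geo.subspaceStabilizer W ⊓ Cfsg.Geo.omegaGL (Cfsg.quadFormOdd m F)) := by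
  classical
  have h2 : (2 : F) ≠ 0 := by
    apply Ring.two_ne_zero
    intro h
    rw [FiniteField.even_card_iff_char_two] at h
    rcases hodd with ⟨k, hk⟩
    omega
  have hQ := Cfsg.Agent.S0292.QfOdd_nondeg h2 (F := F) m
  have hcard : Fintype.card (Unit ⊕ (Fin m ⊕ Fin m)) = 2 * m + 1 := by
    simp only [Fintype.card_sum, Fintype.card_fin, Fintype.card_unit]
    omega
  have hcoe := Cfsg.Agent.S2614.QfOdd_coe (F := F) m
  have hq3 : Fintype.card F ≤ 3 → Fintype.card F = 3 := by
    intro h
    have h1 : 1 < Fintype.card F := Fintype.one_lt_card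
    rcases hodd with ⟨k, hk⟩
    omega
  have key := Cfsg.Agent.Helper28.NDM.stab_maximal_fun (Cfsg.Agent.S2614.QfOdd m F) hQ
    (by rw [hcard]; omega) W hW0
    (by
      intro hW1
      rw [hW1, finrank_top, Module.finrank_fintype_fun_eq_card, hcard] at hev
      rcases hev with ⟨k, hk⟩
      omega)
    (by rw [hcoe]; exact hW)
    (by
      rw [hcoe]
      rintro ⟨hc, h2', hp⟩
      exact hex ⟨hq3 hc, h2', hp⟩)
    (by
      rintro A hA hsum hndA ⟨hc, h2', hp⟩
      rw [hcard] at hsum
      rcases hev with ⟨k, hk⟩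
      omega)
    (by
      intro A hA hsum heq hndA
      exfalso
      rw [hcard] at hsum
      omega)
  rw [hcoe] at key
  exact key

end Cfsg.Agent.S5675
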