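-- Statement S5687: stabiliser of a totally singular subspace is maximal in Ω⁻_n(q).
import Cfsg.Statements.S5687
import Cfsg.Agent.Helper28.OrthMax3

set_option autoImplicit false
open Cfsg

namespace Cfsg.Agent.S5687

/-- Let F be a finite field with q elements, n ≥ 13 even, Q a non-degenerate quadratic form on F^n of minus type (no subspace of dimension n/2 is totally singular), and Ω the commutator subgroup of the isometry group of Q, viewed inside GL_n(F). The elements of Ω stabilising a non-zero subspace on which Q vanishes form a maximal subgroup of Ω. -/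
theorem result {F : Type*} [Field F] [Fintype F] {n : ℕ} (hn : 13 ≤ n) (heven : Even n) (Q : (Fin n → F) → F) (hQ : Cfsg.Geo.IsNondegenerateQuadraticForm Q) (hminus : ¬ Cfsg.Geo.IsPlusTypeOn Q ⊤) (W : Submodule F (Fin n → F)) (hW0 : W ≠ ⊥) (hW : Cfsg.Geo.IsTotallySingularQuad Q W) : Cfsg.Geo.IsMaximalIn (Cfsg.Geo.omegaGL Q) (Cfsg.Geo.subspaceStabilizer W ⊓ Cfsg.Geo.omegaGL Q) := by
  classical
  refine Cfsg.Agent.Helper28.OM.stab_maximal_fun Q hQ (by rw [Fintype.card_fin]; omega) W hW0 hW ?_
  intro h y hy hyW
  rw [Fintype.card_fin] at h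
  by_contra hynW
  apply hminus
  refine ⟨W ⊔ Submodule.span F {y}, le_top, ?_, ?_⟩
  · intro x hx
    obtain ⟨w, hw, b, hb, rfl⟩ := Submodule.mem_sup.mp hx
    obtain ⟨a, rfl⟩ := Submodule.mem_span_singleton.mp hb
    have h1 : Q (w + a • y) = Q w + Q (a • y) + QuadraticMap.polar Q w (a • y) := by
      unfold QuadraticMap.polar
      ring
    rw [h1, hW w hw, hQ.smul, hy, hQ.polar_bilinear.smul_right, hyW w hw]
    simp
  · have hlt : W < W ⊔ Submodule.span F {y} := by
      refine lt_of_le_of_ne le_sup_left ?_
      intro h'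
      apply hynW
      rw [h']
      exact Submodule.mem_sup_right (Submodule.mem_span_singleton_self y)
    have h1 := Submodule.finrank_lt_finrank_of_lt hlt
    have h2 := Submodule.finrank_add_le_finrank_add_finrank W (Submodule.span F {y})
    have h3 : Module.finrank F (Submodule.span F {y}) ≤ 1 :=
      le_trans (finrank_span_le_card ({y} : Set (Fin n → F))) (by simp)
    rw [finrank_top, Module.finrank_fintype_fun_eq_card, Fintype.card_fin]
    omega

end Cfsg.Agent.S5687
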