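import Cfsg.Statements.S5692
import Cfsg.Agent.Helper14.K2PMain
import Cfsg.Agent.Helper18.K2P.AMAIN
import Cfsg.Agent.Helper14.K2PBGlue
import Cfsg.Agent.Helper26.K2PCONVERT
import Cfsg.Agent.Helper29.K2PSPREAD

set_option autoImplicit false
open Cfsg

namespace Cfsg.Agent.S5692

/-- Let F be a finite field with q elements, n ≥ 13 even, Q a non-degenerate quadratic form on F^n of plus type (some subspace of dimension n/2 is totally singular), and Ω the commutator subgroup of the isometry group of Q, viewed inside GL_n(F). Let D be a decomposition of F^n into t ≥ 2 pairwise orthogonal, pairwise Q-isometric subspaces of equal dimension k ≥ 2 on which the polar form is non-degenerate, such that: if k is even, either every member is of plus type or t is even; if k is odd, q is odd and the discriminant of Q is a square. Exclude the cases k = 2 with q = 3, k = 2 with plus-type members and q ∈ {2, 4, 5}, k = 3 with q = 3, and k = 4 with plus-type members and q = 2. Then the elements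 of Ω permuting the members of D form a maximal subgroup of Ω. -/
theorem result {F : Type*} [Field F] [Fintype F] {n : ℕ} (hn : 13 ≤ n) (heven : Even n) (Q : (Fin n → F) → F) (hQ : Cfsg.Geo.IsNondegenerateQuadraticForm Q) (hplus : Cfsg.Geo.IsPlusTypeOn Q ⊤) {t : ℕ} (k : ℕ) (hk : 2 ≤ k) (D : Fin t → Submodule F (Fin n → F)) (hD : Cfsg.Geo.IsOrthogonalMDecomposition Q k D) (hke : Even k → ((∀ i, Cfsg.Geo.IsPlusTypeOn Q (D i)) ∨ Even t)) (hko : Odd k → (Odd (Fintype.card F) ∧ Cfsg.Geo.HasSquareDiscriminant Q)) (hex : ¬ ((k = 2 ∧ (Fintype.card F = 3 ∨ ((∀ i, Cfsg.Geo.IsPlusTypeOn Q (D i)) ∧ (Fintype.card F = 2 ∨ Fintype.card F = 4 ∨ Fintype.card F = 5)))) ∨ (k = 3 ∧ Fintype.card F = 3) ∨ (k = 4 ∧ Fintype.card F = 2 ∧ ∀ i, Cfsg.Geo.IsPlusTypeOn Q (D i)))) : Cfsg.Geo.IsMaximalIn (Cfsg.Geo.omegaGL Q) (Cfsg.Geo.decompositionStabilizer D ⊓ Cfsg.Geo.omegaGL Q) :=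
  Cfsg.Agent.S5692P.frozen_of_K2P
    (Cfsg.Agent.K2P.FINAL.K2PHyp_of
      (fun hF t ht Q q e f bp M hM g hg hgN =>
        (Cfsg.Agent.K2P.A.main bp (by omega) hF hM hg hgN).imp id
          (fun ⟨a, hab, ha⟩ => ⟨a, ha, hab⟩))
      (fun hF t ht Q q e f bp M hM a ha hab =>
        Or.inr (Cfsg.Agent.K2P.SIEGEL.main bp ht hF hM ha hab))
      (fun hF t ht Q q e f bp M hM hS => Cfsg.Agent.K2P.CONVERT.main bp ht hF hM hS)
      (fun hF t ht Q q e f bp M hM hS => Cfsg.Agent.K2P.SPREAD.main bp ht hF hM hS))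
    hn heven Q hQ hplus k hk D hD hke hko hex


end Cfsg.Agent.S5692
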