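import Cfsg.Statements.S5693
import Cfsg.Agent.Helper28.PlusDecompNM8

set_option autoImplicit false
open Cfsg

namespace Cfsg.Agent.S5693

/-- Let F be a finite field with q elements, n ≥ 13 even, Q a non-degenerate quadratic form on F^n of plus type (some subspace of dimension n/2 is totally singular), and Ω the commutator subgroup of the isometry group of Q, viewed inside GL_n(F). Let D be a decomposition of F^n into t ≥ 2 pairwise orthogonal, pairwise Q-isometric subspaces of equal dimension k on which the polar form is non-degenerate (with, for even k, all members of plus type or t even; for odd k, q odd and square discriminant), in one of the cases: k = 2 with q = 3; k = 2 with plus-type members and q ∈ {2, 4, 5}; k = 3 with q = 3; k = 4 with plus-type members and q = 2. Then the elements of Ω permuting the members of D form a subgroup that is not maximal: some subgroup lies strictly between it and Ω. -/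
theorem result {F : Type*} [Field F] [Fintype F] {n : ℕ} (hn : 13 ≤ n) (heven : Even n) (Q : (Fin n → F) → F) (hQ : Cfsg.Geo.IsNondegenerateQuadraticForm Q) (hplus : Cfsg.Geo.IsPlusTypeOn Q ⊤) {t : ℕ} (k : ℕ) (D : Fin t → Submodule F (Fin n → F)) (hD : Cfsg.Geo.IsOrthogonalMDecomposition Q k D) (hke : Even k → ((∀ i, Cfsg.Geo.IsPlusTypeOn Q (D i)) ∨ Even t)) (hko : Odd k → (Odd (Fintype.card F) ∧ Cfsg.Geo.HasSquareDiscriminant Q)) (hcase : ((k = 2 ∧ (Fintype.card F = 3 ∨ ((∀ i, Cfsg.Geo.IsPlusTypeOn Q (D i)) ∧ (Fintype.card F = 2 ∨ Fintype.card F = 4 ∨ Fintype.card F = 5)))) ∨ (k = 3 ∧ Fintype.card F = 3) ∨ (k = 4 ∧ Fintype.card F = 2 ∧ ∀ i, Cfsg.Geo.IsPlusTypeOn Q (D i)))) : ∃ K : Subgroup (Matrix.GeneralLinearGroup (Fin n) F), Cfsg.Geo.decompositionStabilizer D ⊓ Cfsg.Geo.omegaGL Q < K ∧ K < Cfsg.Geo.omegaGL Q := by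
  classical
  have ht := hD.decomp.decomp.two_le
  have hn8 : 8 ≤ Fintype.card (Fin n) := by rw [Fintype.card_fin]; omega
  have hcard := Cfsg.Agent.Helper28.SpMax.card_eq_of_decomp D hD.decomp.decomp
  rw [Fintype.card_fin] at hcard
  have hQn := Cfsg.Agent.Helper28.NM.ofFun_nondeg Q hQ
  -- singular vectors of plus-type blocks
  have hsing_of_plus : (∀ i, Cfsg.Geo.IsPlusTypeOn Q (D i)) →
      ∀ i, ∃ e, e ∈ D i ∧ e ≠ 0 ∧ (Cfsg.Agent.Helper28.NM.ofFun Q hQ) e = 0 := by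
    intro hpl i
    exact Cfsg.Agent.Helper28.PDN.exists_singular_of_plus (Cfsg.Agent.Helper28.NM.ofFun Q hQ) (D i)
      (by rw [hD.decomp.decomp.finrank_eq]; exact hD.decomp.decomp.pos) (hpl i)
  rcases hcase with ⟨rfl, h3 | ⟨hpl, h2 | h4 | h5⟩⟩ | ⟨rfl, h3⟩ | ⟨rfl, h2, hpl⟩
  · -- planes over F_3
    have ht3 : 3 ≤ t := by omega
    by_cases hs : ∃ v, v ∈ D ⟨0, by omega⟩ ∧ v ≠ 0 ∧ Q v = 0
    · obtain ⟨v, hv, hv0, hQv⟩ := hs
      have hsing : ∀ i, ∃ e, e ∈ D i ∧ e ≠ 0 ∧ (Cfsg.Agent.Helper28.NM.ofFun Q hQ) e = 0 := by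
        intro i
        obtain ⟨φ, hφ⟩ := hD.isometric ⟨0, by omega⟩ i
        refine ⟨((φ ⟨v, hv⟩ : D i) : Fin n → F), (φ ⟨v, hv⟩).2, ?_, ?_⟩
        · intro h0
          have h1 : φ ⟨v, hv⟩ = 0 := Subtype.ext h0
          have h2 : (⟨v, hv⟩ : D ⟨0, by omega⟩) = 0 := by
            rw [← φ.map_zero] at h1
            exact φ.injective h1
          exact hv0 (congrArg Subtype.val h2)
        · show Q _ = 0
          rw [hφ]; exact hQv
      exact Cfsg.Agent.Helper28.PDN.hyp3_not_maximal (Cfsg.Agent.Helper28.NM.ofFun Q hQ) D hQn h3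
        hn8 ht3 hD hsing
    · have haniso : ∀ v ∈ D ⟨0, by omega⟩, v ≠ 0 → (Cfsg.Agent.Helper28.NM.ofFun Q hQ) v ≠ 0 := by
        intro v hv hv0 hQv
        exact hs ⟨v, hv, hv0, hQv⟩
      obtain ⟨ε, e, hε, he⟩ := Cfsg.Agent.Helper28.OFN.exists_frame_two
        (Cfsg.Agent.Helper28.NM.ofFun Q hQ) h3 (D ⟨0, by omega⟩) (hD.decomp.nondegenerate _)
        (hD.decomp.decomp.finrank_eq _) haniso
      exact Cfsg.Agent.Helper28.OFN.frame_not_maximal (Cfsg.Agent.Helper28.NM.ofFun Q hQ)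
        hQn h3 hn8 (le_refl 2) (by norm_num) D hD ε hε ⟨0, by omega⟩ e he
  · exact Cfsg.Agent.Helper28.PDN.q2k2_not_maximal (Cfsg.Agent.Helper28.NM.ofFun Q hQ) D hQn h2
      hn8 (by omega) hD (hsing_of_plus hpl)
  · exact Cfsg.Agent.Helper28.PDN.q4k2_not_maximal (Cfsg.Agent.Helper28.NM.ofFun Q hQ) D hQn h4
      hn8 (by omega) hD (hsing_of_plus hpl)
  · exact Cfsg.Agent.Helper28.PDN.hyp5_not_maximal (Cfsg.Agent.Helper28.NM.ofFun Q hQ) D hQn h5
      hn8 (by omega) hD (hsing_of_plus hpl)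
  · obtain ⟨ε, e, hε, he⟩ := Cfsg.Agent.Helper28.OFN.exists_frame_three
      (Cfsg.Agent.Helper28.NM.ofFun Q hQ) h3 (D ⟨0, by omega⟩) (hD.decomp.nondegenerate _)
      (hD.decomp.decomp.finrank_eq _)
    exact Cfsg.Agent.Helper28.OFN.frame_not_maximal (Cfsg.Agent.Helper28.NM.ofFun Q hQ)
      hQn h3 hn8 (by norm_num) (le_refl 3) D hD ε hε ⟨0, by omega⟩ e he
  · exact Cfsg.Agent.Helper28.PDN.q2k4_not_maximal (Cfsg.Agent.Helper28.NM.ofFun Q hQ) D hQn h2
      hn8 ht hD hpl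

end Cfsg.Agent.S5693
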