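import Cfsg.Statements.S5694
import Cfsg.Agent.Helper3.OC2TOFBLK
import Cfsg.Agent.Helper7.K2M.Main
import Cfsg.Agent.Helper29.OC2K.K3Odd
import Cfsg.Agent.Helper13.OC2TBLKPLUS
import Cfsg.Agent.Helper17.OC2TBLKDEC
import Cfsg.Agent.Helper17.OC2TBLKND
import Cfsg.Agent.Helper29.OC2E.Final
import Cfsg.Agent.Helper17.OC2KC2Final

set_option autoImplicit false
open Cfsg

namespace Cfsg.Agent.S5694

/-- the block-model statement, by cases `k = 2` / `q` odd / `q` even -/
theorem blk {F : Type*} [Field F] [Fintype F] (t k : ℕ) (q : (Fin k → F) → F)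
    (hq : Cfsg.Geo.IsNondegenerateQuadraticForm q) (hn : 13 ≤ t * k) (heven : Even (t * k))
    (hk : 2 ≤ k) (ht : 2 ≤ t) (hminus : ¬ Cfsg.Geo.IsPlusTypeOn (Cfsg.Agent.OC2P.Qblk t q) ⊤)
    (hko : Odd k → (Odd (Fintype.card F) ∧
      Cfsg.Geo.HasSquareDiscriminant (Cfsg.Agent.OC2P.Qblk t q)))
    (hke : Even k → (Odd t ∧ ¬ Cfsg.Geo.IsPlusTypeOn q ⊤))
    (hex : ¬ (Fintype.card F = 3 ∧ (k = 2 ∨ k = 3))) :
    Cfsg.Geo.IsMaximalIn (Cfsg.Geo.omegaGL (Cfsg.Agent.OC2P.Qblk t q))
      (Cfsg.Geo.decompositionStabilizer (Cfsg.Agent.OC2P.Dblk F t k) ⊓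
        Cfsg.Geo.omegaGL (Cfsg.Agent.OC2P.Qblk t q)) := by
  classical
  by_cases hk2 : k = 2
  · subst hk2
    obtain ⟨-, hm⟩ := hke (by decide)
    exact Cfsg.Agent.K2M.FINAL.maximal t q hq (by omega) hm (fun h => hex ⟨h, Or.inl rfl⟩)
  · have hk3 : 3 ≤ k := by omega
    have hQ₀ := Cfsg.Agent.OC2P.BLKND.main (t := t) q hq
    have hD := Cfsg.Agent.OC2P.BLKDEC.main (F := F) q hq ht (by omega : 0 < k)
    have hcard : 13 ≤ Fintype.card (Fin t × Fin k) := by
      rw [Fintype.card_prod, Fintype.card_fin, Fintype.card_fin]; exact hn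
    by_cases h2 : (2 : F) = 0
    · -- characteristic 2: `k` is even
      have hchar : ringChar F = 2 :=
        CharP.ringChar_of_prime_eq_zero Nat.prime_two (by exact_mod_cast h2)
      have hcardeven : Fintype.card F % 2 = 0 := FiniteField.even_card_iff_char_two.mp hchar
      have hkeven : Even k := by
        rcases Nat.even_or_odd k with h | h
        · exact h
        · exfalso
          have := (hko h).1
          rw [Nat.odd_iff] at this
          omega
      obtain ⟨htodd, hm⟩ := hke hkeven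
      have hk4 : 4 ≤ k := by
        obtain ⟨c, hc⟩ := hkeven
        omega
      have ht3 : 3 ≤ t := by
        obtain ⟨c, hc⟩ := htodd
        omega
      by_cases hq2 : Fintype.card F = 2
      · exact Cfsg.Agent.OC2K.C2.FINAL.maximal_fun _ hQ₀ h2 (by omega) hk4 ht3 hD
          (fun i h => hm ((Cfsg.Agent.OC2P.BLKPLUS.main q hq i).mp h))
      · exact Cfsg.Agent.OC2E.FINAL.maximal_fun _ hQ₀ h2 hq2 (by omega) hk4 ht3 hD
    · exact Cfsg.Agent.OC2K.K3ODD.maximal_fun _ hQ₀ h2 hcard hk3 hD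
        (fun h => hex ⟨h.1, Or.inr h.2⟩)

/-- Let F be a finite field with q elements, n ≥ 13 even, Q a non-degenerate quadratic form on F^n of minus type (no subspace of dimension n/2 is totally singular), and Ω the commutator subgroup of the isometry group of Q, viewed inside GL_n(F). Let D be a decomposition of F^n into t ≥ 2 pairwise orthogonal, pairwise Q-isometric subspaces of equal dimension k ≥ 2 on which the polar form is non-degenerate, such that: if k is odd, q is odd and the discriminant of Q is a square; if k is even, t is odd and no member is of plus type. Unless q = 3 and k ∈ {2, 3}, the elements of Ω permuting the members of D form a maximal subgroup of Ω. -/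
theorem result {F : Type*} [Field F] [Fintype F] {n : ℕ} (hn : 13 ≤ n) (heven : Even n) (Q : (Fin n → F) → F) (hQ : Cfsg.Geo.IsNondegenerateQuadraticForm Q) (hminus : ¬ Cfsg.Geo.IsPlusTypeOn Q ⊤) {t : ℕ} (k : ℕ) (hk : 2 ≤ k) (D : Fin t → Submodule F (Fin n → F)) (hD : Cfsg.Geo.IsOrthogonalMDecomposition Q k D) (hko : Odd k → (Odd (Fintype.card F) ∧ Cfsg.Geo.HasSquareDiscriminant Q)) (hke : Even k → (Odd t ∧ ∀ i, ¬ Cfsg.Geo.IsPlusTypeOn Q (D i))) (hex : ¬ (Fintype.card F = 3 ∧ (k = 2 ∨ k = 3))) : Cfsg.Geo.IsMaximalIn (Cfsg.Geo.omegaGL Q) (Cfsg.Geo.decompositionStabilizer D ⊓ Cfsg.Geo.omegaGL Q) :=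
  Cfsg.Agent.OC2P.OFBLK94.main (fun t k q hq hn hev hk ht hm hko hke hex =>
    blk t k q hq hn hev hk ht hm hko hke hex) hn heven Q hQ hminus k hk D hD hko hke hex

end Cfsg.Agent.S5694
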