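import Cfsg.Statements.S5695
import Cfsg.Agent.Helper28.OrthFrameNM

set_option autoImplicit false
open Cfsg

namespace Cfsg.Agent.S5695

/-- Let F be a finite field with q elements, n ≥ 13 even, Q a non-degenerate quadratic form on F^n of minus type (no subspace of dimension n/2 is totally singular), and Ω the commutator subgroup of the isometry group of Q, viewed inside GL_n(F). Suppose q = 3 and let D be a decomposition of F^n into t ≥ 2 pairwise orthogonal, pairwise Q-isometric subspaces of equal dimension k ∈ {2, 3} on which the polar form is non-degenerate (for k = 3 the discriminant of Q is a square; for k = 2, t is odd and no member is of plus type). Then the elements of Ω permuting the members of D form a subgroup that is not maximal: some subgroup lies strictly between it and Ω. -/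
theorem result {F : Type*} [Field F] [Fintype F] {n : ℕ} (hn : 13 ≤ n) (heven : Even n) (Q : (Fin n → F) → F) (hQ : Cfsg.Geo.IsNondegenerateQuadraticForm Q) (hminus : ¬ Cfsg.Geo.IsPlusTypeOn Q ⊤) (hq : Fintype.card F = 3) {t : ℕ} (k : ℕ) (hk : k = 2 ∨ k = 3) (D : Fin t → Submodule F (Fin n → F)) (hD : Cfsg.Geo.IsOrthogonalMDecomposition Q k D) (hko : Odd k → Cfsg.Geo.HasSquareDiscriminant Q) (hke : Even k → (Odd t ∧ ∀ i, ¬ Cfsg.Geo.IsPlusTypeOn Q (D i))) : ∃ K : Subgroup (Matrix.GeneralLinearGroup (Fin n) F), Cfsg.Geo.decompositionStabilizer D ⊓ Cfsg.Geo.omegaGL Q < K ∧ K < Cfsg.Geo.omegaGL Q := by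
  classical
  have ht := hD.decomp.decomp.two_le
  have hn8 : 8 ≤ Fintype.card (Fin n) := by rw [Fintype.card_fin]; omega
  rcases hk with rfl | rfl
  · -- anisotropic planes
    obtain ⟨-, hmin⟩ := hke (by decide)
    have haniso : ∀ v ∈ D ⟨0, by omega⟩, v ≠ 0 → (Cfsg.Agent.Helper28.NM.ofFun Q hQ) v ≠ 0 := by
      intro v hv hv0 hQv
      apply hmin ⟨0, by omega⟩
      refine ⟨Submodule.span F {v}, ?_, ?_, ?_⟩
      · rw [Submodule.span_singleton_le_iff_mem]; exact hv
      · intro w hw
        obtain ⟨c, rfl⟩ := Submodule.mem_span_singleton.mp hw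
        rw [hQ.smul]
        have : Q v = 0 := hQv
        rw [this, mul_zero]
      · rw [finrank_span_singleton hv0, hD.decomp.decomp.finrank_eq]
    obtain ⟨ε, e, hε, he⟩ := Cfsg.Agent.Helper28.OFN.exists_frame_two
      (Cfsg.Agent.Helper28.NM.ofFun Q hQ) hq (D ⟨0, by omega⟩) (hD.decomp.nondegenerate _)
      (hD.decomp.decomp.finrank_eq _) haniso
    exact Cfsg.Agent.Helper28.OFN.frame_not_maximal (Cfsg.Agent.Helper28.NM.ofFun Q hQ)
      (Cfsg.Agent.Helper28.NM.ofFun_nondeg Q hQ) hq hn8 (le_refl 2) (by norm_num) D hD ε hε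
      ⟨0, by omega⟩ e he
  · obtain ⟨ε, e, hε, he⟩ := Cfsg.Agent.Helper28.OFN.exists_frame_three
      (Cfsg.Agent.Helper28.NM.ofFun Q hQ) hq (D ⟨0, by omega⟩) (hD.decomp.nondegenerate _)
      (hD.decomp.decomp.finrank_eq _)
    exact Cfsg.Agent.Helper28.OFN.frame_not_maximal (Cfsg.Agent.Helper28.NM.ofFun Q hQ)
      (Cfsg.Agent.Helper28.NM.ofFun_nondeg Q hQ) hq hn8 (by norm_num) (le_refl 3) D hD ε hε
      ⟨0, by omega⟩ e he

end Cfsg.Agent.S5695
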