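import Cfsg.Statements.S5713
import Cfsg.Agent.Helper10.BabaiE

set_option autoImplicit false
open Cfsg

namespace Cfsg.Agent.S5713

/-- A classification-free minimal-degree bound. Let G be a finite group acting faithfully and primitively on a finite set Ω with n elements, and suppose that the image of G in the symmetric group on Ω does not contain the alternating group on Ω. Then every non-identity element of G moves at least (√n − 1)/2 points of Ω, that is, it fixes at most n − (√n − 1)/2 points. -/
theorem result {G Ω : Type*} [Group G] [Finite G] [MulAction G Ω] [FaithfulSMul G Ω] [Fintype Ω] [DecidableEq Ω]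
    (hprim : MulAction.IsPreprimitive G Ω)
    (hA : ¬ alternatingGroup Ω ≤ (MulAction.toPermHom G Ω).range)
    (g : G) (hg : g ≠ 1) :
    (Real.sqrt (Fintype.card Ω) - 1) / 2 ≤ (Fintype.card Ω : ℝ) - Nat.card (MulAction.fixedBy Ω g) := by
  classical
  have := hprim
  have hmoved : ∃ x : Ω, g • x ≠ x := by
    by_contra hcon
    push Not at hcon
    apply hg
    exact FaithfulSMul.eq_of_smul_eq_smul (α := Ω) (fun x => by rw [hcon x, one_smul])
  obtain ⟨x, hx⟩ := hmoved
  set S := Finset.univ.filter (fun z : Ω => g • z ≠ z) with hS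
  have hbound : Fintype.card Ω ≤ (2 * S.card + 1) ^ 2 := by
    by_cases h2t : ∀ p q r s : Ω, p ≠ q → r ≠ s → Cfsg.Agent.Helper10.Babai.PR G p q r s
    · exact Cfsg.Agent.Helper10.Babai.card_le_sq_moved_two_trans h2t hA g x hx
    · exact Cfsg.Agent.Helper10.Babai.card_le_sq_moved h2t g x hx
  have hfix : Nat.card (MulAction.fixedBy Ω g) + S.card = Fintype.card Ω := by
    have h1 : Nat.card (MulAction.fixedBy Ω g)
        = (Finset.univ.filter (fun z : Ω => g • z = z)).card := by
      rw [Nat.card_eq_fintype_card, Fintype.card_subtype]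
      apply congrArg Finset.card
      ext z
      simp [MulAction.mem_fixedBy]
    rw [h1, hS, Finset.card_filter_add_card_filter_not, Finset.card_univ]
  have hfixR : (Fintype.card Ω : ℝ) - Nat.card (MulAction.fixedBy Ω g) = (S.card : ℝ) := by
    have : ((Nat.card (MulAction.fixedBy Ω g) + S.card : ℕ) : ℝ) = (Fintype.card Ω : ℝ) := by
      exact_mod_cast hfix
    push_cast at this
    linarith
  rw [hfixR]
  have hb : (Fintype.card Ω : ℝ) ≤ (2 * (S.card : ℝ) + 1) ^ 2 := by exact_mod_cast hbound
  have hsq : Real.sqrt (Fintype.card Ω) ≤ 2 * (S.card : ℝ) + 1 := by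
    have h0 : (0 : ℝ) ≤ 2 * (S.card : ℝ) + 1 := by positivity
    calc Real.sqrt (Fintype.card Ω) ≤ Real.sqrt ((2 * (S.card : ℝ) + 1) ^ 2) :=
          Real.sqrt_le_sqrt hb
      _ = 2 * (S.card : ℝ) + 1 := Real.sqrt_sq h0
  linarith

end Cfsg.Agent.S5713
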