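import Mathlib
import Cfsg.Statements.S5726

set_option autoImplicit false

namespace Cfsg.Agent.S5726

open MulAction

/-- A Sylow `p`-subgroup of a group acting transitively on `p^k` points is transitive. -/
theorem sylow_orbit_eq_univ {G Ω : Type*} [Group G] [Finite G] [MulAction G Ω] [Fintype Ω]
    (htr : MulAction.IsPretransitive G Ω)
    (p k : ℕ) [hp : Fact p.Prime] (hΩ : Fintype.card Ω = p ^ k) (P : Sylow p G) (ω : Ω) :
    orbit (P : Subgroup G) ω = Set.univ := by
  classical
  have hpp := hp.out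
  set a := (Nat.card G).factorization p with ha
  have hP : Nat.card (P : Subgroup G) = p ^ a := Sylow.card_eq_multiplicity P
  -- orbit-stabilizer in G
  have hG : p ^ k * Nat.card (stabilizer G ω) = Nat.card G := by
    have hX : Nat.card Ω = p ^ k := by rw [Nat.card_eq_fintype_card, hΩ]
    rw [← Subgroup.index_mul_card (stabilizer G ω), index_stabilizer_of_transitive, hX]
  -- orbit-stabilizer in P
  have hPo : (orbit (P : Subgroup G) ω).ncard * Nat.card (stabilizer (P : Subgroup G) ω)
      = Nat.card (P : Subgroup G) := by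
    rw [← Subgroup.index_mul_card (stabilizer (P : Subgroup G) ω), index_stabilizer]
  -- stabilizer in P divides stabilizer in G
  have hdvd : Nat.card (stabilizer (P : Subgroup G) ω) ∣ Nat.card (stabilizer G ω) := by
    have hle : (stabilizer (P : Subgroup G) ω).map (P : Subgroup G).subtype ≤ stabilizer G ω := by
      rintro _ ⟨x, hx, rfl⟩
      exact hx
    have := Subgroup.card_dvd_of_le hle
    rwa [Subgroup.card_map_of_injective (Subgroup.subtype_injective _)] at this
  rw [hP] at hPo
  obtain ⟨j, hj, hjc⟩ := (Nat.dvd_prime_pow hpp).mp (Dvd.intro_left _ hPo)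
  rw [hjc] at hPo hdvd
  have hkj : p ^ (k + j) ∣ Nat.card G := by
    rw [← hG, pow_add]
    exact Nat.mul_dvd_mul_left _ hdvd
  have hle : k + j ≤ a :=
    (hpp.pow_dvd_iff_le_factorization Nat.card_pos.ne').mp hkj
  have hpos : 0 < p ^ j := pow_pos hpp.pos _
  have horbP : (orbit (P : Subgroup G) ω).ncard = p ^ (a - j) := by
    apply Nat.eq_of_mul_eq_mul_right hpos
    rw [hPo, ← pow_add]
    congr 1
    omega
  rw [Set.eq_univ_iff_ncard]
  apply le_antisymm
  · rw [← Set.ncard_univ]
    exact Set.ncard_le_ncard (Set.subset_univ _)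
  · rw [horbP, Nat.card_eq_fintype_card, hΩ]
    exact Nat.pow_le_pow_right hpp.pos (by omega)

theorem result {G Ω : Type*} [Group G] [Finite G] [MulAction G Ω] [FaithfulSMul G Ω] [Fintype Ω] (htr : MulAction.IsPretransitive G Ω)
    (p k : ℕ) (hp : p.Prime) (hk : 1 ≤ k) (hΩ : Fintype.card Ω = p ^ k) :
    ∃ g : G, orderOf g = p ∧ ∀ ω : Ω, g • ω ≠ ω := by
  classical
  have : Fact p.Prime := ⟨hp⟩
  obtain ⟨P⟩ : Nonempty (Sylow p G) := inferInstance
  have hne : Nonempty Ω := by
    rw [← Fintype.card_pos_iff, hΩ]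
    exact pow_pos hp.pos _
  obtain ⟨ω₀⟩ := hne
  have horb := sylow_orbit_eq_univ htr p k hΩ P
  -- P is nontrivial
  have hPnt : Nontrivial (P : Subgroup G) := by
    rw [← Finite.one_lt_card_iff_nontrivial]
    have h1 : (orbit (P : Subgroup G) ω₀).ncard ≤ Nat.card (P : Subgroup G) := by
      rw [← Subgroup.index_mul_card (stabilizer (P : Subgroup G) ω₀), index_stabilizer]
      exact Nat.le_mul_of_pos_right _ Nat.card_pos
    rw [horb ω₀, Set.ncard_univ, Nat.card_eq_fintype_card, hΩ] at h1
    have : 1 < p ^ k := Nat.one_lt_pow (by omega) hp.one_lt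
    omega
  have hPG : IsPGroup p (P : Subgroup G) := P.isPGroup'
  have hcn := hPG.center_nontrivial
  have hZ : IsPGroup p (Subgroup.center (P : Subgroup G)) := hPG.to_subgroup _
  have hdvd : p ∣ Nat.card (Subgroup.center (P : Subgroup G)) := by
    rcases hZ.card_eq_or_dvd with h | h
    · have := Finite.one_lt_card_iff_nontrivial.mpr hcn
      omega
    · exact h
  obtain ⟨z, hz⟩ := exists_prime_orderOf_dvd_card' p hdvd
  have hord : orderOf ((z : (P : Subgroup G)) : G) = p := by
    rw [Subgroup.orderOf_coe, Subgroup.orderOf_coe, hz]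
  refine ⟨((z : (P : Subgroup G)) : G), hord, ?_⟩
  intro ω hω
  have hall : ∀ ω' : Ω, ((z : (P : Subgroup G)) : G) • ω' = ω' := by
    intro ω'
    have : ω' ∈ orbit (P : Subgroup G) ω := by rw [horb ω]; trivial
    obtain ⟨g, rfl⟩ := this
    have hcomm : (z : (P : Subgroup G)) * g = g * z :=
      (Subgroup.mem_center_iff.mp z.2 g).symm
    show ((z : (P : Subgroup G)) : G) • ((g : G) • ω) = (g : G) • ω
    rw [smul_smul]
    have : ((z : (P : Subgroup G)) : G) * (g : G) = (g : G) * ((z : (P : Subgroup G)) : G) := by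
      exact_mod_cast congrArg Subtype.val hcomm
    rw [this, ← smul_smul, hω]
  have h1 : ((z : (P : Subgroup G)) : G) = 1 := by
    apply eq_of_smul_eq_smul (α := Ω)
    intro a
    rw [hall a, one_smul]
  rw [h1, orderOf_one] at hord
  exact hp.one_lt.ne hord

end Cfsg.Agent.S5726
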