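import Mathlib
import Cfsg.Statements.S5727
import Cfsg.Agent.S5726

set_option autoImplicit false

namespace Cfsg.Agent.S5727

open MulAction

/-- Stabilizers in a Sylow `p`-subgroup have index `p` when the degree is `m p`, `m < p`. -/
theorem sylow_stab_index {G Ω : Type*} [Group G] [Finite G] [MulAction G Ω] [Fintype Ω]
    (htr : MulAction.IsPretransitive G Ω)
    (p m : ℕ) [hp : Fact p.Prime] (hm : 1 ≤ m) (hmp : m < p) (hΩ : Fintype.card Ω = m * p)
    (P : Sylow p G) (ω : Ω) :
    (stabilizer (P : Subgroup G) ω).index = p := by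
  classical
  have hpp := hp.out
  set a := (Nat.card G).factorization p with ha
  have hP : Nat.card (P : Subgroup G) = p ^ a := Sylow.card_eq_multiplicity P
  have hG : m * p * Nat.card (stabilizer G ω) = Nat.card G := by
    have hX : Nat.card Ω = m * p := by rw [Nat.card_eq_fintype_card, hΩ]
    rw [← Subgroup.index_mul_card (stabilizer G ω), index_stabilizer_of_transitive, hX]
  have hPo : (stabilizer (P : Subgroup G) ω).index * Nat.card (stabilizer (P : Subgroup G) ω)
      = Nat.card (P : Subgroup G) := Subgroup.index_mul_card _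
  have hdvd : Nat.card (stabilizer (P : Subgroup G) ω) ∣ Nat.card (stabilizer G ω) := by
    have hle : (stabilizer (P : Subgroup G) ω).map (P : Subgroup G).subtype ≤ stabilizer G ω := by
      rintro _ ⟨x, hx, rfl⟩
      exact hx
    have := Subgroup.card_dvd_of_le hle
    rwa [Subgroup.card_map_of_injective (Subgroup.subtype_injective _)] at this
  rw [hP] at hPo
  obtain ⟨j, hj, hjc⟩ := (Nat.dvd_prime_pow hpp).mp (Dvd.intro_left _ hPo)
  rw [hjc] at hPo hdvd
  have hkj : p ^ (j + 1) ∣ Nat.card G := by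
    rw [← hG, pow_succ, mul_comm (p ^ j) p, mul_assoc]
    exact Dvd.dvd.mul_left (Nat.mul_dvd_mul_left _ hdvd) m
  have hle : j + 1 ≤ a :=
    (hpp.pow_dvd_iff_le_factorization Nat.card_pos.ne').mp hkj
  have hpos : 0 < p ^ j := pow_pos hpp.pos _
  have hidx : (stabilizer (P : Subgroup G) ω).index = p ^ (a - j) := by
    apply Nat.eq_of_mul_eq_mul_right hpos
    rw [hPo, ← pow_add]
    congr 1
    omega
  have hlt : (stabilizer (P : Subgroup G) ω).index < p ^ 2 := by
    rw [index_stabilizer]
    calc (orbit (P : Subgroup G) ω).ncard ≤ (Set.univ : Set Ω).ncard :=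
          Set.ncard_le_ncard (Set.subset_univ _)
      _ = m * p := by rw [Set.ncard_univ, Nat.card_eq_fintype_card, hΩ]
      _ < p * p := Nat.mul_lt_mul_of_pos_right hmp hpp.pos
      _ = p ^ 2 := (sq p).symm
  rw [hidx] at hlt ⊢
  have : a - j < 2 := (Nat.pow_lt_pow_iff_right hpp.one_lt).mp hlt
  have : a - j = 1 := by omega
  rw [this, pow_one]

theorem result {G Ω : Type*} [Group G] [Finite G] [MulAction G Ω] [FaithfulSMul G Ω] [Fintype Ω] (htr : MulAction.IsPretransitive G Ω)
    (p m : ℕ) (hp : p.Prime) (hm : 1 ≤ m) (hmp : m ≤ p) (hΩ : Fintype.card Ω = m * p) :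
    ∃ g : G, orderOf g = p ∧ ∀ ω : Ω, g • ω ≠ ω := by
  classical
  rcases hmp.eq_or_lt with rfl | hlt
  · exact Cfsg.Agent.S5726.result htr m 2 hp (by norm_num) (by rw [hΩ, sq])
  have : Fact p.Prime := ⟨hp⟩
  obtain ⟨P⟩ : Nonempty (Sylow p G) := inferInstance
  have hne : Nonempty Ω := by
    rw [← Fintype.card_pos_iff, hΩ]
    exact Nat.mul_pos hm hp.pos
  have hidx := sylow_stab_index htr p m hm hlt hΩ P
  have hfin : Fintype (P : Subgroup G) := Fintype.ofFinite _
  -- card of P
  obtain ⟨a, ha⟩ : ∃ a, Nat.card (P : Subgroup G) = p ^ a := ⟨_, Sylow.card_eq_multiplicity P⟩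
  have ha0 : a ≠ 0 := by
    rintro rfl
    obtain ⟨ω₀⟩ := hne
    have h1 := Subgroup.index_mul_card (stabilizer (P : Subgroup G) ω₀)
    rw [hidx, ha, pow_zero] at h1
    have := Nat.eq_one_of_mul_eq_one_right h1
    exact hp.one_lt.ne' this
  have hnorm : ∀ ω : Ω, (stabilizer (P : Subgroup G) ω).Normal := by
    intro ω
    apply Subgroup.normal_of_index_eq_minFac_card
    rw [hidx, ha, Nat.pow_minFac ha0, hp.minFac_eq]
  -- exponent p
  have hexp : ∀ g : (P : Subgroup G), g ^ p = 1 := by
    intro g
    have hall : ∀ ω : Ω, (g ^ p) • ω = ω := by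
      intro ω
      haveI := hnorm ω
      have := Subgroup.pow_index_mem (stabilizer (P : Subgroup G) ω) g
      rwa [hidx ω] at this
    have h1 : (((g ^ p : (P : Subgroup G))) : G) = 1 := by
      apply eq_of_smul_eq_smul (α := Ω)
      intro ω
      rw [one_smul]
      exact hall ω
    exact Subtype.ext h1
  -- fixed points come in full orbits
  have hfix : ∀ g : (P : Subgroup G), ∀ ω : Ω, g • ω = ω → ∀ h : (P : Subgroup G), g • (h • ω) = h • ω := by
    intro g ω hg h
    haveI := hnorm ω
    have hmem : g ∈ stabilizer (P : Subgroup G) ω := hg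
    have hc : h⁻¹ * g * h⁻¹⁻¹ ∈ stabilizer (P : Subgroup G) ω :=
      Subgroup.Normal.conj_mem inferInstance g hmem h⁻¹
    rw [inv_inv] at hc
    have hc' : (h⁻¹ * g * h) • ω = ω := hc
    calc g • (h • ω) = h • ((h⁻¹ * g * h) • ω) := by
          simp only [smul_smul]; congr 1; group
      _ = h • ω := by rw [hc']
  -- existence of a derangement in P by double counting
  have hcardP : Fintype.card (P : Subgroup G) = p ^ a := by
    rw [← Nat.card_eq_fintype_card, ha]
  have hex : ∃ g : (P : Subgroup G), ∀ ω : Ω, g • ω ≠ ω := by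
    by_contra hcon
    push Not at hcon
    -- double counting
    have hdc : ∑ g : (P : Subgroup G), (Finset.univ.filter (fun ω : Ω => g • ω = ω)).card
        = ∑ ω : Ω, (Finset.univ.filter (fun g : (P : Subgroup G) => g • ω = ω)).card := by
      simp only [Finset.card_filter]
      exact Finset.sum_comm
    have hstab : ∀ ω : Ω, (Finset.univ.filter (fun g : (P : Subgroup G) => g • ω = ω)).card * p
        = p ^ a := by
      intro ω
      have h1 := Subgroup.index_mul_card (stabilizer (P : Subgroup G) ω)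
      rw [hidx, ha] at h1
      rw [mul_comm, ← h1]
      congr 1
      rw [Nat.card_eq_fintype_card, Fintype.card_subtype]
      rfl
    have hfixge : ∀ g : (P : Subgroup G), p ≤ (Finset.univ.filter (fun ω : Ω => g • ω = ω)).card := by
      intro g
      obtain ⟨ω, hω⟩ := hcon g
      have hsub : (orbit (P : Subgroup G) ω).toFinset ⊆ Finset.univ.filter (fun ω : Ω => g • ω = ω) := by
        intro x hx
        rw [Set.mem_toFinset] at hx
        obtain ⟨h, rfl⟩ := hx
        simp only [Finset.mem_filter, Finset.mem_univ, true_and]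
        exact hfix g ω hω h
      calc p = (stabilizer (P : Subgroup G) ω).index := (hidx ω).symm
        _ = (orbit (P : Subgroup G) ω).ncard := index_stabilizer _ _
        _ = (orbit (P : Subgroup G) ω).toFinset.card := Set.ncard_eq_toFinset_card' _
        _ ≤ _ := Finset.card_le_card hsub
    have hone : (Finset.univ.filter (fun ω : Ω => (1 : (P : Subgroup G)) • ω = ω)).card = m * p := by
      simp [hΩ]
    have hsumge : m * p + (p ^ a - 1) * p ≤
        ∑ g : (P : Subgroup G), (Finset.univ.filter (fun ω : Ω => g • ω = ω)).card := by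
      rw [← Finset.add_sum_erase Finset.univ _ (Finset.mem_univ (1 : (P : Subgroup G))), hone]
      apply Nat.add_le_add_left
      calc (p ^ a - 1) * p = ∑ g ∈ Finset.univ.erase (1 : (P : Subgroup G)), p := by
            rw [Finset.sum_const, Finset.card_erase_of_mem (Finset.mem_univ _), Finset.card_univ,
              hcardP, smul_eq_mul]
        _ ≤ _ := Finset.sum_le_sum (fun g _ => hfixge g)
    have hsumeq : (∑ ω : Ω, (Finset.univ.filter (fun g : (P : Subgroup G) => g • ω = ω)).card) * p
        = m * p * p ^ a := by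
      rw [Finset.sum_mul]
      simp only [hstab]
      rw [Finset.sum_const, Finset.card_univ, hΩ, smul_eq_mul]
    rw [hdc] at hsumge
    have h3 : (m * p + (p ^ a - 1) * p) * p ≤ m * p * p ^ a := by
      rw [← hsumeq]
      exact Nat.mul_le_mul_right _ hsumge
    have hpa : p ≤ p ^ a := by
      calc p = p ^ 1 := (pow_one p).symm
        _ ≤ p ^ a := Nat.pow_le_pow_right hp.pos (by omega)
    obtain ⟨N, hN⟩ : ∃ N, p ^ a = N + p := ⟨p ^ a - p, by omega⟩
    obtain ⟨q, hq⟩ : ∃ q, p = m + 1 + q := ⟨p - m - 1, by omega⟩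
    have hp2 : 2 ≤ p := hp.two_le
    rw [hN] at h3
    have h4 : N + p - 1 = N + (p - 1) := by omega
    rw [h4] at h3
    obtain ⟨r, hr⟩ : ∃ r, p = r + 1 := ⟨p - 1, by omega⟩
    rw [hr] at h3 hq
    simp only [Nat.add_sub_cancel] at h3
    have hm' : m = r - q := by omega
    have hqr : q + 1 ≤ r := by omega
    obtain ⟨t, ht⟩ : ∃ t, r = q + 1 + t := ⟨r - q - 1, by omega⟩
    subst ht
    have hm'' : m = 1 + t := by omega
    subst hm''
    nlinarith [Nat.zero_le N, Nat.zero_le q, Nat.zero_le t, Nat.zero_le (N * q), Nat.zero_le (N * t), Nat.zero_le (q * t), Nat.zero_le (t * t), Nat.zero_le (q*q)]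
  obtain ⟨g, hg⟩ := hex
  refine ⟨(g : G), ?_, fun ω => hg ω⟩
  rw [Subgroup.orderOf_coe]
  apply orderOf_eq_prime (hexp g)
  rintro rfl
  obtain ⟨ω₀⟩ := hne
  exact hg ω₀ (one_smul _ _)

end Cfsg.Agent.S5727
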