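import Mathlib
import Cfsg.Statements.S5728

set_option autoImplicit false

namespace Cfsg.Agent.S5728

open Polynomial

/-- In a field of characteristic `p` containing `ZMod p`, the solutions of `x ^ p = x` are exactly
the elements of the prime field. -/
theorem mem_range_of_pow_eq (p : ℕ) [Fact p.Prime] {K : Type*} [Field K] [Algebra (ZMod p) K]
    (x : K) (hx : x ^ p = x) : ∃ a : ZMod p, algebraMap (ZMod p) K a = x := by
  classical
  set f : K[X] := X ^ p - X with hf
  have hp := (Fact.out : p.Prime)
  have hdeg : f.natDegree = p := by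
    rw [hf]
    exact FiniteField.X_pow_card_sub_X_natDegree_eq K hp.one_lt
  have hf0 : f ≠ 0 := by
    intro h
    rw [h, natDegree_zero] at hdeg
    exact hp.ne_zero hdeg.symm
  have hroot : ∀ y : K, y ^ p = y → y ∈ f.roots.toFinset := by
    intro y hy
    rw [Multiset.mem_toFinset, mem_roots hf0, IsRoot, hf]
    simp [hy]
  set S : Finset K := Finset.univ.image (algebraMap (ZMod p) K) with hS
  have hScard : S.card = p := by
    rw [hS, Finset.card_image_of_injective _ (algebraMap (ZMod p) K).injective, Finset.card_univ,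
      ZMod.card]
  have hsub : S ⊆ f.roots.toFinset := by
    intro y hy
    rw [hS, Finset.mem_image] at hy
    obtain ⟨a, _, rfl⟩ := hy
    apply hroot
    rw [← map_pow, ZMod.pow_card]
  have hle : f.roots.toFinset.card ≤ S.card := by
    rw [hScard]
    calc f.roots.toFinset.card ≤ Multiset.card f.roots := Multiset.toFinset_card_le _
      _ ≤ f.natDegree := card_roots' f
      _ = p := hdeg
  have heq := Finset.eq_of_subset_of_card_le hsub hle
  have hx' := hroot x hx
  rw [← heq, hS, Finset.mem_image] at hx'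
  obtain ⟨a, _, ha⟩ := hx'
  exact ⟨a, ha⟩

theorem result (p s : ℕ) [Fact p.Prime] (hs : p = 2 ^ s - 1)
    (g : Equiv.Perm (GaloisField p 2)) (hg : g ∈ Cfsg.affineGroup (GaloisField p 2)) (hord : (orderOf g).Prime) :
    ∃ x ∈ Cfsg.affineGroup (GaloisField p 2), ∃ a b : ZMod p, a ≠ 0 ∧
      ∀ y : GaloisField p 2, (x * g * x⁻¹) y = algebraMap (ZMod p) (GaloisField p 2) a * y + algebraMap (ZMod p) (GaloisField p 2) b := by
  classical
  have hp := (Fact.out : p.Prime)
  obtain ⟨α, β, hαβ⟩ := hg
  by_cases hα : (α : GaloisField p 2) = 1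
  · -- translation
    have hβ : β ≠ 0 := by
      rintro rfl
      have : g = 1 := by
        ext y
        rw [hαβ, hα]
        simp
      rw [this, orderOf_one] at hord
      exact Nat.not_prime_one hord
    -- x = multiplication by β⁻¹
    let x : Equiv.Perm (GaloisField p 2) := Equiv.mulLeft₀ β⁻¹ (inv_ne_zero hβ)
    refine ⟨x, ⟨Units.mk0 β⁻¹ (inv_ne_zero hβ), 0, fun y => by simp [x]⟩, 1, 1, one_ne_zero, ?_⟩
    intro y
    have hxinv : x⁻¹ y = β * y := by
      rw [Equiv.Perm.inv_eq_iff_eq]
      simp [x, hβ]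
    rw [Equiv.Perm.mul_apply, Equiv.Perm.mul_apply, hxinv, hαβ, hα]
    simp only [x, Equiv.mulLeft₀_apply, map_one, one_mul]
    field_simp
  · -- fixed point
    have h1α : (1 : GaloisField p 2) - α ≠ 0 := fun h => hα (sub_eq_zero.mp h).symm
    set y₀ : GaloisField p 2 := β / (1 - α) with hy₀
    have hfix : (α : GaloisField p 2) * y₀ + β = y₀ := by
      rw [hy₀]; field_simp; ring
    let x : Equiv.Perm (GaloisField p 2) := Equiv.addRight (-y₀)
    have hxinv : ∀ y, x⁻¹ y = y + y₀ := by
      intro y
      rw [Equiv.Perm.inv_eq_iff_eq]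
      simp [x]
    have hconj : ∀ y, (x * g * x⁻¹) y = (α : GaloisField p 2) * y := by
      intro y
      rw [Equiv.Perm.mul_apply, Equiv.Perm.mul_apply, hxinv, hαβ]
      simp only [x, Equiv.coe_addRight]
      linear_combination hfix
    -- order
    set r := orderOf g with hr
    have hpow : ∀ k : ℕ, ∀ y, ((x * g * x⁻¹) ^ k) y = (α : GaloisField p 2) ^ k * y := by
      intro k
      induction k with
      | zero => intro y; simp
      | succ k ih =>
        intro y
        rw [pow_succ, Equiv.Perm.mul_apply, hconj, ih]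
        ring
    have hαr : (α : GaloisField p 2) ^ r = 1 := by
      have h1 : (x * g * x⁻¹) ^ r = 1 := by
        rw [conj_pow, hr, pow_orderOf_eq_one]
        simp
      have := hpow r 1
      rw [h1] at this
      simpa using this.symm
    have hαr' : α ^ r = 1 := Units.ext (by simpa using hαr)
    have hoα : orderOf α = r := by
      have hd := orderOf_dvd_of_pow_eq_one hαr'
      rcases (Nat.dvd_prime hord).mp hd with h | h
      · rw [orderOf_eq_one_iff] at h
        exact absurd (by rw [h]; rfl) hα
      · exact h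
    -- r divides p^2 - 1
    have hcard : Nat.card (GaloisField p 2)ˣ = p ^ 2 - 1 := by
      rw [Nat.card_units, GaloisField.card p 2 (by norm_num)]
    have hrdvd : r ∣ p ^ 2 - 1 := by
      rw [← hoα, ← hcard]
      exact orderOf_dvd_natCard α
    have hs2 : 2 ≤ s := by
      rcases s with _ | _ | s
      · simp at hs; exact absurd hs hp.ne_zero
      · simp at hs; exact absurd hs hp.ne_one
      · omega
    have h2s : 4 ≤ 2 ^ s := by
      calc 4 = 2 ^ 2 := by norm_num
        _ ≤ 2 ^ s := Nat.pow_le_pow_right (by norm_num) hs2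
    have hfac : p ^ 2 - 1 = (p - 1) * 2 ^ s := by
      have hp1 : p + 1 = 2 ^ s := by omega
      rw [← hp1]
      have : 1 ≤ p := hp.one_lt.le
      obtain ⟨t, rfl⟩ : ∃ t, p = t + 1 := ⟨p - 1, by omega⟩
      simp only [Nat.add_sub_cancel]
      have : (t + 1) ^ 2 = t * (t + 1 + 1) + 1 := by ring
      omega
    have hrp : r ∣ p - 1 := by
      rw [hfac] at hrdvd
      rcases (Nat.Prime.dvd_mul hord).mp hrdvd with h | h
      · exact h
      · have h2 : r ∣ 2 := hord.dvd_of_dvd_pow h
        have hr2 : r = 2 := (Nat.prime_dvd_prime_iff_eq hord Nat.prime_two).mp h2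
        rw [hr2]
        have : p = 2 ^ s - 1 := hs
        obtain ⟨t, rfl⟩ : ∃ t, s = t + 1 := ⟨s - 1, by omega⟩
        rw [pow_succ] at this
        omega
    have hαp : (α : GaloisField p 2) ^ p = α := by
      obtain ⟨c, hc⟩ := hrp
      have : (α : GaloisField p 2) ^ (p - 1) = 1 := by
        rw [hc, pow_mul, hαr, one_pow]
      calc (α : GaloisField p 2) ^ p = (α : GaloisField p 2) ^ (p - 1 + 1) := by
            congr 1; have := hp.one_lt; omega
        _ = α := by rw [pow_succ, this, one_mul]
    obtain ⟨a, ha⟩ := mem_range_of_pow_eq p (α : GaloisField p 2) hαp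
    refine ⟨x, ⟨1, -y₀, fun y => by simp [x, sub_eq_add_neg]⟩, a, 0, ?_, ?_⟩
    · rintro rfl
      rw [map_zero] at ha
      exact α.ne_zero ha.symm
    · intro y
      rw [hconj, ha, map_zero, add_zero]

end Cfsg.Agent.S5728
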