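import Mathlib
import Cfsg.Statements.S5729

set_option autoImplicit false

namespace Cfsg.Agent.S5729

open MulAction

/-- Burnside's lemma with `Finset.filter` counts. -/
theorem burnside_nat (G X : Type*) [Group G] [Fintype G] [MulAction G X] [Fintype X] [DecidableEq X]
    [Fintype (Quotient (orbitRel G X))] :
    ∑ g : G, (Finset.univ.filter (fun x : X => g • x = x)).card
      = Fintype.card (Quotient (orbitRel G X)) * Fintype.card G := by
  classical
  rw [← sum_card_fixedBy_eq_card_orbits_mul_card_group G X]
  apply Finset.sum_congr rfl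
  intro g _
  rw [Fintype.card_subtype]
  rfl

theorem fix_prod {G X : Type*} [Group G] [MulAction G X] [Fintype X] [DecidableEq X] (g : G) :
    (Finset.univ.filter (fun x : X × X => g • x = x)).card
      = (Finset.univ.filter (fun x : X => g • x = x)).card ^ 2 := by
  rw [sq, ← Finset.card_product]
  congr 1
  ext ⟨a, b⟩
  simp [Prod.ext_iff]

theorem result {G Ω : Type*} [Group G] [Finite G] [MulAction G Ω] [FaithfulSMul G Ω] [Fintype Ω] (htr : MulAction.IsPretransitive G Ω) (hn : 3 ≤ Fintype.card Ω) :
    ((MulAction.IsPretransitive G Ω ∧ (∃ g : G, g ≠ 1 ∧ ∃ ω : Ω, g • ω = ω) ∧ ∀ g : G, g ≠ 1 → Nat.card (MulAction.fixedBy Ω g) ≤ 1) ∧ Nat.card G = Fintype.card Ω * (Fintype.card Ω - 1) ∧ Fintype.card Ω * Nat.card {g : G // ∀ ω : Ω, g • ω ≠ ω} = Nat.card G) ∨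
    Nat.card G < Fintype.card Ω * Nat.card {g : G // ∀ ω : Ω, g • ω ≠ ω} := by
  classical
  have hfin : Fintype G := Fintype.ofFinite G
  set n := Fintype.card Ω with hn_def
  have hne : Nonempty Ω := Fintype.card_pos_iff.mp (by omega)
  -- fixed point counts
  set f : G → ℕ := fun g => (Finset.univ.filter (fun x : Ω => g • x = x)).card with hf
  -- Burnside on Ω
  have hB1 : ∑ g : G, f g = Fintype.card G := by
    rw [hf, burnside_nat G Ω]
    have : Fintype.card (Quotient (orbitRel G Ω)) = 1 := by
      have hs : Subsingleton (Quotient (orbitRel G Ω)) :=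
        (pretransitive_iff_subsingleton_quotient G Ω).mp htr
      have hne' : Nonempty (Quotient (orbitRel G Ω)) := ⟨Quotient.mk _ hne.some⟩
      exact le_antisymm (Fintype.card_le_one_iff_subsingleton.mpr hs) Fintype.card_pos
    rw [this, one_mul]
  -- Burnside on Ω × Ω
  have hB2 : 2 * Fintype.card G ≤ ∑ g : G, f g ^ 2 := by
    have h1 : ∑ g : G, f g ^ 2 = Fintype.card (Quotient (orbitRel G (Ω × Ω))) * Fintype.card G := by
      rw [← burnside_nat G (Ω × Ω)]
      apply Finset.sum_congr rfl
      intro g _
      rw [fix_prod]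
    rw [h1]
    apply Nat.mul_le_mul_right
    obtain ⟨a, b, hab⟩ : ∃ a b : Ω, a ≠ b := by
      have : 1 < Fintype.card Ω := by omega
      exact Fintype.exists_pair_of_one_lt_card this
    have hne2 : (Quotient.mk (orbitRel G (Ω × Ω)) (a, a)) ≠ (Quotient.mk (orbitRel G (Ω × Ω)) (a, b)) := by
      intro h
      have h' := Quotient.exact h
      obtain ⟨g, hg⟩ := h'
      have h1 : g • a = a := congrArg Prod.fst hg
      have h2 : g • b = a := congrArg Prod.snd hg
      exact hab (smul_left_cancel g (h1.trans h2.symm))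
    exact Fintype.one_lt_card_iff.mpr ⟨_, _, hne2⟩
  -- bounds on f
  have hfle : ∀ g, f g ≤ n := fun g => by
    rw [hf, hn_def]
    exact (Finset.card_filter_le _ _).trans (le_of_eq Finset.card_univ)
  have hf1 : f 1 = n := by
    rw [hf, hn_def]
    simp
  have hfn : ∀ g, f g = n → g = 1 := by
    intro g hg
    apply eq_of_smul_eq_smul (α := Ω)
    intro ω
    rw [one_smul]
    have : Finset.univ.filter (fun x : Ω => g • x = x) = Finset.univ := by
      apply Finset.eq_univ_of_card
      exact hg
    have hω : ω ∈ Finset.univ.filter (fun x : Ω => g • x = x) := by rw [this]; exact Finset.mem_univ _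
    exact (Finset.mem_filter.mp hω).2
  -- derangement count
  set D : Finset G := Finset.univ.filter (fun g => f g = 0) with hD
  have hDcard : Nat.card {g : G // ∀ ω : Ω, g • ω ≠ ω} = D.card := by
    rw [Nat.card_eq_fintype_card, Fintype.card_subtype, hD]
    congr 1
    ext g
    simp only [Finset.mem_filter, Finset.mem_univ, true_and, hf, Finset.card_eq_zero,
      Finset.filter_eq_empty_iff, forall_true_left, ne_eq]
  have hGcard : Nat.card G = Fintype.card G := Nat.card_eq_fintype_card
  rw [hDcard, hGcard]
  -- the key inequality in ℤ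
  have hkey : (Fintype.card G : ℤ) ≤ ∑ g : G, ((f g : ℤ) - 1) * ((f g : ℤ) - n) := by
    have e : ∑ g : G, ((f g : ℤ) - 1) * ((f g : ℤ) - n)
        = (∑ g : G, (f g : ℤ) ^ 2) - (n + 1) * (∑ g : G, (f g : ℤ)) + n * Fintype.card G := by
      rw [Finset.mul_sum, ← Finset.sum_sub_distrib]
      have : (n : ℤ) * (Fintype.card G) = ∑ g : G, (n : ℤ) := by
        rw [Finset.sum_const, Finset.card_univ, nsmul_eq_mul, mul_comm]
      rw [this, ← Finset.sum_add_distrib]
      apply Finset.sum_congr rfl
      intro g _
      ring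
    have h1 : (∑ g : G, (f g : ℤ)) = Fintype.card G := by exact_mod_cast hB1
    have h2 : (2 * Fintype.card G : ℤ) ≤ ∑ g : G, (f g : ℤ) ^ 2 := by exact_mod_cast hB2
    rw [e, h1]
    linarith
  have hterm : ∀ g : G, ((f g : ℤ) - 1) * ((f g : ℤ) - n) ≤ if f g = 0 then (n : ℤ) else 0 := by
    intro g
    split_ifs with h0
    · rw [h0]; simp
    · have h1 : (1 : ℤ) ≤ f g := by exact_mod_cast Nat.one_le_iff_ne_zero.mpr h0
      have h2 : (f g : ℤ) ≤ n := by exact_mod_cast hfle g
      nlinarith
  have hsum : ∑ g : G, (if f g = 0 then (n : ℤ) else 0) = n * D.card := by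
    rw [← Finset.sum_filter, Finset.sum_const, nsmul_eq_mul, mul_comm]
  have hle : (Fintype.card G : ℤ) ≤ n * D.card := by
    calc (Fintype.card G : ℤ) ≤ ∑ g : G, ((f g : ℤ) - 1) * ((f g : ℤ) - n) := hkey
      _ ≤ ∑ g : G, (if f g = 0 then (n : ℤ) else 0) := Finset.sum_le_sum (fun g _ => hterm g)
      _ = n * D.card := hsum
  have hle' : Fintype.card G ≤ n * D.card := by exact_mod_cast hle
  rcases hle'.eq_or_lt with heq | hlt
  swap
  · right; exact hlt
  left
  have heqZ : (Fintype.card G : ℤ) = n * D.card := by exact_mod_cast heq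
  -- all terms are zero
  have hzero : ∀ g : G, (if f g = 0 then (n : ℤ) else 0) - ((f g : ℤ) - 1) * ((f g : ℤ) - n) = 0 := by
    have hs : ∑ g : G, ((if f g = 0 then (n : ℤ) else 0) - ((f g : ℤ) - 1) * ((f g : ℤ) - n)) = 0 := by
      rw [Finset.sum_sub_distrib, hsum]
      have := hkey
      have h2 : ∑ g : G, ((f g : ℤ) - 1) * ((f g : ℤ) - n) ≤ n * D.card := by
        calc _ ≤ ∑ g : G, (if f g = 0 then (n : ℤ) else 0) := Finset.sum_le_sum (fun g _ => hterm g)
          _ = n * D.card := hsum
      linarith
    intro g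
    exact (Finset.sum_eq_zero_iff_of_nonneg (fun g _ => sub_nonneg.mpr (hterm g))).mp hs g
      (Finset.mem_univ g)
  have hf01 : ∀ g : G, g ≠ 1 → f g ≤ 1 := by
    intro g hg
    by_contra hcon
    push Not at hcon
    have h0 : f g ≠ 0 := by omega
    have := hzero g
    rw [if_neg h0, zero_sub, neg_eq_zero] at this
    rcases mul_eq_zero.mp this with h | h
    · have : (f g : ℤ) = 1 := by linarith
      have : f g = 1 := by exact_mod_cast this
      omega
    · have : (f g : ℤ) = n := by linarith
      have : f g = n := by exact_mod_cast this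
      exact hg (hfn g this)
  -- |D| = n - 1
  have hDn : (D.card : ℤ) = n - 1 := by
    have h1 : ∑ g : G, ((f g : ℤ) - 1) = 0 := by
      rw [Finset.sum_sub_distrib]
      have : (∑ g : G, (f g : ℤ)) = Fintype.card G := by exact_mod_cast hB1
      rw [this]
      simp
    have h2 : ∀ g : G, (f g : ℤ) - 1 = (if g = 1 then ((n : ℤ) - 1) else 0) - (if f g = 0 then 1 else 0) := by
      intro g
      by_cases hg : g = 1
      · subst hg
        rw [hf1, if_pos rfl, if_neg (by omega)]
        simp
      · rw [if_neg hg]
        have := hf01 g hg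
        by_cases h0 : f g = 0
        · rw [if_pos h0, h0]; simp
        · rw [if_neg h0]
          have : f g = 1 := by omega
          rw [this]; simp
    rw [Finset.sum_congr rfl (fun g _ => h2 g), Finset.sum_sub_distrib, Finset.sum_ite_eq'] at h1
    simp only [Finset.mem_univ, if_true] at h1
    rw [← Finset.sum_filter, Finset.sum_const, nsmul_eq_mul, mul_one] at h1
    linarith
  have hDn' : D.card = n - 1 := by
    have : (D.card : ℤ) = ((n - 1 : ℕ) : ℤ) := by
      rw [hDn]; push_cast [Nat.cast_sub (by omega : 1 ≤ n)]; ring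
    exact_mod_cast this
  refine ⟨⟨htr, ?_, ?_⟩, ?_, ?_⟩
  · -- some nonidentity element fixes a point
    by_contra hcon
    push Not at hcon
    have hDe : D = Finset.univ.erase 1 := by
      ext g
      simp only [hD, Finset.mem_filter, Finset.mem_univ, true_and, Finset.mem_erase, and_true]
      constructor
      · intro h0 h1
        subst h1
        rw [hf1] at h0
        omega
      · intro hg
        simp only [hf, Finset.card_eq_zero, Finset.filter_eq_empty_iff, Finset.mem_univ,
          forall_true_left]
        exact fun ω => hcon g hg ω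
    have hDc : D.card = Fintype.card G - 1 := by
      rw [hDe, Finset.card_erase_of_mem (Finset.mem_univ _), Finset.card_univ]
    rw [hDn'] at hDc heq
    have hG1 : Fintype.card G = n := by
      have : 0 < Fintype.card G := Fintype.card_pos
      omega
    rw [hG1] at heq
    have : n - 1 = 1 := by
      have hnpos : 0 < n := by omega
      have := Nat.eq_of_mul_eq_mul_left hnpos (show n * 1 = n * (n - 1) by rw [mul_one]; exact heq)
      omega
    omega
  · intro g hg
    have := hf01 g hg
    rw [Nat.card_eq_fintype_card, Fintype.card_subtype]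
    exact this
  · rw [heq, hDn']
  · exact heq.symm

end Cfsg.Agent.S5729
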