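import Mathlib
import Cfsg.Statements.S5738
import Cfsg.Agent.Helper28.Singer

set_option autoImplicit false

namespace Cfsg.Agent.S5738

open Cfsg.Agent.Helper28.Singer

variable {F K : Type*} [Field F] [Field K] [Algebra F K]

/-- the semilinear maps `x ↦ b * σ x` -/
noncomputable def Phi (F : Type*) {K : Type*} [Field F] [Field K] [Algebra F K]
    (p : Kˣ × (K ≃ₐ[F] K)) : (Module.End F K)ˣ :=
  mm F p.1 * LinearMap.GeneralLinearGroup.ofLinearEquiv p.2.toLinearEquiv

theorem Phi_apply (p : Kˣ × (K ≃ₐ[F] K)) (x : K) :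
    ((Phi F p : (Module.End F K)ˣ) : Module.End F K) x = (p.1 : K) * p.2 x := by
  unfold Phi
  rw [Units.val_mul, Module.End.mul_apply, mm_apply]
  rfl

theorem Phi_injective : Function.Injective (Phi F : Kˣ × (K ≃ₐ[F] K) → (Module.End F K)ˣ) := by
  rintro ⟨b, σ⟩ ⟨b', σ'⟩ h
  have h1 : ∀ x : K, (b : K) * σ x = (b' : K) * σ' x := by
    intro x
    have := congrArg (fun u : (Module.End F K)ˣ => (u : Module.End F K) x) h
    simpa [Phi_apply] using this
  have hb : b = b' := by
    apply Units.ext
    have := h1 1
    simpa using this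
  subst hb
  have hσ : σ = σ' := by
    ext x
    exact mul_left_cancel₀ b.ne_zero (h1 x)
  rw [hσ]

theorem result {F K : Type*} [Field F] [Fintype F] [Field K] [Fintype K] [Algebra F K] (n : ℕ) (hn : 2 ≤ n) (hdim : Module.finrank F K = n) :
    Nat.card (Subgroup.normalizer (((Units.map ((Algebra.lmul F K : K →ₐ[F] Module.End F K) : K →* Module.End F K)).range : Subgroup (Module.End F K)ˣ) : Set (Module.End F K)ˣ)) = n * (Fintype.card K - 1) := by
  classical
  have hfd : Module.Finite F K := Module.Finite.of_finite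
  have hfinE : Finite (Module.End F K) := DFunLike.finite _
  have hfinU : Finite (Module.End F K)ˣ := inferInstance
  have hrange : Set.range (Phi F : Kˣ × (K ≃ₐ[F] K) → (Module.End F K)ˣ) =
      (Subgroup.normalizer (((mm F : Kˣ →* (Module.End F K)ˣ).range : Subgroup (Module.End F K)ˣ) :
        Set (Module.End F K)ˣ) : Set (Module.End F K)ˣ) := by
    ext g
    simp only [Set.mem_range, SetLike.mem_coe]
    rw [Subgroup.mem_normalizer_iff_map_conj_eq]
    constructor
    · rintro ⟨⟨b, σ⟩, rfl⟩
      symm
      apply Subgroup.eq_of_le_of_card_ge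
      · rintro _ ⟨a, rfl⟩
        have ha0 : σ.symm (a : K) ≠ 0 := by
          intro h
          have := congrArg σ h
          rw [AlgEquiv.apply_symm_apply, map_zero] at this
          exact a.ne_zero this
        refine ⟨mm F (Units.mk0 _ ha0), ⟨_, rfl⟩, ?_⟩
        show Phi F (b, σ) * mm F (Units.mk0 _ ha0) * (Phi F (b, σ))⁻¹ = mm F a
        rw [conj_eq_iff]
        intro x
        rw [Phi_apply, Phi_apply]
        simp only [Units.val_mk0, map_mul, AlgEquiv.apply_symm_apply]
        ring
      · rw [Subgroup.card_map_of_injective (MulAut.conj _).injective]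
    · intro hg
      -- g normalizes M
      have hconj : ∀ c : Kˣ, ∃ a : Kˣ, ∀ x, (g : Module.End F K) ((c : K) * x)
          = (a : K) * (g : Module.End F K) x := by
        intro c
        have hmem : g * mm F c * g⁻¹ ∈ (mm F : Kˣ →* (Module.End F K)ˣ).range := by
          rw [← hg]
          exact ⟨mm F c, ⟨c, rfl⟩, rfl⟩
        obtain ⟨a, ha⟩ := hmem
        exact ⟨a, (conj_eq_iff g c a).mp ha.symm⟩
      set u : K := ((g⁻¹ : (Module.End F K)ˣ) : Module.End F K) 1 with hu
      have hgu : (g : Module.End F K) u = 1 := unit_apply_inv g 1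
      let τ : K →ₗ[F] K := (g : Module.End F K) ∘ₗ (LinearMap.mulRight F u)
      have hτ : ∀ c, τ c = (g : Module.End F K) (c * u) := fun c => rfl
      have hkey : ∀ c x : K, (g : Module.End F K) (c * x) = τ c * (g : Module.End F K) x := by
        intro c x
        by_cases hc : c = 0
        · subst hc; simp
        · obtain ⟨a, ha⟩ := hconj (Units.mk0 c hc)
          simp only [Units.val_mk0] at ha
          have : τ c = a := by
            rw [hτ, ha u, hgu, mul_one]
          rw [this, ha]
      have hτ1 : τ 1 = 1 := by rw [hτ, one_mul, hgu]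
      have hτmul : ∀ c c', τ (c * c') = τ c * τ c' := by
        intro c c'
        rw [hτ, mul_assoc, hkey, ← hτ]
      let τ' : K →ₐ[F] K := AlgHom.ofLinearMap τ hτ1 hτmul
      let σ : K ≃ₐ[F] K := AlgEquiv.ofBijective τ' (AlgHom.bijective τ')
      have hg1 : (g : Module.End F K) 1 ≠ 0 := unit_apply_ne_zero g one_ne_zero
      refine ⟨(Units.mk0 _ hg1, σ), ?_⟩
      apply Units.ext
      apply LinearMap.ext
      intro x
      rw [Phi_apply]
      show (g : Module.End F K) 1 * τ x = (g : Module.End F K) x
      have := hkey x 1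
      rw [mul_one] at this
      rw [this, mul_comm]
  show Nat.card ((Subgroup.normalizer (((mm F : Kˣ →* (Module.End F K)ˣ).range : Subgroup (Module.End F K)ˣ) :
        Set (Module.End F K)ˣ) : Set (Module.End F K)ˣ)) = _
  rw [← hrange, Nat.card_range_of_injective Phi_injective, Nat.card_prod, Nat.card_units,
    IsGalois.card_aut_eq_finrank, hdim, Nat.card_eq_fintype_card, mul_comm]

end Cfsg.Agent.S5738
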