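import Mathlib
import Cfsg.Statements.S5739
import Cfsg.Agent.Helper28.Singer

set_option autoImplicit false

namespace Cfsg.Agent.S5739

open Cfsg.Agent.Helper28.Singer

theorem result {F K : Type*} [Field F] [Fintype F] [Field K] [Fintype K] [Algebra F K] (n : ℕ) (hn : 2 ≤ n) (hdim : Module.finrank F K = n)
    (g : (Module.End F K)ˣ) (hg : ((Units.map ((Algebra.lmul F K : K →ₐ[F] Module.End F K) : K →* Module.End F K)).range).map (MulAut.conj g).toMonoidHom ≠ (Units.map ((Algebra.lmul F K : K →ₐ[F] Module.End F K) : K →* Module.End F K)).range) :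
    ∃ r : ℕ, 1 ≤ r ∧ r ∣ n ∧ r < n ∧ Nat.card ↥(((Units.map ((Algebra.lmul F K : K →ₐ[F] Module.End F K) : K →* Module.End F K)).range).map (MulAut.conj g).toMonoidHom ⊓ (Units.map ((Algebra.lmul F K : K →ₐ[F] Module.End F K) : K →* Module.End F K)).range) ∣ Fintype.card F ^ r - 1 := by
  classical
  have hfd : Module.Finite F K := Module.Finite.of_finite
  have halg : Algebra.IsAlgebraic F K := Algebra.IsAlgebraic.of_finite F K
  have hfinE : Finite (Module.End F K) := DFunLike.finite _
  have hfinU : Finite (Module.End F K)ˣ := inferInstance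
  -- the intermediate field
  set S : IntermediateField F K :=
    (EE g).toIntermediateField' (Subalgebra.isField_of_algebraic (EE g)) with hS
  have hmemS : ∀ a : K, a ∈ S ↔ a ∈ EE g := fun a => Iff.rfl
  refine ⟨Module.finrank F S, Module.finrank_pos, ?_, ?_, ?_⟩
  · rw [← hdim, ← Module.finrank_mul_finrank F S K]
    exact Dvd.intro _ rfl
  · -- strictness
    rw [← hdim]
    apply lt_of_le_of_ne
    · exact (IntermediateField.toSubalgebra S).toSubmodule.finrank_le
    · intro heq
      have htop : S = ⊤ := IntermediateField.eq_of_le_of_finrank_eq le_top (by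
        rw [IntermediateField.finrank_top', heq])
      apply hg
      symm
      apply Subgroup.eq_of_le_of_card_ge
      · rintro _ ⟨a, rfl⟩
        have ha : (a : K) ∈ EE g := by
          rw [← hmemS, htop]; exact IntermediateField.mem_top
        exact ((mem_inf_iff g (mm F a)).mpr ⟨a, ha, rfl⟩).1
      · rw [Subgroup.card_map_of_injective (MulAut.conj g).injective]
  · -- the divisibility
    let ψ : Sˣ →* (Module.End F K)ˣ := (mm F).comp (Units.map ((algebraMap S K : S →+* K) : S →* K))
    have hle : ((mm F : Kˣ →* (Module.End F K)ˣ).range).map (MulAut.conj g).toMonoidHom ⊓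
        (mm F : Kˣ →* (Module.End F K)ˣ).range ≤ ψ.range := by
      intro h hh
      obtain ⟨a, ha, rfl⟩ := (mem_inf_iff g h).mp hh
      have ha' : (a : K) ∈ S := (hmemS _).mpr ha
      refine ⟨Units.mk0 (⟨(a : K), ha'⟩ : S) (fun h0 => a.ne_zero (congrArg Subtype.val h0)), ?_⟩
      show mm F _ = mm F a
      congr 1
      exact Units.ext rfl
    have h1 := Subgroup.card_dvd_of_le hle
    have h2 := Subgroup.card_range_dvd ψ
    have h3 : Nat.card Sˣ = Fintype.card F ^ Module.finrank F S - 1 := by
      rw [Nat.card_units, Module.natCard_eq_pow_finrank (K := F), Nat.card_eq_fintype_card]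
    rw [← h3]
    exact h1.trans h2

end Cfsg.Agent.S5739
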