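import Cfsg.Statements.S5746
import Cfsg.Agent.Helper19.J2G24.Final
import Cfsg.Agent.Helper13.G2UG

set_option autoImplicit false
open Cfsg

namespace Cfsg.Agent.S5746

open Cfsg.Lie Cfsg.Agent.Helper19.Sp4 Cfsg.Agent.Helper19.G24 Cfsg.Agent.Helper19.J2G24
  Cfsg.Agent.Helper22.PermPack

/-- every generator table is the table of a root element -/
theorem exists_tab {y : ℕ} (hy : y ∈ Y0) : ∃ (r : ℕ) (t : F4), y = tab r t := by
  rw [Y0_eq] at hy
  unfold Y0' at hy
  rw [List.mem_flatMap] at hy
  obtain ⟨r, -, hr⟩ := hy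
  simp only [List.mem_cons, List.not_mem_nil, or_false] at hr
  rcases hr with rfl | rfl | rfl
  · exact ⟨r, F4.i, rfl⟩
  · exact ⟨r, F4.w, rfl⟩
  · exact ⟨r, F4.v, rfl⟩

/-- The Chevalley group G₂(4) (over the field with 4 elements) has a maximal subgroup H isomorphic to the Hall–Janko group J₂ such that for every x outside H the intersection H ∩ xHx⁻¹ is a maximal subgroup of H; that is, the action of G₂(4) on the cosets of H is extremely primitive. -/
theorem result {F : Type*} [Field F] [Fintype F] (hF : Fintype.card F = 4) :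
    ∃ H : Subgroup (Cfsg.Lie.chevG2.group F), IsCoatom H ∧ Cfsg.Spor.IsoJ2 H ∧
      ∀ x : Cfsg.Lie.chevG2.group F, x ∉ H → IsCoatom ((H ⊓ H.map (MulAut.conj x).toMonoidHom).subgroupOf H) := by
  have e0 : F ≃+* F4 := FiniteField.ringEquivOfCardEq (by rw [hF, F4.card_eq])
  obtain ⟨e1⟩ := Cfsg.Agent.Helper13.G2UG.group_base_change chevG2 e0
  obtain ⟨e2⟩ := exists_iso
  -- the isomorphism with the Steinberg group
  let e : ↥(chevG2.group F) ≃* St := e1.trans e2.symm
  let ρ : ↥(chevG2.group F) →* Pm 416 := rhoP.comp e.toMonoidHom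
  have hinj : Function.Injective ρ := rhoP_injective.comp e.injective
  have : Finite ↥(chevG2.group F) := Finite.of_equiv _ e.symm.toEquiv
  have hcard : Nat.card ↥(chevG2.group F) = 251596800 := by
    rw [Nat.card_congr e.toEquiv, card_St]
  have hgen : ∀ y ∈ Y0, P 416 9 y ∈ ρ.range := by
    intro y hy
    obtain ⟨r, t, rfl⟩ := exists_tab hy
    refine ⟨e.symm (chevG2.stGen F4 r t), ?_⟩
    show rhoP (e (e.symm (chevG2.stGen F4 r t))) = P 416 9 (tab r t)
    rw [MulEquiv.apply_symm_apply, rhoP_stGen]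
    rfl
  exact main_abstract ρ hinj hcard hgen

end Cfsg.Agent.S5746
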