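import Cfsg.Statements.S5748
import Cfsg.Agent.Helper18.CTMain
import Cfsg.Agent.Helper18.CTCONV

set_option autoImplicit false
open Cfsg

namespace Cfsg.Agent.S5748

/-- A finite non-abelian simple group in which commuting is a transitive relation on the non-identity elements (equivalently, every non-identity element has abelian centraliser) is isomorphic to PSL₂ over a field with 2^f elements for some f ≥ 2; conversely these groups have that property. -/
theorem result {G : Type*} [Group G] [Finite G] [IsSimpleGroup G] (hG : ¬ IsMulCommutative G) :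
    (∀ a b c : G, a ≠ 1 → b ≠ 1 → c ≠ 1 → Commute a b → Commute b c → Commute a c) ↔
    ∃ (F : Type) (_ : Field F) (_ : Fintype F) (f : ℕ), 2 ≤ f ∧ Fintype.card F = 2 ^ f ∧ Nonempty (G ≃* Matrix.ProjectiveSpecialLinearGroup (Fin 2) F) := by
  have hna : ¬ ∀ a b : G, a * b = b * a := fun h => hG ⟨⟨h⟩⟩
  constructor
  · intro hct
    exact Cfsg.Agent.Helper18.CT.psl_of_ct hna hct
  · rintro ⟨F, hF1, hF2, f, -, hFc, ⟨E⟩⟩
    intro a b c ha hb hc hab hbc
    have h := Cfsg.Agent.Helper18.CT.ct_of_psl f hFc (E a) (E b) (E c)
      (fun h => ha (by simpa using h)) (fun h => hb (by simpa using h))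
      (fun h => hc (by simpa using h))
      (by
        show E a * E b = E b * E a
        rw [← map_mul, ← map_mul, hab.eq])
      (by
        show E b * E c = E c * E b
        rw [← map_mul, ← map_mul, hbc.eq])
    have h2 : E (a * c) = E (c * a) := by
      rw [map_mul, map_mul]; exact h
    exact E.injective h2

end Cfsg.Agent.S5748
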