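import Cfsg.Statements.S5752
import Cfsg.Agent.Helper10.TWFinal

set_option autoImplicit false
open Cfsg

namespace Cfsg.Agent.S5752

/-- A form of the Thompson–Wielandt Theorem on primitive permutation groups. Let G be a finite group and M₁, M₂ two distinct conjugate maximal subgroups of G with trivial core in G; define two descending sequences of subgroups by A₀ = M₁, B₀ = M₂ and, for every i, A_{i+1} = the core in M₁ of A_i ∩ B_i and B_{i+1} = the core in M₂ of A_i ∩ B_i (the core in M of a subgroup Y ≤ M is the largest normal subgroup of M contained in Y). If A₂ and B₂ are both non-trivial, then for some prime p the subgroup generated by A₂ and B₂ is a p-group, and for each j the generalized Fitting subgroups of M_j and of its first core (A₁, resp. B₁) are their largest normal p-subgroups. -/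
theorem result {G : Type*} [Group G] [Finite G] (M₁ M₂ : Subgroup G) (hmax : IsCoatom M₁) (g : G)
    (hconj : M₂ = M₁.map (MulAut.conj g).toMonoidHom) (hne : M₁ ≠ M₂) (hcore : M₁.normalCore = ⊥)
    (A B : ℕ → Subgroup G) (hA0 : A 0 = M₁) (hB0 : B 0 = M₂)
    (hA : ∀ i, A (i + 1) = ((A i ⊓ B i).subgroupOf M₁).normalCore.map M₁.subtype)
    (hB : ∀ i, B (i + 1) = ((A i ⊓ B i).subgroupOf M₂).normalCore.map M₂.subtype) (hA2 : A 2 ≠ ⊥) (hB2 : B 2 ≠ ⊥) :
    ∃ p : ℕ, p.Prime ∧ IsPGroup p ↥(A 2 ⊔ B 2) ∧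
      Cfsg.generalizedFittingSubgroup ↥M₁ = Cfsg.pCore p ↥M₁ ∧ Cfsg.generalizedFittingSubgroup ↥(A 1) = Cfsg.pCore p ↥(A 1) ∧
      Cfsg.generalizedFittingSubgroup ↥M₂ = Cfsg.pCore p ↥M₂ ∧ Cfsg.generalizedFittingSubgroup ↥(B 1) = Cfsg.pCore p ↥(B 1) := by
  open Cfsg.Agent.Helper10.TW in
  have hmem1 : ∀ (X M : Subgroup G) (x : G),
      x ∈ ((X.subgroupOf M).normalCore).map M.subtype ↔ x ∈ M ∧ ∀ m ∈ M, m * x * m⁻¹ ∈ X :=
    fun X M x => mem_coreIn
  have S : Setup M₁ M₂ (A 1) (B 1) (A 2) (B 2) := by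
    refine
      { co₁ := hmax
        co₂ := hconj ▸ isCoatom_map_conj g hmax
        core₁ := hcore
        core₂ := hconj ▸ normalCore_map_conj_eq_bot g hcore
        ne := hne
        card := fun p => by rw [hconj]; exact (card_pCoreOf_map_conj p M₁ g).symm
        memA₁ := ?_
        memB₁ := ?_
        memA₂ := ?_
        memB₂ := ?_
        neA₂ := hA2
        neB₂ := hB2 }
    · intro x
      rw [hA 0, hA0, hB0, hmem1]
      constructor
      · rintro ⟨h1, h2⟩
        exact ⟨h1, fun m hm => (h2 m hm).2⟩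
      · rintro ⟨h1, h2⟩
        exact ⟨h1, fun m hm => ⟨M₁.mul_mem (M₁.mul_mem hm h1) (M₁.inv_mem hm), h2 m hm⟩⟩
    · intro x
      rw [hB 0, hA0, hB0, hmem1]
      constructor
      · rintro ⟨h1, h2⟩
        exact ⟨h1, fun m hm => (h2 m hm).1⟩
      · rintro ⟨h1, h2⟩
        exact ⟨h1, fun m hm => ⟨h2 m hm, M₂.mul_mem (M₂.mul_mem hm h1) (M₂.inv_mem hm)⟩⟩
    · intro x
      rw [hA 1, hmem1]
      simp only [Subgroup.mem_inf]
    · intro x
      rw [hB 1, hmem1]
      simp only [Subgroup.mem_inf]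
      constructor
      · rintro ⟨h1, h2⟩
        exact ⟨h1, fun m hm => ⟨(h2 m hm).2, (h2 m hm).1⟩⟩
      · rintro ⟨h1, h2⟩
        exact ⟨h1, fun m hm => ⟨(h2 m hm).2, (h2 m hm).1⟩⟩
  obtain ⟨p, hp, hA₂, hB₂⟩ := S.exists_prime
  refine ⟨p, hp, ?_, S.fstar_M₁ hp hA₂, S.fstar_A₁ hp hA₂, S.symm.fstar_M₁ hp hB₂,
    S.symm.fstar_A₁ hp hB₂⟩
  exact IsPGroup.to_sup_of_normal_right' hA₂ hB₂ (S.A₂_le_M₂.trans S.symm.M₁_le_normalizer_A₂)

end Cfsg.Agent.S5752
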