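import Mathlib
import Cfsg.Statements.S5754

set_option autoImplicit false

namespace Cfsg.Agent.S5754

open QuadraticMap

variable {F V : Type*} [Field F] [AddCommGroup V] [Module F V]

theorem refl_two (Q : QuadraticForm F V) (d : V) (hd : Q d ≠ 0) :
    ((Q d)⁻¹ • (Q.polarBilin d) : V →ₗ[F] F) d = 2 := by
  simp only [LinearMap.smul_apply, polarBilin_apply_apply, polar_self, smul_eq_mul]
  rw [nsmul_eq_mul]
  field_simp
  norm_num

theorem hpol (Q : QuadraticForm F V) (x y : V) : polar Q x y = Q x + Q y - Q (x - y) := by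
  have h4 : Q (x + -y) = Q x + Q (-y) + polar Q x (-y) := by
    simp only [polar]; ring
  rw [sub_eq_add_neg x y, h4, polar_neg_right, QuadraticMap.map_neg]
  ring

/-- the reflection in `d` as an isometry equivalence -/
noncomputable def reflIso (Q : QuadraticForm F V) (d : V) (hd : Q d ≠ 0) : Q.IsometryEquiv Q :=
  { Module.reflection (refl_two Q d hd) with
    map_app' := by
      intro x
      show Q (Module.reflection (refl_two Q d hd) x) = Q x
      rw [Module.reflection_apply]
      set c : F := ((Q d)⁻¹ • (Q.polarBilin d) : V →ₗ[F] F) x with hc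
      have hc' : c * Q d = polar Q x d := by
        rw [hc]
        simp only [LinearMap.smul_apply, polarBilin_apply_apply, smul_eq_mul]
        rw [polar_comm]
        field_simp
      have e1 : Q (x - c • d) = Q x + Q (c • d) - polar Q x (c • d) := by
        have := hpol Q x (c • d)
        rw [this]; ring
      rw [e1, QuadraticMap.map_smul, polar_smul_right]
      simp only [smul_eq_mul]
      rw [← hc']
      ring }

theorem reflIso_apply (Q : QuadraticForm F V) (d : V) (hd : Q d ≠ 0) (x : V) :
    reflIso Q d hd x = x - ((Q d)⁻¹ * polar Q d x) • d := by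
  show Module.reflection (refl_two Q d hd) x = _
  rw [Module.reflection_apply]
  simp

theorem polar_isom (Q : QuadraticForm F V) (φ : Q.IsometryEquiv Q) (x y : V) :
    polar Q (φ x) (φ y) = polar Q x y := by
  simp only [polar, ← map_add, QuadraticMap.IsometryEquiv.map_app]

theorem ext_lemma {ι : Type*} [DecidableEq ι] (Q : QuadraticForm F V) (hQ : Q.Anisotropic)
    (w w' : ι → V) (hq : ∀ i, Q (w i) = Q (w' i))
    (hp : ∀ i j, polar Q (w i) (w j) = polar Q (w' i) (w' j)) (s : Finset ι) :
    ∃ φ : Q.IsometryEquiv Q, ∀ i ∈ s, φ (w i) = w' i := by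
  induction s using Finset.induction_on with
  | empty => exact ⟨QuadraticMap.IsometryEquiv.refl Q, by simp⟩
  | insert k s hk ih =>
    obtain ⟨φ, hφ⟩ := ih
    by_cases hd : φ (w k) - w' k = 0
    · refine ⟨φ, ?_⟩
      intro i hi
      rcases Finset.mem_insert.mp hi with rfl | hi
      · exact sub_eq_zero.mp hd
      · exact hφ i hi
    · have hQd : Q (φ (w k) - w' k) ≠ 0 := fun h => hd (hQ _ h)
      refine ⟨φ.trans (reflIso Q _ hQd), ?_⟩
      have hQa : Q (φ (w k)) = Q (w' k) := by rw [QuadraticMap.IsometryEquiv.map_app, hq]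
      have key : Q (φ (w k) - w' k) = polar Q (φ (w k) - w' k) (φ (w k)) := by
        rw [polar_sub_left, polar_self, polar_comm Q (w' k), hpol Q (φ (w k)) (w' k), hQa]
        rw [nsmul_eq_mul]
        push_cast
        ring
      intro i hi
      rcases Finset.mem_insert.mp hi with rfl | hi
      · show reflIso Q _ hQd (φ (w i)) = w' i
        rw [reflIso_apply, ← key, inv_mul_cancel₀ hQd, one_smul]
        abel
      · show reflIso Q _ hQd (φ (w i)) = w' i
        rw [reflIso_apply, hφ i hi]
        have : polar Q (φ (w k) - w' k) (w' i) = 0 := by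
          rw [polar_sub_left]
          nth_rewrite 1 [← hφ i hi]
          rw [polar_isom, hp, sub_self]
        rw [this, mul_zero, zero_smul, sub_zero]

theorem result {F V : Type*} [Field F] [Finite F] [AddCommGroup V] [Module F V] [Module.Finite F V]
    (Q : QuadraticForm F V) (hQ : Q.Anisotropic) (n : ℕ) (hn : 2 ≤ n) (u u' : Fin n → V)
    (h2 : ∀ i j : Fin n, i ≠ j → ∃ (φ : Q.IsometryEquiv Q) (c : V), φ (u i) + c = u' i ∧ φ (u j) + c = u' j) :
    ∃ (φ : Q.IsometryEquiv Q) (c : V), ∀ i, φ (u i) + c = u' i := by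
  classical
  have hdiff : ∀ i j : Fin n, Q (u i - u j) = Q (u' i - u' j) := by
    intro i j
    by_cases hij : i = j
    · subst hij; simp
    · obtain ⟨φ, c, h1, h2'⟩ := h2 i j hij
      rw [← h1, ← h2', add_sub_add_right_eq_sub, ← map_sub, QuadraticMap.IsometryEquiv.map_app]
  obtain ⟨z, hz⟩ : ∃ z : Fin n, z = ⟨0, by omega⟩ := ⟨_, rfl⟩
  obtain ⟨φ, hφ⟩ := ext_lemma Q hQ (fun i => u i - u z) (fun i => u' i - u' z)
    (fun i => hdiff i z) (fun i j => by
      rw [hpol, hpol]
      simp only [sub_sub_sub_cancel_right, hdiff]) Finset.univ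
  refine ⟨φ, u' z - φ (u z), ?_⟩
  intro i
  have := hφ i (Finset.mem_univ i)
  simp only [map_sub] at this
  rw [← add_sub_assoc, add_comm, add_sub_assoc, this]
  abel

end Cfsg.Agent.S5754
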