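import Mathlib
import Cfsg.Statements.S5763

set_option autoImplicit false

namespace Cfsg.Agent.S5763

/-- the bottom matching `(01)(23)(45)(67)` -/
def m0f : Fin 8 → Fin 8 := ![1, 0, 3, 2, 5, 4, 7, 6]

/-- the top block function on naturals -/
def BfN : ℕ → Bool := fun j => decide (j < 4)

/-- the top block function -/
def Bf : Fin 8 → Bool := fun i => BfN i.val

theorem m0f_invol : ∀ i, m0f (m0f i) = i := by decide

theorem m0f_ne : ∀ i, m0f i ≠ i := by decide

theorem Bf_m0f : ∀ i, Bf (m0f i) = Bf i := by decide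

theorem vec_eta (f : Fin 8 → Fin 8) : ![f 0, f 1, f 2, f 3, f 4, f 5, f 6, f 7] = f := by
  funext i
  fin_cases i <;> rfl

theorem inv_app (y : Equiv.Perm (Fin 8)) (i : Fin 8) : y⁻¹ (y i) = i := by simp

theorem app_inv (y : Equiv.Perm (Fin 8)) (i : Fin 8) : y (y⁻¹ i) = i := by simp

/-! ### The first brute force: involutions without fixed points and without a common pair -/

/-- `g` is good relative to `m0f` and `v` -/
def good (v g : Fin 8 → Fin 8) : Prop :=
  (∀ i, g (g i) = i) ∧ (∀ i, g (m0f i) = m0f (g i)) ∧ (∀ i, g (v i) = v (g i)) ∧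
    ∀ i, g i ≠ i ∧ g i ≠ m0f i ∧ g i ≠ v i

instance (v g : Fin 8 → Fin 8) : Decidable (good v g) := by unfold good; infer_instance

/-- the final property checked at the leaves -/
def fin (v : Fin 8 → Fin 8) : Prop :=
  (good v (v ∘ m0f) ∨ good v ((v ∘ m0f) ∘ (v ∘ m0f))) ∧
    ((∀ i, v (m0f i) = m0f (v i)) → ∀ i j, Bf i = Bf j ↔ Bf (v i) = Bf (v j))

instance (v : Fin 8 → Fin 8) : Decidable (fin v) := by unfold fin; infer_instance

/-- partial consistency of the value `w` at position `k` given the earlier values `l` -/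
def ok (k : Fin 8) (l : List (Fin 8)) (w : Fin 8) : Bool :=
  decide (w ≠ k) && decide (w ≠ m0f k) &&
    (List.range l.length).all fun j =>
      decide (l.getD j 0 ≠ w) && (decide (l.getD j 0 = k) == decide ((w : ℕ) = j))

set_option maxRecDepth 100000 in
set_option synthInstance.maxSize 2000 in
set_option synthInstance.maxHeartbeats 0 in
theorem brute : ∀ v0 : Fin 8, ok 0 [] v0 = true →
    ∀ v1 : Fin 8, ok 1 [v0] v1 = true →
    ∀ v2 : Fin 8, ok 2 [v0, v1] v2 = true →
    ∀ v3 : Fin 8, ok 3 [v0, v1, v2] v3 = true →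
    ∀ v4 : Fin 8, ok 4 [v0, v1, v2, v3] v4 = true →
    ∀ v5 : Fin 8, ok 5 [v0, v1, v2, v3, v4] v5 = true →
    ∀ v6 : Fin 8, ok 6 [v0, v1, v2, v3, v4, v5] v6 = true →
    ∀ v7 : Fin 8, ok 7 [v0, v1, v2, v3, v4, v5, v6] v7 = true →
    fin ![v0, v1, v2, v3, v4, v5, v6, v7] := by
  decide +kernel

theorem ok_of (m : Equiv.Perm (Fin 8)) (hinv : ∀ i, m (m i) = i) (hfpf : ∀ i, m i ≠ i)
    (hnse : ∀ i, m i ≠ m0f i) (k : Fin 8) (l : List (Fin 8)) (hlen : l.length = k.val)
    (hl : ∀ j (hj : j < 8), j < k.val → l.getD j 0 = m ⟨j, hj⟩) : ok k l (m k) = true := by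
  unfold ok
  simp only [Bool.and_eq_true, decide_eq_true_eq, List.all_eq_true, List.mem_range, beq_iff_eq]
  refine ⟨⟨hfpf k, hnse k⟩, fun j hj => ?_⟩
  rw [hlen] at hj
  have hj8 : j < 8 := lt_trans hj k.2
  rw [hl j hj8 hj]
  have hne : (⟨j, hj8⟩ : Fin 8) ≠ k := by
    intro h
    rw [← h] at hj
    exact lt_irrefl _ hj
  refine ⟨fun h => hne (m.injective h), ?_⟩
  rw [decide_eq_decide]
  constructor
  · intro h
    rw [← h, hinv]
  · intro h
    have : m k = ⟨j, hj8⟩ := Fin.ext h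
    rw [← this, hinv]

theorem fin_of (m : Equiv.Perm (Fin 8)) (hinv : ∀ i, m (m i) = i) (hfpf : ∀ i, m i ≠ i)
    (hnse : ∀ i, m i ≠ m0f i) : fin ⇑m := by
  have h := brute (m 0) (ok_of m hinv hfpf hnse 0 [] rfl (by intro j hj hjk; simp at hjk))
    (m 1) (ok_of m hinv hfpf hnse 1 [m 0] rfl (by
      intro j hj hjk
      have : j < 1 := hjk
      interval_cases j <;> rfl))
    (m 2) (ok_of m hinv hfpf hnse 2 [m 0, m 1] rfl (by
      intro j hj hjk
      have : j < 2 := hjk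
      interval_cases j <;> rfl))
    (m 3) (ok_of m hinv hfpf hnse 3 [m 0, m 1, m 2] rfl (by
      intro j hj hjk
      have : j < 3 := hjk
      interval_cases j <;> rfl))
    (m 4) (ok_of m hinv hfpf hnse 4 [m 0, m 1, m 2, m 3] rfl (by
      intro j hj hjk
      have : j < 4 := hjk
      interval_cases j <;> rfl))
    (m 5) (ok_of m hinv hfpf hnse 5 [m 0, m 1, m 2, m 3, m 4] rfl (by
      intro j hj hjk
      have : j < 5 := hjk
      interval_cases j <;> rfl))
    (m 6) (ok_of m hinv hfpf hnse 6 [m 0, m 1, m 2, m 3, m 4, m 5] rfl (by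
      intro j hj hjk
      have : j < 6 := hjk
      interval_cases j <;> rfl))
    (m 7) (ok_of m hinv hfpf hnse 7 [m 0, m 1, m 2, m 3, m 4, m 5, m 6] rfl (by
      intro j hj hjk
      have : j < 7 := hjk
      interval_cases j <;> rfl))
  rwa [vec_eta] at h

/-! ### The second brute force: elements of the tree group have order dividing 8 -/

/-- partial consistency for elements of the tree group -/
def okP (k : Fin 8) (l : List (Fin 8)) (w : Fin 8) : Bool :=
  (List.range l.length).all fun j =>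
    decide (l.getD j 0 ≠ w) && (decide (BfN j = BfN k.val) == decide (Bf (l.getD j 0) = Bf w)) &&
      (!decide ((m0f k : ℕ) = j) || decide (w = m0f (l.getD j 0)))

/-- the eighth iterate is the identity -/
def finP (f : Fin 8 → Fin 8) : Prop := ∀ i, f (f (f (f (f (f (f (f i))))))) = i

instance (f : Fin 8 → Fin 8) : Decidable (finP f) := by unfold finP; infer_instance

set_option maxRecDepth 100000 in
set_option synthInstance.maxSize 2000 in
set_option synthInstance.maxHeartbeats 0 in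
theorem bruteP : ∀ v0 : Fin 8, okP 0 [] v0 = true →
    ∀ v1 : Fin 8, okP 1 [v0] v1 = true →
    ∀ v2 : Fin 8, okP 2 [v0, v1] v2 = true →
    ∀ v3 : Fin 8, okP 3 [v0, v1, v2] v3 = true →
    ∀ v4 : Fin 8, okP 4 [v0, v1, v2, v3] v4 = true →
    ∀ v5 : Fin 8, okP 5 [v0, v1, v2, v3, v4] v5 = true →
    ∀ v6 : Fin 8, okP 6 [v0, v1, v2, v3, v4, v5] v6 = true →
    ∀ v7 : Fin 8, okP 7 [v0, v1, v2, v3, v4, v5, v6] v7 = true →
    finP ![v0, v1, v2, v3, v4, v5, v6, v7] := by
  decide +kernel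

/-- the tree group: automorphisms of the structure (pairs, blocks) -/
def P0 : Subgroup (Equiv.Perm (Fin 8)) where
  carrier := {σ | (∀ i, σ (m0f i) = m0f (σ i)) ∧ ∀ i j, Bf i = Bf j ↔ Bf (σ i) = Bf (σ j)}
  mul_mem' := by
    rintro a b ⟨ha1, ha2⟩ ⟨hb1, hb2⟩
    refine ⟨fun i => ?_, fun i j => ?_⟩
    · rw [Equiv.Perm.mul_apply, Equiv.Perm.mul_apply, hb1, ha1]
    · rw [Equiv.Perm.mul_apply, Equiv.Perm.mul_apply]
      exact (hb2 i j).trans (ha2 _ _)
  one_mem' := ⟨fun _ => rfl, fun _ _ => Iff.rfl⟩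
  inv_mem' := by
    rintro a ⟨ha1, ha2⟩
    refine ⟨fun i => ?_, fun i j => ?_⟩
    · apply a.injective
      rw [ha1]
      simp
    · have := ha2 (a⁻¹ i) (a⁻¹ j)
      rw [app_inv, app_inv] at this
      exact this.symm

theorem mem_P0 (σ : Equiv.Perm (Fin 8)) : σ ∈ P0 ↔
    (∀ i, σ (m0f i) = m0f (σ i)) ∧ ∀ i j, Bf i = Bf j ↔ Bf (σ i) = Bf (σ j) := Iff.rfl

theorem okP_of (σ : Equiv.Perm (Fin 8)) (hσ : σ ∈ P0) (k : Fin 8) (l : List (Fin 8))
    (hlen : l.length = k.val)
    (hl : ∀ j (hj : j < 8), j < k.val → l.getD j 0 = σ ⟨j, hj⟩) : okP k l (σ k) = true := by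
  obtain ⟨h1, h2⟩ := hσ
  unfold okP
  simp only [Bool.and_eq_true, decide_eq_true_eq, List.all_eq_true, List.mem_range, beq_iff_eq,
    Bool.or_eq_true, Bool.not_eq_true', decide_eq_false_iff_not]
  intro j hj
  rw [hlen] at hj
  have hj8 : j < 8 := lt_trans hj k.2
  rw [hl j hj8 hj]
  have hne : (⟨j, hj8⟩ : Fin 8) ≠ k := by
    intro h
    rw [← h] at hj
    exact lt_irrefl _ hj
  refine ⟨⟨fun h => hne (σ.injective h), ?_⟩, ?_⟩
  · rw [decide_eq_decide]
    exact h2 ⟨j, hj8⟩ k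
  · by_cases hm : ((m0f k : Fin 8) : ℕ) = j
    · right
      have : m0f k = ⟨j, hj8⟩ := Fin.ext hm
      rw [← this, h1, m0f_invol]
    · left
      exact hm

theorem pow_eight (σ : Equiv.Perm (Fin 8)) (hσ : σ ∈ P0) : σ ^ 8 = 1 := by
  have h := bruteP (σ 0) (okP_of σ hσ 0 [] rfl (by intro j hj hjk; simp at hjk))
    (σ 1) (okP_of σ hσ 1 [σ 0] rfl (by
      intro j hj hjk
      have : j < 1 := hjk
      interval_cases j <;> rfl))
    (σ 2) (okP_of σ hσ 2 [σ 0, σ 1] rfl (by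
      intro j hj hjk
      have : j < 2 := hjk
      interval_cases j <;> rfl))
    (σ 3) (okP_of σ hσ 3 [σ 0, σ 1, σ 2] rfl (by
      intro j hj hjk
      have : j < 3 := hjk
      interval_cases j <;> rfl))
    (σ 4) (okP_of σ hσ 4 [σ 0, σ 1, σ 2, σ 3] rfl (by
      intro j hj hjk
      have : j < 4 := hjk
      interval_cases j <;> rfl))
    (σ 5) (okP_of σ hσ 5 [σ 0, σ 1, σ 2, σ 3, σ 4] rfl (by
      intro j hj hjk
      have : j < 5 := hjk
      interval_cases j <;> rfl))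
    (σ 6) (okP_of σ hσ 6 [σ 0, σ 1, σ 2, σ 3, σ 4, σ 5] rfl (by
      intro j hj hjk
      have : j < 6 := hjk
      interval_cases j <;> rfl))
    (σ 7) (okP_of σ hσ 7 [σ 0, σ 1, σ 2, σ 3, σ 4, σ 5, σ 6] rfl (by
      intro j hj hjk
      have : j < 7 := hjk
      interval_cases j <;> rfl))
  rw [vec_eta] at h
  ext i
  have := h i
  simp only [pow_succ, pow_zero, one_mul, Equiv.Perm.mul_apply, Equiv.Perm.one_apply]
  rw [this]

theorem isPGroup_P0 : IsPGroup 2 P0 := by
  intro g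
  refine ⟨3, ?_⟩
  apply Subtype.ext
  rw [Subgroup.coe_pow]
  exact pow_eight g.1 g.2

/-! ### Elements of the tree group -/

theorem swap_mem : ∀ i : Fin 8, Equiv.swap i (m0f i) ∈ P0 := by
  intro i
  rw [mem_P0]
  revert i
  decide

/-- Lemma A: an involution commuting with `m0f` which moves every pair lies in the tree group. -/
theorem lemmaA (g : Equiv.Perm (Fin 8)) (hinv : ∀ i, g (g i) = i) (hcomm : ∀ i, g (m0f i) = m0f (g i))
    (hmove : ∀ i, g i ≠ i ∧ g i ≠ m0f i) : g ∈ P0 := by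
  rw [mem_P0]
  exact ⟨hcomm, (fin_of g hinv (fun i => (hmove i).1) (fun i => (hmove i).2)).2 hcomm⟩

/-- the matching as a permutation -/
def m0 : Equiv.Perm (Fin 8) := ⟨m0f, m0f, m0f_invol, m0f_invol⟩

theorem m0_apply (i : Fin 8) : m0 i = m0f i := rfl

/-- Main lemma: the tree group meets each of its conjugates non-trivially. -/
theorem main (y : Equiv.Perm (Fin 8)) : ∃ g : Equiv.Perm (Fin 8), g ≠ 1 ∧ g ∈ P0 ∧ y⁻¹ * g * y ∈ P0 := by
  set m1 : Equiv.Perm (Fin 8) := y * m0 * y⁻¹ with hm1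
  have hm1y : ∀ i, m1 (y i) = y (m0f i) := by
    intro i
    simp [hm1, Equiv.Perm.mul_apply, m0_apply]
  have hinv1 : ∀ i, m1 (m1 i) = i := by
    intro i
    obtain ⟨j, rfl⟩ := y.surjective i
    rw [hm1y, hm1y, m0f_invol]
  have hfpf1 : ∀ i, m1 i ≠ i := by
    intro i
    obtain ⟨j, rfl⟩ := y.surjective i
    rw [hm1y]
    intro h
    exact m0f_ne j (y.injective h)
  by_cases hshared : ∃ i, m1 i = m0f i
  · obtain ⟨i, hi⟩ := hshared
    refine ⟨Equiv.swap i (m0f i), ?_, swap_mem i, ?_⟩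
    · intro h
      have := congrArg (fun σ : Equiv.Perm (Fin 8) => σ i) h
      simp only [Equiv.swap_apply_left, Equiv.Perm.one_apply] at this
      exact m0f_ne i this
    · have e : y⁻¹ * Equiv.swap i (m0f i) * y = Equiv.swap (y⁻¹ i) (m0f (y⁻¹ i)) := by
        have h1 : y⁻¹ (m0f i) = m0f (y⁻¹ i) := by
          apply y.injective
          rw [← hm1y, app_inv, app_inv, hi]
        rw [← h1]
        ext k
        simp only [Equiv.Perm.mul_apply]
        congr 1
        have := Equiv.swap_apply_apply (y⁻¹ : Equiv.Perm (Fin 8)) i (m0f i)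
        rw [this]
        simp only [Equiv.Perm.coe_inv]
        rfl
      rw [e]
      exact swap_mem _
  · push Not at hshared
    obtain ⟨hg, _⟩ := fin_of m1 hinv1 hfpf1 hshared
    -- a good function `gf`
    obtain ⟨gf, hgf⟩ : ∃ gf : Fin 8 → Fin 8, good (⇑m1) gf := by
      rcases hg with h | h
      · exact ⟨_, h⟩
      · exact ⟨_, h⟩
    obtain ⟨g1, g2, g3, g4⟩ := hgf
    set g : Equiv.Perm (Fin 8) := ⟨gf, gf, g1, g1⟩ with hgdef
    have hgapp : ∀ i, g i = gf i := fun i => rfl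
    refine ⟨g, ?_, ?_, ?_⟩
    · intro h
      have := congrArg (fun σ : Equiv.Perm (Fin 8) => σ 0) h
      simp only [Equiv.Perm.one_apply, hgapp] at this
      exact (g4 0).1 this
    · exact lemmaA g g1 g2 (fun i => ⟨(g4 i).1, (g4 i).2.1⟩)
    · apply lemmaA
      · intro i
        simp only [Equiv.Perm.mul_apply, hgapp]
        rw [app_inv, g1, inv_app]
      · intro i
        simp only [Equiv.Perm.mul_apply, hgapp]
        apply y.injective
        rw [app_inv, ← hm1y i, ← hm1y (y⁻¹ (gf (y i))), app_inv, g3]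
      · intro i
        simp only [Equiv.Perm.mul_apply, hgapp]
        constructor
        · intro h
          apply (g4 (y i)).1
          rw [← app_inv y (gf (y i)), h]
        · intro h
          apply (g4 (y i)).2.2
          rw [hm1y, ← h, app_inv]

theorem result (H : Sylow 2 (Equiv.Perm (Fin 8))) (x : Equiv.Perm (Fin 8)) :
    (H : Subgroup (Equiv.Perm (Fin 8))) ⊓ (H : Subgroup (Equiv.Perm (Fin 8))).map (MulAut.conj x).toMonoidHom ≠ ⊥ := by
  classical
  obtain ⟨S, hS⟩ := isPGroup_P0.exists_le_sylow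
  obtain ⟨c, hc⟩ := MulAction.exists_smul_eq (Equiv.Perm (Fin 8)) S H
  -- `c P0 c⁻¹ ≤ H`
  have hcP : ∀ g ∈ P0, c * g * c⁻¹ ∈ (H : Subgroup (Equiv.Perm (Fin 8))) := by
    intro g hg
    rw [← hc, Sylow.coe_subgroup_smul]
    have h := Subgroup.smul_mem_pointwise_smul _ (MulAut.conj c) _ (hS hg)
    rw [MulAut.smul_def, MulAut.conj_apply] at h
    exact h
  obtain ⟨g, hg1, hgP, hgQ⟩ := main (c⁻¹ * x * c)
  intro hbot
  have hmem : c * g * c⁻¹ ∈ (H : Subgroup (Equiv.Perm (Fin 8))) ⊓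
      (H : Subgroup (Equiv.Perm (Fin 8))).map (MulAut.conj x).toMonoidHom := by
    refine ⟨hcP g hgP, ?_⟩
    refine ⟨c * ((c⁻¹ * x * c)⁻¹ * g * (c⁻¹ * x * c)) * c⁻¹, hcP _ hgQ, ?_⟩
    simp only [MulEquiv.coe_toMonoidHom, MulAut.conj_apply]
    group
  rw [hbot, Subgroup.mem_bot] at hmem
  apply hg1
  have : g = c⁻¹ * (c * g * c⁻¹) * c := by group
  rw [this, hmem]
  group

end Cfsg.Agent.S5763
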