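import Cfsg.Statements.S5886
import Cfsg.Agent.Helper9.S5886BRIDGE
import Cfsg.Agent.Helper2.S5886.Abs

set_option autoImplicit false
open Cfsg

namespace Cfsg.Agent.S5886

open Cfsg.Agent.S5886P

/-- Let F be a finite field, n a positive integer and r a prime that divides n with r < n. Let K be a subalgebra of the algebra of n × n matrices over F which is a field of degree r over F (commutative, every non-zero element invertible, of dimension r over F; it contains the scalars). Then the normaliser N of K in GL_n(F) — the invertible F-linear maps that are semilinear over the field K, a group of type ΓL_{n/r}(F_{q^r}) for |F| = q — is a maximal subgroup of GL_n(F), and N ∩ SL_n(F) is a maximal subgroup of SL_n(F). No lower bound on n is assumed. -/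
theorem result {F : Type*} [Field F]
    [Fintype F] (n r : ℕ) (hr : r.Prime) (hrn : r ∣ n) (hlt : r < n) (K : Subalgebra F (Matrix (Fin n) (Fin n) F))
    (hK : Cfsg.Geo.IsFieldSubalgebra r K) :
    IsCoatom (Cfsg.Geo.subalgebraNormalizer K) ∧
      Cfsg.Geo.IsMaximalIn (Cfsg.Geo.specialLinear (Fin n) F)
        (Cfsg.Geo.subalgebraNormalizer K ⊓ Cfsg.Geo.specialLinear (Fin n) F) := by
  obtain ⟨K', _, _, _, _, _, hrK, hm, e, he1, he2⟩ := BRIDGE n r hr hrn hlt K hK
  have hr' : (Module.finrank F K').Prime := hrK ▸ hr
  have hco := abs_coatom (F := F) (K := K') (V := Fin n → F) hm hr'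
  obtain ⟨hlt', hmax⟩ := abs_max (F := F) (K := K') (V := Fin n → F) hm hr'
  have hinj : Function.Injective e.toMonoidHom := e.injective
  have hsurj : Function.Surjective e.toMonoidHom := e.surjective
  constructor
  · -- coatom
    rw [← he1] at hco
    constructor
    · intro htop
      apply hco.1
      rw [htop, ← MonoidHom.range_eq_map, MonoidHom.range_eq_top]
      exact hsurj
    · intro M hM
      have h1 : (Cfsg.Geo.subalgebraNormalizer K).map e.toMonoidHom < M.map e.toMonoidHom :=
        (Subgroup.map_lt_map_iff_of_injective hinj).mpr hM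
      have h2 := hco.2 _ h1
      have h3 : M.map e.toMonoidHom = (⊤ : Subgroup _).map e.toMonoidHom := by
        rw [h2, ← MonoidHom.range_eq_map, MonoidHom.range_eq_top.mpr hsurj]
      exact Subgroup.map_injective hinj h3
  · -- maximal in SL
    have hinf : (Cfsg.Geo.subalgebraNormalizer K ⊓ Cfsg.Geo.specialLinear (Fin n) F).map e.toMonoidHom
        = Nrm F K' (Fin n → F) ⊓ DetIn (⊥ : Subgroup Fˣ) := by
      rw [Subgroup.map_inf _ _ _ hinj, he1, he2]
    constructor
    · rw [← hinf, ← he2] at hlt'
      exact (Subgroup.map_lt_map_iff_of_injective hinj).mp hlt'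
    · intro M h1 h2
      have h1' : Nrm F K' (Fin n → F) ⊓ DetIn (⊥ : Subgroup Fˣ) ≤ M.map e.toMonoidHom := by
        rw [← hinf]; exact Subgroup.map_mono h1
      have h2' : M.map e.toMonoidHom ≤ DetIn (⊥ : Subgroup Fˣ) := by
        rw [← he2]; exact Subgroup.map_mono h2
      rcases hmax _ h1' h2' with h | h
      · left
        rw [← hinf] at h
        exact Subgroup.map_injective hinj h
      · right
        rw [← he2] at h
        exact Subgroup.map_injective hinj h

end Cfsg.Agent.S5886
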