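import Cfsg.Statements.S5837
import Cfsg.Agent.Helper28.SLMax
import Cfsg.Agent.Helper19.Mono.Asm
import Cfsg.Agent.Helper18.S5837BLOCK
import Cfsg.Agent.Helper18.S5837OSIM
import Cfsg.Agent.S5886
import Cfsg.Agent.Helper24.S5637.Asm
import Cfsg.Agent.Helper1.S5639Final
import Cfsg.Agent.Helper28.SimMax
import Cfsg.Agent.Helper28.HermStd

set_option autoImplicit false
open Cfsg

namespace Cfsg.Agent.S5837

/-- Maximal subgroups of SL_10(q) of geometric type, for a finite field F with q elements (any q); p denotes the characteristic. Each of the following subgroups of GL_10(F), intersected with SL_10(F), is a maximal subgroup of SL_10(F): (1) the stabiliser of any proper non-zero subspace of F^10; (2) for q ≥ 5, the stabiliser of any decomposition of F^10 into 10 independent 1-spaces; (3) for q ≥ 3, the stabiliser of any decomposition of F^10 into 5 independent 2-spaces; (4) the stabiliser of any decomposition of F^10 into 2 independent 5-spaces; (5) the normaliser of any degree-5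 subfield of the 10 × 10 matrix algebra over F (a commutative subalgebra of dimension 5 in which every non-zero element is invertible); (6) the normaliser of any degree-2 subfield of the 10 × 10 matrix algebra over F (a commutative subalgebra of dimension 2 in which every non-zero element is invertible); (7) for q ≥ 3, the stabiliser of any tensor decomposition F^10 = F^2 ⊗ F^5 (a conjugate of the Kronecker-product subgroup); (8) every subfield group (a conjugate of GL_10(F₀) times the scalars of F) for a subfield F₀ with |F| = |F₀|^r, r prime; (9) for q odd, the group of similarities of any non-degenerate quadratic form on F^10 (either sign); (10) the group of similarities of any non-degenerate symplectic form on F^10; (11) the group of similarities of any non-degenerate unitary form on F^10 (these exist exactly when q is a square). -/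
theorem result {F : Type*} [Field F] [Fintype F] :
    (∀ W : Submodule F (Fin 10 → F), W ≠ ⊥ → W ≠ ⊤ → Cfsg.Geo.IsMaximalIn (Cfsg.Geo.specialLinear (Fin 10) F) (Cfsg.Geo.subspaceStabilizer W ⊓ Cfsg.Geo.specialLinear (Fin 10) F)) ∧
    (5 ≤ Fintype.card F → ∀ D : Fin 10 → Submodule F (Fin 10 → F), Cfsg.Geo.IsMDecomposition 1 D → Cfsg.Geo.IsMaximalIn (Cfsg.Geo.specialLinear (Fin 10) F) (Cfsg.Geo.decompositionStabilizer D ⊓ Cfsg.Geo.specialLinear (Fin 10) F)) ∧
    (3 ≤ Fintype.card F → ∀ D : Fin 5 → Submodule F (Fin 10 → F), Cfsg.Geo.IsMDecomposition 2 D → Cfsg.Geo.IsMaximalIn (Cfsg.Geo.specialLinear (Fin 10) F) (Cfsg.Geo.decompositionStabilizer D ⊓ Cfsg.Geo.specialLinear (Fin 10) F)) ∧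
    (∀ D : Fin 2 → Submodule F (Fin 10 → F), Cfsg.Geo.IsMDecomposition 5 D → Cfsg.Geo.IsMaximalIn (Cfsg.Geo.specialLinear (Fin 10) F) (Cfsg.Geo.decompositionStabilizer D ⊓ Cfsg.Geo.specialLinear (Fin 10) F)) ∧
    (∀ K : Subalgebra F (Matrix (Fin 10) (Fin 10) F), Cfsg.Geo.IsFieldSubalgebra 5 K → Cfsg.Geo.IsMaximalIn (Cfsg.Geo.specialLinear (Fin 10) F) (Cfsg.Geo.subalgebraNormalizer K ⊓ Cfsg.Geo.specialLinear (Fin 10) F)) ∧
    (∀ K : Subalgebra F (Matrix (Fin 10) (Fin 10) F), Cfsg.Geo.IsFieldSubalgebra 2 K → Cfsg.Geo.IsMaximalIn (Cfsg.Geo.specialLinear (Fin 10) F) (Cfsg.Geo.subalgebraNormalizer K ⊓ Cfsg.Geo.specialLinear (Fin 10) F)) ∧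
    (3 ≤ Fintype.card F → ∀ (e : Fin 10 ≃ Fin 2 × Fin 5) (P : Matrix.GeneralLinearGroup (Fin 10) F), Cfsg.Geo.IsMaximalIn (Cfsg.Geo.specialLinear (Fin 10) F) (Cfsg.Geo.tensorProductSubgroup 2 5 e P ⊓ Cfsg.Geo.specialLinear (Fin 10) F)) ∧
    (∀ (F₀ : Subfield F) (r : ℕ) (P : Matrix.GeneralLinearGroup (Fin 10) F), r.Prime → Fintype.card F = Nat.card F₀ ^ r → Cfsg.Geo.IsMaximalIn (Cfsg.Geo.specialLinear (Fin 10) F) (Cfsg.Geo.subfieldSubgroup F₀ P ⊓ Cfsg.Geo.specialLinear (Fin 10) F)) ∧
    (Odd (Fintype.card F) → ∀ Q : (Fin 10 → F) → F, Cfsg.Geo.IsNondegenerateQuadraticForm Q → Cfsg.Geo.IsMaximalIn (Cfsg.Geo.specialLinear (Fin 10) F) (Cfsg.Geo.quadSimilarityGroup Q ⊓ Cfsg.Geo.specialLinear (Fin 10) F)) ∧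
    (∀ f : (Fin 10 → F) → (Fin 10 → F) → F, Cfsg.Geo.IsSymplecticForm f → Cfsg.Geo.IsMaximalIn (Cfsg.Geo.specialLinear (Fin 10) F) (Cfsg.Geo.similarityGroup f ⊓ Cfsg.Geo.specialLinear (Fin 10) F)) ∧
    (∀ (σ : F ≃+* F) (f : (Fin 10 → F) → (Fin 10 → F) → F), Cfsg.Geo.IsUnitaryForm σ f → Cfsg.Geo.IsMaximalIn (Cfsg.Geo.specialLinear (Fin 10) F) (Cfsg.Geo.similarityGroup f ⊓ Cfsg.Geo.specialLinear (Fin 10) F)) := by
  classical
  refine ⟨?_, ?_, ?_, ?_, ?_, ?_, ?_, ?_, ?_, ?_, ?_⟩
  · intro W hW0 hW1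
    exact Cfsg.Agent.Helper28.SLMax.stab_maximal (by omega) W hW0 hW1
  · intro hK D hD
    exact Cfsg.Agent.MonoP.Mono.maximal (by omega) hK D hD
  · intro hK D hD
    exact Cfsg.Agent.S5837P.BLOCK.maximal (by omega) (by omega) hD (fun h => by omega)
  · intro D hD
    exact Cfsg.Agent.S5837P.BLOCK.maximal (by omega) (by omega) hD (fun h => by omega)
  · intro K hK
    exact (Cfsg.Agent.S5886.result 10 5 (by norm_num) (by norm_num) (by norm_num) K hK).2
  · intro K hK
    exact (Cfsg.Agent.S5886.result 10 2 (by norm_num) (by norm_num) (by norm_num) K hK).2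
  · intro hK e P
    exact Cfsg.Agent.S5637P.FINAL e (by omega) (by omega) (fun h => by omega) P
  · intro F₀ r P hr hcard
    exact Cfsg.Agent.S5639P.FINAL.maximal (by omega) F₀ r hr hcard P
  · intro hodd Q hQ
    have h2 : (2 : F) ≠ 0 := by
      intro h
      obtain ⟨p, hp⟩ := CharP.exists F
      have hp2 : p = 2 := by
        have : ((2 : ℕ) : F) = 0 := by exact_mod_cast h
        have hdvd := (CharP.cast_eq_zero_iff F p 2).mp this
        have hprime := CharP.char_is_prime F p
        exact (Nat.prime_dvd_prime_iff_eq hprime Nat.prime_two).mp hdvd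
      subst hp2
      obtain ⟨k, hk⟩ := FiniteField.card F 2
      have hk' := hk.2
      rw [hk'] at hodd
      have hk0 : (k : ℕ) ≠ 0 := k.ne_zero
      exact (Nat.not_odd_iff_even.mpr (Nat.even_pow.mpr ⟨even_two, hk0⟩)) hodd
    exact Cfsg.Agent.S5837P.OSIM.osim_maximal (Q := Cfsg.Agent.Helper28.NM.ofFun Q hQ) h2
      (Cfsg.Agent.Helper28.NM.ofFun_nondeg Q hQ) (by omega)
  · intro f hf
    let B : LinearMap.BilinForm F (Fin 10 → F) :=
      LinearMap.mk₂ F f hf.bilinear.add_left hf.bilinear.smul_left hf.bilinear.add_right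
        hf.bilinear.smul_right
    have hA : ∀ v, B v v = 0 := hf.alternating
    have hN : ∀ v, (∀ x, B x v = 0) → v = 0 := by
      intro v hv
      by_contra hv0
      obtain ⟨⟨x, hx⟩, _⟩ := hf.nondegenerate v hv0
      exact hx (hv x)
    exact Cfsg.Agent.Helper28.SimMax.sim_maximal B hA hN (by omega)
  · intro σ f hf
    exact Cfsg.Agent.Helper28.HermStd.usim_maximal_gen (by omega) σ f hf

end Cfsg.Agent.S5837
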