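import Cfsg.Statements.S5877
import Cfsg.Agent.Helper29.EsnDefs
import Cfsg.Agent.Helper29.EsnCFG
import Cfsg.Agent.Helper29.EsnMain

set_option autoImplicit false
open Cfsg

namespace Cfsg.Agent.S5877

open Cfsg.Agent.S5877P Module

/-- Eigenspaces of elements normalising an absolutely irreducible extraspecial group. Let F be a finite field, r a prime, and R ≤ GL_n(F) an absolutely irreducible extraspecial r-group (an r-group whose centre equals its derived subgroup and has order r) of exponent r or 4. Let g ∈ GL_n(F) normalise the product of R with the scalar matrices, have prime order ϖ and not be scalar, and let W be the eigenspace of g for any c ∈ F (W may be the zero subspace). Then dim W ≤ 3n/4 if ϖ = 2, dim W ≤ 2n/3 if ϖ = 3, and dim W ≤ n/2 if ϖ > 3; moreover if ϖ = 3 and 3 does not divide n then dim W ≤ n/2. -/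
theorem result {F : Type*} [Field F] [Fintype F] {n r ϖ : ℕ} (R : Subgroup (Matrix.GeneralLinearGroup (Fin n) F)) (hr : r.Prime) (hR : IsPGroup r R) (hZ : Nat.card (Subgroup.center R) = r) (hext : commutator R = Subgroup.center R) (hexp : Monoid.exponent R = r ∨ Monoid.exponent R = 4) (hirr : Cfsg.Geo.ActsAbsolutelyIrreducibly (Cfsg.Geo.matrixSet R)) (g : Matrix.GeneralLinearGroup (Fin n) F) (hg : g ∈ Cfsg.Geo.subgroupNormalizer (R ⊔ Cfsg.Geo.scalars (Fin n) F)) (hϖ : ϖ.Prime) (hord : orderOf g = ϖ) (hns : g ∉ Cfsg.Geo.scalars (Fin n) F) (c : F) :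
    (ϖ = 2 → 4 * Module.finrank F (Module.End.eigenspace (Matrix.toLin' (g : Matrix (Fin n) (Fin n) F)) c) ≤ 3 * n) ∧
    (ϖ = 3 → 3 * Module.finrank F (Module.End.eigenspace (Matrix.toLin' (g : Matrix (Fin n) (Fin n) F)) c) ≤ 2 * n) ∧
    (3 < ϖ → 2 * Module.finrank F (Module.End.eigenspace (Matrix.toLin' (g : Matrix (Fin n) (Fin n) F)) c) ≤ n) ∧
    (ϖ = 3 → ¬ 3 ∣ n → 2 * Module.finrank F (Module.End.eigenspace (Matrix.toLin' (g : Matrix (Fin n) (Fin n) F)) c) ≤ n) := by
  show (ϖ = 2 → 4 * finrank F (Eig g c) ≤ 3 * n) ∧ (ϖ = 3 → 3 * finrank F (Eig g c) ≤ 2 * n) ∧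
    (3 < ϖ → 2 * finrank F (Eig g c) ≤ n) ∧ (ϖ = 3 → ¬ 3 ∣ n → 2 * finrank F (Eig g c) ≤ n)
  rcases Nat.eq_zero_or_pos n with hn0 | hn
  · have h0 : finrank F (Eig g c) = 0 := by
      have h1 := Submodule.finrank_le (Eig g c)
      rw [Module.finrank_fin_fun] at h1
      omega
    rw [h0]
    simp
  obtain ⟨ζ, hC⟩ := exists_cfg hn R hr hR hZ hext hirr
  have hgN : ∀ a, a ∈ (R ⊔ Zs n F) ↔ g * a * g⁻¹ ∈ (R ⊔ Zs n F) := by
    intro a
    exact Subgroup.mem_normalizer_iff.mp hg a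
  have hgϖ : g ^ ϖ = 1 := hord ▸ pow_orderOf_eq_one g
  have hr2 := hr.two_le
  obtain ⟨d, hd⟩ : ∃ d, d = finrank F (Eig g c) := ⟨_, rfl⟩
  rw [← hd]
  have hAB1 : 2 * r * d ≤ (r + 1) * n := by
    rw [hd]
    by_cases hall : ∀ a ∈ (R ⊔ Zs n F), tw g a ∈ Zs n F
    · have h1 := caseA hC g hns hall c
      nlinarith
    · push Not at hall
      obtain ⟨a, ha, hta⟩ := hall
      exact caseB1 hC g hgN a ha hta c
  have hB2 : ϖ ≠ r → ϖ ≠ 2 → 2 * d ≤ n := by
    intro h1 h2
    rw [hd]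
    exact caseB2 hC g hgN hns ϖ (hϖ.odd_of_ne_two h2) ((Nat.coprime_primes hϖ hr).mpr h1) hgϖ c
  refine ⟨?_, ?_, ?_, ?_⟩
  · intro _
    by_contra hcon
    push Not at hcon
    have h1 : r * (3 * n + 1) ≤ r * (4 * d) := Nat.mul_le_mul_left _ hcon
    have h2 : 2 * (n + 1) ≤ r * (n + 1) := Nat.mul_le_mul_right _ hr2
    nlinarith
  · intro h3
    by_cases hr3 : r = 3
    · rw [hr3] at hAB1
      omega
    · have := hB2 (by omega) (by omega)
      omega
  · intro h3
    by_cases hϖr : ϖ = r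
    · have hr5 : 5 ≤ r := by
        by_contra hlt
        push Not at hlt
        have h4 : r = 4 := by omega
        rw [h4] at hr
        norm_num at hr
      rw [hd]
      exact caseB3 hC g hgN hns hr5 (hϖr ▸ hgϖ) c
    · exact hB2 hϖr (by omega)
  · intro h3 hdiv
    have hr3 : r ≠ 3 := by
      intro h
      subst h
      exact hdiv (three_dvd_of_three hn R hR hZ hext hexp hirr)
    exact hB2 (by omega) (by omega)

end Cfsg.Agent.S5877
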