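import Cfsg.Statements.S5887
import Cfsg.Agent.Helper21.FS4

set_option autoImplicit false
open Cfsg

namespace Cfsg.Agent.S5887

/-- Let F be a finite field, n a positive integer and r a composite number (r > 1, not prime) that divides n with r < n. Let K be a subalgebra of the algebra of n × n matrices over F which is a field of degree r over F (commutative, every non-zero element invertible, of dimension r over F). Then the normaliser N of K in GL_n(F) (a group of type ΓL_{n/r}(F_{q^r})) is not a maximal subgroup of GL_n(F), and N ∩ SL_n(F) is not a maximal subgroup of SL_n(F): both lie properly inside the normaliser of an intermediate subfield of prime degree over F. -/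
theorem result {F : Type*} [Field F]
    [Fintype F] (n r : ℕ) (hr1 : 1 < r) (hrp : ¬ r.Prime) (hrn : r ∣ n) (hlt : r < n)
    (K : Subalgebra F (Matrix (Fin n) (Fin n) F)) (hK : Cfsg.Geo.IsFieldSubalgebra r K) :
    ¬ IsCoatom (Cfsg.Geo.subalgebraNormalizer K) ∧
      ¬ Cfsg.Geo.IsMaximalIn (Cfsg.Geo.specialLinear (Fin n) F)
        (Cfsg.Geo.subalgebraNormalizer K ⊓ Cfsg.Geo.specialLinear (Fin n) F) := by
  classical
  have hn : 0 < n := by omega
  have : Nonempty (Fin n) := ⟨⟨0, hn⟩⟩
  obtain ⟨a, har, ha2, halt⟩ := Nat.exists_dvd_of_not_prime2 hr1 hrp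
  have hcard : r < Fintype.card (Fin n) := by rw [Fintype.card_fin]; exact hlt
  set K0 := Cfsg.Agent.Helper21.FS.fixedSub K hK.comm a with hK0def
  have hK0 := Cfsg.Agent.Helper21.FS.fixedSub_isField hK a
  have hle : K0 ≤ K := Cfsg.Agent.Helper21.FS.fixedSub_le K hK.comm a
  have hs : Module.finrank F K0 < Fintype.card (Fin n) := by
    have h1 : Module.finrank F K0 ≤ Module.finrank F K := by
      rw [← Subalgebra.finrank_toSubmodule, ← Subalgebra.finrank_toSubmodule]
      exact Submodule.finrank_mono (Subalgebra.toSubmodule.monotone hle)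
    rw [hK.finrank_eq] at h1
    omega
  have hN : Cfsg.Geo.subalgebraNormalizer K ≤ Cfsg.Geo.subalgebraNormalizer K0 :=
    Cfsg.Agent.Helper21.FS.normalizer_le K hK.comm a
  obtain ⟨g1, hg1SL, hg1c, hg1N⟩ := Cfsg.Agent.Helper21.FS.exists_unipotent hK hcard a
    (Cfsg.Agent.Helper21.FS.exists_not_fixed hK (by omega) halt)
  obtain ⟨y, hyK, hya, hyq⟩ := Cfsg.Agent.Helper21.FS.exists_fixed_not_base hK ha2 har (by omega)
  obtain ⟨g2, hg2SL, -, hg2N⟩ := Cfsg.Agent.Helper21.FS.exists_unipotent hK0 hs 1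
    ⟨y, ⟨hyK, hya⟩, by rw [pow_one]; exact hyq⟩
  have hinv1 : ((g1⁻¹ : GL (Fin n) F) : Matrix (Fin n) (Fin n) F) * (g1 : Matrix (Fin n) (Fin n) F) = 1 := by
    rw [← Units.val_mul, inv_mul_cancel, Units.val_one]
  have hinv2 : (g1 : Matrix (Fin n) (Fin n) F) * ((g1⁻¹ : GL (Fin n) F) : Matrix (Fin n) (Fin n) F) = 1 := by
    rw [← Units.val_mul, mul_inv_cancel, Units.val_one]
  have hg1N0 : g1 ∈ Cfsg.Geo.subalgebraNormalizer K0 := by
    intro k
    constructor
    · intro hk
      rw [hg1c k hk.1 hk.2, mul_assoc, hinv2, mul_one]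
      exact hk
    · intro hk
      have h1 := hg1c _ hk.1 hk.2
      have e1 : ((g1⁻¹ : GL (Fin n) F) : Matrix (Fin n) (Fin n) F) *
          ((g1 : Matrix (Fin n) (Fin n) F) * k *
            ((g1⁻¹ : GL (Fin n) F) : Matrix (Fin n) (Fin n) F)) * (g1 : Matrix (Fin n) (Fin n) F) = k := by
        calc ((g1⁻¹ : GL (Fin n) F) : Matrix (Fin n) (Fin n) F) *
          ((g1 : Matrix (Fin n) (Fin n) F) * k *
            ((g1⁻¹ : GL (Fin n) F) : Matrix (Fin n) (Fin n) F)) * (g1 : Matrix (Fin n) (Fin n) F)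
            = (((g1⁻¹ : GL (Fin n) F) : Matrix (Fin n) (Fin n) F) * (g1 : Matrix (Fin n) (Fin n) F)) * k *
              (((g1⁻¹ : GL (Fin n) F) : Matrix (Fin n) (Fin n) F) * (g1 : Matrix (Fin n) (Fin n) F)) := by
              simp only [mul_assoc]
          _ = k := by rw [hinv1, one_mul, mul_one]
      have e2 : ((g1⁻¹ : GL (Fin n) F) : Matrix (Fin n) (Fin n) F) *
          ((g1 : Matrix (Fin n) (Fin n) F) * k *
            ((g1⁻¹ : GL (Fin n) F) : Matrix (Fin n) (Fin n) F)) * (g1 : Matrix (Fin n) (Fin n) F) =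
          (g1 : Matrix (Fin n) (Fin n) F) * k *
            ((g1⁻¹ : GL (Fin n) F) : Matrix (Fin n) (Fin n) F) := by
        rw [mul_assoc, ← h1, ← mul_assoc, hinv1, one_mul]
      have h2 : k = (g1 : Matrix (Fin n) (Fin n) F) * k *
          ((g1⁻¹ : GL (Fin n) F) : Matrix (Fin n) (Fin n) F) := e1.symm.trans e2
      rw [h2]
      exact hk
  constructor
  · intro hco
    have hlt' : Cfsg.Geo.subalgebraNormalizer K < Cfsg.Geo.subalgebraNormalizer K0 :=
      lt_of_le_of_ne hN (fun h => hg1N (h ▸ hg1N0))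
    have htop := hco.2 _ hlt'
    apply hg2N
    rw [htop]
    exact Subgroup.mem_top _
  · rintro ⟨-, hmax⟩
    rcases hmax (Cfsg.Geo.subalgebraNormalizer K0 ⊓ Cfsg.Geo.specialLinear (Fin n) F)
      (inf_le_inf_right _ hN) inf_le_right with h | h
    · have : g1 ∈ Cfsg.Geo.subalgebraNormalizer K0 ⊓ Cfsg.Geo.specialLinear (Fin n) F :=
        ⟨hg1N0, hg1SL⟩
      rw [h] at this
      exact hg1N this.1
    · have : g2 ∈ Cfsg.Geo.subalgebraNormalizer K0 ⊓ Cfsg.Geo.specialLinear (Fin n) F := by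
        rw [h]; exact hg2SL
      exact hg2N this.1

end Cfsg.Agent.S5887
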