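import Cfsg.Statements.S5890
import Cfsg.Agent.Helper18.PGL2o

set_option autoImplicit false
open Cfsg

namespace Cfsg.Agent.S5890

/-- Let F be a finite field with q ≥ 4 elements, let L ≤ PGL₂(F) be the image of SL₂(F) (a copy of PSL₂(F), of index gcd(2, q − 1)), and let M be a maximal subgroup of PGL₂(F) that does not contain L. Suppose q ∉ {7, 9, 11} and that q is not a prime congruent to ±11 or ±19 modulo 40. Then M ∩ L is a maximal subgroup of L. (For the excluded q there are maximal subgroups of PGL₂(q) — dihedral groups of order 12 and 16 at q = 7, of order 20 and 16 at q = 9, of order 20 at q = 11, and S₄ at the excluded primes — whose intersection with L is not maximal in L.) -/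
theorem result {F : Type*} [Field F]
    [Fintype F] (h4 : 4 ≤ Fintype.card F) (h7 : Fintype.card F ≠ 7) (h9 : Fintype.card F ≠ 9) (h11 : Fintype.card F ≠ 11)
    (h40 : (Fintype.card F).Prime → Fintype.card F % 40 ∉ ({11, 19, 21, 29} : Finset ℕ))
    (M : Subgroup (Matrix.ProjGenLinGroup (Fin 2) F)) (hM : IsCoatom M)
    (hML : ¬ (Matrix.ProjGenLinGroup.mk.comp Matrix.SpecialLinearGroup.toGL).range ≤ M) :
    IsCoatom ((M ⊓ (Matrix.ProjGenLinGroup.mk.comp Matrix.SpecialLinearGroup.toGL).range).subgroupOf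
      (Matrix.ProjGenLinGroup.mk.comp Matrix.SpecialLinearGroup.toGL).range) := by
  classical
  open Cfsg.Agent.Helper18.PGL2 in
  change IsCoatom ((M ⊓ LL F).subgroupOf (LL F))
  have hLM : ¬ LL F ≤ M := hML
  obtain ⟨p, hchar⟩ := CharP.exists F
  have hpp : p.Prime := CharP.char_is_prime F p
  have : Fact p.Prime := ⟨hpp⟩
  by_cases hp : p = 2
  · subst hp
    exact coatom_of_top LL_eq_top_of_char_two hM
  · obtain ⟨m, hm⟩ := Cfsg.Agent.Helper18.Dickson.odd_card_of_char (F := F) p hp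
    have h5 : 5 ≤ Fintype.card F := by omega
    have h2 : (2 : F) ≠ 0 := Cfsg.Agent.Helper18.Dickson.two_ne_zero_of_char (E := F) p hp
    by_cases hpM : p ∣ Nat.card M
    · exact coatom_of_preSL (pdiv_coatom p hp hM hLM hpM)
    · apply coatom_of_prePSL
      rcases iso_types p hp M hpM with ⟨k, hcyc | ⟨⟨e⟩⟩⟩ | ⟨⟨e⟩⟩ | ⟨⟨e⟩⟩ | ⟨⟨e⟩⟩
      · exfalso
        apply not_abelian_pgl h2 h5 hM hLM
        intro a ha b hb
        obtain ⟨g, hg⟩ := hcyc.exists_generator
        obtain ⟨i, hi⟩ := hg ⟨a, ha⟩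
        obtain ⟨j, hj⟩ := hg ⟨b, hb⟩
        have : (⟨a, ha⟩ : M) * ⟨b, hb⟩ = ⟨b, hb⟩ * ⟨a, ha⟩ := by
          rw [← hi, ← hj]
          exact (Commute.zpow_zpow_self g i j).eq
        exact congrArg Subtype.val this
      · exact dihedral_coatom p hp h5 h7 h9 h11 hM hLM hpM k e
      · exact absurd ⟨e⟩ (not_A4_A5 h2 hM hLM).1
      · exact S4_coatom p hp h5 h40 hM hLM hpM e
      · exact absurd ⟨e⟩ (not_A4_A5 h2 hM hLM).2

end Cfsg.Agent.S5890
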