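import Cfsg.Statements.S5891
import Cfsg.Agent.Helper18.PGL2l

set_option autoImplicit false
open Cfsg

namespace Cfsg.Agent.S5891

/-- Let F be a finite field of odd order q > 3 and characteristic p, and let M be a maximal subgroup of PGL₂(F) not containing the image L of SL₂(F) (a copy of PSL₂(F) of index 2). Then one of the following holds: |M| = q(q − 1) (M is the stabiliser of a point of the projective line); q ≠ 5 and M is dihedral of order 2(q − 1); M is dihedral of order 2(q + 1); q = p ≡ ±3 (mod 8) and M ≅ S₄; or q = q₀^r for an odd prime r and M ≅ PGL₂(F₀) with |F₀| = q₀. -/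
theorem result {F : Type*} [Field F] [Fintype F]
    (hodd : Odd (Fintype.card F)) (h3 : 3 < Fintype.card F) (M : Subgroup (Matrix.ProjGenLinGroup (Fin 2) F)) (hM : IsCoatom M)
    (hML : ¬ (Matrix.ProjGenLinGroup.mk.comp Matrix.SpecialLinearGroup.toGL).range ≤ M) :
    Nat.card M = Fintype.card F * (Fintype.card F - 1) ∨
    (Fintype.card F ≠ 5 ∧ Nonempty (M ≃* DihedralGroup (Fintype.card F - 1))) ∨
    Nonempty (M ≃* DihedralGroup (Fintype.card F + 1)) ∨
    ((Fintype.card F).Prime ∧ (Fintype.card F % 8 = 3 ∨ Fintype.card F % 8 = 5) ∧ Nonempty (M ≃* Equiv.Perm (Fin 4))) ∨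
    (∃ (F₀ : Type) (_ : Field F₀) (_ : Fintype F₀) (r : ℕ), r.Prime ∧ Odd r ∧ Fintype.card F = Fintype.card F₀ ^ r ∧
        Nonempty (M ≃* Matrix.ProjGenLinGroup (Fin 2) F₀)) := by
  classical
  open Cfsg.Agent.Helper18.PGL2 in
  obtain ⟨p, hchar⟩ := CharP.exists F
  have hpp : p.Prime := CharP.char_is_prime F p
  have : Fact p.Prime := ⟨hpp⟩
  have hp : p ≠ 2 := by
    rintro rfl
    obtain ⟨n, -, hn⟩ := FiniteField.card F 2
    rw [hn] at hodd
    have : Even (2 ^ (n : ℕ)) := (Nat.even_pow' n.ne_zero).2 even_two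
    exact (Nat.not_even_iff_odd.2 hodd) this
  have h2 : (2 : F) ≠ 0 := Cfsg.Agent.Helper18.Dickson.two_ne_zero_of_char (E := F) p hp
  have h5 : 5 ≤ Fintype.card F := by
    obtain ⟨m, hm⟩ := hodd
    omega
  have hLM : ¬ LL F ≤ M := hML
  by_cases hpM : p ∣ Nat.card M
  · rcases pdiv_concl p hp hM hLM hpM with h | h
    · left; exact h
    · right; right; right; right; exact h
  · rcases iso_types p hp M hpM with ⟨k, hcyc | ⟨⟨e⟩⟩⟩ | ⟨⟨e⟩⟩ | ⟨⟨e⟩⟩ | ⟨⟨e⟩⟩
    · exfalso
      apply not_abelian_pgl h2 h5 hM hLM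
      intro a ha b hb
      obtain ⟨g, hg⟩ := hcyc.exists_generator
      obtain ⟨i, hi⟩ := hg ⟨a, ha⟩
      obtain ⟨j, hj⟩ := hg ⟨b, hb⟩
      have : (⟨a, ha⟩ : M) * ⟨b, hb⟩ = ⟨b, hb⟩ * ⟨a, ha⟩ := by
        rw [← hi, ← hj]
        exact (Commute.zpow_zpow_self g i j).eq
      exact congrArg Subtype.val this
    · rcases dihedral_concl p hp h5 hM hLM hpM k e with ⟨hq5, hk⟩ | hk
      · right; left
        subst hk
        exact ⟨hq5, ⟨e⟩⟩
      · right; right; left
        subst hk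
        exact ⟨e⟩
    · exact absurd ⟨e⟩ (not_A4_A5 h2 hM hLM).1
    · right; right; right; left
      have hq := S4_card_eq p hp h5 hM hLM hpM e
      refine ⟨?_, S4_mod_eight h2 h5 hodd hM hLM e, ⟨e⟩⟩
      rw [hq]; exact hpp
    · exact absurd ⟨e⟩ (not_A4_A5 h2 hM hLM).2

end Cfsg.Agent.S5891
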