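import Cfsg.Statements.S5893
-- import your own Cfsg.Agent.* helpers here
import Cfsg.Agent.Helper11.L2EG

set_option autoImplicit false
open Cfsg

namespace Cfsg.Agent.S5893

/-- Let F be a finite field of even order q ≥ 4 and let M be a maximal subgroup of PSL₂(F) (= SL₂(F) = PGL₂(F)). Then one of the following holds: |M| = q(q − 1) (the stabiliser of a point of the projective line, elementary abelian of order q extended by a cyclic group of order q − 1); M is dihedral of order 2(q − 1); M is dihedral of order 2(q + 1); or q = q₀^r for a prime r with q₀ ≠ 2 and M ≅ PSL₂(F₀) with |F₀| = q₀. -/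
theorem result {F : Type*} [Field F] [Fintype F]
    (heven : Even (Fintype.card F)) (h4 : 4 ≤ Fintype.card F) (M : Subgroup (Matrix.ProjectiveSpecialLinearGroup (Fin 2) F)) (hM : IsCoatom M) :
    Nat.card M = Fintype.card F * (Fintype.card F - 1) ∨
    Nonempty (M ≃* DihedralGroup (Fintype.card F - 1)) ∨
    Nonempty (M ≃* DihedralGroup (Fintype.card F + 1)) ∨
    (∃ (F₀ : Type) (_ : Field F₀) (_ : Fintype F₀) (r : ℕ), r.Prime ∧ Fintype.card F₀ ≠ 2 ∧
        Fintype.card F = Fintype.card F₀ ^ r ∧ Nonempty (M ≃* Matrix.ProjectiveSpecialLinearGroup (Fin 2) F₀)) := by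
  classical
  open Cfsg.Agent.Helper11.L2E Cfsg.Agent.Helper11.SCTI Cfsg.Agent.Helper11.FinSub in
  have hchar : CharP F 2 := charP_two_of_even heven
  let e := slEquivPSL F
  set M' : Subgroup (Matrix.SpecialLinearGroup (Fin 2) F) := M.map e.symm.toMonoidHom with hM'
  have hM'co : IsCoatom M' := (e.symm.mapSubgroup.isCoatom_iff M).mpr hM
  have eM : M ≃* M' := e.symm.subgroupMap M
  rcases coatom_cases M' hM'co h4 with ⟨g, hg⟩ | ⟨T, hT, hN⟩ | ⟨g, K, hK, hKtop, hMK⟩
  · left
    rw [Nat.card_congr eM.toEquiv, hg, card_cj, card_Bsub]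
  · have hdih := hT.normalizer_dihedral
    rw [← hN] at hdih
    obtain ⟨d⟩ := hdih
    rcases hT.card with h | h
    · right; left
      rw [← h]
      exact ⟨eM.trans d⟩
    · right; right; left
      rw [← h]
      exact ⟨eM.trans d⟩
  · right; right; right
    rw [hMK] at hM'co
    obtain ⟨r, hr, hFr⟩ := prime_degree_of_isCoatom g K hM'co
    let _ : Fintype K := Fintype.ofFinite K
    have hcharK : CharP K 2 := by
      have hinj : Function.Injective (K.subtype : K →+* F) := Subtype.val_injective
      exact (RingHom.charP_iff K.subtype hinj 2).mpr inferInstance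
    have : Fact (Nat.Prime 2) := ⟨Nat.prime_two⟩
    obtain ⟨k, -, hk⟩ := FiniteField.card K 2
    have hk0 : (k : ℕ) ≠ 0 := k.ne_zero
    let instG : Fintype (GaloisField 2 k) := Fintype.ofFinite _
    have hG : Fintype.card (GaloisField 2 k) = 2 ^ (k : ℕ) := by
      rw [← Nat.card_eq_fintype_card]
      exact GaloisField.card 2 k hk0
    have hcardK : Nat.card K = Fintype.card (GaloisField 2 k) := by
      rw [hG, Nat.card_eq_fintype_card, hk]
    refine ⟨GaloisField 2 k, inferInstance, instG, r, hr, ?_, ?_, ?_⟩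
    · -- more than two elements
      obtain ⟨c, hc, hc0, hc1⟩ := hK
      intro h2
      rw [← hcardK, Nat.card_eq_fintype_card] at h2
      have hs : ({⟨0, K.zero_mem⟩, ⟨1, K.one_mem⟩, ⟨c, hc⟩} : Finset K).card = 3 := by
        rw [Finset.card_eq_three]
        refine ⟨_, _, _, ?_, ?_, ?_, rfl⟩
        · intro h
          exact zero_ne_one (congrArg Subtype.val h)
        · intro h
          exact hc0 (congrArg Subtype.val h).symm
        · intro h
          exact hc1 (congrArg Subtype.val h).symm
      have := Finset.card_le_univ ({⟨0, K.zero_mem⟩, ⟨1, K.one_mem⟩, ⟨c, hc⟩} : Finset K)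
      omega
    · rw [hFr, hcardK]
    · have eK : K ≃+* GaloisField 2 k :=
        FiniteField.ringEquivOfCardEq (by rw [← Nat.card_eq_fintype_card]; exact hcardK)
      obtain ⟨e1⟩ := nonempty_SL2K_equiv K
      have e0 : SL2K K ≃* (cj g (SL2K K) : Subgroup _) :=
        Subgroup.equivMapOfInjective _ _ (MulAut.conj g).injective
      have e2 := slCongr eK
      have e3 := slEquivPSL (GaloisField 2 k)
      exact ⟨eM.trans ((MulEquiv.subgroupCongr hMK).trans (e0.symm.trans (e1.trans (e2.trans e3))))⟩

end Cfsg.Agent.S5893
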