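import Cfsg.Statements.S5904
import Mathlib

set_option autoImplicit false
open Cfsg

namespace Cfsg.Agent.S5904

open scoped Pointwise

/-- A permutation exchanging `O` and its complement. -/
theorem exists_swapper {Ω : Type*} [Finite Ω] (O : Set Ω) (hO : Nat.card O = Nat.card ↥Oᶜ) :
    ∃ g : Equiv.Perm Ω, ∀ x, x ∈ O ↔ g x ∉ O := by
  classical
  obtain ⟨e⟩ := (Finite.card_eq (α := O) (β := ↥Oᶜ)).mp hO
  let f : Ω → Ω := fun x => if h : x ∈ O then (e ⟨x, h⟩ : Ω) else (e.symm ⟨x, h⟩ : Ω)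
  have hf1 : ∀ x, x ∈ O → f x ∉ O := by
    intro x hx
    simp only [f, dif_pos hx]
    exact (e ⟨x, hx⟩).2
  have hf2 : ∀ x, x ∉ O → f x ∈ O := by
    intro x hx
    simp only [f, dif_neg hx]
    exact (e.symm ⟨x, hx⟩).2
  have hinv : Function.Involutive f := by
    intro x
    by_cases hx : x ∈ O
    · have h1 := hf1 x hx
      have : f (f x) = (e.symm ⟨f x, h1⟩ : Ω) := by
        simp only [f]
        rw [dif_neg]
      rw [this]
      have h2 : (⟨f x, h1⟩ : ↥Oᶜ) = e ⟨x, hx⟩ := by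
        apply Subtype.ext
        simp only [f, dif_pos hx]
      rw [h2, Equiv.symm_apply_apply]
    · have h1 := hf2 x hx
      have : f (f x) = (e ⟨f x, h1⟩ : Ω) := by
        simp only [f]
        rw [dif_pos]
      rw [this]
      have h2 : (⟨f x, h1⟩ : O) = e.symm ⟨x, hx⟩ := by
        apply Subtype.ext
        simp only [f, dif_neg hx]
      rw [h2, Equiv.apply_symm_apply]
  refine ⟨hinv.toPerm f, fun x => ⟨fun hx => hf1 x hx, fun hx => ?_⟩⟩
  by_contra hxO
  exact hx (hf2 x hxO)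

theorem result {Ω : Type*} [Fintype Ω] [DecidableEq Ω] (hΩ : 2 < Fintype.card Ω)
    (O : Set Ω) (hO : Nat.card O = Nat.card ↥Oᶜ) :
    ¬ IsCoatom (MulAction.stabilizer (Equiv.Perm Ω) O) := by
  classical
  intro hco
  -- cardinalities
  have hsum : Nat.card O + Nat.card ↥Oᶜ = Fintype.card Ω := by
    rw [← Nat.card_eq_fintype_card]
    rw [Nat.card_coe_set_eq, Nat.card_coe_set_eq]
    exact Set.ncard_add_ncard_compl O
  have hO2 : 2 ≤ Nat.card O := by omega
  have hOc1 : 1 ≤ Nat.card ↥Oᶜ := by omega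
  -- pick elements
  have hOnt : O.Nontrivial := by
    rw [← Set.one_lt_ncard_iff_nontrivial, ← Nat.card_coe_set_eq]
    omega
  obtain ⟨a, ha, a', ha', haa'⟩ := hOnt
  have hOcne : (Oᶜ).Nonempty := by
    rw [← Set.ncard_pos, ← Nat.card_coe_set_eq]
    omega
  obtain ⟨b, hb⟩ := hOcne
  -- the intermediate subgroup
  let K : Subgroup (Equiv.Perm Ω) := MulAction.stabilizer (Equiv.Perm Ω) ({O, Oᶜ} : Set (Set Ω))
  have hKmem : ∀ g : Equiv.Perm Ω, g ∈ K ↔ (g • O = O ∨ g • O = Oᶜ) := by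
    intro g
    simp only [K, MulAction.mem_stabilizer_iff]
    constructor
    · intro h
      have : g • O ∈ g • ({O, Oᶜ} : Set (Set Ω)) := Set.smul_mem_smul_set (by simp)
      rw [h] at this
      simpa using this
    · rintro (h | h)
      · have hc : g • Oᶜ = Oᶜ := by rw [Set.smul_set_compl, h]
        rw [Set.smul_set_insert, Set.smul_set_singleton, h, hc]
      · have hc : g • Oᶜ = O := by rw [Set.smul_set_compl, h, compl_compl]
        rw [Set.smul_set_insert, Set.smul_set_singleton, h, hc, Set.pair_comm]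
  have hSK : MulAction.stabilizer (Equiv.Perm Ω) O ≤ K := by
    intro g hg
    rw [hKmem]
    left
    exact hg
  obtain ⟨g, hg⟩ := exists_swapper O hO
  have hgO : g • O = Oᶜ := by
    ext y
    rw [Set.mem_smul_set_iff_inv_smul_mem, Set.mem_compl_iff, hg]
    simp
  have hlt : MulAction.stabilizer (Equiv.Perm Ω) O < K := by
    refine lt_of_le_of_ne hSK ?_
    intro heq
    have hgK : g ∈ K := (hKmem g).mpr (Or.inr hgO)
    rw [← heq, MulAction.mem_stabilizer_iff, hgO] at hgK
    have : a ∈ Oᶜ := by rw [hgK]; exact ha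
    exact this ha
  have hKtop : K = ⊤ := hco.2 K hlt
  have hsw : Equiv.swap a b ∈ K := by rw [hKtop]; trivial
  rw [hKmem] at hsw
  have hab : a ≠ b := fun h => hb (h ▸ ha)
  have hbmem : b ∈ Equiv.swap a b • O := by
    rw [Set.mem_smul_set_iff_inv_smul_mem]
    simp [ha]
  have ha'mem : a' ∈ Equiv.swap a b • O := by
    rw [Set.mem_smul_set_iff_inv_smul_mem]
    have h1 : a' ≠ b := fun h => hb (h ▸ ha')
    simp [Equiv.swap_apply_of_ne_of_ne haa'.symm h1, ha']
  rcases hsw with h | h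
  · rw [h] at hbmem
    exact hb hbmem
  · rw [h] at ha'mem
    exact ha'mem ha'

end Cfsg.Agent.S5904
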