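import Cfsg.Statements.S5894
import Cfsg.Agent.S5904
import Mathlib

set_option autoImplicit false
open Cfsg

namespace Cfsg.Agent.S5894

open scoped Pointwise

/-- Transport of a coatom along an injective homomorphism, inside its range. -/
theorem isCoatom_map_subgroupOf_range {G G' : Type*} [Group G] [Group G'] (f : G →* G')
    (hf : Function.Injective f) (S : Subgroup G) (hS : IsCoatom S) :
    IsCoatom ((S.map f).subgroupOf f.range) := by
  let e : G ≃* f.range := MonoidHom.ofInjective hf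
  have h1 : (S.map f).subgroupOf f.range = (MulEquiv.mapSubgroup e) S := by
    ext ⟨y, hy⟩
    simp only [Subgroup.mem_subgroupOf, Subgroup.mem_map, MulEquiv.mapSubgroup_apply,
      MulEquiv.coe_toMonoidHom]
    constructor
    · rintro ⟨s, hs, hsy⟩
      exact ⟨s, hs, Subtype.ext hsy⟩
    · rintro ⟨s, hs, hsy⟩
      exact ⟨s, hs, congrArg Subtype.val hsy⟩
  rw [h1]
  exact (OrderIso.isCoatom_iff (MulEquiv.mapSubgroup e) S).mpr hS

theorem result (m : ℕ) (hm : 2 ≤ m) :
    ∃ M H K : Subgroup (Equiv.Perm (Fin (2 * m))), IsCoatom M ∧ M.index = 2 * m ∧ H ≤ M ∧ IsCoatom (H.subgroupOf M) ∧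
      IsCoatom K ∧ H ≤ K ∧ ¬ IsCoatom (H.subgroupOf K) := by
  classical
  have hpos : 0 < 2 * m := by omega
  let x0 : Fin (2 * m) := ⟨0, hpos⟩
  -- choose A of size m containing x0
  obtain ⟨A, hxA, -, hAcard⟩ := Finset.exists_subsuperset_card_eq (s := {x0}) (t := Finset.univ)
    (n := m) (Finset.subset_univ _) (by simp; omega) (by simp; omega)
  have hx0A : x0 ∈ A := hxA (Finset.mem_singleton_self x0)
  obtain ⟨a1, ha1A, ha1⟩ := Finset.exists_mem_ne (s := A) (by omega) x0
  have hAc : Aᶜ.card = m := by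
    rw [Finset.card_compl, hAcard, Fintype.card_fin]; omega
  obtain ⟨b, hb⟩ : ∃ b, b ∈ Aᶜ := Finset.card_pos.mp (by omega)
  have hbA : b ∉ A := Finset.mem_compl.mp hb
  have hbx0 : b ≠ x0 := fun h => hbA (h ▸ hx0A)
  -- the subtype and the embedding
  let ι : Equiv.Perm {x : Fin (2 * m) // x ≠ x0} →* Equiv.Perm (Fin (2 * m)) := Equiv.Perm.ofSubtype
  have hι : Function.Injective ι := Equiv.Perm.ofSubtype_injective
  have hrange : ι.range = MulAction.stabilizer (Equiv.Perm (Fin (2 * m))) x0 := by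
    ext g
    constructor
    · rintro ⟨f, rfl⟩
      rw [MulAction.mem_stabilizer_iff]
      exact Equiv.Perm.ofSubtype_apply_of_not_mem f (by simp)
    · intro hg
      rw [MulAction.mem_stabilizer_iff] at hg
      have hg' : g x0 = x0 := hg
      have h1 : ∀ x, g x ≠ x0 ↔ x ≠ x0 := by
        intro x
        rw [not_iff_not]
        constructor
        · intro h
          apply g.injective
          rw [h, hg']
        · intro h
          rw [h, hg']
      refine ⟨Equiv.Perm.subtypePerm g h1, ?_⟩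
      apply Equiv.Perm.ofSubtype_subtypePerm
      intro x hx h
      apply hx
      rw [h, hg']
  -- the set B' in the subtype
  let B' : Set {x : Fin (2 * m) // x ≠ x0} := {y | y.val ∈ A}
  have hB'ne : B'.Nonempty := ⟨⟨a1, ha1⟩, ha1A⟩
  have hB'cne : B'ᶜ.Nonempty := ⟨⟨b, hbx0⟩, hbA⟩
  have hcardΩ' : Nat.card {x : Fin (2 * m) // x ≠ x0} = 2 * m - 1 := by
    rw [Nat.card_eq_fintype_card, Fintype.card_subtype_compl, Fintype.card_fin]
    simp
  have hS' : IsCoatom (MulAction.stabilizer (Equiv.Perm {x : Fin (2 * m) // x ≠ x0}) B') := by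
    apply Equiv.Perm.isCoatom_stabilizer hB'ne hB'cne
    rw [hcardΩ']
    omega
  let H : Subgroup (Equiv.Perm (Fin (2 * m))) :=
    (MulAction.stabilizer (Equiv.Perm {x : Fin (2 * m) // x ≠ x0}) B').map ι
  let SA : Subgroup (Equiv.Perm (Fin (2 * m))) :=
    MulAction.stabilizer (Equiv.Perm (Fin (2 * m))) (A : Set (Fin (2 * m)))
  have hHM : H ≤ ι.range := by
    rintro _ ⟨f, -, rfl⟩
    exact ⟨f, rfl⟩
  have hHSA : H ≤ SA := by
    rintro _ ⟨f, hf, rfl⟩
    have hf' : f ∈ MulAction.stabilizer (Equiv.Perm {x : Fin (2 * m) // x ≠ x0}) B' := hf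
    rw [MulAction.mem_stabilizer_set] at hf'
    show ι f ∈ MulAction.stabilizer (Equiv.Perm (Fin (2 * m))) (A : Set (Fin (2 * m)))
    rw [MulAction.mem_stabilizer_set]
    intro x
    by_cases hx : x = x0
    · subst hx
      have : ι f x0 = x0 := Equiv.Perm.ofSubtype_apply_of_not_mem f (by simp)
      rw [Equiv.Perm.smul_def, this]
    · have : ι f x = f ⟨x, hx⟩ := Equiv.Perm.ofSubtype_apply_of_mem f hx
      rw [Equiv.Perm.smul_def, this]
      exact hf' ⟨x, hx⟩
  have hswSA : Equiv.swap x0 a1 ∈ SA := Equiv.Perm.swap_mem_stabilizer hx0A ha1A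
  have hswH : Equiv.swap x0 a1 ∉ H := by
    intro h
    have := hHM h
    rw [hrange, MulAction.mem_stabilizer_iff, Equiv.Perm.smul_def, Equiv.swap_apply_left] at this
    exact ha1 this
  -- SA is not a coatom, and is proper
  have hSAnot : ¬ IsCoatom SA := by
    apply Cfsg.Agent.S5904.result (by rw [Fintype.card_fin]; omega)
    rw [Nat.card_coe_set_eq, Nat.card_coe_set_eq, ← Finset.coe_compl, Set.ncard_coe_finset,
      Set.ncard_coe_finset, hAcard, hAc]
  have hSAtop : SA ≠ ⊤ := by
    apply Equiv.Perm.stabilizer_ne_top_of_nonempty_of_nonempty_compl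
    · exact ⟨x0, hx0A⟩
    · exact ⟨b, by simpa using hbA⟩
  obtain ⟨K, hK, hSAK⟩ := (eq_top_or_exists_le_coatom SA).resolve_left hSAtop
  have hSAneK : SA ≠ K := fun h => hSAnot (h ▸ hK)
  refine ⟨ι.range, H, K, ?_, ?_, hHM, ?_, hK, hHSA.trans hSAK, ?_⟩
  · rw [hrange, ← MulAction.stabilizer_singleton]
    apply Equiv.Perm.isCoatom_stabilizer
    · exact Set.singleton_nonempty _
    · exact ⟨a1, by simpa using ha1⟩
    · rw [Nat.card_eq_fintype_card, Fintype.card_fin, Set.ncard_singleton]
      omega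
  · rw [hrange, MulAction.index_stabilizer_of_transitive, Nat.card_eq_fintype_card, Fintype.card_fin]
  · exact isCoatom_map_subgroupOf_range ι hι _ hS'
  · intro hco
    have hle : H.subgroupOf K ≤ SA.subgroupOf K := fun x hx => hHSA hx
    rcases hco.le_iff.mp hle with h | h
    · rw [Subgroup.subgroupOf_eq_top] at h
      exact hSAneK (le_antisymm hSAK h)
    · apply hswH
      have h1 : (⟨Equiv.swap x0 a1, hSAK hswSA⟩ : K) ∈ SA.subgroupOf K := hswSA
      rw [h] at h1
      exact h1

end Cfsg.Agent.S5894
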