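import Cfsg.Statements.S5895
import Cfsg.Agent.Helper29.AffineEx

set_option autoImplicit false
open Cfsg

namespace Cfsg.Agent.S5895

/-- For every prime p and every d ≥ 2 there is a finite group G with a maximal subgroup M of index p^d and a maximal subgroup H of M that is not second maximal in G: some maximal subgroup K of G contains H without H being maximal in K. (One may take G the affine group V ⋊ GL(V) of V = 𝔽_p^d, M = GL(V), H the stabiliser in M of a line W of V, and K = V ⋊ H, with H < W ⋊ H < K.) So the prime-index hypothesis in the second-maximality criterion cannot be relaxed to prime-power index. -/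
theorem result (p d : ℕ) (hp : p.Prime)
    (hd : 2 ≤ d) :
    ∃ (G : Type) (_ : Group G) (_ : Finite G) (M H K : Subgroup G), IsCoatom M ∧ M.index = p ^ d ∧ H ≤ M ∧
      IsCoatom (H.subgroupOf M) ∧ IsCoatom K ∧ H ≤ K ∧ ¬ IsCoatom (H.subgroupOf K) := by
  have : Fact p.Prime := ⟨hp⟩
  let i0 : Fin d := ⟨0, by omega⟩
  let i1 : Fin d := ⟨1, by omega⟩
  have h01 : i0 ≠ i1 := by
    intro h; simp [i0, i1, Fin.ext_iff] at h
  let e₀ : Fin d → ZMod p := Pi.single i0 1
  let e₁ : Fin d → ZMod p := Pi.single i1 1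
  have h0 : e₀ ≠ 0 := by
    intro h
    have := congrFun h i0
    simp [e₀] at this
  have h1 : e₁ ∉ Submodule.span (ZMod p) {e₀} := by
    intro h
    obtain ⟨c, hc⟩ := Submodule.mem_span_singleton.mp h
    have := congrFun hc i1
    simp [e₀, e₁, Pi.single_eq_of_ne h01.symm] at this
  obtain ⟨M, H, K, h⟩ := Helper29.AffineEx.main (F := ZMod p) e₀ e₁ h0 h1
  have hfin : Finite ((Fin d → ZMod p) ≃ᵃ[ZMod p] (Fin d → ZMod p)) :=
    Finite.of_injective (fun g => (g : (Fin d → ZMod p) → (Fin d → ZMod p)))
      DFunLike.coe_injective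
  refine ⟨(Fin d → ZMod p) ≃ᵃ[ZMod p] (Fin d → ZMod p), inferInstance, hfin, M, H, K, ?_⟩
  have hcard : Nat.card (Fin d → ZMod p) = p ^ d := by
    rw [Nat.card_fun, Nat.card_zmod, Nat.card_fin]
  rw [← hcard]
  exact h

end Cfsg.Agent.S5895
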