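import Cfsg.Statements.S5902
import Mathlib

set_option autoImplicit false
open Cfsg

namespace Cfsg.Agent.S5902

/-- Core lattice lemma (same as S5901, restated locally). -/
theorem compl_of_interval {G : Type*} [Group G] [Finite G] (T X M : Subgroup G)
    (hTX : T ≤ X)
    (hint : ∀ Y : Subgroup G, T ≤ Y → Y ≤ X → ∃ C : Subgroup G, T ≤ C ∧ C ≤ X ∧ Y ⊔ C = X ∧ Y ⊓ C = T)
    (huniq : ∀ M' : Subgroup G, IsCoatom M' → X ≤ M' → M' = M)
    (H : Subgroup G) (hH : ¬ H ≤ M) (hHT : H ⊓ T = ⊥) :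
    ∃ C : Subgroup G, H ⊔ C = ⊤ ∧ H ⊓ C = ⊥ := by
  obtain ⟨C, hTC, hCX, hYC, hYC'⟩ := hint ((H ⊓ X) ⊔ T) le_sup_right (sup_le inf_le_right hTX)
  refine ⟨C, ?_, ?_⟩
  · have hXle : X ≤ H ⊔ C := by
      rw [← hYC]
      refine sup_le (sup_le (inf_le_left.trans le_sup_left) (hTC.trans le_sup_right)) le_sup_right
    by_contra hne
    obtain ⟨M', hM', hle⟩ := (eq_top_or_exists_le_coatom (H ⊔ C)).resolve_left hne
    have : M' = M := huniq M' hM' (hXle.trans hle)
    subst this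
    exact hH (le_sup_left.trans hle)
  · have h1 : H ⊓ C ≤ ((H ⊓ X) ⊔ T) ⊓ C :=
      le_inf (le_sup_of_le_left (le_inf inf_le_left (inf_le_right.trans hCX))) inf_le_right
    rw [hYC'] at h1
    have h2 : H ⊓ C ≤ H ⊓ T := le_inf inf_le_left h1
    rw [hHT] at h2
    exact le_bot_iff.mp h2

/-- If the subgroup lattice of `X` is complemented then the interval `[⊥, X]` is complemented. -/
theorem interval_of_complemented {G : Type*} [Group G] (X : Subgroup G)
    (hK : ComplementedLattice (Subgroup X)) :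
    ∀ Y : Subgroup G, ⊥ ≤ Y → Y ≤ X → ∃ C : Subgroup G, ⊥ ≤ C ∧ C ≤ X ∧ Y ⊔ C = X ∧ Y ⊓ C = ⊥ := by
  intro Y _ hYX
  obtain ⟨C', hC'⟩ := hK.exists_isCompl (Y.subgroupOf X)
  refine ⟨C'.map X.subtype, bot_le, Subgroup.map_subtype_le C', ?_, ?_⟩
  · have h1 : (Y.subgroupOf X ⊔ C').map X.subtype = X := by
      rw [hC'.sup_eq_top, ← MonoidHom.range_eq_map, Subgroup.range_subtype]
    rw [Subgroup.map_sup, Subgroup.subgroupOf_map_subtype, inf_eq_left.mpr hYX] at h1
    exact h1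
  · have h1 : (Y.subgroupOf X ⊓ C').map X.subtype = ⊥ := by
      rw [hC'.inf_eq_bot, Subgroup.map_bot]
    rw [Subgroup.map_inf _ _ _ (Subgroup.subtype_injective X), Subgroup.subgroupOf_map_subtype,
      inf_eq_left.mpr hYX] at h1
    exact h1

theorem part_one {G : Type*} [Group G] [Finite G] (X M : Subgroup G)
    (hK : ComplementedLattice (Subgroup X))
    (huniq : ∀ M' : Subgroup G, IsCoatom M' → X ≤ M' → M' = M) :
    ∀ H : Subgroup G, ¬ H ≤ M.normalCore → ∃ C : Subgroup G, H ⊔ C = ⊤ ∧ H ⊓ C = ⊥ := by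
  intro H hH
  -- find a conjugate of H not inside M
  have : ∃ b : G, ∃ a ∈ H, b * a * b⁻¹ ∉ M := by
    by_contra hcon
    push_neg at hcon
    apply hH
    intro a ha
    exact fun b => hcon b a ha
  obtain ⟨b, a, haH, hab⟩ := this
  let φ : G ≃* G := MulAut.conj b
  have hH' : ¬ H.map φ.toMonoidHom ≤ M := by
    intro hle
    apply hab
    apply hle
    exact ⟨a, haH, by simp [φ, MulAut.conj_apply]⟩
  obtain ⟨C', hC1, hC2⟩ := compl_of_interval ⊥ X M bot_le (interval_of_complemented X hK) huniq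
    (H.map φ.toMonoidHom) hH' (by simp)
  have hHeq : (H.map φ.toMonoidHom).map φ.symm.toMonoidHom = H := by
    rw [Subgroup.map_map]
    have : φ.symm.toMonoidHom.comp φ.toMonoidHom = MonoidHom.id G := by
      ext x; simp
    rw [this, Subgroup.map_id]
  refine ⟨C'.map φ.symm.toMonoidHom, ?_, ?_⟩
  · rw [← hHeq, ← Subgroup.map_sup, hC1]
    exact Subgroup.map_top_of_surjective _ φ.symm.surjective
  · rw [← hHeq, ← Subgroup.map_inf _ _ _ φ.symm.injective, hC2, Subgroup.map_bot]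

theorem result {G : Type*} [Group G] [Finite G] (X M : Subgroup G)
    (hK : ComplementedLattice (Subgroup X))
    (hM : IsCoatom M) (hXM : X ≤ M) (huniq : ∀ M' : Subgroup G, IsCoatom M' → X ≤ M' → M' = M) :
    (∀ H : Subgroup G, ¬ H ≤ M.normalCore → ∃ C : Subgroup G, H ⊔ C = ⊤ ∧ H ⊓ C = ⊥) ∧
    ComplementedLattice (Subgroup (G ⧸ M.normalCore)) := by
  have h1 := part_one X M hK huniq
  refine ⟨h1, ⟨fun Hbar => ?_⟩⟩
  by_cases hbot : Hbar = ⊥
  · subst hbot
    exact ⟨⊤, isCompl_bot_top⟩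
  · set N := M.normalCore with hN
    set H := Hbar.comap (QuotientGroup.mk' N) with hHdef
    have hmap : H.map (QuotientGroup.mk' N) = Hbar :=
      Subgroup.map_comap_eq_self_of_surjective (QuotientGroup.mk'_surjective N) Hbar
    have hHN : ¬ H ≤ N := by
      intro hle
      apply hbot
      rw [← hmap, eq_bot_iff]
      rintro _ ⟨x, hx, rfl⟩
      rw [Subgroup.mem_bot]
      exact (QuotientGroup.eq_one_iff x).mpr (hle hx)
    obtain ⟨C, hC1, hC2⟩ := h1 H hHN
    refine ⟨C.map (QuotientGroup.mk' N), ?_, ?_⟩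
    · rw [disjoint_iff, eq_bot_iff]
      rintro x ⟨hx1, ⟨c, hc, rfl⟩⟩
      have hcH : c ∈ H := hx1
      have : c ∈ H ⊓ C := ⟨hcH, hc⟩
      rw [hC2, Subgroup.mem_bot] at this
      subst this
      simp
    · rw [codisjoint_iff, ← hmap, ← Subgroup.map_sup, hC1]
      exact Subgroup.map_top_of_surjective _ (QuotientGroup.mk'_surjective N)

end Cfsg.Agent.S5902
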