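import Cfsg.Statements.S5903
import Cfsg.Agent.S5902
import Mathlib

set_option autoImplicit false
open Cfsg

namespace Cfsg.Agent.S5903

/-- A complement of a conjugate gives a complement. -/
theorem compl_of_conj {G : Type*} [Group G] (H : Subgroup G) (b : G)
    (h : ∃ C : Subgroup G, H.map (MulAut.conj b).toMonoidHom ⊔ C = ⊤ ∧
      H.map (MulAut.conj b).toMonoidHom ⊓ C = ⊥) :
    ∃ C : Subgroup G, H ⊔ C = ⊤ ∧ H ⊓ C = ⊥ := by
  obtain ⟨C', hC1, hC2⟩ := h
  let φ : G ≃* G := MulAut.conj b
  have hHeq : (H.map φ.toMonoidHom).map φ.symm.toMonoidHom = H := by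
    rw [Subgroup.map_map]
    have : φ.symm.toMonoidHom.comp φ.toMonoidHom = MonoidHom.id G := by
      ext x; simp
    rw [this, Subgroup.map_id]
  refine ⟨C'.map φ.symm.toMonoidHom, ?_, ?_⟩
  · rw [← hHeq, ← Subgroup.map_sup, hC1]
    exact Subgroup.map_top_of_surjective _ φ.symm.surjective
  · rw [← hHeq, ← Subgroup.map_inf _ _ _ φ.symm.injective, hC2, Subgroup.map_bot]

/-- The interval `[N, X]` is complemented when the subgroup lattice of `X/N` is. -/
theorem interval_of_quotient {G : Type*} [Group G] (X N : Subgroup G) (hNX : N ≤ X)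
    [(N.subgroupOf X).Normal] (hK : ComplementedLattice (Subgroup (X ⧸ N.subgroupOf X))) :
    ∀ Y : Subgroup G, N ≤ Y → Y ≤ X → ∃ C : Subgroup G, N ≤ C ∧ C ≤ X ∧ Y ⊔ C = X ∧ Y ⊓ C = N := by
  intro Y hNY hYX
  set π := QuotientGroup.mk' (N.subgroupOf X) with hπ
  have hπs : Function.Surjective π := QuotientGroup.mk'_surjective _
  have hker : π.ker = N.subgroupOf X := QuotientGroup.ker_mk' _
  obtain ⟨Cbar, hCbar⟩ := hK.exists_isCompl ((Y.subgroupOf X).map π)
  set CX := Cbar.comap π with hCX
  have hYX' : ((Y.subgroupOf X).map π).comap π = Y.subgroupOf X := by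
    apply Subgroup.comap_map_eq_self
    rw [hker]
    intro x hx
    exact hNY hx
  have hsup : Y.subgroupOf X ⊔ CX = ⊤ := by
    rw [← hYX', hCX, Subgroup.comap_sup_eq _ _ _ hπs, hCbar.sup_eq_top, Subgroup.comap_top]
  have hinf : Y.subgroupOf X ⊓ CX = N.subgroupOf X := by
    rw [← hYX', hCX, ← Subgroup.comap_inf, hCbar.inf_eq_bot, MonoidHom.comap_bot, hker]
  have hNCX : N.subgroupOf X ≤ CX := by
    rw [← hinf]; exact inf_le_right
  refine ⟨CX.map X.subtype, ?_, Subgroup.map_subtype_le CX, ?_, ?_⟩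
  · have := Subgroup.map_mono (f := X.subtype) hNCX
    rwa [Subgroup.subgroupOf_map_subtype, inf_eq_left.mpr hNX] at this
  · have h1 : (Y.subgroupOf X ⊔ CX).map X.subtype = X := by
      rw [hsup, ← MonoidHom.range_eq_map, Subgroup.range_subtype]
    rw [Subgroup.map_sup, Subgroup.subgroupOf_map_subtype, inf_eq_left.mpr hYX] at h1
    exact h1
  · have h1 : (Y.subgroupOf X ⊓ CX).map X.subtype = N := by
      rw [hinf, Subgroup.subgroupOf_map_subtype, inf_eq_left.mpr hNX]
    rw [Subgroup.map_inf _ _ _ (Subgroup.subtype_injective X), Subgroup.subgroupOf_map_subtype,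
      inf_eq_left.mpr hYX] at h1
    exact h1

/-- A subgroup of prime order meets any subgroup trivially or is contained in it. -/
theorem inf_eq_bot_or_le {G : Type*} [Group G] (N K : Subgroup G) (hN : (Nat.card N).Prime) :
    K ⊓ N = ⊥ ∨ N ≤ K := by
  have : Fact (Nat.card N).Prime := ⟨hN⟩
  rcases Subgroup.eq_bot_or_eq_top_of_prime_card (K.subgroupOf N) with h | h
  · left
    rw [Subgroup.subgroupOf_eq_bot] at h
    exact disjoint_iff.mp h
  · right
    exact Subgroup.subgroupOf_eq_top.mp h

theorem result {G : Type*} [Group G] [Finite G] [IsSimpleGroup G] (X M N : Subgroup G)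
    (hM : IsCoatom M) (hXM : X ≤ M) (huniq : ∀ M' : Subgroup G, IsCoatom M' → X ≤ M' → M' = M)
    (hNX : N ≤ X) (hN : (Nat.card N).Prime) (hcen : ∀ n ∈ N, ∀ m ∈ M, m * n = n * m)
    [(N.subgroupOf X).Normal] (hK : ComplementedLattice (Subgroup (X ⧸ N.subgroupOf X))) :
    ComplementedLattice (Subgroup G) := by
  have hint := interval_of_quotient X N hNX hK
  have hNbot : N ≠ ⊥ := by
    intro h
    rw [h] at hN
    simp at hN
    exact Nat.not_prime_one hN
  refine ⟨fun H => ?_⟩
  by_cases hbot : H = ⊥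
  · subst hbot; exact ⟨⊤, isCompl_bot_top⟩
  by_cases htop : H = ⊤
  · subst htop; exact ⟨⊥, isCompl_top_bot⟩
  -- key claim
  have key : ∃ g : G, ¬ H.map (MulAut.conj g).toMonoidHom ≤ M ∧
      H.map (MulAut.conj g).toMonoidHom ⊓ N = ⊥ := by
    by_contra hcon
    push Not at hcon
    -- every conjugate of N lies in H or centralizes H
    have hdich : ∀ g : G, N.map (MulAut.conj g).toMonoidHom ≤ H ∨
        N.map (MulAut.conj g).toMonoidHom ≤ Subgroup.centralizer (H : Set G) := by
      intro g
      by_cases hle : H.map (MulAut.conj g⁻¹).toMonoidHom ≤ M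
      · right
        rintro _ ⟨n, hn, rfl⟩
        rw [Subgroup.mem_centralizer_iff]
        intro h hh
        have hm : g⁻¹ * h * g ∈ M := by
          apply hle
          exact ⟨h, hh, by simp [MulAut.conj_apply]⟩
        have := hcen n hn _ hm
        simp only [MulEquiv.coe_toMonoidHom, MulAut.conj_apply]
        calc h * (g * n * g⁻¹) = g * ((g⁻¹ * h * g) * n) * g⁻¹ := by group
          _ = g * (n * (g⁻¹ * h * g)) * g⁻¹ := by rw [this]
          _ = g * n * g⁻¹ * h := by group
      · left
        have h2 := hcon g⁻¹ hle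
        rcases inf_eq_bot_or_le N (H.map (MulAut.conj g⁻¹).toMonoidHom) hN with h3 | h3
        · exact absurd h3 h2
        · rintro _ ⟨n, hn, rfl⟩
          obtain ⟨h, hh, hhn⟩ := h3 hn
          simp only [MulEquiv.coe_toMonoidHom, MulAut.conj_apply] at hhn ⊢
          rw [← hhn]
          convert hh using 1
          simp [mul_assoc]
    -- H is normal
    have hnorm : Subgroup.normalClosure (N : Set G) ≤ Subgroup.normalizer (H : Set G) := by
      rw [Subgroup.normalClosure, Subgroup.closure_le]
      intro x hx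
      rw [Group.mem_conjugatesOfSet_iff] at hx
      obtain ⟨n, hn, hconj⟩ := hx
      rw [isConj_iff] at hconj
      obtain ⟨g, rfl⟩ := hconj
      have hmem : g * n * g⁻¹ ∈ N.map (MulAut.conj g).toMonoidHom := ⟨n, hn, by simp [MulAut.conj_apply]⟩
      rcases hdich g with h1 | h1
      · exact Subgroup.le_normalizer (h1 hmem)
      · exact Subgroup.centralizer_le_normalizer _ (h1 hmem)
    have hncl : Subgroup.normalClosure (N : Set G) = ⊤ := by
      rcases (Subgroup.normalClosure_normal (s := (N : Set G))).eq_bot_or_eq_top with h | h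
      · exfalso
        apply hNbot
        rw [eq_bot_iff, ← h]
        exact Subgroup.le_normalClosure
      · exact h
    rw [hncl, top_le_iff] at hnorm
    have hHn : H.Normal := Subgroup.normalizer_eq_top_iff.mp hnorm
    rcases hHn.eq_bot_or_eq_top with h | h
    · exact hbot h
    · exact htop h
  obtain ⟨g, hg1, hg2⟩ := key
  have := Cfsg.Agent.S5902.compl_of_interval N X M hNX hint huniq _ hg1 hg2
  obtain ⟨C, hC1, hC2⟩ := compl_of_conj H g this
  exact ⟨C, disjoint_iff.mpr hC2, codisjoint_iff.mpr hC1⟩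

end Cfsg.Agent.S5903
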