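import Cfsg.Statements.S5908
import Cfsg.Agent.Helper29.PSU32b
import Cfsg.Agent.Helper9.QuatBasic
-- import your own Cfsg.Agent.* helpers here

set_option autoImplicit false
open Cfsg

namespace Cfsg.Agent.S5908

/-- The subgroup lattice of PSU₃(2) (the solvable group of order 72, realised over the field with 4 elements) is not complemented: some subgroup H has no subgroup X with H ⊔ X = ⊤ and H ⊓ X = ⊥. -/
theorem result {F : Type*} [Field F] [Fintype F] (hF : Fintype.card F = 4) :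
    ¬ ComplementedLattice (Subgroup (Cfsg.PSU 3 F 2)) := by
  intro hcl
  obtain ⟨N, hN, -, -, ⟨φ⟩⟩ := Cfsg.Agent.Helper29.PSU32.structure_thm hF
  let ρ : Cfsg.PSU 3 F 2 →* QuaternionGroup 2 := φ.toMonoidHom.comp (QuotientGroup.mk' N)
  have hρ : Function.Surjective ρ := φ.surjective.comp (QuotientGroup.mk'_surjective N)
  let K : Subgroup (Cfsg.PSU 3 F 2) := (Cfsg.Agent.Helper9.quatRot 2).comap ρ
  have hK2 : K.index = 2 := by
    rw [Subgroup.index_comap_of_surjective _ hρ]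
    exact Cfsg.Agent.Helper9.quatRot_index 2
  have hinv : ∀ u : QuaternionGroup 2, u ^ 2 = 1 → u = 1 ∨ u = QuaternionGroup.a 2 := by decide
  have hmemK : ∀ g : Cfsg.PSU 3 F 2, g ^ 2 = 1 → g ∈ K := by
    intro g hg
    rw [Subgroup.mem_comap, Cfsg.Agent.Helper9.mem_quatRot]
    have h1 : (ρ g) ^ 2 = 1 := by rw [← map_pow, hg, map_one]
    rcases hinv _ h1 with h | h
    · exact ⟨0, by rw [h]; rfl⟩
    · exact ⟨2, h⟩
  obtain ⟨X, hX⟩ := hcl.exists_isCompl K
  have hXbot : X = ⊥ := by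
    rw [eq_bot_iff]
    intro x hx
    have h1 : x ^ 2 ∈ K ⊓ X := ⟨Subgroup.sq_mem_of_index_two hK2 x, X.pow_mem hx 2⟩
    rw [hX.inf_eq_bot, Subgroup.mem_bot] at h1
    have h2 : x ∈ K ⊓ X := ⟨hmemK x h1, hx⟩
    rwa [hX.inf_eq_bot] at h2
  have htop : K = ⊤ := by
    have := hX.sup_eq_top
    rwa [hXbot, sup_bot_eq] at this
  rw [htop, Subgroup.index_top] at hK2
  norm_num at hK2

end Cfsg.Agent.S5908
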