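import Cfsg.Statements.S5909
import Cfsg.Agent.Helper29.WreathAlt
-- import your own Cfsg.Agent.* helpers here

set_option autoImplicit false
open Cfsg

namespace Cfsg.Agent.S5909

/-- Let Ω be a finite set whose size is not 8, and f : Ω → Fin b a labelling with b ≥ 2 whose fibres all have the same size a ≥ 2 (a partition into b blocks of size a). Then the even permutations preserving the partition — the intersection of the imprimitive wreath product S_a ≀ S_b with the alternating group — form a maximal subgroup of the alternating group on Ω. -/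
theorem result {Ω : Type*} [Fintype Ω] [DecidableEq Ω] (h8 : Fintype.card Ω ≠ 8) (a b : ℕ) (ha : 2 ≤ a) (hb : 2 ≤ b)
    (f : Ω → Fin b) (hf : ∀ i : Fin b, Nat.card {x : Ω // f x = i} = a) :
    IsCoatom ((Subgroup.closure {g : Equiv.Perm Ω | ∀ x y : Ω, f x = f y ↔ f (g x) = f (g y)} ⊓ alternatingGroup Ω).subgroupOf (alternatingGroup Ω)) := by
  rw [Helper29.closure_eq_partStab]
  refine ⟨?_, fun Y hlt => ?_⟩
  · intro htop
    rw [Subgroup.subgroupOf_eq_top] at htop
    obtain ⟨c, hcA, hcP⟩ := Helper29.exists_even_notMem f ha hb hf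
    exact hcP (htop hcA).1
  · have hXA : Y.map (alternatingGroup Ω).subtype ≤ alternatingGroup Ω :=
      Subgroup.map_subtype_le Y
    have hEX : Helper29.partStab f ⊓ alternatingGroup Ω ≤ Y.map (alternatingGroup Ω).subtype := by
      intro e he
      have h1 : (⟨e, he.2⟩ : alternatingGroup Ω) ∈
          (Helper29.partStab f ⊓ alternatingGroup Ω).subgroupOf (alternatingGroup Ω) := by
        rw [Subgroup.mem_subgroupOf]; exact he
      exact ⟨⟨e, he.2⟩, hlt.le h1, rfl⟩
    have hne : Y.map (alternatingGroup Ω).subtype ≠ Helper29.partStab f ⊓ alternatingGroup Ω := by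
      intro h
      apply hlt.not_ge
      intro y hy
      rw [Subgroup.mem_subgroupOf, ← h]
      exact ⟨y, hy, rfl⟩
    have hX := Helper29.eq_alternatingGroup_of_lt h8 a ha hb f hf _ hEX hXA hne
    rw [eq_top_iff]
    intro y _
    have hy : (y : Equiv.Perm Ω) ∈ Y.map (alternatingGroup Ω).subtype := by
      rw [hX]; exact y.2
    obtain ⟨y', hy', hyy'⟩ := hy
    have : y' = y := Subtype.ext hyy'
    rw [← this]; exact hy'

end Cfsg.Agent.S5909
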