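import Cfsg.Statements.S5912
import Cfsg.Agent.Helper29.Sym6Main
-- import your own Cfsg.Agent.* helpers here

set_option autoImplicit false
open Cfsg

namespace Cfsg.Agent.S5912

/-- The symmetric group on a 6-element set Ω has exactly two conjugacy classes of subgroups of index 6: there are two non-conjugate subgroups of index 6 (a point stabilizer and a transitive subgroup isomorphic to S₅), and every subgroup of index 6 is conjugate to one of them. -/
theorem result {Ω : Type*} [Fintype Ω] [DecidableEq Ω] (h6 : Fintype.card Ω = 6) :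
    ∃ H₁ H₂ : Subgroup (Equiv.Perm Ω), H₁.index = 6 ∧ H₂.index = 6 ∧
      (¬ ∃ g : Equiv.Perm Ω, Subgroup.map (MulAut.conj g).toMonoidHom H₁ = H₂) ∧
      ∀ H : Subgroup (Equiv.Perm Ω), H.index = 6 →
        ∃ g : Equiv.Perm Ω, Subgroup.map (MulAut.conj g).toMonoidHom H₁ = H ∨ Subgroup.map (MulAut.conj g).toMonoidHom H₂ = H := by
  classical
  obtain ⟨H₂, hidx, htr, -, hclass⟩ := Cfsg.Agent.Helper29.Sym6.classification h6
  have hne : Nonempty Ω := by
    rw [← Fintype.card_pos_iff]; omega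
  have hnt : Nontrivial Ω := by
    rw [← Fintype.one_lt_card_iff_nontrivial]; omega
  obtain ⟨x₁⟩ := hne
  refine ⟨MulAction.stabilizer (Equiv.Perm Ω) x₁, H₂, ?_, hidx, ?_, ?_⟩
  · rw [Cfsg.Agent.Helper29.SymIndex.index_stabilizer_perm, h6]
  · rintro ⟨g, hg⟩
    obtain ⟨y, hy⟩ := exists_ne (g x₁)
    obtain ⟨h, hh, hhx⟩ := htr (g x₁) y
    rw [← hg] at hh
    obtain ⟨h', hh', rfl⟩ := hh
    have hh'' : h' x₁ = x₁ := MulAction.mem_stabilizer_iff.mp hh'
    apply hy
    rw [← hhx]
    simp [hh'']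
  · intro H hH
    rcases hclass H hH with ⟨x, hx⟩ | ⟨g, hg⟩
    · refine ⟨Equiv.swap x₁ x, Or.inl ?_⟩
      rw [← MulAction.stabilizer_smul_eq_stabilizer_map_conj, hx]
      congr 1
      exact Equiv.swap_apply_left x₁ x
    · exact ⟨g, Or.inr hg⟩

end Cfsg.Agent.S5912
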