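import Cfsg.Statements.S5913
import Mathlib

set_option autoImplicit false
open Cfsg

namespace Cfsg.Agent.S5913

theorem mulSingle_mem {S : Type*} [Group S] [IsSimpleGroup S] (hS : ¬ IsMulCommutative S) (n : ℕ)
    (N : Subgroup (Fin n → S)) [N.Normal] (i : Fin n) (x : Fin n → S) (hx : x ∈ N) (hxi : x i ≠ 1)
    (s : S) : Pi.mulSingle i s ∈ N := by
  -- the center of S is trivial
  have hcen : Subgroup.center S = ⊥ := by
    rcases (inferInstance : (Subgroup.center S).Normal).eq_bot_or_eq_top with h | h
    · exact h
    · exfalso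
      apply hS
      rw [isMulCommutative_iff]
      intro a b
      have hb : b ∈ Subgroup.center S := by rw [h]; trivial
      exact (Subgroup.mem_center_iff.mp hb a)
  have hnc : x i ∉ Subgroup.center S := by
    rw [hcen, Subgroup.mem_bot]; exact hxi
  rw [Subgroup.mem_center_iff] at hnc
  push Not at hnc
  obtain ⟨t, ht⟩ := hnc
  let Ni : Subgroup S := N.comap (MonoidHom.mulSingle (fun _ : Fin n => S) i)
  have hNi : Ni.Normal := Subgroup.Normal.comap inferInstance _
  have hc : x i * t * (x i)⁻¹ * t⁻¹ ∈ Ni := by
    show Pi.mulSingle i (x i * t * (x i)⁻¹ * t⁻¹) ∈ N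
    have h1 : Pi.mulSingle i t * x⁻¹ * (Pi.mulSingle i t)⁻¹ ∈ N :=
      Subgroup.Normal.conj_mem inferInstance _ (N.inv_mem hx) _
    have h2 : x * (Pi.mulSingle i t * x⁻¹ * (Pi.mulSingle i t)⁻¹) ∈ N := N.mul_mem hx h1
    convert h2 using 1
    ext j
    by_cases hj : j = i
    · subst hj
      simp [mul_assoc]
    · simp [Pi.mulSingle_eq_of_ne hj]
  have hne : Ni ≠ ⊥ := by
    intro hbot
    rw [hbot, Subgroup.mem_bot] at hc
    apply ht
    have h3 : x i * t * (x i)⁻¹ = t := by
      rw [← mul_inv_eq_one]; exact hc
    calc t * x i = (x i * t * (x i)⁻¹) * x i := by rw [h3]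
      _ = x i * t := by group
  have htop : Ni = ⊤ := (hNi.eq_bot_or_eq_top).resolve_left hne
  have : s ∈ Ni := by rw [htop]; trivial
  exact this

theorem result {S : Type*} [Group S] [IsSimpleGroup S] (hS : ¬ IsMulCommutative S) (n : ℕ)
    (N : Subgroup (Fin n → S)) [N.Normal] :
    ∃ T : Finset (Fin n), ∀ x : Fin n → S, x ∈ N ↔ ∀ i, i ∉ T → x i = 1 := by
  classical
  refine ⟨Finset.univ.filter (fun i => ∃ x ∈ N, x i ≠ 1), fun x => ⟨fun hx i hi => ?_, fun hx => ?_⟩⟩
  · by_contra hne
    apply hi
    simp only [Finset.mem_filter, Finset.mem_univ, true_and]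
    exact ⟨x, hx, hne⟩
  · -- induction over finsets
    have key : ∀ U : Finset (Fin n), U ⊆ Finset.univ.filter (fun i => ∃ x ∈ N, x i ≠ 1) →
        ∀ y : Fin n → S, (∀ i, i ∉ U → y i = 1) → y ∈ N := by
      intro U
      induction U using Finset.induction_on with
      | empty =>
        intro _ y hy
        have : y = 1 := by
          ext i; exact hy i (by simp)
        rw [this]; exact N.one_mem
      | insert i U' hiU' ih =>
        intro hsub y hy
        have hiT : i ∈ Finset.univ.filter (fun i => ∃ x ∈ N, x i ≠ 1) :=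
          hsub (Finset.mem_insert_self i U')
        simp only [Finset.mem_filter, Finset.mem_univ, true_and] at hiT
        obtain ⟨z, hz, hzi⟩ := hiT
        have h1 : Pi.mulSingle i (y i) ∈ N := mulSingle_mem hS n N i z hz hzi (y i)
        have h2 : Function.update y i 1 ∈ N := by
          apply ih (fun j hj => hsub (Finset.mem_insert_of_mem hj))
          intro j hj
          by_cases hji : j = i
          · subst hji; simp
          · rw [Function.update_of_ne hji]
            apply hy
            simp [hji, hj]
        have h3 : y = Pi.mulSingle i (y i) * Function.update y i 1 := by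
          ext j
          by_cases hji : j = i
          · subst hji; simp
          · simp [Pi.mulSingle_eq_of_ne hji, Function.update_of_ne hji]
        rw [h3]
        exact N.mul_mem h1 h2
    exact key _ (Finset.Subset.refl _) x hx

end Cfsg.Agent.S5913
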