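import Cfsg.Statements.S5914
import Cfsg.Agent.Helper29.CharSimple

set_option autoImplicit false
open Cfsg

namespace Cfsg.Agent.S5914

open Cfsg.Agent.Helper29 in
/-- A non-trivial finite group G is characteristically simple (its only characteristic subgroups are 1 and G) if and only if G is isomorphic to a direct power S^n (n ≥ 1) of some simple group S (possibly cyclic of prime order). -/
theorem result {G : Type*} [Group G] [Finite G] [Nontrivial G] :
    (∀ H : Subgroup G, H.Characteristic → H = ⊥ ∨ H = ⊤) ↔
    ∃ (S : Type) (_ : Group S) (_ : IsSimpleGroup S) (n : ℕ), 1 ≤ n ∧ Nonempty (G ≃* (Fin n → S)) := by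
  constructor
  · intro h
    obtain ⟨N, hsimple, k, hk, ⟨e⟩⟩ := exists_pi_equiv_of_charSimple h
    refine ⟨Shrink.{0} N, inferInstance,
      (Shrink.mulEquiv : Shrink.{0} N ≃* N).isSimpleGroup, k, hk, ⟨?_⟩⟩
    exact e.trans (MulEquiv.piCongrRight (fun _ => (Shrink.mulEquiv : Shrink.{0} N ≃* N).symm))
  · rintro ⟨S, hS, hsimple, n, -, ⟨e⟩⟩ H hH
    set H' : Subgroup (Fin n → S) := H.map e.toMonoidHom with hH'
    have hchar : H'.Characteristic := by
      rw [Subgroup.characteristic_iff_map_le]
      intro ψ
      rintro _ ⟨_, ⟨x, hx, rfl⟩, rfl⟩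
      have h1 := mem_of_characteristic H ((e.trans ψ).trans e.symm) hx
      refine ⟨_, h1, ?_⟩
      simp
    rcases char_pi_eq_bot_or_top H' with h1 | h1
    · left
      rw [hH'] at h1
      exact (Subgroup.map_eq_bot_iff_of_injective H e.injective).mp h1
    · right
      rw [eq_top_iff]
      intro x _
      have hx : e x ∈ H' := by rw [h1]; exact Subgroup.mem_top _
      obtain ⟨y, hy, hyx⟩ := hx
      have : y = x := e.injective hyx
      rw [← this]; exact hy

end Cfsg.Agent.S5914
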