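import Cfsg.Statements.S5938
import Cfsg.Agent.Helper18.Dickson34
import Cfsg.Agent.S0803

set_option autoImplicit false
open Cfsg

namespace Cfsg.Agent.S5938

/-- Let p be a prime with p ≡ ±1 (mod 8) and F a field with p elements. Then PSL_2(F) has a maximal subgroup isomorphic to the symmetric group S_4. -/
theorem result {F : Type*} [Field F] [Fintype F] (p : ℕ) [Fact p.Prime] (hF : Fintype.card F = p) (hp : p % 8 = 1 ∨ p % 8 = 7) : ∃ H : Subgroup (Matrix.ProjectiveSpecialLinearGroup (Fin 2) F), IsCoatom H ∧ Nonempty (H ≃* Equiv.Perm (Fin 4)) := by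
  classical
  have hpp : p.Prime := Fact.out
  have : CharP F p := Cfsg.Agent.Helper18.Dickson.charP_of_card_prime p hF
  have hp2 : p ≠ 2 := by rintro rfl; omega
  have hp7 : 7 ≤ p := by
    have h1 : p ≠ 1 := hpp.ne_one
    omega
  have h2F : (2 : F) ≠ 0 := Cfsg.Agent.Helper18.Dickson.two_ne_zero_of_char (E := F) p hp2
  have hsq : p ^ 2 % 16 = 1 := by
    have h16 : p % 16 = 1 ∨ p % 16 = 9 ∨ p % 16 = 7 ∨ p % 16 = 15 := by omega
    rw [Nat.pow_mod]
    rcases h16 with h | h | h | h <;> rw [h]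
  obtain ⟨M, ⟨e⟩⟩ := (Cfsg.Agent.S0803.result hF).2 hsq
  refine ⟨M, ?_, ⟨e⟩⟩
  have hcM : Nat.card M = 24 := by
    rw [Nat.card_congr e.toEquiv]; exact Cfsg.Agent.Helper18.Dickson.card_S4
  have hcP := Cfsg.Agent.Helper18.Dickson.two_mul_card_psl (F := F) h2F
  rw [hF] at hcP
  have hbig : 2 * 24 < (p + 1) * ((p - 1) * p) := by
    have : 8 * (6 * 7) ≤ (p + 1) * ((p - 1) * p) :=
      Nat.mul_le_mul (by omega) (Nat.mul_le_mul (by omega) hp7)
    omega
  obtain ⟨a, b, ha, hb, hab⟩ := Cfsg.Agent.Helper18.Dickson.exists_sq_of_equiv M e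
    Cfsg.Agent.Helper18.Dickson.exists_sq_S4
  have hpM : ¬ p ∣ Nat.card M := by
    rw [hcM]
    intro h
    have := Nat.le_of_dvd (by norm_num) h
    have h24 : p ∣ 2 ^ 3 * 3 := by norm_num; exact h
    rcases (Nat.Prime.dvd_mul hpp).1 h24 with h1 | h1
    · have := (Nat.prime_dvd_prime_iff_eq hpp Nat.prime_two).1 (hpp.dvd_of_dvd_pow h1)
      omega
    · have := (Nat.prime_dvd_prime_iff_eq hpp Nat.prime_three).1 h1
      omega
  constructor
  · intro htop
    rw [htop, Subgroup.card_top] at hcM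
    omega
  · intro L hML
    by_contra hLtop
    have hle : M ≤ L := hML.le
    have hdvd : Nat.card M ∣ Nat.card L := Subgroup.card_dvd_of_le hle
    rw [hcM] at hdvd
    have hne : Nat.card L ≠ 24 := by
      intro h
      exact hML.ne (Subgroup.eq_of_le_of_card_ge hle (by rw [h, hcM]))
    rcases Cfsg.Agent.Helper18.Dickson.overgroup_cases p hp2 M L hle a b ha hb hab hpM with
      ⟨-, h | h | h⟩ | ⟨-, ⟨K, s, hs, -, hK, -⟩ | ⟨h3, -⟩⟩
    · obtain ⟨e'⟩ := h
      rw [Nat.card_congr e'.toEquiv, Cfsg.Agent.Helper18.Dickson.card_A4] at hdvd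
      omega
    · obtain ⟨e'⟩ := h
      exact hne (by rw [Nat.card_congr e'.toEquiv]; exact Cfsg.Agent.Helper18.Dickson.card_S4)
    · obtain ⟨e'⟩ := h
      rw [Nat.card_congr e'.toEquiv, Cfsg.Agent.Helper18.Dickson.card_A5] at hdvd
      omega
    · exact hLtop (hK (Cfsg.Agent.Helper18.Dickson.eq_top_of_prime_field p hF K s hs))
    · omega

end Cfsg.Agent.S5938
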