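import Cfsg.Statements.S5939
import Cfsg.Agent.Helper18.Dickson34
import Cfsg.Agent.S0804

set_option autoImplicit false
open Cfsg

namespace Cfsg.Agent.S5939

/-- Let p be a prime and F a finite field of characteristic p such that either F has p elements and p ≡ ±1 (mod 10), or F has p² elements and p ≡ ±3 (mod 10). Then PSL_2(F) has a maximal subgroup isomorphic to the alternating group A_5. -/
theorem result {F : Type*} [Field F] [Fintype F] (p : ℕ) [Fact p.Prime] [CharP F p] (h : (Fintype.card F = p ∧ (p % 10 = 1 ∨ p % 10 = 9)) ∨ (Fintype.card F = p ^ 2 ∧ (p % 10 = 3 ∨ p % 10 = 7))) : ∃ H : Subgroup (Matrix.ProjectiveSpecialLinearGroup (Fin 2) F), IsCoatom H ∧ Nonempty (H ≃* alternatingGroup (Fin 5)) := by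
  classical
  have hpp : p.Prime := Fact.out
  have hp2 : p ≠ 2 := by
    rintro rfl
    rcases h with ⟨-, h | h⟩ | ⟨-, h | h⟩ <;> omega
  have h2F : (2 : F) ≠ 0 := Cfsg.Agent.Helper18.Dickson.two_ne_zero_of_char (E := F) p hp2
  -- existence
  have h5q : 5 ∣ Fintype.card F * (Fintype.card F ^ 2 - 1) := by
    rcases h with ⟨hF, h10⟩ | ⟨hF, h10⟩
    · rw [hF]
      apply dvd_mul_of_dvd_right
      have : p ^ 2 % 5 = 1 := by
        have h5 : p % 5 = 1 ∨ p % 5 = 4 := by omega
        rw [Nat.pow_mod]; rcases h5 with h | h <;> rw [h]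
      omega
    · rw [hF]
      apply dvd_mul_of_dvd_right
      have : (p ^ 2) ^ 2 % 5 = 1 := by
        have h5 : p % 5 = 3 ∨ p % 5 = 2 := by omega
        rw [Nat.pow_mod, Nat.pow_mod p]; rcases h5 with h | h <;> rw [h]
      omega
  obtain ⟨M, ⟨e⟩⟩ := (Cfsg.Agent.S0804.result (F := F) rfl).2 h5q
  refine ⟨M, ?_, ⟨e⟩⟩
  have hcM : Nat.card M = 60 := by
    rw [Nat.card_congr e.toEquiv]; exact Cfsg.Agent.Helper18.Dickson.card_A5
  have hcP := Cfsg.Agent.Helper18.Dickson.two_mul_card_psl (F := F) h2F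
  have hp3 : 3 ≤ p := by
    have := hpp.two_le
    omega
  -- `q = p ^ n` with `n ∈ {1, 2}`, `9 ≤ q`
  obtain ⟨n, hn, hFn, hq9⟩ : ∃ n : ℕ, (n = 1 ∨ n = 2) ∧ Fintype.card F = p ^ n ∧
      9 ≤ Fintype.card F := by
    rcases h with ⟨hF, h10⟩ | ⟨hF, h10⟩
    · refine ⟨1, Or.inl rfl, by rw [hF, pow_one], ?_⟩
      rw [hF]
      by_contra hlt
      have : p ≤ 8 := by omega
      interval_cases p <;> omega
    · refine ⟨2, Or.inr rfl, hF, ?_⟩
      rw [hF]
      calc 9 = 3 ^ 2 := by norm_num
        _ ≤ p ^ 2 := Nat.pow_le_pow_left hp3 2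
  have hbig : 2 * 60 < (Fintype.card F + 1) * ((Fintype.card F - 1) * Fintype.card F) := by
    have : 10 * (8 * 9) ≤ (Fintype.card F + 1) * ((Fintype.card F - 1) * Fintype.card F) :=
      Nat.mul_le_mul (by omega) (Nat.mul_le_mul (by omega) hq9)
    omega
  -- subfields
  have hsub : ∀ (K : Subfield F) (s : ℕ), Fintype.card F = Nat.card K ^ s → 1 ≤ s →
      K = ⊤ ∨ (n = 2 ∧ Nat.card K = p) := by
    intro K s hs hs1
    have hk2 := Cfsg.Agent.Helper11.FinSub.two_le_card K
    have hkd : Nat.card K ∣ p ^ n := by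
      rw [← hFn, hs]
      exact dvd_pow_self _ (by omega)
    obtain ⟨j, hj, hkj⟩ := (Nat.dvd_prime_pow hpp).1 hkd
    rcases hn with rfl | rfl
    · left
      apply Cfsg.Agent.Helper11.FinSub.eq_top_of_card_eq
      rw [hFn, hkj]
      interval_cases j
      · rw [hkj] at hk2; simp at hk2
      · rfl
    · interval_cases j
      · rw [hkj] at hk2; simp at hk2
      · right; exact ⟨rfl, by rw [hkj, pow_one]⟩
      · left
        apply Cfsg.Agent.Helper11.FinSub.eq_top_of_card_eq
        rw [hFn, hkj]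
  constructor
  · intro htop
    rw [htop, Subgroup.card_top] at hcM
    omega
  · intro L hML
    by_contra hLtop
    have hle : M ≤ L := hML.le
    have hdvd : Nat.card M ∣ Nat.card L := Subgroup.card_dvd_of_le hle
    rw [hcM] at hdvd
    have hLpos : 0 < Nat.card L := Nat.card_pos
    have h60le : 60 ≤ Nat.card L := Nat.le_of_dvd hLpos hdvd
    have hne : Nat.card L ≠ 60 := by
      intro h
      exact hML.ne (Subgroup.eq_of_le_of_card_ge hle (by rw [h, hcM]))
    by_cases hpM : p ∣ 60
    · -- `p = 3`, `q = 9`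
      have hp3' : p = 3 := by
        have h60 : p ∣ 2 ^ 2 * (3 * 5) := by norm_num; exact hpM
        rcases (Nat.Prime.dvd_mul hpp).1 h60 with h1 | h1
        · have := (Nat.prime_dvd_prime_iff_eq hpp Nat.prime_two).1 (hpp.dvd_of_dvd_pow h1)
          omega
        · rcases (Nat.Prime.dvd_mul hpp).1 h1 with h1 | h1
          · exact (Nat.prime_dvd_prime_iff_eq hpp Nat.prime_three).1 h1
          · have := (Nat.prime_dvd_prime_iff_eq hpp Nat.prime_five).1 h1
            rcases h with ⟨-, h | h⟩ | ⟨-, h | h⟩ <;> omega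
      have hF9 : Fintype.card F = 9 := by
        rcases h with ⟨-, h | h⟩ | ⟨hF, -⟩
        · omega
        · omega
        · rw [hF, hp3']; norm_num
      have hn2 : n = 2 := by
        rcases hn with rfl | rfl
        · rw [hF9, hp3'] at hFn; norm_num at hFn
        · rfl
      have hpL : p ∣ Nat.card L := by
        rw [hp3']
        exact dvd_trans (by norm_num) hdvd
      rcases Cfsg.Agent.Helper18.Dickson.pdiv_dickson p hp2 L hpL with
        ⟨hB, -⟩ | ⟨K, s, hs, hs1, hK, hc⟩ | ⟨-, h60⟩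
      · rw [hF9] at hB
        have := Nat.le_of_dvd (by norm_num) hB
        omega
      · rcases hsub K s hs hs1 with hKt | ⟨-, hk⟩
        · exact hLtop (hK hKt)
        · rw [hk, hp3'] at hc
          rcases hc with ⟨hc, -⟩ | ⟨hc, -⟩ <;> omega
      · exact hne h60
    · obtain ⟨a, b, ha, hb, hab⟩ := Cfsg.Agent.Helper18.Dickson.exists_sq_of_equiv M e
        Cfsg.Agent.Helper18.Dickson.exists_sq_A5
      rw [← hcM] at hpM
      rcases Cfsg.Agent.Helper18.Dickson.overgroup_cases p hp2 M L hle a b ha hb hab hpM with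
        ⟨-, h' | h' | h'⟩ | ⟨-, ⟨K, s, hs, hs1, hK, hc⟩ | ⟨h3, -⟩⟩
      · obtain ⟨e'⟩ := h'
        rw [Nat.card_congr e'.toEquiv, Cfsg.Agent.Helper18.Dickson.card_A4] at hdvd
        omega
      · obtain ⟨e'⟩ := h'
        rw [Nat.card_congr e'.toEquiv, Cfsg.Agent.Helper18.Dickson.card_S4] at hdvd
        omega
      · obtain ⟨e'⟩ := h'
        exact hne (by rw [Nat.card_congr e'.toEquiv]; exact Cfsg.Agent.Helper18.Dickson.card_A5)
      · rcases hsub K s hs hs1 with hKt | ⟨hn2, hk⟩
        · exact hLtop (hK hKt)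
        · -- `k = p`, `p ≡ ±3 (mod 10)`: `5 ∤ p (p² - 1)`
          have h10 : p % 10 = 3 ∨ p % 10 = 7 := by
            rcases h with ⟨hF, -⟩ | ⟨-, h10⟩
            · rw [hFn, hn2] at hF
              have h1 : p ^ 2 = p ^ 1 := by rw [hF, pow_one]
              have := Nat.pow_right_injective hpp.two_le h1
              omega
            · exact h10
          rw [hk] at hc
          obtain ⟨m, hm⟩ : ∃ m, p = m + 1 := ⟨p - 1, by omega⟩
          have hprod : (p + 1) * ((p - 1) * p) = (m + 2) * (m * (m + 1)) := by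
            rw [hm]; simp
          have h5' : (p + 1) * ((p - 1) * p) % 5 ≠ 0 := by
            rw [hprod]
            have hm5 : m % 5 = 1 ∨ m % 5 = 2 := by omega
            rcases hm5 with h | h <;>
            · rw [Nat.mul_mod, Nat.mul_mod m, Nat.add_mod m 2, Nat.add_mod m 1, h]; norm_num
          obtain ⟨c, hc'⟩ := hdvd
          rcases hc with hc | ⟨hc, -⟩ <;> omega
      · apply hpM
        rw [hcM, h3]; norm_num

end Cfsg.Agent.S5939
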