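import Cfsg.Statements.S5940
import Cfsg.Agent.Helper18.Dickson34
import Cfsg.Agent.S0802

set_option autoImplicit false
open Cfsg

namespace Cfsg.Agent.S5940

/-- Let p ≥ 5 be a prime with p ≡ ±3 (mod 8) and p ≢ ±1 (mod 10), and F a field with p elements. Then PSL_2(F) has a maximal subgroup isomorphic to the alternating group A_4. -/
theorem result {F : Type*} [Field F] [Fintype F] (p : ℕ) [Fact p.Prime] (hF : Fintype.card F = p) (h5 : 5 ≤ p) (h8 : p % 8 = 3 ∨ p % 8 = 5) (h10 : p % 10 ≠ 1 ∧ p % 10 ≠ 9) : ∃ H : Subgroup (Matrix.ProjectiveSpecialLinearGroup (Fin 2) F), IsCoatom H ∧ Nonempty (H ≃* alternatingGroup (Fin 4)) := by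
  classical
  have hpp : p.Prime := Fact.out
  have : CharP F p := Cfsg.Agent.Helper18.Dickson.charP_of_card_prime p hF
  have hp2 : p ≠ 2 := by rintro rfl; omega
  have h2F : (2 : F) ≠ 0 := Cfsg.Agent.Helper18.Dickson.two_ne_zero_of_char (E := F) p hp2
  obtain ⟨M, ⟨e⟩⟩ := (Cfsg.Agent.S0802.result p 1 (by rw [hF, pow_one])).2
    (fun h => hp2 h.1)
  refine ⟨M, ?_, ⟨e⟩⟩
  have hcM : Nat.card M = 12 := by
    rw [Nat.card_congr e.toEquiv]; exact Cfsg.Agent.Helper18.Dickson.card_A4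
  have hcP := Cfsg.Agent.Helper18.Dickson.two_mul_card_psl (F := F) h2F
  rw [hF] at hcP
  have hbig : 2 * 12 < (p + 1) * ((p - 1) * p) := by
    have : 6 * (4 * 5) ≤ (p + 1) * ((p - 1) * p) :=
      Nat.mul_le_mul (by omega) (Nat.mul_le_mul (by omega) h5)
    omega
  obtain ⟨a, b, ha, hb, hab⟩ := Cfsg.Agent.Helper18.Dickson.exists_sq_of_equiv M e
    Cfsg.Agent.Helper18.Dickson.exists_sq_A4
  have hpM : ¬ p ∣ Nat.card M := by
    rw [hcM]
    intro h
    have h12 : p ∣ 2 ^ 2 * 3 := by norm_num; exact h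
    rcases (Nat.Prime.dvd_mul hpp).1 h12 with h1 | h1
    · have := (Nat.prime_dvd_prime_iff_eq hpp Nat.prime_two).1 (hpp.dvd_of_dvd_pow h1)
      omega
    · have := (Nat.prime_dvd_prime_iff_eq hpp Nat.prime_three).1 h1
      omega
  -- arithmetic of `|PSL₂(p)|`
  obtain ⟨m, hm⟩ : ∃ m, p = m + 1 := ⟨p - 1, by omega⟩
  have hprod : (p + 1) * ((p - 1) * p) = (m + 2) * (m * (m + 1)) := by
    rw [hm]; simp
  have h16 : (p + 1) * ((p - 1) * p) % 16 = 8 := by
    rw [hprod]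
    have hp16 : p % 16 = 3 ∨ p % 16 = 5 ∨ p % 16 = 11 ∨ p % 16 = 13 := by omega
    have hm16 : m % 16 = 2 ∨ m % 16 = 4 ∨ m % 16 = 10 ∨ m % 16 = 12 := by omega
    rcases hm16 with h | h | h | h <;>
    · rw [Nat.mul_mod, Nat.mul_mod m, Nat.add_mod m 2, Nat.add_mod m 1, h]
  have h5' : p % 5 ≠ 0 → (p + 1) * ((p - 1) * p) % 5 ≠ 0 := by
    intro hp5
    rw [hprod]
    have hpodd : p % 2 = 1 := by omega
    have hp5' : p % 10 = 3 ∨ p % 10 = 7 := by omega
    have hm5 : m % 5 = 1 ∨ m % 5 = 2 := by omega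
    rcases hm5 with h | h <;>
    · rw [Nat.mul_mod, Nat.mul_mod m, Nat.add_mod m 2, Nat.add_mod m 1, h]; norm_num
  constructor
  · intro htop
    rw [htop, Subgroup.card_top] at hcM
    omega
  · intro L hML
    by_contra hLtop
    have hle : M ≤ L := hML.le
    have hdvdP : Nat.card L ∣ Nat.card (Matrix.ProjectiveSpecialLinearGroup (Fin 2) F) :=
      Subgroup.card_subgroup_dvd_card L
    have hne : Nat.card L ≠ 12 := by
      intro h
      exact hML.ne (Subgroup.eq_of_le_of_card_ge hle (by rw [h, hcM]))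
    rcases Cfsg.Agent.Helper18.Dickson.overgroup_cases p hp2 M L hle a b ha hb hab hpM with
      ⟨hpL, h | h | h⟩ | ⟨-, ⟨K, s, hs, -, hK, -⟩ | ⟨h3, -⟩⟩
    · obtain ⟨e'⟩ := h
      exact hne (by rw [Nat.card_congr e'.toEquiv]; exact Cfsg.Agent.Helper18.Dickson.card_A4)
    · obtain ⟨e'⟩ := h
      rw [Nat.card_congr e'.toEquiv, Cfsg.Agent.Helper18.Dickson.card_S4] at hdvdP
      obtain ⟨c, hc⟩ := hdvdP
      rw [hc] at hcP
      omega
    · obtain ⟨e'⟩ := h
      have hcL : Nat.card L = 60 := by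
        rw [Nat.card_congr e'.toEquiv]; exact Cfsg.Agent.Helper18.Dickson.card_A5
      rw [hcL] at hdvdP hpL
      have hp5 : p % 5 ≠ 0 := by
        intro h0
        apply hpL
        have : 5 ∣ p := Nat.dvd_of_mod_eq_zero h0
        have := (Nat.prime_dvd_prime_iff_eq Nat.prime_five hpp).1 this
        rw [← this]; norm_num
      have := h5' hp5
      obtain ⟨c, hc⟩ := hdvdP
      rw [hc] at hcP
      omega
    · exact hLtop (hK (Cfsg.Agent.Helper18.Dickson.eq_top_of_prime_field p hF K s hs))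
    · omega

end Cfsg.Agent.S5940
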