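import Cfsg.Statements.S5943
-- import your own Cfsg.Agent.* helpers here
import Cfsg.Agent.Helper11.L2EG

set_option autoImplicit false
open Cfsg

namespace Cfsg.Agent.S5943


theorem exists_ne_zero_one {F : Type*} [Field F] [Fintype F] (K₀ : Subfield F)
    (h : 3 ≤ Nat.card K₀) : ∃ c ∈ K₀, c ≠ 0 ∧ c ≠ 1 := by
  classical
  by_contra hcon
  push Not at hcon
  have hsub : (K₀ : Set F) ⊆ ({0, 1} : Set F) := by
    intro c hc
    by_cases h0 : c = 0
    · left; exact h0
    · right; exact hcon c hc h0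
  have h1 : (K₀ : Set F).ncard ≤ ({0, 1} : Set F).ncard := Set.ncard_le_ncard hsub (Set.toFinite _)
  have h2 : ({0, 1} : Set F).ncard ≤ 2 := by rw [Set.ncard_pair (zero_ne_one)]
  have h3 : Nat.card K₀ = (K₀ : Set F).ncard := rfl
  omega

/-- Let K and F be finite fields of characteristic 2 with #K = q > 2 and #F = q^r for a prime r. Then PSL_2(F) has a maximal subgroup isomorphic to PSL_2(K) (which equals PGL_2(K) in characteristic 2). -/
theorem result {F K : Type*} [Field F] [Fintype F] [Field K] [Fintype K] (q r : ℕ) (hK : Fintype.card K = q) (hF : Fintype.card F = q ^ r) (hq : Even q) (hq2 : q ≠ 2) (hr : r.Prime) : ∃ H : Subgroup (Matrix.ProjectiveSpecialLinearGroup (Fin 2) F), IsCoatom H ∧ Nonempty (H ≃* Matrix.ProjectiveSpecialLinearGroup (Fin 2) K) := by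
  classical
  open Cfsg.Agent.Helper11.L2E Cfsg.Agent.Helper11.SCTI Cfsg.Agent.Helper11.FinSub in
  have : Fact (Nat.Prime 2) := ⟨Nat.prime_two⟩
  have hcharK : CharP K 2 := charP_two_of_even (by rw [hK]; exact hq)
  have hcharF : CharP F 2 := charP_two_of_even (by
    rw [hF]; exact (Nat.even_pow' hr.pos.ne').mpr hq)
  obtain ⟨a, -, ha⟩ := FiniteField.card K 2
  rw [hK] at ha
  have ha2 : 2 ≤ (a : ℕ) := by
    by_contra hlt
    have : (a : ℕ) = 1 := by have := a.pos; omega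
    rw [this, pow_one] at ha
    exact hq2 ha
  have hFN : Fintype.card F = 2 ^ ((a : ℕ) * r) := by rw [hF, ha, pow_mul]
  obtain ⟨K₀, hK₀⟩ := exists_subfield (F := F) 2 ((a : ℕ) * r) a hFN a.ne_zero ⟨r, rfl⟩
  have hK₀q : Nat.card K₀ = q := by rw [hK₀, ha]
  have h4 : 4 ≤ Nat.card K₀ := by
    rw [hK₀]
    calc 4 = 2 ^ 2 := by norm_num
      _ ≤ 2 ^ (a : ℕ) := Nat.pow_le_pow_right (by norm_num) ha2
  have hex := exists_ne_zero_one K₀ (by omega)
  have hco := isCoatom_SL2K K₀ hex r hr (by rw [hK₀q, hF])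
  let e := slEquivPSL F
  refine ⟨(SL2K K₀).map e.toMonoidHom, (e.mapSubgroup.isCoatom_iff _).mpr hco, ?_⟩
  let _ : Fintype K₀ := Fintype.ofFinite K₀
  have eK : K₀ ≃+* K :=
    FiniteField.ringEquivOfCardEq (by rw [← Nat.card_eq_fintype_card, hK₀q, hK])
  obtain ⟨e1⟩ := nonempty_SL2K_equiv K₀
  exact ⟨(e.subgroupMap (SL2K K₀)).symm.trans (e1.trans ((slCongr eK).trans (slEquivPSL K)))⟩

end Cfsg.Agent.S5943
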