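import Cfsg.Statements.S5944
import Mathlib

set_option autoImplicit false
open Cfsg

namespace Cfsg.Agent.S5944

theorem index_le_two_absurd {α : Type*} [Fintype α] [DecidableEq α] (H : Subgroup (Equiv.Perm α))
    (hH : H ≠ ⊤) (hA : H ≠ alternatingGroup α) (h2 : H.index ≤ 2) : False := by
  have hle : alternatingGroup α ≤ H := Equiv.Perm.alternatingGroup_le_of_index_le_two h2
  have hpos : H.index ≠ 0 := Subgroup.index_ne_zero_of_finite
  have h1 : H.index ≠ 1 := fun h => hH (Subgroup.index_eq_one.mp h)
  have h2' : H.index = 2 := by omega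
  exact hA (Equiv.Perm.eq_alternatingGroup_of_index_eq_two h2')

theorem result (n : ℕ) (hn : n ≠ 4) (H : Subgroup (Equiv.Perm (Fin n))) (hH : H ≠ ⊤) (hA : H ≠ alternatingGroup (Fin n)) : n ≤ H.index := by
  by_contra hlt
  push Not at hlt
  have hpos : H.index ≠ 0 := Subgroup.index_ne_zero_of_finite
  rcases Nat.lt_or_ge n 4 with h4 | h4
  · exact index_le_two_absurd H hH hA (by omega)
  · have h5 : 5 ≤ n := by omega
    -- the normal core is nontrivial
    have hcard : Nat.card (Equiv.Perm (Fin n)) = n.factorial := by
      rw [Nat.card_perm, Nat.card_eq_fintype_card, Fintype.card_fin]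
    have hcore : H.normalCore ≠ ⊥ := by
      intro hbot
      have h1 : H.normalCore.index = n.factorial := by
        rw [hbot, Subgroup.index_bot, hcard]
      rw [Subgroup.normalCore_eq_ker, Subgroup.index_ker] at h1
      have h2 : Nat.card (MulAction.toPermHom (Equiv.Perm (Fin n)) (Equiv.Perm (Fin n) ⧸ H)).range
          ≤ Nat.card (Equiv.Perm (Equiv.Perm (Fin n) ⧸ H)) :=
        Nat.card_le_card_of_injective _ Subtype.val_injective
      rw [h1, Nat.card_perm] at h2
      have h3 : Nat.card (Equiv.Perm (Fin n) ⧸ H) = H.index := rfl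
      rw [h3] at h2
      have : H.index.factorial < n.factorial := Nat.factorial_lt_of_lt (Nat.pos_of_ne_zero hpos) hlt
      omega
    have hnt : Nontrivial H.normalCore := (Subgroup.nontrivial_iff_ne_bot _).mpr hcore
    have hle : alternatingGroup (Fin n) ≤ H.normalCore :=
      Equiv.Perm.alternatingGroup_le_of_normal (by simpa using h5) hnt
    have hle' : alternatingGroup (Fin n) ≤ H := hle.trans (Subgroup.normalCore_le H)
    have hidx : H.index ∣ (alternatingGroup (Fin n)).index := Subgroup.index_dvd_of_le hle'
    have hn2 : Nontrivial (Fin n) := Fin.nontrivial_iff_two_le.mpr (by omega)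
    rw [alternatingGroup.index_eq_two] at hidx
    exact index_le_two_absurd H hH hA (Nat.le_of_dvd (by norm_num) hidx)

end Cfsg.Agent.S5944
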