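import Cfsg.Statements.S5945
import Cfsg.Agent.Helper29.Sym6Main
-- import your own Cfsg.Agent.* helpers here

set_option autoImplicit false
open Cfsg

namespace Cfsg.Agent.S5945

/-- The symmetric group S_6 has exactly 12 subgroups of index 6; each of them is isomorphic to S_5, and at least one of them is not the stabilizer of any point. -/
theorem result : Nat.card {H : Subgroup (Equiv.Perm (Fin 6)) // H.index = 6} = 12 ∧ (∀ H : Subgroup (Equiv.Perm (Fin 6)), H.index = 6 → Nonempty (H ≃* Equiv.Perm (Fin 5))) ∧ ∃ H : Subgroup (Equiv.Perm (Fin 6)), H.index = 6 ∧ ∀ a : Fin 6, H ≠ MulAction.stabilizer (Equiv.Perm (Fin 6)) a := by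
  classical
  have h6 : Fintype.card (Fin 6) = 6 := Fintype.card_fin 6
  obtain ⟨H₂, hidx, htr, hiso, hclass⟩ :=
    Cfsg.Agent.Helper29.Sym6.classification (Ω := Fin 6) h6
  have hs₂ : ∀ a : Fin 6, H₂ ≠ MulAction.stabilizer (Equiv.Perm (Fin 6)) a := by
    intro x hx
    obtain ⟨y, hy⟩ := exists_ne x
    obtain ⟨h, hh, hhx⟩ := htr x y
    rw [hx, MulAction.mem_stabilizer_iff] at hh
    exact hy (hhx.symm.trans hh)
  refine ⟨?_, ?_, ⟨H₂, hidx, hs₂⟩⟩
  · -- the count
    obtain ⟨Φ, hΦ⟩ := Cfsg.Agent.Helper29.Sym6.exists_coset_iso (Ω := Fin 6) (by simp) H₂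
      (by rw [hidx, h6])
    have hΦsmul : ∀ (g : Equiv.Perm (Fin 6)) (y : Equiv.Perm (Fin 6) ⧸ H₂), Φ g y = g • y := by
      intro g y
      obtain ⟨q, rfl⟩ := QuotientGroup.mk_surjective y
      rw [hΦ]; rfl
    have hcardQ : Nat.card (Equiv.Perm (Fin 6) ⧸ H₂) = 6 := by
      rw [← Subgroup.index_eq_card, hidx]
    have hidxQ : ∀ y : Equiv.Perm (Fin 6) ⧸ H₂,
        (MulAction.stabilizer (Equiv.Perm (Fin 6)) y).index = 6 := by
      intro y
      rw [MulAction.index_stabilizer_of_transitive, hcardQ]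
    -- stabilizers of cosets are conjugates of H₂
    have hstab : ∀ g : Equiv.Perm (Fin 6),
        MulAction.stabilizer (Equiv.Perm (Fin 6)) ((g : Equiv.Perm (Fin 6)) :
          Equiv.Perm (Fin 6) ⧸ H₂) = Subgroup.map (MulAut.conj g).toMonoidHom H₂ := by
      intro g
      have e : ((g : Equiv.Perm (Fin 6)) : Equiv.Perm (Fin 6) ⧸ H₂) =
          g • ((1 : Equiv.Perm (Fin 6)) : Equiv.Perm (Fin 6) ⧸ H₂) := by
        rw [MulAction.Quotient.smul_mk, smul_eq_mul, mul_one]
      rw [e, MulAction.stabilizer_smul_eq_stabilizer_map_conj, MulAction.stabilizer_quotient]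
    let F : Fin 6 ⊕ (Equiv.Perm (Fin 6) ⧸ H₂) → {H : Subgroup (Equiv.Perm (Fin 6)) // H.index = 6} :=
      fun s => Sum.elim
        (fun a => ⟨MulAction.stabilizer (Equiv.Perm (Fin 6)) a, by
          rw [Cfsg.Agent.Helper29.SymIndex.index_stabilizer_perm, h6]⟩)
        (fun y => ⟨MulAction.stabilizer (Equiv.Perm (Fin 6)) y, hidxQ y⟩) s
    have hFl : ∀ a, (F (Sum.inl a)).1 = MulAction.stabilizer (Equiv.Perm (Fin 6)) a := fun _ => rfl
    have hFr : ∀ y, (F (Sum.inr y)).1 = MulAction.stabilizer (Equiv.Perm (Fin 6)) y := fun _ => rfl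
    -- a conjugate of H₂ is not a point stabilizer
    have hmix : ∀ (a : Fin 6) (y : Equiv.Perm (Fin 6) ⧸ H₂),
        MulAction.stabilizer (Equiv.Perm (Fin 6)) a ≠
          MulAction.stabilizer (Equiv.Perm (Fin 6)) y := by
      intro a y heq
      obtain ⟨g, rfl⟩ := QuotientGroup.mk_surjective y
      rw [hstab] at heq
      obtain ⟨a', ha'⟩ := exists_ne a
      obtain ⟨h, hh, hhx⟩ := htr (g⁻¹ a) (g⁻¹ a')
      have hmem : g * h * g⁻¹ ∈ Subgroup.map (MulAut.conj g).toMonoidHom H₂ := ⟨h, hh, rfl⟩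
      rw [← heq, MulAction.mem_stabilizer_iff] at hmem
      have h2 : (g * h * g⁻¹) a = a' := by
        simp only [Equiv.Perm.mul_apply, hhx]
        simp
      exact ha' (h2.symm.trans hmem)
    have hFinj : Function.Injective F := by
      intro s s' hss
      have hss' := congrArg Subtype.val hss
      rcases s with a | y <;> rcases s' with a' | y'
      · rw [hFl, hFl] at hss'
        rw [Cfsg.Agent.Helper29.Sym6.stabilizer_injective (by simp) a a' hss']
      · rw [hFl, hFr] at hss'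
        exact absurd hss' (hmix a y')
      · rw [hFr, hFl] at hss'
        exact absurd hss'.symm (hmix a' y)
      · rw [hFr, hFr] at hss'
        congr 1
        by_contra hne
        -- a permutation of the cosets fixing y and moving y'
        letI : Fintype (Equiv.Perm (Fin 6) ⧸ H₂) := Fintype.ofFinite _
        have hlt : ({y, y'} : Finset (Equiv.Perm (Fin 6) ⧸ H₂)).card <
            (Finset.univ : Finset (Equiv.Perm (Fin 6) ⧸ H₂)).card := by
          rw [Finset.card_univ, ← Nat.card_eq_fintype_card, hcardQ]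
          exact lt_of_le_of_lt Finset.card_le_two (by norm_num)
        obtain ⟨c, -, hc⟩ := Finset.exists_mem_notMem_of_card_lt_card hlt
        simp only [Finset.mem_insert, Finset.mem_singleton, not_or] at hc
        obtain ⟨g, hg⟩ := Φ.surjective (Equiv.swap y' c)
        have h1 : g ∈ MulAction.stabilizer (Equiv.Perm (Fin 6)) y := by
          rw [MulAction.mem_stabilizer_iff, ← hΦsmul, hg]
          exact Equiv.swap_apply_of_ne_of_ne hne (Ne.symm hc.1)
        rw [hss', MulAction.mem_stabilizer_iff, ← hΦsmul, hg, Equiv.swap_apply_left] at h1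
        exact hc.2 h1
    have hFsurj : Function.Surjective F := by
      rintro ⟨H, hH⟩
      rcases hclass H hH with ⟨x, hx⟩ | ⟨g, hg⟩
      · exact ⟨Sum.inl x, Subtype.ext ((hFl x).trans hx.symm)⟩
      · exact ⟨Sum.inr ((g : Equiv.Perm (Fin 6)) : Equiv.Perm (Fin 6) ⧸ H₂),
          Subtype.ext ((hFr _).trans ((hstab g).trans hg))⟩
    rw [← Nat.card_congr (Equiv.ofBijective F ⟨hFinj, hFsurj⟩), Nat.card_sum, hcardQ,
      Nat.card_eq_fintype_card, h6]
  · intro H hH
    rcases hclass H hH with ⟨x, hx⟩ | ⟨g, hg⟩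
    · rw [hx]
      exact Cfsg.Agent.Helper29.Sym6.stabilizer_equiv x 5 (by simp)
    · obtain ⟨e⟩ := hiso
      rw [← hg]
      exact ⟨((MulAut.conj g).subgroupMap H₂).symm.trans e⟩

end Cfsg.Agent.S5945
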