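import Cfsg.Statements.S5946
import Mathlib

set_option autoImplicit false
open Cfsg

namespace Cfsg.Agent.S5946

/-- The Singer group of GL_F(K) is self-centralizing. -/
theorem result {F K : Type*} [Field F] [Fintype F] [Field K] [Fintype K] [Algebra F K] (n : ℕ) (hn : 2 ≤ n) (hdim : Module.finrank F K = n) :
    Subgroup.centralizer (((Units.map ((Algebra.lmul F K : K →ₐ[F] Module.End F K) : K →* Module.End F K)).range : Subgroup (Module.End F K)ˣ) : Set (Module.End F K)ˣ) = (Units.map ((Algebra.lmul F K : K →ₐ[F] Module.End F K) : K →* Module.End F K)).range := by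
  apply le_antisymm
  · intro T hT
    rw [Subgroup.mem_centralizer_iff] at hT
    -- T commutes with all multiplications by units
    have hcomm : ∀ (k : Kˣ) (x : K), (T : Module.End F K) ((k : K) * x) = (k : K) * (T : Module.End F K) x := by
      intro k x
      have h := hT (Units.map ((Algebra.lmul F K : K →ₐ[F] Module.End F K) : K →* Module.End F K) k) ⟨k, rfl⟩
      have h2 := congrArg (fun u : (Module.End F K)ˣ => (u : Module.End F K) x) h
      simp only [Units.val_mul, Units.coe_map, Module.End.mul_apply] at h2
      simpa using h2.symm
    have hT1 : (T : Module.End F K) 1 ≠ 0 := by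
      intro h0
      have hinj : Function.Injective (T : Module.End F K) := by
        intro a b hab
        have h1 : ((T⁻¹ : (Module.End F K)ˣ) : Module.End F K) ((T : Module.End F K) a) = a := by
          rw [← Module.End.mul_apply, ← Units.val_mul, inv_mul_cancel]; rfl
        have h2 : ((T⁻¹ : (Module.End F K)ˣ) : Module.End F K) ((T : Module.End F K) b) = b := by
          rw [← Module.End.mul_apply, ← Units.val_mul, inv_mul_cancel]; rfl
        rw [← h1, ← h2, hab]
      have : (1 : K) = 0 := hinj (by rw [h0, map_zero])
      exact one_ne_zero this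
    refine ⟨Units.mk0 _ hT1, ?_⟩
    apply Units.ext
    apply LinearMap.ext
    intro x
    simp only [Units.coe_map]
    by_cases hx : x = 0
    · subst hx; simp
    · have := hcomm (Units.mk0 x hx) 1
      simp only [Units.val_mk0, mul_one] at this
      rw [this]
      simp [mul_comm]
  · intro T hT
    rw [Subgroup.mem_centralizer_iff]
    rintro S ⟨k, rfl⟩
    obtain ⟨l, rfl⟩ := hT
    rw [← map_mul, ← map_mul, mul_comm]

end Cfsg.Agent.S5946
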