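import Cfsg.Statements.S5949
import Cfsg.Agent.Helper21.S5949IRR
import Cfsg.Agent.Helper3.S5949NTS
import Cfsg.Agent.Helper3.S5949NT1
import Cfsg.Agent.Helper3.S5949NT2
import Cfsg.Agent.Helper3.S5949NT3
import Cfsg.Agent.Helper21.S5949CYCMAIN
import Cfsg.Agent.Helper14.S5949MODELCYC
import Cfsg.Agent.Helper17.S5949MODELKUM

set_option autoImplicit false
open scoped MatrixGroups
open Cfsg

namespace Cfsg.Agent.S5949

open Polynomial Cfsg.Agent.S5949P

theorem arith_exists (n m a i b : ℕ) (_hi : 0 < i) (hm : m ≤ n) (ha : a + i * b = n)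
    (hmod : m % i ≤ n % i) : ∃ a' b', a' ≤ a ∧ a + i * b' ≤ n ∧ a' + i * b' = m := by
  by_cases h : b ≤ m / i
  · have h1 : i * b ≤ m := le_trans (Nat.mul_le_mul_left i h) (Nat.mul_div_le m i)
    exact ⟨m - i * b, b, by omega, by omega, by omega⟩
  · push Not at h
    have h1 : n % i = a % i := by rw [← ha, Nat.add_mul_mod_self_left]
    have h2 : a % i ≤ a := Nat.mod_le a i
    have h3 : m % i + i * (m / i) = m := Nat.mod_add_div m i
    have h4 : i * (m / i) ≤ i * b := Nat.mul_le_mul_left i h.le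
    exact ⟨m % i, m / i, by omega, by omega, h3⟩

/-- Elements of prime order of PSL_n(q) with no fixed `m`-space. Here `T = PSL_n(F)` for a field `F` with `q = p^f` elements (`n ≥ 2`, `(n, q) ≠ (2, 2), (2, 3)`); an element of `T` of prime order `r` is represented by a matrix `x` of determinant 1 with `x^r` scalar and `x` not scalar; `i` denotes the multiplicative order of `q` modulo `r` (when `r ≠ p`), and `(a)_r` the `r`-part of `a`. Let `1 ≤ m ≤ n/2` and let `r` be a prime dividing the number of `m`-dimensional subspaces of `F^n`. Then every element of `T` of order `r` fixes some `m`-dimensional subspace (the action on `m`-spaces is `r`-elusive) if and only if `r ≠ p` and either (i) `i = 1` and (`r ∣ m`, or `(q−1)_r ≥ (n)_r` where in addition `q ≡ 1 (mod 4)` is required when `r = 2` and `n` is even), or (ii) `2 ≤ i ≤ m` and `n mod i ≥ m mod i`. -/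
theorem result {F : Type*} [Field F] [Fintype F] {p : ℕ} [Fact p.Prime] [CharP F p] {q : ℕ} (hq : Fintype.card F = q)
    (n m : ℕ) (hn : 2 ≤ n) (hT : (n, q) ≠ (2, 2) ∧ (n, q) ≠ (2, 3)) (hm : 1 ≤ m) (hmn : 2 * m ≤ n)
    (r : ℕ) [Fact r.Prime] (hrΩ : r ∣ Nat.card {W : Submodule F (Fin n → F) // Module.finrank F ↥W = m}) :
    (∀ x : Matrix.SpecialLinearGroup (Fin n) F,
      (∃ c : F, ((x ^ r : Matrix.SpecialLinearGroup (Fin n) F) : Matrix (Fin n) (Fin n) F) = c • (1 : Matrix (Fin n) (Fin n) F)) →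
      (∀ c : F, (x : Matrix (Fin n) (Fin n) F) ≠ c • (1 : Matrix (Fin n) (Fin n) F)) →
      ∃ W : Submodule F (Fin n → F), Module.finrank F ↥W = m ∧ W.map (Matrix.toLin' (x : Matrix (Fin n) (Fin n) F)) ≤ W) ↔
    (r ≠ p ∧
      ((orderOf (q : ZMod r) = 1 ∧ (r ∣ m ∨ (padicValNat r n ≤ padicValNat r (q - 1) ∧ (r = 2 → Even n → q % 4 = 1)))) ∨
       (2 ≤ orderOf (q : ZMod r) ∧ orderOf (q : ZMod r) ≤ m ∧ m % orderOf (q : ZMod r) ≤ n % orderOf (q : ZMod r)))) := by
  classical
  subst hq
  have hrpr : r.Prime := Fact.out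
  have hmn' : m ≤ n := by omega
  obtain ⟨hrp, k, hk1, hk2, hik⟩ := nt_of_dvd_card (F := F) (p := p) n m hm hmn' r hrΩ
  have hipos : 0 < orderOf ((Fintype.card F : ℕ) : ZMod r) := orderOf_card_pos (p := p) r hrp
  obtain ⟨i, hi⟩ : ∃ i : ℕ, i = orderOf ((Fintype.card F : ℕ) : ZMod r) := ⟨_, rfl⟩
  rw [← hi] at hik hipos ⊢
  have hnV : Module.finrank F (Fin n → F) = n := Module.finrank_fin_fun F
  constructor
  · -- every element of order `r` fixes an `m`-space ⇒ the arithmetic condition
    intro hall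
    refine ⟨hrp, ?_⟩
    by_cases hi1 : i = 1
    · left
      refine ⟨hi1, ?_⟩
      by_contra hcon
      rw [not_or] at hcon
      obtain ⟨hrm, hcond⟩ := hcon
      have hr1 : r ∣ Fintype.card F - 1 :=
        (orderOf_card_eq_one_iff (F := F) r).1 (by rw [← hi]; exact hi1)
      obtain ⟨hrn, c, hc, hdet⟩ := nt_exists_nonpower (F := F) r hr1 n (by omega) hcond
      obtain ⟨x, hx⟩ := model_kum r n hrn c hc hdet
      have hxns : ∀ d : F, (x : Matrix (Fin n) (Fin n) F) ≠ d • (1 : Matrix (Fin n) (Fin n) F) := by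
        intro d hd
        rw [hd, _root_.smul_pow, one_pow] at hx
        have h00 := congrFun (congrFun hx ⟨0, by omega⟩) ⟨0, by omega⟩
        simp only [Matrix.smul_apply, Matrix.one_apply_eq, smul_eq_mul, mul_one] at h00
        exact hc d h00
      obtain ⟨W, hWm, hWinv⟩ :=
        hall x ⟨c, by rw [Matrix.SpecialLinearGroup.coe_pow]; exact hx⟩ hxns
      have hirr := X_pow_sub_C_irreducible_of_prime hrpr hc
      have hmon : (X ^ r - C c : F[X]).Monic := monic_X_pow_sub_C c hrpr.ne_zero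
      have hae : aeval (Matrix.toLin' (x : Matrix (Fin n) (Fin n) F)) (X ^ r - C c) = 0 := by
        rw [map_sub, map_pow, aeval_X, aeval_C, ← Matrix.toLin'_pow, hx, map_smul,
          Matrix.toLin'_one, Algebra.algebraMap_eq_smul_one]
        exact sub_self _
      have := (irr_module _ _ hirr hmon hae).2.1 W hWinv
      rw [natDegree_X_pow_sub_C, hWm] at this
      exact hrm this
    · right
      have hi2 : 2 ≤ i := by omega
      have hin : i ≤ n := le_trans (Nat.le_of_dvd (by omega) hik) hk2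
      obtain ⟨x, hx1, hxns, hker⟩ := model_cyc (p := p) r hrp n (hi ▸ hi2) (hi ▸ hin)
      rw [← hi] at hker
      obtain ⟨W, hWm, hWinv⟩ :=
        hall x ⟨1, by rw [Matrix.SpecialLinearGroup.coe_pow, hx1, one_smul]⟩ hxns
      have hfr : (Matrix.toLin' (x : Matrix (Fin n) (Fin n) F)) ^ r = 1 := by
        rw [← Matrix.toLin'_pow, hx1, Matrix.toLin'_one]; rfl
      obtain ⟨a', b', ha', hW⟩ := (cyc_main (p := p) r hrp _ hfr).2.1 W hWinv
      rw [hker] at ha'
      rw [← hi, hWm] at hW
      have ha'i : a' < i := lt_of_le_of_lt ha' (Nat.mod_lt _ hipos)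
      have hmod : m % i = a' := by
        rw [hW, Nat.add_mul_mod_self_left]; exact Nat.mod_eq_of_lt ha'i
      refine ⟨hi2, ?_, by rw [hmod]; exact ha'⟩
      by_contra hlt
      push Not at hlt
      have hmm : m % i = m := Nat.mod_eq_of_lt hlt
      have h1 : m ≤ n % i := by rw [← hmm, hmod]; exact ha'
      obtain ⟨t, rfl⟩ := hik
      have h2 : t ≤ n / i := (Nat.le_div_iff_mul_le hipos).2 (by rw [mul_comm]; exact hk2)
      have h3 : i * t ≤ i * (n / i) := Nat.mul_le_mul_left i h2
      have h4 : n % i + i * (n / i) = n := Nat.mod_add_div n i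
      omega
  · -- the arithmetic condition ⇒ every element of order `r` fixes an `m`-space
    rintro ⟨-, hcases⟩ x ⟨c, hxc⟩ hxns
    rw [Matrix.SpecialLinearGroup.coe_pow] at hxc
    obtain ⟨f, hfdef⟩ : ∃ f : Module.End F (Fin n → F),
      f = Matrix.toLin' (x : Matrix (Fin n) (Fin n) F) := ⟨_, rfl⟩
    rw [← hfdef]
    have hfr : f ^ r = c • (1 : Module.End F (Fin n → F)) := by
      rw [hfdef, ← Matrix.toLin'_pow, hxc, map_smul, Matrix.toLin'_one]; rfl
    have hc0 : c ≠ 0 := by
      intro h0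
      have hdet : (x : Matrix (Fin n) (Fin n) F).det = 1 := x.2
      have hdd := congrArg Matrix.det hxc
      have hne : Nonempty (Fin n) := ⟨⟨0, by omega⟩⟩
      rw [Matrix.det_pow, hdet, one_pow, h0, zero_smul, Matrix.det_zero] at hdd
      exact one_ne_zero hdd
    by_cases hpow : ∃ d : F, d ^ r = c
    · obtain ⟨d, hd⟩ := hpow
      have hd0 : d ≠ 0 := by
        rintro rfl
        rw [zero_pow hrpr.ne_zero] at hd
        exact hc0 hd.symm
      have hy : (d⁻¹ • f) ^ r = 1 := by
        rw [_root_.smul_pow, hfr, smul_smul, inv_pow, hd, inv_mul_cancel₀ hc0, one_smul]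
      obtain ⟨h1, -, h3⟩ := cyc_main (p := p) r hrp (d⁻¹ • f) hy
      rw [← hi] at h1 h3
      obtain ⟨a, ha⟩ : ∃ a : ℕ, a = Module.finrank F (LinearMap.ker (d⁻¹ • f - 1)) := ⟨_, rfl⟩
      rw [← ha] at h1 h3
      have hale : a ≤ n := by
        calc a = Module.finrank F (LinearMap.ker (d⁻¹ • f - 1)) := ha
          _ ≤ Module.finrank F (Fin n → F) := Submodule.finrank_le _
          _ = n := hnV
      rw [hnV] at h1 h3
      obtain ⟨b, hb⟩ := h1
      have hab : a + i * b = n := by omega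
      have hmod : m % i ≤ n % i := by
        rcases hcases with ⟨hi1, -⟩ | ⟨-, -, h⟩
        · rw [hi1, Nat.mod_one]; exact Nat.zero_le _
        · exact h
      obtain ⟨a', b', ha', hb', hm'⟩ := arith_exists n m a i b hipos hmn' hab hmod
      obtain ⟨W, hWinv, hWdim⟩ := h3 a' b' ha' hb'
      refine ⟨W, by rw [hWdim, hm'], ?_⟩
      rintro _ ⟨v, hv, rfl⟩
      have h4 : (d⁻¹ • f) v ∈ W := hWinv ⟨v, hv, rfl⟩
      rw [LinearMap.smul_apply] at h4
      have h5 := W.smul_mem d h4
      rwa [smul_smul, mul_inv_cancel₀ hd0, one_smul] at h5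
    · push Not at hpow
      have hr1 : r ∣ Fintype.card F - 1 := by
        by_contra hnot
        obtain ⟨d, hd⟩ := (nt_coprime (F := F) r hnot).1 c
        exact hpow d hd
      have hi1 : i = 1 := by
        rw [hi]; exact (orderOf_card_eq_one_iff (F := F) r).2 hr1
      have hirr := X_pow_sub_C_irreducible_of_prime hrpr hpow
      have hmon : (X ^ r - C c : F[X]).Monic := monic_X_pow_sub_C c hrpr.ne_zero
      have hae : aeval f (X ^ r - C c) = 0 := by
        rw [map_sub, map_pow, aeval_X, aeval_C, hfr, Algebra.algebraMap_eq_smul_one, sub_self]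
      obtain ⟨hdn, -, hex, hdetf⟩ := irr_module f _ hirr hmon hae
      rw [natDegree_X_pow_sub_C, hnV] at hdn hex hdetf
      rcases hcases with ⟨-, hrm | ⟨hv, h2⟩⟩ | ⟨hi2, -, -⟩
      · obtain ⟨t, ht⟩ := hrm
        obtain ⟨W, hWinv, hWdim⟩ := hex t (by rw [mul_comm, ← ht]; exact hmn')
        exact ⟨W, by rw [hWdim, ht, mul_comm], hWinv⟩
      · exfalso
        have hdet1 : LinearMap.det f = 1 := by
          rw [hfdef, LinearMap.det_toLin']; exact x.2
        rw [hdet1] at hdetf
        have hcoef : (X ^ r - C c : F[X]).coeff 0 = -c := by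
          rw [coeff_sub, coeff_X_pow, coeff_C_zero, if_neg hrpr.ne_zero.symm, zero_sub]
        rw [hcoef] at hdetf
        have hdet' : ((-1) ^ (r + 1) * c) ^ (n / r) = 1 := by
          have h6 : (-1 : F) ^ r * -c = (-1) ^ (r + 1) * c := by rw [pow_succ]; ring
          rw [← h6]; exact hdetf.symm
        obtain ⟨d, hd⟩ := nt_rth_power (F := F) r hr1 n (by omega) hdn hv h2 c hdet'
        exact hpow d hd
      · omega

end Cfsg.Agent.S5949
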