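import Cfsg.Statements.S5950
import Cfsg.Agent.S5949
import Cfsg.Agent.Helper21.S5949Basic
import Cfsg.Agent.Helper3.S5949NTS
import Cfsg.Agent.Helper21.S5950SEMI
import Cfsg.Agent.Helper6.S5950ARITH2
import Cfsg.Agent.Helper15.S5950KDIM
import Cfsg.Agent.Helper15.S5950SPLIT
import Cfsg.Agent.Helper15.S5950COUNT
import Cfsg.Agent.Helper6.S5950EXIST
import Cfsg.Agent.Helper10.S5950JTYPE
import Cfsg.Agent.Helper10.S5950JMODEL

set_option autoImplicit false
set_option linter.style.haveILetI false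
set_option linter.unusedSectionVars false
open scoped MatrixGroups
open Cfsg

namespace Cfsg.Agent.S5950

open Polynomial Cfsg.Agent.S5949P

section Unip

variable {F : Type*} [Field F] [Fintype F] {p : ℕ} [Fact p.Prime] [CharP F p]

/-- `p` does not divide `q - 1` -/
theorem not_dvd_card_sub_one : ¬ p ∣ Fintype.card F - 1 := by
  intro h
  have h1 : p ∣ Fintype.card F := by
    have : ((Fintype.card F : ℕ) : F) = 0 := Nat.cast_card_eq_zero F
    exact (CharP.cast_eq_zero_iff F p _).1 this
  have hpos : 0 < Fintype.card F := Fintype.card_pos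
  have h2 : p ∣ 1 := by
    have := Nat.dvd_sub h1 h
    rwa [Nat.sub_sub_self hpos] at this
  exact (Fact.out : p.Prime).one_lt.ne' (Nat.dvd_one.1 h2)

/-- `(M - 1) ^ p = M ^ p - 1` for matrices in characteristic `p` -/
theorem matrix_sub_one_pow {n : ℕ} (hn : 0 < n) (M : Matrix (Fin n) (Fin n) F) :
    (M - 1) ^ p = M ^ p - 1 := by
  haveI : Nonempty (Fin n) := ⟨⟨0, hn⟩⟩
  have := sub_pow_char_of_commute (p := p) (Commute.one_right M)
  rw [one_pow] at this
  exact this

theorem toLin'_sub_one {n : ℕ} (M : Matrix (Fin n) (Fin n) F) :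
    Matrix.toLin' (M - 1) = Matrix.toLin' M - 1 := by
  rw [map_sub, Matrix.toLin'_one]; rfl

theorem unip_iff (n m : ℕ) (hn : 3 ≤ n) (hmn : 2 * m < n) :
    (∀ x : Matrix.SpecialLinearGroup (Fin n) F,
      (∃ c : F, ((x ^ p : Matrix.SpecialLinearGroup (Fin n) F) : Matrix (Fin n) (Fin n) F) = c • (1 : Matrix (Fin n) (Fin n) F)) →
      (∀ c : F, (x : Matrix (Fin n) (Fin n) F) ≠ c • (1 : Matrix (Fin n) (Fin n) F)) →
      ∃ U W : Submodule F (Fin n → F), IsCompl U W ∧ Module.finrank F ↥U = m ∧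
        U.map (Matrix.toLin' (x : Matrix (Fin n) (Fin n) F)) ≤ U ∧ W.map (Matrix.toLin' (x : Matrix (Fin n) (Fin n) F)) ≤ W) ↔
    (∀ μ : Multiset ℕ, (∀ a ∈ μ, 0 < a ∧ a ≤ p) → μ.sum = n → ∃ ν : Multiset ℕ, ν ≤ μ ∧ ν.sum = m) := by
  have hppr : p.Prime := Fact.out
  have hnV : Module.finrank F (Fin n → F) = n := Module.finrank_fin_fun F
  constructor
  · intro hall μ hμ hsum
    by_cases h2 : ∃ a ∈ μ, 2 ≤ a
    · obtain ⟨x, hxp, hxns, hjt⟩ := JT.model_unipotent (F := F) (p := p) n μ hμ hsum h2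
      obtain ⟨U, W, hUW, hUm, hUinv, hWinv⟩ :=
        hall x ⟨1, by rw [Matrix.SpecialLinearGroup.coe_pow, hxp, one_smul]⟩ hxns
      obtain ⟨N, hN⟩ : ∃ N : Module.End F (Fin n → F),
        N = Matrix.toLin' (x : Matrix (Fin n) (Fin n) F) - 1 := ⟨_, rfl⟩
      rw [← hN] at hjt
      have hNp : N ^ p = 0 := by
        rw [hN, ← toLin'_sub_one, ← Matrix.toLin'_pow, matrix_sub_one_pow (by omega), hxp, sub_self,
          map_zero]
      have hinv : ∀ X : Submodule F (Fin n → F),
          X.map (Matrix.toLin' (x : Matrix (Fin n) (Fin n) F)) ≤ X → ∀ v ∈ X, N v ∈ X := by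
        intro X hX v hv
        rw [hN, LinearMap.sub_apply]
        exact X.sub_mem (hX ⟨v, hv, rfl⟩) hv
      have hU' := hinv U hUinv
      have hW' := hinv W hWinv
      have hsplit := JT.jtype_isCompl p N U W hUW hU' hW'
      rw [hjt] at hsplit
      refine ⟨JT.jtype p (N.restrict hU'), ?_, ?_⟩
      · rw [hsplit]; exact Multiset.le_add_right _ _
      · have hNU : (N.restrict hU') ^ p = 0 := by
          refine LinearMap.ext fun w => Subtype.ext ?_
          have := Basic.pow_intertwine U.subtype (N.restrict hU') N (fun _ => rfl) p w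
          rw [hNp] at this
          exact this
        rw [JT.jtype_sum p _ hNU, hUm]
    · push Not at h2
      have h1 : ∀ a ∈ μ, a = 1 := by
        intro a ha
        have := h2 a ha
        have := (hμ a ha).1
        omega
      have hμ1 : μ = Multiset.replicate (Multiset.card μ) 1 := Multiset.eq_replicate_card.2 h1
      have hcard : Multiset.card μ = n := by
        rw [hμ1, Multiset.sum_replicate, smul_eq_mul, mul_one] at hsum
        exact hsum
      refine ⟨Multiset.replicate m 1, ?_, ?_⟩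
      · rw [hμ1, hcard]
        exact Multiset.replicate_le_replicate 1 |>.2 (by omega)
      · rw [Multiset.sum_replicate, smul_eq_mul, mul_one]
  · intro hpart x ⟨c, hxc⟩ hxns
    rw [Matrix.SpecialLinearGroup.coe_pow] at hxc
    have hc0 : c ≠ 0 := by
      intro h0
      have hdet : (x : Matrix (Fin n) (Fin n) F).det = 1 := x.2
      have hdd := congrArg Matrix.det hxc
      haveI hne : Nonempty (Fin n) := ⟨⟨0, by omega⟩⟩
      rw [Matrix.det_pow, hdet, one_pow, h0, zero_smul, Matrix.det_zero] at hdd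
      exact one_ne_zero hdd
    obtain ⟨d, hd⟩ := (nt_coprime (F := F) p not_dvd_card_sub_one).1 c
    have hd0 : d ≠ 0 := by
      rintro rfl
      rw [zero_pow hppr.ne_zero] at hd
      exact hc0 hd.symm
    obtain ⟨N, hN⟩ : ∃ N : Module.End F (Fin n → F),
      N = Matrix.toLin' (d⁻¹ • (x : Matrix (Fin n) (Fin n) F) - 1) := ⟨_, rfl⟩
    have hNp : N ^ p = 0 := by
      rw [hN, ← Matrix.toLin'_pow, matrix_sub_one_pow (by omega), _root_.smul_pow, hxc, smul_smul,
        inv_pow, hd, inv_mul_cancel₀ hc0, one_smul, sub_self, map_zero]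
    obtain ⟨μ, hμ, hsum, hex⟩ := JT.exists_jordan_type N p hNp
    rw [hnV] at hsum
    obtain ⟨ν, hν, hνm⟩ := hpart μ hμ hsum
    obtain ⟨U, W, hUW, hUinv, hWinv, hUdim⟩ := hex ν hν
    have hinv : ∀ X : Submodule F (Fin n → F), X.map N ≤ X →
        X.map (Matrix.toLin' (x : Matrix (Fin n) (Fin n) F)) ≤ X := by
      intro X hX
      rintro _ ⟨v, hv, rfl⟩
      have h1 : N v ∈ X := hX ⟨v, hv, rfl⟩
      rw [hN, toLin'_sub_one, LinearMap.sub_apply, map_smul, LinearMap.smul_apply] at h1
      have h2 : d⁻¹ • (Matrix.toLin' (x : Matrix (Fin n) (Fin n) F)) v ∈ X := by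
        have := X.add_mem h1 hv
        simpa using this
      have h3 := X.smul_mem d h2
      rwa [smul_smul, mul_inv_cancel₀ hd0, one_smul] at h3
    exact ⟨U, W, hUW, by rw [hUdim, hνm], hinv U hUinv, hinv W hWinv⟩

end Unip


/-- Elements of prime order of PSL_n(q) fixing no decomposition `F^n = U ⊕ W` with `dim U = m`. Here `T = PSL_n(F)` for a field `F` with `q = p^f` elements (`n ≥ 2`, `(n, q) ≠ (2, 2), (2, 3)`); an element of `T` of prime order `r` is represented by a matrix `x` of determinant 1 with `x^r` scalar and `x` not scalar; `i` denotes the multiplicative order of `q` modulo `r` (when `r ≠ p`), and `(a)_r` the `r`-part of `a`. Let `n ≥ 3`, `1 ≤ m < n/2`, and let `r` be a prime dividing the number of such decompositions (unordered pairs `{U, W}` of complementary subspaces with `dim U = m`; since `m ≠ n − m` these are the ordered pairs with `dim U = m`). Then every element of `T` of order `r` fixes such a pair (fixes both `U` and `W` for some complementary `U, W` with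 `dim U = m`) if and only if one of: (i) `r = p > 2` and every partition of `n` into parts of size at most `p` contains, as a sub-multiset, a partition of `m`; (ii) `r = p = 2` and `n` is odd or `m` is even; (iii) `r ≠ p`, `i = 1`, and `r ∣ m` or `(q−1)_r ≥ (n)_r` (with `q ≡ 1 (mod 4)` required when `r = 2` and `n` is even); (iv) `r ≠ p`, `2 ≤ i ≤ m` and `n mod i ≥ m mod i`. -/
theorem result {F : Type*} [Field F] [Fintype F] {p : ℕ} [Fact p.Prime] [CharP F p] {q : ℕ} (hq : Fintype.card F = q)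
    (n m : ℕ) (hn : 3 ≤ n) (hm : 1 ≤ m) (hmn : 2 * m < n)
    (r : ℕ) [Fact r.Prime]
    (hrΩ : r ∣ Nat.card {P : Submodule F (Fin n → F) × Submodule F (Fin n → F) // IsCompl P.1 P.2 ∧ Module.finrank F ↥P.1 = m}) :
    (∀ x : Matrix.SpecialLinearGroup (Fin n) F,
      (∃ c : F, ((x ^ r : Matrix.SpecialLinearGroup (Fin n) F) : Matrix (Fin n) (Fin n) F) = c • (1 : Matrix (Fin n) (Fin n) F)) →
      (∀ c : F, (x : Matrix (Fin n) (Fin n) F) ≠ c • (1 : Matrix (Fin n) (Fin n) F)) →
      ∃ U W : Submodule F (Fin n → F), IsCompl U W ∧ Module.finrank F ↥U = m ∧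
        U.map (Matrix.toLin' (x : Matrix (Fin n) (Fin n) F)) ≤ U ∧ W.map (Matrix.toLin' (x : Matrix (Fin n) (Fin n) F)) ≤ W) ↔
    ((r = p ∧ 2 < p ∧ (∀ μ : Multiset ℕ, (∀ a ∈ μ, 0 < a ∧ a ≤ p) → μ.sum = n → ∃ ν : Multiset ℕ, ν ≤ μ ∧ ν.sum = m)) ∨
     (r = p ∧ p = 2 ∧ (Odd n ∨ Even m)) ∨
     (r ≠ p ∧
      ((orderOf (q : ZMod r) = 1 ∧ (r ∣ m ∨ (padicValNat r n ≤ padicValNat r (q - 1) ∧ (r = 2 → Even n → q % 4 = 1)))) ∨
       (2 ≤ orderOf (q : ZMod r) ∧ orderOf (q : ZMod r) ≤ m ∧ m % orderOf (q : ZMod r) ≤ n % orderOf (q : ZMod r))))) := by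
  classical
  subst hq
  have hrpr : r.Prime := Fact.out
  have hppr : p.Prime := Fact.out
  by_cases hrp : r = p
  · subst hrp
    rw [unip_iff (p := r) n m hn hmn]
    constructor
    · intro hpart
      by_cases h2 : r = 2
      · right; left
        refine ⟨rfl, h2, (part_two_iff n m (by omega)).1 ?_⟩
        rw [h2] at hpart
        exact hpart
      · left
        exact ⟨rfl, lt_of_le_of_ne hrpr.two_le (Ne.symm h2), hpart⟩
    · rintro (⟨-, -, h⟩ | ⟨-, h2, h⟩ | ⟨hne, -⟩)
      · exact h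
      · have := (part_two_iff n m (by omega)).2 h
        rw [h2]
        exact this
      · exact absurd rfl hne
  · -- `r ≠ p`: reduce to S5949 by semisimplicity
    have hdvd : r ∣ Nat.card {W : Submodule F (Fin n → F) // Module.finrank F ↥W = m} := by
      rw [compl_count (F := F) n m (by omega)] at hrΩ
      rcases (Nat.Prime.dvd_mul hrpr).1 hrΩ with h | h
      · exact h
      · exfalso
        have h1 := hrpr.dvd_of_dvd_pow h
        obtain ⟨k, -, hk⟩ := FiniteField.card F p
        rw [hk] at h1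
        have h2 := hrpr.dvd_of_dvd_pow h1
        exact hrp ((Nat.prime_dvd_prime_iff_eq hrpr hppr).1 h2)
    have h49 := Cfsg.Agent.S5949.result (F := F) (p := p) (q := Fintype.card F) rfl n m (by omega)
      ⟨by intro h; have := congrArg Prod.fst h; simp at this; omega,
       by intro h; have := congrArg Prod.fst h; simp at this; omega⟩ hm (by omega) r hdvd
    have hr0 : (r : F) ≠ 0 := by
      intro h0
      have := (CharP.cast_eq_zero_iff F p r).1 h0
      exact hrp ((Nat.prime_dvd_prime_iff_eq hppr hrpr).1 this).symm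
    have hiff : (∀ x : Matrix.SpecialLinearGroup (Fin n) F,
      (∃ c : F, ((x ^ r : Matrix.SpecialLinearGroup (Fin n) F) : Matrix (Fin n) (Fin n) F) = c • (1 : Matrix (Fin n) (Fin n) F)) →
      (∀ c : F, (x : Matrix (Fin n) (Fin n) F) ≠ c • (1 : Matrix (Fin n) (Fin n) F)) →
      ∃ U W : Submodule F (Fin n → F), IsCompl U W ∧ Module.finrank F ↥U = m ∧
        U.map (Matrix.toLin' (x : Matrix (Fin n) (Fin n) F)) ≤ U ∧ W.map (Matrix.toLin' (x : Matrix (Fin n) (Fin n) F)) ≤ W) ↔
      (∀ x : Matrix.SpecialLinearGroup (Fin n) F,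
      (∃ c : F, ((x ^ r : Matrix.SpecialLinearGroup (Fin n) F) : Matrix (Fin n) (Fin n) F) = c • (1 : Matrix (Fin n) (Fin n) F)) →
      (∀ c : F, (x : Matrix (Fin n) (Fin n) F) ≠ c • (1 : Matrix (Fin n) (Fin n) F)) →
      ∃ W : Submodule F (Fin n → F), Module.finrank F ↥W = m ∧ W.map (Matrix.toLin' (x : Matrix (Fin n) (Fin n) F)) ≤ W) := by
      constructor
      · intro h x hx1 hx2
        obtain ⟨U, W, -, hUm, hUinv, -⟩ := h x hx1 hx2
        exact ⟨U, hUm, hUinv⟩
      · intro h x hx1 hx2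
        obtain ⟨U, hUm, hUinv⟩ := h x hx1 hx2
        obtain ⟨c, hxc⟩ := hx1
        rw [Matrix.SpecialLinearGroup.coe_pow] at hxc
        have hc0 : c ≠ 0 := by
          intro h0
          have hdet : (x : Matrix (Fin n) (Fin n) F).det = 1 := x.2
          have hdd := congrArg Matrix.det hxc
          haveI hne : Nonempty (Fin n) := ⟨⟨0, by omega⟩⟩
          rw [Matrix.det_pow, hdet, one_pow, h0, zero_smul, Matrix.det_zero] at hdd
          exact one_ne_zero hdd
        have hfr : (Matrix.toLin' (x : Matrix (Fin n) (Fin n) F)) ^ r =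
            c • (1 : Module.End F (Fin n → F)) := by
          rw [← Matrix.toLin'_pow, hxc, map_smul, Matrix.toLin'_one]; rfl
        obtain ⟨W, hUW, hWinv⟩ := exists_invariant_compl _ r c hc0 hr0 hfr U hUinv
        exact ⟨U, W, hUW, hUm, hUinv, hWinv⟩
    rw [hiff, h49]
    constructor
    · intro h
      right; right
      exact h
    · rintro (⟨h, -⟩ | ⟨h, -⟩ | h)
      · exact absurd h hrp
      · exact absurd h hrp
      · exact h

end Cfsg.Agent.S5950
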