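import Cfsg.Statements.S5951
import Cfsg.Agent.Helper21.S5949IRR
import Cfsg.Agent.Helper3.S5949NTS
import Cfsg.Agent.Helper3.S5949NT2
import Cfsg.Agent.Helper3.S5949NT3
import Cfsg.Agent.Helper21.S5951FLAGS
import Cfsg.Agent.Helper14.S5949MODELCYC
import Cfsg.Agent.Helper17.S5949MODELKUM
import Cfsg.Agent.Helper6.S5951NT1

set_option autoImplicit false
open scoped MatrixGroups
open Cfsg

namespace Cfsg.Agent.S5951

open Polynomial Cfsg.Agent.S5949P

theorem sub_mod_add (n m i : ℕ) (hm : m ≤ n) (hmod : m % i ≤ n % i) (hi : 0 < i) :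
    (n - m) % i + m % i = n % i := by
  have h1 : n % i + i * (n / i) = n := Nat.mod_add_div n i
  have h2 : m % i + i * (m / i) = m := Nat.mod_add_div m i
  have h3 : m / i ≤ n / i := Nat.div_le_div_right hm
  have h4 : i * (n / i - m / i) = i * (n / i) - i * (m / i) := Nat.mul_sub i _ _
  have h5 : i * (m / i) ≤ i * (n / i) := Nat.mul_le_mul_left i h3
  have h6 : n - m = (n % i - m % i) + i * (n / i - m / i) := by omega
  have h7 : n % i - m % i < i := lt_of_le_of_lt (Nat.sub_le _ _) (Nat.mod_lt _ hi)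
  rw [h6, Nat.add_mul_mod_self_left, Nat.mod_eq_of_lt h7]
  omega

theorem arith_flag (n m a i b : ℕ) (hi : 0 < i) (h2m : 2 * m ≤ n) (ha : a + i * b = n)
    (hmod : 2 * (m % i) ≤ n % i) : ∃ a₁ b₁ a₂ b₂, a₁ ≤ a₂ ∧ b₁ ≤ b₂ ∧ a₂ ≤ a ∧ a + i * b₂ ≤ n ∧
      a₁ + i * b₁ = m ∧ a₂ + i * b₂ = n - m := by
  have hρ : n % i = a % i := by rw [← ha, Nat.add_mul_mod_self_left]
  have hρa : a % i ≤ a := Nat.mod_le a i
  have hm1 : m % i + i * (m / i) = m := Nat.mod_add_div m i
  have hM1 : (n - m) % i + i * ((n - m) / i) = n - m := Nat.mod_add_div (n - m) i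
  have hMm : (n - m) % i + m % i = n % i := sub_mod_add n m i (by omega) (by omega) hi
  have hdiv : m / i ≤ (n - m) / i := Nat.div_le_div_right (by omega)
  have hdiv' : i * (m / i) ≤ i * ((n - m) / i) := Nat.mul_le_mul_left i hdiv
  rcases le_total b (m / i) with h1 | h1
  · have h1' : i * b ≤ i * (m / i) := Nat.mul_le_mul_left i h1
    exact ⟨m - i * b, b, n - m - i * b, b, by omega, le_refl _, by omega, by omega, by omega,
      by omega⟩
  · have h1' : i * (m / i) ≤ i * b := Nat.mul_le_mul_left i h1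
    rcases le_total b ((n - m) / i) with h2 | h2
    · have h2' : i * b ≤ i * ((n - m) / i) := Nat.mul_le_mul_left i h2
      exact ⟨m % i, m / i, n - m - i * b, b, by omega, h1, by omega, by omega, by omega, by omega⟩
    · have h2' : i * ((n - m) / i) ≤ i * b := Nat.mul_le_mul_left i h2
      exact ⟨m % i, m / i, (n - m) % i, (n - m) / i, by omega, hdiv, by omega, by omega,
        by omega, by omega⟩


/-- Elements of prime order of PSL_n(q) fixing no pair of subspaces `U < W` with `dim U = m`, `dim W = n − m`. Here `T = PSL_n(F)` for a field `F` with `q = p^f` elements (`n ≥ 2`, `(n, q) ≠ (2, 2), (2, 3)`); an element of `T` of prime order `r` is represented by a matrix `x` of determinant 1 with `x^r` scalar and `x` not scalar; `i` denotes the multiplicative order of `q` modulo `r` (when `r ≠ p`), and `(a)_r` the `r`-part of `a`. Let `1 ≤ m < n/2` and let `r` be a prime dividing the number of such pairs. Then every element of `T` of order `r` fixes such a pair (both `U`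 and `W`) if and only if `r ≠ p` and either (i) `i = 1` and (`r ∣ m`, or `(q−1)_r ≥ (n)_r` with `q ≡ 1 (mod 4)` required when `r = 2` and `n` is even), or (ii) `2 ≤ i ≤ m` and `n mod i ≥ 2 (m mod i)`. -/
theorem result {F : Type*} [Field F] [Fintype F] {p : ℕ} [Fact p.Prime] [CharP F p] {q : ℕ} (hq : Fintype.card F = q)
    (n m : ℕ) (hn : 2 ≤ n) (hT : (n, q) ≠ (2, 2) ∧ (n, q) ≠ (2, 3)) (hm : 1 ≤ m) (hmn : 2 * m < n)
    (r : ℕ) [Fact r.Prime]
    (hrΩ : r ∣ Nat.card {P : Submodule F (Fin n → F) × Submodule F (Fin n → F) //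
        P.1 ≤ P.2 ∧ Module.finrank F ↥P.1 = m ∧ Module.finrank F ↥P.2 = n - m}) :
    (∀ x : Matrix.SpecialLinearGroup (Fin n) F,
      (∃ c : F, ((x ^ r : Matrix.SpecialLinearGroup (Fin n) F) : Matrix (Fin n) (Fin n) F) = c • (1 : Matrix (Fin n) (Fin n) F)) →
      (∀ c : F, (x : Matrix (Fin n) (Fin n) F) ≠ c • (1 : Matrix (Fin n) (Fin n) F)) →
      ∃ U W : Submodule F (Fin n → F), U ≤ W ∧ Module.finrank F ↥U = m ∧ Module.finrank F ↥W = n - m ∧
        U.map (Matrix.toLin' (x : Matrix (Fin n) (Fin n) F)) ≤ U ∧ W.map (Matrix.toLin' (x : Matrix (Fin n) (Fin n) F)) ≤ W) ↔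
    (r ≠ p ∧
      ((orderOf (q : ZMod r) = 1 ∧ (r ∣ m ∨ (padicValNat r n ≤ padicValNat r (q - 1) ∧ (r = 2 → Even n → q % 4 = 1)))) ∨
       (2 ≤ orderOf (q : ZMod r) ∧ orderOf (q : ZMod r) ≤ m ∧ 2 * (m % orderOf (q : ZMod r)) ≤ n % orderOf (q : ZMod r)))) := by
  classical
  subst hq
  have hrpr : r.Prime := Fact.out
  have hmn' : 2 * m ≤ n := by omega
  obtain ⟨hrp, hNT⟩ := nt_of_dvd_card_flags (F := F) (p := p) n m hm hmn' r hrΩ
  have hipos : 0 < orderOf ((Fintype.card F : ℕ) : ZMod r) := orderOf_card_pos (p := p) r hrp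
  obtain ⟨i, hi⟩ : ∃ i : ℕ, i = orderOf ((Fintype.card F : ℕ) : ZMod r) := ⟨_, rfl⟩
  rw [← hi] at hNT hipos ⊢
  have hnV : Module.finrank F (Fin n → F) = n := Module.finrank_fin_fun F
  constructor
  · intro hall
    refine ⟨hrp, ?_⟩
    by_cases hi1 : i = 1
    · left
      refine ⟨hi1, ?_⟩
      by_contra hcon
      rw [not_or] at hcon
      obtain ⟨hrm, hcond⟩ := hcon
      have hr1 : r ∣ Fintype.card F - 1 :=
        (orderOf_card_eq_one_iff (F := F) r).1 (by rw [← hi]; exact hi1)
      obtain ⟨hrn, c, hc, hdet⟩ := nt_exists_nonpower (F := F) r hr1 n (by omega) hcond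
      obtain ⟨x, hx⟩ := model_kum r n hrn c hc hdet
      have hxns : ∀ d : F, (x : Matrix (Fin n) (Fin n) F) ≠ d • (1 : Matrix (Fin n) (Fin n) F) := by
        intro d hd
        rw [hd, _root_.smul_pow, one_pow] at hx
        have h00 := congrFun (congrFun hx ⟨0, by omega⟩) ⟨0, by omega⟩
        simp only [Matrix.smul_apply, Matrix.one_apply_eq, smul_eq_mul, mul_one] at h00
        exact hc d h00
      obtain ⟨U, W, -, hUm, -, hUinv, -⟩ :=
        hall x ⟨c, by rw [Matrix.SpecialLinearGroup.coe_pow]; exact hx⟩ hxns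
      have hirr := X_pow_sub_C_irreducible_of_prime hrpr hc
      have hmon : (X ^ r - C c : F[X]).Monic := monic_X_pow_sub_C c hrpr.ne_zero
      have hae : aeval (Matrix.toLin' (x : Matrix (Fin n) (Fin n) F)) (X ^ r - C c) = 0 := by
        rw [map_sub, map_pow, aeval_X, aeval_C, ← Matrix.toLin'_pow, hx, map_smul,
          Matrix.toLin'_one, Algebra.algebraMap_eq_smul_one]
        exact sub_self _
      have := (irr_module _ _ hirr hmon hae).2.1 U hUinv
      rw [natDegree_X_pow_sub_C, hUm] at this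
      exact hrm this
    · right
      have hi2 : 2 ≤ i := by omega
      have hin : i ≤ n := by
        rcases hNT with ⟨k, hk1, hk2, hik⟩ | ⟨k, hk1, hk2, hik⟩
        · exact le_trans (Nat.le_of_dvd (by omega) hik) hk2
        · exact le_trans (Nat.le_of_dvd (by omega) hik) (by omega)
      obtain ⟨x, hx1, hxns, hker⟩ := model_cyc (p := p) r hrp n (hi ▸ hi2) (hi ▸ hin)
      rw [← hi] at hker
      obtain ⟨U, W, hUW, hUm, hWm, hUinv, hWinv⟩ :=
        hall x ⟨1, by rw [Matrix.SpecialLinearGroup.coe_pow, hx1, one_smul]⟩ hxns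
      have hfr : (Matrix.toLin' (x : Matrix (Fin n) (Fin n) F)) ^ r = 1 := by
        rw [← Matrix.toLin'_pow, hx1, Matrix.toLin'_one]; rfl
      obtain ⟨a₁, b₁, a₂, b₂, h12, h2a, hU, hW⟩ :=
        (cyc_flag (p := p) r hrp _ hfr).1 U W hUW hUinv hWinv
      rw [hker] at h2a
      rw [← hi, hUm] at hU
      rw [← hi, hWm] at hW
      have hρ : n % i < i := Nat.mod_lt _ hipos
      have hm1 : m % i = a₁ := by
        rw [hU, Nat.add_mul_mod_self_left]; exact Nat.mod_eq_of_lt (by omega)
      have hM1 : (n - m) % i = a₂ := by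
        rw [hW, Nat.add_mul_mod_self_left]; exact Nat.mod_eq_of_lt (by omega)
      have hn1 : n = (a₁ + a₂) + i * (b₁ + b₂) := by
        rw [Nat.mul_add]; omega
      have hn2 : n % i = (a₁ + a₂) % i := by
        conv_lhs => rw [hn1]
        rw [Nat.add_mul_mod_self_left]
      have hsum : a₁ + a₂ = n % i := by
        by_cases hlt : a₁ + a₂ < i
        · rw [hn2, Nat.mod_eq_of_lt hlt]
        · exfalso
          push Not at hlt
          have h3 : (a₁ + a₂) % i = a₁ + a₂ - i := by
            rw [Nat.mod_eq_sub_mod hlt]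
            exact Nat.mod_eq_of_lt (by omega)
          omega
      refine ⟨hi2, ?_, by rw [hm1]; omega⟩
      by_contra hlt
      push Not at hlt
      have hmm : m % i = m := Nat.mod_eq_of_lt hlt
      rcases hNT with ⟨k, hk1, hk2, ⟨t, rfl⟩⟩ | ⟨k, hk1, hk2, ⟨t, rfl⟩⟩
      · have h2 : t ≤ n / i := (Nat.le_div_iff_mul_le hipos).2 (by rw [mul_comm]; exact hk2)
        have h3 : i * t ≤ i * (n / i) := Nat.mul_le_mul_left i h2
        have h4 : n % i + i * (n / i) = n := Nat.mod_add_div n i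
        omega
      · have h2 : t ≤ (n - m) / i :=
          (Nat.le_div_iff_mul_le hipos).2 (by rw [mul_comm]; exact hk2)
        have h3 : i * t ≤ i * ((n - m) / i) := Nat.mul_le_mul_left i h2
        have h4 : (n - m) % i + i * ((n - m) / i) = n - m := Nat.mod_add_div (n - m) i
        omega
  · rintro ⟨-, hcases⟩ x ⟨c, hxc⟩ hxns
    rw [Matrix.SpecialLinearGroup.coe_pow] at hxc
    obtain ⟨f, hfdef⟩ : ∃ f : Module.End F (Fin n → F),
      f = Matrix.toLin' (x : Matrix (Fin n) (Fin n) F) := ⟨_, rfl⟩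
    rw [← hfdef]
    have hfr : f ^ r = c • (1 : Module.End F (Fin n → F)) := by
      rw [hfdef, ← Matrix.toLin'_pow, hxc, map_smul, Matrix.toLin'_one]; rfl
    have hc0 : c ≠ 0 := by
      intro h0
      have hdet : (x : Matrix (Fin n) (Fin n) F).det = 1 := x.2
      have hdd := congrArg Matrix.det hxc
      have hne : Nonempty (Fin n) := ⟨⟨0, by omega⟩⟩
      rw [Matrix.det_pow, hdet, one_pow, h0, zero_smul, Matrix.det_zero] at hdd
      exact one_ne_zero hdd
    by_cases hpow : ∃ d : F, d ^ r = c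
    · obtain ⟨d, hd⟩ := hpow
      have hd0 : d ≠ 0 := by
        rintro rfl
        rw [zero_pow hrpr.ne_zero] at hd
        exact hc0 hd.symm
      have hy : (d⁻¹ • f) ^ r = 1 := by
        rw [_root_.smul_pow, hfr, smul_smul, inv_pow, hd, inv_mul_cancel₀ hc0, one_smul]
      have h1 := (cyc_main (p := p) r hrp (d⁻¹ • f) hy).1
      have h3 := (cyc_flag (p := p) r hrp (d⁻¹ • f) hy).2
      rw [← hi] at h1 h3
      obtain ⟨a, ha⟩ : ∃ a : ℕ, a = Module.finrank F (LinearMap.ker (d⁻¹ • f - 1)) := ⟨_, rfl⟩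
      rw [← ha] at h1 h3
      have hale : a ≤ n := by
        calc a = Module.finrank F (LinearMap.ker (d⁻¹ • f - 1)) := ha
          _ ≤ Module.finrank F (Fin n → F) := Submodule.finrank_le _
          _ = n := hnV
      rw [hnV] at h1 h3
      obtain ⟨b, hb⟩ := h1
      have hab : a + i * b = n := by omega
      have hmod : 2 * (m % i) ≤ n % i := by
        rcases hcases with ⟨hi1, -⟩ | ⟨-, -, h⟩
        · rw [hi1, Nat.mod_one]; exact Nat.zero_le _
        · exact h
      obtain ⟨a₁, b₁, a₂, b₂, h12, hb12, h2a, hb2, hm1, hm2⟩ :=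
        arith_flag n m a i b hipos hmn' hab hmod
      obtain ⟨U, W, hUW, hUinv, hWinv, hUdim, hWdim⟩ := h3 a₁ b₁ a₂ b₂ h12 hb12 h2a hb2
      have hinv : ∀ X : Submodule F (Fin n → F), X.map (d⁻¹ • f) ≤ X → X.map f ≤ X := by
        intro X hX
        rintro _ ⟨v, hv, rfl⟩
        have h4 : (d⁻¹ • f) v ∈ X := hX ⟨v, hv, rfl⟩
        rw [LinearMap.smul_apply] at h4
        have h5 := X.smul_mem d h4
        rwa [smul_smul, mul_inv_cancel₀ hd0, one_smul] at h5
      exact ⟨U, W, hUW, by rw [hUdim, hm1], by rw [hWdim, hm2], hinv U hUinv, hinv W hWinv⟩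
    · push Not at hpow
      have hr1 : r ∣ Fintype.card F - 1 := by
        by_contra hnot
        obtain ⟨d, hd⟩ := (nt_coprime (F := F) r hnot).1 c
        exact hpow d hd
      have hi1 : i = 1 := by
        rw [hi]; exact (orderOf_card_eq_one_iff (F := F) r).2 hr1
      have hirr := X_pow_sub_C_irreducible_of_prime hrpr hpow
      have hmon : (X ^ r - C c : F[X]).Monic := monic_X_pow_sub_C c hrpr.ne_zero
      have hae : aeval f (X ^ r - C c) = 0 := by
        rw [map_sub, map_pow, aeval_X, aeval_C, hfr, Algebra.algebraMap_eq_smul_one, sub_self]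
      obtain ⟨hdn, -, -, hdetf⟩ := irr_module f _ hirr hmon hae
      have hflag := irr_module_flag f _ hirr hmon hae
      rw [natDegree_X_pow_sub_C, hnV] at hdn hdetf
      rw [natDegree_X_pow_sub_C, hnV] at hflag
      rcases hcases with ⟨-, hrm | ⟨hv, h2⟩⟩ | ⟨hi2, -, -⟩
      · obtain ⟨t, ht⟩ := hrm
        obtain ⟨s, hs⟩ := hdn
        have hrpos : 0 < r := hrpr.pos
        have hts : t ≤ s - t := by
          have : r * (2 * t) ≤ r * s := by rw [← hs]; rw [← mul_assoc, mul_comm r 2, mul_assoc, ← ht]; exact hmn'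
          have := Nat.le_of_mul_le_mul_left this hrpos
          omega
        have hnm : n - m = (s - t) * r := by
          rw [hs, ht, Nat.sub_mul, mul_comm s r, mul_comm t r]
        obtain ⟨U, W, hUW, hUinv, hWinv, hUdim, hWdim⟩ := hflag t (s - t) hts (by
          rw [← hnm]; omega)
        exact ⟨U, W, hUW, by rw [hUdim, ht, mul_comm], by rw [hWdim, hnm], hUinv, hWinv⟩
      · exfalso
        have hdet1 : LinearMap.det f = 1 := by
          rw [hfdef, LinearMap.det_toLin']; exact x.2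
        rw [hdet1] at hdetf
        have hcoef : (X ^ r - C c : F[X]).coeff 0 = -c := by
          rw [coeff_sub, coeff_X_pow, coeff_C_zero, if_neg hrpr.ne_zero.symm, zero_sub]
        rw [hcoef] at hdetf
        have hdet' : ((-1) ^ (r + 1) * c) ^ (n / r) = 1 := by
          have h6 : (-1 : F) ^ r * -c = (-1) ^ (r + 1) * c := by rw [pow_succ]; ring
          rw [← h6]; exact hdetf.symm
        obtain ⟨d, hd⟩ := nt_rth_power (F := F) r hr1 n (by omega) hdn hv h2 c hdet'
        exact hpow d hd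
      · omega

end Cfsg.Agent.S5951
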