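import Cfsg.Statements.S5952
import Mathlib

set_option autoImplicit false
open Cfsg

namespace Cfsg.Agent.S5952

open Module

variable {F V : Type*} [Field F] [AddCommGroup V] [Module F V]

theorem inv_sup (f : V →ₗ[F] V) {A B : Submodule F V} (hA : A.map f ≤ A) (hB : B.map f ≤ B) :
    (A ⊔ B).map f ≤ A ⊔ B := by
  rw [Submodule.map_sup]
  exact sup_le_sup hA hB

theorem inv_inf (f : V →ₗ[F] V) {A B : Submodule F V} (hA : A.map f ≤ A) (hB : B.map f ≤ B) :
    (A ⊓ B).map f ≤ A ⊓ B :=
  le_inf ((Submodule.map_mono inf_le_left).trans hA) ((Submodule.map_mono inf_le_right).trans hB)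

theorem inv_biSup (f : V →ₗ[F] V) {ι : Type*} (U : ι → Submodule F V) (hU : ∀ j, (U j).map f ≤ U j)
    (T : Finset ι) : (⨆ i ∈ T, U i).map f ≤ ⨆ i ∈ T, U i := by
  rw [Submodule.map_iSup]
  refine iSup_le fun i => ?_
  rw [Submodule.map_iSup]
  refine iSup_le fun hi => ?_
  exact (hU i).trans (le_iSup₂_of_le i hi le_rfl)

theorem inv_of_le_eigenspace (f : V →ₗ[F] V) {C' : Submodule F V}
    (h : C' ≤ Module.End.eigenspace f 1) : C'.map f ≤ C' := by
  rintro _ ⟨x, hx, rfl⟩
  have := h hx
  rw [Module.End.mem_eigenspace_iff, one_smul] at this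
  rw [this]
  exact hx

theorem exists_le_finrank_eq [FiniteDimensional F V] (C : Submodule F V) (r : ℕ)
    (hr : r ≤ finrank F C) : ∃ C' : Submodule F V, C' ≤ C ∧ finrank F C' = r := by
  obtain ⟨g, hg⟩ := exists_linearIndependent_of_le_finrank hr
  refine ⟨Submodule.span F (Set.range (fun i => (g i : V))), ?_, ?_⟩
  · rw [Submodule.span_le]
    rintro _ ⟨i, rfl⟩
    exact (g i).2
  · have h2 : LinearIndependent F (fun i => (g i : V)) :=
      hg.map' C.subtype (Submodule.ker_subtype C)
    rw [finrank_span_eq_card h2, Fintype.card_fin]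

/-- The key step: adding an irreducible summand changes the dimension of the trace of an invariant
subspace by `0` or by the dimension of the summand. -/
theorem step [FiniteDimensional F V] (f : V →ₗ[F] V) (Vj U W : Submodule F V) (hdis : Disjoint Vj U)
    (hVj : Vj.map f ≤ Vj) (hU : U.map f ≤ U) (hW : W.map f ≤ W)
    (hirr : ∀ P : Submodule F V, P ≤ U → P.map f ≤ P → P = ⊥ ∨ P = U) :
    finrank F ↥(W ⊓ (Vj ⊔ U)) = finrank F ↥(W ⊓ Vj) ∨
      finrank F ↥(W ⊓ (Vj ⊔ U)) = finrank F ↥(W ⊓ Vj) + finrank F U := by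
  set X := (W ⊓ (Vj ⊔ U)) ⊔ Vj with hX
  set P := X ⊓ U with hP
  have hXinv : X.map f ≤ X := inv_sup f (inv_inf f hW (inv_sup f hVj hU)) hVj
  have hPinv : P.map f ≤ P := inv_inf f hXinv hU
  have hVjX : Vj ≤ X := le_sup_right
  have hXle : X ≤ Vj ⊔ U := sup_le inf_le_right le_sup_left
  have hXeq : X = Vj ⊔ P := by
    have := sup_inf_assoc_of_le U hVjX
    rw [inf_eq_right.mpr hXle] at this
    rw [hP, inf_comm X U, ← this]
  have hdisP : Vj ⊓ P = ⊥ := by
    rw [eq_bot_iff]
    calc Vj ⊓ P ≤ Vj ⊓ U := inf_le_inf_left _ inf_le_right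
      _ = ⊥ := hdis.eq_bot
  have h1 : finrank F ↥X = finrank F ↥Vj + finrank F ↥P := by
    have := Submodule.finrank_sup_add_finrank_inf_eq Vj P
    rw [hdisP, finrank_bot, add_zero, ← hXeq] at this
    exact this
  have hinf : (W ⊓ (Vj ⊔ U)) ⊓ Vj = W ⊓ Vj := by
    rw [inf_assoc, inf_eq_right.mpr (le_sup_left : Vj ≤ Vj ⊔ U)]
  have h2 : finrank F ↥X + finrank F ↥(W ⊓ Vj) = finrank F ↥(W ⊓ (Vj ⊔ U)) + finrank F ↥Vj := by
    have := Submodule.finrank_sup_add_finrank_inf_eq (W ⊓ (Vj ⊔ U)) Vj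
    rw [hinf] at this
    exact this
  rcases hirr P inf_le_right hPinv with h | h
  · left
    rw [h, finrank_bot] at h1
    omega
  · right
    rw [h] at h1
    omega

theorem disjoint_of_indep {s : ℕ} (C : Submodule F V) (U : Fin s → Submodule F V)
    (hind : iSupIndep (fun o : Option (Fin s) => o.elim C U)) (C' : Submodule F V) (hC' : C' ≤ C)
    (T : Finset (Fin s)) (j : Fin s) (hj : j ∉ T) :
    Disjoint (C' ⊔ ⨆ i ∈ T, U i) (U j) := by
  have h := hind (some j)
  refine (Disjoint.mono_right ?_ h).symm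
  refine sup_le (hC'.trans (le_iSup₂_of_le none (by simp) le_rfl)) ?_
  refine iSup₂_le fun i hi => le_iSup₂_of_le (some i) ?_ le_rfl
  intro h'
  apply hj
  rw [← Option.some.inj h']
  exact hi

theorem finrank_sum [FiniteDimensional F V] {s a : ℕ} (C : Submodule F V) (U : Fin s → Submodule F V)
    (hUdim : ∀ j, finrank F ↥(U j) = a)
    (hind : iSupIndep (fun o : Option (Fin s) => o.elim C U)) (C' : Submodule F V) (hC' : C' ≤ C)
    (T : Finset (Fin s)) :
    finrank F ↥(C' ⊔ ⨆ i ∈ T, U i) = finrank F ↥C' + T.card * a := by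
  classical
  induction T using Finset.induction_on with
  | empty =>
    have : (⨆ i ∈ (∅ : Finset (Fin s)), U i) = ⊥ := by simp
    rw [this, sup_bot_eq]; simp
  | insert j T hj ih =>
    rw [Finset.iSup_insert, sup_left_comm, sup_comm (U j), Finset.card_insert_of_notMem hj]
    have hdis := disjoint_of_indep C U hind C' hC' T j hj
    have := Submodule.finrank_sup_add_finrank_inf_eq (C' ⊔ ⨆ i ∈ T, U i) (U j)
    rw [hdis.eq_bot, finrank_bot, add_zero, ih, hUdim] at this
    rw [this]
    ring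

theorem result {F V : Type*} [Field F] [AddCommGroup V] [Module F V]
    [FiniteDimensional F V] (f : V →ₗ[F] V) (hf : Function.Bijective f) (hss : Module.End.IsSemisimple f)
    {s a : ℕ} (ha : 1 ≤ a) (U : Fin s → Submodule F V)
    (hUinv : ∀ j, (U j).map f ≤ U j) (hUdim : ∀ j, Module.finrank F ↥(U j) = a)
    (hUirr : ∀ j, ∀ W : Submodule F V, W ≤ U j → W.map f ≤ W → W = ⊥ ∨ W = U j)
    (hdec : DirectSum.IsInternal (fun o : Option (Fin s) => o.elim (Module.End.eigenspace f 1) U))
    (m : ℕ) (hm : 0 < m) (hmV : m < Module.finrank F V) :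
    (∃ W : Submodule F V, Module.finrank F ↥W = m ∧ W.map f ≤ W) ↔
    (m ≤ Module.finrank F ↥(Module.End.eigenspace f 1) ∨
      (a ≤ m ∧ m % a ≤ Module.finrank F ↥(Module.End.eigenspace f 1))) := by
  classical
  set C := Module.End.eigenspace f 1 with hC
  have hind := hdec.submodule_iSupIndep
  have htop := hdec.submodule_iSup_eq_top
  have hCinv : C.map f ≤ C := inv_of_le_eigenspace f le_rfl
  have hVtop : C ⊔ ⨆ i ∈ (Finset.univ : Finset (Fin s)), U i = ⊤ := by
    rw [eq_top_iff, ← htop]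
    refine iSup_le fun o => ?_
    cases o with
    | none => exact le_sup_left
    | some i => exact le_sup_of_le_right (le_iSup₂_of_le i (Finset.mem_univ i) le_rfl)
  have hdimV : finrank F V = finrank F ↥C + s * a := by
    have := finrank_sum C U hUdim hind C le_rfl Finset.univ
    rw [hVtop, finrank_top, Finset.card_univ, Fintype.card_fin] at this
    exact this
  constructor
  · rintro ⟨W, hWm, hWinv⟩
    have key : ∀ T : Finset (Fin s), ∃ k ≤ T.card,
        finrank F ↥(W ⊓ (C ⊔ ⨆ i ∈ T, U i)) = finrank F ↥(W ⊓ C) + k * a := by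
      intro T
      induction T using Finset.induction_on with
      | empty =>
        have : (⨆ i ∈ (∅ : Finset (Fin s)), U i) = ⊥ := by simp
        exact ⟨0, le_rfl, by rw [this, sup_bot_eq]; simp⟩
      | insert j T hj ih =>
        obtain ⟨k, hk, hkeq⟩ := ih
        have hdis := disjoint_of_indep C U hind C le_rfl T j hj
        have hVinv : (C ⊔ ⨆ i ∈ T, U i).map f ≤ C ⊔ ⨆ i ∈ T, U i :=
          inv_sup f hCinv (inv_biSup f U hUinv T)
        have hrw : C ⊔ ⨆ i ∈ insert j T, U i = (C ⊔ ⨆ i ∈ T, U i) ⊔ U j := by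
          rw [Finset.iSup_insert, sup_left_comm, sup_comm (U j)]
        rw [hrw, Finset.card_insert_of_notMem hj]
        rcases step f _ (U j) W hdis hVinv (hUinv j) hWinv (hUirr j) with h | h
        · exact ⟨k, by omega, by rw [h, hkeq]⟩
        · exact ⟨k + 1, by omega, by rw [h, hkeq, hUdim]; ring⟩
    obtain ⟨k, hk, hkeq⟩ := key Finset.univ
    rw [hVtop, inf_top_eq, hWm] at hkeq
    have hc' : finrank F ↥(W ⊓ C) ≤ finrank F ↥C := Submodule.finrank_mono inf_le_right
    rcases Nat.eq_zero_or_pos k with hk0 | hk0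
    · left
      subst hk0
      omega
    · right
      refine ⟨?_, ?_⟩
      · calc a = 1 * a := (one_mul a).symm
          _ ≤ k * a := Nat.mul_le_mul_right a hk0
          _ ≤ m := by omega
      · rw [hkeq, Nat.add_mul_mod_self_right]
        exact (Nat.mod_le _ _).trans hc'
  · rintro (h | ⟨h1, h2⟩)
    · obtain ⟨C', hC'le, hC'dim⟩ := exists_le_finrank_eq C m h
      exact ⟨C', hC'dim, inv_of_le_eigenspace f hC'le⟩
    · -- choose the number of blocks
      set k := m / a with hk
      have hapos : 0 < a := ha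
      have hmk : m = k * a + m % a := by
        rw [hk, mul_comm]; exact (Nat.div_add_mod m a).symm
      obtain ⟨j, r, hjs, hr, hmjr⟩ : ∃ j r : ℕ, j ≤ s ∧ r ≤ finrank F ↥C ∧ m = r + j * a := by
        rcases Nat.lt_or_ge s k with hsk | hsk
        · refine ⟨s, m - s * a, le_rfl, ?_, ?_⟩
          · omega
          · have : s * a ≤ k * a := Nat.mul_le_mul_right a hsk.le
            omega
        · exact ⟨k, m % a, hsk, h2, by omega⟩
      obtain ⟨T, -, hTcard⟩ := Finset.exists_subset_card_eq (s := (Finset.univ : Finset (Fin s)))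
        (n := j) (by simpa using hjs)
      obtain ⟨C', hC'le, hC'dim⟩ := exists_le_finrank_eq C r hr
      refine ⟨C' ⊔ ⨆ i ∈ T, U i, ?_, ?_⟩
      · rw [finrank_sum C U hUdim hind C' hC'le T, hC'dim, hTcard, hmjr]
      · exact inv_sup f (inv_of_le_eigenspace f hC'le) (inv_biSup f U hUinv T)

end Cfsg.Agent.S5952
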