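import Cfsg.Statements.S5953
import Cfsg.Agent.Helper23.S5953Defs
import Cfsg.Agent.Helper18.S5953NTU
import Cfsg.Agent.Helper28.S5953COUNTU
import Cfsg.Agent.Helper18.S5953ARITHU
import Cfsg.Agent.Helper18.S5953R2NECU
import Cfsg.Agent.Helper18.S5953R2SUFFU
import Cfsg.Agent.Helper23.S5953NECI2A
import Cfsg.Agent.Helper23.S5953NECI2B
import Cfsg.Agent.Helper7.S5953GUYU
import Cfsg.Agent.Helper3.S5953RTHROOT
import Cfsg.Agent.Helper10.S5953SUFFI2
import Cfsg.Agent.Helper19.S5953SUFFU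
import Cfsg.Agent.Helper7.S5953NECBASICU
import Cfsg.Agent.Helper7.S5953NECEVENU

set_option autoImplicit false
open scoped MatrixGroups
open Cfsg

namespace Cfsg.Agent.S5953

open Polynomial Cfsg.Agent.S5953P Cfsg.Agent.Helper28.HermFrame

/-- `z ^ r = 1`, `z ^ (q + 1) = 1`, `r ∤ q + 1` prime: `z = 1` -/
theorem eq_one_of_pow {F : Type*} [Field F] {q : ℕ} (r : ℕ) (hr : r.Prime) (hrq : ¬ r ∣ q + 1)
    (z : F) (hzr : z ^ r = 1) (hzq : z ^ (q + 1) = 1) : z = 1 := by
  have hco : Nat.Coprime r (q + 1) := (Nat.Prime.coprime_iff_not_dvd hr).mpr hrq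
  have := pow_gcd_eq_one.mpr ⟨hzr, hzq⟩
  rwa [hco, pow_one] at this

/-- `q` is a power of `p` -/
theorem exists_q_pow {F : Type*} [Field F] [Fintype F] {p : ℕ} [Fact p.Prime] [CharP F p] {q : ℕ}
    (hq : Fintype.card F = q ^ 2) : ∃ k : ℕ, 1 ≤ k ∧ q = p ^ k := by
  have hp : p.Prime := Fact.out
  obtain ⟨f, hf⟩ := FiniteField.card F p
  have hdvd : q ∣ p ^ (f : ℕ) := by
    rw [← hf.2, hq]; exact dvd_pow_self q (by norm_num)
  obtain ⟨k, -, hk⟩ := (Nat.dvd_prime_pow hp).1 hdvd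
  refine ⟨k, ?_, hk⟩
  by_contra hk0
  have : k = 0 := by omega
  rw [this, pow_zero] at hk
  have h1 := Fintype.one_lt_card (α := F)
  rw [hq, hk] at h1
  norm_num at h1

theorem result {F : Type*} [Field F] [Fintype F] {p : ℕ} [Fact p.Prime] [CharP F p] {q : ℕ} (hq : Fintype.card F = q ^ 2)
    (n m : ℕ) (hn : 3 ≤ n) (hT : (n, q) ≠ (3, 2)) (hm : 1 ≤ m) (hmn : 2 * m ≤ n)
    (r : ℕ) [Fact r.Prime]
    (hrΩ : r ∣ Nat.card {W : Submodule F (Fin n → F) // Module.finrank F ↥W = m ∧ (∀ u ∈ W, ∀ v ∈ W, Cfsg.hermForm n F q u v = 0)})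
    (i b c : ℕ) (hi : i = orderOf (q : ZMod r)) (hb : b = if Even i then i / 2 else i)
    (hc : c = if i % 4 = 0 then i else if i % 4 = 2 then i / 2 else 2 * i) :
    (∀ x : Matrix.SpecialLinearGroup (Fin n) F, x ∈ Cfsg.SU n F q →
      (∃ z : F, ((x ^ r : Matrix.SpecialLinearGroup (Fin n) F) : Matrix (Fin n) (Fin n) F) = z • (1 : Matrix (Fin n) (Fin n) F)) →
      (∀ z : F, (x : Matrix (Fin n) (Fin n) F) ≠ z • (1 : Matrix (Fin n) (Fin n) F)) →
      ∃ W : Submodule F (Fin n → F), Module.finrank F ↥W = m ∧ (∀ u ∈ W, ∀ v ∈ W, Cfsg.hermForm n F q u v = 0) ∧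
        W.map (Matrix.toLin' (x : Matrix (Fin n) (Fin n) F)) ≤ W) ↔
    ((r = 2 ∧ p ≠ 2 ∧ (2 * m < n ∨ padicValNat 2 (q + 1) ≤ padicValNat 2 n)) ∨
     (r ≠ p ∧ 2 < r ∧ b ≤ m ∧ 2 * (m % b) ≤ n % c ∧
       (i % 4 ≠ 2 ∨ (i % 4 = 2 ∧ (r - 1) / b + 2 * (m / b) ≤ n / b ∧
         (2 < i ∨ (i = 2 ∧ (r ∣ m ∨ padicValNat r n ≤ padicValNat r (q + 1)))))))) := by
  classical
  have hrpr : r.Prime := Fact.out
  have hppr : p.Prime := Fact.out
  obtain ⟨σ, hσ, hσ2⟩ := Cfsg.Agent.Helper28.exists_frob hq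
  -- number theory from `hrΩ`
  obtain ⟨k, hk1, hqk⟩ := exists_q_pow (p := p) hq
  obtain ⟨hrp, j, hj1, hj2, hjr⟩ := nt_of_card_eq_u (p := p) q k hqk hk1
    (Cfsg.Agent.Helper28.HermCount.isoN F q) Cfsg.Agent.Helper28.HermCount.isoN_zero
    (Cfsg.Agent.Helper28.HermCount.isoN_succ hq) n m _ hm hmn (card_ti_mul_u hq n m hmn) r hrΩ
  have hn0 : 0 < n := by omega
  have hcc : c = cu q r := by rw [hc, hi, cu_def]
  constructor
  · intro hall
    by_cases hr2 : r = 2
    · left
      have hp2 : p ≠ 2 := fun h => hrp (hr2.trans h.symm)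
      refine ⟨hr2, hp2, ?_⟩
      by_contra hcon
      rw [not_or, not_lt, not_le] at hcon
      obtain ⟨hnm, hv⟩ := hcon
      obtain ⟨x, hxSU, ⟨z, hz⟩, hns, hW⟩ := exists_sq_derangement_u (p := p) hq hp2 n (by omega) hv
      obtain ⟨W, hWm, hWti, hWinv⟩ := hall x hxSU ⟨z, by
        rw [hr2, Matrix.SpecialLinearGroup.coe_pow]; exact hz⟩ hns
      have := hW W hWinv hWti
      omega
    · right
      have h2r : 2 < r := by
        have := hrpr.two_le
        omega
      obtain ⟨hi0, hbF, hbF0, hbFdvd, hcu, hcudvd, hrqi⟩ := cu_arith (p := p) hq r hr2 hrp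
      obtain ⟨hsd1, hsd2, hev, hod⟩ := cu_arith2 (p := p) hq r hr2 hrp
      have hbb : b = orderOf ((Fintype.card F : ℕ) : ZMod r) := by rw [hb, hi, hbF]
      have hcj : cu q r ∣ j := by
        rcases hjr with ⟨hje, hjd⟩ | ⟨hjo, hjd⟩
        · exact hev j hje hjd
        · exact hod j hjo hjd
      by_cases hrq : r ∣ q + 1
      · -- `i = 2`
        have hi2 : i = 2 := by rw [hi]; exact hrqi.mp hrq
        have hb1 : b = 1 := by rw [hb, hi2]; simp
        have hc1 : c = 1 := by rw [hc, hi2]; simp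
        refine ⟨hrp, h2r, by omega, by rw [hb1, hc1, Nat.mod_one, Nat.mod_one], Or.inr ⟨by rw [hi2], ?_, Or.inr ⟨hi2, ?_⟩⟩⟩
        · obtain ⟨x, hxSU, hxr, hns, hW⟩ := exists_diag_derangement_u (p := p) hq r hr2 hrp hrq n hn
          obtain ⟨W, hWm, hWti, hWinv⟩ := hall x hxSU ⟨1, by
            rw [Matrix.SpecialLinearGroup.coe_pow, hxr, one_smul]⟩ hns
          rcases hW W hWinv hWti with h0 | h1
          · omega
          · rw [hb1, Nat.div_one, Nat.div_one, Nat.div_one]
            omega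
        · by_contra hcon
          rw [not_or, not_le] at hcon
          obtain ⟨hrm, hv⟩ := hcon
          obtain ⟨x, hxSU, ⟨z, hz⟩, hns, hW⟩ :=
            exists_irr_derangement_u (p := p) hq r hr2 hrp hrq n (by omega) hv
          obtain ⟨W, hWm, hWti, hWinv⟩ := hall x hxSU ⟨z, by
            rw [Matrix.SpecialLinearGroup.coe_pow]; exact hz⟩ hns
          apply hrm
          rw [← hWm]
          exact hW W hWinv
      · -- `i ≠ 2`
        have hall' : ∀ x : Matrix.SpecialLinearGroup (Fin n) F, x ∈ Cfsg.SU n F q →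
            (x : Matrix (Fin n) (Fin n) F) ^ r = 1 → (x : Matrix (Fin n) (Fin n) F) ≠ 1 →
            ∃ W : Submodule F (Fin n → F), Module.finrank F ↥W = m ∧
              (∀ u ∈ W, ∀ v ∈ W, Cfsg.hermForm n F q u v = 0) ∧
              W.map (Matrix.toLin' (x : Matrix (Fin n) (Fin n) F)) ≤ W := by
          intro x hxSU hxr hx1
          refine hall x hxSU ⟨1, by rw [Matrix.SpecialLinearGroup.coe_pow, hxr, one_smul]⟩ ?_
          intro z hz
          have hzU : IsUn q (z • (1 : Matrix (Fin n) (Fin n) F)) := by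
            rw [← hz]; exact (mem_SU_iff x).mp hxSU
          have hzq := norm_one_of_isUn_scalar hn0 z hzU
          have hzr : z ^ r = 1 := by
            rw [hz, _root_.smul_pow, one_pow] at hxr
            have h00 := congrFun (congrFun hxr ⟨0, hn0⟩) ⟨0, hn0⟩
            simpa using h00
          have hz1 := eq_one_of_pow r hrpr hrq z hzr hzq
          apply hx1
          rw [hz, hz1, one_smul]
        obtain ⟨hbm, h2⟩ := nec_basic_u (p := p) hq r hr2 hrp hrq n m hm hmn j hj1 hj2 hcj hall'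
        refine ⟨hrp, h2r, hbb ▸ hbm, by rw [hbb, hcc]; exact h2, ?_⟩
        by_cases hsd : i % 4 = 2
        · right
          have hsd' : orderOf (q : ZMod r) % 4 = 2 := by rw [← hi]; exact hsd
          have hcub : cu q r = orderOf ((Fintype.card F : ℕ) : ZMod r) := by
            rw [hcu, if_pos hsd']
          refine ⟨hsd, ?_, Or.inl ?_⟩
          · rw [hbb]
            exact nec_even_u (p := p) hq r hr2 hrp hrq hsd' n m hm hmn hbm (hcub ▸ h2) hall'
          · have hine : i ≠ 2 := fun h => hrq (hrqi.mpr (by rw [← hi]; exact h))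
            omega
        · left
          exact hsd
  · rintro (⟨hr2, hp2, hcond⟩ | ⟨hrp', h2r, hbm, h2, h3⟩) x hx ⟨z, hxz⟩ hxns
    · rw [hr2, Matrix.SpecialLinearGroup.coe_pow] at hxz
      exact exists_ti_of_sq_u (p := p) hq hp2 n m hm hmn hcond x hx z hxz
    · have hr2 : r ≠ 2 := by omega
      obtain ⟨hi0, hbF, hbF0, hbFdvd, hcu, hcudvd, hrqi⟩ := cu_arith (p := p) hq r hr2 hrp
      have hbb : b = orderOf ((Fintype.card F : ℕ) : ZMod r) := by rw [hb, hi, hbF]
      have hxU : IsUn q (x : Matrix (Fin n) (Fin n) F) := (mem_SU_iff x).mp hx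
      have hzU : IsUn q (z • (1 : Matrix (Fin n) (Fin n) F)) := by
        rw [← hxz]; exact (mem_SU_iff (x ^ r)).mp ((Cfsg.SU n F q).pow_mem hx r)
      have hzq := norm_one_of_isUn_scalar hn0 z hzU
      rw [Matrix.SpecialLinearGroup.coe_pow] at hxz
      by_cases hroot : ∃ μ : F, μ ^ (q + 1) = 1 ∧ μ ^ r * z = 1
      · obtain ⟨μ, hμq, hμr⟩ := hroot
        have hμ0 : μ ≠ 0 := by
          rintro rfl
          rw [zero_pow (by omega)] at hμq
          exact zero_ne_one hμq
        have hx'U : IsUn q (μ • (x : Matrix (Fin n) (Fin n) F)) := isUn_smul _ hxU μ hμq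
        have hx'r : (μ • (x : Matrix (Fin n) (Fin n) F)) ^ r = 1 := by
          rw [_root_.smul_pow, hxz, smul_smul, hμr, one_smul]
        have hY := un_isYU hq σ hσ n _ hx'U r hx'r
        have hdim : Module.finrank F (Fin n → F) = n := Module.finrank_fin_fun F
        obtain ⟨W, hWm, hWti, hWinv⟩ := exists_ti_invariant_u (p := p) r hr2 hrp (hB σ n) _ hY m
          (by rw [hdim]; exact hmn) (by rw [hdim, ← hbb, ← hcc]; exact h2) (by
            rw [hdim, ← hbb, ← hi]
            rcases h3 with h3 | ⟨h3a, h3b, -⟩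
            · exact Or.inl h3
            · exact Or.inr h3b)
        refine ⟨W, hWm, fun u hu v hv => ?_, ?_⟩
        · have := hWti v hv u hu
          rwa [hB_herm σ hσ] at this
        · rintro _ ⟨w, hw, rfl⟩
          have h1 : Matrix.toLin' (μ • (x : Matrix (Fin n) (Fin n) F)) w ∈ W := hWinv ⟨w, hw, rfl⟩
          rw [map_smul, LinearMap.smul_apply] at h1
          have h2' := W.smul_mem μ⁻¹ h1
          rwa [smul_smul, inv_mul_cancel₀ hμ0, one_smul] at h2'
      · have hrq : r ∣ q + 1 := by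
          by_contra hrq
          exact hroot (exists_rth_root_norm_one hq r hrq z hzq)
        have hi2 : i = 2 := by rw [hi]; exact hrqi.mp hrq
        have hcond : r ∣ m ∨ padicValNat r n ≤ padicValNat r (q + 1) := by
          rcases h3 with h3 | ⟨-, -, h3c | ⟨-, h3c⟩⟩
          · omega
          · omega
          · exact h3c
        exact exists_ti_of_no_root (p := p) hq r hr2 hrp hrq n m hm hmn hcond x hx z hxz hroot

end Cfsg.Agent.S5953
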