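import Cfsg.Agent.Helper15.S5955COUNT
import Cfsg.Agent.Helper8.S5955NT
import Cfsg.Agent.Helper15.S5955R2NEC
import Cfsg.Agent.Helper14.S5955R2SUFF
import Cfsg.Agent.Helper16.S5955SUFF
import Cfsg.Agent.Helper16.S5955NEC
import Cfsg.Agent.Helper23.S5961FREEACTSP

set_option autoImplicit false
open scoped MatrixGroups
open Cfsg

namespace Cfsg.Agent.S5955

open Polynomial Cfsg.Agent.Helper2.SympInvol Cfsg.Agent.Helper2.SympUnits Cfsg.Agent.S5961P
  Cfsg.Agent.S5955P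

/-- `x ^ r = 1`, `x ≠ 1`, `r` odd: `x` is not scalar -/
theorem nonscalar_of_pow {F : Type*} [Field F] (d : ℕ) (hd : 1 ≤ d) (r : ℕ) (hr : Odd r)
    (x : Matrix.symplecticGroup (Fin d) F)
    (hx : (x : Matrix (Fin d ⊕ Fin d) (Fin d ⊕ Fin d) F) ^ r = 1)
    (hx1 : (x : Matrix (Fin d ⊕ Fin d) (Fin d ⊕ Fin d) F) ≠ 1) (z : F) :
    (x : Matrix (Fin d ⊕ Fin d) (Fin d ⊕ Fin d) F) ≠ z • 1 := by
  intro hz
  have hzz : z * z = 1 := scalar_sq_eq_one d hd z (hz ▸ x.2)
  rw [hz, _root_.smul_pow, one_pow] at hx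
  have h00 := congrFun (congrFun hx (Sum.inl ⟨0, hd⟩)) (Sum.inl ⟨0, hd⟩)
  simp only [Matrix.smul_apply, Matrix.one_apply_eq, smul_eq_mul, mul_one] at h00
  obtain ⟨k, hk⟩ := hr
  have hz1 : z = 1 := by
    have : z ^ r = z := by
      rw [hk, pow_succ, pow_mul, pow_two, hzz, one_pow, one_mul]
    rw [this] at h00
    exact h00
  apply hx1
  rw [hz, hz1, one_smul]

theorem result {F : Type*} [Field F] [Fintype F] {p : ℕ} [Fact p.Prime] [CharP F p] {q : ℕ} (hq : Fintype.card F = q)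
    (d m : ℕ) (hd : 2 ≤ d) (hT : (d, q) ≠ (2, 2)) (hm : 1 ≤ m) (hmd : m ≤ d)
    (r : ℕ) [Fact r.Prime]
    (hrΩ : r ∣ Nat.card {W : Submodule F (Fin d ⊕ Fin d → F) // Module.finrank F ↥W = m ∧ (∀ u ∈ W, ∀ v ∈ W, Cfsg.sympForm d F u v = 0)})
    (i c : ℕ) (hi : i = orderOf (q : ZMod r)) (hc : c = if Even i then i else 2 * i) :
    (∀ x : ↥(Matrix.symplecticGroup (Fin d) F),
      (∃ z : F, ((x ^ r : ↥(Matrix.symplecticGroup (Fin d) F)) : Matrix (Fin d ⊕ Fin d) (Fin d ⊕ Fin d) F) = z • (1 : Matrix (Fin d ⊕ Fin d) (Fin d ⊕ Fin d) F)) →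
      (∀ z : F, (x : Matrix (Fin d ⊕ Fin d) (Fin d ⊕ Fin d) F) ≠ z • (1 : Matrix (Fin d ⊕ Fin d) (Fin d ⊕ Fin d) F)) →
      ∃ W : Submodule F (Fin d ⊕ Fin d → F), Module.finrank F ↥W = m ∧ (∀ u ∈ W, ∀ v ∈ W, Cfsg.sympForm d F u v = 0) ∧
        W.map (Matrix.toLin' (x : Matrix (Fin d ⊕ Fin d) (Fin d ⊕ Fin d) F)) ≤ W) ↔
    ((r = 2 ∧ p ≠ 2 ∧ (Even m ∨ q % 4 = 1)) ∨
     (r ≠ p ∧ 2 < r ∧ i ≤ m ∧ 2 * (m % i) ≤ (2 * d) % c ∧ (Odd i ∨ (r - 1) / i + 2 * (m / i) ≤ (2 * d) / i))) := by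
  classical
  subst hq
  have hrpr : r.Prime := Fact.out
  have hppr : p.Prime := Fact.out
  have hcc : c = cc F r := by rw [hc, hi, cc_def]
  subst hi
  -- number theory from `hrΩ`
  obtain ⟨f, hf⟩ := FiniteField.card F p
  obtain ⟨hrp, j, hj, hrj⟩ := nt_of_card_eq (p := p) (Fintype.card F) f hf.2 f.pos d m _ hm hmd
    (card_ti_mul (F := F) d m hmd) r hrΩ
  have hd1 : 1 ≤ d := by omega
  have hVdim : Module.finrank F (Fin d ⊕ Fin d → F) = 2 * d := by
    rw [Module.finrank_fintype_fun_eq_card, Fintype.card_sum, Fintype.card_fin]; ring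
  constructor
  · intro hall
    by_cases hr2 : r = 2
    · left
      have hp2 : p ≠ 2 := fun h => hrp (hr2.trans h.symm)
      refine ⟨hr2, hp2, ?_⟩
      by_contra hcon
      rw [not_or] at hcon
      obtain ⟨hmodd, hq1⟩ := hcon
      have hqodd : Fintype.card F % 2 = 1 := FiniteField.odd_card_of_char_ne_two (by
        rw [ringChar.eq F p]; exact hp2)
      have hq3 : Fintype.card F % 4 = 3 := by omega
      obtain ⟨x, hx2, hxns, hxW⟩ := exists_sq_derangement (F := F) d hd1 hq3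
      obtain ⟨W, hWm, -, hWinv⟩ := hall x ⟨-1, by
        rw [hr2, SubmonoidClass.coe_pow]; exact hx2⟩ hxns
      apply hmodd
      rw [← hWm]
      exact hxW W hWinv
    · right
      have h2r : 2 < r := by
        have := hrpr.two_le
        omega
      have hall' : ∀ x : Matrix.symplecticGroup (Fin d) F,
          (x : Matrix (Fin d ⊕ Fin d) (Fin d ⊕ Fin d) F) ^ r = 1 →
          (x : Matrix (Fin d ⊕ Fin d) (Fin d ⊕ Fin d) F) ≠ 1 →
          ∃ W : Submodule F (Fin d ⊕ Fin d → F), Module.finrank F ↥W = m ∧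
            (∀ u ∈ W, ∀ v ∈ W, Cfsg.sympForm d F u v = 0) ∧
            W.map (Matrix.toLin' (x : Matrix (Fin d ⊕ Fin d) (Fin d ⊕ Fin d) F)) ≤ W := by
        intro x hx hx1
        have hodd : Odd r := hrpr.odd_of_ne_two hr2
        exact hall x ⟨1, by rw [SubmonoidClass.coe_pow, hx, one_smul]⟩
          (nonscalar_of_pow d hd1 r hodd x hx hx1)
      obtain ⟨hile, h2⟩ := nec_basic (p := p) r hr2 hrp d m hm hmd j hj hrj hall'
      refine ⟨hrp, h2r, hile, hcc ▸ h2, ?_⟩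
      by_cases hev : Even (orderOf ((Fintype.card F : ℕ) : ZMod r))
      · right
        have h2' : 2 * (m % orderOf ((Fintype.card F : ℕ) : ZMod r)) ≤
            (2 * d) % orderOf ((Fintype.card F : ℕ) : ZMod r) := by
          have : cc F r = orderOf ((Fintype.card F : ℕ) : ZMod r) := by
            rw [cc_def, if_pos hev]
          rw [this] at h2; exact h2
        exact nec_even (p := p) r hr2 hrp d m hm hmd hev hile h2' hall'
      · left
        exact Nat.not_even_iff_odd.mp hev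
  · rintro (⟨hr2, hp2, hcond⟩ | ⟨hrp', h2r, hile, h2, h3⟩) x ⟨z, hxz⟩ hxns
    · rw [hr2, SubmonoidClass.coe_pow] at hxz
      exact exists_ti_of_sq (p := p) hp2 d m hm hmd hcond x z hxz
    · have hr2 : r ≠ 2 := by omega
      rw [SubmonoidClass.coe_pow] at hxz
      have hzmem : z • (1 : Matrix (Fin d ⊕ Fin d) (Fin d ⊕ Fin d) F) ∈
          Matrix.symplecticGroup (Fin d) F := by
        rw [← hxz]; exact (x ^ r).2
      have hzz : z * z = 1 := scalar_sq_eq_one d hd1 z hzmem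
      have hz0 : z ≠ 0 := by
        rintro rfl
        rw [mul_zero] at hzz
        exact zero_ne_one hzz
      obtain ⟨f₀, hf₀⟩ : ∃ f₀ : Module.End F (Fin d ⊕ Fin d → F),
        f₀ = Matrix.toLin' (x : Matrix (Fin d ⊕ Fin d) (Fin d ⊕ Fin d) F) := ⟨_, rfl⟩
      have hf₀r : f₀ ^ r = z • (1 : Module.End F (Fin d ⊕ Fin d → F)) := by
        rw [hf₀, ← Matrix.toLin'_pow, hxz, map_smul, Matrix.toLin'_one]; rfl
      have hodd : Odd r := hrpr.odd_of_ne_two hr2
      have hzr : z ^ (r + 1) = 1 := by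
        obtain ⟨k, hk⟩ := hodd
        rw [hk, show 2 * k + 1 + 1 = 2 * (k + 1) by ring, pow_mul, pow_two, hzz, one_pow]
      have hY : IsYSp (sB d F) (z • f₀) r := by
        refine ⟨sB_alt d F, sB_nondeg d F, ?_, ?_⟩
        · intro u v
          have h1 : (z • f₀) u = z • f₀ u := rfl
          have h2 : (z • f₀) v = z • f₀ v := rfl
          rw [h1, h2, map_smul, map_smul, LinearMap.smul_apply, smul_eq_mul, smul_eq_mul,
            ← mul_assoc, hzz, one_mul, hf₀]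
          exact sB_isometry d F x u v
        · rw [_root_.smul_pow, hf₀r, smul_smul, ← pow_succ, hzr, one_smul]
      obtain ⟨W, hWm, hWti, hWinv⟩ := exists_ti_invariant (p := p) r hr2 hrp (sB d F) (z • f₀) hY m
        (by rw [hVdim]; omega) (by rw [hVdim, ← hcc]; exact h2) (by rw [hVdim]; exact h3)
      refine ⟨W, hWm, fun u hu v hv => hWti u hu v hv, ?_⟩
      rw [← hf₀]
      rintro _ ⟨w, hw, rfl⟩
      have h1 : (z • f₀) w ∈ W := hWinv ⟨w, hw, rfl⟩
      have h2' : z⁻¹ • (z • f₀) w ∈ W := W.smul_mem _ h1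
      rwa [LinearMap.smul_apply, smul_smul, inv_mul_cancel₀ hz0, one_smul] at h2'

end Cfsg.Agent.S5955
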