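import Cfsg.Statements.S5956
import Cfsg.Agent.Helper19.S5956FRSPAN
import Cfsg.Agent.Helper19.S5956FRSUCC
import Cfsg.Agent.Helper15.S5956NT
import Cfsg.Agent.Helper22.S5956SUFF4
import Cfsg.Agent.Helper22.S5956NEC4
import Cfsg.Agent.Helper24.S5956R2SUFF
import Cfsg.Agent.Helper19.S5956SUFF2
import Cfsg.Agent.Helper26.S5956INVOL4
import Cfsg.Agent.Helper15.S5956MODEL2
import Cfsg.Agent.Helper1.S5956SUFFP
import Cfsg.Agent.Helper1.S5956NECP
import Cfsg.Agent.Helper23.S5961FREEACTSP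

set_option autoImplicit false
open scoped MatrixGroups
open Cfsg

namespace Cfsg.Agent.S5956

open Polynomial Cfsg.Agent.Helper2.SympInvol Cfsg.Agent.Helper2.SympUnits Cfsg.Agent.S5961P
  Cfsg.Agent.S5955P Cfsg.Agent.S5956P

/-- `x ^ r = 1`, `x ≠ 1`, `r` odd: `x` is not scalar -/
theorem nonscalar_of_pow {F : Type*} [Field F] (d : ℕ) (hd : 1 ≤ d) (r : ℕ) (hr : Odd r)
    (x : Matrix.symplecticGroup (Fin d) F)
    (hx : (x : Matrix (Fin d ⊕ Fin d) (Fin d ⊕ Fin d) F) ^ r = 1)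
    (hx1 : (x : Matrix (Fin d ⊕ Fin d) (Fin d ⊕ Fin d) F) ≠ 1) (z : F) :
    (x : Matrix (Fin d ⊕ Fin d) (Fin d ⊕ Fin d) F) ≠ z • 1 := by
  intro hz
  have hzz : z * z = 1 := scalar_sq_eq_one d hd z (hz ▸ x.2)
  rw [hz, _root_.smul_pow, one_pow] at hx
  have h00 := congrFun (congrFun hx (Sum.inl ⟨0, hd⟩)) (Sum.inl ⟨0, hd⟩)
  simp only [Matrix.smul_apply, Matrix.one_apply_eq, smul_eq_mul, mul_one] at h00
  obtain ⟨k, hk⟩ := hr
  have hz1 : z = 1 := by
    have : z ^ r = z := by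
      rw [hk, pow_succ, pow_mul, pow_two, hzz, one_pow, one_mul]
    rw [this] at h00
    exact h00
  apply hx1
  rw [hz, hz1, one_smul]

/-- the number of hyperbolic `s`-frames -/
theorem card_HFr {F V : Type*} [Field F] [Fintype F] [AddCommGroup V] [Module F V]
    [FiniteDimensional F V] (B : LinearMap.BilinForm F V) (halt : ∀ v, B v v = 0)
    (hnd : Nondeg B ⊤) (d : ℕ) (hV : Module.finrank F V = 2 * d) (s : ℕ) (hs : s ≤ d) :
    Nat.card (HFr B s) = ∏ j ∈ Finset.range s,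
      ((Fintype.card F ^ (2 * (d - j)) - 1) * Fintype.card F ^ (2 * (d - j) - 1)) := by
  induction s with
  | zero =>
    rw [Finset.range_zero, Finset.prod_empty]
    have : Unique (HFr B 0) :=
      { default := ⟨fun i => i.elim0, fun i => i.elim0⟩
        uniq := fun g => Subtype.ext (funext fun i => i.elim0) }
    exact Nat.card_unique
  | succ s ih =>
    rw [card_HFr_succ B halt hnd d s hV (by omega), ih (by omega), Finset.prod_range_succ]

/-- the scaled isometry `z • x` of order `r` (`r` odd) -/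
theorem isYSp_smul {F : Type*} [Field F] (d : ℕ) (hd1 : 1 ≤ d) (r : ℕ) (hodd : Odd r)
    (x : Matrix.symplecticGroup (Fin d) F) (z : F)
    (hxz : (x : Matrix (Fin d ⊕ Fin d) (Fin d ⊕ Fin d) F) ^ r =
      z • (1 : Matrix (Fin d ⊕ Fin d) (Fin d ⊕ Fin d) F)) :
    z ≠ 0 ∧ IsYSp (sB d F)
      (z • Matrix.toLin' (x : Matrix (Fin d ⊕ Fin d) (Fin d ⊕ Fin d) F)) r := by
  have hzmem : z • (1 : Matrix (Fin d ⊕ Fin d) (Fin d ⊕ Fin d) F) ∈
      Matrix.symplecticGroup (Fin d) F := by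
    rw [← hxz]; exact (x ^ r).2
  have hzz : z * z = 1 := scalar_sq_eq_one d hd1 z hzmem
  have hz0 : z ≠ 0 := by
    rintro rfl
    rw [mul_zero] at hzz
    exact zero_ne_one hzz
  obtain ⟨f₀, hf₀⟩ : ∃ f₀ : Module.End F (Fin d ⊕ Fin d → F),
    f₀ = Matrix.toLin' (x : Matrix (Fin d ⊕ Fin d) (Fin d ⊕ Fin d) F) := ⟨_, rfl⟩
  have hf₀r : f₀ ^ r = z • (1 : Module.End F (Fin d ⊕ Fin d → F)) := by
    rw [hf₀, ← Matrix.toLin'_pow, hxz, map_smul, Matrix.toLin'_one]; rfl
  have hzr : z ^ (r + 1) = 1 := by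
    obtain ⟨k, hk⟩ := hodd
    rw [hk, show 2 * k + 1 + 1 = 2 * (k + 1) by ring, pow_mul, pow_two, hzz, one_pow]
  refine ⟨hz0, ?_⟩
  rw [← hf₀]
  refine ⟨sB_alt d F, sB_nondeg d F, ?_, ?_⟩
  · intro u v
    have h1 : (z • f₀) u = z • f₀ u := rfl
    have h2 : (z • f₀) v = z • f₀ v := rfl
    rw [h1, h2, map_smul, map_smul, LinearMap.smul_apply, smul_eq_mul, smul_eq_mul,
      ← mul_assoc, hzz, one_mul, hf₀]
    exact sB_isometry d F x u v
  · rw [_root_.smul_pow, hf₀r, smul_smul, ← pow_succ, hzr, one_smul]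

/-- invariance under `z • f` gives invariance under `f` -/
theorem map_le_of_smul {F V : Type*} [Field F] [AddCommGroup V] [Module F V] (z : F)
    (hz0 : z ≠ 0) (f : Module.End F V) (W : Submodule F V) (h : W.map (z • f) ≤ W) :
    W.map f ≤ W := by
  rintro _ ⟨w, hw, rfl⟩
  have h1 : (z • f) w ∈ W := h ⟨w, hw, rfl⟩
  have h2' : z⁻¹ • (z • f) w ∈ W := W.smul_mem _ h1
  rwa [LinearMap.smul_apply, smul_smul, inv_mul_cancel₀ hz0, one_smul] at h2'

/-- Elements of prime order of PSp_n(q) with no fixed nondegenerate `m`-space. Here `T = PSp_n(q)` with `n = 2d ≥ 4`, `(n, q) ≠ (4, 2)`, realised through the symplectic matrices over the field `F` with `q` elements (preserving the standard alternating form); an element of `T` of prime order `r` is such a matrix `x` with `x^r` scalar and `x` not scalar. For `r ≠ p` let `i` be the multiplicative order of `q` modulo `r`, `c = i` for `i` even and `c = 2i` for `i` odd, and write `k = n mod c`, `ℓ = m mod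 i`, `ℓ' = m mod c`, `n' = ⌊n/i⌋`, `m' = ⌊m/i⌋`, `t = (r−1)/i`. Let `m` be even with `2 ≤ m < n/2` and let `r` be a prime dividing the number of nondegenerate `m`-spaces. Then every element of `T` of order `r` fixes a nondegenerate `m`-space if and only if one of: (i) `r = p > 2` and every partition of `n` into parts of size at most `p` in which every odd part has even multiplicity contains (as a sub-multiset) a partition of `m` in which every odd part has even multiplicity; (ii) `r = p = 2` and (`n ≡ 2 (mod 4)` or `m ≡ 0 (mod 4)`); (iii) `r = 2 ≠ p`; (iv) `r ≠ p`, `r > 2`, `c ≤ m` and `k ≥ ℓ'`. -/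
theorem result {F : Type*} [Field F] [Fintype F] {p : ℕ} [Fact p.Prime] [CharP F p] {q : ℕ} (hq : Fintype.card F = q)
    (d m : ℕ) (hd : 2 ≤ d) (hT : (d, q) ≠ (2, 2)) (hm : 2 ≤ m) (hme : Even m) (hmd : m < d)
    (r : ℕ) [Fact r.Prime]
    (hrΩ : r ∣ Nat.card {W : Submodule F (Fin d ⊕ Fin d → F) // Module.finrank F ↥W = m ∧ (∀ u ∈ W, u ≠ 0 → ∃ v ∈ W, Cfsg.sympForm d F u v ≠ 0)})
    (i c : ℕ) (hi : i = orderOf (q : ZMod r)) (hc : c = if Even i then i else 2 * i) :
    (∀ x : ↥(Matrix.symplecticGroup (Fin d) F),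
      (∃ z : F, ((x ^ r : ↥(Matrix.symplecticGroup (Fin d) F)) : Matrix (Fin d ⊕ Fin d) (Fin d ⊕ Fin d) F) = z • (1 : Matrix (Fin d ⊕ Fin d) (Fin d ⊕ Fin d) F)) →
      (∀ z : F, (x : Matrix (Fin d ⊕ Fin d) (Fin d ⊕ Fin d) F) ≠ z • (1 : Matrix (Fin d ⊕ Fin d) (Fin d ⊕ Fin d) F)) →
      ∃ W : Submodule F (Fin d ⊕ Fin d → F), Module.finrank F ↥W = m ∧ (∀ u ∈ W, u ≠ 0 → ∃ v ∈ W, Cfsg.sympForm d F u v ≠ 0) ∧
        W.map (Matrix.toLin' (x : Matrix (Fin d ⊕ Fin d) (Fin d ⊕ Fin d) F)) ≤ W) ↔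
    ((r = p ∧ 2 < p ∧ (∀ μ : Multiset ℕ, (∀ a ∈ μ, 0 < a ∧ a ≤ p) → (∀ a : ℕ, Odd a → Even (μ.count a)) → μ.sum = 2 * d →
        ∃ ν : Multiset ℕ, ν ≤ μ ∧ ν.sum = m ∧ ∀ a : ℕ, Odd a → Even (ν.count a))) ∨
     (r = p ∧ p = 2 ∧ ((2 * d) % 4 = 2 ∨ m % 4 = 0)) ∨
     (r = 2 ∧ p ≠ 2) ∨
     (r ≠ p ∧ 2 < r ∧ c ≤ m ∧ m % c ≤ (2 * d) % c)) := by
  classical
  subst hq
  have hrpr : r.Prime := Fact.out
  have hppr : p.Prime := Fact.out
  have hcc : c = cc F r := by rw [hc, hi, cc_def]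
  subst hi
  have hd1 : 1 ≤ d := by omega
  have hVdim : Module.finrank F (Fin d ⊕ Fin d → F) = 2 * d := by
    rw [Module.finrank_fintype_fun_eq_card, Fintype.card_sum, Fintype.card_fin]; ring
  obtain ⟨s, hs⟩ : ∃ s, m = 2 * s := by
    obtain ⟨s, hs⟩ := hme
    exact ⟨s, by omega⟩
  constructor
  · intro hall
    by_cases hrp : r = p
    · by_cases hp2 : p = 2
      · -- (ii)
        right; left
        refine ⟨hrp, hp2, ?_⟩
        by_contra hcon
        rw [not_or] at hcon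
        have : CharP F 2 := hp2 ▸ (inferInstance : CharP F p)
        have hdeven : Even d := by
          rw [Nat.even_iff]; omega
        obtain ⟨x, hxx, hxns, hxq, hxker⟩ := exists_invol_model (F := F) d hdeven (by omega)
        obtain ⟨W, hWm, hWnd, hWinv⟩ := hall x ⟨1, by
          rw [hrp, hp2, SubmonoidClass.coe_pow, pow_two, hxx, one_smul]⟩ hxns
        have hXX : ∀ v, Matrix.toLin' (x : Matrix (Fin d ⊕ Fin d) (Fin d ⊕ Fin d) F)
            (Matrix.toLin' (x : Matrix (Fin d ⊕ Fin d) (Fin d ⊕ Fin d) F) v) = v := by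
          intro v
          rw [← LinearMap.comp_apply, ← Matrix.toLin'_mul, hxx, Matrix.toLin'_one]
          rfl
        have h4 := four_dvd_of_invol (sB d F) (sB_alt d F) (sB_nondeg d F)
          (Matrix.toLin' (x : Matrix (Fin d ⊕ Fin d) (Fin d ⊕ Fin d) F)) (sB_isometry d F x) hXX
          (fun v => hxq v) (by rw [hxker, hVdim]) W hWinv hWnd
        rw [hWm] at h4
        omega
      · -- (i)
        left
        have h2p : 2 < p := by
          have := hppr.two_le
          omega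
        refine ⟨hrp, h2p, ?_⟩
        intro μ hμ hpar hsum
        have hodd : Odd p := hppr.odd_of_ne_two hp2
        refine nec_unipotent (F := F) (p := p) hp2 d m (by omega) hme (fun x hx hx1 => ?_) μ hμ hpar hsum
        exact hall x ⟨1, by rw [hrp, SubmonoidClass.coe_pow, hx, one_smul]⟩
          (nonscalar_of_pow d hd1 p hodd x hx hx1)
    · by_cases hr2 : r = 2
      · right; right; left
        exact ⟨hr2, fun h => hrp (hr2.trans h.symm)⟩
      · right; right; right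
        have h2r : 2 < r := by
          have := hrpr.two_le
          omega
        have hodd : Odd r := hrpr.odd_of_ne_two hr2
        obtain ⟨f, hf⟩ := FiniteField.card F p
        have hdvd : r ∣ Nat.card (HFr (sB d F) s) :=
          dvd_trans hrΩ (card_nd_dvd_card_HFr d m s hs)
        rw [card_HFr (sB d F) (sB_alt d F) (sB_nondeg d F) d hVdim s (by omega)] at hdvd
        obtain ⟨j, hj, hrj⟩ := nt_of_dvd_prod hppr (Fintype.card F) f hf.2 r hrpr hrp d s hdvd
        have hall' : ∀ x : Matrix.symplecticGroup (Fin d) F,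
            (x : Matrix (Fin d ⊕ Fin d) (Fin d ⊕ Fin d) F) ^ r = 1 →
            (x : Matrix (Fin d ⊕ Fin d) (Fin d ⊕ Fin d) F) ≠ 1 →
            ∃ W : Submodule F (Fin d ⊕ Fin d → F), Module.finrank F ↥W = m ∧
              (∀ u ∈ W, u ≠ 0 → ∃ v ∈ W, Cfsg.sympForm d F u v ≠ 0) ∧
              W.map (Matrix.toLin' (x : Matrix (Fin d ⊕ Fin d) (Fin d ⊕ Fin d) F)) ≤ W := by
          intro x hx hx1
          exact hall x ⟨1, by rw [SubmonoidClass.coe_pow, hx, one_smul]⟩
            (nonscalar_of_pow d hd1 r hodd x hx hx1)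
        obtain ⟨h1, h2⟩ := nec_odd (p := p) r hr2 hrp d m hm hmd j (by omega) hrj hall'
        exact ⟨hrp, h2r, hcc ▸ h1, hcc ▸ h2⟩
  · rintro (⟨hrp, h2p, HP⟩ | ⟨hrp, hp2, hcond⟩ | ⟨hr2, hp2⟩ | ⟨hrp, h2r, hcm, hcond⟩) x
      ⟨z, hxz⟩ hxns
    all_goals
      have hzmem : z • (1 : Matrix (Fin d ⊕ Fin d) (Fin d ⊕ Fin d) F) ∈
          Matrix.symplecticGroup (Fin d) F := by
        rw [← hxz]; exact (x ^ r).2
      have hzz : z * z = 1 := scalar_sq_eq_one d hd1 z hzmem
    · -- (i)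
      have hp2 : p ≠ 2 := by omega
      have hodd : Odd p := hppr.odd_of_ne_two hp2
      rw [SubmonoidClass.coe_pow, hrp] at hxz
      obtain ⟨hz0, hY⟩ := isYSp_smul d hd1 p hodd x z hxz
      obtain ⟨W, hWm, hWnd, hWinv⟩ := exists_nd_of_unipotent hp2 (sB d F) _ hY d m hVdim HP
      exact ⟨W, hWm, hWnd, map_le_of_smul z hz0 _ W hWinv⟩
    · -- (ii)
      rw [SubmonoidClass.coe_pow, hrp, hp2] at hxz
      have : CharP F 2 := hp2 ▸ (inferInstance : CharP F p)
      have hz1 : z = 1 := by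
        have h0 : (z - 1) * (z - 1) = 0 := by
          have h22 : (2 : F) = 0 := CharTwo.two_eq_zero
          linear_combination hzz + (1 - z) * h22
        have := mul_self_eq_zero.mp h0
        exact sub_eq_zero.mp this
      rw [hz1, one_smul, pow_two] at hxz
      have hXX : ∀ v, Matrix.toLin' (x : Matrix (Fin d ⊕ Fin d) (Fin d ⊕ Fin d) F)
          (Matrix.toLin' (x : Matrix (Fin d ⊕ Fin d) (Fin d ⊕ Fin d) F) v) = v := by
        intro v
        rw [← LinearMap.comp_apply, ← Matrix.toLin'_mul, hxz, Matrix.toLin'_one]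
        rfl
      exact exists_nd_of_invol (sB d F) (sB_alt d F) (sB_nondeg d F)
        (Matrix.toLin' (x : Matrix (Fin d ⊕ Fin d) (Fin d ⊕ Fin d) F)) (sB_isometry d F x) hXX
        m hme (by rw [hVdim]; omega) (by rw [hVdim]; exact hcond)
    · -- (iii)
      rw [SubmonoidClass.coe_pow, hr2] at hxz
      have h2 : (2 : F) ≠ 0 := by
        intro h
        have h2' : ((2 : ℕ) : F) = 0 := by exact_mod_cast h
        rw [CharP.cast_eq_zero_iff F p] at h2'
        exact hp2 ((Nat.prime_dvd_prime_iff_eq hppr Nat.prime_two).mp h2')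
      have hz : z = 1 ∨ z = -1 := by
        have h0 : (z - 1) * (z + 1) = 0 := by
          calc (z - 1) * (z + 1) = z * z - 1 := by ring
            _ = 0 := by rw [hzz]; ring
        rcases mul_eq_zero.mp h0 with h | h
        · left; exact sub_eq_zero.mp h
        · right; exact eq_neg_of_add_eq_zero_left h
      rw [pow_two] at hxz
      have hXX : ∀ v, Matrix.toLin' (x : Matrix (Fin d ⊕ Fin d) (Fin d ⊕ Fin d) F)
          (Matrix.toLin' (x : Matrix (Fin d ⊕ Fin d) (Fin d ⊕ Fin d) F) v) = z • v := by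
        intro v
        rw [← LinearMap.comp_apply, ← Matrix.toLin'_mul, hxz, map_smul, Matrix.toLin'_one]
        rfl
      exact exists_nd_of_sq h2 (sB d F) (sB_alt d F) (sB_nondeg d F)
        (Matrix.toLin' (x : Matrix (Fin d ⊕ Fin d) (Fin d ⊕ Fin d) F)) (sB_isometry d F x) z hz
        hXX m hme (by rw [hVdim]; omega)
    · -- (iv)
      have hr2 : r ≠ 2 := by omega
      have hodd : Odd r := hrpr.odd_of_ne_two hr2
      rw [SubmonoidClass.coe_pow] at hxz
      obtain ⟨hz0, hY⟩ := isYSp_smul d hd1 r hodd x z hxz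
      obtain ⟨W, hWm, hWnd, hWinv⟩ := exists_nd_invariant_odd (p := p) r hr2 hrp (sB d F) _ hY m
        hme (by rw [hVdim]; omega) (by rw [hVdim, ← hcc]; exact hcond)
      exact ⟨W, hWm, hWnd, map_le_of_smul z hz0 _ W hWinv⟩

end Cfsg.Agent.S5956
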