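import Cfsg.Statements.S5958
import Cfsg.Agent.Helper21.S5949CYCMAIN
import Cfsg.Agent.Helper3.S5949NTS
import Cfsg.Agent.Helper17.S5949DEG
import Cfsg.Agent.Helper21.S5958CYCLE
import Cfsg.Agent.Helper21.S5958BLOCK
import Cfsg.Agent.Helper21.S5958MODEL2
import Cfsg.Agent.Helper29.S5958FIXED
import Cfsg.Agent.Helper23.S5958FREEACT
import Cfsg.Agent.Helper23.S5958TRANS
import Cfsg.Agent.Helper26.S5958NTGL
import Cfsg.Agent.Helper26.S5958INDUCT
import Cfsg.Agent.Helper24.S5958KUM
import Cfsg.Agent.Helper8.S5958LINES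
import Cfsg.Agent.Helper1.S5958PERM

set_option autoImplicit false
open scoped MatrixGroups
open Cfsg

namespace Cfsg.Agent.S5958

open Polynomial Cfsg.Agent.S5949P Cfsg.Agent.S5958P

theorem mod_eq_of_le (a t c k : ℕ) (hc : 0 < c) (hk : k = (a * t) % c) (hle : t * (a % c) ≤ k) :
    k = t * (a % c) := by
  have hklt : k < c := by rw [hk]; exact Nat.mod_lt _ hc
  have h1 : (a * t) % c = (a % c * t) % c := (Nat.mod_mul_mod a t c).symm
  have h2 : a % c * t < c := by rw [mul_comm]; omega
  rw [hk, h1, Nat.mod_eq_of_lt h2, mul_comm]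

/-- the data attached to a model element -/
theorem model_data {F : Type*} [Field F] [Fintype F] {p : ℕ} [Fact p.Prime] [CharP F p]
    (n a t : ℕ) (r : ℕ) [Fact r.Prime] (hrp : r ≠ p)
    (hall : ∀ x : Matrix.SpecialLinearGroup (Fin n) F,
      (∃ z : F, ((x ^ r : Matrix.SpecialLinearGroup (Fin n) F) : Matrix (Fin n) (Fin n) F) = z • (1 : Matrix (Fin n) (Fin n) F)) →
      (∀ z : F, (x : Matrix (Fin n) (Fin n) F) ≠ z • (1 : Matrix (Fin n) (Fin n) F)) →
      ∃ D : Fin t → Submodule F (Fin n → F), Cfsg.Geo.IsMDecomposition a D ∧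
        ∃ σ : Equiv.Perm (Fin t), ∀ j, (D j).map (Matrix.toLin' (x : Matrix (Fin n) (Fin n) F)) = D (σ j))
    (hc2 : 2 ≤ orderOf ((Fintype.card F : ℕ) : ZMod r)) (m : ℕ) (hm : 1 ≤ m)
    (hmn : orderOf ((Fintype.card F : ℕ) : ZMod r) * m ≤ n) :
    ∃ (f : Module.End F (Fin n → F)) (g : F[X]), Irreducible g ∧
      g.natDegree = orderOf ((Fintype.card F : ℕ) : ZMod r) ∧ f ^ r = 1 ∧ f ≠ 1 ∧
      Module.finrank F (LinearMap.ker (f - 1)) = n - orderOf ((Fintype.card F : ℕ) : ZMod r) * m ∧
      aeval f (g * (X - 1)) = 0 ∧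
      ∃ (D : Fin t → Submodule F (Fin n → F)) (σ : Equiv.Perm (Fin t)),
        Cfsg.Geo.IsMDecomposition a D ∧ ∀ j, (D j).map f = D (σ j) := by
  obtain ⟨x, g, hgi, -, hgd, hx1, hxns, hker, hae⟩ := model_single (p := p) r hrp n m hc2 hm hmn
  obtain ⟨D, hD, σ, hσ⟩ :=
    hall x ⟨1, by rw [Matrix.SpecialLinearGroup.coe_pow, hx1, one_smul]⟩ hxns
  refine ⟨Matrix.toLin' (x : Matrix (Fin n) (Fin n) F), g, hgi,
    natDegree_of_dvd_cyclotomic r hrp g hgi hgd, ?_, ?_, hker, hae, D, σ, hD, hσ⟩
  · rw [← Matrix.toLin'_pow, hx1, Matrix.toLin'_one]; rfl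
  · intro h1
    apply hxns 1
    rw [one_smul]
    apply Matrix.toLin'.injective
    rw [h1, Matrix.toLin'_one]; rfl

/-- Elements of odd prime order of PSL_n(q) and imprimitive subgroups. Here `T = PSL_n(F)` for a field `F` with `q = p^f` elements (`n ≥ 2`, `(n, q) ≠ (2, 2), (2, 3)`), `n = a·t` with `t ≥ 2`, and Ω is the set of direct-sum decompositions of `F^n` into `t` subspaces of dimension `a` (unordered; their number is the number of ordered ones divided by `t!`), whose stabilizers are the imprimitive subgroups of type GL_a(q) ≀ S_t (maximal except in some small cases; maximality is not assumed); an element of `T` of prime order `r` (a matrix `x` of determinant 1 with `x^r` scalar, `x` not scalar) fixes a point of Ω when it permutes the summands of some such decomposition. Let `r ≠ p` be an odd prime dividing the number of such decompositions, let `c` be the multiplicative order of `q` modulo `r`, and write `k = n mod c`, `ℓ = a mod c`. Then every element of `T` of order `r` stabilizes such a decomposition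 if and only if either `a = 1`, `c = r − 1 > 1` and `n ≤ k·r`, or `c ≤ a` and `k = t·ℓ`. -/
theorem result {F : Type*} [Field F] [Fintype F] {p : ℕ} [Fact p.Prime] [CharP F p] {q : ℕ} (hq : Fintype.card F = q)
    (n a t : ℕ) (hn : 2 ≤ n) (hT : (n, q) ≠ (2, 2) ∧ (n, q) ≠ (2, 3)) (hat : n = a * t) (ha : 1 ≤ a) (ht : 2 ≤ t)
    (r : ℕ) [Fact r.Prime] (hr2 : r ≠ 2) (hrp : r ≠ p) (hΩ : r ∣ Nat.card {D : Fin t → Submodule F (Fin n → F) // Cfsg.Geo.IsMDecomposition a D} / Nat.factorial t)
    (c : ℕ) (hc : c = orderOf (q : ZMod r)) :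
    (∀ x : Matrix.SpecialLinearGroup (Fin n) F,
      (∃ z : F, ((x ^ r : Matrix.SpecialLinearGroup (Fin n) F) : Matrix (Fin n) (Fin n) F) = z • (1 : Matrix (Fin n) (Fin n) F)) →
      (∀ z : F, (x : Matrix (Fin n) (Fin n) F) ≠ z • (1 : Matrix (Fin n) (Fin n) F)) →
      ∃ D : Fin t → Submodule F (Fin n → F), Cfsg.Geo.IsMDecomposition a D ∧
        ∃ σ : Equiv.Perm (Fin t), ∀ j, (D j).map (Matrix.toLin' (x : Matrix (Fin n) (Fin n) F)) = D (σ j)) ↔
    ((a = 1 ∧ 1 < c ∧ c = r - 1 ∧ n ≤ (n % c) * r) ∨ (c ≤ a ∧ n % c = t * (a % c))) := by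
  classical
  subst hq
  subst hc
  have hrpr : r.Prime := Fact.out
  have hcpos : 0 < orderOf ((Fintype.card F : ℕ) : ZMod r) := orderOf_card_pos (p := p) r hrp
  obtain ⟨c, hc⟩ : ∃ c : ℕ, c = orderOf ((Fintype.card F : ℕ) : ZMod r) := ⟨_, rfl⟩
  rw [← hc] at hcpos ⊢
  have hnV : Module.finrank F (Fin n → F) = n := Module.finrank_fin_fun F
  constructor
  · -- every element of order `r` stabilizes a decomposition ⇒ the arithmetic condition
    intro hall
    by_cases hc1 : c = 1
    · right
      rw [hc1, Nat.mod_one, Nat.mod_one, mul_zero]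
      exact ⟨ha, rfl⟩
    have hc2 : 2 ≤ c := by omega
    have hcn : c ≤ n := by
      rw [hc]
      apply order_le_of_dvd_card_GL (p := p) r hrp n
      have h1 := card_decomp_dvd_card_GL (F := F) n a t hat ha ht
      have h2 := factorial_dvd_card_decomp (F := F) n a t
      exact dvd_trans (dvd_trans hΩ (Nat.div_dvd_of_dvd h2)) h1
    have hq0 : ((Fintype.card F : ℕ) : ZMod r) ≠ 0 := by
      intro h0
      rw [h0, orderOf_zero] at hc
      omega
    have hcdvd : c ∣ r - 1 := by rw [hc]; exact ZMod.orderOf_dvd_card_sub_one hq0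
    have hr1 : 0 < r - 1 := by have := hrpr.two_le; omega
    have hcle : c ≤ r - 1 := Nat.le_of_dvd hr1 hcdvd
    have hnd : ¬ r ∣ Fintype.card F - 1 := by
      intro h
      have := (orderOf_card_eq_one_iff (F := F) r).mpr h
      omega
    have hδ := (nt_coprime (F := F) r hnd).2
    have hrF : (r : F) ≠ 0 := by
      intro h0
      have hdvd : p ∣ r := (CharP.cast_eq_zero_iff F p r).1 h0
      exact hrp ((Nat.prime_dvd_prime_iff_eq (Fact.out : p.Prime) hrpr).1 hdvd).symm
    have hm1 : 1 ≤ n / c := (Nat.one_le_div_iff hcpos).2 hcn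
    have hm2 : c * (n / c) ≤ n := Nat.mul_div_le n c
    have hmod : n - c * (n / c) = n % c := by
      have := Nat.mod_add_div n c
      omega
    have hklt : n % c < c := Nat.mod_lt n hcpos
    -- the element with smallest fixed space
    obtain ⟨f, g, hgi, hgdeg, hfr, hf1, hker, hae, D, σ, hD, hσ⟩ :=
      model_data n a t r hrp hall (hc ▸ hc2) (n / c) hm1 (hc ▸ hm2)
    rw [← hc] at hgdeg hker
    rw [hmod] at hker
    have hne : ∀ j, D j ≠ ⊥ := by
      intro j hj
      have := hD.finrank_eq j
      rw [hj, finrank_bot] at this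
      omega
    -- if `σ` is trivial we are done
    have hfixed : (∀ j, σ j = j) → c ≤ a ∧ n % c = t * (a % c) := by
      intro hσ1
      have hinv : ∀ j, (D j).map f = D j := fun j => by rw [hσ j, hσ1 j]
      obtain ⟨h1, h2⟩ := fixed_decomp (p := p) r hrp f hfr hf1 a D hD.finrank_eq hD.indep
        hD.iSup_eq_top hinv
      rw [← hc, hker] at h2
      rw [← hc] at h1
      exact ⟨h1, mod_eq_of_le a t c (n % c) hcpos (by rw [hat]) h2⟩
    by_cases hσ1 : ∀ j, σ j = j
    · right; exact hfixed hσ1
    push Not at hσ1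
    obtain ⟨j, hj⟩ := hσ1
    by_cases hclt : c < r - 1
    · -- several irreducible factors: contradiction
      exfalso
      obtain ⟨w, hw, hw0⟩ := Submodule.exists_mem_ne_zero_of_ne_bot (hne j)
      have hX1 : (X - 1 : F[X]).natDegree = 1 := by
        have := natDegree_X_sub_C (1 : F)
        simpa using this
      have hX10 : (X - 1 : F[X]) ≠ 0 := by
        intro h
        rw [h, natDegree_zero] at hX1
        omega
      have hdeg : (g * (X - 1)).natDegree < r := by
        rw [natDegree_mul hgi.ne_zero hX10, hgdeg, hX1]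
        omega
      have h0 : aeval f (g * (X - 1)) w = 0 := by rw [hae]; rfl
      have := cycle_poly r f hfr D hD.indep hne σ hσ j hj w hw hw0 _ hdeg h0
      exact (mul_ne_zero hgi.ne_zero hX10) this
    · have hcr : c = r - 1 := by omega
      -- the element with one nontrivial block
      obtain ⟨f', g', -, -, hfr', hf1', hker', -, D', σ', hD', hσ'⟩ :=
        model_data n a t r hrp hall (hc ▸ hc2) 1 le_rfl (by rw [← hc, mul_one]; exact hcn)
      rw [← hc, mul_one] at hker'
      have h1 : a = 1 ∨ c ≤ a := by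
        by_cases hσ1' : ∀ j, σ' j = j
        · right
          have hinv : ∀ j, (D' j).map f' = D' j := fun j => by rw [hσ' j, hσ1' j]
          have := (fixed_decomp (p := p) r hrp f' hfr' hf1' a D' hD'.finrank_eq hD'.indep
            hD'.iSup_eq_top hinv).1
          rw [← hc] at this
          exact this
        · left
          push Not at hσ1'
          obtain ⟨j', hj'⟩ := hσ1'
          have := (block_bound r f' hfr' D' hD'.indep a ha hD'.finrank_eq σ' hσ' j' hj').2
          rw [hker', hnV, ← hcr] at this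
          have h3 : c * a ≤ c * 1 := by omega
          have := Nat.le_of_mul_le_mul_left h3 hcpos
          omega
      have h2 := (block_bound r f hfr D hD.indep a ha hD.finrank_eq σ hσ j hj).1
      rw [hker] at h2
      have ha1 : a = 1 := by
        rcases h1 with h | h
        · exact h
        · omega
      left
      refine ⟨ha1, by omega, hcr, ?_⟩
      have hdim1 : ∀ j, Module.finrank F (D j) = 1 := fun j => by rw [hD.finrank_eq j, ha1]
      have := lines_bound r hrF hδ f hfr D hdim1 hD.indep hD.iSup_eq_top σ hσ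
      rw [hker, hnV, mul_comm] at this
      exact this
  · -- the arithmetic condition ⇒ every element of order `r` stabilizes a decomposition
    intro hcond x ⟨z, hxz⟩ hxns
    rw [Matrix.SpecialLinearGroup.coe_pow] at hxz
    obtain ⟨f, hfdef⟩ : ∃ f : Module.End F (Fin n → F),
      f = Matrix.toLin' (x : Matrix (Fin n) (Fin n) F) := ⟨_, rfl⟩
    rw [← hfdef]
    have hfr : f ^ r = z • (1 : Module.End F (Fin n → F)) := by
      rw [hfdef, ← Matrix.toLin'_pow, hxz, map_smul, Matrix.toLin'_one]; rfl
    have hz0 : z ≠ 0 := by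
      intro h0
      have hdet : (x : Matrix (Fin n) (Fin n) F).det = 1 := x.2
      have hdd := congrArg Matrix.det hxz
      have hne : Nonempty (Fin n) := ⟨⟨0, by omega⟩⟩
      rw [Matrix.det_pow, hdet, one_pow, h0, zero_smul, Matrix.det_zero] at hdd
      exact one_ne_zero hdd
    suffices h : ∃ (D : Fin t → Submodule F (Fin n → F)) (σ : Equiv.Perm (Fin t)),
        (∀ j, Module.finrank F (D j) = a) ∧ iSupIndep D ∧ iSup D = ⊤ ∧
        ∀ j, (D j).map f = D (σ j) by
      obtain ⟨D, σ, h1, h2, h3, h4⟩ := h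
      exact ⟨D, ⟨ht, ha, h1, h2, h3⟩, σ, h4⟩
    by_cases hpow : ∃ d : F, d ^ r = z
    · obtain ⟨d, hd⟩ := hpow
      have hd0 : d ≠ 0 := by
        rintro rfl
        rw [zero_pow hrpr.ne_zero] at hd
        exact hz0 hd.symm
      obtain ⟨y, hydef⟩ : ∃ y : Module.End F (Fin n → F), y = d⁻¹ • f := ⟨_, rfl⟩
      have hy : y ^ r = 1 := by
        rw [hydef, _root_.smul_pow, hfr, smul_smul, inv_pow, hd, inv_mul_cancel₀ hz0, one_smul]
      have hfy : f = d • y := by rw [hydef, smul_smul, mul_inv_cancel₀ hd0, one_smul]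
      have hmap : ∀ W : Submodule F (Fin n → F), W.map f = W.map y := by
        intro W
        rw [hfy]
        exact Submodule.map_smul y W d hd0
      obtain ⟨a0, ha0⟩ : ∃ a0 : ℕ, a0 = Module.finrank F (LinearMap.ker (y - 1)) := ⟨_, rfl⟩
      have h1 := (cyc_main (p := p) r hrp y hy).1
      rw [← hc, ← ha0, hnV] at h1
      have ha0le : a0 ≤ n := by
        calc a0 = Module.finrank F (LinearMap.ker (y - 1)) := ha0
          _ ≤ Module.finrank F (Fin n → F) := Submodule.finrank_le _
          _ = n := hnV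
      obtain ⟨b, hb⟩ := h1
      have hmod : a0 % c = n % c := by
        have : n = a0 + c * b := by omega
        rw [this, Nat.add_mul_mod_self_left]
      have ha0k : n % c ≤ a0 := by rw [← hmod]; exact Nat.mod_le a0 c
      rcases hcond with ⟨ha1, hc1, hcr, hle⟩ | ⟨hca, hk⟩
      · -- lines permuted
        have htn : n = t := by rw [hat, ha1, one_mul]
        subst htn
        have hle' : n ≤ r * Module.finrank F (LinearMap.ker (y - 1)) := by
          rw [← ha0]
          calc n ≤ n % c * r := hle
            _ ≤ a0 * r := Nat.mul_le_mul_right r ha0k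
            _ = r * a0 := mul_comm _ _
        obtain ⟨bs, σ, hbs⟩ := perm_basis (p := p) r hrp (hc ▸ hcr) y hy n hnV hle'
        refine ⟨fun j => Submodule.span F {bs j}, σ, ?_, ?_, ?_, ?_⟩
        · intro j
          rw [ha1]
          exact finrank_span_singleton (bs.ne_zero j)
        · exact bs.linearIndependent.iSupIndep_span_singleton
        · rw [← Submodule.span_range_eq_iSup]
          exact bs.span_eq
        · intro j
          rw [hmap, Submodule.map_span, Set.image_singleton, hbs]
      · -- invariant summands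
        have hfix : t * (a % orderOf ((Fintype.card F : ℕ) : ZMod r)) ≤
            Module.finrank F (LinearMap.ker (y - 1)) := by
          rw [← hc, ← ha0, ← hk]; exact ha0k
        obtain ⟨D, h1, h2, h3, h4⟩ :=
          decomp_invariant (p := p) r hrp a t y hy (by rw [hnV, hat]) hfix
        exact ⟨D, 1, h1, h2, h3, fun j => by rw [hmap, h4 j, Equiv.Perm.one_apply]⟩
    · push Not at hpow
      exact kummer_decomp r f z hfr hpow a t (by rw [hnV, hat])

end Cfsg.Agent.S5958
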