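import Cfsg.Statements.S5960
import Mathlib
import Cfsg.Agent.Helper2.SympUnits
import Cfsg.Agent.Helper2.SpForm

set_option autoImplicit false
open scoped MatrixGroups
open Cfsg

namespace Cfsg.Agent.S5960

open Cfsg.Agent.Helper2 Cfsg.Agent.Helper2.SympInvol Cfsg.Agent.Helper2.SympUnits

/-- Involutions of PSp_n(q) and imprimitive subgroups. Here `T = PSp_n(q)`, `n = 2d ≥ 4`, `(n, q) ≠ (4, 2)`, realised through the symplectic matrices over the field `F` with `q` elements and the standard alternating form; `n = a·t` with `a` even and `t ≥ 2`, and Ω is the (nonempty) set of orthogonal decompositions of `F^n` into `t` nondegenerate subspaces of dimension `a` (unordered; counted as ordered ones divided by `t!`), whose stabilizers are the imprimitive subgroups of type Sp_a(q) ≀ S_t (maximality is not assumed); an element of `T` of prime order `r` (a symplectic matrix `x` with `x^r` scalar, `x` not scalar) fixes a point of Ω when it permutes the summands of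 some such decomposition. If the number of such decompositions is even, then every involution of `T` stabilizes one of them (the action is 2-elusive). -/
theorem result {F : Type*} [Field F] [Fintype F] {p : ℕ} [Fact p.Prime] [CharP F p] {q : ℕ} (hq : Fintype.card F = q)
    (d : ℕ) (hd : 2 ≤ d) (hT : (d, q) ≠ (2, 2))
    (a t : ℕ) (hat : 2 * d = a * t) (ha : 2 ≤ a) (hae : Even a) (ht : 2 ≤ t) (hΩ : 2 ∣ Nat.card {D : Fin t → Submodule F (Fin d ⊕ Fin d → F) // (Cfsg.Geo.IsMDecomposition a D ∧ (∀ j, ∀ u ∈ D j, u ≠ 0 → ∃ v ∈ D j, Cfsg.sympForm d F u v ≠ 0) ∧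
          (∀ j j', j ≠ j' → ∀ u ∈ D j, ∀ v ∈ D j', Cfsg.sympForm d F u v = 0))} / Nat.factorial t)
    (x : ↥(Matrix.symplecticGroup (Fin d) F))
    (hx1 : ∃ z : F, ((x ^ 2 : ↥(Matrix.symplecticGroup (Fin d) F)) : Matrix (Fin d ⊕ Fin d) (Fin d ⊕ Fin d) F) = z • (1 : Matrix (Fin d ⊕ Fin d) (Fin d ⊕ Fin d) F))
    (hx2 : ∀ z : F, (x : Matrix (Fin d ⊕ Fin d) (Fin d ⊕ Fin d) F) ≠ z • (1 : Matrix (Fin d ⊕ Fin d) (Fin d ⊕ Fin d) F)) :
    ∃ D : Fin t → Submodule F (Fin d ⊕ Fin d → F), (Cfsg.Geo.IsMDecomposition a D ∧ (∀ j, ∀ u ∈ D j, u ≠ 0 → ∃ v ∈ D j, Cfsg.sympForm d F u v ≠ 0) ∧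
          (∀ j j', j ≠ j' → ∀ u ∈ D j, ∀ v ∈ D j', Cfsg.sympForm d F u v = 0)) ∧
        ∃ σ : Equiv.Perm (Fin t), ∀ j, (D j).map (Matrix.toLin' (x : Matrix (Fin d ⊕ Fin d) (Fin d ⊕ Fin d) F)) = D (σ j) := by
  classical
  let B : LinearMap.BilinForm F (Fin d ⊕ Fin d → F) :=
    LinearMap.mk₂ F (Cfsg.sympForm d F) Sp.om_add_left Sp.om_smul_left Sp.om_add_right Sp.om_smul_right
  have hB : ∀ u v, B u v = Cfsg.sympForm d F u v := fun u v => rfl
  have halt : ∀ v, B v v = 0 := fun v => Sp.om_self v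
  set X : (Fin d ⊕ Fin d → F) →ₗ[F] (Fin d ⊕ Fin d → F) :=
    Matrix.toLin' (x : Matrix (Fin d ⊕ Fin d) (Fin d ⊕ Fin d) F) with hXdef
  have hX : ∀ u v, B (X u) (X v) = B u v := by
    intro u v
    rw [hB, hB, hXdef, Matrix.toLin'_apply, Matrix.toLin'_apply]
    exact Sp.mem_symplectic_iff_om.mp x.2 u v
  obtain ⟨z, hz⟩ := hx1
  have hXX : ∀ v, X (X v) = z • v := by
    intro v
    rw [hXdef, Matrix.toLin'_apply, Matrix.toLin'_apply, Matrix.mulVec_mulVec]
    have : (x : Matrix (Fin d ⊕ Fin d) (Fin d ⊕ Fin d) F) * (x : Matrix (Fin d ⊕ Fin d) (Fin d ⊕ Fin d) F)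
        = z • (1 : Matrix (Fin d ⊕ Fin d) (Fin d ⊕ Fin d) F) := by
      rw [← hz, pow_two]; rfl
    rw [this, Matrix.smul_mulVec, Matrix.one_mulVec]
  have hd0 : 0 < d := by omega
  have hzz : z * z = 1 := by
    let e0 : Fin d ⊕ Fin d → F := Pi.single (Sum.inl ⟨0, hd0⟩) 1
    obtain ⟨w, hw⟩ := Sp.exists_om_ne_zero (l := Fin d) (F := F) (v := e0) (by
      intro h
      have := congrFun h (Sum.inl ⟨0, hd0⟩)
      simp [e0] at this)
    have h1 := hX (X e0) (X w)
    rw [hXX, hXX, hX] at h1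
    simp only [map_smul, LinearMap.smul_apply, smul_eq_mul] at h1
    have hne : B e0 w ≠ 0 := hw
    have : (z * z - 1) * B e0 w = 0 := by linear_combination h1
    rcases mul_eq_zero.mp this with h | h
    · linear_combination h
    · exact absurd h hne
  have hz1 : z = 1 ∨ z = -1 := by
    have : (z - 1) * (z + 1) = 0 := by linear_combination hzz
    rcases mul_eq_zero.mp this with h | h
    · left; linear_combination h
    · right; linear_combination h
  have hnd : Nondeg B ⊤ := by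
    intro m _ hm0
    obtain ⟨v, hv⟩ := Sp.exists_om_ne_zero (l := Fin d) (F := F) hm0
    exact ⟨v, trivial, hv⟩
  obtain ⟨a', ha'⟩ := hae
  have ha1 : 1 ≤ a' := by omega
  have hdim : Module.finrank F (Fin d ⊕ Fin d → F) = 2 * a' * t := by
    rw [Module.finrank_fintype_fun_eq_card, Fintype.card_sum, Fintype.card_fin]
    have : a * t = (a' + a') * t := by rw [ha']
    have h3 : (a' + a') * t = 2 * a' * t := by ring
    omega
  obtain ⟨D, hfr, hind, hsup, hDnd, hDo, σ, hσ⟩ := exists_blocks halt hX hz1 hXX hnd ha1 hdim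
  refine ⟨D, ⟨⟨ht, by omega, fun j => by rw [hfr j, ha']; ring, hind, hsup⟩, ?_, ?_⟩, σ, hσ⟩
  · intro j u hu hu0
    exact hDnd j u hu hu0
  · intro j j' hjj' u hu v hv
    exact hDo j j' hjj' u hu v hv

end Cfsg.Agent.S5960
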