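import Cfsg.Statements.S5961
import Cfsg.Agent.Helper23.S5961Defs
import Cfsg.Agent.Helper18.S5961ARITH
import Cfsg.Agent.Helper3.S5961NTSP
import Cfsg.Agent.Helper18.S5961TRANSSP
import Cfsg.Agent.Helper23.S5961FREEACTSP
import Cfsg.Agent.Helper23.S5961STRUCT
import Cfsg.Agent.Helper24.S5961FIXEDSPAux
import Cfsg.Agent.Helper10.S5961INDUCT
import Cfsg.Agent.Helper23.S5961ELT
import Cfsg.Agent.Helper21.S5958BLOCK

set_option autoImplicit false
open scoped MatrixGroups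
open Cfsg

namespace Cfsg.Agent.S5961

open Cfsg.Agent.S5961P Cfsg.Agent.S5958P Cfsg.Agent.Helper2.SympInvol Cfsg.Agent.Helper2.SympUnits

theorem mod_eq_of_le' (a t c k : ℕ) (hc : 0 < c) (hk : k = (a * t) % c) (hle : t * (a % c) ≤ k) :
    k = t * (a % c) := by
  have hklt : k < c := by rw [hk]; exact Nat.mod_lt _ hc
  have h1 : (a * t) % c = (a % c * t) % c := (Nat.mod_mul_mod a t c).symm
  have h2 : a % c * t < c := by rw [mul_comm]; omega
  rw [hk, h1, Nat.mod_eq_of_lt h2, mul_comm]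

theorem finrank_V (d : ℕ) (F : Type*) [Field F] :
    Module.finrank F (Fin d ⊕ Fin d → F) = 2 * d := by
  rw [Module.finrank_fintype_fun_eq_card, Fintype.card_sum, Fintype.card_fin]; ring

/-- `z² = 1`, `r` odd: `z ^ r = z` -/
theorem pow_odd_of_sq {F : Type*} [Field F] (z : F) (hz : z * z = 1) (r : ℕ) (hr : Odd r) :
    z ^ r = z := by
  obtain ⟨s, rfl⟩ := hr
  rw [pow_succ, pow_mul, pow_two, hz, one_pow, one_mul]

/-- a symplectic matrix with `x ^ r = 1`, `x ≠ 1` (`r` odd) is not scalar -/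
theorem not_scalar {F : Type*} [Field F] (d : ℕ) (hd : 1 ≤ d) (r : ℕ) (hr : Odd r)
    (x : Matrix.symplecticGroup (Fin d) F)
    (hx : (x : Matrix (Fin d ⊕ Fin d) (Fin d ⊕ Fin d) F) ^ r = 1)
    (hx1 : (x : Matrix (Fin d ⊕ Fin d) (Fin d ⊕ Fin d) F) ≠ 1) (z : F) :
    (x : Matrix (Fin d ⊕ Fin d) (Fin d ⊕ Fin d) F) ≠
      z • (1 : Matrix (Fin d ⊕ Fin d) (Fin d ⊕ Fin d) F) := by
  intro h
  have hmem : z • (1 : Matrix (Fin d ⊕ Fin d) (Fin d ⊕ Fin d) F) ∈
      Matrix.symplecticGroup (Fin d) F := h ▸ x.2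
  have hzz := scalar_sq_eq_one d hd z hmem
  have hzr := pow_odd_of_sq z hzz r hr
  rw [h, smul_pow, one_pow, hzr] at hx
  apply hx1
  rw [h, hx]

/-- the data attached to a model element -/
theorem model_data_sp {F : Type*} [Field F] [Fintype F] {p : ℕ} [Fact p.Prime] [CharP F p]
    (d a t : ℕ) (hd : 1 ≤ d) (r : ℕ) [Fact r.Prime] (hr2 : r ≠ 2) (hrp : r ≠ p)
    (hall : ∀ x : ↥(Matrix.symplecticGroup (Fin d) F),
      (∃ z : F, ((x ^ r : ↥(Matrix.symplecticGroup (Fin d) F)) : Matrix (Fin d ⊕ Fin d) (Fin d ⊕ Fin d) F) = z • (1 : Matrix (Fin d ⊕ Fin d) (Fin d ⊕ Fin d) F)) →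
      (∀ z : F, (x : Matrix (Fin d ⊕ Fin d) (Fin d ⊕ Fin d) F) ≠ z • (1 : Matrix (Fin d ⊕ Fin d) (Fin d ⊕ Fin d) F)) →
      ∃ D : Fin t → Submodule F (Fin d ⊕ Fin d → F), (Cfsg.Geo.IsMDecomposition a D ∧ (∀ j, ∀ u ∈ D j, u ≠ 0 → ∃ v ∈ D j, Cfsg.sympForm d F u v ≠ 0) ∧
          (∀ j j', j ≠ j' → ∀ u ∈ D j, ∀ v ∈ D j', Cfsg.sympForm d F u v = 0)) ∧
        ∃ σ : Equiv.Perm (Fin t), ∀ j, (D j).map (Matrix.toLin' (x : Matrix (Fin d ⊕ Fin d) (Fin d ⊕ Fin d) F)) = D (σ j))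
    (m : ℕ) (hm : 1 ≤ m) (hmd : cc F r * m ≤ 2 * d) :
    ∃ f : Module.End F (Fin d ⊕ Fin d → F), f ^ r = 1 ∧ f ≠ 1 ∧
      (∀ u v, sB d F (f u) (f v) = sB d F u v) ∧
      Module.finrank F (LinearMap.ker (f - 1)) = 2 * d - cc F r * m ∧
      ∃ (D : Fin t → Submodule F (Fin d ⊕ Fin d → F)) (σ : Equiv.Perm (Fin t)),
        Cfsg.Geo.IsMDecomposition a D ∧ (∀ j, Nondeg (sB d F) (D j)) ∧
        ∀ j, (D j).map f = D (σ j) := by
  have hrpr : r.Prime := Fact.out
  have hrodd : Odd r := hrpr.odd_of_ne_two hr2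
  obtain ⟨x, hx1, hxne, hker⟩ := exists_elt_sp (p := p) r hr2 hrp d m hm hmd
  obtain ⟨D, ⟨hD, hDnd, -⟩, σ, hσ⟩ :=
    hall x ⟨1, by rw [SubmonoidClass.coe_pow, hx1, one_smul]⟩ (not_scalar d hd r hrodd x hx1 hxne)
  refine ⟨Matrix.toLin' (x : Matrix (Fin d ⊕ Fin d) (Fin d ⊕ Fin d) F), ?_, ?_,
    sB_isometry d F x, hker, D, σ, hD, hDnd, hσ⟩
  · rw [← Matrix.toLin'_pow, hx1, Matrix.toLin'_one]; rfl
  · intro h1
    apply hxne
    apply Matrix.toLin'.injective
    rw [h1, Matrix.toLin'_one]; rfl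


/-- Elements of odd prime order of PSp_n(q) and imprimitive subgroups. Here `T = PSp_n(q)`, `n = 2d ≥ 4`, `(n, q) ≠ (4, 2)`, realised through the symplectic matrices over the field `F` with `q` elements and the standard alternating form; `n = a·t` with `a` even and `t ≥ 2`, and Ω is the (nonempty) set of orthogonal decompositions of `F^n` into `t` nondegenerate subspaces of dimension `a` (unordered; counted as ordered ones divided by `t!`), whose stabilizers are the imprimitive subgroups of type Sp_a(q) ≀ S_t (maximality is not assumed); an element of `T` of prime order `r` (a symplectic matrix `x` with `x^r` scalar, `x` not scalar) fixes a point of Ω when it permutes the summands of some such decomposition. Let `r ≠ p` be an odd prime dividing the number of such decompositions, let `i` be the multiplicative order of `q` modulo `r`, `c = i` if `i` is even and `c = 2i` if `i` is odd, and write `k = n mod c`, `ℓ = a mod c`. Then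 every element of `T` of order `r` stabilizes such a decomposition if and only if `c ≤ a` and `k = t·ℓ`. -/
theorem result {F : Type*} [Field F] [Fintype F] {p : ℕ} [Fact p.Prime] [CharP F p] {q : ℕ} (hq : Fintype.card F = q)
    (d : ℕ) (hd : 2 ≤ d) (hT : (d, q) ≠ (2, 2))
    (a t : ℕ) (hat : 2 * d = a * t) (ha : 2 ≤ a) (hae : Even a) (ht : 2 ≤ t)
    (r : ℕ) [Fact r.Prime] (hr2 : r ≠ 2) (hrp : r ≠ p) (hΩ : r ∣ Nat.card {D : Fin t → Submodule F (Fin d ⊕ Fin d → F) // (Cfsg.Geo.IsMDecomposition a D ∧ (∀ j, ∀ u ∈ D j, u ≠ 0 → ∃ v ∈ D j, Cfsg.sympForm d F u v ≠ 0) ∧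
          (∀ j j', j ≠ j' → ∀ u ∈ D j, ∀ v ∈ D j', Cfsg.sympForm d F u v = 0))} / Nat.factorial t)
    (i c : ℕ) (hi : i = orderOf (q : ZMod r)) (hc : c = if Even i then i else 2 * i) :
    (∀ x : ↥(Matrix.symplecticGroup (Fin d) F),
      (∃ z : F, ((x ^ r : ↥(Matrix.symplecticGroup (Fin d) F)) : Matrix (Fin d ⊕ Fin d) (Fin d ⊕ Fin d) F) = z • (1 : Matrix (Fin d ⊕ Fin d) (Fin d ⊕ Fin d) F)) →
      (∀ z : F, (x : Matrix (Fin d ⊕ Fin d) (Fin d ⊕ Fin d) F) ≠ z • (1 : Matrix (Fin d ⊕ Fin d) (Fin d ⊕ Fin d) F)) →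
      ∃ D : Fin t → Submodule F (Fin d ⊕ Fin d → F), (Cfsg.Geo.IsMDecomposition a D ∧ (∀ j, ∀ u ∈ D j, u ≠ 0 → ∃ v ∈ D j, Cfsg.sympForm d F u v ≠ 0) ∧
          (∀ j j', j ≠ j' → ∀ u ∈ D j, ∀ v ∈ D j', Cfsg.sympForm d F u v = 0)) ∧
        ∃ σ : Equiv.Perm (Fin t), ∀ j, (D j).map (Matrix.toLin' (x : Matrix (Fin d ⊕ Fin d) (Fin d ⊕ Fin d) F)) = D (σ j)) ↔
    (c ≤ a ∧ (2 * d) % c = t * (a % c)) := by
  classical
  subst hq
  have hrpr : r.Prime := Fact.out
  have hrodd : Odd r := hrpr.odd_of_ne_two hr2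
  obtain ⟨hipos, hcpos, hceven, hidvd, hcdvd, -, -, -⟩ := cc_arith (F := F) (p := p) r hr2 hrp
  have hcc : c = cc F r := by rw [hc, hi, cc_def]
  rw [hcc]
  clear hc hi hcc
  have hd1 : 1 ≤ d := by omega
  have hnV : Module.finrank F (Fin d ⊕ Fin d → F) = 2 * d := finrank_V d F
  have halt : ∀ v, sB d F v v = 0 := sB_alt d F
  constructor
  · intro hall
    have hcn : cc F r ≤ 2 * d := by
      apply cc_le_of_dvd_card_Sp (p := p) r hr2 hrp d
      have h1 := card_decomp_dvd_card_Sp (F := F) d a t hat ha hae ht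
      have h2 := factorial_dvd_card_decomp_sp (F := F) d a t
      exact dvd_trans (dvd_trans hΩ (Nat.div_dvd_of_dvd h2)) h1
    have hr1 : 0 < r - 1 := by have := hrpr.two_le; omega
    have hcle : cc F r ≤ r - 1 := Nat.le_of_dvd hr1 hcdvd
    -- `cc ≤ a`
    have hca : cc F r ≤ a := by
      by_contra hlt
      obtain ⟨f, hfr, hf1, hfB, hker, D, σ, hD, hDnd, hσ⟩ :=
        model_data_sp (p := p) d a t hd1 r hr2 hrp hall 1 le_rfl (by rw [mul_one]; exact hcn)
      rw [mul_one] at hker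
      by_cases hσ1 : ∀ j, σ j = j
      · have hinv : ∀ j, (D j).map f = D j := fun j => by rw [hσ j, hσ1 j]
        exact hlt (FIXEDSP.main (cc F r) (sB d F) f hf1
          (fun W hW hWnd => sp_dvd (p := p) r hr2 hrp (sB d F) halt f hfB hfr W hW hWnd) a D
          hD.finrank_eq hD.indep hD.iSup_eq_top hDnd hinv).1
      · obtain ⟨j, hj⟩ := not_forall.mp hσ1
        have := (block_bound r f hfr D hD.indep a (by omega) hD.finrank_eq σ hσ j hj).2
        rw [hker, hnV] at this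
        have h3 : (r - 1) * a ≤ (r - 1) * 1 := by omega
        have := Nat.le_of_mul_le_mul_left h3 hr1
        omega
    refine ⟨hca, ?_⟩
    have hm1 : 1 ≤ 2 * d / cc F r := (Nat.one_le_div_iff hcpos).2 hcn
    have hm2 : cc F r * (2 * d / cc F r) ≤ 2 * d := Nat.mul_div_le _ _
    have hmod : 2 * d - cc F r * (2 * d / cc F r) = (2 * d) % cc F r := by
      have := Nat.mod_add_div (2 * d) (cc F r)
      omega
    have hklt : (2 * d) % cc F r < cc F r := Nat.mod_lt _ hcpos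
    obtain ⟨f, hfr, hf1, hfB, hker, D, σ, hD, hDnd, hσ⟩ :=
      model_data_sp (p := p) d a t hd1 r hr2 hrp hall (2 * d / cc F r) hm1 hm2
    rw [hmod] at hker
    by_cases hσ1 : ∀ j, σ j = j
    · have hinv : ∀ j, (D j).map f = D j := fun j => by rw [hσ j, hσ1 j]
      have h2 := (FIXEDSP.main (cc F r) (sB d F) f hf1
        (fun W hW hWnd => sp_dvd (p := p) r hr2 hrp (sB d F) halt f hfB hfr W hW hWnd) a D
        hD.finrank_eq hD.indep hD.iSup_eq_top hDnd hinv).2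
      rw [hker] at h2
      exact mod_eq_of_le' a t (cc F r) _ hcpos (by rw [hat]) h2
    · exfalso
      obtain ⟨j, hj⟩ := not_forall.mp hσ1
      have := (block_bound r f hfr D hD.indep a (by omega) hD.finrank_eq σ hσ j hj).1
      rw [hker] at this
      omega
  · rintro ⟨hca, hmod⟩ x ⟨z, hxz⟩ hxns
    have hmem : z • (1 : Matrix (Fin d ⊕ Fin d) (Fin d ⊕ Fin d) F) ∈
        Matrix.symplecticGroup (Fin d) F := hxz ▸ (x ^ r).2
    have hzz := scalar_sq_eq_one d hd1 z hmem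
    have hzr := pow_odd_of_sq z hzz r hrodd
    have hz0 : z ≠ 0 := by
      rintro rfl
      simp at hzz
    rw [SubmonoidClass.coe_pow] at hxz
    obtain ⟨X, hXdef⟩ : ∃ X : Module.End F (Fin d ⊕ Fin d → F),
      X = Matrix.toLin' (x : Matrix (Fin d ⊕ Fin d) (Fin d ⊕ Fin d) F) := ⟨_, rfl⟩
    rw [← hXdef]
    have hXr : X ^ r = z • (1 : Module.End F (Fin d ⊕ Fin d → F)) := by
      rw [hXdef, ← Matrix.toLin'_pow, hxz, map_smul, Matrix.toLin'_one]; rfl
    have hXB : ∀ u v, sB d F (X u) (X v) = sB d F u v := by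
      rw [hXdef]; exact sB_isometry d F x
    obtain ⟨f, hfdef⟩ : ∃ f : Module.End F (Fin d ⊕ Fin d → F), f = z • X := ⟨_, rfl⟩
    have hfr : f ^ r = 1 := by
      rw [hfdef, smul_pow, hXr, smul_smul, hzr, hzz, one_smul]
    have hfB : ∀ u v, sB d F (f u) (f v) = sB d F u v := by
      intro u v
      rw [hfdef, LinearMap.smul_apply, LinearMap.smul_apply]
      simp only [map_smul, LinearMap.smul_apply, smul_eq_mul]
      rw [← mul_assoc, hzz, one_mul, hXB]
    have hdvd := sp_dvd (p := p) r hr2 hrp (sB d F) halt f hfB hfr ⊤ le_top (sB_nondeg d F)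
    rw [top_inf_eq, finrank_top, hnV] at hdvd
    have hkle : Module.finrank F (LinearMap.ker (f - 1)) ≤ 2 * d := by
      rw [← hnV]; exact Submodule.finrank_le _
    have hfix : t * (a % cc F r) ≤ Module.finrank F (LinearMap.ker (f - 1)) := by
      obtain ⟨s, hs⟩ := hdvd
      rw [← hmod]
      have h1 : 2 * d = Module.finrank F (LinearMap.ker (f - 1)) + cc F r * s := by omega
      rw [h1, Nat.add_mul_mod_self_left]
      exact Nat.mod_le _ _
    obtain ⟨D, hfr', hind, hsup, hDnd, hDo, hinv⟩ :=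
      decomp_invariant_sp (p := p) r hr2 hrp a t hae (sB d F) halt (sB_nondeg d F) f hfB hfr
        (by rw [hnV, hat]) hfix
    refine ⟨D, ⟨⟨ht, by omega, hfr', hind, hsup⟩, ?_, ?_⟩, 1, ?_⟩
    · intro j u hu hu0
      exact hDnd j u hu hu0
    · intro j j' hjj' u hu v hv
      exact hDo j j' hjj' u hu v hv
    · intro j
      have := hinv j
      rw [hfdef, Submodule.map_smul X (D j) z hz0] at this
      rw [this]; rfl

end Cfsg.Agent.S5961
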