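import Cfsg.Statements.S5962
import Mathlib
import Cfsg.Agent.Helper2.SympInvol
import Cfsg.Agent.Helper2.SpForm
import Cfsg.Agent.Helper2.FieldBasics

set_option autoImplicit false
open scoped MatrixGroups
open Cfsg

namespace Cfsg.Agent.S5962

open Cfsg.Agent.Helper2 Cfsg.Agent.Helper2.SympInvol

/-- Involutions of PSp_n(q), q odd, and the subgroups GL_{n/2}(q).2. Here `T = PSp_n(q)`, `n = 2d ≥ 4`, `q` odd, realised through the symplectic matrices over the field `F` with `q` elements; Ω is the set of unordered pairs `{U, W}` of complementary totally isotropic `d`-spaces (`F^n = U ⊕ W`), whose stabilizers are the subgroups of type GL_d(q).2 (maximal except in some small cases; maximality is not assumed); an element of `T` of prime order `r` (a symplectic matrix `x` with `x^r` scalar, `x` not scalar) fixes such a pair when it fixes or interchanges `U` and `W`. If the number of such pairs is even, every involution of `T` fixes one of them (the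 action is 2-elusive). -/
theorem result {F : Type*} [Field F] [Fintype F] {p : ℕ} [Fact p.Prime] [CharP F p] {q : ℕ} (hq : Fintype.card F = q)
    (d : ℕ) (hd : 2 ≤ d) (hT : (d, q) ≠ (2, 2)) (hodd : Odd q)
    (hΩ : 2 ∣ Nat.card {P : Submodule F (Fin d ⊕ Fin d → F) × Submodule F (Fin d ⊕ Fin d → F) // IsCompl P.1 P.2 ∧ (∀ u ∈ P.1, ∀ v ∈ P.1, Cfsg.sympForm d F u v = 0) ∧ (∀ u ∈ P.2, ∀ v ∈ P.2, Cfsg.sympForm d F u v = 0)} / 2)
    (x : ↥(Matrix.symplecticGroup (Fin d) F))
    (hx1 : ∃ z : F, ((x ^ 2 : ↥(Matrix.symplecticGroup (Fin d) F)) : Matrix (Fin d ⊕ Fin d) (Fin d ⊕ Fin d) F) = z • (1 : Matrix (Fin d ⊕ Fin d) (Fin d ⊕ Fin d) F))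
    (hx2 : ∀ z : F, (x : Matrix (Fin d ⊕ Fin d) (Fin d ⊕ Fin d) F) ≠ z • (1 : Matrix (Fin d ⊕ Fin d) (Fin d ⊕ Fin d) F)) :
    ∃ U W : Submodule F (Fin d ⊕ Fin d → F), IsCompl U W ∧ (∀ u ∈ U, ∀ v ∈ U, Cfsg.sympForm d F u v = 0) ∧ (∀ u ∈ W, ∀ v ∈ W, Cfsg.sympForm d F u v = 0) ∧
        ((U.map (Matrix.toLin' (x : Matrix (Fin d ⊕ Fin d) (Fin d ⊕ Fin d) F)) = U ∧ W.map (Matrix.toLin' (x : Matrix (Fin d ⊕ Fin d) (Fin d ⊕ Fin d) F)) = W) ∨
         (U.map (Matrix.toLin' (x : Matrix (Fin d ⊕ Fin d) (Fin d ⊕ Fin d) F)) = W ∧ W.map (Matrix.toLin' (x : Matrix (Fin d ⊕ Fin d) (Fin d ⊕ Fin d) F)) = U)) := by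
  classical
  have h2 : (2 : F) ≠ 0 := two_ne_zero_of_odd_card (by rw [hq]; exact hodd)
  -- the bilinear form
  let B : LinearMap.BilinForm F (Fin d ⊕ Fin d → F) :=
    LinearMap.mk₂ F (Cfsg.sympForm d F) Sp.om_add_left Sp.om_smul_left Sp.om_add_right Sp.om_smul_right
  have hB : ∀ u v, B u v = Cfsg.sympForm d F u v := fun u v => rfl
  have halt : ∀ v, B v v = 0 := fun v => Sp.om_self v
  set X : (Fin d ⊕ Fin d → F) →ₗ[F] (Fin d ⊕ Fin d → F) :=
    Matrix.toLin' (x : Matrix (Fin d ⊕ Fin d) (Fin d ⊕ Fin d) F) with hXdef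
  have hX : ∀ u v, B (X u) (X v) = B u v := by
    intro u v
    rw [hB, hB, hXdef, Matrix.toLin'_apply, Matrix.toLin'_apply]
    exact Sp.mem_symplectic_iff_om.mp x.2 u v
  obtain ⟨z, hz⟩ := hx1
  have hXX : ∀ v, X (X v) = z • v := by
    intro v
    rw [hXdef, Matrix.toLin'_apply, Matrix.toLin'_apply, Matrix.mulVec_mulVec]
    have : (x : Matrix (Fin d ⊕ Fin d) (Fin d ⊕ Fin d) F) * (x : Matrix (Fin d ⊕ Fin d) (Fin d ⊕ Fin d) F)
        = z • (1 : Matrix (Fin d ⊕ Fin d) (Fin d ⊕ Fin d) F) := by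
      rw [← hz, pow_two]; rfl
    rw [this, Matrix.smul_mulVec, Matrix.one_mulVec]
  have hd0 : 0 < d := by omega
  -- z² = 1
  have hzz : z * z = 1 := by
    let e0 : Fin d ⊕ Fin d → F := Pi.single (Sum.inl ⟨0, hd0⟩) 1
    obtain ⟨w, hw⟩ := Sp.exists_om_ne_zero (l := Fin d) (F := F) (v := e0) (by
      intro h
      have := congrFun h (Sum.inl ⟨0, hd0⟩)
      simp [e0] at this)
    have h1 := hX (X e0) (X w)
    rw [hXX, hXX, hX] at h1
    simp only [map_smul, LinearMap.smul_apply, smul_eq_mul] at h1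
    have hne : B e0 w ≠ 0 := hw
    have : (z * z - 1) * B e0 w = 0 := by linear_combination h1
    rcases mul_eq_zero.mp this with h | h
    · linear_combination h
    · exact absurd h hne
  have hz1 : z = 1 ∨ z = -1 := by
    have : (z - 1) * (z + 1) = 0 := by linear_combination hzz
    rcases mul_eq_zero.mp this with h | h
    · left; linear_combination h
    · right; linear_combination h
  have hnd : Nondeg B ⊤ := by
    intro m _ hm0
    obtain ⟨v, hv⟩ := Sp.exists_om_ne_zero (l := Fin d) (F := F) hm0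
    exact ⟨v, trivial, hv⟩
  have hXinj : Function.Injective X := by
    intro a b hab
    have := congrArg X hab
    rw [hXX, hXX] at this
    have hz0 : z ≠ 0 := by rintro rfl; simp at hzz
    exact smul_right_injective _ hz0 this
  have hfr : ∀ S : Submodule F (Fin d ⊕ Fin d → F), Module.finrank F (S.map X) = Module.finrank F S :=
    fun S => (LinearEquiv.finrank_eq (Submodule.equivMapOfInjective X hXinj S)).symm
  rcases hz1 with rfl | rfl
  · obtain ⟨U, W, ⟨hinf, hsup, hU, hW⟩, hXU, hXW⟩ :=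
      exists_lagPair_of_sq_eq_one B halt h2 X hX (fun v => by rw [hXX, one_smul]) ⊤
        (fun _ _ => trivial) hnd
    refine ⟨U, W, ⟨disjoint_iff.mpr hinf, codisjoint_iff.mpr hsup⟩, hU, hW, Or.inl ⟨?_, ?_⟩⟩
    · exact Submodule.eq_of_le_of_finrank_eq hXU (hfr U)
    · exact Submodule.eq_of_le_of_finrank_eq hXW (hfr W)
  · obtain ⟨U, W, ⟨hinf, hsup, hU, hW⟩, hXU, hXW⟩ :=
      exists_lagPair_of_sq_eq_neg_one B halt h2 X hX (fun v => by rw [hXX, neg_one_smul]) ⊤
        (fun _ _ => trivial) hnd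
    have h1 := Submodule.finrank_mono hXU
    have h3 := Submodule.finrank_mono hXW
    rw [hfr] at h1 h3
    refine ⟨U, W, ⟨disjoint_iff.mpr hinf, codisjoint_iff.mpr hsup⟩, hU, hW, Or.inr ⟨?_, ?_⟩⟩
    · exact Submodule.eq_of_le_of_finrank_eq hXU (by rw [hfr]; omega)
    · exact Submodule.eq_of_le_of_finrank_eq hXW (by rw [hfr]; omega)

end Cfsg.Agent.S5962
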