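import Cfsg.Statements.S5965
import Cfsg.Agent.Helper29.S5965ASMB
import Cfsg.Agent.Helper29.S5965ASMD
import Cfsg.Agent.Helper19.S5965ASM2gen

set_option autoImplicit false
open scoped MatrixGroups
open Cfsg

namespace Cfsg.Agent.S5965

/-- Elements of odd prime order r ≠ p of PSL_n(q) and subfield subgroups (Burness–Giudici). -/
theorem result {F : Type*} [Field F] [Fintype F] {p : ℕ} [Fact p.Prime] [CharP F p] {q : ℕ} (hq : Fintype.card F = q)
    (n : ℕ) (hn : 2 ≤ n) (hT : (n, q) ≠ (2, 2) ∧ (n, q) ≠ (2, 3))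
    (F₀ : Subfield F) (k q₀ : ℕ) (hk : k.Prime) (hF₀ : Nat.card ↥F₀ = q₀) (hqk : q = q₀ ^ k) (hC5 : ¬ (n = 2 ∧ q₀ = 2)) (r : ℕ) [Fact r.Prime] (hr2 : r ≠ 2) (hrp : r ≠ p) (hgap : ¬ (n = 6 ∧ r = 3)) (hgapk : r = k → r ∣ q₀ - 1 → padicValNat r n ≤ padicValNat r (q - 1)) (hΩ : r ∣ ((Cfsg.Geo.subfieldSubgroup F₀ 1).comap (Matrix.SpecialLinearGroup.toGL : Matrix.SpecialLinearGroup (Fin n) F →* GL (Fin n) F)).index) :
    (∀ x : Matrix.SpecialLinearGroup (Fin n) F,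
      (∃ z : F, ((x ^ r : Matrix.SpecialLinearGroup (Fin n) F) : Matrix (Fin n) (Fin n) F) = z • (1 : Matrix (Fin n) (Fin n) F)) →
      (∀ z : F, (x : Matrix (Fin n) (Fin n) F) ≠ z • (1 : Matrix (Fin n) (Fin n) F)) →
      ∃ P : Matrix.SpecialLinearGroup (Fin n) F, P⁻¹ * x * P ∈ ((Cfsg.Geo.subfieldSubgroup F₀ 1).comap (Matrix.SpecialLinearGroup.toGL : Matrix.SpecialLinearGroup (Fin n) F →* GL (Fin n) F))) ↔
    (r = k ∨ (k = 2 ∧ r = n ∧ (n = 3 ∨ n = 5) ∧ padicValNat r (q₀ + 1) = 1)) := by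
  have _h1 := hT
  have _h2 := hC5
  have hcard : Fintype.card F = Nat.card F₀ ^ k := by rw [hq, hqk, hF₀]
  constructor
  · intro hall
    have := Cfsg.Agent.S5965P.right_of_all n hn F₀ k hk hcard r hr2 hrp hgap hΩ (by
      rintro ⟨x, hx1, hx2, hx3⟩
      exact hx3 (hall x hx1 hx2))
    rw [hF₀] at this
    exact this
  · rintro (hrk | ⟨hk2, hrn, hn35, hv⟩)
    · intro x hx1 _
      subst hrk
      apply Cfsg.Agent.S5965P.left_of_eq n hn F₀ r hr2 hrp hcard ?_ x hx1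
      intro hdvd
      rw [hq]
      apply hgapk rfl
      rw [← hF₀]; exact hdvd
    · intro x hx1 _
      subst hk2
      exact Cfsg.Agent.S5965P.ASM2.left_of_case_two_of n F₀ r hr2 hrp hcard hrn hn35
        (by rw [hF₀]; exact hv) x
        (fun μ hμ hXμ hrat => Cfsg.Agent.S5965P.conj_of_scaled_pow_eq_one n (by omega) F₀ r hrp
          x μ hμ hXμ hrat) hx1

end Cfsg.Agent.S5965
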