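import Cfsg.Statements.S5966
import Cfsg.Agent.Helper7.SubF3
import Cfsg.Agent.Helper7.SubF4
import Cfsg.Agent.Helper7.SubF8

set_option autoImplicit false
open scoped MatrixGroups
open Cfsg

namespace Cfsg.Agent.S5966

/-- Elements of order 3 of PSL_n(q) in characteristic 3 and subfield subgroups. Here `T = PSL_n(F)` for a field `F` with `q` elements, `q` a power of 3 (`n ≥ 2`, `(n, q) ≠ (2, 2), (2, 3)`), `F₀` is the subfield with `q₀` elements where `q = q₀^k` for a prime `k`, and `H` is the subgroup of matrices of determinant 1 lying in the subfield group of `F₀` (invertible matrices over `F₀` times scalars) — a maximal subgroup of type GL_n(q₀) (the case `n = 2`, `q₀ = 2` is excluded); Ω is the set of `T`-conjugates of `H` (cosets of `H`), so an element of `T` of prime order `r` (a matrix `x` of determinant 1 with `x^r` scalar, `x` not scalar) fixes a point of Ω when some conjugate of `x` by a matrix of determinant 1 lies in `H`. Suppose 3 divides the index of `H`. Then every element of `T`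 of order 3 is conjugate in `T` into `H` if and only if `n` is odd, or `n` is even and `k > 2`. -/
theorem result {F : Type*} [Field F] [Fintype F] [CharP F 3] {q : ℕ} (hq : Fintype.card F = q)
    (n : ℕ) (hn : 2 ≤ n) (hT : (n, q) ≠ (2, 3))
    (F₀ : Subfield F) (k q₀ : ℕ) (hk : k.Prime) (hF₀ : Nat.card ↥F₀ = q₀) (hqk : q = q₀ ^ k) (hC5 : ¬ (n = 2 ∧ q₀ = 2)) (hΩ : 3 ∣ ((Cfsg.Geo.subfieldSubgroup F₀ 1).comap (Matrix.SpecialLinearGroup.toGL : Matrix.SpecialLinearGroup (Fin n) F →* GL (Fin n) F)).index) :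
    (∀ x : Matrix.SpecialLinearGroup (Fin n) F,
      (∃ z : F, ((x ^ 3 : Matrix.SpecialLinearGroup (Fin n) F) : Matrix (Fin n) (Fin n) F) = z • (1 : Matrix (Fin n) (Fin n) F)) →
      (∀ z : F, (x : Matrix (Fin n) (Fin n) F) ≠ z • (1 : Matrix (Fin n) (Fin n) F)) →
      ∃ P : Matrix.SpecialLinearGroup (Fin n) F, P⁻¹ * x * P ∈ ((Cfsg.Geo.subfieldSubgroup F₀ 1).comap (Matrix.SpecialLinearGroup.toGL : Matrix.SpecialLinearGroup (Fin n) F →* GL (Fin n) F))) ↔
    (Odd n ∨ (Even n ∧ 2 < k)) := by
  have hcard : Fintype.card F = Nat.card ↥F₀ ^ k := by rw [hq, hqk, hF₀]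
  have hodd : Fintype.card F % 2 = 1 := by
    apply FiniteField.odd_card_of_char_ne_two
    rw [ringChar.eq F 3]
    norm_num
  constructor
  · intro hall
    by_contra hcon
    push Not at hcon
    obtain ⟨hno, hek⟩ := hcon
    have hev : Even n := Nat.not_odd_iff_even.1 hno
    have hk2 : k = 2 := by
      have h1 := hek hev
      have h2 := hk.two_le
      omega
    obtain ⟨b, rfl⟩ := hev
    have hb : 0 < b := by omega
    have hF : ringChar F ≠ 2 := by
      rw [ringChar.eq F 3]
      norm_num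
    obtain ⟨δ, hδ⟩ := FiniteField.exists_nonsquare hF
    have hsq : ∀ a : F₀, IsSquare (a : F) :=
      fun a => Cfsg.Agent.Helper7.SubF.isSquare_of_mem_subfield F₀ k hcard hodd (hk2 ▸ even_two) a
    obtain ⟨x, hx3, hxns, hbad⟩ := Cfsg.Agent.Helper7.SubF.exists_bad_element b hb δ hδ F₀ hsq
    obtain ⟨P, hP⟩ := hall x ⟨1, by rw [hx3, one_smul]⟩ hxns
    exact hbad P hP
  · intro hcase x hx3 hxns
    apply Cfsg.Agent.Helper7.SubF.conj_into_subfield F₀ x hx3 hxns
    rcases hcase with ho | ⟨-, hk2⟩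
    · exact Or.inl ho
    · right
      intro a ha
      exact Cfsg.Agent.Helper7.SubF.exists_subfield_mul_sq F₀ k hcard hodd
        (hk.odd_of_ne_two (by omega)) a ha

end Cfsg.Agent.S5966
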