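import Cfsg.Statements.S5968
import Cfsg.Agent.Helper7.SpDer3
import Cfsg.Agent.Helper7.SpDer5
import Cfsg.Agent.Helper7.SpDer6
import Cfsg.Agent.Helper7.SpDer7

set_option autoImplicit false
open scoped MatrixGroups
open Cfsg

namespace Cfsg.Agent.S5968

open Cfsg.Agent.Helper7.SpDer in
/-- Derangements of odd prime order of PSL_n(q) on the cosets of a symplectic-type subgroup. Here `T = PSL_n(F)` for a field `F` with `q` elements, `n ≥ 4` even, `f` is a nondegenerate alternating form on `F^n`, and `H` is the subgroup of matrices of determinant 1 preserving `f` up to a scalar — a maximal subgroup of type Sp_n(q); Ω is the set of `T`-conjugates of `H` (cosets of `H`), so an element of `T` of prime order `r` (a matrix `x` of determinant 1 with `x^r` scalar, `x` not scalar) fixes a point of Ω when some conjugate of `x` by a matrix of determinant 1 preserves `f` up to a scalar. For every odd prime `r` dividing the index of `H`, with `(n, r) ≠ (6, 3)`, there is an element of `T` of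 order `r` with no conjugate in `H`. (For `n = 6`, `r = 3` this can fail: when `(q − 1)_3 = 3` every element of order 3 is conjugate into `H`.) -/
theorem result {F : Type*} [Field F] [Fintype F] {p : ℕ} [Fact p.Prime] [CharP F p] {q : ℕ} (hq : Fintype.card F = q)
    (n : ℕ) (hn : 4 ≤ n) (he : Even n) (f : (Fin n → F) → (Fin n → F) → F) (hf : Cfsg.Geo.IsSymplecticForm f)
    (r : ℕ) [Fact r.Prime] (hr2 : r ≠ 2) (hgap : ¬ (n = 6 ∧ r = 3)) (hΩ : r ∣ ((Cfsg.Geo.similarityGroup f).comap (Matrix.SpecialLinearGroup.toGL : Matrix.SpecialLinearGroup (Fin n) F →* GL (Fin n) F)).index) :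
    ∃ x : Matrix.SpecialLinearGroup (Fin n) F,
      (∃ z : F, ((x ^ r : Matrix.SpecialLinearGroup (Fin n) F) : Matrix (Fin n) (Fin n) F) = z • (1 : Matrix (Fin n) (Fin n) F)) ∧
      (∀ z : F, (x : Matrix (Fin n) (Fin n) F) ≠ z • (1 : Matrix (Fin n) (Fin n) F)) ∧
      ∀ P : Matrix.SpecialLinearGroup (Fin n) F, P⁻¹ * x * P ∉ ((Cfsg.Geo.similarityGroup f).comap (Matrix.SpecialLinearGroup.toGL : Matrix.SpecialLinearGroup (Fin n) F →* GL (Fin n) F)) := by
  have hr : r.Prime := Fact.out
  have hp : p.Prime := Fact.out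
  -- it suffices to find `x` with `x ^ r = 1`
  suffices h : ∃ x : Matrix.SpecialLinearGroup (Fin n) F,
      ((x ^ r : Matrix.SpecialLinearGroup (Fin n) F) : Matrix (Fin n) (Fin n) F) = 1 ∧
      (∀ z : F, (x : Matrix (Fin n) (Fin n) F) ≠ z • (1 : Matrix (Fin n) (Fin n) F)) ∧
      ∀ P : Matrix.SpecialLinearGroup (Fin n) F, P⁻¹ * x * P ∉ ((Cfsg.Geo.similarityGroup f).comap (Matrix.SpecialLinearGroup.toGL : Matrix.SpecialLinearGroup (Fin n) F →* GL (Fin n) F)) by
    obtain ⟨x, h1, h2, h3⟩ := h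
    exact ⟨x, ⟨1, by rw [h1, one_smul]⟩, h2, h3⟩
  obtain ⟨k0, hk0⟩ := he
  have hnm : n = 2 * (k0 - 1) + 2 := by omega
  have hq1 : 1 ≤ Fintype.card F := Fintype.card_pos
  rcases prime_dvd_index_cases hf (k0 - 1) hnm r hr hΩ with h1 | ⟨k, hk, h1⟩
  · -- `r = p`
    rw [Nat.card_eq_fintype_card] at h1
    obtain ⟨a, -, ha⟩ := FiniteField.card F p
    rw [ha] at h1
    have h2 : r = p := (Nat.prime_dvd_prime_iff_eq hr hp).1 (hr.dvd_of_dvd_pow h1)
    have hp2 : p ≠ 2 := h2 ▸ hr2
    rw [h2]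
    exact case_char hf p hp2 (by omega)
  · rw [Nat.card_eq_fintype_card] at h1
    have hpow1 : 1 ≤ Fintype.card F ^ (2 * k + 3) := Nat.one_le_pow _ _ hq1
    have hrp : r ≠ p := by
      intro h2
      obtain ⟨a, -, ha⟩ := FiniteField.card F p
      have h3 : r ∣ Fintype.card F ^ (2 * k + 3) := by
        rw [ha, h2]
        exact dvd_pow (dvd_pow_self p a.ne_zero) (by omega)
      have h4 : r ∣ 1 := by
        have := (Nat.dvd_sub_iff_right hpow1 h3).1 h1
        exact this
      exact hr.one_lt.ne' (Nat.dvd_one.1 h4)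
    have hz : ((Fintype.card F : ℕ) : ZMod r) ^ (2 * k + 3) = 1 := by
      have h2 : ((Fintype.card F ^ (2 * k + 3) - 1 : ℕ) : ZMod r) = 0 :=
        (ZMod.natCast_eq_zero_iff _ _).2 h1
      rw [Nat.cast_sub hpow1, Nat.cast_pow, Nat.cast_one] at h2
      exact sub_eq_zero.1 h2
    have hdv : orderOf ((Fintype.card F : ℕ) : ZMod r) ∣ 2 * k + 3 := orderOf_dvd_of_pow_eq_one hz
    have hodd : Odd (orderOf ((Fintype.card F : ℕ) : ZMod r)) := by
      have h2 : Odd (2 * k + 3) := ⟨k + 1, by ring⟩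
      obtain ⟨e, he⟩ := hdv
      rw [he] at h2
      exact Nat.Odd.of_mul_left h2
    have hin : orderOf ((Fintype.card F : ℕ) : ZMod r) ≤ n := by
      have := Nat.le_of_dvd (by omega) hdv
      omega
    by_cases hi1 : orderOf ((Fintype.card F : ℕ) : ZMod r) = 1
    · -- `r ∣ q - 1`
      have h2 : r ∣ Fintype.card F - 1 := by
        rw [orderOf_eq_one_iff] at hi1
        rw [← ZMod.natCast_eq_zero_iff, Nat.cast_sub hq1, hi1, Nat.cast_one, sub_self]
      obtain ⟨t, rfl⟩ : ∃ t, n = t + 3 := ⟨n - 3, by omega⟩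
      have ht : Odd t := by
        rcases Nat.even_or_odd t with h3 | h3
        · exfalso
          obtain ⟨e, he⟩ := h3
          omega
        · exact h3
      have hgap' : ¬ (t = 3 ∧ r = 3) := by
        rintro ⟨h3, h4⟩
        exact hgap ⟨by omega, h4⟩
      exact case_split r hr2 t ht hgap' h2 hf
    · exact case_odd hf p r hrp hr2 hi1 hodd hin (by omega)

end Cfsg.Agent.S5968
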