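import Cfsg.Statements.S5970
import Mathlib
import Cfsg.Agent.Helper2.SingerA
import Cfsg.Agent.Helper2.SingerB
import Cfsg.Agent.Helper2.SingerC
import Cfsg.Agent.Helper2.SingerD
import Cfsg.Agent.Helper2.FieldSubA

set_option autoImplicit false
open scoped MatrixGroups
open Cfsg

namespace Cfsg.Agent.S5970

open Matrix

/-- Elements of order `n` of PSL_n(q), `n` prime, and the normalizer of a Singer cycle. Here `T = PSL_n(F)` for a field `F` with `q = p^f` elements (`n ≥ 2`, `(n, q) ≠ (2, 2), (2, 3)`), `k` is a prime dividing `n`, `K` is a subalgebra of the `n × n` matrices that is a field of degree `k` over `F` (an extension-field structure F_{q^k} on `F^n`), and `H` is the subgroup of matrices of determinant 1 normalizing `K` — a subgroup of type GL_{n/k}(q^k) (maximal except in some small cases; maximality is not assumed); Ω is the set of cosets of `H` in `T`, so an element of `T` of prime order `r` (a matrix `x` of determinant 1 with `x^r`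 scalar, `x` not scalar) fixes a point of Ω when some conjugate of `x` by a matrix of determinant 1 normalizes `K`. Take `k = n > 3` prime with `n ≠ p` (so `H` is the normalizer of a Singer cycle), and suppose `n` divides the index of `H`. Then every element of `T` of order `n` is conjugate in `T` into `H` if and only if the multiplicative order of `q` modulo `n` is `n − 1`. -/
theorem result {F : Type*} [Field F] [Fintype F] {p : ℕ} [Fact p.Prime] [CharP F p] {q : ℕ} (hq : Fintype.card F = q)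
    (n : ℕ) (hn : 2 ≤ n) (hT : (n, q) ≠ (2, 2) ∧ (n, q) ≠ (2, 3))
    (k : ℕ) (hk : k.Prime) (hkn : k ∣ n) (K : Subalgebra F (Matrix (Fin n) (Fin n) F)) (hK : Cfsg.Geo.IsFieldSubalgebra k K) (hkn' : k = n) (hn3 : 3 < n) (hnp : n ≠ p) (hΩ : n ∣ ((Cfsg.Geo.subalgebraNormalizer K).comap (Matrix.SpecialLinearGroup.toGL : Matrix.SpecialLinearGroup (Fin n) F →* GL (Fin n) F)).index) :
    (∀ x : Matrix.SpecialLinearGroup (Fin n) F,
      (∃ z : F, ((x ^ n : Matrix.SpecialLinearGroup (Fin n) F) : Matrix (Fin n) (Fin n) F) = z • (1 : Matrix (Fin n) (Fin n) F)) →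
      (∀ z : F, (x : Matrix (Fin n) (Fin n) F) ≠ z • (1 : Matrix (Fin n) (Fin n) F)) →
      ∃ P : Matrix.SpecialLinearGroup (Fin n) F, P⁻¹ * x * P ∈ ((Cfsg.Geo.subalgebraNormalizer K).comap (Matrix.SpecialLinearGroup.toGL : Matrix.SpecialLinearGroup (Fin n) F →* GL (Fin n) F))) ↔
    orderOf (q : ZMod n) = n - 1 := by
  classical
  subst hq
  rw [hkn'] at hK hk
  have : Fact n.Prime := ⟨hk⟩
  have hpP : p.Prime := Fact.out
  have hn1 : 1 ≤ n := by omega
  have hnF : (n : F) ≠ 0 := by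
    intro h
    rw [CharP.cast_eq_zero_iff F p n] at h
    exact hnp ((Nat.prime_dvd_prime_iff_eq hpP hk).mp h).symm
  constructor
  · intro H
    by_contra hord
    obtain ⟨x, j₁, j₂, hdet, hxn, hx1, hj, hf1, hf2⟩ :=
      Cfsg.Agent.Helper2.Singer.exists_two_fixed (F := F) (p := p) hn3 hnp hord
    obtain ⟨X, hX⟩ : ∃ X : Matrix.SpecialLinearGroup (Fin n) F, X = ⟨x, hdet⟩ := ⟨_, rfl⟩
    have hXc : (X : Matrix (Fin n) (Fin n) F) = x := by rw [hX]
    have hns : ∀ z : F, (X : Matrix (Fin n) (Fin n) F) ≠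
        z • (1 : Matrix (Fin n) (Fin n) F) := by
      intro z hz
      rw [hXc] at hz
      have h1 := congrFun hf1 j₁
      rw [hz, Matrix.smul_mulVec, Matrix.one_mulVec] at h1
      have h2 : z = 1 := by simpa using h1
      apply hx1
      rw [hz, h2, one_smul]
    obtain ⟨P, hP⟩ := H X ⟨1, by
      rw [Matrix.SpecialLinearGroup.coe_pow, hXc, hxn, one_smul]⟩ hns
    rw [Subgroup.mem_comap] at hP
    obtain ⟨Pm, hPm⟩ : ∃ Pm : Matrix (Fin n) (Fin n) F,
        Pm = (P : Matrix (Fin n) (Fin n) F) := ⟨_, rfl⟩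
    obtain ⟨Pi', hPi⟩ : ∃ Pi' : Matrix (Fin n) (Fin n) F,
        Pi' = ((P⁻¹ : Matrix.SpecialLinearGroup (Fin n) F) : Matrix (Fin n) (Fin n) F) :=
      ⟨_, rfl⟩
    have hP1 : Pi' * Pm = 1 := by
      rw [hPi, hPm, ← Matrix.SpecialLinearGroup.coe_mul, inv_mul_cancel,
        Matrix.SpecialLinearGroup.coe_one]
    have hP2 : Pm * Pi' = 1 := by
      rw [hPi, hPm, ← Matrix.SpecialLinearGroup.coe_mul, mul_inv_cancel,
        Matrix.SpecialLinearGroup.coe_one]
    have hgc : ((Matrix.SpecialLinearGroup.toGL (P⁻¹ * X * P) : GL (Fin n) F) :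
        Matrix (Fin n) (Fin n) F) = Pi' * x * Pm := by
      show ((P⁻¹ * X * P : Matrix.SpecialLinearGroup (Fin n) F) :
        Matrix (Fin n) (Fin n) F) = Pi' * x * Pm
      rw [Matrix.SpecialLinearGroup.coe_mul, Matrix.SpecialLinearGroup.coe_mul, ← hPi, ← hPm,
        hXc]
    have hu1 : Pi' *ᵥ Pi.single j₁ (1 : F) ≠ 0 := by
      intro h
      have h1 : Pm *ᵥ (Pi' *ᵥ Pi.single j₁ (1 : F)) = Pi.single j₁ 1 := by
        rw [Matrix.mulVec_mulVec, hP2, Matrix.one_mulVec]
      rw [h, Matrix.mulVec_zero] at h1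
      have h2 := congrFun h1 j₁
      simp at h2
    have hfa : ∀ j : Fin n, x *ᵥ Pi.single j (1 : F) = Pi.single j 1 →
        (Pi' * x * Pm) *ᵥ (Pi' *ᵥ Pi.single j (1 : F)) = Pi' *ᵥ Pi.single j (1 : F) := by
      intro j hfj
      rw [Matrix.mulVec_mulVec, Matrix.mul_assoc (Pi' * x), hP2, Matrix.mul_one,
        ← Matrix.mulVec_mulVec, hfj]
    have hind : ∀ c : F, Pi' *ᵥ Pi.single j₂ (1 : F) ≠ c • (Pi' *ᵥ Pi.single j₁ (1 : F)) := by
      intro c h
      have h1 : Pm *ᵥ (Pi' *ᵥ Pi.single j₂ (1 : F)) =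
          Pm *ᵥ (c • (Pi' *ᵥ Pi.single j₁ (1 : F))) := by rw [h]
      rw [Matrix.mulVec_smul, Matrix.mulVec_mulVec, Matrix.mulVec_mulVec, hP2,
        Matrix.one_mulVec, Matrix.one_mulVec] at h1
      have h2 := congrFun h1 j₂
      simp [Pi.single_apply, hj.symm] at h2
    have hres := Cfsg.Agent.Helper2.Singer.fix_two hk hK _ hP hu1
      (by rw [hgc]; exact hfa j₁ hf1) (by rw [hgc]; exact hfa j₂ hf2) hind
    rw [hgc] at hres
    apply hx1
    calc x = Pm * (Pi' * x * Pm) * Pi' := by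
          simp only [Matrix.mul_assoc]
          rw [hP2, Matrix.mul_one, ← Matrix.mul_assoc, hP2, Matrix.one_mul]
      _ = 1 := by rw [hres, Matrix.mul_one, hP2]
  · intro hord x hx hns
    obtain ⟨z, hz⟩ := hx
    rw [Matrix.SpecialLinearGroup.coe_pow] at hz
    obtain ⟨xm, hxm⟩ : ∃ xm : Matrix (Fin n) (Fin n) F,
        xm = (x : Matrix (Fin n) (Fin n) F) := ⟨_, rfl⟩
    rw [← hxm] at hz hns
    have hxdet : xm.det = 1 := by rw [hxm]; exact x.2
    have hzn : z ^ n = 1 := by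
      have h1 := congrArg Matrix.det hz
      rw [Matrix.det_pow, hxdet, one_pow, Matrix.det_smul, Matrix.det_one, mul_one,
        Fintype.card_fin] at h1
      exact h1.symm
    have hz0 : z ≠ 0 := by
      intro h
      rw [h, zero_pow (by omega)] at hzn
      exact zero_ne_one hzn
    have hcop : (Nat.card Fˣ).Coprime n := by
      rw [Nat.card_units, Nat.card_eq_fintype_card]
      apply Nat.Coprime.symm
      rw [Nat.Prime.coprime_iff_not_dvd hk]
      intro hd
      have h1 := Cfsg.Agent.Helper2.Singer.ord_dvd_of_dvd (n := n) (q := Fintype.card F)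
        (d := 1) Fintype.card_pos (by rwa [pow_one])
      rw [hord] at h1
      have h2 := Nat.le_of_dvd one_pos h1
      omega
    have hroot : ∀ a : F, a ≠ 0 → ∃ c : F, c ≠ 0 ∧ c ^ n = a := by
      intro a ha
      obtain ⟨c, hc⟩ := (powCoprime hcop).surjective (Units.mk0 a ha)
      rw [powCoprime_apply] at hc
      refine ⟨c, c.ne_zero, ?_⟩
      have h1 := congrArg Units.val hc
      rwa [Units.val_pow_eq_pow_val, Units.val_mk0] at h1
    obtain ⟨c, hc0, hcz⟩ := hroot z hz0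
    obtain ⟨A, hA⟩ : ∃ A : Matrix (Fin n) (Fin n) F, A = c⁻¹ • xm := ⟨_, rfl⟩
    have hxA : xm = c • A := by rw [hA, smul_smul, mul_inv_cancel₀ hc0, one_smul]
    have hAn : A ^ n = 1 := by
      rw [hA, smul_pow, hz, smul_smul, inv_pow, hcz, inv_mul_cancel₀ hz0, one_smul]
    have hA1 : A ≠ 1 := by
      intro h
      apply hns c
      rw [hxA, h]
    obtain ⟨Φ, hΦn, hΦ1, hΦK⟩ := Cfsg.Agent.Helper2.Singer.exists_frob (p := p) hn hK
    obtain ⟨g, hg⟩ :=
      Cfsg.Agent.Helper2.Singer.exists_gl_conj hn3 hnF hord A Φ hAn hA1 hΦn hΦ1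
    obtain ⟨Gm, hGm⟩ : ∃ Gm : Matrix (Fin n) (Fin n) F,
        Gm = (g : Matrix (Fin n) (Fin n) F) := ⟨_, rfl⟩
    obtain ⟨Gi, hGi⟩ : ∃ Gi : Matrix (Fin n) (Fin n) F,
        Gi = ((g⁻¹ : GL (Fin n) F) : Matrix (Fin n) (Fin n) F) := ⟨_, rfl⟩
    have h12 : Gm * Gi = 1 := by
      rw [hGm, hGi, ← Units.val_mul, mul_inv_cancel, Units.val_one]
    have h21 : Gi * Gm = 1 := by
      rw [hGm, hGi, ← Units.val_mul, inv_mul_cancel, Units.val_one]
    rw [← hGm] at hg
    have hdd : Gm.det * Gi.det = 1 := by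
      have h1 := congrArg Matrix.det h12
      rwa [Matrix.det_mul, Matrix.det_one] at h1
    have hgd : Gm.det ≠ 0 := by
      intro h
      rw [h, zero_mul] at hdd
      exact zero_ne_one hdd
    obtain ⟨t, ht0, htn⟩ := hroot Gm.det hgd
    have hPa : (t • Gi) * (t⁻¹ • Gm) = 1 := by
      rw [Matrix.smul_mul, Matrix.mul_smul, smul_smul, mul_inv_cancel₀ ht0, one_smul, h21]
    have hPb : (t⁻¹ • Gm) * (t • Gi) = 1 := by
      rw [Matrix.smul_mul, Matrix.mul_smul, smul_smul, inv_mul_cancel₀ ht0, one_smul, h12]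
    obtain ⟨Pg, hPg⟩ : ∃ Pg : GL (Fin n) F, Pg = ⟨t • Gi, t⁻¹ • Gm, hPa, hPb⟩ := ⟨_, rfl⟩
    have hPgv : (Pg : Matrix (Fin n) (Fin n) F) = t • Gi := by rw [hPg]
    have hPgi : ((Pg⁻¹ : GL (Fin n) F) : Matrix (Fin n) (Fin n) F) = t⁻¹ • Gm := by
      rw [hPg]; rfl
    have hdetPg : (Pg : Matrix (Fin n) (Fin n) F).det = 1 := by
      rw [hPgv, Matrix.det_smul, Fintype.card_fin, htn, hdd]
    apply Cfsg.Agent.Helper2.FSub.exists_sl_conj _ x Pg hdetPg
    have hxGL : ((Matrix.SpecialLinearGroup.toGL x : GL (Fin n) F) :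
        Matrix (Fin n) (Fin n) F) = xm := by rw [hxm]; rfl
    have hY : ((Pg⁻¹ * Matrix.SpecialLinearGroup.toGL x * Pg : GL (Fin n) F) :
        Matrix (Fin n) (Fin n) F) = c • Φ := by
      rw [Units.val_mul, Units.val_mul, hPgi, hPgv, hxGL, Matrix.smul_mul, Matrix.smul_mul,
        Matrix.mul_smul, smul_smul, inv_mul_cancel₀ ht0, one_smul, hxA, Matrix.mul_smul,
        Matrix.smul_mul, hg, Matrix.mul_assoc, h12, Matrix.mul_one]
    apply Cfsg.Agent.Helper2.Singer.mem_normalizer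
    intro k' hk'
    refine ⟨k' ^ Fintype.card F, K.pow_mem hk' _, ?_⟩
    rw [hY, Matrix.smul_mul, hΦK k' hk', Matrix.mul_smul]

end Cfsg.Agent.S5970
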