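import Cfsg.Statements.S5971
import Mathlib
import Cfsg.Agent.Helper2.SingerA
import Cfsg.Agent.Helper2.SingerB
import Cfsg.Agent.Helper2.SingerE
import Cfsg.Agent.Helper2.SingerF
import Cfsg.Agent.Helper2.SingerG
import Cfsg.Agent.Helper2.FieldSubA

set_option autoImplicit false
open scoped MatrixGroups
open Cfsg

namespace Cfsg.Agent.S5971

open Matrix Cfsg.Agent.Helper2.Singer

/-- Elements of order 3 of PSL_3(q) and the normalizer of a Singer cycle. Here `T = PSL_n(F)` for a field `F` with `q = p^f` elements (`n ≥ 2`, `(n, q) ≠ (2, 2), (2, 3)`), `k` is a prime dividing `n`, `K` is a subalgebra of the `n × n` matrices that is a field of degree `k` over `F` (an extension-field structure F_{q^k} on `F^n`), and `H` is the subgroup of matrices of determinant 1 normalizing `K` — a subgroup of type GL_{n/k}(q^k) (maximal except in some small cases; maximality is not assumed); Ω is the set of cosets of `H` in `T`, so an element of `T` of prime order `r` (a matrix `x` of determinant 1 with `x^r` scalar,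 `x` not scalar) fixes a point of Ω when some conjugate of `x` by a matrix of determinant 1 normalizes `K`. Take `n = k = 3` and suppose 3 divides the index of `H`. Then every element of `T` of order 3 is conjugate in `T` into `H` if and only if `q ≡ 4, 7` or `8 (mod 9)`. -/
theorem result {F : Type*} [Field F] [Fintype F] {p : ℕ} [Fact p.Prime] [CharP F p] {q : ℕ} (hq : Fintype.card F = q)
    (n : ℕ) (hn : n = 3) (k : ℕ) (hk : k.Prime) (hkn : k ∣ n) (K : Subalgebra F (Matrix (Fin n) (Fin n) F)) (hK : Cfsg.Geo.IsFieldSubalgebra k K) (hk3 : k = 3) (hΩ : 3 ∣ ((Cfsg.Geo.subalgebraNormalizer K).comap (Matrix.SpecialLinearGroup.toGL : Matrix.SpecialLinearGroup (Fin n) F →* GL (Fin n) F)).index) :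
    (∀ x : Matrix.SpecialLinearGroup (Fin n) F,
      (∃ z : F, ((x ^ 3 : Matrix.SpecialLinearGroup (Fin n) F) : Matrix (Fin n) (Fin n) F) = z • (1 : Matrix (Fin n) (Fin n) F)) →
      (∀ z : F, (x : Matrix (Fin n) (Fin n) F) ≠ z • (1 : Matrix (Fin n) (Fin n) F)) →
      ∃ P : Matrix.SpecialLinearGroup (Fin n) F, P⁻¹ * x * P ∈ ((Cfsg.Geo.subalgebraNormalizer K).comap (Matrix.SpecialLinearGroup.toGL : Matrix.SpecialLinearGroup (Fin n) F →* GL (Fin n) F))) ↔
    (q % 9 = 4 ∨ q % 9 = 7 ∨ q % 9 = 8) := by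
  classical
  subst hq
  subst hn
  rw [hk3] at hK
  have hpP : p.Prime := Fact.out
  have h3P : Nat.Prime 3 := Nat.prime_three
  obtain ⟨f, -, hqf⟩ := FiniteField.card F p
  have hq1 : 1 < Fintype.card F := Fintype.one_lt_card
  constructor
  · intro H
    by_contra hR
    have hcases : Fintype.card F % 3 = 0 ∨ Fintype.card F % 9 = 1 ∨
        (Fintype.card F % 9 = 2 ∨ Fintype.card F % 9 = 5) := by omega
    rcases hcases with h0 | h1 | h25
    · -- characteristic 3: a transvection
      have hp3 : p = 3 := by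
        have h3q : 3 ∣ Fintype.card F := Nat.dvd_of_mod_eq_zero h0
        rw [hqf] at h3q
        exact ((Nat.prime_dvd_prime_iff_eq h3P hpP).mp (h3P.dvd_of_dvd_pow h3q)).symm
      have h3F : (3 : F) = 0 := by
        have h4 := (CharP.cast_eq_zero_iff F p 3).2 (by rw [hp3])
        simpa using h4
      obtain ⟨xm, hxm⟩ : ∃ xm : Matrix (Fin 3) (Fin 3) F,
          xm = !![1, 1, 0; 0, 1, 0; 0, 0, 1] := ⟨_, rfl⟩
      have hdet : xm.det = 1 := by rw [hxm, Matrix.det_fin_three]; simp
      have hx3 : xm ^ 3 = 1 := by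
        rw [hxm, pow_succ, pow_two]
        ext i j
        fin_cases i <;> fin_cases j <;> simp [Matrix.mul_apply, Fin.sum_univ_three]
        all_goals linear_combination h3F
      obtain ⟨X, hX⟩ : ∃ X : Matrix.SpecialLinearGroup (Fin 3) F, X = ⟨xm, hdet⟩ := ⟨_, rfl⟩
      have hXc : (X : Matrix (Fin 3) (Fin 3) F) = xm := by rw [hX]
      have he0 : xm *ᵥ Pi.single 0 (1 : F) = (1 : F) • Pi.single 0 (1 : F) := by
        rw [hxm]
        funext i
        fin_cases i <;> simp [Matrix.mulVec, dotProduct, Fin.sum_univ_three]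
      have he2 : xm *ᵥ Pi.single 2 (1 : F) = (1 : F) • Pi.single 2 (1 : F) := by
        rw [hxm]
        funext i
        fin_cases i <;> simp [Matrix.mulVec, dotProduct, Fin.sum_univ_three]
      have hns : ∀ z : F, xm ≠ z • (1 : Matrix (Fin 3) (Fin 3) F) := by
        intro z h
        have h4 := congrFun (congrFun h 0) 1
        rw [hxm] at h4
        simp at h4
      obtain ⟨P, hP⟩ := H X ⟨1, by
        rw [Matrix.SpecialLinearGroup.coe_pow, hXc, hx3, one_smul]⟩ (by rw [hXc]; exact hns)
      exact not_conj_of_eigen_two h3P hK X 1 one_ne_zero (by rw [hXc]; exact hns 1)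
        (j₁ := 0) (j₂ := 2) (by decide) (by rw [hXc]; exact he0) (by rw [hXc]; exact he2) P hP
    · -- q ≡ 1 mod 9: diag(η, η, η⁻²)
      have h9 : 9 ∣ Fintype.card F - 1 := Nat.dvd_of_mod_eq_zero (by omega)
      obtain ⟨η, hη9, hη3⟩ := exists_eta h9
      have hη0 : η ≠ 0 := by
        intro h
        rw [h, zero_pow (by norm_num)] at hη9
        exact zero_ne_one hη9
      have hηη : η * η ≠ 0 := mul_ne_zero hη0 hη0
      have hne : (η * η)⁻¹ ≠ η := by
        intro h
        apply hη3
        have h4 : (η * η) * (η * η)⁻¹ = (η * η) * η := by rw [h]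
        rw [mul_inv_cancel₀ hηη] at h4
        linear_combination -h4
      have e3 : ((η * η)⁻¹) ^ 3 = η ^ 3 := by
        have h4 : (η * η) ^ 3 * η ^ 3 = 1 := by linear_combination hη9
        rw [inv_pow]
        exact inv_eq_of_mul_eq_one_right h4
      obtain ⟨xm, hxm⟩ : ∃ xm : Matrix (Fin 3) (Fin 3) F,
          xm = Matrix.diagonal ![η, η, (η * η)⁻¹] := ⟨_, rfl⟩
      have hdet : xm.det = 1 := by
        rw [hxm, Matrix.det_diagonal, Fin.prod_univ_three]
        simp only [Matrix.cons_val_zero, Matrix.cons_val_one, Matrix.cons_val_two,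
          Matrix.head_cons, Matrix.tail_cons]
        exact mul_inv_cancel₀ hηη
      have hx3 : xm ^ 3 = η ^ 3 • (1 : Matrix (Fin 3) (Fin 3) F) := by
        rw [hxm, Matrix.diagonal_pow]
        have h4 : (![η, η, (η * η)⁻¹] : Fin 3 → F) ^ 3 = fun _ => η ^ 3 := by
          funext i
          fin_cases i
          · rfl
          · rfl
          · exact e3
        rw [h4, ← Matrix.smul_one_eq_diagonal]
      obtain ⟨X, hX⟩ : ∃ X : Matrix.SpecialLinearGroup (Fin 3) F, X = ⟨xm, hdet⟩ := ⟨_, rfl⟩
      have hXc : (X : Matrix (Fin 3) (Fin 3) F) = xm := by rw [hX]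
      have he0 : xm *ᵥ Pi.single 0 (1 : F) = η • Pi.single 0 (1 : F) := by
        rw [hxm, Matrix.diagonal_mulVec_single]
        funext i
        fin_cases i <;> simp
      have he1 : xm *ᵥ Pi.single 1 (1 : F) = η • Pi.single 1 (1 : F) := by
        rw [hxm, Matrix.diagonal_mulVec_single]
        funext i
        fin_cases i <;> simp
      have hns : ∀ z : F, xm ≠ z • (1 : Matrix (Fin 3) (Fin 3) F) := by
        intro z h
        have h4 := congrFun (congrFun h 0) 0
        have h5 := congrFun (congrFun h 2) 2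
        rw [hxm] at h4 h5
        simp at h4 h5
        exact hne (by rw [_root_.mul_inv_rev]; exact h5.trans h4.symm)
      obtain ⟨P, hP⟩ := H X ⟨η ^ 3, by
        rw [Matrix.SpecialLinearGroup.coe_pow, hXc, hx3]⟩ (by rw [hXc]; exact hns)
      exact not_conj_of_eigen_two h3P hK X η hη0 (by rw [hXc]; exact hns η)
        (j₁ := 0) (j₂ := 1) (by decide) (by rw [hXc]; exact he0) (by rw [hXc]; exact he1) P hP
    · -- q ≡ 2, 5 mod 9: the index is not divisible by 3
      have h3n : ¬ 3 ∣ Fintype.card F - 1 := by omega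
      have hdvd := three_dvd_card_normalizer (p := p) hK h3n
      have h9 : 9 ∣ Nat.card (Matrix.SpecialLinearGroup (Fin 3) F) := by
        rw [← Subgroup.card_mul_index ((Cfsg.Geo.subalgebraNormalizer K).comap
          (Matrix.SpecialLinearGroup.toGL :
            Matrix.SpecialLinearGroup (Fin 3) F →* GL (Fin 3) F))]
        exact Nat.mul_dvd_mul hdvd hΩ
      exact not_nine_dvd_card_SL3 h25 h9
  · rintro hR x ⟨z, hz⟩ hns
    rw [Matrix.SpecialLinearGroup.coe_pow] at hz
    have hf0 : (f : ℕ) ≠ 0 := PNat.ne_zero f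
    by_cases h8 : Fintype.card F % 9 = 8
    · have hp3 : (3 : ℕ) ≠ p := by
        intro h
        rw [← h] at hqf
        have h4 : 3 ∣ Fintype.card F := by rw [hqf]; exact dvd_pow_self 3 hf0
        omega
      have hord : orderOf ((Fintype.card F : ℕ) : ZMod 3) = 3 - 1 := by
        have h2 : ((Fintype.card F : ℕ) : ZMod 3) = 2 := by
          have h4 := (ZMod.natCast_eq_natCast_iff' (Fintype.card F) 2 3).2 (by omega)
          simpa using h4
        rw [h2]
        show orderOf (2 : ZMod 3) = 2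
        exact orderOf_eq_prime (by decide) (by decide)
      exact conj_of_ord h3P (by norm_num) hp3 hK hord x z hz hns
    · have h3d : 3 ∣ Fintype.card F - 1 := by omega
      have h9n : ¬ 9 ∣ Fintype.card F - 1 := by omega
      have h3F : (3 : F) ≠ 0 := by
        intro h
        have h' : ((3 : ℕ) : F) = 0 := by simpa using h
        rw [CharP.cast_eq_zero_iff F p 3] at h'
        have hp3 := (Nat.prime_dvd_prime_iff_eq hpP h3P).mp h'
        rw [hp3] at hqf
        have h4 : 3 ∣ Fintype.card F := by rw [hqf]; exact dvd_pow_self 3 hf0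
        omega
      obtain ⟨xm, hxm⟩ : ∃ xm : Matrix (Fin 3) (Fin 3) F,
          xm = (x : Matrix (Fin 3) (Fin 3) F) := ⟨_, rfl⟩
      rw [← hxm] at hz hns
      have hxdet : xm.det = 1 := by rw [hxm]; exact x.2
      have hz' : xm * xm * xm = z • (1 : Matrix (Fin 3) (Fin 3) F) := by
        rw [← hz, pow_succ, pow_two]
      have hz3 : z ^ 3 = 1 := by
        have h4 := congrArg Matrix.det hz
        rw [Matrix.det_pow, hxdet, one_pow, Matrix.det_smul, Matrix.det_one, mul_one,
          Fintype.card_fin] at h4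
        exact h4.symm
      have hz1 : z = 1 := by
        rcases cube_of_sl3 hxdet hns hz' with h | ⟨c, hc⟩
        · exact h
        · have hc9 : c ^ 9 = 1 := by rw [← hz3, ← hc]; ring
          have h4 := cube_of_pow_nine h9n c hc9
          rw [← hc, ← h4]; ring
      rw [hz1, one_smul] at hz'
      obtain ⟨ω, hω1, hω3⟩ := exists_omega h3d
      obtain ⟨Φ, hΦ3, hΦ1, hΦK, hΦe⟩ := exists_eig_frob (p := p) hK
      have hm1 : (ω * ω) * (ω * ω) * (ω * ω) = 1 := by linear_combination (ω * ω * ω + 1) * hω3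
      obtain ⟨v0, hv00, hv0⟩ := exists_eig_sl3 h3F hxdet hns hz' (mu := 1) (by ring)
      obtain ⟨v1, hv10, hv1⟩ := exists_eig_sl3 h3F hxdet hns hz' hm1
      obtain ⟨v2, hv20, hv2⟩ := exists_eig_sl3 h3F hxdet hns hz' hω3
      obtain ⟨w0, hw00, hw0⟩ := hΦe 1 (by ring)
      obtain ⟨w1, hw10, hw1⟩ := hΦe (ω * ω) hm1
      obtain ⟨w2, hw20, hw2⟩ := hΦe ω hω3
      rw [one_mul] at hv0 hw0
      have a01 : (1 : F) ≠ (ω * ω) * (ω * ω) := fun h =>
        hω1 (by linear_combination (-ω) * hω3 - h)
      have a02 : (1 : F) ≠ ω * ω := fun h => hω1 (by linear_combination ω * h + hω3)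
      have a12 : (ω * ω) * (ω * ω) ≠ ω * ω := fun h =>
        hω1 (by linear_combination (-(ω * ω)) * h + (ω * ω * ω + 1 - ω) * hω3)
      obtain ⟨d, hd⟩ : ∃ d : Fin 3 → F, d = ![1, (ω * ω) * (ω * ω), ω * ω] := ⟨_, rfl⟩
      have hd0 : d 0 = 1 := by rw [hd]; rfl
      have hd1 : d 1 = (ω * ω) * (ω * ω) := by rw [hd]; rfl
      have hd2 : d 2 = ω * ω := by rw [hd]; rfl
      have hdinj : Function.Injective d := by
        intro i j h
        fin_cases i <;> fin_cases j
        all_goals first
          | rfl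
          | (exfalso
             simp only [Fin.zero_eta, Fin.mk_one, Fin.reduceFinMk, hd0, hd1, hd2] at h
             first
               | exact a01 h | exact a02 h | exact a12 h
               | exact a01 h.symm | exact a02 h.symm | exact a12 h.symm)
      obtain ⟨G, Gi, hGGi, hGiG, hGdet, hGx⟩ := conj_of_eigen hdinj ![v0, v1, v2] ![w0, w1, w2]
        (by intro j; fin_cases j; exacts [hv00, hv10, hv20])
        (by intro j; fin_cases j; exacts [hd0 ▸ hv0, hd1 ▸ hv1, hd2 ▸ hv2])
        (by intro j; fin_cases j; exacts [hw00, hw10, hw20])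
        (by intro j; fin_cases j; exacts [hd0 ▸ hw0, hd1 ▸ hw1, hd2 ▸ hw2])
      obtain ⟨Pg, hPg⟩ : ∃ Pg : GL (Fin 3) F, Pg = ⟨Gi, G, hGiG, hGGi⟩ := ⟨_, rfl⟩
      have hPgv : (Pg : Matrix (Fin 3) (Fin 3) F) = Gi := by rw [hPg]
      have hPgi : ((Pg⁻¹ : GL (Fin 3) F) : Matrix (Fin 3) (Fin 3) F) = G := by rw [hPg]; rfl
      have hdetPg : (Pg : Matrix (Fin 3) (Fin 3) F).det = 1 := by
        rw [hPgv]
        have h4 := congrArg Matrix.det hGGi
        rwa [Matrix.det_mul, hGdet, one_mul, Matrix.det_one] at h4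
      apply Cfsg.Agent.Helper2.FSub.exists_sl_conj _ x Pg hdetPg
      have hxGL : ((Matrix.SpecialLinearGroup.toGL x : GL (Fin 3) F) :
          Matrix (Fin 3) (Fin 3) F) = xm := by rw [hxm]; rfl
      have hY : ((Pg⁻¹ * Matrix.SpecialLinearGroup.toGL x * Pg : GL (Fin 3) F) :
          Matrix (Fin 3) (Fin 3) F) = Φ := by
        rw [Units.val_mul, Units.val_mul, hPgi, hPgv, hxGL, hGx, Matrix.mul_assoc, hGGi,
          Matrix.mul_one]
      apply mem_normalizer
      intro k' hk'
      refine ⟨k' ^ Fintype.card F, K.pow_mem hk' _, ?_⟩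
      rw [hY]
      exact hΦK k' hk'

end Cfsg.Agent.S5971
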