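import Cfsg.Agent.Helper10.S5972COUNT
import Cfsg.Agent.Helper14.S5972R2SUFF
import Cfsg.Agent.Helper16.S5972Defs
import Cfsg.Agent.Helper16.S5972TW
import Cfsg.Agent.Helper16.S5972SUFFO
import Cfsg.Agent.Helper16.S5972NECO
import Cfsg.Agent.Helper16.S5972R2NEC
import Cfsg.Agent.Helper15.S5972ARITHO
import Cfsg.Agent.Helper8.S5955NT
import Cfsg.Agent.Helper18.S5961ARITH
import Cfsg.Agent.Helper21.OCg
import Cfsg.Agent.Helper23.S5961STRUCT
import Cfsg.Agent.Helper10.S5961FIXSPLIT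

set_option autoImplicit false
open scoped MatrixGroups
open Cfsg

namespace Cfsg.Agent.S5972

open Polynomial Cfsg.Agent.Helper2.SympInvol Cfsg.Agent.Helper2.SympUnits Cfsg.Agent.S5961P
  Cfsg.Agent.S5955P Cfsg.Agent.S5972P

theorem result {F : Type*} [Field F] [Fintype F] {p : ℕ} [Fact p.Prime] [CharP F p] {q : ℕ} (hq : Fintype.card F = q) (hqodd : Odd q)
    (d m : ℕ) (hd : 3 ≤ d) (hm : 1 ≤ m) (hmd : m ≤ d)
    (r : ℕ) [Fact r.Prime]
    (hrΩ : r ∣ Nat.card {W : Submodule F (Unit ⊕ (Fin d ⊕ Fin d) → F) // Module.finrank F ↥W = m ∧ (∀ w ∈ W, Cfsg.quadFormOdd d F w = 0)})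
    (i c : ℕ) (hi : i = orderOf (q : ZMod r)) (hc : c = if Even i then i else 2 * i) :
    (∀ x : GL (Unit ⊕ (Fin d ⊕ Fin d)) F, x ∈ Cfsg.Geo.omegaGL (Cfsg.quadFormOdd d F) → orderOf x = r →
      ∃ W : Submodule F (Unit ⊕ (Fin d ⊕ Fin d) → F), Module.finrank F ↥W = m ∧ (∀ w ∈ W, Cfsg.quadFormOdd d F w = 0) ∧
        W.map (Matrix.toLin' (x : Matrix (Unit ⊕ (Fin d ⊕ Fin d)) (Unit ⊕ (Fin d ⊕ Fin d)) F)) ≤ W) ↔
    ((r = 2 ∧ (m < d ∨ q % 4 = 1)) ∨
     (r ≠ p ∧ 2 < r ∧ i ≤ m ∧ 2 * (m % i) < (2 * d + 1) % c ∧ (Odd i ∨ (r - 1) / i + 2 * (m / i) ≤ (2 * d + 1) / i))) := by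
  classical
  subst hq
  have hrpr : r.Prime := Fact.out
  have hppr : p.Prime := Fact.out
  have hcc : c = cc F r := by rw [hc, hi, cc_def]
  subst hi
  have h2 : (2 : F) ≠ 0 := Cfsg.Agent.Helper21.OC.two_ne_zero_of_odd_card hqodd
  have hd1 : 1 ≤ d := by omega
  obtain ⟨f, hf⟩ := FiniteField.card F p
  obtain ⟨hrp, j, hj, hrj⟩ := nt_of_card_eq (p := p) (Fintype.card F) f hf.2 f.pos d m _ hm hmd
    (card_ts_mul (F := F) h2 d m hmd) r hrΩ
  constructor
  · intro hall
    by_cases hr2 : r = 2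
    · left
      refine ⟨hr2, ?_⟩
      by_contra hcon
      rw [not_or] at hcon
      obtain ⟨hmd', hq1⟩ := hcon
      have hq3 : Fintype.card F % 4 = 3 := by
        obtain ⟨k, hk⟩ := hqodd
        omega
      obtain ⟨x, hxΩ, hxord, hxW⟩ := exists_invol_derangement (F := F) d hd1 hq3
      obtain ⟨W, hWm, hWts, hWinv⟩ := hall x hxΩ (hxord.trans hr2.symm)
      have := hxW W hWts hWinv
      omega
    · right
      have h2r : 2 < r := by
        have := hrpr.two_le
        omega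
      obtain ⟨hile, h2'⟩ := nec_basic_o (p := p) h2 r hr2 hrp d m hd1 hm hmd j hj hrj hall
      refine ⟨hrp, h2r, hile, hcc ▸ h2', ?_⟩
      by_cases hev : Even (orderOf ((Fintype.card F : ℕ) : ZMod r))
      · right
        have h2'' : 2 * (m % orderOf ((Fintype.card F : ℕ) : ZMod r)) <
            (2 * d + 1) % orderOf ((Fintype.card F : ℕ) : ZMod r) := by
          have : cc F r = orderOf ((Fintype.card F : ℕ) : ZMod r) := by
            rw [cc_def, if_pos hev]
          rw [this] at h2'; exact h2'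
        exact nec_even_o (p := p) h2 r hr2 hrp d m hd1 hm hmd hev hile h2'' hall
      · left
        exact Nat.not_even_iff_odd.mp hev
  · rintro (⟨hr2, hcond⟩ | ⟨hrp', h2r, hile, h2', h3⟩) x hxΩ hxord
    · exact exists_ts_of_invol h2 d m hd1 hm hmd hcond x hxΩ (hxord.trans hr2)
    · have hr2 : r ≠ 2 := by omega
      -- `x` is an isometry
      have hxiso : ∀ v, Cfsg.quadFormOdd d F (Matrix.toLin'
          (x : Matrix (Unit ⊕ (Fin d ⊕ Fin d)) (Unit ⊕ (Fin d ⊕ Fin d)) F) v) =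
          Cfsg.quadFormOdd d F v := by
        obtain ⟨g, -, rfl⟩ := hxΩ
        intro v
        rw [Matrix.toLin'_apply]
        exact g.2 v v
      set y : Module.End F (Unit ⊕ (Fin d ⊕ Fin d) → F) := Matrix.toLin'
        (x : Matrix (Unit ⊕ (Fin d ⊕ Fin d)) (Unit ⊕ (Fin d ⊕ Fin d)) F) with hy
      have hyr : y ^ r = 1 := by
        have h1 : x ^ r = 1 := by rw [← hxord]; exact pow_orderOf_eq_one x
        have h3 : ((x ^ r : GL (Unit ⊕ (Fin d ⊕ Fin d)) F) :
            Matrix (Unit ⊕ (Fin d ⊕ Fin d)) (Unit ⊕ (Fin d ⊕ Fin d)) F) = 1 := by rw [h1]; rfl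
        rw [Units.val_pow_eq_pow_val] at h3
        rw [hy, ← Matrix.toLin'_pow, h3, Matrix.toLin'_one]
        rfl
      have hY : IsYO (oB d F) y r :=
        ⟨oB_symm d F, oB_nondeg d F h2, oB_isometry d F y hxiso, hyr⟩
      have hVdim : Module.finrank F (Unit ⊕ (Fin d ⊕ Fin d) → F) = 2 * d + 1 := by
        rw [Module.finrank_fintype_fun_eq_card, Fintype.card_sum, Fintype.card_sum,
          Fintype.card_fin, Fintype.card_unit]
        ring
      have hodd : Odd r := hrpr.odd_of_ne_two hr2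
      obtain ⟨hipos, hcpos, hceven, hidvd, hcdvd, -, -, -⟩ := cc_arith (F := F) (p := p) r hr2 hrp
      obtain ⟨hcompl, hCN, hNC, hNinv, hCinv⟩ := fix_split (p := p) r hrp (oB d F) y hY.isom hY.pow
      have hdimsum : Module.finrank F (LinearMap.ker (y - 1)) +
          Module.finrank F (LinearMap.range (y - 1)) = 2 * d + 1 := by
        rw [Submodule.finrank_add_eq_of_isCompl hcompl, hVdim]
      obtain ⟨htwiso, -, -, htwnd⟩ := tw_facts h2 r hodd (oB d F) y hY.isom hY.pow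
      have hNnd : Nondeg (oB d F) (LinearMap.range (y - 1)) :=
        STRUCT.nondeg_right_of_isCompl (oB d F) hY.nondeg _ _ hcompl hNC
      have hNfix : LinearMap.range (y - 1) ⊓ LinearMap.ker (y - 1) = ⊥ := by
        rw [inf_comm]; exact hcompl.inf_eq_bot
      have hdvd : cc F r ∣ Module.finrank F (LinearMap.range (y - 1)) := by
        have := sp_dvd (p := p) r hr2 hrp (tw (oB d F) y) (tw_alt (oB d F) (oB_symm d F) y) y
          htwiso hyr (LinearMap.range (y - 1)) hNinv (htwnd _ hNinv hNfix hNnd)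
        rw [hNfix, finrank_bot, Nat.sub_zero] at this
        exact this
      have hti : (r - 1) / orderOf ((Fintype.card F : ℕ) : ZMod r) *
          orderOf ((Fintype.card F : ℕ) : ZMod r) = r - 1 :=
        Nat.div_mul_cancel (hidvd.trans hcdvd)
      obtain ⟨a', s, has, ha, hso, hse⟩ := arith_suff_o (orderOf ((Fintype.card F : ℕ) : ZMod r))
        (cc F r) ((r - 1) / orderOf ((Fintype.card F : ℕ) : ZMod r)) d m
        (Module.finrank F (LinearMap.ker (y - 1))) (Module.finrank F (LinearMap.range (y - 1)))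
        hipos (cc_def F r) hdimsum hdvd hmd (hcc ▸ h2') h3
      obtain ⟨W, hWm, hWti, hWinv⟩ := exists_ts_invariant (p := p) h2 r hr2 hrp (oB d F) y hY a' s
        ha hso (fun he => by rw [← hti]; exact hse he)
      exact ⟨W, by rw [hWm, has], (ts_iff_orth d F h2 W).mpr hWti, hWinv⟩

end Cfsg.Agent.S5972
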