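import Cfsg.Statements.S5973
import Cfsg.Agent.Helper5.S5973MAIN
import Cfsg.Agent.Helper1.S5973STD
import Cfsg.Agent.Helper2.OInvF

set_option autoImplicit false
open scoped MatrixGroups
open Cfsg

namespace Cfsg.Agent.S5973

open Cfsg.Agent.S5973P Cfsg.Agent.Helper28.Spin

/-- Elements of prime order of PΩ⁺_n(q), n = 2d ≥ 8, with no fixed totally singular `m`-space, `m < n/2`. -/
theorem result {F : Type*} [Field F] [Fintype F] {p : ℕ} [Fact p.Prime] [CharP F p] {q : ℕ} (hq : Fintype.card F = q)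
    (d m : ℕ) (hd : 4 ≤ d) (hm : 1 ≤ m) (hmd : m < d)
    (r : ℕ) [Fact r.Prime]
    (hrΩ : r ∣ Nat.card {W : Submodule F (Fin d ⊕ Fin d → F) // Module.finrank F ↥W = m ∧ (∀ w ∈ W, Cfsg.quadFormPlus d F w = 0)})
    (i c : ℕ) (hi : i = orderOf (q : ZMod r)) (hc : c = if Even i then i else 2 * i) :
    (∀ x : GL (Fin d ⊕ Fin d) F, x ∈ Cfsg.Geo.omegaGL (Cfsg.quadFormPlus d F) →
      (∃ z : F, ((x ^ r : GL (Fin d ⊕ Fin d) F) : Matrix (Fin d ⊕ Fin d) (Fin d ⊕ Fin d) F) = z • (1 : Matrix (Fin d ⊕ Fin d) (Fin d ⊕ Fin d) F)) →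
      (∀ z : F, (x : Matrix (Fin d ⊕ Fin d) (Fin d ⊕ Fin d) F) ≠ z • (1 : Matrix (Fin d ⊕ Fin d) (Fin d ⊕ Fin d) F)) →
      ∃ W : Submodule F (Fin d ⊕ Fin d → F), Module.finrank F ↥W = m ∧ (∀ w ∈ W, Cfsg.quadFormPlus d F w = 0) ∧
        W.map (Matrix.toLin' (x : Matrix (Fin d ⊕ Fin d) (Fin d ⊕ Fin d) F)) ≤ W) ↔
    ((r = 2 ∧ p ≠ 2 ∧ (q % 4 = 1 ∨ (q % 4 = 3 ∧ m + 2 ≤ d ∧ (Even m ∨ (2 * d) % 4 = 2)))) ∨
     (r ≠ p ∧ 2 < r ∧ Odd i ∧ i ≤ m ∧ 2 * (m % i) ≤ (2 * d) % c) ∨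
     (r ≠ p ∧ 2 < r ∧ Even i ∧ i ≤ m ∧ (r - 1) / i + 2 * (m / i) ≤ (2 * d) / i ∧
       ((2 * (m % i) ≤ i ∧ (2 * d) % c = 0 ∧ Odd ((2 * d) / i) ∧ (r - 1) / i + 2 * (m / i) < (2 * d) / i) ∨
        (2 * (m % i) ≤ (2 * d) % c ∧ Even ((2 * d) / i)) ∨
        (2 * (m % i) < (2 * d) % c ∧ Odd ((2 * d) / i))))) := by
  classical
  subst hq
  obtain ⟨hND, hH⟩ := std_plus (F := F) d
  have hcard : Fintype.card (Fin d ⊕ Fin d) = 2 * d := by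
    rw [Fintype.card_sum, Fintype.card_fin]; ring
  have hΩ : (2 : F) ≠ 0 ∨ Cfsg.Agent.Helper2.OInv.HOm (QfPlus d F) := by
    by_cases h2 : (2 : F) = 0
    · exact Or.inr (Cfsg.Agent.Helper2.OInv.HOm_plus h2 (by omega) (Or.inr (by omega)))
    · exact Or.inl h2
  have hhyp : IsHyp (QfPlus d F) ↔ (true = true) := by simp [hH]
  have key := main_generic (p := p) (QfPlus d F) hND d hd hcard hΩ true hhyp m hm (by omega) r
    hrΩ i c hi hc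
  have hodd : Odd d ↔ (2 * d) % 4 = 2 := by
    rw [Nat.odd_iff]; omega
  refine Iff.trans key ?_
  simp only [if_true, Frz, hodd, Nat.not_even_iff_odd, true_iff]
  constructor
  · rintro (h | ⟨h1, h2, h | h⟩)
    · exact Or.inl h
    · exact Or.inr (Or.inl ⟨h1, h2, h⟩)
    · exact Or.inr (Or.inr ⟨h1, h2, h⟩)
  · rintro (h | ⟨h1, h2, h⟩ | ⟨h1, h2, h⟩)
    · exact Or.inl h
    · exact Or.inr ⟨h1, h2, Or.inl h⟩
    · exact Or.inr ⟨h1, h2, Or.inr h⟩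

end Cfsg.Agent.S5973
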