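import Cfsg.Statements.S5976
import Cfsg.Agent.Helper29.S5976ASMB

set_option autoImplicit false
open scoped MatrixGroups
open Cfsg

namespace Cfsg.Agent.S5976

open Cfsg.Agent.S5976P Cfsg.Agent.S5976P.ASM Polynomial

theorem result {F : Type*} [Field F] [Fintype F] {p : ℕ} [Fact p.Prime] [CharP F p] {q : ℕ} (hq : Fintype.card F = q)
    (hodd : Odd q) (d : ℕ) (hd : 2 ≤ d)
    (K : Subalgebra F (Matrix (Fin d ⊕ Fin d) (Fin d ⊕ Fin d) F)) (hK : Cfsg.Geo.IsFieldSubalgebra 2 K)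
    (hKf : Cfsg.Geo.IsAdjointClosedFor (Cfsg.sympForm d F) K) (hKns : ¬ Cfsg.Geo.IsSelfAdjointFor (Cfsg.sympForm d F) K)
    (r : ℕ) [Fact r.Prime]
    (hΩ : r ∣ (Cfsg.Geo.subalgebraNormalizer K).relIndex (Cfsg.spGL d F)) :
    (∀ x ∈ Cfsg.spGL d F, (∃ z : F, ((x ^ r : GL (Fin d ⊕ Fin d) F) : Matrix (Fin d ⊕ Fin d) (Fin d ⊕ Fin d) F) = z • (1 : Matrix (Fin d ⊕ Fin d) (Fin d ⊕ Fin d) F)) →
      (∀ z : F, (x : Matrix (Fin d ⊕ Fin d) (Fin d ⊕ Fin d) F) ≠ z • (1 : Matrix (Fin d ⊕ Fin d) (Fin d ⊕ Fin d) F)) →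
      ∃ g ∈ Cfsg.spGL d F, g⁻¹ * x * g ∈ Cfsg.Geo.subalgebraNormalizer K) ↔ r = 2 := by
  classical
  have hd1 : 1 ≤ d := by omega
  have hp : p.Prime := Fact.out
  have hr : r.Prime := Fact.out
  -- characteristic is odd
  have h2 : (2 : F) ≠ 0 := by
    intro h
    have hchar : ringChar F = 2 :=
      CharP.ringChar_of_prime_eq_zero Nat.prime_two (by exact_mod_cast h)
    have := FiniteField.even_card_iff_char_two.mp hchar
    rw [hq] at this
    rcases hodd with ⟨k, hk⟩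
    omega
  have hp2 : p ≠ 2 := by
    rintro rfl
    apply h2
    have := CharP.cast_eq_zero F 2
    exact_mod_cast this
  have hHyp : HypK d F K := ⟨hK, hKf, hKns⟩
  obtain ⟨t, n, hirr⟩ := exists_irreducible_quadratic (F := F) h2
  obtain ⟨ι, hι⟩ := exists_gen h2 d K hHyp t n hirr
  obtain ⟨e, he⟩ := exists_frame h2 d t n hirr ι hι.sq hι.adj
  obtain ⟨P, hP, hPι⟩ := exists_conj_of_frames d t n (iota0 d F t n) ι (iota0_sq d F t n) hι.sq
    _ e (stdFrame d F t n) he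
  have hPc : (P : Matrix (Fin d ⊕ Fin d) (Fin d ⊕ Fin d) F) *
      (t • (1 : Matrix (Fin d ⊕ Fin d) (Fin d ⊕ Fin d) F) - iota0 d F t n) =
      (t • (1 : Matrix (Fin d ⊕ Fin d) (Fin d ⊕ Fin d) F) - ι) *
        (P : Matrix (Fin d ⊕ Fin d) (Fin d ⊕ Fin d) F) := by
    rw [Matrix.mul_sub, Matrix.sub_mul, hPι, Matrix.mul_smul, Matrix.smul_mul, Matrix.mul_one,
      Matrix.one_mul]
  constructor
  · intro hall
    by_contra hr2
    exact forward hq h2 d hd1 K hHyp t n hirr ι hι e he r hr2 hΩ hall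
  · intro hr2
    subst hr2
    intro x hx hz hns
    obtain ⟨z, hz⟩ := hz
    have hzz := scalar_sq_eq_one d hd1 2 x hx z hz
    have hx2 : (x : Matrix (Fin d ⊕ Fin d) (Fin d ⊕ Fin d) F) *
        (x : Matrix (Fin d ⊕ Fin d) (Fin d ⊕ Fin d) F) =
        z • (1 : Matrix (Fin d ⊕ Fin d) (Fin d ⊕ Fin d) F) := by
      rw [← hz, pow_two, Units.val_mul]
    have hPinv : P⁻¹ ∈ Cfsg.spGL d F := (Cfsg.spGL d F).inv_mem hP
    rcases (mul_self_eq_one_iff.mp hzz) with hz1 | hz1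
    · -- z = 1
      rw [hz1, one_smul] at hx2
      obtain ⟨a, ha1, had, hdim⟩ := exists_dim_of_sq_eq_one h2 d x hx hx2 hns
      obtain ⟨y₀, hy₀, hy₀c, hy₀2, hy₀d⟩ := exists_involution_model h2 d t n a had.le
      have hyS : P * y₀ * P⁻¹ ∈ Cfsg.spGL d F :=
        (Cfsg.spGL d F).mul_mem ((Cfsg.spGL d F).mul_mem hP hy₀) hPinv
      have hyc := transport_comm P y₀ ι (iota0 d F t n) ι (iota0 d F t n) hPι hPι hy₀c
      have hyN : P * y₀ * P⁻¹ ∈ Cfsg.Geo.subalgebraNormalizer K :=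
        mem_normalizer_of_gen d K t n ι hι _ (Or.inl hyc)
      have hy2 := transport_sq P y₀ 1 (by rw [hy₀2, one_smul])
      rw [one_smul] at hy2
      have hyd : Module.finrank F (LinearMap.ker (Matrix.toLin'
          (((P * y₀ * P⁻¹ : GL (Fin d ⊕ Fin d) F) : Matrix (Fin d ⊕ Fin d) (Fin d ⊕ Fin d) F) - 1))) =
          2 * a := by
        have := finrank_ker_conj P⁻¹ y₀
        rw [inv_inv] at this
        rw [this, hy₀d]
      obtain ⟨g, hg, hgx⟩ := conj_of_sq_eq_one h2 d x (P * y₀ * P⁻¹) hx hyS hx2 hy2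
        (hdim.trans hyd.symm)
      exact ⟨g, hg, hgx ▸ hyN⟩
    · -- z = -1
      rw [hz1] at hx2
      obtain ⟨y₀, hy₀, hy₀c, hy₀2⟩ := exists_semilinear_model d t n hirr
      have hyS : P * y₀ * P⁻¹ ∈ Cfsg.spGL d F :=
        (Cfsg.spGL d F).mul_mem ((Cfsg.spGL d F).mul_mem hP hy₀) hPinv
      have hyc := transport_comm P y₀ ι (iota0 d F t n) _ _ hPι hPc hy₀c
      have hyN : P * y₀ * P⁻¹ ∈ Cfsg.Geo.subalgebraNormalizer K :=
        mem_normalizer_of_gen d K t n ι hι _ (Or.inr hyc)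
      have hy2 := transport_sq P y₀ (-1) hy₀2
      obtain ⟨g, hg, hgx⟩ := conj_of_sq_eq_neg_one h2 d x (P * y₀ * P⁻¹) hx hyS hx2 hy2
      exact ⟨g, hg, hgx ▸ hyN⟩

end Cfsg.Agent.S5976
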