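import Cfsg.Statements.S5979
import Cfsg.Agent.Helper21.S5949CYCMAIN
import Cfsg.Agent.Helper3.S5949NTS
import Cfsg.Agent.Helper21.S5958MODEL2
import Cfsg.Agent.Helper26.S5958NTGL
import Cfsg.Agent.Helper24.S5979DETINV
import Cfsg.Agent.Helper6.S5979LINKB
import Cfsg.Agent.Helper21.S5979LINKF
import Cfsg.Agent.Helper20.S5979MD
import Cfsg.Agent.Helper8.S5979MT
import Cfsg.Agent.Helper20.S5979NT
import Cfsg.Agent.Helper20.S5979TR1
import Cfsg.Agent.Helper24.S5979TR3
import Cfsg.Agent.Helper21.S5979TYPE1
import Cfsg.Agent.Helper6.S5979TYPE2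

set_option autoImplicit false
open scoped MatrixGroups Kronecker TensorProduct
open Cfsg

namespace Cfsg.Agent.S5979

open Cfsg.Agent.S5949P Cfsg.Agent.S5958P Cfsg.Agent.S5979P

section Helpers

variable {F : Type*} [Field F]

/-- conjugate endomorphisms have the same ranks -/
theorem rank_conj {V V' : Type*} [AddCommGroup V] [Module F V] [AddCommGroup V'] [Module F V']
    (Θ : V ≃ₗ[F] V') (f : Module.End F V) (T : Module.End F V')
    (h : ∀ v, Θ (f v) = T (Θ v)) (c : F) :
    Module.finrank F (LinearMap.range (f - c • (1 : Module.End F V))) =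
      Module.finrank F (LinearMap.range (T - c • (1 : Module.End F V'))) := by
  have hr : LinearMap.range (T - c • (1 : Module.End F V')) =
      (LinearMap.range (f - c • (1 : Module.End F V))).map (Θ : V →ₗ[F] V') := by
    ext w
    simp only [LinearMap.mem_range, Submodule.mem_map, LinearMap.sub_apply, LinearMap.smul_apply,
      Module.End.one_apply, LinearEquiv.coe_coe]
    constructor
    · rintro ⟨u, rfl⟩
      refine ⟨f (Θ.symm u) - c • Θ.symm u, ⟨Θ.symm u, rfl⟩, ?_⟩
      rw [map_sub, map_smul, h, Θ.apply_symm_apply]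
    · rintro ⟨_, ⟨v, rfl⟩, rfl⟩
      exact ⟨Θ v, by rw [map_sub, map_smul, h]⟩
  rw [hr, LinearEquiv.finrank_map_eq]

theorem pow_conj {V V' : Type*} [AddCommGroup V] [Module F V] [AddCommGroup V'] [Module F V']
    (Θ : V ≃ₗ[F] V') (f : Module.End F V) (T : Module.End F V')
    (h : ∀ v, Θ (f v) = T (Θ v)) (k : ℕ) (hf : f ^ k = 1) : T ^ k = 1 := by
  have hk : ∀ (k : ℕ) v, Θ ((f ^ k) v) = (T ^ k) (Θ v) := by
    intro k
    induction k with
    | zero => intro v; simp
    | succ k ih =>
      intro v
      rw [pow_succ, pow_succ, Module.End.mul_apply, Module.End.mul_apply, ih, h]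
  apply LinearMap.ext
  intro w
  have := hk k (Θ.symm w)
  rw [hf, Module.End.one_apply, Θ.apply_symm_apply] at this
  rw [Module.End.one_apply]
  exact this.symm

variable {U W : Type*} [AddCommGroup U] [Module F U] [AddCommGroup W] [Module F W]

theorem map_scalar_sub (α c : F) (g₂ : Module.End F W) :
    TensorProduct.map (α • (1 : Module.End F U)) g₂ - c • (1 : Module.End F (U ⊗[F] W)) =
      TensorProduct.map (1 : Module.End F U) (α • g₂ - c • (1 : Module.End F W)) := by
  apply TensorProduct.ext'
  intro u w
  simp only [LinearMap.sub_apply, TensorProduct.map_tmul, LinearMap.smul_apply,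
    Module.End.one_apply, TensorProduct.tmul_sub, TensorProduct.tmul_smul, TensorProduct.smul_tmul']

variable [FiniteDimensional F U] [FiniteDimensional F W]

/-- `g₁` is a scalar or all ranks of `g₁ ⊗ g₂ - c` are large -/
theorem scalar_or_big (g₁ : Module.End F U) (g₂ : Module.End F W) (hg₂ : Function.Injective g₂)
    (c : F) :
    (∃ α : F, g₁ = α • (1 : Module.End F U)) ∨
    Module.finrank F W ≤ Module.finrank F (LinearMap.range
      (TensorProduct.map g₁ g₂ - c • (1 : Module.End F (U ⊗[F] W)))) := by
  by_cases h : ∃ α : F, g₁ = α • (1 : Module.End F U)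
  · exact Or.inl h
  · exact Or.inr (rank_tensor_ge g₁ g₂ h hg₂ c)

/-- if `g₁` is a scalar all ranks of `g₁ ⊗ g₂ - c` are multiples of `dim U` -/
theorem scalar_rank (α : F) (g₂ : Module.End F W) (c : F) :
    Module.finrank F (LinearMap.range
      (TensorProduct.map (α • (1 : Module.End F U)) g₂ - c • (1 : Module.End F (U ⊗[F] W)))) =
    Module.finrank F U * Module.finrank F (LinearMap.range (α • g₂ - c • (1 : Module.End F W))) := by
  rw [map_scalar_sub, rank_tensor_one]

/-- a small rank not divisible by `dim U` is impossible -/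
theorem small_rank_false (g₁ : Module.End F U) (g₂ : Module.End F W)
    (hg₂ : Function.Injective g₂) (c : F) (ρ : ℕ)
    (hρ : Module.finrank F (LinearMap.range
      (TensorProduct.map g₁ g₂ - c • (1 : Module.End F (U ⊗[F] W)))) = ρ)
    (hlt : ρ < Module.finrank F W) (hdvd : ¬ Module.finrank F U ∣ ρ) : False := by
  rcases scalar_or_big g₁ g₂ hg₂ c with ⟨α, rfl⟩ | h
  · rw [scalar_rank] at hρ
    exact hdvd ⟨_, hρ.symm⟩
  · omega

end Helpers

/-- Elements of prime order of PSL_n(q) and the stabilizers of tensor decompositions with factors of different dimensions. Here `T = PSL_n(F)` for a field `F` with `q` elements and `n = a·b` with `2 ≤ a < b`; a tensor decomposition `F^n ≅ F^a ⊗ F^b` is given by a bijection `e` of index sets and a change of basis `P`, and `H` is the subgroup of matrices of determinant 1 in its stabilizer (the conjugate by `P` of the group of Kronecker products `g₁ ⊗ g₂`) — a subgroup of type GL_a(q) ⊗ GL_b(q) (maximality is not assumed); Ω is the set of cosets of `H` in `T`, so an element of `T` of prime order `r`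 (a matrix `x` of determinant 1 with `x^r` scalar, `x` not scalar) fixes a point of Ω exactly when some conjugate of `x` by a matrix of determinant 1 lies in `H`. Let `r` be a prime dividing the index of `H`. Then every element of `T` of order `r` fixes a point of Ω if and only if `r = 2`, `a = 2`, `q` is odd and `(q − 1)_2 ≤ (n)_2` (2-parts). -/
theorem result {F : Type*} [Field F] [Fintype F] {p : ℕ} [Fact p.Prime] [CharP F p] {q : ℕ} (hq : Fintype.card F = q)
    (n a b : ℕ) (hab : n = a * b) (ha : 2 ≤ a) (hlt : a < b) (e : Fin n ≃ Fin a × Fin b) (P : GL (Fin n) F)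
    (r : ℕ) [Fact r.Prime]
    (hΩ : r ∣ (Cfsg.Geo.tensorProductSubgroup a b e P).relIndex (Cfsg.Geo.specialLinear (Fin n) F)) :
    (∀ x ∈ Cfsg.Geo.specialLinear (Fin n) F, (∃ z : F, ((x ^ r : GL (Fin n) F) : Matrix (Fin n) (Fin n) F) = z • (1 : Matrix (Fin n) (Fin n) F)) →
      (∀ z : F, (x : Matrix (Fin n) (Fin n) F) ≠ z • (1 : Matrix (Fin n) (Fin n) F)) →
      ∃ g ∈ Cfsg.Geo.specialLinear (Fin n) F, g⁻¹ * x * g ∈ Cfsg.Geo.tensorProductSubgroup a b e P) ↔
    (r = 2 ∧ a = 2 ∧ Odd q ∧ padicValNat 2 (q - 1) ≤ padicValNat 2 n) := by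
  classical
  subst hq
  have hrpr : r.Prime := Fact.out
  have hb3 : 3 ≤ b := by omega
  have hn6 : 6 ≤ n := by rw [hab]; nlinarith
  have hnV : Module.finrank F (Fin n → F) = n := Module.finrank_fin_fun F
  have haU : Module.finrank F (Fin a → F) = a := Module.finrank_fin_fun F
  have hbW : Module.finrank F (Fin b → F) = b := Module.finrank_fin_fun F
  constructor
  · intro hall
    -- tensor data for an element of order `r`
    have key : ∀ x ∈ Cfsg.Geo.specialLinear (Fin n) F,
        (∃ z : F, ((x ^ r : GL (Fin n) F) : Matrix (Fin n) (Fin n) F) = z • (1 : Matrix (Fin n) (Fin n) F)) →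
        (∀ z : F, (x : Matrix (Fin n) (Fin n) F) ≠ z • (1 : Matrix (Fin n) (Fin n) F)) →
        ∃ (g₁ : Module.End F (Fin a → F)) (g₂ : Module.End F (Fin b → F)),
          Function.Bijective g₁ ∧ Function.Bijective g₂ ∧
          (∀ c : F, Module.finrank F (LinearMap.range (Matrix.toLin' (x : Matrix (Fin n) (Fin n) F) -
              c • (1 : Module.End F (Fin n → F)))) =
            Module.finrank F (LinearMap.range (TensorProduct.map g₁ g₂ -
              c • (1 : Module.End F ((Fin a → F) ⊗[F] (Fin b → F)))))) ∧
          (∀ k : ℕ, (Matrix.toLin' (x : Matrix (Fin n) (Fin n) F)) ^ k = 1 →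
            (TensorProduct.map g₁ g₂) ^ k = 1) := by
      intro x hx h1 h2
      obtain ⟨g, -, hmem⟩ := hall x hx h1 h2
      obtain ⟨g₁, g₂, Θ, hb1, hb2, hΘ⟩ := exists_tensor_of_mem n a b e P x g hmem
      exact ⟨g₁, g₂, hb1, hb2, fun c => rank_conj Θ _ _ hΘ c, fun k hk => pow_conj Θ _ _ hΘ k hk⟩
    -- an element with a small rank not divisible by `a` gives a contradiction
    have kill : ∀ x ∈ Cfsg.Geo.specialLinear (Fin n) F,
        (∃ z : F, ((x ^ r : GL (Fin n) F) : Matrix (Fin n) (Fin n) F) = z • (1 : Matrix (Fin n) (Fin n) F)) →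
        (∀ z : F, (x : Matrix (Fin n) (Fin n) F) ≠ z • (1 : Matrix (Fin n) (Fin n) F)) →
        ∀ (c : F) (ρ : ℕ), Module.finrank F (LinearMap.range
          (Matrix.toLin' (x : Matrix (Fin n) (Fin n) F) - c • (1 : Module.End F (Fin n → F)))) = ρ →
        ρ < b → ¬ a ∣ ρ → False := by
      intro x hx h1 h2 c ρ hρ hlt hdvd
      obtain ⟨g₁, g₂, -, hb2, hrk, -⟩ := key x hx h1 h2
      rw [hrk c] at hρ
      exact small_rank_false g₁ g₂ hb2.injective c ρ hρ (by rw [hbW]; exact hlt)
        (by rw [haU]; exact hdvd)
    have hnot1 : ¬ a ∣ 1 := fun hdvd => by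
      have := Nat.le_of_dvd one_pos hdvd
      omega
    by_cases hrp : r = p
    · exfalso
      obtain ⟨x, hx, hxp, hxns, hrk⟩ := model_transvection (F := F) (p := p) n (by omega)
      exact kill x hx ⟨1, by rw [hrp]; exact hxp⟩ hxns 1 1 hrk (by omega) hnot1
    by_cases hr2 : r = 2
    · have hp2 : p ≠ 2 := by rw [← hr2]; exact fun h => hrp h.symm
      have hodd : Odd (Fintype.card F) := odd_card_of_char (p := p) hp2
      have h2F : (2 : F) ≠ 0 := by
        intro h0
        have h2 : ((2 : ℕ) : F) = 0 := by exact_mod_cast h0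
        have hdvd : p ∣ 2 := (CharP.cast_eq_zero_iff F p 2).1 h2
        exact hp2 ((Nat.prime_dvd_prime_iff_eq (Fact.out : p.Prime) Nat.prime_two).1 hdvd)
      refine ⟨hr2, ?_, hodd, ?_⟩
      · by_contra ha2
        have ha3 : 3 ≤ a := by omega
        obtain ⟨x, hx, hx2, hxns, hrk⟩ := model_neg_two h2F n (by omega)
        refine kill x hx ⟨1, by rw [hr2]; exact hx2⟩ hxns 1 2 hrk (by omega) ?_
        intro hdvd
        have := Nat.le_of_dvd two_pos hdvd
        omega
      · by_contra hv
        push Not at hv
        obtain ⟨μ, hμ⟩ := exists_root_neg_one hodd n (by omega) hv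
        obtain ⟨x, hx, hx2, hxns, hrk⟩ := model_pseudo h2F n (by omega) μ hμ
        exact kill x hx ⟨μ ^ 2, by rw [hr2]; exact hx2⟩ hxns μ 1 hrk (by omega) hnot1
    · exfalso
      by_cases hc1 : r ∣ Fintype.card F - 1
      · -- `r` divides `q - 1`
        obtain ⟨ω, hω1, hωr, hω2⟩ := exists_root_of_unity (F := F) r hc1
        obtain ⟨x, hx, hxr, hxns, hrk1, hrkω⟩ := model_omega n (by omega) r (Fact.out : r.Prime).ne_zero ω hωr hω1 (hω2 hr2)
        obtain ⟨g₁, g₂, -, hb2, hrk, -⟩ := key x hx ⟨1, hxr⟩ hxns
        rcases scalar_or_big g₁ g₂ hb2.injective 1 with ⟨α, rfl⟩ | hbig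
        · have h1 := hrk ω
          rw [hrkω, scalar_rank, haU] at h1
          have hd1 : a ∣ n - 1 := ⟨_, h1⟩
          have hd2 : a ∣ n := ⟨b, hab⟩
          have hd3 := Nat.dvd_sub hd2 hd1
          rw [show n - (n - 1) = 1 by omega] at hd3
          exact hnot1 hd3
        · rw [← hrk 1, hrk1, hbW] at hbig
          omega
      · -- the order `c` of `q` modulo `r` is at least `2`
        have hcpos : 0 < orderOf ((Fintype.card F : ℕ) : ZMod r) := orderOf_card_pos (p := p) r hrp
        obtain ⟨c, hc⟩ : ∃ c : ℕ, c = orderOf ((Fintype.card F : ℕ) : ZMod r) := ⟨_, rfl⟩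
        have hc2 : 2 ≤ c := by
          have : c ≠ 1 := fun h => hc1 ((orderOf_card_eq_one_iff (F := F) r).1 (by rw [← hc]; exact h))
          omega
        have hcn : c ≤ n := by
          rw [hc]
          apply order_le_of_dvd_card_GL (p := p) r hrp n
          exact dvd_trans hΩ (dvd_trans (Subgroup.relIndex_dvd_card _ _)
            (Subgroup.card_subgroup_dvd_card _))
        obtain ⟨xs, g, -, -, -, hx1, hxns, hker, -⟩ :=
          model_single (p := p) r hrp n 1 (hc ▸ hc2) le_rfl (by rw [mul_one, ← hc]; exact hcn)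
        rw [mul_one, ← hc] at hker
        obtain ⟨x, hxdef⟩ : ∃ x : GL (Fin n) F, x = Matrix.SpecialLinearGroup.toGL xs := ⟨_, rfl⟩
        have hxcoe : (x : Matrix (Fin n) (Fin n) F) = (xs : Matrix (Fin n) (Fin n) F) := by
          rw [hxdef]; rfl
        have hx : x ∈ Cfsg.Geo.specialLinear (Fin n) F := by
          show Matrix.GeneralLinearGroup.det x = 1
          apply Units.ext
          rw [Matrix.GeneralLinearGroup.val_det_apply, hxcoe]
          exact xs.2
        have hxr : ((x ^ r : GL (Fin n) F) : Matrix (Fin n) (Fin n) F) =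
            (1 : F) • (1 : Matrix (Fin n) (Fin n) F) := by
          rw [Units.val_pow_eq_pow_val, hxcoe, hx1, one_smul]
        obtain ⟨g₁, g₂, hb1, hb2, hrk, hpw⟩ := key x hx ⟨1, hxr⟩ (by rw [hxcoe]; exact hxns)
        have hfr : (Matrix.toLin' (x : Matrix (Fin n) (Fin n) F)) ^ r = 1 := by
          rw [← Matrix.toLin'_pow, hxcoe, hx1, Matrix.toLin'_one]; rfl
        have hTr := hpw r hfr
        have hrkf : Module.finrank F (LinearMap.range (Matrix.toLin' (x : Matrix (Fin n) (Fin n) F) -
            (1 : F) • (1 : Module.End F (Fin n → F)))) = c := by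
          have h1 := LinearMap.finrank_range_add_finrank_ker
            (Matrix.toLin' (x : Matrix (Fin n) (Fin n) F) - (1 : F) • (1 : Module.End F (Fin n → F)))
          rw [one_smul, hxcoe, hker, hnV] at h1
          rw [one_smul, hxcoe]
          omega
        have hnd := nt_coprime (F := F) r hc1
        have hinjpow : ∀ {M : Type _} [AddCommGroup M] [Module F M] (h : Module.End F M),
            Function.Injective h → ∀ k : ℕ, Function.Injective (h ^ k) := by
          intro M _ _ h hh k
          induction k with
          | zero => exact fun u v huv => huv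
          | succ k ih =>
            rw [pow_succ]
            exact fun u v huv => hh (ih huv)
        -- `g₁` is a scalar
        have hsc : ∃ α : F, g₁ = α • (1 : Module.End F (Fin a → F)) := by
          by_cases hcb : c < b
          · rcases scalar_or_big g₁ g₂ hb2.injective 1 with h | h
            · exact h
            · rw [← hrk 1, hrkf, hbW] at h
              omega
          · push Not at hcb
            have hTr' := hTr
            rw [TensorProduct.map_pow] at hTr'
            rcases scalar_or_big (g₁ ^ r) (g₂ ^ r) (hinjpow g₂ hb2.injective r) 1 with ⟨ν, hν⟩ | h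
            · have hν0 : ν ≠ 0 := by
                rintro rfl
                rw [zero_smul] at hν
                have hinj := hinjpow g₁ hb1.injective r
                rw [hν] at hinj
                have h01 : (fun _ : Fin a => (1 : F)) = 0 := hinj (by simp)
                have := congrFun h01 ⟨0, by omega⟩
                exact one_ne_zero this
              obtain ⟨μ₁, hμ₁⟩ := hnd.1 ν
              have hμ₁0 : μ₁ ≠ 0 := by
                rintro rfl
                rw [zero_pow hrpr.ne_zero] at hμ₁
                exact hν0 hμ₁.symm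
              have hh₁ : (μ₁⁻¹ • g₁) ^ r = 1 := by
                rw [_root_.smul_pow, hν, smul_smul, inv_pow, hμ₁, inv_mul_cancel₀ hν0, one_smul]
              have hdvd := (cyc_main (p := p) r hrp (μ₁⁻¹ • g₁) hh₁).1
              rw [← hc, haU] at hdvd
              have hzero : a - Module.finrank F (LinearMap.ker (μ₁⁻¹ • g₁ - 1)) = 0 :=
                Nat.eq_zero_of_dvd_of_lt hdvd (by omega)
              have hle := Submodule.finrank_le (LinearMap.ker (μ₁⁻¹ • g₁ - 1))
              rw [haU] at hle
              have htop : LinearMap.ker (μ₁⁻¹ • g₁ - 1) = ⊤ := by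
                apply Submodule.eq_top_of_finrank_eq
                rw [haU]; omega
              have h1 : μ₁⁻¹ • g₁ - 1 = 0 := LinearMap.ker_eq_top.1 htop
              refine ⟨μ₁, ?_⟩
              have h2 : μ₁⁻¹ • g₁ = 1 := sub_eq_zero.1 h1
              rw [← h2, smul_smul, mul_inv_cancel₀ hμ₁0, one_smul]
            · have hzero : TensorProduct.map (g₁ ^ r) (g₂ ^ r) -
                  (1 : F) • (1 : Module.End F ((Fin a → F) ⊗[F] (Fin b → F))) = 0 := by
                rw [hTr', one_smul]
                exact sub_self (1 : Module.End F ((Fin a → F) ⊗[F] (Fin b → F)))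
              rw [hzero, LinearMap.range_zero, finrank_bot, hbW] at h
              omega
        obtain ⟨α, rfl⟩ := hsc
        -- the rank of `α g₂ - 1`
        have h1 := hrk 1
        rw [hrkf, scalar_rank, haU] at h1
        -- `(α g₂) ^ r = 1`
        have hBr : (α • g₂) ^ r = 1 := by
          have h2 : TensorProduct.map ((α ^ r) • (1 : Module.End F (Fin a → F))) (g₂ ^ r) = 1 := by
            rw [← hTr, TensorProduct.map_pow, _root_.smul_pow, one_pow]
          have h3 := scalar_rank (U := Fin a → F) (α ^ r) (g₂ ^ r) 1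
          have hzero : TensorProduct.map ((α ^ r) • (1 : Module.End F (Fin a → F))) (g₂ ^ r) -
              (1 : F) • (1 : Module.End F ((Fin a → F) ⊗[F] (Fin b → F))) = 0 := by
            rw [h2, one_smul]
            exact sub_self (1 : Module.End F ((Fin a → F) ⊗[F] (Fin b → F)))
          rw [hzero, LinearMap.range_zero, finrank_bot, haU] at h3
          have h4 : Module.finrank F (LinearMap.range
              (α ^ r • g₂ ^ r - (1 : F) • (1 : Module.End F (Fin b → F)))) = 0 := by
            rcases Nat.eq_zero_or_pos (Module.finrank F (LinearMap.range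
              (α ^ r • g₂ ^ r - (1 : F) • (1 : Module.End F (Fin b → F))))) with h | h
            · exact h
            · have : 0 < a * Module.finrank F (LinearMap.range
                  (α ^ r • g₂ ^ r - (1 : F) • (1 : Module.End F (Fin b → F)))) :=
                Nat.mul_pos (by omega) h
              omega
          have h5 : LinearMap.range (α ^ r • g₂ ^ r - (1 : F) • (1 : Module.End F (Fin b → F))) = ⊥ :=
            Submodule.finrank_eq_zero.1 h4
          have h6 := LinearMap.range_eq_bot.1 h5
          rw [one_smul, sub_eq_zero] at h6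
          rw [_root_.smul_pow, h6]
        have hdvd := (cyc_main (p := p) r hrp (α • g₂) hBr).1
        rw [← hc, hbW] at hdvd
        have h7 := LinearMap.finrank_range_add_finrank_ker (α • g₂ - (1 : F) • (1 : Module.End F (Fin b → F)))
        rw [one_smul, hbW] at h7
        rw [one_smul] at h1
        have h8 : c ∣ Module.finrank F (LinearMap.range (α • g₂ - 1)) := by
          have : Module.finrank F (LinearMap.range (α • g₂ - 1)) =
              b - Module.finrank F (LinearMap.ker (α • g₂ - 1)) := by omega
          rw [this]; exact hdvd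
        obtain ⟨s, hs⟩ := h8
        rw [hs] at h1
        have h9 : a * s = 1 := by
          have : c * (a * s) = c * 1 := by rw [mul_one]; nlinarith
          exact Nat.eq_of_mul_eq_mul_left (by omega) this
        have := Nat.eq_one_of_mul_eq_one_right h9
        omega
  · -- the arithmetic condition ⇒ every element of order `2` is conjugate into the subgroup
    rintro ⟨hr2, ha2, hodd, hv⟩ x hx ⟨z, hxz⟩ hxns
    subst hr2
    subst ha2
    have h2F : (2 : F) ≠ 0 := by
      intro h0
      have h2 : ringChar F = 2 := by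
        have hch : CharP F 2 := CharTwo.of_one_ne_zero_of_two_eq_zero one_ne_zero h0
        exact ringChar.eq F 2
      have := FiniteField.even_card_iff_char_two.1 h2
      rcases hodd with ⟨k, hk⟩
      omega
    have hb1 : 1 ≤ b := by omega
    obtain ⟨f, hfdef⟩ : ∃ f : Module.End F (Fin n → F),
      f = Matrix.toLin' (x : Matrix (Fin n) (Fin n) F) := ⟨_, rfl⟩
    have hf2 : f ^ 2 = z • (1 : Module.End F (Fin n → F)) := by
      rw [hfdef, ← Matrix.toLin'_pow, ← Units.val_pow_eq_pow_val, hxz, map_smul, Matrix.toLin'_one]; rfl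
    have hdetx : (x : Matrix (Fin n) (Fin n) F).det = 1 := by
      have h1 : Matrix.GeneralLinearGroup.det x = 1 := hx
      have h2 := congrArg Units.val h1
      rwa [Matrix.GeneralLinearGroup.val_det_apply] at h2
    have hdetf : LinearMap.det f = 1 := by rw [hfdef, LinearMap.det_toLin']; exact hdetx
    have hV2 : Module.finrank F (Fin n → F) = 2 * b := by rw [hnV, hab]
    have hz0 : z ≠ 0 := by
      intro h0
      have hdd := congrArg LinearMap.det hf2
      rw [map_pow, hdetf, one_pow, h0, zero_smul, LinearMap.det_zero, hnV,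
        zero_pow (by omega : n ≠ 0)] at hdd
      exact one_ne_zero hdd
    suffices h : ∃ (β : Module.Basis (Fin 2 × Fin b) F (Fin n → F)) (A : GL (Fin 2) F) (B : GL (Fin b) F),
        LinearMap.toMatrix β β f = (A : Matrix (Fin 2) (Fin 2) F) ⊗ₖ (B : Matrix (Fin b) (Fin b) F) ∧
        ∀ δ : F, δ ≠ 0 → ∃ C : Module.End F (Fin n → F), C * f = f * C ∧ LinearMap.det C = δ by
      obtain ⟨β, A, B, hβ, hcent⟩ := h
      rw [hfdef] at hβ hcent
      exact mem_tensor_of_basis n 2 b e P x β A B hβ hcent
    by_cases hsq : ∃ d : F, d ^ 2 = z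
    · obtain ⟨μ, hμ⟩ := hsq
      have hμ0 : μ ≠ 0 := by
        rintro rfl
        rw [zero_pow two_ne_zero] at hμ
        exact hz0 hμ.symm
      rw [← hμ] at hf2
      have hdet := det_involution h2F f μ hμ0 hf2
      rw [hdetf, hnV] at hdet
      have hev : Even (Module.finrank F (LinearMap.ker (f + μ • (1 : Module.End F (Fin n → F))))) := by
        by_contra hne
        rw [Nat.not_even_iff_odd] at hne
        rw [hne.neg_one_pow, mul_neg, mul_one] at hdet
        have : μ ^ n = -1 := neg_eq_iff_eq_neg.mp hdet.symm
        exact no_root_neg_one hodd n (by omega) hv μ this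
      exact type_one h2F f μ hμ0 hf2 b hb1 hV2 hev
    · push Not at hsq
      exact type_two h2F f z hsq hf2 b hb1 hV2

end Cfsg.Agent.S5979
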