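import Cfsg.Statements.S5980
import Cfsg.Agent.Helper21.S5980TENS
import Cfsg.Agent.Helper21.S5980KRON
import Cfsg.Agent.Helper20.S5980SPM
import Cfsg.Agent.Helper20.S5980SPME
import Cfsg.Agent.Helper20.S5980CARDSP
import Cfsg.Agent.Helper25.S5980SPDUAL
import Cfsg.Agent.Helper26.S5980SQZ
import Cfsg.Agent.Helper21.S5980LINKFI
import Cfsg.Agent.Helper21.S5980GFORM
import Cfsg.Agent.Helper21.S5980LINKSP
import Cfsg.Agent.Helper21.S5949Basic
import Cfsg.Agent.Helper3.S5949NTS
import Cfsg.Agent.Helper20.S5979NT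
import Cfsg.Agent.Helper20.S5979TR1
import Cfsg.Agent.Helper24.S5979TR3

set_option autoImplicit false
open scoped MatrixGroups Kronecker TensorProduct Matrix
open Cfsg Polynomial

namespace Cfsg.Agent.S5980

open Cfsg.Agent.S5949P Cfsg.Agent.S5979P Cfsg.Agent.S5980P
open Cfsg.Agent.S5961P (cc sB sB_apply sB_alt sB_nondeg)

section Helpers

variable {F : Type*} [Field F]

/-- conjugate endomorphisms have the same polynomial ranks -/
theorem rank_aeval_conj {V V' : Type*} [AddCommGroup V] [Module F V] [AddCommGroup V'] [Module F V']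
    (Θ : V ≃ₗ[F] V') (f : Module.End F V) (T : Module.End F V')
    (h : ∀ v, Θ (f v) = T (Θ v)) (P : F[X]) :
    Module.finrank F (LinearMap.range (aeval f P)) =
      Module.finrank F (LinearMap.range (aeval T P)) := by
  have hi : ∀ v, Θ (aeval f P v) = aeval T P (Θ v) :=
    fun v => Basic.aeval_intertwine (Θ : V →ₗ[F] V') f T h P v
  have hr : LinearMap.range (aeval T P) = (LinearMap.range (aeval f P)).map (Θ : V →ₗ[F] V') := by
    ext w
    simp only [LinearMap.mem_range, Submodule.mem_map, LinearEquiv.coe_coe]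
    constructor
    · rintro ⟨u, rfl⟩
      refine ⟨aeval f P (Θ.symm u), ⟨Θ.symm u, rfl⟩, ?_⟩
      rw [hi, Θ.apply_symm_apply]
    · rintro ⟨_, ⟨v, rfl⟩, rfl⟩
      exact ⟨Θ v, (hi v).symm⟩
  rw [hr, LinearEquiv.finrank_map_eq]

theorem aeval_sub_smul {V : Type*} [AddCommGroup V] [Module F V] (f : Module.End F V) (c : F) :
    aeval f (X - C c) = f - c • (1 : Module.End F V) := by
  rw [map_sub, aeval_X, aeval_C, Algebra.algebraMap_eq_smul_one]

theorem pow_conj {V V' : Type*} [AddCommGroup V] [Module F V] [AddCommGroup V'] [Module F V']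
    (Θ : V ≃ₗ[F] V') (f : Module.End F V) (T : Module.End F V')
    (h : ∀ v, Θ (f v) = T (Θ v)) (k : ℕ) (hf : f ^ k = 1) : T ^ k = 1 := by
  apply LinearMap.ext
  intro w
  have := Basic.pow_intertwine (Θ : V →ₗ[F] V') f T h k (Θ.symm w)
  rw [hf, Module.End.one_apply] at this
  simp only [LinearEquiv.coe_coe, Θ.apply_symm_apply] at this
  rw [Module.End.one_apply]
  exact this.symm

variable {U W : Type*} [AddCommGroup U] [Module F U] [AddCommGroup W] [Module F W]

theorem map_scalar_sub (α c : F) (g₂ : Module.End F W) :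
    TensorProduct.map (α • (1 : Module.End F U)) g₂ - c • (1 : Module.End F (U ⊗[F] W)) =
      TensorProduct.map (1 : Module.End F U) (α • g₂ - c • (1 : Module.End F W)) := by
  apply TensorProduct.ext'
  intro u w
  simp only [LinearMap.sub_apply, TensorProduct.map_tmul, LinearMap.smul_apply,
    Module.End.one_apply, TensorProduct.tmul_sub, TensorProduct.tmul_smul, TensorProduct.smul_tmul']

variable [FiniteDimensional F U] [FiniteDimensional F W]

/-- `g₁` is a scalar or all ranks of `g₁ ⊗ g₂ - c` are large -/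
theorem scalar_or_big (g₁ : Module.End F U) (g₂ : Module.End F W) (hg₂ : Function.Injective g₂)
    (c : F) :
    (∃ α : F, g₁ = α • (1 : Module.End F U)) ∨
    Module.finrank F W ≤ Module.finrank F (LinearMap.range
      (TensorProduct.map g₁ g₂ - c • (1 : Module.End F (U ⊗[F] W)))) := by
  by_cases h : ∃ α : F, g₁ = α • (1 : Module.End F U)
  · exact Or.inl h
  · exact Or.inr (rank_tensor_ge g₁ g₂ h hg₂ c)

/-- if `g₁` is a scalar all ranks of `g₁ ⊗ g₂ - c` are multiples of `dim U` -/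
theorem scalar_rank (α : F) (g₂ : Module.End F W) (c : F) :
    Module.finrank F (LinearMap.range
      (TensorProduct.map (α • (1 : Module.End F U)) g₂ - c • (1 : Module.End F (U ⊗[F] W)))) =
    Module.finrank F U * Module.finrank F (LinearMap.range (α • g₂ - c • (1 : Module.End F W))) := by
  rw [map_scalar_sub, rank_tensor_one]

/-- a small rank not divisible by `dim U` is impossible -/
theorem small_rank_false (g₁ : Module.End F U) (g₂ : Module.End F W)
    (hg₂ : Function.Injective g₂) (c : F) (ρ : ℕ)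
    (hρ : Module.finrank F (LinearMap.range
      (TensorProduct.map g₁ g₂ - c • (1 : Module.End F (U ⊗[F] W)))) = ρ)
    (hlt : ρ < Module.finrank F W) (hdvd : ¬ Module.finrank F U ∣ ρ) : False := by
  rcases scalar_or_big g₁ g₂ hg₂ c with ⟨α, rfl⟩ | h
  · rw [scalar_rank] at hρ
    exact hdvd ⟨_, hρ.symm⟩
  · omega

end Helpers

/-- Elements of prime order of PSp_n(q), q odd, and the stabilizers of tensor decompositions Sp_a(q) ⊗ O_b(q). Here `T = PSp_{2d}(F)` for a field `F` with `q` elements, `q` odd, `d ≥ 2`, realised through the matrices preserving the standard alternating form `f`; `2d = a·b` with `a` even, `b ≥ 3`, and the bijection `e` and change of basis `P` exhibit `f` as a non-zero scalar multiple of the tensor product of a non-degenerate alternating form `f₁` on `F^a` and a non-degenerate symmetric bilinear form `f₂` on `F^b`; `H` is the subgroup of `T` stabilizing this tensor decomposition (the elements of `T` in the conjugate by `P` of the group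 of Kronecker products) — a subgroup of type Sp_a(q) ⊗ O^ε_b(q) (maximality is not assumed). Ω is the set of cosets of `H` in `T`, so an element of `T` of prime order `r` (`x ∈ T` with `x^r` scalar, `x` not scalar) fixes a point of Ω exactly when some `T`-conjugate of `x` lies in `H`. Let `r` be a prime dividing the index of `H`. Then every element of `T` of order `r` fixes a point of Ω if and only if `r = 2` and `a = 2`. -/
theorem result {F : Type*} [Field F] [Fintype F] {p : ℕ} [Fact p.Prime] [CharP F p] {q : ℕ} (hq : Fintype.card F = q)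
    (hodd : Odd q) (d : ℕ) (hd : 2 ≤ d) (a b : ℕ) (hab : 2 * d = a * b) (ha : Even a) (ha2 : 2 ≤ a) (hb : 3 ≤ b)
    (e : (Fin d ⊕ Fin d) ≃ Fin a × Fin b) (P : GL (Fin d ⊕ Fin d) F)
    (f₁ : (Fin a → F) → (Fin a → F) → F) (f₂ : (Fin b → F) → (Fin b → F) → F)
    (hf₁ : Cfsg.Geo.IsSymplecticForm f₁) (hf₂ : Cfsg.Geo.IsSymmetricForm f₂)
    (hS : Cfsg.Geo.IsTensorFormStructure id (Cfsg.sympForm d F) f₁ f₂ e P)
    (r : ℕ) [Fact r.Prime]
    (hΩ : r ∣ (Cfsg.Geo.tensorProductSubgroup a b e P).relIndex (Cfsg.spGL d F)) :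
    (∀ x ∈ Cfsg.spGL d F, (∃ z : F, ((x ^ r : GL (Fin d ⊕ Fin d) F) : Matrix (Fin d ⊕ Fin d) (Fin d ⊕ Fin d) F) = z • (1 : Matrix (Fin d ⊕ Fin d) (Fin d ⊕ Fin d) F)) →
      (∀ z : F, (x : Matrix (Fin d ⊕ Fin d) (Fin d ⊕ Fin d) F) ≠ z • (1 : Matrix (Fin d ⊕ Fin d) (Fin d ⊕ Fin d) F)) →
      ∃ g ∈ Cfsg.spGL d F, g⁻¹ * x * g ∈ Cfsg.Geo.tensorProductSubgroup a b e P) ↔ (r = 2 ∧ a = 2) := by
  classical
  subst hq
  have hrpr : r.Prime := Fact.out
  have hpp : p.Prime := Fact.out
  -- `2 ≠ 0` in `F`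
  have hp2 : p ≠ 2 := by
    rintro rfl
    obtain ⟨k, -, hk⟩ := FiniteField.card F 2
    rw [hk] at hodd
    exact (Nat.not_even_iff_odd.2 hodd) ((Nat.even_pow' k.ne_zero).2 even_two)
  have h2F : (2 : F) ≠ 0 := by
    intro h0
    have h2 : ((2 : ℕ) : F) = 0 := by exact_mod_cast h0
    have hdvd : p ∣ 2 := (CharP.cast_eq_zero_iff F p 2).1 h2
    exact hp2 ((Nat.prime_dvd_prime_iff_eq hpp Nat.prime_two).1 hdvd)
  have hnV : Module.finrank F (Fin d ⊕ Fin d → F) = 2 * d := by
    rw [Module.finrank_fintype_fun_eq_card, Fintype.card_sum, Fintype.card_fin]; omega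
  have haU : Module.finrank F (Fin a → F) = a := Module.finrank_fin_fun F
  have hbW : Module.finrank F (Fin b → F) = b := Module.finrank_fin_fun F
  constructor
  · intro hall
    -- tensor data for an element of order `r`
    have key : ∀ x ∈ Cfsg.spGL d F,
        (∃ z : F, ((x ^ r : GL (Fin d ⊕ Fin d) F) : Matrix (Fin d ⊕ Fin d) (Fin d ⊕ Fin d) F) =
          z • (1 : Matrix (Fin d ⊕ Fin d) (Fin d ⊕ Fin d) F)) →
        (∀ z : F, (x : Matrix (Fin d ⊕ Fin d) (Fin d ⊕ Fin d) F) ≠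
          z • (1 : Matrix (Fin d ⊕ Fin d) (Fin d ⊕ Fin d) F)) →
        ∃ (g₁ : Module.End F (Fin a → F)) (g₂ : Module.End F (Fin b → F))
          (Θ : (Fin d ⊕ Fin d → F) ≃ₗ[F] (Fin a → F) ⊗[F] (Fin b → F)),
          Function.Bijective g₁ ∧ Function.Bijective g₂ ∧
          ∀ v, Θ (Matrix.toLin' (x : Matrix (Fin d ⊕ Fin d) (Fin d ⊕ Fin d) F) v) =
            TensorProduct.map g₁ g₂ (Θ v) := by
      intro x hx h1 h2
      obtain ⟨g, -, hmem⟩ := hall x hx h1 h2
      exact exists_tensor_of_mem' a b e P x g hmem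
    -- an element with a small rank not divisible by `a` gives a contradiction
    have kill : ∀ x ∈ Cfsg.spGL d F,
        (∃ z : F, ((x ^ r : GL (Fin d ⊕ Fin d) F) : Matrix (Fin d ⊕ Fin d) (Fin d ⊕ Fin d) F) =
          z • (1 : Matrix (Fin d ⊕ Fin d) (Fin d ⊕ Fin d) F)) →
        (∀ z : F, (x : Matrix (Fin d ⊕ Fin d) (Fin d ⊕ Fin d) F) ≠
          z • (1 : Matrix (Fin d ⊕ Fin d) (Fin d ⊕ Fin d) F)) →
        ∀ (c : F) (ρ : ℕ), Module.finrank F (LinearMap.range
          (Matrix.toLin' (x : Matrix (Fin d ⊕ Fin d) (Fin d ⊕ Fin d) F) -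
            c • (1 : Module.End F (Fin d ⊕ Fin d → F)))) = ρ →
        ρ < b → ¬ a ∣ ρ → False := by
      intro x hx h1 h2 c ρ hρ hlt hdvd
      obtain ⟨g₁, g₂, Θ, -, hb2, hΘ⟩ := key x hx h1 h2
      rw [← aeval_sub_smul, rank_aeval_conj Θ _ _ hΘ, aeval_sub_smul] at hρ
      exact small_rank_false g₁ g₂ hb2.injective c ρ hρ (by rw [hbW]; exact hlt)
        (by rw [haU]; exact hdvd)
    have hnot1 : ¬ a ∣ 1 := fun hdvd => by
      have := Nat.le_of_dvd one_pos hdvd
      omega
    by_cases hrp : r = p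
    · exfalso
      obtain ⟨x, hx, hxp, hxns, hrk⟩ := model_sp_transvection (F := F) (p := p) d (by omega)
      exact kill x hx ⟨1, by rw [hrp]; exact hxp⟩ hxns 1 1 hrk (by omega) hnot1
    by_cases hr2 : r = 2
    · refine ⟨hr2, ?_⟩
      by_contra ha2'
      have ha4 : 4 ≤ a := by
        rcases ha with ⟨k, hk⟩
        omega
      obtain ⟨x, hx, hx2, hxns, hrk⟩ := model_sp_neg h2F d hd
      refine kill x hx ⟨1, by rw [hr2]; exact hx2⟩ hxns 1 2 hrk (by omega) ?_
      intro hdvd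
      have := Nat.le_of_dvd two_pos hdvd
      omega
    · exfalso
      by_cases hc1 : r ∣ Fintype.card F - 1
      · -- `r` divides `q - 1`
        obtain ⟨ω, hω1, hωr, hω2⟩ := exists_root_of_unity (F := F) r hc1
        obtain ⟨x, hx, hxr, hxns, hrk1, hrkω⟩ :=
          model_sp_omega d hd r hrpr.ne_zero ω hωr hω1 (hω2 hr2)
        obtain ⟨g₁, g₂, Θ, -, hb2, hΘ⟩ := key x hx ⟨1, hxr⟩ hxns
        rw [← aeval_sub_smul, rank_aeval_conj Θ _ _ hΘ, aeval_sub_smul] at hrk1 hrkω
        rcases scalar_or_big g₁ g₂ hb2.injective 1 with ⟨α, rfl⟩ | hbig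
        · rw [scalar_rank, haU] at hrkω
          have hd1 : a ∣ 2 * d - 1 := ⟨_, hrkω.symm⟩
          have hd2 : a ∣ 2 * d := ⟨b, hab⟩
          have hd3 := Nat.dvd_sub hd2 hd1
          rw [show 2 * d - (2 * d - 1) = 1 by omega] at hd3
          exact hnot1 hd3
        · rw [hrk1, hbW] at hbig
          omega
      · -- the order `c` of `q` modulo `r` is at least `2`
        have hcpos : 0 < orderOf ((Fintype.card F : ℕ) : ZMod r) := orderOf_card_pos (p := p) r hrp
        have hc2 : 2 ≤ orderOf ((Fintype.card F : ℕ) : ZMod r) := by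
          have : orderOf ((Fintype.card F : ℕ) : ZMod r) ≠ 1 :=
            fun h => hc1 ((orderOf_card_eq_one_iff (F := F) r).1 h)
          omega
        have hcc2d : cc F r ≤ 2 * d :=
          cc_le_of_dvd_card_spGL (p := p) r hr2 hrp d
            (dvd_trans hΩ (Subgroup.relIndex_dvd_card _ _))
        obtain ⟨x, hx, hxr, hxns, hrk⟩ := model_sp_block (p := p) r hr2 hrp d hcc2d
        obtain ⟨g₁, g₂, Θ, hb1, hb2, hΘ⟩ := key x hx ⟨1, hxr⟩ hxns
        have hfr : (Matrix.toLin' (x : Matrix (Fin d ⊕ Fin d) (Fin d ⊕ Fin d) F)) ^ r = 1 := by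
          rw [← Matrix.toLin'_pow, ← Units.val_pow_eq_pow_val, hxr, one_smul, Matrix.toLin'_one]; rfl
        have hTr := pow_conj Θ _ _ hΘ r hfr
        -- the inverse of `x`
        have hinv : Matrix.toLin' ((x⁻¹ : GL (Fin d ⊕ Fin d) F) :
            Matrix (Fin d ⊕ Fin d) (Fin d ⊕ Fin d) F) =
            (Matrix.toLin' (x : Matrix (Fin d ⊕ Fin d) (Fin d ⊕ Fin d) F)) ^ (r - 1) := by
          have hx1 : x ^ r = 1 := by
            apply Units.ext
            rw [hxr, one_smul]; rfl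
          have hx2 : x⁻¹ = x ^ (r - 1) := by
            rw [inv_eq_iff_mul_eq_one, ← pow_succ', Nat.sub_add_cancel hrpr.one_le, hx1]
          rw [hx2, Units.val_pow_eq_pow_val, Matrix.toLin'_pow]
        refine tensor_false (p := p) h2F r hr2 hrp hc1 hc2 (by rw [haU]; exact ha)
          (by rw [haU]; exact ha2) (by rw [hbW]; exact hb) g₁ g₂ hb1 hb2 hTr ?_ ?_
        · have h1 := hrk
          rw [← aeval_sub_smul, rank_aeval_conj Θ _ _ hΘ, aeval_sub_smul, one_smul] at h1
          exact h1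
        · intro P
          rw [← rank_aeval_conj Θ _ _ hΘ P, sp_dual_rank d x hx P, hinv]
          refine rank_aeval_conj Θ _ _ (fun v => ?_) P
          exact Basic.pow_intertwine (Θ : (Fin d ⊕ Fin d → F) →ₗ[F] _)
            (Matrix.toLin' (x : Matrix (Fin d ⊕ Fin d) (Fin d ⊕ Fin d) F))
            (TensorProduct.map g₁ g₂) hΘ (r - 1) v
  · rintro ⟨rfl, rfl⟩ x hx ⟨z, hz⟩ hxns
    have hdb : d = b := by omega
    obtain ⟨t, ht0, ht⟩ := gram_symplectic_two f₁ hf₁
    obtain ⟨hG2s, hG2d⟩ := gram_symmetric b f₂ hf₂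
    obtain ⟨c, hc0, hS'⟩ := hS
    obtain ⟨G, hGdef⟩ : ∃ G : Matrix (Fin b) (Fin b) F, G = (c * t) • Cfsg.Geo.gramMatrix f₂ :=
      ⟨_, rfl⟩
    have hGs : G.transpose = G := by rw [hGdef, Matrix.transpose_smul, hG2s]
    have hGd : G.det ≠ 0 := by
      rw [hGdef, Matrix.det_smul]
      exact mul_ne_zero (pow_ne_zero _ (mul_ne_zero hc0 ht0)) hG2d
    have hM : c • (Cfsg.Geo.gramMatrix f₁ ⊗ₖ Cfsg.Geo.gramMatrix f₂) = J2 F ⊗ₖ G := by
      rw [ht, hGdef, Matrix.smul_kronecker, Matrix.kronecker_smul, smul_smul]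
    have hSM : ∀ u v : Fin 2 × Fin b → F,
        Cfsg.sympForm d F ((P : Matrix (Fin d ⊕ Fin d) (Fin d ⊕ Fin d) F) *ᵥ (u ∘ e))
          ((P : Matrix (Fin d ⊕ Fin d) (Fin d ⊕ Fin d) F) *ᵥ (v ∘ e)) =
        ∑ k, ∑ l, u k * (J2 F ⊗ₖ G) k l * v l := by
      intro u v
      rw [hS' u v, ← hM]
      unfold Cfsg.Geo.formOfGram
      rw [Finset.mul_sum]
      apply Finset.sum_congr rfl
      intro k _
      rw [Finset.mul_sum]
      apply Finset.sum_congr rfl
      intro l _
      rw [Matrix.smul_apply, smul_eq_mul, id]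
      ring
    have hX : ∀ u v, sB d F (Matrix.toLin' (x : Matrix (Fin d ⊕ Fin d) (Fin d ⊕ Fin d) F) u)
        (Matrix.toLin' (x : Matrix (Fin d ⊕ Fin d) (Fin d ⊕ Fin d) F) v) = sB d F u v := by
      intro u v
      rw [sB_apply, sB_apply, Matrix.toLin'_apply, Matrix.toLin'_apply]
      exact hx u v
    have hX2 : (Matrix.toLin' (x : Matrix (Fin d ⊕ Fin d) (Fin d ⊕ Fin d) F)) ^ 2 =
        z • (1 : Module.End F (Fin d ⊕ Fin d → F)) := by
      rw [← Matrix.toLin'_pow, ← Units.val_pow_eq_pow_val, hz, map_smul, Matrix.toLin'_one]; rfl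
    have hzpm := sq_scalar_sp d (by omega) x hx z hz
    have hnd : ∀ v : Fin d ⊕ Fin d → F, v ≠ 0 → ∃ w, sB d F v w ≠ 0 := by
      intro v hv
      obtain ⟨w, -, hw⟩ := sB_nondeg d F v trivial hv
      exact ⟨w, hw⟩
    obtain ⟨β, A, B, hβ, hG⟩ := kron_basis h2F (sB d F)
      (Matrix.toLin' (x : Matrix (Fin d ⊕ Fin d) (Fin d ⊕ Fin d) F)) (sB_alt d F) hnd hX z hzpm hX2 b
      (by rw [hnV]; omega) G hGs hGd
    exact mem_tensor_of_basis_sp d 2 b e P x (J2 F ⊗ₖ G) hSM β A B hβ
      (fun k l => by rw [← sB_apply]; exact hG k l)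

end Cfsg.Agent.S5980
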