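import Cfsg.Statements.S5989
import Cfsg.Agent.Helper27.S5989ASM
import Cfsg.Agent.Helper25.S5989UNIMODELP
import Cfsg.Agent.Helper9.S5989PLUSTOP
import Cfsg.Agent.S0287

set_option autoImplicit false
open scoped MatrixGroups
open Cfsg

namespace Cfsg.Agent.S5989

/-- Elements of prime order of PΩ⁺_n(q), q odd, with no fixed nondegenerate `m`-space of odd dimension. Here `T = PΩ⁺_n(F)`, `n = 2d ≥ 8`, realised through `Ω⁺_n(q)`, the commutator subgroup of the isometry group of `Q = Σ xᵢyᵢ` over the field `F` with `q` elements; an element of `T` of prime order `r` is an element `x` of `Ω⁺_n(q)` with `x^r` scalar and `x` not scalar; `q` and `m` are odd, `1 ≤ m < n/2`. The nondegenerate `m`-spaces (subspaces on which the polar form is nondegenerate) fall into two isometry classes, each an orbit of `T`, and the two actions are equivalent; fix one such space `W₀`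 and let Ω be the set of nondegenerate `m`-spaces isometric to `W₀` (some linear isomorphism preserves `Q`). Let `r` be a prime dividing the size of Ω; for `r ≠ p` let `i` be the multiplicative order of `q` modulo `r`, `c = i` for `i` even and `c = 2i` for `i` odd, and write `k = n mod c`, `ℓ = m mod i`, `ℓ' = m mod c`, `n' = ⌊n/i⌋`, `m' = ⌊m/i⌋`, `t = (r−1)/i`. Then every element of `T` of order `r` fixes a member of Ω if and only if one of: (i) `r = 2`, `n ≡ 2 (mod 4)` and `q ≢ 1 (mod 8)`; (ii) `r ≠ p` odd, `i` odd, `c ≤ m` and `k > ℓ' > 0`; (iii) `r ≠ p` odd, `i` even, and either `k = 0` and `n/i` odd, or `i ≤ m` and `k > ℓ' > 0`. (For `r = p` there is always an element of order `p` fixing no member of Ω.) -/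
theorem result {F : Type*} [Field F] [Fintype F] {p : ℕ} [Fact p.Prime] [CharP F p] {q : ℕ} (hq : Fintype.card F = q)
    (hodd : Odd q) (d m : ℕ) (hd : 4 ≤ d) (hm : Odd m) (hmd : m < d)
    (W₀ : Submodule F (Fin d ⊕ Fin d → F)) (hW₀ : Module.finrank F ↥W₀ = m ∧ Cfsg.Geo.IsNondegenerateOn (QuadraticMap.polar (Cfsg.quadFormPlus d F)) W₀)
    (r : ℕ) [Fact r.Prime]
    (hrΩ : r ∣ Nat.card {W : Submodule F (Fin d ⊕ Fin d → F) // Module.finrank F ↥W = m ∧ Cfsg.Geo.IsNondegenerateOn (QuadraticMap.polar (Cfsg.quadFormPlus d F)) W ∧ Cfsg.Geo.AreIsometricFor (Cfsg.quadFormPlus d F) W W₀})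
    (i c : ℕ) (hi : i = orderOf (q : ZMod r)) (hc : c = if Even i then i else 2 * i) :
    (∀ x : GL (Fin d ⊕ Fin d) F, x ∈ Cfsg.Geo.omegaGL (Cfsg.quadFormPlus d F) →
      (∃ z : F, ((x ^ r : GL (Fin d ⊕ Fin d) F) : Matrix (Fin d ⊕ Fin d) (Fin d ⊕ Fin d) F) = z • (1 : Matrix (Fin d ⊕ Fin d) (Fin d ⊕ Fin d) F)) →
      (∀ z : F, (x : Matrix (Fin d ⊕ Fin d) (Fin d ⊕ Fin d) F) ≠ z • (1 : Matrix (Fin d ⊕ Fin d) (Fin d ⊕ Fin d) F)) →
      ∃ W : Submodule F (Fin d ⊕ Fin d → F), (Module.finrank F ↥W = m ∧ Cfsg.Geo.IsNondegenerateOn (QuadraticMap.polar (Cfsg.quadFormPlus d F)) W ∧ Cfsg.Geo.AreIsometricFor (Cfsg.quadFormPlus d F) W W₀) ∧ W.map (Matrix.toLin' (x : Matrix (Fin d ⊕ Fin d) (Fin d ⊕ Fin d) F)) ≤ W) ↔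
    ((r = 2 ∧ Odd d ∧ q % 8 ≠ 1) ∨
     (r ≠ p ∧ 2 < r ∧ Odd i ∧ c ≤ m ∧ 0 < m % c ∧ m % c < (2 * d) % c) ∨
     (r ≠ p ∧ 2 < r ∧ Even i ∧ (((2 * d) % c = 0 ∧ Odd ((2 * d) / i)) ∨ (i ≤ m ∧ 0 < m % c ∧ m % c < (2 * d) % c)))) := by
  classical
  have hε : Cfsg.Agent.S5992P.Plus (Cfsg.Agent.Helper28.Spin.QfPlus d F) ⊤ ↔ true = true :=
    ⟨fun _ => rfl, fun _ => Cfsg.Agent.S5989P.plus_top_QfPlus d⟩
  have hι : Fintype.card (Fin d ⊕ Fin d) = 2 * d := by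
    rw [Fintype.card_sum, Fintype.card_fin]; ring
  have hG : Nat.card ↥(Cfsg.isometryGroup F ⇑(Cfsg.Agent.Helper28.Spin.QfPlus d F)) =
      Cfsg.Agent.S5989P.ordO true q d := by
    rw [Cfsg.Agent.Helper28.Spin.QfPlus_coe, Cfsg.Agent.S0287.result hq d (by omega)]
    simp [Cfsg.Agent.S5989P.ordO, Cfsg.Agent.S5989P.epsFac]
  have hW₀' : Module.finrank F ↥W₀ = m ∧ Cfsg.Agent.Helper2.SympInvol.Nondeg
      (Cfsg.Agent.S5992P.PB (Cfsg.Agent.Helper28.Spin.QfPlus d F)) W₀ :=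
    ⟨hW₀.1, (Cfsg.Agent.S5992P.nondeg_iff_geo _ W₀).mpr hW₀.2⟩
  have hrΩ' : r ∣ Nat.card {W : Submodule F (Fin d ⊕ Fin d → F) //
      Cfsg.Agent.S5989P.OmSet (Cfsg.Agent.Helper28.Spin.QfPlus d F) m W₀ W} := by
    have hcongr : Nat.card {W : Submodule F (Fin d ⊕ Fin d → F) //
        Cfsg.Agent.S5989P.OmSet (Cfsg.Agent.Helper28.Spin.QfPlus d F) m W₀ W} =
        Nat.card {W : Submodule F (Fin d ⊕ Fin d → F) // Module.finrank F ↥W = m ∧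
          Cfsg.Geo.IsNondegenerateOn (QuadraticMap.polar (Cfsg.quadFormPlus d F)) W ∧
          Cfsg.Geo.AreIsometricFor (Cfsg.quadFormPlus d F) W W₀} :=
      Nat.card_congr (Equiv.subtypeEquivRight fun W =>
        Cfsg.Agent.S5989P.omSet_iff_geo (Cfsg.Agent.Helper28.Spin.QfPlus d F) m W₀ W)
    rw [hcongr]; exact hrΩ
  have h2 : (2 : F) ≠ 0 := Cfsg.Agent.S5989P.ASM.two_ne_zero_of_odd hq hodd
  have hUni : r = p → ∃ x : GL (Fin d ⊕ Fin d) F,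
      x ∈ Cfsg.Geo.omegaGL ⇑(Cfsg.Agent.Helper28.Spin.QfPlus d F) ∧ x ^ p = 1 ∧ x ≠ 1 ∧
      ∀ W : Submodule F (Fin d ⊕ Fin d → F),
        Cfsg.Agent.S5989P.OmSet (Cfsg.Agent.Helper28.Spin.QfPlus d F) m W₀ W →
        ¬ W.map (Matrix.toLin' (x : Matrix (Fin d ⊕ Fin d) (Fin d ⊕ Fin d) F)) ≤ W := by
    intro _
    obtain ⟨x, hxΩ, hxp, hx1, hx⟩ :=
      Cfsg.Agent.S5989P.exists_unip_derangement_plus (p := p) h2 d m hd hm hmd
    exact ⟨x, hxΩ, hxp, hx1, fun W hW => hx W hW.2.1 hW.1⟩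
  have hmain := Cfsg.Agent.S5989P.ASM.main_odd hq hodd (Cfsg.Agent.Helper28.Spin.QfPlus d F)
    (Cfsg.Agent.Helper28.Spin.QfPlus_nondeg d) d m hd hι true hε hG hm hmd W₀ hW₀' r hrΩ' i c hi hc
    hUni
  have hL : (∀ x : GL (Fin d ⊕ Fin d) F, x ∈ Cfsg.Geo.omegaGL (Cfsg.quadFormPlus d F) →
      (∃ z : F, ((x ^ r : GL (Fin d ⊕ Fin d) F) : Matrix (Fin d ⊕ Fin d) (Fin d ⊕ Fin d) F) = z • (1 : Matrix (Fin d ⊕ Fin d) (Fin d ⊕ Fin d) F)) →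
      (∀ z : F, (x : Matrix (Fin d ⊕ Fin d) (Fin d ⊕ Fin d) F) ≠ z • (1 : Matrix (Fin d ⊕ Fin d) (Fin d ⊕ Fin d) F)) →
      ∃ W : Submodule F (Fin d ⊕ Fin d → F), (Module.finrank F ↥W = m ∧ Cfsg.Geo.IsNondegenerateOn (QuadraticMap.polar (Cfsg.quadFormPlus d F)) W ∧ Cfsg.Geo.AreIsometricFor (Cfsg.quadFormPlus d F) W W₀) ∧ W.map (Matrix.toLin' (x : Matrix (Fin d ⊕ Fin d) (Fin d ⊕ Fin d) F)) ≤ W) ↔
      (∀ x : GL (Fin d ⊕ Fin d) F, x ∈ Cfsg.Geo.omegaGL ⇑(Cfsg.Agent.Helper28.Spin.QfPlus d F) →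
      (∃ z : F, ((x ^ r : GL (Fin d ⊕ Fin d) F) : Matrix (Fin d ⊕ Fin d) (Fin d ⊕ Fin d) F) = z • (1 : Matrix (Fin d ⊕ Fin d) (Fin d ⊕ Fin d) F)) →
      (∀ z : F, (x : Matrix (Fin d ⊕ Fin d) (Fin d ⊕ Fin d) F) ≠ z • (1 : Matrix (Fin d ⊕ Fin d) (Fin d ⊕ Fin d) F)) →
      ∃ W : Submodule F (Fin d ⊕ Fin d → F),
        Cfsg.Agent.S5989P.OmSet (Cfsg.Agent.Helper28.Spin.QfPlus d F) m W₀ W ∧
        W.map (Matrix.toLin' (x : Matrix (Fin d ⊕ Fin d) (Fin d ⊕ Fin d) F)) ≤ W) := by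
    refine forall_congr' fun x => imp_congr Iff.rfl (imp_congr Iff.rfl (imp_congr Iff.rfl
      (exists_congr fun W => and_congr ?_ Iff.rfl)))
    exact (Cfsg.Agent.S5989P.omSet_iff_geo (Cfsg.Agent.Helper28.Spin.QfPlus d F) m W₀ W).symm
  rw [hL, hmain]
  simp only [Cfsg.Agent.S5989P.R2cond, Cfsg.Agent.S5989P.ClosedOdd, if_true]
  constructor
  · rintro (h | ⟨h1, h2, (⟨h3, h4⟩ | ⟨h3, h4⟩)⟩)
    · exact Or.inl h
    · exact Or.inr (Or.inl ⟨h1, h2, h3, h4⟩)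
    · exact Or.inr (Or.inr ⟨h1, h2, h3, h4⟩)
  · rintro (h | ⟨h1, h2, h3, h4⟩ | ⟨h1, h2, h3, h4⟩)
    · exact Or.inl h
    · exact Or.inr ⟨h1, h2, Or.inl ⟨h3, h4⟩⟩
    · exact Or.inr ⟨h1, h2, Or.inr ⟨h3, h4⟩⟩

end Cfsg.Agent.S5989
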