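import Cfsg.Statements.S5993
import Cfsg.Agent.Helper6.S5992SUFF
import Cfsg.Agent.Helper25.S5993UNIPLEMMA
import Cfsg.Agent.Helper18.S5993UNIPMODEL
import Cfsg.Agent.Helper6.S5993COUNTTY
import Cfsg.Agent.Helper7.S5992MODEL
import Cfsg.Agent.Helper15.S5992R2

set_option autoImplicit false
open scoped MatrixGroups
open Cfsg

namespace Cfsg.Agent.S5993

open Cfsg.Agent.S5992P Cfsg.Agent.S5993P Cfsg.Agent.S5961P Cfsg.Agent.S2614

section aux

variable {F : Type*} [Field F] [Fintype F]

theorem map_pow_toLin' {n : Type} [Fintype n] [DecidableEq n] (M : Matrix n n F) (k : ℕ) :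
    Matrix.toLin' (M ^ k) = (Matrix.toLin' M) ^ k := by
  induction k with
  | zero => simp [Module.End.one_eq_id]
  | succ k ih => rw [pow_succ, pow_succ, Matrix.toLin'_mul, ih]; rfl

/-- the linear map of a matrix of `Ω` is an isometry of `QfOdd` with `y ^ r = 1` -/
theorem isYO_of_mem (h2 : (2 : F) ≠ 0) (d : ℕ) (x : GL (Unit ⊕ (Fin d ⊕ Fin d)) F)
    (hx : x ∈ Cfsg.Geo.omegaGL (Cfsg.quadFormOdd d F)) (r : ℕ) (hr : orderOf x = r) :
    IsYO (QfOdd d F)
      (Matrix.toLin' (x : Matrix (Unit ⊕ (Fin d ⊕ Fin d)) (Unit ⊕ (Fin d ⊕ Fin d)) F)) r := by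
  refine ⟨QfOdd_nondeg_top h2 d, ?_, ?_⟩
  · intro v
    obtain ⟨g, -, rfl⟩ := hx
    have hg := g.2
    have := hg v v
    rw [QfOdd_coe]
    simpa [Matrix.toLin'_apply] using this
  · have h1 : x ^ r = 1 := by rw [← hr]; exact pow_orderOf_eq_one x
    have h2' : ((x ^ r : GL (Unit ⊕ (Fin d ⊕ Fin d)) F) :
        Matrix (Unit ⊕ (Fin d ⊕ Fin d)) (Unit ⊕ (Fin d ⊕ Fin d)) F) = 1 := by rw [h1]; rfl
    rw [Units.val_pow_eq_pow_val] at h2'
    rw [← map_pow_toLin', h2']
    exact Matrix.toLin'_one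

end aux

/-- Elements of prime order of Ω_n(q), nq odd, with no fixed elliptic `m`-space. Here `T = Ω_n(F)`, `n = 2d+1 ≥ 7`, `q` odd, realised as the commutator subgroup of the isometry group of `Q = x₀² + Σ xᵢyᵢ` over the field `F` with `q` elements (trivial centre, so its elements of prime order `r` are used directly); a nondegenerate `m`-space (even `m`) is a subspace on which the polar form of `Q` is nondegenerate; it is hyperbolic if it contains an `m/2`-dimensional subspace on which `Q` vanishes, elliptic otherwise. Let `m` be even with `2 ≤ m ≤ n − 1` (no restriction `m < n/2`) and let `r` be a prime dividing the number of elliptic `m`-spaces; for `r ≠ p` let `i` be the multiplicative order of `q` modulo `r`, `c = i` for `i` even and `c = 2i` for `i` odd, and write `k = n mod c`, `ℓ' = m mod c`. Then every element of `T` of order `r` fixes some elliptic `m`-space if and only if `r = 2`, or `r ≠ p` is odd and one of: (i) `i` odd, `c ≤ m` and `k > ℓ' > 0`; (ii) `i` even, `i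 ≤ m`, `k > ℓ'`, and `m/i` odd whenever `ℓ' = 0`. (For `r = p` there is always an element of order `p` fixing no elliptic `m`-space.) -/
theorem result {F : Type*} [Field F] [Fintype F] {p : ℕ} [Fact p.Prime] [CharP F p] {q : ℕ} (hq : Fintype.card F = q) (hqodd : Odd q)
    (d m : ℕ) (hd : 3 ≤ d) (hm : 2 ≤ m) (hme : Even m) (hmn : m ≤ 2 * d)
    (r : ℕ) [Fact r.Prime]
    (hrΩ : r ∣ Nat.card {W : Submodule F (Unit ⊕ (Fin d ⊕ Fin d) → F) // Module.finrank F ↥W = m ∧ Cfsg.Geo.IsNondegenerateOn (QuadraticMap.polar (Cfsg.quadFormOdd d F)) W ∧ ¬ Cfsg.Geo.IsPlusTypeOn (Cfsg.quadFormOdd d F) W})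
    (i c : ℕ) (hi : i = orderOf (q : ZMod r)) (hc : c = if Even i then i else 2 * i) :
    (∀ x : GL (Unit ⊕ (Fin d ⊕ Fin d)) F, x ∈ Cfsg.Geo.omegaGL (Cfsg.quadFormOdd d F) → orderOf x = r →
      ∃ W : Submodule F (Unit ⊕ (Fin d ⊕ Fin d) → F), (Module.finrank F ↥W = m ∧ Cfsg.Geo.IsNondegenerateOn (QuadraticMap.polar (Cfsg.quadFormOdd d F)) W ∧ ¬ Cfsg.Geo.IsPlusTypeOn (Cfsg.quadFormOdd d F) W) ∧ W.map (Matrix.toLin' (x : Matrix (Unit ⊕ (Fin d ⊕ Fin d)) (Unit ⊕ (Fin d ⊕ Fin d)) F)) ≤ W) ↔
    (r = 2 ∨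
     (r ≠ p ∧ 2 < r ∧ Odd i ∧ c ≤ m ∧ 0 < m % c ∧ m % c < (2 * d + 1) % c) ∨
     (r ≠ p ∧ 2 < r ∧ Even i ∧ i ≤ m ∧ m % c < (2 * d + 1) % c ∧ (0 < m % c ∨ Odd (m / i)))) := by
  classical
  have hrprime : r.Prime := Fact.out
  have hpq : p ∣ q := by
    rw [← hq]
    have : ((Fintype.card F : ℕ) : F) = 0 := Nat.cast_card_eq_zero F
    exact (CharP.cast_eq_zero_iff F p _).mp this
  -- characteristic is odd
  have hp2 : p ≠ 2 := by
    intro hp
    rw [hp] at hpq
    exact (Nat.not_even_iff_odd.mpr hqodd) (even_iff_two_dvd.mpr hpq)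
  have h2 : (2 : F) ≠ 0 := by
    intro h
    have hp2' : p ∣ 2 := by
      have : ((2 : ℕ) : F) = 0 := by exact_mod_cast h
      exact (CharP.cast_eq_zero_iff F p 2).mp this
    exact hp2 ((Nat.prime_dvd_prime_iff_eq Fact.out Nat.prime_two).mp hp2')
  -- translate the geometric predicates
  have hgeo : ∀ W : Submodule F (Unit ⊕ (Fin d ⊕ Fin d) → F),
      IsTy (QfOdd d F) false m W ↔ (Module.finrank F ↥W = m ∧
        Cfsg.Geo.IsNondegenerateOn (QuadraticMap.polar (Cfsg.quadFormOdd d F)) W ∧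
        ¬ Cfsg.Geo.IsPlusTypeOn (Cfsg.quadFormOdd d F) W) := by
    intro W
    rw [isTy_false_iff_geo, QfOdd_coe]
  have hfr : Module.finrank F (Unit ⊕ (Fin d ⊕ Fin d) → F) = 2 * d + 1 := by
    rw [Module.finrank_pi]; simp; omega
  by_cases hrp : r = p
  · -- unipotent elements: never
    constructor
    · intro hall
      exfalso
      obtain ⟨x, hxΩ, hxr, hxK⟩ := exists_unip_model (F := F) (p := p) h2 d (by omega)
      obtain ⟨W, hW, hWx⟩ := hall x hxΩ (by rw [hxr, hrp])
      have hY := isYO_of_mem h2 d x hxΩ p hxr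
      have hWty := (hgeo W).mpr hW
      have := plus_of_invariant_of_bigK h2 (QfOdd d F) hY.nondeg _ hY.isom d hfr hxK W hWty.2.1 hWx
        (by rw [hWty.1]; exact hme)
      have h3 := hWty.2.2.mp this
      exact Bool.false_ne_true h3
    · rintro (h | ⟨h, -⟩ | ⟨h, -⟩)
      · exact absurd (hrp ▸ h) hp2
      · exact absurd hrp h
      · exact absurd hrp h
  have hcc : c = cc F r := by
    rw [cc_def, hq, ← hi]; exact hc
  have hi' : i = orderOf ((Fintype.card F : ℕ) : ZMod r) := by rw [hq]; exact hi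
  have hceven : Even c := by
    rw [hc]; split_ifs with h
    · exact h
    · exact even_two_mul i
  have hipos : 0 < i := by
    rw [hi]
    apply orderOf_pos_iff.mpr
    have hrq : ¬ r ∣ q := by
      intro hrq
      obtain ⟨n, hn, hqn⟩ := FiniteField.card F p
      rw [hq] at hqn
      rw [hqn] at hrq
      have := hrprime.dvd_of_dvd_pow hrq
      exact hrp ((Nat.prime_dvd_prime_iff_eq hrprime Fact.out).mp this)
    have hu : IsUnit ((q : ℕ) : ZMod r) := by
      rw [ZMod.isUnit_iff_coprime]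
      exact (Nat.Coprime.symm ((Nat.Prime.coprime_iff_not_dvd hrprime).mpr hrq))
    exact hu.isOfFinOrder
  have hcpos : 0 < c := by
    rw [hc]; split_ifs <;> omega
  have hkodd : Odd ((2 * d + 1) % c) := by
    obtain ⟨t, ht⟩ := hceven
    have h1 : (2 * d + 1) % c % 2 = 1 := by
      have : (2 * d + 1) % c = (2 * d + 1) - c * ((2 * d + 1) / c) := by
        have := Nat.div_add_mod (2 * d + 1) c; omega
      have hle : c * ((2 * d + 1) / c) ≤ 2 * d + 1 := Nat.mul_div_le _ _
      rw [ht] at this hle ⊢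
      have h3 : (t + t) * ((2 * d + 1) / (t + t)) = 2 * (t * ((2 * d + 1) / (t + t))) := by ring
      omega
    exact Nat.odd_iff.mpr h1
  constructor
  · intro hall
    by_cases hr2 : r = 2
    · exact Or.inl hr2
    right
    have hr2' : 2 < r := lt_of_le_of_ne hrprime.two_le (Ne.symm hr2)
    have hcount : (2 * d + 1) % c ≤ m := by
      by_contra hlt
      push Not at hlt
      have := not_dvd_card_ty (F := F) hq hqodd d m hme hmn false (fun _ => hm) r hr2 hrp
        (by rw [← hcc]; exact hlt)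
      apply this
      convert hrΩ using 4 with W
      exact hgeo W
    have hc2d : c ≤ 2 * d := by
      by_contra hlt
      push Not at hlt
      have : (2 * d + 1) % c = 2 * d + 1 := by
        apply Nat.mod_eq_of_lt
        obtain ⟨t, ht⟩ := hceven
        omega
      omega
    obtain ⟨x, hxΩ, hxr, hxk⟩ := exists_model (F := F) h2 r hr2 hrp d (by rw [← hcc]; exact hc2d)
    obtain ⟨W, hW, hWx⟩ := hall x hxΩ hxr
    have hY := isYO_of_mem h2 d x hxΩ r hxr
    obtain ⟨a, e, hmae, hee, hek, ho, he⟩ := ty_invariant_arith r hr2 hrp h2 (QfOdd d F) _ hY false m hme W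
      ((hgeo W).mpr hW) hWx i c hi' hcc
    rw [hxk, ← hcc] at hek
    have hklt : (2 * d + 1) % c < c := Nat.mod_lt _ hcpos
    have helt : e < c := lt_of_le_of_lt hek hklt
    have hmod : m % c = e := by
      rw [hmae, Nat.add_mul_mod_self_left, Nat.mod_eq_of_lt helt]
    have hdiv : m / c = a := by
      rw [hmae, Nat.add_mul_div_left _ _ hcpos, Nat.div_eq_of_lt helt, zero_add]
    have hek' : e < (2 * d + 1) % c := by
      rcases Nat.lt_or_ge e ((2 * d + 1) % c) with h | h
      · exact h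
      · exfalso
        have : e = (2 * d + 1) % c := le_antisymm hek h
        rw [this] at hee
        exact (Nat.not_even_iff_odd.mpr hkodd) hee
    have hcm : c ≤ m := by
      by_contra hlt
      push Not at hlt
      have : m % c = m := Nat.mod_eq_of_lt hlt
      omega
    rcases Nat.even_or_odd i with hie | hio
    · right
      have hci : c = i := by rw [hc, if_pos hie]
      refine ⟨hrp, hr2', hie, by omega, by rw [hmod]; exact hek', ?_⟩
      rcases he hie with h | h
      · left; rw [hmod]; exact h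
      · right
        rw [← hci, hdiv]
        rcases Nat.even_or_odd a with hae | hao
        · exact absurd (h.mp hae) Bool.false_ne_true
        · exact hao
    · left
      refine ⟨hrp, hr2', hio, hcm, ?_⟩
      rcases ho hio with h | h
      · exact absurd h Bool.false_ne_true
      · rw [hmod]; exact ⟨h, hek'⟩
  · intro harith x hxΩ hxr
    have hY := isYO_of_mem h2 d x hxΩ r hxr
    suffices hsuff : ∃ W : Submodule F (Unit ⊕ (Fin d ⊕ Fin d) → F), IsTy (QfOdd d F) false m W ∧
        W.map (Matrix.toLin' (x : Matrix (Unit ⊕ (Fin d ⊕ Fin d)) (Unit ⊕ (Fin d ⊕ Fin d)) F)) ≤ W by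
      obtain ⟨W, hW, hWx⟩ := hsuff
      exact ⟨W, (hgeo W).mp hW, hWx⟩
    by_cases hr2 : r = 2
    · have hx2 : Matrix.toLin' (x : Matrix (Unit ⊕ (Fin d ⊕ Fin d)) (Unit ⊕ (Fin d ⊕ Fin d)) F) *
          Matrix.toLin' (x : Matrix (Unit ⊕ (Fin d ⊕ Fin d)) (Unit ⊕ (Fin d ⊕ Fin d)) F) = 1 := by
        have := hY.pow
        rw [hr2, pow_two] at this
        exact this
      exact exists_ty_of_invol h2 (QfOdd d F) hY.nondeg _ hY.isom hx2 false m hme (fun _ => hm)
        (by rw [hfr]; omega)
    · have harith' : (r ≠ p ∧ 2 < r ∧ Odd i ∧ c ≤ m ∧ 0 < m % c ∧ m % c < (2 * d + 1) % c) ∨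
          (r ≠ p ∧ 2 < r ∧ Even i ∧ i ≤ m ∧ m % c < (2 * d + 1) % c ∧ (0 < m % c ∨ Odd (m / i))) := by
        rcases harith with h | h
        · exact absurd h hr2
        · exact h
      apply exists_ty_invariant r hr2 hrp h2 (QfOdd d F) _ hY false m hme (by rw [hfr]; omega) i c
        hi' hcc
      · rw [hfr]
        rcases harith' with ⟨-, -, -, -, -, h⟩ | ⟨-, -, -, -, h, -⟩
        · exact h
        · exact h
      · intro hio
        rcases harith' with ⟨-, -, -, -, h, -⟩ | ⟨-, -, hie, -⟩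
        · right; exact h
        · exact absurd hie (Nat.not_even_iff_odd.mpr hio)
      · intro hie
        rcases harith' with ⟨-, -, hio, -⟩ | ⟨-, -, -, -, -, h | h⟩
        · exact absurd hie (Nat.not_even_iff_odd.mpr hio)
        · left; exact h
        · right
          constructor
          · intro hev; exact absurd hev (Nat.not_even_iff_odd.mpr h)
          · intro hf; exact absurd hf Bool.false_ne_true

end Cfsg.Agent.S5993
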