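import Cfsg.Statements.S5994
import Cfsg.Agent.Helper7.OrthUni10
import Cfsg.Agent.S2562

set_option autoImplicit false
open scoped MatrixGroups
open Cfsg

namespace Cfsg.Agent.S5994

/-- A necessary condition for every element of order p of PΩ⁻_n(q), q odd, to fix an elliptic `m`-space. Here `T = PΩ⁻_n(F)`, `n = 2d ≥ 8`, realised through `Ω⁻_n(q)`, the commutator subgroup of the isometry group of `Q = Σ_{i<d−1} xᵢyᵢ + z₁² + a z₁z₂ + b z₂²` with `z₁² + a z₁z₂ + b z₂²` anisotropic, over the field `F` with `q` elements; an element of `T` of prime order `r` is an element `x` of `Ω⁻_n(q)` with `x^r` scalar and `x` not scalar; `q` is odd; a nondegenerate `m`-space (even `m`) is a subspace on which the polar form of `Q` is nondegenerate; it is hyperbolic if it contains an `m/2`-dimensional subspace on which `Q` vanishes, elliptic otherwise. Let `m` be even with `2 ≤ m ≤ n − 2` and suppose `p` divides the number of elliptic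 `m`-spaces. If every element of `T` of order `p` fixes some elliptic `m`-space, then `n ≡ m (mod 4)` and every partition of `n` into parts of size at most `p` in which every even part has even multiplicity contains (as a sub-multiset) a partition of `m` in which every even part has even multiplicity. -/
theorem result {F : Type*} [Field F] [Fintype F] {p : ℕ} [Fact p.Prime] [CharP F p] {q : ℕ} (hq : Fintype.card F = q) (hqodd : Odd q)
    (d m : ℕ) (hd : 4 ≤ d) (hm : 2 ≤ m) (hme : Even m) (hmn : m + 2 ≤ 2 * d) (a b : F) (hab : ∀ x y : F, x ^ 2 + a * x * y + b * y ^ 2 = 0 → x = 0 ∧ y = 0)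
    (hpΩ : p ∣ Nat.card {W : Submodule F ((Fin (d - 1) ⊕ Fin (d - 1)) ⊕ Fin 2 → F) // Module.finrank F ↥W = m ∧ Cfsg.Geo.IsNondegenerateOn (QuadraticMap.polar (Cfsg.quadFormMinus (d - 1) F a b)) W ∧ ¬ Cfsg.Geo.IsPlusTypeOn (Cfsg.quadFormMinus (d - 1) F a b) W}) :
    (∀ x : GL ((Fin (d - 1) ⊕ Fin (d - 1)) ⊕ Fin 2) F, x ∈ Cfsg.Geo.omegaGL (Cfsg.quadFormMinus (d - 1) F a b) →
      (∃ z : F, ((x ^ p : GL ((Fin (d - 1) ⊕ Fin (d - 1)) ⊕ Fin 2) F) : Matrix ((Fin (d - 1) ⊕ Fin (d - 1)) ⊕ Fin 2) ((Fin (d - 1) ⊕ Fin (d - 1)) ⊕ Fin 2) F) = z • (1 : Matrix ((Fin (d - 1) ⊕ Fin (d - 1)) ⊕ Fin 2) ((Fin (d - 1) ⊕ Fin (d - 1)) ⊕ Fin 2) F)) →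
      (∀ z : F, (x : Matrix ((Fin (d - 1) ⊕ Fin (d - 1)) ⊕ Fin 2) ((Fin (d - 1) ⊕ Fin (d - 1)) ⊕ Fin 2) F) ≠ z • (1 : Matrix ((Fin (d - 1) ⊕ Fin (d - 1)) ⊕ Fin 2) ((Fin (d - 1) ⊕ Fin (d - 1)) ⊕ Fin 2) F)) →
      ∃ W : Submodule F ((Fin (d - 1) ⊕ Fin (d - 1)) ⊕ Fin 2 → F), (Module.finrank F ↥W = m ∧ Cfsg.Geo.IsNondegenerateOn (QuadraticMap.polar (Cfsg.quadFormMinus (d - 1) F a b)) W ∧ ¬ Cfsg.Geo.IsPlusTypeOn (Cfsg.quadFormMinus (d - 1) F a b) W) ∧ W.map (Matrix.toLin' (x : Matrix ((Fin (d - 1) ⊕ Fin (d - 1)) ⊕ Fin 2) ((Fin (d - 1) ⊕ Fin (d - 1)) ⊕ Fin 2) F)) ≤ W) →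
    ((2 * d) % 4 = m % 4 ∧ (∀ μ : Multiset ℕ, (∀ e ∈ μ, 0 < e ∧ e ≤ p) → (∀ e : ℕ, Even e → Even (μ.count e)) → μ.sum = 2 * d →
        ∃ ν : Multiset ℕ, ν ≤ μ ∧ ν.sum = m ∧ ∀ e : ℕ, Even e → Even (ν.count e))) := by
  classical
  intro H
  have hpr : p.Prime := Fact.out
  have hp2 : p ≠ 2 := by
    rintro rfl
    have h1 : ringChar F = 2 := ringChar.eq F 2
    have h2 := FiniteField.even_card_iff_char_two.1 h1
    rw [hq] at h2
    obtain ⟨k, hk⟩ := hqodd
    omega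
  have hp3 : 3 ≤ p := by
    have := hpr.two_le
    omega
  have h2F : (2 : F) ≠ 0 := Cfsg.Agent.Helper7.OrthUni.two_ne_zero_of_char hp2
  have hcard : Fintype.card ((Fin (d - 1) ⊕ Fin (d - 1)) ⊕ Fin 2) = 2 * d := by
    rw [Fintype.card_sum, Fintype.card_sum, Fintype.card_fin, Fintype.card_fin]
    omega
  have hdisc : 4 * b - a ^ 2 ≠ 0 := by
    intro h0
    have h1 := hab (-a) 2 (by linear_combination h0)
    exact h2F h1.2
  have hnd := Cfsg.Agent.S2562.Qm_nondeg (d - 1) F a b hdisc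
  have hH : Cfsg.Agent.Helper7.OrthUni.Hyp p (Cfsg.Agent.S2562.Qm (d - 1) F a b) m
      (fun W => ¬ Cfsg.Geo.IsPlusTypeOn (Cfsg.quadFormMinus (d - 1) F a b) W) := by
    intro x hxΩ hxp hns
    rw [Cfsg.Agent.S2562.Qm_coe] at hxΩ ⊢
    exact H x hxΩ ⟨1, by rw [hxp, one_smul, Units.val_one]⟩ hns
  have key : ∀ μ : Multiset ℕ, (∀ e ∈ μ, 0 < e ∧ e ≤ p) →
      (∀ e : ℕ, Even e → Even (μ.count e)) → μ.sum = 2 * d →
      Cfsg.Agent.Helper7.OrthUni.Good m μ := by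
    intro μ hμ hpar hsum
    exact Cfsg.Agent.Helper7.OrthUni.partition_condition hp2 (Cfsg.Agent.S2562.Qm (d - 1) F a b)
      hnd (by rw [hcard]; omega) m hme (by rw [hcard]; omega) _ hH μ hμ hpar
      (by rw [hcard, hsum])
  refine ⟨?_, key⟩
  by_contra hmod
  obtain ⟨c, hc⟩ := hme
  rcases Nat.even_or_odd d with hde | hdo
  · -- 2d ≡ 0, m ≡ 2 (mod 4)
    have hm2 : m % 4 = 2 := by
      obtain ⟨k, hk⟩ := hde
      omega
    have hde' : Even (d - 2) := by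
      obtain ⟨k, hk⟩ := hde
      exact ⟨k - 1, by omega⟩
    obtain ⟨h1, h2, h3⟩ := Cfsg.Agent.Helper7.OrthUni.special_props p (d - 2) hp3 hde' {3, 1}
      (fun b hb => by
        simp only [Multiset.insert_eq_cons, Multiset.mem_cons, Multiset.mem_singleton] at hb
        rcases hb with rfl | rfl
        · exact Or.inr rfl
        · exact Or.inl rfl)
    apply Cfsg.Agent.Helper7.OrthUni.not_good_231 (d - 2) m hm2
    apply key _ h1 h2
    rw [h3]
    simp only [Multiset.insert_eq_cons, Multiset.sum_cons, Multiset.sum_singleton]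
    omega
  · -- 2d ≡ 2, m ≡ 0 (mod 4)
    have hm0 : m % 4 = 0 := by
      obtain ⟨k, hk⟩ := hdo
      omega
    have hde' : Even (d - 1) := by
      obtain ⟨k, hk⟩ := hdo
      exact ⟨k, by omega⟩
    obtain ⟨h1, h2, h3⟩ := Cfsg.Agent.Helper7.OrthUni.special_props p (d - 1) hp3 hde' {1, 1}
      (fun b hb => by
        simp only [Multiset.insert_eq_cons, Multiset.mem_cons, Multiset.mem_singleton] at hb
        rcases hb with rfl | rfl <;> exact Or.inl rfl)
    have hsum : (Multiset.replicate (d - 1) 2 + {1, 1}).sum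
        = Fintype.card ((Fin (d - 1) ⊕ Fin (d - 1)) ⊕ Fin 2) := by
      rw [h3, hcard]
      simp only [Multiset.insert_eq_cons, Multiset.sum_cons, Multiset.sum_singleton]
      omega
    obtain ⟨x, W, ν, hiso, hWm, hWP, hle, hs, hpar, hJ⟩ :=
      Cfsg.Agent.Helper7.OrthUni.exists_invariant_data hp2 (Cfsg.Agent.S2562.Qm (d - 1) F a b)
        hnd (by rw [hcard]; omega) m _ hH _ h1 h2 hsum
        ⟨1, by simp, by decide⟩
        ⟨2, Multiset.mem_add.2 (Or.inl (Multiset.mem_replicate.2 ⟨by omega, rfl⟩)), le_refl 2⟩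
    have hall := Cfsg.Agent.Helper7.OrthUni.all_two_of_good (d - 1) m hm0 ν hle hs hpar
    have hplus := Cfsg.Agent.Helper7.OrthUni.isPlusTypeOn_of_all_two h2F
      (Cfsg.Agent.S2562.Qm (d - 1) F a b) x hiso W ν hJ hall
    rw [Cfsg.Agent.S2562.Qm_coe] at hplus
    exact hWP hplus

end Cfsg.Agent.S5994
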