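import Cfsg.Statements.S5995
import Cfsg.Agent.Helper7.OrthUni10
import Cfsg.Agent.Helper21.OCm

set_option autoImplicit false
open scoped MatrixGroups
open Cfsg

namespace Cfsg.Agent.S5995

/-- A necessary condition for every element of order p of Ω_n(q), nq odd, to fix a hyperbolic `m`-space. Here `T = Ω_n(F)`, `n = 2d+1 ≥ 7`, `q` odd, realised as the commutator subgroup of the isometry group of `Q = x₀² + Σ xᵢyᵢ` over the field `F` with `q` elements (trivial centre, so its elements of prime order `r` are used directly); a nondegenerate `m`-space (even `m`) is a subspace on which the polar form of `Q` is nondegenerate; it is hyperbolic if it contains an `m/2`-dimensional subspace on which `Q` vanishes, elliptic otherwise. Let `m` be even with `2 ≤ m ≤ n − 1` and suppose `p` divides the number of hyperbolic `m`-spaces. If every element of `T` of order `p` fixes some hyperbolic `m`-space, then `m ≡ 0 (mod 4)` and every partition of `n` into parts of size at most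 `p` in which every even part has even multiplicity contains (as a sub-multiset) a partition of `m` in which every even part has even multiplicity. -/
theorem result {F : Type*} [Field F] [Fintype F] {p : ℕ} [Fact p.Prime] [CharP F p] {q : ℕ} (hq : Fintype.card F = q) (hqodd : Odd q)
    (d m : ℕ) (hd : 3 ≤ d) (hm : 2 ≤ m) (hme : Even m) (hmn : m ≤ 2 * d)
    (hpΩ : p ∣ Nat.card {W : Submodule F (Unit ⊕ (Fin d ⊕ Fin d) → F) // Module.finrank F ↥W = m ∧ Cfsg.Geo.IsNondegenerateOn (QuadraticMap.polar (Cfsg.quadFormOdd d F)) W ∧ Cfsg.Geo.IsPlusTypeOn (Cfsg.quadFormOdd d F) W}) :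
    (∀ x : GL (Unit ⊕ (Fin d ⊕ Fin d)) F, x ∈ Cfsg.Geo.omegaGL (Cfsg.quadFormOdd d F) → orderOf x = p →
      ∃ W : Submodule F (Unit ⊕ (Fin d ⊕ Fin d) → F), (Module.finrank F ↥W = m ∧ Cfsg.Geo.IsNondegenerateOn (QuadraticMap.polar (Cfsg.quadFormOdd d F)) W ∧ Cfsg.Geo.IsPlusTypeOn (Cfsg.quadFormOdd d F) W) ∧ W.map (Matrix.toLin' (x : Matrix (Unit ⊕ (Fin d ⊕ Fin d)) (Unit ⊕ (Fin d ⊕ Fin d)) F)) ≤ W) →
    (m % 4 = 0 ∧ (∀ μ : Multiset ℕ, (∀ e ∈ μ, 0 < e ∧ e ≤ p) → (∀ e : ℕ, Even e → Even (μ.count e)) → μ.sum = 2 * d + 1 →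
        ∃ ν : Multiset ℕ, ν ≤ μ ∧ ν.sum = m ∧ ∀ e : ℕ, Even e → Even (ν.count e))) := by
  classical
  intro H
  have hpr : p.Prime := Fact.out
  have hp2 : p ≠ 2 := by
    rintro rfl
    have h1 : ringChar F = 2 := ringChar.eq F 2
    have h2 := FiniteField.even_card_iff_char_two.1 h1
    rw [hq] at h2
    obtain ⟨k, hk⟩ := hqodd
    omega
  have hp3 : 3 ≤ p := by
    have := hpr.two_le
    omega
  have h2F : (2 : F) ≠ 0 := Cfsg.Agent.Helper7.OrthUni.two_ne_zero_of_char hp2
  have hcard : Fintype.card (Unit ⊕ (Fin d ⊕ Fin d)) = 2 * d + 1 := by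
    rw [Fintype.card_sum, Fintype.card_sum, Fintype.card_fin, Fintype.card_unit]
    ring
  have hH : Cfsg.Agent.Helper7.OrthUni.Hyp p (Cfsg.Agent.S2614.QfOdd d F) m
      (fun W => Cfsg.Geo.IsPlusTypeOn (Cfsg.quadFormOdd d F) W) := by
    intro x hxΩ hxp hns
    rw [Cfsg.Agent.S2614.QfOdd_coe] at hxΩ ⊢
    have hne : x ≠ 1 := by
      rintro rfl
      exact hns 1 (by rw [one_smul, Units.val_one])
    exact H x hxΩ (orderOf_eq_prime hxp hne)
  have key : ∀ μ : Multiset ℕ, (∀ e ∈ μ, 0 < e ∧ e ≤ p) →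
      (∀ e : ℕ, Even e → Even (μ.count e)) → μ.sum = 2 * d + 1 →
      Cfsg.Agent.Helper7.OrthUni.Good m μ := by
    intro μ hμ hpar hsum
    exact Cfsg.Agent.Helper7.OrthUni.partition_condition hp2 (Cfsg.Agent.S2614.QfOdd d F)
      (Cfsg.Agent.Helper21.OC.QfOdd_nondeg_of h2F d) (by rw [hcard]; omega) m hme
      (by rw [hcard]; omega) _ hH μ hμ hpar (by rw [hcard, hsum])
  refine ⟨?_, key⟩
  rcases Nat.even_or_odd d with hde | hdo
  · obtain ⟨h1, h2, h3⟩ := Cfsg.Agent.Helper7.OrthUni.special_props p d hp3 hde {1}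
      (fun b hb => Or.inl (Multiset.mem_singleton.1 hb))
    apply Cfsg.Agent.Helper7.OrthUni.mod_four_of_good_21 d m hme
    apply key _ h1 h2
    rw [h3, Multiset.sum_singleton]
  · have hde : Even (d - 1) := by
      obtain ⟨k, hk⟩ := hdo
      exact ⟨k, by omega⟩
    obtain ⟨h1, h2, h3⟩ := Cfsg.Agent.Helper7.OrthUni.special_props p (d - 1) hp3 hde {3}
      (fun b hb => Or.inr (Multiset.mem_singleton.1 hb))
    apply Cfsg.Agent.Helper7.OrthUni.mod_four_of_good_23 (d - 1) m hme
    apply key _ h1 h2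
    rw [h3, Multiset.sum_singleton]
    omega

end Cfsg.Agent.S5995
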