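import Cfsg.Statements.S5998
import Mathlib
import Cfsg.Agent.Helper2.Extra3D
import Cfsg.Agent.Helper2.SingerG

set_option autoImplicit false
open scoped MatrixGroups
open Cfsg

namespace Cfsg.Agent.S5998

open Matrix Cfsg.Agent.Helper2

/-- Elements of prime order of PSL_3(p), p ≡ 1 (mod 3), and the normalizer of an extraspecial subgroup of order 27. Here `T = PSL_3(F)` for the field `F` with `p` elements, `p` a prime with `p ≡ 1 (mod 3)`; `R` is a non-abelian subgroup of GL_3(F) of order 27 and exponent 3 (an extraspecial group 3^{1+2}, acting absolutely irreducibly), and `H` is the subgroup of matrices of determinant 1 normalizing `R` — a subgroup of type 3^{1+2}.Sp₂(3) (maximality is not assumed). Ω is the set of cosets of `H` in `T`, so an element of `T` of prime order `r` (a matrix `x` of determinant 1 with `x^r` scalar, `x` not scalar) fixes a point of Ω exactly when some conjugate of `x` by a matrix of determinant 1 normalizes `R`. Let `r` be a prime dividing the index of `H`. Then every element of `T`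 of order `r` fixes a point of Ω if and only if `r = 2`, or `r = 3` and `p ≡ 1 (mod 9)`. -/
theorem result {F : Type*} [Field F] [Fintype F] {p : ℕ} [Fact p.Prime] [CharP F p] (hF : Fintype.card F = p) (hp3 : p % 3 = 1)
    (R : Subgroup (GL (Fin 3) F)) (hR : Nat.card R = 27) (hRe : Monoid.exponent R = 3) (hRna : ¬ IsMulCommutative R)
    (r : ℕ) [Fact r.Prime]
    (hΩ : r ∣ (Cfsg.Geo.subgroupNormalizer R).relIndex (Cfsg.Geo.specialLinear (Fin 3) F)) :
    (∀ x ∈ Cfsg.Geo.specialLinear (Fin 3) F, (∃ z : F, ((x ^ r : GL (Fin 3) F) : Matrix (Fin 3) (Fin 3) F) = z • (1 : Matrix (Fin 3) (Fin 3) F)) →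
      (∀ z : F, (x : Matrix (Fin 3) (Fin 3) F) ≠ z • (1 : Matrix (Fin 3) (Fin 3) F)) →
      ∃ g ∈ Cfsg.Geo.specialLinear (Fin 3) F, g⁻¹ * x * g ∈ Cfsg.Geo.subgroupNormalizer R) ↔ (r = 2 ∨ (r = 3 ∧ p % 9 = 1)) := by
  classical
  have hpP : p.Prime := Fact.out
  have hrP : r.Prime := Fact.out
  have hp4 : p ≠ 4 := by
    intro h
    rw [h] at hpP
    exact absurd hpP (by norm_num)
  have hp7 : 7 ≤ p := by
    have := hpP.two_le
    omega
  have h3F : (3 : F) ≠ 0 := by
    intro h
    have h' : ((3 : ℕ) : F) = 0 := by simpa using h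
    rw [CharP.cast_eq_zero_iff F p 3] at h'
    have := Nat.le_of_dvd (by norm_num) h'
    omega
  have h2F : (2 : F) ≠ 0 := by
    intro h
    have h' : ((2 : ℕ) : F) = 0 := by simpa using h
    rw [CharP.cast_eq_zero_iff F p 2] at h'
    have := Nat.le_of_dvd (by norm_num) h'
    omega
  have h3d : 3 ∣ Fintype.card F - 1 := by rw [hF]; omega
  obtain ⟨ω, hω1, hω3⟩ := Singer.exists_omega h3d
  obtain ⟨Q, Qi, γ, hf⟩ := Extra3.exists_frame h3F hω1 hω3 R hR hRe hRna
  constructor
  · intro hL
    by_cases hr2 : r = 2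
    · left; exact hr2
    by_cases hr3 : r = 3
    · right
      refine ⟨hr3, ?_⟩
      by_contra h9
      have hp9 : p % 9 = 4 ∨ p % 9 = 7 := by omega
      rw [hr3] at hΩ
      exact Extra3.not_three_dvd hF hp9 hf hΩ
    · exfalso
      have hr5 : 5 ≤ r := by
        have := hrP.two_le
        have h4 : r ≠ 4 := by
          intro h
          rw [h] at hrP
          exact absurd hrP (by norm_num)
        omega
      exact Extra3.no_conj_of_ge_five hf hr5 (dvd_trans hΩ (Subgroup.relIndex_dvd_card _ _)) hL
  · rintro (hr2 | ⟨hr3, h9⟩)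
    · subst hr2
      rintro x hx ⟨z, hz⟩ hns
      exact Extra3.conj_two h2F hf hx hz hns
    · subst hr3
      rintro x hx ⟨z, hz⟩ -
      have h9d : 9 ∣ Fintype.card F - 1 := by rw [hF]; omega
      exact Extra3.conj_three h3F h9d hf hx hz

end Cfsg.Agent.S5998
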